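import Mathlib
import Cfsg.Prelude.Def_Characters
import Cfsg.Agent.Lib.Helper1.IndFun

set_option autoImplicit false

/-!
Induction from a Borel-type subgroup of a group of `2 × 2` matrices: an explicit
transversal and the resulting value formula for induced functions.
-/

namespace Cfsg.Agent.Lib.Helper5

open Cfsg.Agent.Lib.Helper1

section generic

variable {G : Type*} [Group G]

theorem extendByZero_conj_mem (H : Subgroup G) (θ : H → ℂ)
    (hθ : ∀ h k : H, θ (h⁻¹ * k * h) = θ k) (y : G) {h : G} (hh : h ∈ H) :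
    Cfsg.extendByZero H θ (h⁻¹ * y * h) = Cfsg.extendByZero H θ y := by
  by_cases hy : y ∈ H
  · have hmem : h⁻¹ * y * h ∈ H := H.mul_mem (H.mul_mem (H.inv_mem hh) hy) hh
    rw [extendByZero_of_mem H θ hmem, extendByZero_of_mem H θ hy]
    exact hθ ⟨h, hh⟩ ⟨y, hy⟩
  · have hmem : h⁻¹ * y * h ∉ H := fun hc => hy (by
      have h1 := H.mul_mem (H.mul_mem hh hc) (H.inv_mem hh)
      have h2 : h * (h⁻¹ * y * h) * h⁻¹ = y := by group
      rwa [h2] at h1)
    rw [extendByZero_of_notMem H θ hmem, extendByZero_of_notMem H θ hy]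

/-- Value of an induced function through a transversal. -/
theorem indFun_eq_sum_transversal [Fintype G] (H : Subgroup G) (θ : H → ℂ)
    (hθ : ∀ h k : H, θ (h⁻¹ * k * h) = θ k) {ι : Type*} [Fintype ι] (r : ι → G)
    (hr : Function.Bijective (fun p : ι × H => r p.1 * (p.2 : G))) (g : G) :
    Cfsg.indFun H θ g = ∑ i, Cfsg.extendByZero H θ ((r i)⁻¹ * g * r i) := by
  classical
  have : Fintype H := Fintype.ofFinite H
  rw [indFun_apply]
  have e1 : ∑ x : G, Cfsg.extendByZero H θ (x⁻¹ * g * x)
      = ∑ p : ι × H, Cfsg.extendByZero H θ ((r p.1 * (p.2 : G))⁻¹ * g * (r p.1 * (p.2 : G))) :=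
    ((Equiv.ofBijective _ hr).sum_comp
      (fun x : G => Cfsg.extendByZero H θ (x⁻¹ * g * x))).symm
  rw [e1, Fintype.sum_prod_type]
  have e2 : ∀ i : ι, ∑ h : H, Cfsg.extendByZero H θ
      ((r i * (h : G))⁻¹ * g * (r i * (h : G)))
      = (Nat.card H : ℂ) * Cfsg.extendByZero H θ ((r i)⁻¹ * g * r i) := by
    intro i
    have : ∀ h : H, Cfsg.extendByZero H θ ((r i * (h : G))⁻¹ * g * (r i * (h : G)))
        = Cfsg.extendByZero H θ ((r i)⁻¹ * g * r i) := by
      intro h
      have hh : (r i * (h : G))⁻¹ * g * (r i * (h : G))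
          = (h : G)⁻¹ * ((r i)⁻¹ * g * r i) * (h : G) := by group
      rw [hh]
      exact extendByZero_conj_mem H θ hθ _ h.2
    rw [Finset.sum_congr rfl fun h _ => this h]
    simp [Nat.card_eq_fintype_card]
  rw [Finset.sum_congr rfl fun i _ => e2 i, ← Finset.mul_sum, ← mul_assoc]
  have hH0 : (Nat.card H : ℂ) ≠ 0 := Nat.cast_ne_zero.mpr Nat.card_pos.ne'
  rw [inv_mul_cancel₀ hH0, one_mul]

end generic

section setting

variable {F : Type*} [Field F] {G : Type*} [Group G]
  (m : G →* Matrix (Fin 2) (Fin 2) F) (H : Subgroup G) (x : F → G)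

theorem m_det_ne_zero (g : G) : (m g).det ≠ 0 := by
  have h1 : m g * m g⁻¹ = 1 := by rw [← map_mul, mul_inv_cancel, map_one]
  intro h
  have h2 := congrArg Matrix.det h1
  rw [Matrix.det_mul, h, zero_mul, Matrix.det_one] at h2
  exact zero_ne_one h2

theorem m_x_inv (hx : ∀ s, m (x s) = !![s, -1; 1, 0]) (s : F) :
    m (x s)⁻¹ = !![0, 1; -1, s] := by
  have h2 : m (x s) * !![0, 1; -1, s] = 1 := by
    rw [hx]
    ext i j
    fin_cases i <;> fin_cases j <;> simp [Matrix.mul_apply, Fin.sum_univ_two]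
  have h3 : m (x s)⁻¹ * m (x s) = 1 := by rw [← map_mul, inv_mul_cancel, map_one]
  calc m (x s)⁻¹ = m (x s)⁻¹ * (m (x s) * !![0, 1; -1, s]) := by rw [h2, mul_one]
    _ = !![0, 1; -1, s] := by rw [← mul_assoc, h3, one_mul]

theorem m_conj_x (hx : ∀ s, m (x s) = !![s, -1; 1, 0]) (s : F) (g : G) :
    m ((x s)⁻¹ * g * x s) =
      !![m g 1 0 * s + m g 1 1, - m g 1 0;
         m g 1 0 * s ^ 2 + (m g 1 1 - m g 0 0) * s - m g 0 1, m g 0 0 - m g 1 0 * s] := by
  rw [map_mul, map_mul, m_x_inv m x hx, hx]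
  generalize m g = M
  rw [Matrix.eta_fin_two M, Matrix.mul_fin_two, Matrix.mul_fin_two]
  ext i j
  fin_cases i <;> fin_cases j <;> simp <;> ring

/-- The transversal `1, x s (s : F)` of the Borel subgroup. -/
def transv : Option F → G := fun o => o.elim 1 x

theorem m_diag_ne_zero (hH : ∀ g, g ∈ H ↔ m g 1 0 = 0) (h : H) :
    m (h : G) 0 0 ≠ 0 ∧ m (h : G) 1 1 ≠ 0 := by
  have hd := m_det_ne_zero m (h : G)
  rw [Matrix.det_fin_two, (hH h).1 h.2, mul_zero, sub_zero] at hd
  exact ⟨left_ne_zero_of_mul hd, right_ne_zero_of_mul hd⟩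

theorem transv_bijective (hH : ∀ g, g ∈ H ↔ m g 1 0 = 0)
    (hx : ∀ s, m (x s) = !![s, -1; 1, 0]) :
    Function.Bijective (fun p : Option F × H => transv x p.1 * (p.2 : G)) := by
  have key : ∀ (s : F) (h : H), m (x s * (h : G)) 1 0 = m (h : G) 0 0 ∧
      m (x s * (h : G)) 0 0 = s * m (h : G) 0 0 := by
    intro s h
    rw [map_mul, hx]
    have := (hH h).1 h.2
    constructor <;> simp [Matrix.mul_apply, Fin.sum_univ_two, this]
  constructor
  · rintro ⟨i, h⟩ ⟨j, h'⟩ e
    simp only at e
    cases i with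
    | none =>
      cases j with
      | none =>
        simp only [transv, Option.elim, one_mul] at e
        exact Prod.ext rfl (Subtype.ext e)
      | some t =>
        exfalso
        simp only [transv, Option.elim, one_mul] at e
        have h1 := (key t h').1
        rw [← e, (hH h).1 h.2] at h1
        exact (m_diag_ne_zero m H hH h').1 h1.symm
    | some s =>
      cases j with
      | none =>
        exfalso
        simp only [transv, Option.elim, one_mul] at e
        have h1 := (key s h).1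
        rw [e, (hH h').1 h'.2] at h1
        exact (m_diag_ne_zero m H hH h).1 h1.symm
      | some t =>
        simp only [transv, Option.elim] at e
        have h1 := (key s h).1
        have h2 := (key s h).2
        rw [e, (key t h').1] at h1
        rw [e, (key t h').2, ← h1] at h2
        have hst : s = t := (mul_right_cancel₀ (m_diag_ne_zero m H hH h').1 h2).symm
        subst hst
        have := mul_left_cancel e
        exact Prod.ext rfl (Subtype.ext this)
  · intro g
    by_cases hc : m g 1 0 = 0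
    · exact ⟨(none, ⟨g, (hH g).2 hc⟩), by simp [transv]⟩
    · refine ⟨(some (m g 0 0 / m g 1 0), ⟨(x (m g 0 0 / m g 1 0))⁻¹ * g, ?_⟩), by simp [transv]⟩
      rw [hH, map_mul, m_x_inv m x hx]
      simp only [Matrix.mul_apply, Fin.sum_univ_two, Matrix.of_apply, Matrix.cons_val', Matrix.cons_val_zero,
        Matrix.cons_val_one, Matrix.empty_val', Matrix.cons_val_fin_one]
      field_simp
      ring

/-- Value formula for a function induced from the Borel subgroup. -/
theorem indFun_borel [Fintype G] [Fintype F]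
    (hH : ∀ g, g ∈ H ↔ m g 1 0 = 0) (hx : ∀ s, m (x s) = !![s, -1; 1, 0])
    (θ : H → ℂ) (hθ : ∀ h k : H, θ (h⁻¹ * k * h) = θ k) (g : G) :
    Cfsg.indFun H θ g = Cfsg.extendByZero H θ g
      + ∑ s : F, Cfsg.extendByZero H θ ((x s)⁻¹ * g * x s) := by
  rw [indFun_eq_sum_transversal H θ hθ (transv x) (transv_bijective m H x hH hx) g,
    Fintype.sum_option]
  simp [transv]

end setting

end Cfsg.Agent.Lib.Helper5
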