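import Mathlib
import Cfsg.Prelude.Def_Characters
import Cfsg.Agent.Lib.Helper1.IndFun
import Cfsg.Agent.Lib.Helper5.BorelInd
import Cfsg.Agent.S0146

set_option autoImplicit false

/-!
Inner products of functions induced from diagonal-type functions on a Borel-type subgroup
of a group of `2 × 2` matrices.
-/

namespace Cfsg.Agent.Lib.Helper5

open Cfsg.Agent.Lib.Helper1
open scoped ComplexConjugate

section inner

variable {F : Type*} [Field F] {G : Type*} [Group G]
  (m : G →* Matrix (Fin 2) (Fin 2) F) (H : Subgroup G) (x : F → G)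

theorem m_diag_mul (hH : ∀ g, g ∈ H ↔ m g 1 0 = 0) (h k : H) :
    m ((h * k : H) : G) 0 0 = m (h : G) 0 0 * m (k : G) 0 0 ∧
    m ((h * k : H) : G) 1 1 = m (h : G) 1 1 * m (k : G) 1 1 := by
  have h1 := (hH h).1 h.2
  have h2 := (hH k).1 k.2
  rw [Subgroup.coe_mul, map_mul]
  constructor <;> simp [Matrix.mul_apply, Fin.sum_univ_two, h1, h2]

theorem m_diag_conj (hH : ∀ g, g ∈ H ↔ m g 1 0 = 0) (h k : H) :
    m ((h⁻¹ * k * h : H) : G) 0 0 = m (k : G) 0 0 ∧
    m ((h⁻¹ * k * h : H) : G) 1 1 = m (k : G) 1 1 := by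
  have e1 := m_diag_mul m H hH (h⁻¹ * k) h
  have e2 := m_diag_mul m H hH h⁻¹ k
  have e3 := m_diag_mul m H hH h⁻¹ h
  rw [inv_mul_cancel] at e3
  have e4 : m ((1 : H) : G) = 1 := by rw [Subgroup.coe_one, map_one]
  rw [e4] at e3
  simp only [Matrix.one_apply_eq] at e3
  constructor
  · rw [e1.1, e2.1, mul_right_comm, ← e3.1, one_mul]
  · rw [e1.2, e2.2, mul_right_comm, ← e3.2, one_mul]

/-- Functions of the diagonal entries are class functions on the Borel subgroup. -/
theorem diagFun_class (hH : ∀ g, g ∈ H ↔ m g 1 0 = 0) (f : F → F → ℂ) (h k : H) :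
    (fun b : H => f (m (b : G) 0 0) (m (b : G) 1 1)) (h⁻¹ * k * h)
      = (fun b : H => f (m (b : G) 0 0) (m (b : G) 1 1)) k := by
  show f _ _ = f _ _
  rw [(m_diag_conj m H hH h k).1, (m_diag_conj m H hH h k).2]

variable [Fintype G] [Fintype F] [DecidableEq F]

/-- Value of the induced function on an element of the Borel subgroup. -/
theorem indFun_borel_on_H (hH : ∀ g, g ∈ H ↔ m g 1 0 = 0)
    (hx : ∀ s, m (x s) = !![s, -1; 1, 0]) (f : F → F → ℂ) (h : H) :
    Cfsg.indFun H (fun b : H => f (m (b : G) 0 0) (m (b : G) 1 1)) (h : G)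
      = f (m (h : G) 0 0) (m (h : G) 1 1)
        + ∑ s : F, if (m (h : G) 1 1 - m (h : G) 0 0) * s = m (h : G) 0 1
            then f (m (h : G) 1 1) (m (h : G) 0 0) else 0 := by
  rw [indFun_borel m H x hH hx _ (diagFun_class m H hH f) (h : G), extendByZero_coe]
  congr 1
  refine Finset.sum_congr rfl fun s _ => ?_
  have hc := (hH h).1 h.2
  have hM := m_conj_x m x hx s (h : G)
  rw [hc] at hM
  split_ifs with hs
  · have hmem : (x s)⁻¹ * (h : G) * x s ∈ H := by
      rw [hH, hM]
      simp [hs]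
    rw [extendByZero_of_mem H _ hmem]
    show f (m ((x s)⁻¹ * (h : G) * x s) 0 0) (m ((x s)⁻¹ * (h : G) * x s) 1 1) = _
    rw [hM]
    simp
  · have hmem : (x s)⁻¹ * (h : G) * x s ∉ H := by
      rw [hH, hM]
      simp only [Matrix.of_apply, Matrix.cons_val', Matrix.cons_val_zero, Matrix.cons_val_one,
        Matrix.empty_val', Matrix.cons_val_fin_one, zero_mul, zero_add]
      intro h0
      exact hs (sub_eq_zero.1 h0)
    rw [extendByZero_of_notMem H _ hmem]

/-- The inner product of two functions induced from the Borel subgroup. -/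
theorem classInner_indFun_borel (hH : ∀ g, g ∈ H ↔ m g 1 0 = 0)
    (hx : ∀ s, m (x s) = !![s, -1; 1, 0]) {T : Type*} [Fintype T] (e : T × F → H)
    (he : Function.Bijective e) (A D : T → F)
    (hA : ∀ t u, m (e (t, u) : G) 0 0 = A t) (hD : ∀ t u, m (e (t, u) : G) 1 1 = D t)
    (hU : ∀ t u, m (e (t, u) : G) 0 1 = u) (f f' : F → F → ℂ) :
    Cfsg.classInner (Cfsg.indFun H (fun b : H => f (m (b : G) 0 0) (m (b : G) 1 1)))
        (Cfsg.indFun H (fun b : H => f' (m (b : G) 0 0) (m (b : G) 1 1)))
      = (Fintype.card T : ℂ)⁻¹ * (∑ t, f (A t) (D t) * conj (f' (A t) (D t))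
          + ∑ t, f (A t) (D t) * conj (f' (D t) (A t))) := by
  classical
  have : Fintype H := Fintype.ofFinite H
  rw [Cfsg.Agent.S0146.result H _ _ (indFun_isClassFunction H _)]
  unfold Cfsg.classInner
  have hcard : Nat.card H = Fintype.card T * Fintype.card F := by
    rw [Nat.card_eq_fintype_card, ← Fintype.card_prod]
    exact (Fintype.card_of_bijective he).symm
  have hq0 : (Fintype.card F : ℂ) ≠ 0 := Nat.cast_ne_zero.mpr Fintype.card_ne_zero
  have hsum : ∑ h : H, f (m (h : G) 0 0) (m (h : G) 1 1)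
        * conj (Cfsg.indFun H (fun b : H => f' (m (b : G) 0 0) (m (b : G) 1 1)) (h : G))
      = (Fintype.card F : ℂ) * (∑ t, f (A t) (D t) * conj (f' (A t) (D t))
          + ∑ t, f (A t) (D t) * conj (f' (D t) (A t))) := by
    rw [← (Equiv.ofBijective e he).sum_comp, Fintype.sum_prod_type, mul_add, Finset.mul_sum,
      Finset.mul_sum, ← Finset.sum_add_distrib]
    refine Finset.sum_congr rfl fun t _ => ?_
    have hterm : ∀ u : F, f (m ((Equiv.ofBijective e he) (t, u) : G) 0 0)
          (m ((Equiv.ofBijective e he) (t, u) : G) 1 1)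
        * conj (Cfsg.indFun H (fun b : H => f' (m (b : G) 0 0) (m (b : G) 1 1))
            ((Equiv.ofBijective e he) (t, u) : G))
        = f (A t) (D t) * conj (f' (A t) (D t))
          + ∑ s : F, if (D t - A t) * s = u then f (A t) (D t) * conj (f' (D t) (A t)) else 0 := by
      intro u
      rw [indFun_borel_on_H m H x hH hx f' ((Equiv.ofBijective e he) (t, u))]
      simp only [Equiv.ofBijective_apply, hA, hD, hU]
      rw [map_add, map_sum, mul_add, Finset.mul_sum]
      congr 1
      refine Finset.sum_congr rfl fun s _ => ?_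
      split_ifs
      · rfl
      · rw [map_zero, mul_zero]
    rw [Finset.sum_congr rfl fun u _ => hterm u, Finset.sum_add_distrib, Finset.sum_comm]
    congr 1
    · rw [Finset.sum_const, Finset.card_univ, nsmul_eq_mul]
    · have : ∀ s : F, (∑ u : F, if (D t - A t) * s = u
          then f (A t) (D t) * conj (f' (D t) (A t)) else 0)
          = f (A t) (D t) * conj (f' (D t) (A t)) := by
        intro s
        rw [Finset.sum_ite_eq]
        simp
      rw [Finset.sum_congr rfl fun s _ => this s, Finset.sum_const, Finset.card_univ,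
        nsmul_eq_mul]
  rw [hsum, hcard]
  push_cast
  field_simp

end inner

end Cfsg.Agent.Lib.Helper5
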