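import Mathlib
import Cfsg.Prelude.Def_Characters
import Cfsg.Prelude.Def_ParabolicCharacters
import Cfsg.Agent.Lib.Helper5.BorelInner

set_option autoImplicit false

/-!
Concrete Borel data for `GL₂` and `SL₂` over a field.
-/

namespace Cfsg.Agent.Lib.Helper5

open Matrix

section gl

variable {F : Type*} [Field F]

/-- The coercion of `GL₂` to matrices, as a monoid homomorphism. -/
def glM : GL (Fin 2) F →* Matrix (Fin 2) (Fin 2) F := Units.coeHom _

theorem glM_apply (g : GL (Fin 2) F) : glM g = (g : Matrix (Fin 2) (Fin 2) F) := rfl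

theorem glM_injective : Function.Injective (glM (F := F)) := fun _ _ h => Units.ext h

/-- The transversal elements. -/
noncomputable def glX (s : F) : GL (Fin 2) F :=
  Matrix.GeneralLinearGroup.mkOfDetNeZero !![s, -1; 1, 0] (by
    rw [Matrix.det_fin_two_of]; simp)

theorem glM_glX (s : F) : glM (glX s) = !![s, -1; 1, 0] := rfl

theorem mem_upperTriangularGL_two (g : GL (Fin 2) F) :
    g ∈ Cfsg.upperTriangularGL 2 F ↔ glM g 1 0 = 0 := by
  show (g : Matrix (Fin 2) (Fin 2) F).BlockTriangular id ↔ (g : Matrix (Fin 2) (Fin 2) F) 1 0 = 0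
  constructor
  · intro h
    exact h (by decide)
  · intro h i j hij
    fin_cases i <;> fin_cases j
    · exact absurd hij (by decide)
    · exact absurd hij (by decide)
    · exact h
    · exact absurd hij (by decide)

/-- Parametrization of the Borel subgroup of `GL₂`. -/
noncomputable def glE (p : (Fˣ × Fˣ) × F) : Cfsg.upperTriangularGL 2 F :=
  ⟨Matrix.GeneralLinearGroup.mkOfDetNeZero !![(p.1.1 : F), p.2; 0, (p.1.2 : F)] (by
    rw [Matrix.det_fin_two_of]; simp), by
    rw [mem_upperTriangularGL_two]; rfl⟩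

theorem glM_glE (p : (Fˣ × Fˣ) × F) :
    glM ((glE p : Cfsg.upperTriangularGL 2 F) : GL (Fin 2) F)
      = !![(p.1.1 : F), p.2; 0, (p.1.2 : F)] := rfl

theorem glE_bijective : Function.Bijective (glE (F := F)) := by
  constructor
  · rintro ⟨⟨a, d⟩, u⟩ ⟨⟨a', d'⟩, u'⟩ h
    have h1 := congrArg (fun b : Cfsg.upperTriangularGL 2 F => glM (b : GL (Fin 2) F)) h
    simp only [glM_glE] at h1
    have e00 := congrFun (congrFun h1 0) 0
    have e01 := congrFun (congrFun h1 0) 1
    have e11 := congrFun (congrFun h1 1) 1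
    simp at e00 e01 e11
    rw [Units.ext_iff.2 e00, e01, Units.ext_iff.2 e11]
  · intro b
    have hd := m_diag_ne_zero glM (Cfsg.upperTriangularGL 2 F) mem_upperTriangularGL_two b
    refine ⟨((Units.mk0 _ hd.1, Units.mk0 _ hd.2), glM (b : GL (Fin 2) F) 0 1), ?_⟩
    apply Subtype.ext
    apply glM_injective
    rw [glM_glE]
    have hc := (mem_upperTriangularGL_two (b : GL (Fin 2) F)).1 b.2
    ext i j
    fin_cases i <;> fin_cases j <;> simp [hc]

end gl

section sl

variable {F : Type*} [Field F]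

/-- The coercion of `SL₂` to matrices, as a monoid homomorphism. -/
def slM : SpecialLinearGroup (Fin 2) F →* Matrix (Fin 2) (Fin 2) F :=
  (Units.coeHom _).comp SpecialLinearGroup.toGL

theorem slM_apply (g : SpecialLinearGroup (Fin 2) F) :
    slM g = (g : Matrix (Fin 2) (Fin 2) F) := rfl

theorem slM_injective : Function.Injective (slM (F := F)) := fun _ _ h => Subtype.ext h

/-- Constructor with the right type ascription. -/
def slOf (M : Matrix (Fin 2) (Fin 2) F) (h : M.det = 1) : SpecialLinearGroup (Fin 2) F := ⟨M, h⟩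

theorem slM_slOf (M : Matrix (Fin 2) (Fin 2) F) (h : M.det = 1) : slM (slOf M h) = M := rfl

/-- The transversal elements. -/
def slX (s : F) : SpecialLinearGroup (Fin 2) F :=
  slOf !![s, -1; 1, 0] (by rw [Matrix.det_fin_two_of]; simp)

theorem slM_slX (s : F) : slM (slX s) = !![s, -1; 1, 0] := rfl

theorem mem_borelSL_two (g : SpecialLinearGroup (Fin 2) F) :
    g ∈ (Cfsg.upperTriangularGL 2 F).comap SpecialLinearGroup.toGL ↔ slM g 1 0 = 0 := by
  rw [Subgroup.mem_comap, mem_upperTriangularGL_two]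
  rfl

/-- Parametrization of the Borel subgroup of `SL₂`. -/
def slE (p : Fˣ × F) : (Cfsg.upperTriangularGL 2 F).comap
    (SpecialLinearGroup.toGL : SpecialLinearGroup (Fin 2) F →* GL (Fin 2) F) :=
  ⟨slOf !![(p.1 : F), p.2; 0, ((p.1⁻¹ : Fˣ) : F)] (by rw [Matrix.det_fin_two_of]; simp), by
    rw [mem_borelSL_two]; rfl⟩

theorem slM_slE (p : Fˣ × F) :
    slM ((slE p : (Cfsg.upperTriangularGL 2 F).comap
      (SpecialLinearGroup.toGL : SpecialLinearGroup (Fin 2) F →* GL (Fin 2) F)) :
        SpecialLinearGroup (Fin 2) F)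
      = !![(p.1 : F), p.2; 0, ((p.1⁻¹ : Fˣ) : F)] := rfl

theorem slE_bijective : Function.Bijective (slE (F := F)) := by
  constructor
  · rintro ⟨a, u⟩ ⟨a', u'⟩ h
    have h1 := congrArg (fun b : (Cfsg.upperTriangularGL 2 F).comap
      (SpecialLinearGroup.toGL : SpecialLinearGroup (Fin 2) F →* GL (Fin 2) F) =>
        slM (b : SpecialLinearGroup (Fin 2) F)) h
    simp only [slM_slE] at h1
    have e00 := congrFun (congrFun h1 0) 0
    have e01 := congrFun (congrFun h1 0) 1
    simp at e00 e01
    rw [Units.ext_iff.2 e00, e01]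
  · intro b
    have hd := m_diag_ne_zero slM _ mem_borelSL_two b
    have hc := (mem_borelSL_two (b : SpecialLinearGroup (Fin 2) F)).1 b.2
    have hdet : slM (b : SpecialLinearGroup (Fin 2) F) 0 0 *
        slM (b : SpecialLinearGroup (Fin 2) F) 1 1 = 1 := by
      have := (b : SpecialLinearGroup (Fin 2) F).2
      rw [Matrix.det_fin_two] at this
      rw [slM_apply] at hc ⊢
      rw [hc, mul_zero, sub_zero] at this
      exact this
    refine ⟨(Units.mk0 _ hd.1, slM (b : SpecialLinearGroup (Fin 2) F) 0 1), ?_⟩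
    apply Subtype.ext
    apply slM_injective
    rw [slM_slE]
    have hinv : ((Units.mk0 _ hd.1)⁻¹ : Fˣ) = Units.mk0 _ hd.2 := by
      rw [inv_eq_iff_eq_inv, ← mul_eq_one_iff_eq_inv]
      apply Units.ext
      exact hdet
    ext i j
    fin_cases i <;> fin_cases j <;> simp [hc, hinv]

end sl

end Cfsg.Agent.Lib.Helper5
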