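import Mathlib
import Cfsg.Prelude.Def_Characters
import Cfsg.Prelude.Def_ParabolicCharacters
import Cfsg.Agent.Lib.Helper5.BorelGL2
import Cfsg.Agent.Lib.Helper1.LinearChar
import Cfsg.Agent.Lib.Helper4.Characters
import Cfsg.Agent.S0148

set_option autoImplicit false

/-!
Principal series of `GL₂` and `SL₂` over a finite field: inner products.
-/

namespace Cfsg.Agent.Lib.Helper5

open Matrix
open Cfsg.Agent.Lib.Helper1
open scoped ComplexConjugate

section mulchar

variable {F : Type*} [Field F] [Fintype F] [DecidableEq F]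

theorem mulChar_sum_units_eq (χ : MulChar F ℂ) : ∑ a : Fˣ, χ (a : F) = ∑ a : F, χ a := by
  classical
  rw [← Finset.sum_subset (Finset.subset_univ
    (Finset.univ.map ⟨((↑) : Fˣ → F), Units.val_injective⟩)), Finset.sum_map]
  · rfl
  · intro a _ ha
    have : ¬ IsUnit a := by
      intro hu
      apply ha
      simp only [Finset.mem_map, Finset.mem_univ, true_and, Function.Embedding.coeFn_mk]
      exact ⟨hu.unit, rfl⟩
    exact χ.map_nonunit this

theorem mulChar_orth (α β : MulChar F ℂ) [Decidable (α = β)] :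
    ∑ a : Fˣ, α (a : F) * conj (β (a : F)) = if α = β then (Fintype.card Fˣ : ℂ) else 0 := by
  classical
  have h1 : ∀ a : Fˣ, α (a : F) * conj (β (a : F)) = (α * β⁻¹) (a : F) := by
    intro a
    rw [MulChar.mul_apply, ← MulChar.star_apply']
    rfl
  rw [Finset.sum_congr rfl fun a _ => h1 a, mulChar_sum_units_eq]
  split_ifs with h
  · subst h
    rw [mul_inv_cancel, MulChar.sum_one_eq_card_units]
  · apply MulChar.sum_eq_zero_of_ne_one
    intro h'
    exact h (mul_inv_eq_one.1 h')

omit [Fintype F] [DecidableEq F] in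
theorem mulChar_ne_zero (α : MulChar F ℂ) {a : F} (ha : a ≠ 0) : α a ≠ 0 := by
  intro h
  have h1 : α a * α a⁻¹ = 1 := by rw [← map_mul, mul_inv_cancel₀ ha, map_one]
  rw [h, zero_mul] at h1
  exact zero_ne_one h1

end mulchar

section linear

variable {F : Type*} [Field F] {G : Type*} [Group G]
  (m : G →* Matrix (Fin 2) (Fin 2) F) (H : Subgroup G)

/-- A multiplicative function of the diagonal entries is an irreducible character of the Borel
subgroup. -/
theorem diagFun_isIrrCharacter (hH : ∀ g, g ∈ H ↔ m g 1 0 = 0) (f : F → F → ℂ)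
    (hmul : ∀ a a' d d', f (a * a') (d * d') = f a d * f a' d')
    (hne : ∀ a d, a ≠ 0 → d ≠ 0 → f a d ≠ 0) :
    Cfsg.IsIrrCharacter H (fun b : H => f (m (b : G) 0 0) (m (b : G) 1 1)) := by
  have hne' : ∀ b : H, f (m (b : G) 0 0) (m (b : G) 1 1) ≠ 0 := fun b =>
    hne _ _ (m_diag_ne_zero m H hH b).1 (m_diag_ne_zero m H hH b).2
  let φ : H →* ℂˣ := MonoidHom.mk' (fun b => Units.mk0 _ (hne' b)) (by
    intro b b'
    apply Units.ext
    show f _ _ = f _ _ * f _ _
    rw [(m_diag_mul m H hH b b').1, (m_diag_mul m H hH b b').2, hmul])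
  exact isIrrCharacter_of_hom φ

end linear

section concrete

variable {F : Type*} [Field F] [Fintype F] [DecidableEq F]

theorem card_units_ne_zero : (Fintype.card Fˣ : ℂ) ≠ 0 :=
  Nat.cast_ne_zero.mpr Fintype.card_ne_zero

/-- Inner products in the principal series of `GL₂`. -/
theorem classInner_indFun_gl2 (α β α' β' : MulChar F ℂ)
    [Decidable (α = α' ∧ β = β')] [Decidable (α = β' ∧ β = α')] :
    Cfsg.classInner (Cfsg.indFun (Cfsg.upperTriangularGL 2 F)
        (fun b => α (((b : GL (Fin 2) F) : Matrix (Fin 2) (Fin 2) F) 0 0)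
          * β (((b : GL (Fin 2) F) : Matrix (Fin 2) (Fin 2) F) 1 1)))
      (Cfsg.indFun (Cfsg.upperTriangularGL 2 F)
        (fun b => α' (((b : GL (Fin 2) F) : Matrix (Fin 2) (Fin 2) F) 0 0)
          * β' (((b : GL (Fin 2) F) : Matrix (Fin 2) (Fin 2) F) 1 1)))
      = (if α = α' ∧ β = β' then 1 else 0) + (if α = β' ∧ β = α' then 1 else 0) := by
  classical
  have key := classInner_indFun_borel glM (Cfsg.upperTriangularGL 2 F) glX
    mem_upperTriangularGL_two glM_glX glE glE_bijective
    (fun t : Fˣ × Fˣ => (t.1 : F)) (fun t : Fˣ × Fˣ => (t.2 : F))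
    (fun t u => by rw [glM_glE]; rfl) (fun t u => by rw [glM_glE]; rfl)
    (fun t u => by rw [glM_glE]; rfl)
    (fun a d => α a * β d) (fun a d => α' a * β' d)
  refine key.trans ?_
  have s1 : ∑ t : Fˣ × Fˣ, α (t.1 : F) * β (t.2 : F) * conj (α' (t.1 : F) * β' (t.2 : F))
      = (∑ a : Fˣ, α (a : F) * conj (α' (a : F))) * ∑ d : Fˣ, β (d : F) * conj (β' (d : F)) := by
    rw [Fintype.sum_prod_type, Finset.sum_mul_sum]
    refine Finset.sum_congr rfl fun a _ => Finset.sum_congr rfl fun d _ => ?_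
    rw [map_mul]
    ring
  have s2 : ∑ t : Fˣ × Fˣ, α (t.1 : F) * β (t.2 : F) * conj (α' (t.2 : F) * β' (t.1 : F))
      = (∑ a : Fˣ, α (a : F) * conj (β' (a : F))) * ∑ d : Fˣ, β (d : F) * conj (α' (d : F)) := by
    rw [Fintype.sum_prod_type, Finset.sum_mul_sum]
    refine Finset.sum_congr rfl fun a _ => Finset.sum_congr rfl fun d _ => ?_
    rw [map_mul]
    ring
  rw [s1, s2, mulChar_orth, mulChar_orth, mulChar_orth, mulChar_orth, Fintype.card_prod]
  have h0 := card_units_ne_zero (F := F)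
  push_cast
  have hprod : ∀ (p q : Prop) [Decidable p] [Decidable q],
      ((Fintype.card Fˣ : ℂ) * (Fintype.card Fˣ : ℂ))⁻¹ *
        ((if p then (Fintype.card Fˣ : ℂ) else 0) * (if q then (Fintype.card Fˣ : ℂ) else 0))
        = if p ∧ q then 1 else 0 := by
    intro p q _ _
    by_cases hp : p <;> by_cases hq : q <;> simp [hp, hq]
    field_simp
  rw [mul_add, hprod, hprod]
  congr 1 <;> (split_ifs <;> rfl)

/-- Inner products in the principal series of `SL₂`. -/
theorem classInner_indFun_sl2 (α β : MulChar F ℂ)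
    [Decidable (α = β)] [Decidable (α = β⁻¹)] :
    Cfsg.classInner (Cfsg.indFun ((Cfsg.upperTriangularGL 2 F).comap SpecialLinearGroup.toGL)
        (fun b => α (((b : SpecialLinearGroup (Fin 2) F) : Matrix (Fin 2) (Fin 2) F) 0 0)))
      (Cfsg.indFun ((Cfsg.upperTriangularGL 2 F).comap SpecialLinearGroup.toGL)
        (fun b => β (((b : SpecialLinearGroup (Fin 2) F) : Matrix (Fin 2) (Fin 2) F) 0 0)))
      = (if α = β then 1 else 0) + (if α = β⁻¹ then 1 else 0) := by
  classical
  have key := classInner_indFun_borel slM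
    ((Cfsg.upperTriangularGL 2 F).comap SpecialLinearGroup.toGL) slX
    mem_borelSL_two slM_slX slE slE_bijective
    (fun t : Fˣ => (t : F)) (fun t : Fˣ => ((t⁻¹ : Fˣ) : F))
    (fun t u => by rw [slM_slE]; rfl) (fun t u => by rw [slM_slE]; rfl)
    (fun t u => by rw [slM_slE]; rfl)
    (fun a _ => α a) (fun a _ => β a)
  refine key.trans ?_
  have s2 : ∑ t : Fˣ, α (t : F) * conj (β ((t⁻¹ : Fˣ) : F))
      = ∑ t : Fˣ, α (t : F) * conj (β⁻¹ (t : F)) := by
    refine Finset.sum_congr rfl fun t _ => ?_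
    rw [MulChar.inv_apply', Units.val_inv_eq_inv_val]
  rw [s2, mulChar_orth, mulChar_orth]
  have h0 := card_units_ne_zero (F := F)
  have hone : ∀ (p : Prop) [Decidable p],
      (Fintype.card Fˣ : ℂ)⁻¹ * (if p then (Fintype.card Fˣ : ℂ) else 0)
        = if p then 1 else 0 := by
    intro p _
    by_cases hp : p <;> simp [hp, h0]
  rw [mul_add, hone, hone]

/-- The principal series functions of `GL₂` are characters. -/
theorem isCharacter_indFun_gl2 (α β : MulChar F ℂ) :
    Cfsg.IsCharacter (GL (Fin 2) F) (Cfsg.indFun (Cfsg.upperTriangularGL 2 F)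
        (fun b => α (((b : GL (Fin 2) F) : Matrix (Fin 2) (Fin 2) F) 0 0)
          * β (((b : GL (Fin 2) F) : Matrix (Fin 2) (Fin 2) F) 1 1))) := by
  apply Cfsg.Agent.S0148.result
  apply Cfsg.Agent.Lib.Helper4.isCharacter_of_irr
  exact diagFun_isIrrCharacter glM (Cfsg.upperTriangularGL 2 F) mem_upperTriangularGL_two
    (fun a d => α a * β d) (fun a a' d d' => by rw [map_mul, map_mul]; ring)
    (fun a d ha hd => mul_ne_zero (mulChar_ne_zero α ha) (mulChar_ne_zero β hd))

/-- The principal series functions of `SL₂` are characters. -/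
theorem isCharacter_indFun_sl2 (α : MulChar F ℂ) :
    Cfsg.IsCharacter (SpecialLinearGroup (Fin 2) F)
      (Cfsg.indFun ((Cfsg.upperTriangularGL 2 F).comap SpecialLinearGroup.toGL)
        (fun b => α (((b : SpecialLinearGroup (Fin 2) F) : Matrix (Fin 2) (Fin 2) F) 0 0))) := by
  apply Cfsg.Agent.S0148.result
  apply Cfsg.Agent.Lib.Helper4.isCharacter_of_irr
  exact diagFun_isIrrCharacter slM ((Cfsg.upperTriangularGL 2 F).comap SpecialLinearGroup.toGL)
    mem_borelSL_two (fun a _ => α a) (fun a a' d d' => by rw [map_mul])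
    (fun a d ha _ => mulChar_ne_zero α ha)

end concrete

end Cfsg.Agent.Lib.Helper5
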