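import Mathlib
import Cfsg.Prelude.Def_Characters
import Cfsg.Prelude.Def_ParabolicCharacters
import Cfsg.Agent.Lib.Helper5.BorelInner

set_option autoImplicit false

/-!
Values of functions induced from the Borel subgroup, and fixed points on the cosets.
-/

namespace Cfsg.Agent.Lib.Helper5

open Cfsg.Agent.Lib.Helper1

section values

variable {F : Type*} [Field F] {G : Type*} [Group G]
  (m : G →* Matrix (Fin 2) (Fin 2) F) (H : Subgroup G) (x : F → G)

variable [Fintype G] [Fintype F] [DecidableEq F]

/-- Value of the induced function at an arbitrary element. -/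
theorem indFun_borel_value (hH : ∀ g, g ∈ H ↔ m g 1 0 = 0)
    (hx : ∀ s, m (x s) = !![s, -1; 1, 0]) (f : F → F → ℂ) (g : G) :
    Cfsg.indFun H (fun b : H => f (m (b : G) 0 0) (m (b : G) 1 1)) g
      = (if m g 1 0 = 0 then f (m g 0 0) (m g 1 1) else 0)
        + ∑ s : F, if m g 1 0 * s ^ 2 + (m g 1 1 - m g 0 0) * s - m g 0 1 = 0
            then f (m g 1 0 * s + m g 1 1) (m g 0 0 - m g 1 0 * s) else 0 := by
  rw [indFun_borel m H x hH hx _ (diagFun_class m H hH f) g]
  congr 1
  · split_ifs with hc
    · rw [extendByZero_of_mem H _ ((hH g).2 hc)]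
    · rw [extendByZero_of_notMem H _ (fun h => hc ((hH g).1 h))]
  · refine Finset.sum_congr rfl fun s _ => ?_
    have hM := m_conj_x m x hx s g
    split_ifs with hs
    · have hmem : (x s)⁻¹ * g * x s ∈ H := by
        rw [hH, hM]
        exact hs
      rw [extendByZero_of_mem H _ hmem]
      show f (m ((x s)⁻¹ * g * x s) 0 0) (m ((x s)⁻¹ * g * x s) 1 1) = _
      rw [hM]
      rfl
    · have hmem : (x s)⁻¹ * g * x s ∉ H := by
        rw [hH, hM]
        exact hs
      rw [extendByZero_of_notMem H _ hmem]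

/-- Value of the induced function at an arbitrary element, with named entries. -/
theorem indFun_borel_value' (hH : ∀ g, g ∈ H ↔ m g 1 0 = 0)
    (hx : ∀ s, m (x s) = !![s, -1; 1, 0]) (f : F → F → ℂ) (g : G) (a b c d : F)
    (h00 : m g 0 0 = a) (h01 : m g 0 1 = b) (h10 : m g 1 0 = c) (h11 : m g 1 1 = d) :
    Cfsg.indFun H (fun b : H => f (m (b : G) 0 0) (m (b : G) 1 1)) g
      = (if c = 0 then f a d else 0)
        + ∑ s : F, if c * s ^ 2 + (d - a) * s - b = 0 then f (c * s + d) (a - c * s) else 0 := by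
  subst h00 h01 h10 h11
  exact indFun_borel_value m H x hH hx f g

end values

section fixed

variable {G : Type*} [Group G]

theorem transversal_quotient_bijective (H : Subgroup G) {ι : Type*} (r : ι → G)
    (hr : Function.Bijective (fun p : ι × H => r p.1 * (p.2 : G))) :
    Function.Bijective (fun i : ι => (QuotientGroup.mk (r i) : G ⧸ H)) := by
  constructor
  · intro i j hij
    have h1 : (r i)⁻¹ * r j ∈ H := QuotientGroup.eq.1 hij
    have h2 : (fun p : ι × H => r p.1 * (p.2 : G)) (i, ⟨_, h1⟩) =
        (fun p : ι × H => r p.1 * (p.2 : G)) (j, 1) := by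
      simp
    exact congrArg Prod.fst (hr.1 h2)
  · intro q
    obtain ⟨y, rfl⟩ := QuotientGroup.mk_surjective q
    obtain ⟨⟨i, h⟩, hy⟩ := hr.2 y
    refine ⟨i, ?_⟩
    simp only at hy
    rw [← hy]
    exact (QuotientGroup.mk_mul_of_mem (r i) h.2).symm

theorem card_fixedBy_transversal (H : Subgroup G) {ι : Type*} (r : ι → G)
    (hr : Function.Bijective (fun p : ι × H => r p.1 * (p.2 : G))) (g : G) :
    Nat.card (MulAction.fixedBy (G ⧸ H) g) = Nat.card {i : ι // (r i)⁻¹ * g * r i ∈ H} := by
  symm
  have hb := transversal_quotient_bijective H r hr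
  apply Nat.card_eq_of_bijective (fun i : {i : ι // (r i)⁻¹ * g * r i ∈ H} =>
    (⟨(QuotientGroup.mk (r i.1) : G ⧸ H), by
      rw [MulAction.mem_fixedBy]
      show (QuotientGroup.mk (g * r i.1) : G ⧸ H) = QuotientGroup.mk (r i.1)
      rw [eq_comm, QuotientGroup.eq, ← mul_assoc]
      exact i.2⟩ : MulAction.fixedBy (G ⧸ H) g))
  constructor
  · intro i j hij
    apply Subtype.ext
    exact hb.1 (congrArg Subtype.val hij)
  · rintro ⟨q, hq⟩
    obtain ⟨i, rfl⟩ := hb.2 q
    refine ⟨⟨i, ?_⟩, rfl⟩
    rw [MulAction.mem_fixedBy] at hq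
    have hq' : (QuotientGroup.mk (g * r i) : G ⧸ H) = QuotientGroup.mk (r i) := hq
    rw [eq_comm, QuotientGroup.eq, ← mul_assoc] at hq'
    exact hq'

end fixed

section fixedBorel

variable {F : Type*} [Field F] {G : Type*} [Group G]
  (m : G →* Matrix (Fin 2) (Fin 2) F) (H : Subgroup G) (x : F → G)

/-- Number of fixed points on the cosets of the Borel subgroup. -/
theorem card_fixedBy_borel [Finite F] (hH : ∀ g, g ∈ H ↔ m g 1 0 = 0)
    (hx : ∀ s, m (x s) = !![s, -1; 1, 0]) (g : G) :
    Nat.card (MulAction.fixedBy (G ⧸ H) g)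
      = Nat.card {_u : Unit // m g 1 0 = 0}
        + Nat.card {s : F // m g 1 0 * s ^ 2 + (m g 1 1 - m g 0 0) * s - m g 0 1 = 0} := by
  classical
  rw [card_fixedBy_transversal H (transv x) (transv_bijective m H x hH hx) g]
  rw [← Nat.card_sum]
  apply Nat.card_congr
  refine Equiv.ofBijective (fun i => ?_) ?_
  · rcases i with ⟨i, hi⟩
    cases i with
    | none => exact Sum.inl ⟨(), by simpa [transv, hH] using hi⟩
    | some s => exact Sum.inr ⟨s, by
        have hM := m_conj_x m x hx s g
        have : (x s)⁻¹ * g * x s ∈ H := hi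
        rw [hH, hM] at this
        exact this⟩
  · constructor
    · rintro ⟨i, hi⟩ ⟨j, hj⟩ hij
      cases i with
      | none =>
        cases j with
        | none => rfl
        | some t => simp at hij
      | some s =>
        cases j with
        | none => simp at hij
        | some t =>
          have h1 : s = t := congrArg Subtype.val (Sum.inr_injective hij)
          subst h1
          rfl
    · rintro (⟨u, hu⟩ | ⟨s, hs⟩)
      · exact ⟨⟨none, by simpa [transv, hH] using hu⟩, rfl⟩
      · refine ⟨⟨some s, ?_⟩, rfl⟩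
        show (x s)⁻¹ * g * x s ∈ H
        rw [hH, m_conj_x m x hx s g]
        exact hs

end fixedBorel

end Cfsg.Agent.Lib.Helper5
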