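import Mathlib
import Cfsg.Prelude.Def_Characters
import Cfsg.Prelude.Def_ParabolicCharacters
import Cfsg.Agent.Lib.Helper5.BorelValues
import Cfsg.Agent.Lib.Helper5.BorelChar
import Cfsg.Agent.Lib.Helper1.IndFun
import Cfsg.Agent.S0146

set_option autoImplicit false

/-!
The principal series functions of `GL₂` over a finite field: values and Frobenius reciprocity
in coordinates.
-/

namespace Cfsg.Agent.Lib.Helper5

open Matrix
open Cfsg.Agent.Lib.Helper1
open scoped ComplexConjugate

section
variable {F : Type*} [Field F] [Fintype F] [DecidableEq F]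

/-- The principal series function of `GL₂` attached to two multiplicative characters. -/
noncomputable def gpsFun (α β : MulChar F ℂ) : GL (Fin 2) F → ℂ :=
  Cfsg.indFun (Cfsg.upperTriangularGL 2 F)
    (fun b => α (((b : GL (Fin 2) F) : Matrix (Fin 2) (Fin 2) F) 0 0)
      * β (((b : GL (Fin 2) F) : Matrix (Fin 2) (Fin 2) F) 1 1))

theorem gpsFun_isClassFunction (α β : MulChar F ℂ) :
    Cfsg.IsClassFunction (GL (Fin 2) F) (gpsFun α β) :=
  indFun_isClassFunction _ _

theorem isCharacter_gpsFun (α β : MulChar F ℂ) :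
    Cfsg.IsCharacter (GL (Fin 2) F) (gpsFun α β) :=
  isCharacter_indFun_gl2 α β

theorem classInner_gpsFun_gpsFun (α β α' β' : MulChar F ℂ)
    [Decidable (α = α' ∧ β = β')] [Decidable (α = β' ∧ β = α')] :
    Cfsg.classInner (gpsFun α β) (gpsFun α' β')
      = (if α = α' ∧ β = β' then 1 else 0) + (if α = β' ∧ β = α' then 1 else 0) :=
  classInner_indFun_gl2 α β α' β'

/-- Value of a principal series function of `GL₂` at an arbitrary element. -/
theorem gpsFun_value (α β : MulChar F ℂ) (g : GL (Fin 2) F) (a b c d : F)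
    (h00 : (g : Matrix (Fin 2) (Fin 2) F) 0 0 = a) (h01 : (g : Matrix (Fin 2) (Fin 2) F) 0 1 = b)
    (h10 : (g : Matrix (Fin 2) (Fin 2) F) 1 0 = c) (h11 : (g : Matrix (Fin 2) (Fin 2) F) 1 1 = d) :
    gpsFun α β g = (if c = 0 then α a * β d else 0)
      + ∑ s : F, if c * s ^ 2 + (d - a) * s - b = 0 then α (c * s + d) * β (a - c * s) else 0 :=
  indFun_borel_value' glM (Cfsg.upperTriangularGL 2 F) glX mem_upperTriangularGL_two glM_glX
    (fun x y => α x * β y) g a b c d h00 h01 h10 h11

theorem card_borelGL : Nat.card (Cfsg.upperTriangularGL 2 F)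
    = Fintype.card Fˣ * Fintype.card Fˣ * Fintype.card F := by
  rw [← Nat.card_congr (Equiv.ofBijective glE glE_bijective), Nat.card_eq_fintype_card,
    Fintype.card_prod, Fintype.card_prod]

/-- Frobenius reciprocity for the principal series of `GL₂`, in coordinates. -/
theorem classInner_gpsFun (α β : MulChar F ℂ) (χ : GL (Fin 2) F → ℂ)
    (hχ : Cfsg.IsClassFunction (GL (Fin 2) F) χ) :
    Cfsg.classInner (gpsFun α β) χ
      = ((Fintype.card Fˣ : ℂ) * (Fintype.card Fˣ : ℂ) * (Fintype.card F : ℂ))⁻¹ *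
      ∑ a : Fˣ, ∑ d : Fˣ, ∑ u : F, α (a : F) * β (d : F) *
        conj (χ ((glE ((a, d), u) : Cfsg.upperTriangularGL 2 F) : GL (Fin 2) F)) := by
  classical
  have : Fintype (Cfsg.upperTriangularGL 2 F) := Fintype.ofFinite _
  unfold gpsFun
  rw [Cfsg.Agent.S0146.result (Cfsg.upperTriangularGL 2 F) _ χ hχ]
  unfold Cfsg.classInner
  rw [card_borelGL]
  push_cast
  congr 1
  rw [← (Equiv.ofBijective glE glE_bijective).sum_comp, Fintype.sum_prod_type,
    Fintype.sum_prod_type]
  rfl

end

end Cfsg.Agent.Lib.Helper5
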