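import Mathlib
import Cfsg.Prelude.Def_Characters
import Cfsg.Agent.Lib.Helper5.GL2Ps
import Cfsg.Agent.Lib.Helper1.LinearChar
import Cfsg.Agent.Lib.Helper4.Characters
import Cfsg.Agent.Lib.Helper4.VirtualChar

set_option autoImplicit false

/-!
The linear characters and the Steinberg-type characters of `GL₂` over a finite field.
-/

namespace Cfsg.Agent.Lib.Helper5

open Matrix
open Cfsg.Agent.Lib.Helper1 Cfsg.Agent.Lib.Helper4
open scoped ComplexConjugate

section
variable {F : Type*} [Field F] [Fintype F] [DecidableEq F]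

/-- The homomorphism `α ∘ det`. -/
noncomputable def gdetHom (α : MulChar F ℂ) : GL (Fin 2) F →* ℂˣ :=
  α.toUnitHom.comp Matrix.GeneralLinearGroup.det

/-- The linear character `α ∘ det`. -/
noncomputable def gdetFun (α : MulChar F ℂ) : GL (Fin 2) F → ℂ :=
  fun g => α ((g : Matrix (Fin 2) (Fin 2) F).det)

omit [Fintype F] [DecidableEq F] in
theorem gdetFun_eq (α : MulChar F ℂ) :
    gdetFun α = fun g => ((gdetHom α g : ℂˣ) : ℂ) := by
  funext g
  unfold gdetFun gdetHom
  rw [MonoidHom.comp_apply, MulChar.coe_toUnitHom, Matrix.GeneralLinearGroup.val_det_apply]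

omit [Fintype F] [DecidableEq F] in
theorem isIrrCharacter_gdetFun (α : MulChar F ℂ) :
    Cfsg.IsIrrCharacter (GL (Fin 2) F) (gdetFun α) := by
  rw [gdetFun_eq]
  exact isIrrCharacter_of_hom _

omit [Fintype F] [DecidableEq F] in
theorem gdetFun_one (α : MulChar F ℂ) : gdetFun α 1 = 1 := by
  unfold gdetFun
  rw [Units.val_one, Matrix.det_one, map_one]

omit [Fintype F] [DecidableEq F] in
theorem gdetFun_apply (α : MulChar F ℂ) (g : GL (Fin 2) F) (a b c d : F)
    (h00 : (g : Matrix (Fin 2) (Fin 2) F) 0 0 = a) (h01 : (g : Matrix (Fin 2) (Fin 2) F) 0 1 = b)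
    (h10 : (g : Matrix (Fin 2) (Fin 2) F) 1 0 = c) (h11 : (g : Matrix (Fin 2) (Fin 2) F) 1 1 = d) :
    gdetFun α g = α (a * d - b * c) := by
  unfold gdetFun
  rw [Matrix.det_fin_two, h00, h01, h10, h11]

omit [Fintype F] [DecidableEq F] in
theorem gdetFun_glE (α : MulChar F ℂ) (a d : Fˣ) (u : F) :
    gdetFun α ((glE ((a, d), u) : Cfsg.upperTriangularGL 2 F) : GL (Fin 2) F)
      = α (a : F) * α (d : F) := by
  have h := glM_glE (F := F) ((a, d), u)
  rw [glM_apply] at h
  rw [gdetFun_apply α _ (a : F) u 0 (d : F) (by rw [h]; rfl) (by rw [h]; rfl) (by rw [h]; rfl)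
    (by rw [h]; rfl), mul_zero, sub_zero, map_mul]

theorem classInner_gpsFun_gdetFun (α β γ : MulChar F ℂ) [Decidable (α = γ ∧ β = γ)] :
    Cfsg.classInner (gpsFun α β) (gdetFun γ) = if α = γ ∧ β = γ then 1 else 0 := by
  classical
  rw [classInner_gpsFun α β _ (isClassFunction_of_isCharacter
    (isCharacter_of_irr (isIrrCharacter_gdetFun γ)))]
  have h1 : ∑ a : Fˣ, ∑ d : Fˣ, ∑ u : F, α (a : F) * β (d : F) *
      conj (gdetFun γ ((glE ((a, d), u) : Cfsg.upperTriangularGL 2 F) : GL (Fin 2) F))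
      = (Fintype.card F : ℂ) * ((∑ a : Fˣ, α (a : F) * conj (γ (a : F)))
        * ∑ d : Fˣ, β (d : F) * conj (γ (d : F))) := by
    rw [Finset.sum_mul_sum, Finset.mul_sum]
    refine Finset.sum_congr rfl fun a _ => ?_
    rw [Finset.mul_sum]
    refine Finset.sum_congr rfl fun d _ => ?_
    simp only [gdetFun_glE, map_mul]
    rw [Finset.sum_const, Finset.card_univ, nsmul_eq_mul]
    ring
  rw [h1, mulChar_orth, mulChar_orth]
  have h0 := card_units_ne_zero (F := F)
  have hq : (Fintype.card F : ℂ) ≠ 0 := Nat.cast_ne_zero.2 Fintype.card_ne_zero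
  by_cases h : α = γ ∧ β = γ
  · rw [if_pos h, if_pos h.1, if_pos h.2]
    field_simp
  · rw [if_neg h]
    by_cases ha : α = γ
    · rw [if_neg (fun hb => h ⟨ha, hb⟩)]
      simp
    · rw [if_neg ha]
      simp

/-- Value of a principal series function at the identity. -/
theorem gpsFun_one (α β : MulChar F ℂ) : gpsFun α β 1 = (Fintype.card F : ℂ) + 1 := by
  rw [gpsFun_value α β 1 1 0 0 1 (by simp) (by simp) (by simp) (by simp)]
  simp
  ring

/-- The Steinberg-type character attached to a multiplicative character. -/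
noncomputable def gstFun (α : MulChar F ℂ) : GL (Fin 2) F → ℂ :=
  gpsFun α α - gdetFun α

theorem gstFun_one (α : MulChar F ℂ) : gstFun α 1 = (Fintype.card F : ℂ) := by
  unfold gstFun
  rw [Pi.sub_apply, gpsFun_one, gdetFun_one]
  ring

theorem gpsFun_self_eq (α : MulChar F ℂ) : gpsFun α α = gdetFun α + gstFun α := by
  unfold gstFun
  ring

theorem isIrrCharacter_gstFun (α : MulChar F ℂ) :
    Cfsg.IsIrrCharacter (GL (Fin 2) F) (gstFun α) := by
  classical
  have hgen : Cfsg.IsGeneralizedCharacter (GL (Fin 2) F) (gstFun α) :=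
    isGenChar_sub (isGenChar_of_isCharacter (isCharacter_gpsFun α α))
      (isGenChar_of_irr (isIrrCharacter_gdetFun α))
  have h1 := classInner_gpsFun_gdetFun α α α
  rw [if_pos ⟨rfl, rfl⟩] at h1
  have h2 : Cfsg.classInner (gdetFun α) (gpsFun α α) = 1 := by
    rw [← classInner_conj_symm, h1, map_one]
  have h3 := classInner_gpsFun_gpsFun α α α α
  rw [if_pos ⟨rfl, rfl⟩] at h3
  have hnorm : Cfsg.classInner (gstFun α) (gstFun α) = 1 := by
    unfold gstFun
    rw [classInner_sub_left, classInner_sub_right, classInner_sub_right,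
      h3, h1, h2, classInner_irr_self (isIrrCharacter_gdetFun α)]
    norm_num
  obtain ⟨ψ, hψ, h | h⟩ := genChar_norm_one hgen hnorm
  · rw [h]; exact hψ
  · exfalso
    obtain ⟨n, hn, hn1⟩ := irr_apply_one_pos hψ
    have h3 := congrFun h 1
    rw [gstFun_one, Pi.neg_apply, hn1] at h3
    have h4 : ((Fintype.card F + n : ℕ) : ℂ) = 0 := by
      push_cast
      linear_combination h3
    have h5 : Fintype.card F + n = 0 := by exact_mod_cast h4
    have := Fintype.card_pos (α := F)
    omega

end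

end Cfsg.Agent.Lib.Helper5
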