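import Mathlib
import Cfsg.Prelude.Def_Characters
import Cfsg.Agent.Lib.Helper1.IndFun

set_option autoImplicit false

/-!
Induced functions in terms of centralizer orders and conjugates in the subgroup.
-/

namespace Cfsg.Agent.Lib.Helper5

open Cfsg.Agent.Lib.Helper1

section

variable {G : Type*} [Group G]

/-- The number of elements conjugating `g` to `h`. -/
theorem card_conjugators [Finite G] (g h : G) :
    Nat.card {x : G // x⁻¹ * g * x = h} =
      Nat.card {_u : Unit // IsConj g h} * Nat.card (Subgroup.centralizer ({g} : Set G)) := by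
  classical
  by_cases hc : IsConj g h
  · have h1 : Nat.card {_u : Unit // IsConj g h} = 1 := by
      rw [Nat.card_eq_one_iff_unique]
      exact ⟨⟨fun x y => Subtype.ext rfl⟩, ⟨⟨(), hc⟩⟩⟩
    rw [h1, one_mul]
    obtain ⟨x₀, hx₀⟩ := isConj_iff.1 hc
    -- hx₀ : x₀ * g * x₀⁻¹ = h
    symm
    apply Nat.card_eq_of_bijective
      (fun c : Subgroup.centralizer ({g} : Set G) =>
        (⟨(c : G) * x₀⁻¹, by
          have hcg : (c : G) * g = g * (c : G) :=
            (Subgroup.mem_centralizer_singleton_iff.1 c.2)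
          have : ((c : G) * x₀⁻¹)⁻¹ * g * ((c : G) * x₀⁻¹) =
              x₀ * ((c : G)⁻¹ * (g * (c : G))) * x₀⁻¹ := by group
          rw [this, ← hcg, inv_mul_cancel_left, hx₀]⟩ : {x : G // x⁻¹ * g * x = h}))
    constructor
    · intro c c' hcc
      have := congrArg Subtype.val hcc
      simp only at this
      exact Subtype.ext (mul_right_cancel this)
    · rintro ⟨x, hx⟩
      refine ⟨⟨x * x₀, ?_⟩, ?_⟩
      · rw [Subgroup.mem_centralizer_singleton_iff]
        have h2 : x⁻¹ * g * x = x₀ * g * x₀⁻¹ := hx.trans hx₀.symm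
        have h3 : g * x = x * (x₀ * g * x₀⁻¹) := by
          rw [← h2]; group
        calc x * x₀ * g = x * (x₀ * g * x₀⁻¹) * x₀ := by group
          _ = g * x * x₀ := by rw [← h3]
          _ = g * (x * x₀) := by group
      · apply Subtype.ext
        show x * x₀ * x₀⁻¹ = x
        group
  · have h1 : Nat.card {_u : Unit // IsConj g h} = 0 := by
      have : IsEmpty {_u : Unit // IsConj g h} := ⟨fun x => hc x.2⟩
      exact Nat.card_of_isEmpty
    rw [h1, zero_mul]
    have : IsEmpty {x : G // x⁻¹ * g * x = h} := by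
      refine ⟨fun x => hc ?_⟩
      rw [isConj_iff]
      refine ⟨x.1⁻¹, ?_⟩
      rw [inv_inv]
      exact x.2
    exact Nat.card_of_isEmpty

/-- Induced function as a sum over the conjugates lying in the subgroup. -/
theorem indFun_eq_sum_conj [Fintype G] (H : Subgroup G) [Fintype H] (θ : H → ℂ) (g : G)
    [∀ h : H, Decidable (IsConj g (h : G))] :
    Cfsg.indFun H θ g = (Nat.card H : ℂ)⁻¹ *
      ((Nat.card (Subgroup.centralizer ({g} : Set G)) : ℂ) *
        ∑ h : H, if IsConj g (h : G) then θ h else 0) := by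
  classical
  rw [indFun_apply]
  congr 1
  have e1 : ∀ x : G, Cfsg.extendByZero H θ (x⁻¹ * g * x)
      = ∑ h : H, if x⁻¹ * g * x = (h : G) then θ h else 0 := by
    intro x
    by_cases hx : x⁻¹ * g * x ∈ H
    · rw [extendByZero_of_mem H θ hx]
      rw [Finset.sum_eq_single (⟨x⁻¹ * g * x, hx⟩ : H)]
      · rw [if_pos rfl]
      · intro h _ hne
        rw [if_neg]
        intro he
        exact hne (Subtype.ext he.symm)
      · intro hn
        exact absurd (Finset.mem_univ _) hn
    · rw [extendByZero_of_notMem H θ hx]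
      symm
      apply Finset.sum_eq_zero
      intro h _
      rw [if_neg]
      intro he
      exact hx (he ▸ h.2)
  rw [Finset.sum_congr rfl fun x _ => e1 x, Finset.sum_comm, Finset.mul_sum]
  refine Finset.sum_congr rfl fun h _ => ?_
  have e2 : (∑ x : G, if x⁻¹ * g * x = (h : G) then θ h else 0)
      = (Nat.card {x : G // x⁻¹ * g * x = (h : G)} : ℂ) * θ h := by
    rw [← Finset.sum_filter, Finset.sum_const, nsmul_eq_mul, Nat.card_eq_fintype_card,
      Fintype.card_subtype]
  rw [e2, card_conjugators]
  by_cases hc : IsConj g (h : G)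
  · have h1 : Nat.card {_u : Unit // IsConj g (h : G)} = 1 := by
      rw [Nat.card_eq_one_iff_unique]
      exact ⟨⟨fun x y => Subtype.ext rfl⟩, ⟨⟨(), hc⟩⟩⟩
    rw [h1, if_pos hc]
    push_cast
    ring
  · have h1 : Nat.card {_u : Unit // IsConj g (h : G)} = 0 := by
      have : IsEmpty {_u : Unit // IsConj g (h : G)} := ⟨fun x => hc x.2⟩
      exact Nat.card_of_isEmpty
    rw [h1, if_neg hc]
    simp

end

end Cfsg.Agent.Lib.Helper5
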