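import Mathlib

set_option autoImplicit false

namespace Cfsg.Agent.Lib.Helper5

open Matrix

section basic
variable {F : Type*} [Field F]

/-- the norm form of `F[g]` for `g` of trace `t` and determinant one -/
def nform (t a b : F) : F := a ^ 2 + t * a * b + b ^ 2

theorem eq_smul_one_add_smul_iff (g x : Matrix (Fin 2) (Fin 2) F) (a b : F) :
    x = a • (1 : Matrix (Fin 2) (Fin 2) F) + b • g ↔
      x 0 0 = a + b * g 0 0 ∧ x 0 1 = b * g 0 1 ∧ x 1 0 = b * g 1 0 ∧ x 1 1 = a + b * g 1 1 := by
  constructor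
  · rintro rfl
    simp
  · rintro ⟨h00, h01, h10, h11⟩
    ext i j
    fin_cases i <;> fin_cases j
    · simpa using h00
    · simpa using h01
    · simpa using h10
    · simpa using h11

theorem det_smul_one_add_smul (g : Matrix (Fin 2) (Fin 2) F) (a b : F) :
    (a • (1 : Matrix (Fin 2) (Fin 2) F) + b • g).det = a ^ 2 + g.trace * a * b + b ^ 2 * g.det := by
  simp only [Matrix.det_fin_two, Matrix.trace_fin_two, Matrix.add_apply, Matrix.smul_apply,
    Matrix.one_apply_eq, smul_eq_mul, Fin.isValue, mul_one]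
  have h1 : (1 : Matrix (Fin 2) (Fin 2) F) 0 1 = 0 := Matrix.one_apply_ne (by decide)
  have h2 : (1 : Matrix (Fin 2) (Fin 2) F) 1 0 = 0 := Matrix.one_apply_ne (by decide)
  rw [h1, h2]
  ring

theorem not_scalar_iff (g : Matrix (Fin 2) (Fin 2) F) :
    (¬ ∃ c : F, g = c • (1 : Matrix (Fin 2) (Fin 2) F)) ↔
      (g 0 1 ≠ 0 ∨ g 1 0 ≠ 0 ∨ g 0 0 ≠ g 1 1) := by
  constructor
  · intro h
    by_contra hcon
    push Not at hcon
    apply h
    refine ⟨g 0 0, ?_⟩
    have := (eq_smul_one_add_smul_iff (0 : Matrix (Fin 2) (Fin 2) F) g (g 0 0) 0).2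
      ⟨by simp, by simp [hcon.1], by simp [hcon.2.1], by simp [hcon.2.2]⟩
    rw [this]
    simp
  · rintro h ⟨c, rfl⟩
    simp at h

/-- The matrices commuting with a non-scalar 2×2 matrix `g` are the `a + b g`. -/
theorem exists_of_commute (g x : Matrix (Fin 2) (Fin 2) F)
    (hg : ¬ ∃ c : F, g = c • (1 : Matrix (Fin 2) (Fin 2) F)) (hx : x * g = g * x) :
    ∃ a b : F, x = a • (1 : Matrix (Fin 2) (Fin 2) F) + b • g := by
  have e00 := congrFun (congrFun hx 0) 0
  have e01 := congrFun (congrFun hx 0) 1
  have e10 := congrFun (congrFun hx 1) 0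
  simp only [Matrix.mul_apply, Fin.sum_univ_two] at e00 e01 e10
  rcases (not_scalar_iff g).1 hg with h01 | h10 | hne
  · refine ⟨x 0 0 - x 0 1 / g 0 1 * g 0 0, x 0 1 / g 0 1, ?_⟩
    rw [eq_smul_one_add_smul_iff]
    refine ⟨by ring, by field_simp, ?_, ?_⟩
    · field_simp
      linear_combination -e00
    · field_simp
      linear_combination -e01
  · refine ⟨x 0 0 - x 1 0 / g 1 0 * g 0 0, x 1 0 / g 1 0, ?_⟩
    rw [eq_smul_one_add_smul_iff]
    refine ⟨by ring, ?_, by field_simp, ?_⟩
    · field_simp
      linear_combination e00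
    · field_simp
      linear_combination e10
  · have hd : g 0 0 - g 1 1 ≠ 0 := sub_ne_zero.2 hne
    by_cases h01 : g 0 1 = 0
    · by_cases h10 : g 1 0 = 0
      · rw [h01] at e01
        rw [h10] at e10
        have hx01 : x 0 1 = 0 := by
          have : x 0 1 * (g 0 0 - g 1 1) = 0 := by linear_combination -e01
          rcases mul_eq_zero.1 this with h | h
          · exact h
          · exact absurd h hd
        have hx10 : x 1 0 = 0 := by
          have : x 1 0 * (g 0 0 - g 1 1) = 0 := by linear_combination e10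
          rcases mul_eq_zero.1 this with h | h
          · exact h
          · exact absurd h hd
        refine ⟨x 0 0 - (x 0 0 - x 1 1) / (g 0 0 - g 1 1) * g 0 0,
          (x 0 0 - x 1 1) / (g 0 0 - g 1 1), ?_⟩
        rw [eq_smul_one_add_smul_iff]
        refine ⟨by ring, by rw [hx01, h01, mul_zero], by rw [hx10, h10, mul_zero], ?_⟩
        field_simp
        ring
      · refine ⟨x 0 0 - x 1 0 / g 1 0 * g 0 0, x 1 0 / g 1 0, ?_⟩
        rw [eq_smul_one_add_smul_iff]
        refine ⟨by ring, ?_, by field_simp, ?_⟩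
        · field_simp
          linear_combination e00
        · field_simp
          linear_combination e10
    · refine ⟨x 0 0 - x 0 1 / g 0 1 * g 0 0, x 0 1 / g 0 1, ?_⟩
      rw [eq_smul_one_add_smul_iff]
      refine ⟨by ring, by field_simp, ?_, ?_⟩
      · field_simp
        linear_combination -e00
      · field_simp
        linear_combination -e01

end basic

end Cfsg.Agent.Lib.Helper5
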