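import Mathlib
import Cfsg.Agent.Lib.Helper5.SL2Basic

set_option autoImplicit false

namespace Cfsg.Agent.Lib.Helper5

open Matrix

section centralizer
variable {F : Type*} [Field F]

/-- Constructor with the right type ascription. -/
def mkSL2 (M : Matrix (Fin 2) (Fin 2) F) (h : M.det = 1) : SpecialLinearGroup (Fin 2) F := ⟨M, h⟩

@[simp] theorem mkSL2_coe (M : Matrix (Fin 2) (Fin 2) F) (h : M.det = 1) :
    ((mkSL2 M h : SpecialLinearGroup (Fin 2) F) : Matrix (Fin 2) (Fin 2) F) = M := rfl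

theorem card_centralizer_SL2 (g : SpecialLinearGroup (Fin 2) F)
    (hg : ¬ ∃ c : F, (g : Matrix (Fin 2) (Fin 2) F) = c • (1 : Matrix (Fin 2) (Fin 2) F)) :
    Nat.card (Subgroup.centralizer ({g} : Set (SpecialLinearGroup (Fin 2) F))) =
      Nat.card {p : F × F // nform (g : Matrix (Fin 2) (Fin 2) F).trace p.1 p.2 = 1} := by
  symm
  have hdet : ∀ p : {p : F × F // nform (g : Matrix (Fin 2) (Fin 2) F).trace p.1 p.2 = 1},
      (p.1.1 • (1 : Matrix (Fin 2) (Fin 2) F) + p.1.2 • (g : Matrix (Fin 2) (Fin 2) F)).det = 1 := by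
    intro p
    rw [det_smul_one_add_smul, g.det_coe, mul_one]
    exact p.2
  have hmem : ∀ p : {p : F × F // nform (g : Matrix (Fin 2) (Fin 2) F).trace p.1 p.2 = 1},
      mkSL2 _ (hdet p) ∈ Subgroup.centralizer ({g} : Set (SpecialLinearGroup (Fin 2) F)) := by
    intro p
    rw [Subgroup.mem_centralizer_singleton_iff]
    apply Subtype.ext
    show (p.1.1 • (1 : Matrix (Fin 2) (Fin 2) F) + p.1.2 • (g : Matrix (Fin 2) (Fin 2) F)) *
        (g : Matrix (Fin 2) (Fin 2) F) = (g : Matrix (Fin 2) (Fin 2) F) *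
        (p.1.1 • (1 : Matrix (Fin 2) (Fin 2) F) + p.1.2 • (g : Matrix (Fin 2) (Fin 2) F))
    rw [add_mul, mul_add, smul_mul_assoc, one_mul, mul_smul_comm, mul_one, smul_mul_assoc,
      mul_smul_comm]
  apply Nat.card_eq_of_bijective
    (fun p : {p : F × F // nform (g : Matrix (Fin 2) (Fin 2) F).trace p.1 p.2 = 1} =>
      (⟨mkSL2 _ (hdet p), hmem p⟩ :
        Subgroup.centralizer ({g} : Set (SpecialLinearGroup (Fin 2) F))))
  constructor
  · rintro ⟨⟨a, b⟩, hp⟩ ⟨⟨a', b'⟩, hp'⟩ h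
    have h1 : a • (1 : Matrix (Fin 2) (Fin 2) F) + b • (g : Matrix (Fin 2) (Fin 2) F) =
        a' • (1 : Matrix (Fin 2) (Fin 2) F) + b' • (g : Matrix (Fin 2) (Fin 2) F) :=
      congrArg (fun z : Subgroup.centralizer ({g} : Set (SpecialLinearGroup (Fin 2) F)) =>
        ((z : SpecialLinearGroup (Fin 2) F) : Matrix (Fin 2) (Fin 2) F)) h
    have hb : b = b' := by
      by_contra hne
      apply hg
      refine ⟨(a' - a) / (b - b'), ?_⟩
      have h2 : (b - b') • (g : Matrix (Fin 2) (Fin 2) F) =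
          (a' - a) • (1 : Matrix (Fin 2) (Fin 2) F) := by
        rw [sub_smul, sub_smul]
        rw [sub_eq_sub_iff_add_eq_add]
        rw [add_comm, h1, add_comm]
      have h3 : b - b' ≠ 0 := sub_ne_zero.2 hne
      calc (g : Matrix (Fin 2) (Fin 2) F)
          = (b - b')⁻¹ • ((b - b') • (g : Matrix (Fin 2) (Fin 2) F)) := by
            rw [smul_smul, inv_mul_cancel₀ h3, one_smul]
        _ = ((a' - a) / (b - b')) • (1 : Matrix (Fin 2) (Fin 2) F) := by
          rw [h2, smul_smul, div_eq_inv_mul]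
    subst hb
    have ha : a • (1 : Matrix (Fin 2) (Fin 2) F) = a' • (1 : Matrix (Fin 2) (Fin 2) F) :=
      add_right_cancel h1
    have ha' : a = a' := by
      have := congrFun (congrFun ha 0) 0
      simpa using this
    subst ha'
    rfl
  · rintro ⟨x, hx⟩
    rw [Subgroup.mem_centralizer_singleton_iff] at hx
    have hx' : (x : Matrix (Fin 2) (Fin 2) F) * (g : Matrix (Fin 2) (Fin 2) F) =
        (g : Matrix (Fin 2) (Fin 2) F) * (x : Matrix (Fin 2) (Fin 2) F) := by
      have := congrArg (fun z : SpecialLinearGroup (Fin 2) F => (z : Matrix (Fin 2) (Fin 2) F)) hx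
      exact this
    obtain ⟨a, b, hab⟩ := exists_of_commute _ _ hg hx'
    have hn : nform (g : Matrix (Fin 2) (Fin 2) F).trace a b = 1 := by
      have h1 := det_smul_one_add_smul (g : Matrix (Fin 2) (Fin 2) F) a b
      rw [← hab, x.det_coe, g.det_coe, mul_one] at h1
      exact h1.symm
    refine ⟨⟨(a, b), hn⟩, ?_⟩
    apply Subtype.ext
    apply Subtype.ext
    exact hab.symm

end centralizer

end Cfsg.Agent.Lib.Helper5
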