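import Mathlib
import Cfsg.Agent.Lib.Helper5.SL2Basic

set_option autoImplicit false

namespace Cfsg.Agent.Lib.Helper5

section conic
variable {F : Type*} [Field F]

theorem nform_param (t x b : F) :
    nform t (1 - x * b) b = 1 + b * (b * (x ^ 2 - t * x + 1) - (2 * x - t)) := by
  unfold nform
  ring

theorem sq_eq_four_of_root (t x : F) (h1 : x ^ 2 - t * x + 1 = 0) (h2 : 2 * x - t = 0) :
    t ^ 2 = 4 := by
  have ht : t = 2 * x := (sub_eq_zero.1 h2).symm
  have hx : x ^ 2 = 1 := by
    rw [ht] at h1
    linear_combination -h1
  rw [ht]
  linear_combination 4 * hx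

variable [Fintype F] [DecidableEq F]

/-- number of roots of `X² − tX + 1` -/
def rootCount (t : F) : ℕ := (Finset.univ.filter (fun x : F => x ^ 2 - t * x + 1 = 0)).card

theorem card_sq_eq_one_add (t : F) (ht : t ^ 2 ≠ 4) :
    (Finset.univ.filter (fun a : F => a ^ 2 = 1)).card =
      1 + (Finset.univ.filter (fun x : F => 2 * x - t = 0)).card := by
  by_cases h2 : (2 : F) = 0
  · have ht0 : t ≠ 0 := by
      intro h
      apply ht
      rw [h]
      have : (4 : F) = 2 * 2 := by norm_num
      rw [this, h2]
      ring
    have hE : Finset.univ.filter (fun x : F => 2 * x - t = 0) = ∅ := by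
      apply Finset.filter_eq_empty_iff.2
      intro x _ h
      rw [h2, zero_mul, zero_sub, neg_eq_zero] at h
      exact ht0 h
    have hA : Finset.univ.filter (fun a : F => a ^ 2 = 1) = {1} := by
      ext a
      simp only [Finset.mem_filter, Finset.mem_univ, true_and, Finset.mem_singleton]
      constructor
      · intro h
        have h3 : (a - 1) ^ 2 = 0 := by
          linear_combination h + (1 - a) * h2
        exact sub_eq_zero.1 ((pow_eq_zero_iff (two_ne_zero)).1 h3)
      · rintro rfl
        ring
    rw [hE, hA]
    simp
  · have hE : Finset.univ.filter (fun x : F => 2 * x - t = 0) = {t / 2} := by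
      ext x
      simp only [Finset.mem_filter, Finset.mem_univ, true_and, Finset.mem_singleton]
      constructor
      · intro h
        field_simp
        linear_combination h
      · rintro rfl
        field_simp
        ring
    have hA : Finset.univ.filter (fun a : F => a ^ 2 = 1) = {1, -1} := by
      ext a
      simp only [Finset.mem_filter, Finset.mem_univ, true_and, Finset.mem_insert,
        Finset.mem_singleton]
      constructor
      · intro h
        have h3 : (a - 1) * (a + 1) = 0 := by linear_combination h
        rcases mul_eq_zero.1 h3 with h | h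
        · left; exact sub_eq_zero.1 h
        · right; exact eq_neg_of_add_eq_zero_left h
      · rintro (rfl | rfl) <;> ring
    have hne : (1 : F) ≠ -1 := by
      intro h
      apply h2
      linear_combination h
    rw [hE, hA, Finset.card_pair hne, Finset.card_singleton]

/-- The number of points on the conic `a² + tab + b² = 1` for `t² ≠ 4`. -/
theorem card_nform_add_rootCount (t : F) (ht : t ^ 2 ≠ 4) :
    (Finset.univ.filter (fun p : F × F => nform t p.1 p.2 = 1)).card + rootCount t =
      Fintype.card F + 1 := by
  set S := Finset.univ.filter (fun p : F × F => nform t p.1 p.2 = 1) with hS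
  set X := Finset.univ.filter (fun x : F => x ^ 2 - t * x + 1 ≠ 0 ∧ 2 * x - t ≠ 0) with hX
  have hsplit := Finset.card_filter_add_card_filter_not (s := S) (fun p : F × F => p.2 = 0)
  have h0 : (S.filter (fun p : F × F => p.2 = 0)).card =
      (Finset.univ.filter (fun a : F => a ^ 2 = 1)).card := by
    apply Finset.card_nbij' (fun p : F × F => p.1) (fun a : F => (a, 0))
    · intro p hp
      simp only [hS, Finset.mem_coe, Finset.mem_filter, Finset.mem_univ, true_and] at hp ⊢
      obtain ⟨h1, h2⟩ := hp
      rw [h2] at h1
      unfold nform at h1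
      linear_combination h1
    · intro a ha
      simp only [hS, Finset.mem_coe, Finset.mem_filter, Finset.mem_univ, true_and] at ha ⊢
      refine ⟨?_, trivial⟩
      unfold nform
      linear_combination ha
    · intro p hp
      simp only [hS, Finset.mem_coe, Finset.mem_filter, Finset.mem_univ, true_and] at hp
      exact Prod.ext rfl hp.2.symm
    · intro a _
      rfl
  have key : ∀ p : F × F, nform t p.1 p.2 = 1 → p.2 ≠ 0 →
      p.2 * (((1 - p.1) / p.2) ^ 2 - t * ((1 - p.1) / p.2) + 1) = 2 * ((1 - p.1) / p.2) - t := by
    intro p h1 h2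
    have h3 := nform_param t ((1 - p.1) / p.2) p.2
    have h4 : 1 - (1 - p.1) / p.2 * p.2 = p.1 := by
      field_simp
      ring
    rw [h4, h1] at h3
    have h5 : p.2 * (p.2 * (((1 - p.1) / p.2) ^ 2 - t * ((1 - p.1) / p.2) + 1) -
        (2 * ((1 - p.1) / p.2) - t)) = 0 := by linear_combination -h3
    rcases mul_eq_zero.1 h5 with h | h
    · exact absurd h h2
    · exact sub_eq_zero.1 h
  have h1 : (S.filter (fun p : F × F => ¬ p.2 = 0)).card = X.card := by
    apply Finset.card_nbij' (fun p : F × F => (1 - p.1) / p.2)
      (fun x : F => (1 - x * ((2 * x - t) / (x ^ 2 - t * x + 1)), (2 * x - t) / (x ^ 2 - t * x + 1)))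
    · intro p hp
      simp only [hS, hX, Finset.mem_coe, Finset.mem_filter, Finset.mem_univ, true_and] at hp ⊢
      obtain ⟨h1, h2⟩ := hp
      have hk := key p h1 h2
      constructor
      · intro h
        rw [h, mul_zero] at hk
        exact ht (sq_eq_four_of_root t _ h hk.symm)
      · intro h
        rw [h] at hk
        rcases mul_eq_zero.1 hk with h' | h'
        · exact h2 h'
        · exact ht (sq_eq_four_of_root t _ h' h)
    · intro x hx
      simp only [hS, hX, Finset.mem_coe, Finset.mem_filter, Finset.mem_univ, true_and] at hx ⊢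
      obtain ⟨h1, h2⟩ := hx
      constructor
      · rw [nform_param]
        have : (2 * x - t) / (x ^ 2 - t * x + 1) * (x ^ 2 - t * x + 1) = 2 * x - t :=
          div_mul_cancel₀ _ h1
        rw [this, sub_self, mul_zero, add_zero]
      · exact div_ne_zero h2 h1
    · intro p hp
      simp only [hS, Finset.mem_coe, Finset.mem_filter, Finset.mem_univ, true_and] at hp
      obtain ⟨h1, h2⟩ := hp
      have hk := key p h1 h2
      have hne : ((1 - p.1) / p.2) ^ 2 - t * ((1 - p.1) / p.2) + 1 ≠ 0 := by
        intro h
        rw [h, mul_zero] at hk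
        exact ht (sq_eq_four_of_root t _ h hk.symm)
      have hb : (2 * ((1 - p.1) / p.2) - t) / (((1 - p.1) / p.2) ^ 2 - t * ((1 - p.1) / p.2) + 1) =
          p.2 := by
        rw [← hk, mul_div_assoc, div_self hne, mul_one]
      apply Prod.ext
      · show 1 - (1 - p.1) / p.2 * _ = p.1
        rw [hb]
        field_simp
        ring
      · exact hb
    · intro x hx
      simp only [hX, Finset.mem_coe, Finset.mem_filter, Finset.mem_univ, true_and] at hx
      obtain ⟨h1, h2⟩ := hx
      have hb : (2 * x - t) / (x ^ 2 - t * x + 1) ≠ 0 := div_ne_zero h2 h1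
      show (1 - (1 - x * ((2 * x - t) / (x ^ 2 - t * x + 1)))) / ((2 * x - t) / (x ^ 2 - t * x + 1)) = x
      rw [sub_sub_cancel, mul_div_assoc, div_self hb, mul_one]
  -- count X
  have hdisj : Disjoint (Finset.univ.filter (fun x : F => x ^ 2 - t * x + 1 = 0))
      (Finset.univ.filter (fun x : F => 2 * x - t = 0)) := by
    rw [Finset.disjoint_filter]
    intro x _ h1 h2
    exact ht (sq_eq_four_of_root t x h1 h2)
  have hunion : (Finset.univ.filter (fun x : F => x ^ 2 - t * x + 1 = 0)) ∪
      (Finset.univ.filter (fun x : F => 2 * x - t = 0)) = Xᶜ := by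
    ext x
    simp only [hX, Finset.mem_union, Finset.mem_filter, Finset.mem_univ, true_and,
      Finset.mem_compl]
    tauto
  have hcount : rootCount t + (Finset.univ.filter (fun x : F => 2 * x - t = 0)).card + X.card =
      Fintype.card F := by
    unfold rootCount
    rw [← Finset.card_union_of_disjoint hdisj, hunion, Finset.card_compl]
    have := Finset.card_le_univ X
    omega
  have h2 := card_sq_eq_one_add t ht
  omega

end conic

end Cfsg.Agent.Lib.Helper5
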