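import Mathlib
import Cfsg.Agent.Lib.Helper5.SL2Conic

set_option autoImplicit false

namespace Cfsg.Agent.Lib.Helper5

section degenerate
variable {F : Type*} [Field F] [Fintype F] [DecidableEq F]

theorem card_nform_of_sq_eq_four (t : F) (ht : t ^ 2 = 4) :
    (Finset.univ.filter (fun p : F × F => nform t p.1 p.2 = 1)).card =
      if (2 : F) = 0 then Fintype.card F else 2 * Fintype.card F := by
  by_cases h2 : (2 : F) = 0
  · rw [if_pos h2]
    have h4 : (4 : F) = 0 := by
      have : (4 : F) = 2 * 2 := by norm_num
      rw [this, h2, zero_mul]
    have ht0 : t = 0 := by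
      rw [h4] at ht
      exact (pow_eq_zero_iff two_ne_zero).1 ht
    rw [← Finset.card_univ (α := F)]
    apply Finset.card_nbij' (fun p : F × F => p.2) (fun b : F => (1 - b, b))
    · intro p _
      exact Finset.mem_coe.2 (Finset.mem_univ _)
    · intro b _
      simp only [Finset.mem_coe, Finset.mem_filter, Finset.mem_univ, true_and]
      unfold nform
      rw [ht0]
      linear_combination (b ^ 2 - b) * h2
    · intro p hp
      simp only [Finset.mem_coe, Finset.mem_filter, Finset.mem_univ, true_and] at hp
      unfold nform at hp
      rw [ht0] at hp
      have h3 : (p.1 + p.2 - 1) ^ 2 = 0 := by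
        linear_combination hp + (p.1 * p.2 - p.1 - p.2 + 1) * h2
      have h5 : p.1 + p.2 - 1 = 0 := (pow_eq_zero_iff two_ne_zero).1 h3
      apply Prod.ext
      · show 1 - p.2 = p.1
        linear_combination -h5
      · rfl
    · intro b _
      rfl
  · rw [if_neg h2]
    have hA : (Finset.univ.filter (fun a : F => a ^ 2 = 1)).card = 2 := by
      have hA : Finset.univ.filter (fun a : F => a ^ 2 = 1) = {1, -1} := by
        ext a
        simp only [Finset.mem_filter, Finset.mem_univ, true_and, Finset.mem_insert,
          Finset.mem_singleton]
        constructor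
        · intro h
          have h3 : (a - 1) * (a + 1) = 0 := by linear_combination h
          rcases mul_eq_zero.1 h3 with h | h
          · left; exact sub_eq_zero.1 h
          · right; exact eq_neg_of_add_eq_zero_left h
        · rintro (rfl | rfl) <;> ring
      have hne : (1 : F) ≠ -1 := by
        intro h
        apply h2
        linear_combination h
      rw [hA, Finset.card_pair hne]
    have hsq : ∀ a b : F, nform t a b = (a + t / 2 * b) ^ 2 := by
      intro a b
      unfold nform
      have h4 : (4 : F) ≠ 0 := by
        have : (4 : F) = 2 * 2 := by norm_num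
        rw [this]
        exact mul_ne_zero h2 h2
      have : (t / 2) ^ 2 = 1 := by
        rw [div_pow, ht]
        have : (2 : F) ^ 2 = 4 := by norm_num
        rw [this, div_self h4]
      have e : (a + t / 2 * b) ^ 2 = a ^ 2 + 2 * (t / 2) * a * b + (t / 2) ^ 2 * b ^ 2 := by ring
      rw [e, this, mul_div_cancel₀ _ h2]
      ring
    have hcard : (Finset.univ.filter (fun p : F × F => nform t p.1 p.2 = 1)).card =
        ((Finset.univ.filter (fun a : F => a ^ 2 = 1)) ×ˢ (Finset.univ : Finset F)).card := by
      apply Finset.card_nbij' (fun p : F × F => (p.1 + t / 2 * p.2, p.2))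
        (fun p : F × F => (p.1 - t / 2 * p.2, p.2))
      · intro p hp
        simp only [Finset.mem_coe, Finset.mem_filter, Finset.mem_univ, true_and,
          Finset.mem_product, and_true] at hp ⊢
        rw [← hsq]
        exact hp
      · intro p hp
        simp only [Finset.mem_coe, Finset.mem_filter, Finset.mem_univ, true_and,
          Finset.mem_product, and_true] at hp ⊢
        rw [hsq, sub_add_cancel]
        exact hp
      · intro p _
        apply Prod.ext
        · show p.1 + t / 2 * p.2 - t / 2 * p.2 = p.1
          ring
        · rfl
      · intro p _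
        apply Prod.ext
        · show p.1 - t / 2 * p.2 + t / 2 * p.2 = p.1
          ring
        · rfl
    rw [hcard, Finset.card_product, hA, Finset.card_univ]

theorem card_mul_eq (e : F) :
    (Finset.univ.filter (fun p : F × F => p.1 * p.2 = e)).card =
      if e = 0 then 2 * Fintype.card F - 1 else Fintype.card F - 1 := by
  by_cases he : e = 0
  · rw [if_pos he, he]
    have hS : Finset.univ.filter (fun p : F × F => p.1 * p.2 = 0) =
        (({0} : Finset F) ×ˢ (Finset.univ : Finset F)) ∪ ((Finset.univ : Finset F) ×ˢ ({0} : Finset F)) := by
      ext p
      simp only [Finset.mem_filter, Finset.mem_univ, true_and, Finset.mem_union, Finset.mem_product,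
        Finset.mem_singleton, and_true]
      exact mul_eq_zero
    have hI : (({0} : Finset F) ×ˢ (Finset.univ : Finset F)) ∩
        ((Finset.univ : Finset F) ×ˢ ({0} : Finset F)) = {((0 : F), (0 : F))} := by
      ext p
      simp only [Finset.mem_inter, Finset.mem_product, Finset.mem_singleton, Finset.mem_univ,
        and_true, true_and]
      constructor
      · rintro ⟨h1, h2⟩; exact Prod.ext h1 h2
      · rintro rfl; exact ⟨rfl, rfl⟩
    have h1 := Finset.card_union_add_card_inter (({0} : Finset F) ×ˢ (Finset.univ : Finset F))
      ((Finset.univ : Finset F) ×ˢ ({0} : Finset F))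
    rw [hI, Finset.card_singleton, Finset.card_product, Finset.card_product, Finset.card_singleton,
      Finset.card_univ, ← hS] at h1
    omega
  · rw [if_neg he]
    have hcard : (Finset.univ.filter (fun p : F × F => p.1 * p.2 = e)).card =
        (Finset.univ.filter (fun b : F => b ≠ 0)).card := by
      apply Finset.card_nbij' (fun p : F × F => p.1) (fun b : F => (b, e / b))
      · intro p hp
        simp only [Finset.mem_coe, Finset.mem_filter, Finset.mem_univ, true_and] at hp ⊢
        intro h
        rw [h, zero_mul] at hp
        exact he hp.symm
      · intro b hb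
        simp only [Finset.mem_coe, Finset.mem_filter, Finset.mem_univ, true_and] at hb ⊢
        exact mul_div_cancel₀ e hb
      · intro p hp
        simp only [Finset.mem_coe, Finset.mem_filter, Finset.mem_univ, true_and] at hp
        have h1 : p.1 ≠ 0 := by
          intro h
          rw [h, zero_mul] at hp
          exact he hp.symm
        apply Prod.ext
        · rfl
        · show e / p.1 = p.2
          rw [← hp, mul_div_cancel_left₀ _ h1]
      · intro b _
        rfl
    rw [hcard, Finset.filter_ne' Finset.univ (0 : F), Finset.card_erase_of_mem (Finset.mem_univ _),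
      Finset.card_univ]

end degenerate

end Cfsg.Agent.Lib.Helper5
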