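import Mathlib
import Cfsg.Agent.Lib.Helper5.SL2Conic2
import Cfsg.Agent.Lib.Helper5.SL2Centralizer

set_option autoImplicit false

namespace Cfsg.Agent.Lib.Helper5

open Matrix

section tracecount
variable {F : Type*} [Field F] [Fintype F] [DecidableEq F]

theorem card_mul_eq' (e : F) :
    Fintype.card {p : F × F // p.1 * p.2 = e} =
      (Fintype.card F - 1) + if e = 0 then Fintype.card F else 0 := by
  rw [Fintype.card_subtype, card_mul_eq]
  have hq : 1 ≤ Fintype.card F := Fintype.card_pos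
  split_ifs <;> omega

/-- elements of `SL₂` with given trace, as triples -/
def traceEquiv (t : F) :
    {g : SpecialLinearGroup (Fin 2) F // (g : Matrix (Fin 2) (Fin 2) F).trace = t} ≃
      {p : F × (F × F) // p.2.1 * p.2.2 = p.1 * (t - p.1) - 1} where
  toFun g := ⟨((g.1 : Matrix (Fin 2) (Fin 2) F) 0 0,
      ((g.1 : Matrix (Fin 2) (Fin 2) F) 0 1, (g.1 : Matrix (Fin 2) (Fin 2) F) 1 0)), by
    have h1 := g.1.det_coe
    have h2 := g.2
    rw [Matrix.det_fin_two] at h1
    rw [Matrix.trace_fin_two] at h2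
    show (g.1 : Matrix (Fin 2) (Fin 2) F) 0 1 * (g.1 : Matrix (Fin 2) (Fin 2) F) 1 0 =
      (g.1 : Matrix (Fin 2) (Fin 2) F) 0 0 * (t - (g.1 : Matrix (Fin 2) (Fin 2) F) 0 0) - 1
    linear_combination -h1 + (g.1 : Matrix (Fin 2) (Fin 2) F) 0 0 * h2⟩
  invFun p := ⟨mkSL2 !![p.1.1, p.1.2.1; p.1.2.2, t - p.1.1] (by
      rw [Matrix.det_fin_two_of]
      linear_combination -p.2), by
    rw [mkSL2_coe, Matrix.trace_fin_two_of]
    ring⟩
  left_inv g := by
    obtain ⟨g, rfl⟩ := g
    apply Subtype.ext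
    apply Subtype.ext
    show !![(g : Matrix (Fin 2) (Fin 2) F) 0 0, (g : Matrix (Fin 2) (Fin 2) F) 0 1;
      (g : Matrix (Fin 2) (Fin 2) F) 1 0,
      (g : Matrix (Fin 2) (Fin 2) F).trace - (g : Matrix (Fin 2) (Fin 2) F) 0 0] =
      (g : Matrix (Fin 2) (Fin 2) F)
    rw [Matrix.trace_fin_two, add_sub_cancel_left]
    exact (Matrix.eta_fin_two _).symm
  right_inv p := by
    apply Subtype.ext
    rfl

theorem card_trace_eq (t : F) :
    Nat.card {g : SpecialLinearGroup (Fin 2) F // (g : Matrix (Fin 2) (Fin 2) F).trace = t} =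
      Fintype.card F * (Fintype.card F - 1 + rootCount t) := by
  rw [Nat.card_congr (traceEquiv t),
    Nat.card_congr (Equiv.subtypeProdEquivSigmaSubtype
      (fun (a : F) (bc : F × F) => bc.1 * bc.2 = a * (t - a) - 1)),
    Nat.card_eq_fintype_card, Fintype.card_sigma]
  simp_rw [card_mul_eq']
  rw [Finset.sum_add_distrib, Finset.sum_const, Finset.card_univ, smul_eq_mul, ← Finset.sum_filter,
    Finset.sum_const, smul_eq_mul]
  have hr : (Finset.univ.filter (fun a : F => a * (t - a) - 1 = 0)).card = rootCount t := by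
    unfold rootCount
    congr 1
    ext a
    simp only [Finset.mem_filter, Finset.mem_univ, true_and]
    constructor
    · intro h; linear_combination -h
    · intro h; linear_combination -h
  rw [hr]
  ring

/-- elements of `SL₂` as quadruples -/
def sl2Equiv :
    SpecialLinearGroup (Fin 2) F ≃ {p : (F × F) × (F × F) // p.2.1 * p.2.2 = p.1.1 * p.1.2 - 1} where
  toFun g := ⟨(((g : Matrix (Fin 2) (Fin 2) F) 0 0, (g : Matrix (Fin 2) (Fin 2) F) 1 1),
      ((g : Matrix (Fin 2) (Fin 2) F) 0 1, (g : Matrix (Fin 2) (Fin 2) F) 1 0)), by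
    have h1 := g.det_coe
    rw [Matrix.det_fin_two] at h1
    show (g : Matrix (Fin 2) (Fin 2) F) 0 1 * (g : Matrix (Fin 2) (Fin 2) F) 1 0 =
      (g : Matrix (Fin 2) (Fin 2) F) 0 0 * (g : Matrix (Fin 2) (Fin 2) F) 1 1 - 1
    linear_combination -h1⟩
  invFun p := mkSL2 !![p.1.1.1, p.1.2.1; p.1.2.2, p.1.1.2] (by
      rw [Matrix.det_fin_two_of]
      linear_combination -p.2)
  left_inv g := by
    apply Subtype.ext
    exact (Matrix.eta_fin_two _).symm
  right_inv p := by
    apply Subtype.ext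
    rfl

theorem card_SL2 :
    Nat.card (SpecialLinearGroup (Fin 2) F) =
      Fintype.card F * (Fintype.card F - 1) * (Fintype.card F + 1) := by
  rw [Nat.card_congr sl2Equiv,
    Nat.card_congr (Equiv.subtypeProdEquivSigmaSubtype
      (fun (ad : F × F) (bc : F × F) => bc.1 * bc.2 = ad.1 * ad.2 - 1)),
    Nat.card_eq_fintype_card, Fintype.card_sigma]
  simp_rw [card_mul_eq']
  rw [Finset.sum_add_distrib, Finset.sum_const, Finset.card_univ, smul_eq_mul, ← Finset.sum_filter,
    Finset.sum_const, smul_eq_mul, Fintype.card_prod]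
  have hr : (Finset.univ.filter (fun ad : F × F => ad.1 * ad.2 - 1 = 0)).card =
      Fintype.card F - 1 := by
    have h1 := card_mul_eq (1 : F)
    rw [if_neg one_ne_zero] at h1
    rw [← h1]
    congr 1
    ext a
    simp only [Finset.mem_filter, Finset.mem_univ, true_and]
    exact sub_eq_zero
  rw [hr]
  ring

end tracecount

end Cfsg.Agent.Lib.Helper5
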