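import Mathlib
import Cfsg.Agent.Lib.Helper5.SL2Count

set_option autoImplicit false

namespace Cfsg.Agent.Lib.Helper5

open Matrix

section roots
variable {F : Type*} [Field F] [Fintype F] [DecidableEq F]

theorem rootCount_eq_zero_or_two (t : F) (ht : t ^ 2 ≠ 4) : rootCount t = 0 ∨ rootCount t = 2 := by
  unfold rootCount
  by_cases h : ∃ x : F, x ^ 2 - t * x + 1 = 0
  · right
    obtain ⟨x, hx⟩ := h
    have hne : x ≠ t - x := by
      intro h1
      apply ht
      apply sq_eq_four_of_root t x hx
      linear_combination h1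
    have hset : Finset.univ.filter (fun y : F => y ^ 2 - t * y + 1 = 0) = {x, t - x} := by
      ext y
      simp only [Finset.mem_filter, Finset.mem_univ, true_and, Finset.mem_insert,
        Finset.mem_singleton]
      constructor
      · intro hy
        have h3 : (y - x) * (y - (t - x)) = 0 := by linear_combination hy - hx
        rcases mul_eq_zero.1 h3 with h | h
        · left; exact sub_eq_zero.1 h
        · right; exact sub_eq_zero.1 h
      · rintro (rfl | rfl)
        · exact hx
        · linear_combination hx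
    rw [hset, Finset.card_pair hne]
  · left
    push Not at h
    rw [Finset.card_eq_zero]
    apply Finset.filter_eq_empty_iff.2
    intro x _
    exact h x

theorem rootCount_eq_one (t : F) (ht : t ^ 2 = 4) (h2 : (2 : F) ≠ 0) : rootCount t = 1 := by
  unfold rootCount
  have hset : Finset.univ.filter (fun y : F => y ^ 2 - t * y + 1 = 0) = {t / 2} := by
    ext y
    simp only [Finset.mem_filter, Finset.mem_univ, true_and, Finset.mem_singleton]
    have h4 : (4 : F) ≠ 0 := by
      have : (4 : F) = 2 * 2 := by norm_num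
      rw [this]
      exact mul_ne_zero h2 h2
    have e : y ^ 2 - t * y + 1 = (y - t / 2) ^ 2 := by
      have : (t / 2) ^ 2 = 1 := by
        rw [div_pow, ht]
        have : (2 : F) ^ 2 = 4 := by norm_num
        rw [this, div_self h4]
      have e2 : (y - t / 2) ^ 2 = y ^ 2 - 2 * (t / 2) * y + (t / 2) ^ 2 := by ring
      rw [e2, this, mul_div_cancel₀ _ h2]
    rw [e]
    constructor
    · intro h
      exact sub_eq_zero.1 ((pow_eq_zero_iff two_ne_zero).1 h)
    · rintro rfl
      rw [sub_self]
      ring
  rw [hset, Finset.card_singleton]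

end roots

section scalar
variable {F : Type*} [Field F]

/-- scalar elements of `SL₂` are central -/
theorem centralizer_eq_top_of_scalar (g : SpecialLinearGroup (Fin 2) F) (c : F)
    (hg : (g : Matrix (Fin 2) (Fin 2) F) = c • (1 : Matrix (Fin 2) (Fin 2) F)) :
    Subgroup.centralizer ({g} : Set (SpecialLinearGroup (Fin 2) F)) = ⊤ := by
  rw [eq_top_iff]
  intro x _
  rw [Subgroup.mem_centralizer_singleton_iff]
  apply Subtype.ext
  show (x : Matrix (Fin 2) (Fin 2) F) * (g : Matrix (Fin 2) (Fin 2) F) =
    (g : Matrix (Fin 2) (Fin 2) F) * (x : Matrix (Fin 2) (Fin 2) F)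
  rw [hg, mul_smul_comm, mul_one, smul_mul_assoc, one_mul]

theorem sq_eq_four_of_scalar (g : SpecialLinearGroup (Fin 2) F) (c : F)
    (hg : (g : Matrix (Fin 2) (Fin 2) F) = c • (1 : Matrix (Fin 2) (Fin 2) F)) :
    (g : Matrix (Fin 2) (Fin 2) F).trace = 2 * c ∧ c ^ 2 = 1 := by
  have h1 := g.det_coe
  rw [hg, Matrix.det_fin_two] at h1
  simp only [Matrix.smul_apply, Matrix.one_apply_eq, smul_eq_mul, mul_one] at h1
  have h01 : (1 : Matrix (Fin 2) (Fin 2) F) 0 1 = 0 := Matrix.one_apply_ne (by decide)
  have h10 : (1 : Matrix (Fin 2) (Fin 2) F) 1 0 = 0 := Matrix.one_apply_ne (by decide)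
  rw [h01, h10] at h1
  constructor
  · rw [hg, Matrix.trace_fin_two]
    simp only [Matrix.smul_apply, Matrix.one_apply_eq, smul_eq_mul, mul_one]
    ring
  · linear_combination h1

end scalar

end Cfsg.Agent.Lib.Helper5
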