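import Mathlib
import Cfsg.Agent.S2301

set_option autoImplicit false

namespace Cfsg.Agent.Lib.Helper5

open Matrix

section finite
variable {F : Type*} [Field F] [Fintype F] [DecidableEq F]

omit [Fintype F] [DecidableEq F] in
theorem not_scalar_of_sq_ne_four (g : SpecialLinearGroup (Fin 2) F)
    (ht : (g : Matrix (Fin 2) (Fin 2) F).trace ^ 2 ≠ 4) :
    ¬ ∃ c : F, (g : Matrix (Fin 2) (Fin 2) F) = c • (1 : Matrix (Fin 2) (Fin 2) F) := by
  rintro ⟨c, hc⟩
  obtain ⟨h1, h2⟩ := sq_eq_four_of_scalar g c hc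
  apply ht
  rw [h1]
  linear_combination 4 * h2

theorem card_centralizer_generic (g : SpecialLinearGroup (Fin 2) F)
    (ht : (g : Matrix (Fin 2) (Fin 2) F).trace ^ 2 ≠ 4) :
    Nat.card (Subgroup.centralizer ({g} : Set (SpecialLinearGroup (Fin 2) F))) +
      rootCount (g : Matrix (Fin 2) (Fin 2) F).trace = Fintype.card F + 1 := by
  have h := Cfsg.Agent.S2325.cent_of_not_scalar g (not_scalar_of_sq_ne_four g ht)
  unfold Cfsg.Agent.S2325.cent at h
  rw [h]
  exact card_nform_add_rootCount _ ht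

theorem card_centralizer_special (g : SpecialLinearGroup (Fin 2) F)
    (hg : ¬ ∃ c : F, (g : Matrix (Fin 2) (Fin 2) F) = c • (1 : Matrix (Fin 2) (Fin 2) F))
    (ht : (g : Matrix (Fin 2) (Fin 2) F).trace ^ 2 = 4) :
    Nat.card (Subgroup.centralizer ({g} : Set (SpecialLinearGroup (Fin 2) F))) =
      if (2 : F) = 0 then Fintype.card F else 2 * Fintype.card F := by
  have h := Cfsg.Agent.S2325.cent_of_not_scalar g hg
  unfold Cfsg.Agent.S2325.cent at h
  rw [h]
  exact card_nform_of_sq_eq_four _ ht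

theorem index_centralizer_of_rootCount_zero (g : SpecialLinearGroup (Fin 2) F)
    (ht : (g : Matrix (Fin 2) (Fin 2) F).trace ^ 2 ≠ 4)
    (hr : rootCount (g : Matrix (Fin 2) (Fin 2) F).trace = 0) :
    (Subgroup.centralizer ({g} : Set (SpecialLinearGroup (Fin 2) F))).index =
      Fintype.card F * (Fintype.card F - 1) := by
  have h1 := card_centralizer_generic g ht
  rw [hr, add_zero] at h1
  have h2 := Subgroup.index_mul_card (Subgroup.centralizer ({g} : Set (SpecialLinearGroup (Fin 2) F)))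
  rw [h1, card_SL2] at h2
  exact Nat.eq_of_mul_eq_mul_right (Nat.succ_pos _) h2

theorem index_centralizer_of_rootCount_two (g : SpecialLinearGroup (Fin 2) F)
    (ht : (g : Matrix (Fin 2) (Fin 2) F).trace ^ 2 ≠ 4)
    (hr : rootCount (g : Matrix (Fin 2) (Fin 2) F).trace = 2) :
    (Subgroup.centralizer ({g} : Set (SpecialLinearGroup (Fin 2) F))).index =
      Fintype.card F * (Fintype.card F + 1) := by
  have hq : 2 ≤ Fintype.card F := Fintype.one_lt_card
  have h1 := card_centralizer_generic g ht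
  rw [hr] at h1
  have h1' : Nat.card (Subgroup.centralizer ({g} : Set (SpecialLinearGroup (Fin 2) F))) =
      Fintype.card F - 1 := by omega
  have h2 := Subgroup.index_mul_card (Subgroup.centralizer ({g} : Set (SpecialLinearGroup (Fin 2) F)))
  rw [h1', card_SL2] at h2
  have h3 : (Subgroup.centralizer ({g} : Set (SpecialLinearGroup (Fin 2) F))).index *
      (Fintype.card F - 1) = Fintype.card F * (Fintype.card F + 1) * (Fintype.card F - 1) := by
    rw [h2]; ring
  exact Nat.eq_of_mul_eq_mul_right (by omega) h3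

theorem index_centralizer_special_even (g : SpecialLinearGroup (Fin 2) F)
    (hg : ¬ ∃ c : F, (g : Matrix (Fin 2) (Fin 2) F) = c • (1 : Matrix (Fin 2) (Fin 2) F))
    (ht : (g : Matrix (Fin 2) (Fin 2) F).trace ^ 2 = 4) (h2 : (2 : F) = 0) :
    (Subgroup.centralizer ({g} : Set (SpecialLinearGroup (Fin 2) F))).index =
      Fintype.card F ^ 2 - 1 := by
  have hq : 2 ≤ Fintype.card F := Fintype.one_lt_card
  have h1 := card_centralizer_special g hg ht
  rw [if_pos h2] at h1
  have h3 := Subgroup.index_mul_card (Subgroup.centralizer ({g} : Set (SpecialLinearGroup (Fin 2) F)))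
  rw [h1, card_SL2] at h3
  obtain ⟨m, hm⟩ : ∃ m, Fintype.card F = m + 1 := ⟨Fintype.card F - 1, by omega⟩
  rw [hm] at h3 ⊢
  have e1 : (m + 1) ^ 2 - 1 = m * (m + 2) := by
    have : (m + 1) ^ 2 = m * (m + 2) + 1 := by ring
    omega
  have e2 : m + 1 - 1 = m := by omega
  rw [e1]
  rw [e2] at h3
  have h4 : (Subgroup.centralizer ({g} : Set (SpecialLinearGroup (Fin 2) F))).index * (m + 1) =
      m * (m + 2) * (m + 1) := by
    rw [h3]; ring
  exact Nat.eq_of_mul_eq_mul_right (Nat.succ_pos _) h4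

theorem index_centralizer_special_odd (g : SpecialLinearGroup (Fin 2) F)
    (hg : ¬ ∃ c : F, (g : Matrix (Fin 2) (Fin 2) F) = c • (1 : Matrix (Fin 2) (Fin 2) F))
    (ht : (g : Matrix (Fin 2) (Fin 2) F).trace ^ 2 = 4) (h2 : (2 : F) ≠ 0) :
    (Subgroup.centralizer ({g} : Set (SpecialLinearGroup (Fin 2) F))).index * 2 =
      Fintype.card F ^ 2 - 1 := by
  have hq : 2 ≤ Fintype.card F := Fintype.one_lt_card
  have h1 := card_centralizer_special g hg ht
  rw [if_neg h2] at h1
  have h3 := Subgroup.index_mul_card (Subgroup.centralizer ({g} : Set (SpecialLinearGroup (Fin 2) F)))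
  rw [h1, card_SL2] at h3
  obtain ⟨m, hm⟩ : ∃ m, Fintype.card F = m + 1 := ⟨Fintype.card F - 1, by omega⟩
  rw [hm] at h3 ⊢
  have e1 : (m + 1) ^ 2 - 1 = m * (m + 2) := by
    have : (m + 1) ^ 2 = m * (m + 2) + 1 := by ring
    omega
  have e2 : m + 1 - 1 = m := by omega
  rw [e1]
  rw [e2] at h3
  have h4 : (Subgroup.centralizer ({g} : Set (SpecialLinearGroup (Fin 2) F))).index * 2 * (m + 1) =
      m * (m + 2) * (m + 1) := by
    linarith
  exact Nat.eq_of_mul_eq_mul_right (Nat.succ_pos _) h4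

/-- class size for a generic trace -/
theorem card_class_generic (g : SpecialLinearGroup (Fin 2) F)
    (ht : (g : Matrix (Fin 2) (Fin 2) F).trace ^ 2 ≠ 4) :
    Nat.card (ConjClasses.mk g).carrier =
      Fintype.card F * (Fintype.card F - 1 + rootCount (g : Matrix (Fin 2) (Fin 2) F).trace) := by
  have hq : 2 ≤ Fintype.card F := Fintype.one_lt_card
  have h1 := card_centralizer_generic g ht
  have h2 := Cfsg.Agent.S2301.card_class_mul_card_centralizer g
  rw [card_SL2] at h2
  rcases rootCount_eq_zero_or_two _ ht with h | h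
  · rw [h, add_zero] at h1 ⊢
    rw [h1] at h2
    exact Nat.eq_of_mul_eq_mul_right (Nat.succ_pos _) h2
  · rw [h] at h1 ⊢
    have h1' : Nat.card (Subgroup.centralizer ({g} : Set (SpecialLinearGroup (Fin 2) F))) =
        Fintype.card F - 1 := by omega
    rw [h1'] at h2
    have e : Fintype.card F - 1 + 2 = Fintype.card F + 1 := by omega
    rw [e]
    have h3 : Nat.card (ConjClasses.mk g).carrier * (Fintype.card F - 1) =
        Fintype.card F * (Fintype.card F + 1) * (Fintype.card F - 1) := by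
      rw [h2]; ring
    exact Nat.eq_of_mul_eq_mul_right (by omega) h3

/-- two elements with the same generic trace are conjugate -/
theorem isConj_of_trace_eq (g h : SpecialLinearGroup (Fin 2) F)
    (hgh : (g : Matrix (Fin 2) (Fin 2) F).trace = (h : Matrix (Fin 2) (Fin 2) F).trace)
    (ht : (g : Matrix (Fin 2) (Fin 2) F).trace ^ 2 ≠ 4) : IsConj g h := by
  have hsub : (ConjClasses.mk g).carrier ⊆
      {x : SpecialLinearGroup (Fin 2) F | (x : Matrix (Fin 2) (Fin 2) F).trace =
        (g : Matrix (Fin 2) (Fin 2) F).trace} := by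
    intro x hx
    rw [ConjClasses.mem_carrier_iff_mk_eq, ConjClasses.mk_eq_mk_iff_isConj, isConj_comm,
      isConj_iff] at hx
    obtain ⟨c, hc⟩ := hx
    rw [Set.mem_ofPred_eq, ← hc]
    show ((c : Matrix (Fin 2) (Fin 2) F) * (g : Matrix (Fin 2) (Fin 2) F) *
      ((c⁻¹ : SpecialLinearGroup (Fin 2) F) : Matrix (Fin 2) (Fin 2) F)).trace = _
    rw [Matrix.trace_mul_cycle]
    have : ((c⁻¹ : SpecialLinearGroup (Fin 2) F) : Matrix (Fin 2) (Fin 2) F) *
        (c : Matrix (Fin 2) (Fin 2) F) = 1 := by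
      have h1 : c⁻¹ * c = 1 := inv_mul_cancel c
      exact congrArg (fun z : SpecialLinearGroup (Fin 2) F => (z : Matrix (Fin 2) (Fin 2) F)) h1
    rw [this, one_mul]
  have hcard : Nat.card {x : SpecialLinearGroup (Fin 2) F | (x : Matrix (Fin 2) (Fin 2) F).trace =
        (g : Matrix (Fin 2) (Fin 2) F).trace} = Nat.card (ConjClasses.mk g).carrier := by
    rw [card_class_generic g ht]
    exact card_trace_eq _
  have heq : (ConjClasses.mk g).carrier =
      {x : SpecialLinearGroup (Fin 2) F | (x : Matrix (Fin 2) (Fin 2) F).trace =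
        (g : Matrix (Fin 2) (Fin 2) F).trace} := by
    apply Set.eq_of_subset_of_ncard_le hsub
    · rw [← Nat.card_coe_set_eq, ← Nat.card_coe_set_eq, hcard]
  have hmem : h ∈ (ConjClasses.mk g).carrier := by
    rw [heq]
    exact hgh.symm
  rw [ConjClasses.mem_carrier_iff_mk_eq, ConjClasses.mk_eq_mk_iff_isConj] at hmem
  exact hmem.symm

end finite

end Cfsg.Agent.Lib.Helper5
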