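import Mathlib
import Cfsg.Agent.Lib.Helper5.SL2Class

set_option autoImplicit false

namespace Cfsg.Agent.Lib.Helper5

open Matrix

section even
variable {F : Type*} [Field F] [Fintype F] [DecidableEq F]

theorem rootCount_zero_even (h2 : (2 : F) = 0) : rootCount (0 : F) = 1 := by
  unfold rootCount
  have hset : Finset.univ.filter (fun y : F => y ^ 2 - 0 * y + 1 = 0) = {1} := by
    ext y
    simp only [Finset.mem_filter, Finset.mem_univ, true_and, Finset.mem_singleton]
    constructor
    · intro h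
      have : (y - 1) ^ 2 = 0 := by linear_combination h - y * h2
      exact sub_eq_zero.1 ((pow_eq_zero_iff two_ne_zero).1 this)
    · rintro rfl
      linear_combination h2
  rw [hset, Finset.card_singleton]

omit [Fintype F] [DecidableEq F] in
theorem trace_conj (c g : SpecialLinearGroup (Fin 2) F) :
    ((c * g * c⁻¹ : SpecialLinearGroup (Fin 2) F) : Matrix (Fin 2) (Fin 2) F).trace =
      (g : Matrix (Fin 2) (Fin 2) F).trace := by
  show ((c : Matrix (Fin 2) (Fin 2) F) * (g : Matrix (Fin 2) (Fin 2) F) *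
      ((c⁻¹ : SpecialLinearGroup (Fin 2) F) : Matrix (Fin 2) (Fin 2) F)).trace = _
  rw [Matrix.trace_mul_cycle]
  have : ((c⁻¹ : SpecialLinearGroup (Fin 2) F) : Matrix (Fin 2) (Fin 2) F) *
      (c : Matrix (Fin 2) (Fin 2) F) = 1 := by
    have h1 : c⁻¹ * c = 1 := inv_mul_cancel c
    exact congrArg (fun z : SpecialLinearGroup (Fin 2) F => (z : Matrix (Fin 2) (Fin 2) F)) h1
  rw [this, one_mul]

/-- in characteristic two all involutions of `SL₂` are conjugate -/
theorem isConj_of_trace_zero_even (h2 : (2 : F) = 0) (g h : SpecialLinearGroup (Fin 2) F)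
    (hg : ¬ ∃ c : F, (g : Matrix (Fin 2) (Fin 2) F) = c • (1 : Matrix (Fin 2) (Fin 2) F))
    (hh : ¬ ∃ c : F, (h : Matrix (Fin 2) (Fin 2) F) = c • (1 : Matrix (Fin 2) (Fin 2) F))
    (htg : (g : Matrix (Fin 2) (Fin 2) F).trace = 0)
    (hth : (h : Matrix (Fin 2) (Fin 2) F).trace = 0) : IsConj g h := by
  have hq : 2 ≤ Fintype.card F := Fintype.one_lt_card
  have h4 : (4 : F) = 0 := by
    have : (4 : F) = 2 * 2 := by norm_num
    rw [this, h2, zero_mul]
  set T : Set (SpecialLinearGroup (Fin 2) F) :=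
    {x | (x : Matrix (Fin 2) (Fin 2) F).trace = 0} \ {1} with hT
  have hsub : (ConjClasses.mk g).carrier ⊆ T := by
    intro x hx
    rw [ConjClasses.mem_carrier_iff_mk_eq, ConjClasses.mk_eq_mk_iff_isConj, isConj_comm,
      isConj_iff] at hx
    obtain ⟨c, hc⟩ := hx
    rw [hT, Set.mem_sdiff, Set.mem_ofPred_eq, Set.mem_singleton_iff, ← hc, trace_conj]
    refine ⟨htg, ?_⟩
    intro h1
    apply hg
    have : g = 1 := by
      have : g = c⁻¹ * (c * g * c⁻¹) * c := by group
      rw [this, h1]
      group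
    refine ⟨1, ?_⟩
    rw [this, one_smul]
    rfl
  have hcardT : T.ncard = Fintype.card F ^ 2 - 1 := by
    have h1 : (1 : SpecialLinearGroup (Fin 2) F) ∈
        {x : SpecialLinearGroup (Fin 2) F | (x : Matrix (Fin 2) (Fin 2) F).trace = 0} := by
      rw [Set.mem_ofPred_eq]
      show (1 : Matrix (Fin 2) (Fin 2) F).trace = 0
      rw [Matrix.trace_one, Fintype.card_fin]
      exact_mod_cast h2
    rw [hT, Set.ncard_sdiff_singleton_of_mem h1, ← Nat.card_coe_set_eq]
    have := card_trace_eq (0 : F)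
    rw [rootCount_zero_even h2] at this
    have e : Nat.card {x : SpecialLinearGroup (Fin 2) F |
        (x : Matrix (Fin 2) (Fin 2) F).trace = 0} = Fintype.card F * (Fintype.card F - 1 + 1) :=
      this
    rw [e]
    have : Fintype.card F - 1 + 1 = Fintype.card F := by omega
    rw [this, pow_two]
  have hcardC : (ConjClasses.mk g).carrier.ncard = Fintype.card F ^ 2 - 1 := by
    rw [← Nat.card_coe_set_eq]
    have h1 := Cfsg.Agent.S2301.card_class_mul_card_centralizer g
    have ht : (g : Matrix (Fin 2) (Fin 2) F).trace ^ 2 = 4 := by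
      rw [htg, h4]; ring
    rw [card_centralizer_special g hg ht, if_pos h2, card_SL2] at h1
    obtain ⟨m, hm⟩ : ∃ m, Fintype.card F = m + 1 := ⟨Fintype.card F - 1, by omega⟩
    rw [hm] at h1 ⊢
    have e1 : (m + 1) ^ 2 - 1 = m * (m + 2) := by
      have : (m + 1) ^ 2 = m * (m + 2) + 1 := by ring
      omega
    have e2 : m + 1 - 1 = m := by omega
    rw [e1]
    rw [e2] at h1
    have h5 : Nat.card (ConjClasses.mk g).carrier * (m + 1) = m * (m + 2) * (m + 1) := by
      rw [h1]; ring
    exact Nat.eq_of_mul_eq_mul_right (Nat.succ_pos _) h5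
  have heq : (ConjClasses.mk g).carrier = T := by
    apply Set.eq_of_subset_of_ncard_le hsub
    rw [hcardT, hcardC]
  have hmem : h ∈ (ConjClasses.mk g).carrier := by
    rw [heq, hT, Set.mem_sdiff, Set.mem_ofPred_eq, Set.mem_singleton_iff]
    refine ⟨hth, ?_⟩
    intro h1
    apply hh
    refine ⟨1, ?_⟩
    rw [h1, one_smul]
    rfl
  rw [ConjClasses.mem_carrier_iff_mk_eq, ConjClasses.mk_eq_mk_iff_isConj] at hmem
  exact hmem.symm

end even

end Cfsg.Agent.Lib.Helper5
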