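import Mathlib

set_option autoImplicit false

namespace Cfsg.Agent.Lib.Helper5

section
variable {N : Type*} [Group N]

/-- sum of centraliser orders = class number times group order -/
theorem sum_card_centralizer [Fintype N] :
    ∑ g : N, Nat.card (Subgroup.centralizer ({g} : Set N)) =
      Nat.card (ConjClasses N) * Nat.card N := by
  classical
  rw [← card_comm_eq_card_conjClasses_mul_card,
    Nat.card_congr (Equiv.subtypeProdEquivSigmaSubtype (fun (g x : N) => Commute g x)),
    Nat.card_eq_fintype_card, Fintype.card_sigma]
  apply Finset.sum_congr rfl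
  intro g _
  rw [← Nat.card_eq_fintype_card]
  apply Nat.card_congr
  apply Equiv.subtypeEquivRight
  intro x
  rw [Subgroup.mem_centralizer_singleton_iff]
  exact ⟨fun h => h.symm, fun h => h.symm⟩

/-- Class number of a group with an abelian subgroup `T` of index two which is inverted by every
element outside, and which has exactly two elements of square one. -/
theorem card_conjClasses_of_inverting [Finite N] (T : Subgroup N)
    (hcomm : ∀ a ∈ T, ∀ b ∈ T, a * b = b * a)
    (hidx : T.index = 2)
    (hinv : ∀ x, x ∉ T → ∀ y ∈ T, x * y * x⁻¹ = y⁻¹)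
    (z : N) (hz : z ∈ T) (hz1 : z ≠ 1) (hsq : ∀ y ∈ T, y * y = 1 ↔ (y = 1 ∨ y = z)) :
    2 * Nat.card (ConjClasses N) = Nat.card T + 6 := by
  classical
  have : Fintype N := Fintype.ofFinite N
  have hTpos : 0 < Nat.card T := Nat.card_pos
  have hcardN : Nat.card N = 2 * Nat.card T := by
    rw [← T.index_mul_card, hidx]
  -- products of two elements outside `T` lie in `T`
  have hmul : ∀ x y : N, x ∉ T → y ∉ T → x⁻¹ * y ∈ T := by
    intro x y hx hy
    have h := (Subgroup.index_eq_two_iff'.1 hidx)
    obtain ⟨a, ha⟩ := h
    -- use the standard fact for index two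
    have h2 : ∀ b : N, b ∉ T → a * b ∈ T := by
      intro b hb
      rcases ha b with h | h
      · exact h.1
      · exact absurd h.1 hb
    have ha' : a ∉ T := by
      intro haT
      rcases ha 1 with h | h
      · exact h.2 T.one_mem
      · apply h.2
        rw [mul_one]
        exact haT
    have hx' := h2 x hx
    have hy' := h2 y hy
    have : x⁻¹ * y = (a * x)⁻¹ * (a * y) := by group
    rw [this]
    exact T.mul_mem (T.inv_mem hx') hy'
  -- centralisers
  have hc1 : ∀ x ∈ T, x * x ≠ 1 → Subgroup.centralizer ({x} : Set N) = T := by
    intro x hx hx2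
    ext y
    rw [Subgroup.mem_centralizer_singleton_iff]
    constructor
    · intro h
      by_contra hy
      have h1 := hinv y hy x hx
      rw [h, mul_inv_cancel_right] at h1
      apply hx2
      nth_rewrite 1 [h1]
      exact inv_mul_cancel x
    · intro hy
      exact hcomm y hy x hx
  have hc2 : ∀ x ∈ T, x * x = 1 → Subgroup.centralizer ({x} : Set N) = ⊤ := by
    intro x hx hx2
    rw [eq_top_iff]
    intro y _
    rw [Subgroup.mem_centralizer_singleton_iff]
    by_cases hy : y ∈ T
    · exact hcomm y hy x hx
    · have h1 := hinv y hy x hx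
      have h2 : x⁻¹ = x := inv_eq_of_mul_eq_one_right hx2
      rw [h2] at h1
      calc y * x = y * x * y⁻¹ * y := by group
        _ = x * y := by rw [h1]
  have hc3 : ∀ x, x ∉ T → Nat.card (Subgroup.centralizer ({x} : Set N)) = 4 := by
    intro x hx
    have hset : ((Subgroup.centralizer ({x} : Set N) : Subgroup N) : Set N) =
        {1, z, x, x * z} := by
      ext y
      rw [SetLike.mem_coe, Subgroup.mem_centralizer_singleton_iff]
      simp only [Set.mem_insert_iff, Set.mem_singleton_iff]
      by_cases hy : y ∈ T
      · have h1 := hinv x hx y hy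
        constructor
        · intro h
          have h2 : y * y = 1 := by
            have h3 : x * y * x⁻¹ = y := by rw [← h]; group
            rw [h3] at h1
            nth_rewrite 1 [h1]
            exact inv_mul_cancel y
          rcases (hsq y hy).1 h2 with h | h
          · left; exact h
          · right; left; exact h
        · rintro (h | h | h | h)
          · rw [h, one_mul, mul_one]
          · have h2 : y * y = 1 := (hsq y hy).2 (Or.inr h)
            have h3 : y⁻¹ = y := inv_eq_of_mul_eq_one_right h2
            rw [h3] at h1
            calc y * x = (x * y * x⁻¹) * x := by rw [h1]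
              _ = x * y := by group
          · rw [h] at hy
            exact absurd hy hx
          · exfalso
            apply hx
            rw [h] at hy
            have := T.mul_mem hy (T.inv_mem hz)
            rwa [mul_inv_cancel_right] at this
      · have hy' : x⁻¹ * y ∈ T := hmul x y hx hy
        have h1 := hinv x hx _ hy'
        constructor
        · intro h
          have h3 : x * (x⁻¹ * y) * x⁻¹ = x⁻¹ * y := by
            have : x * (x⁻¹ * y) * x⁻¹ = y * x⁻¹ := by group
            rw [this]
            have : y * x⁻¹ = x⁻¹ * (x * y) * x⁻¹ := by group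
            rw [this, ← h]
            group
          rw [h3] at h1
          have h2 : (x⁻¹ * y) * (x⁻¹ * y) = 1 := by
            nth_rewrite 1 [h1]
            exact inv_mul_cancel _
          rcases (hsq _ hy').1 h2 with h | h
          · right; right; left
            have : y = x * (x⁻¹ * y) := by group
            rw [this, h, mul_one]
          · right; right; right
            have : y = x * (x⁻¹ * y) := by group
            rw [this, h]
        · rintro (h | h | h | h)
          · rw [h] at hy
            exact absurd T.one_mem hy
          · rw [h] at hy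
            exact absurd hz hy
          · rw [h]
          · have h2 : z * z = 1 := (hsq z hz).2 (Or.inr rfl)
            have h3 := hinv x hx z hz
            have h4 : z⁻¹ = z := inv_eq_of_mul_eq_one_right h2
            rw [h4] at h3
            have h5 : x * z = z * x := by
              calc x * z = (x * z * x⁻¹) * x := by group
                _ = z * x := by rw [h3]
            rw [h, mul_assoc, h5, ← mul_assoc]
    show Nat.card ((Subgroup.centralizer ({x} : Set N) : Subgroup N) : Set N) = 4
    rw [Nat.card_coe_set_eq, hset]
    have hxz : x * z ∉ T := by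
      intro h
      apply hx
      have := T.mul_mem h (T.inv_mem hz)
      rwa [mul_inv_cancel_right] at this
    have d1 : x ≠ x * z := by
      intro h
      apply hz1
      have : x * 1 = x * z := by rw [mul_one]; exact h
      exact (mul_left_cancel this).symm
    have d2 : z ≠ x := fun h => hx (h ▸ hz)
    have d3 : z ≠ x * z := fun h => hxz (h ▸ hz)
    have d4 : (1 : N) ≠ z := fun h => hz1 h.symm
    have d5 : (1 : N) ≠ x := fun h => hx (h ▸ T.one_mem)
    have d6 : (1 : N) ≠ x * z := fun h => hxz (h ▸ T.one_mem)
    rw [Set.ncard_insert_of_notMem, Set.ncard_insert_of_notMem, Set.ncard_pair d1]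
    · simp only [Set.mem_insert_iff, Set.mem_singleton_iff, not_or]
      exact ⟨d2, d3⟩
    · simp only [Set.mem_insert_iff, Set.mem_singleton_iff, not_or]
      exact ⟨d4, d5, d6⟩
  -- the sum
  have hsum := sum_card_centralizer (N := N)
  have hsplit : ∑ g : N, Nat.card (Subgroup.centralizer ({g} : Set N)) =
      ∑ g ∈ Finset.univ.filter (fun g : N => g ∈ T),
        Nat.card (Subgroup.centralizer ({g} : Set N)) +
      ∑ g ∈ Finset.univ.filter (fun g : N => ¬ g ∈ T),
        Nat.card (Subgroup.centralizer ({g} : Set N)) :=
    (Finset.sum_filter_add_sum_filter_not _ _ _).symm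
  have hcT : (Finset.univ.filter (fun g : N => g ∈ T)).card = Nat.card T := by
    rw [Nat.card_eq_fintype_card, Fintype.card_subtype]
  have hcnT : (Finset.univ.filter (fun g : N => ¬ g ∈ T)).card = Nat.card T := by
    have := Finset.card_filter_add_card_filter_not (s := (Finset.univ : Finset N))
      (fun g : N => g ∈ T)
    rw [hcT, Finset.card_univ, ← Nat.card_eq_fintype_card, hcardN] at this
    omega
  have hs2 : ∑ g ∈ Finset.univ.filter (fun g : N => ¬ g ∈ T),
        Nat.card (Subgroup.centralizer ({g} : Set N)) = Nat.card T * 4 := by
    rw [Finset.sum_congr rfl (fun g hg => hc3 g (Finset.mem_filter.1 hg).2), Finset.sum_const,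
      smul_eq_mul, hcnT]
  -- the sum over `T`
  have hsplitT : ∑ g ∈ Finset.univ.filter (fun g : N => g ∈ T),
        Nat.card (Subgroup.centralizer ({g} : Set N)) =
      ∑ g ∈ (Finset.univ.filter (fun g : N => g ∈ T)).filter (fun g => g * g = 1),
        Nat.card (Subgroup.centralizer ({g} : Set N)) +
      ∑ g ∈ (Finset.univ.filter (fun g : N => g ∈ T)).filter (fun g => ¬ g * g = 1),
        Nat.card (Subgroup.centralizer ({g} : Set N)) :=
    (Finset.sum_filter_add_sum_filter_not _ _ _).symm
  have hsqset : (Finset.univ.filter (fun g : N => g ∈ T)).filter (fun g => g * g = 1) =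
      {1, z} := by
    ext y
    simp only [Finset.mem_filter, Finset.mem_univ, true_and, Finset.mem_insert,
      Finset.mem_singleton]
    constructor
    · rintro ⟨hy, h⟩
      exact (hsq y hy).1 h
    · rintro (rfl | rfl)
      · exact ⟨T.one_mem, mul_one 1⟩
      · exact ⟨hz, (hsq y hz).2 (Or.inr rfl)⟩
  have hcsq : ((Finset.univ.filter (fun g : N => g ∈ T)).filter (fun g => g * g = 1)).card = 2 := by
    rw [hsqset, Finset.card_pair (fun h => hz1 h.symm)]
  have hcnsq : ((Finset.univ.filter (fun g : N => g ∈ T)).filter (fun g => ¬ g * g = 1)).card =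
      Nat.card T - 2 := by
    have := Finset.card_filter_add_card_filter_not
      (s := (Finset.univ.filter (fun g : N => g ∈ T))) (fun g : N => g * g = 1)
    rw [hcsq, hcT] at this
    omega
  have hs1a : ∑ g ∈ (Finset.univ.filter (fun g : N => g ∈ T)).filter (fun g => g * g = 1),
        Nat.card (Subgroup.centralizer ({g} : Set N)) = 2 * (2 * Nat.card T) := by
    have : ∀ g ∈ (Finset.univ.filter (fun g : N => g ∈ T)).filter (fun g => g * g = 1),
        Nat.card (Subgroup.centralizer ({g} : Set N)) = 2 * Nat.card T := by
      intro g hg
      rw [Finset.mem_filter, Finset.mem_filter] at hg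
      rw [hc2 g hg.1.2 hg.2, ← hcardN]
      exact Nat.card_congr Subgroup.topEquiv.toEquiv
    rw [Finset.sum_congr rfl this, Finset.sum_const, smul_eq_mul, hcsq]
  have hs1b : ∑ g ∈ (Finset.univ.filter (fun g : N => g ∈ T)).filter (fun g => ¬ g * g = 1),
        Nat.card (Subgroup.centralizer ({g} : Set N)) = (Nat.card T - 2) * Nat.card T := by
    have : ∀ g ∈ (Finset.univ.filter (fun g : N => g ∈ T)).filter (fun g => ¬ g * g = 1),
        Nat.card (Subgroup.centralizer ({g} : Set N)) = Nat.card T := by
      intro g hg
      rw [Finset.mem_filter, Finset.mem_filter] at hg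
      rw [hc1 g hg.1.2 hg.2]
    rw [Finset.sum_congr rfl this, Finset.sum_const, smul_eq_mul, hcnsq]
  rw [hsplit, hs2, hsplitT, hs1a, hs1b, hcardN] at hsum
  -- `T` has at least two elements
  have hT2 : 2 ≤ Nat.card T := by
    have : ({1, z} : Finset N) ⊆ Finset.univ.filter (fun g : N => g ∈ T) := by
      rw [← hsqset]
      exact Finset.filter_subset _ _
    have := Finset.card_le_card this
    rw [Finset.card_pair (fun h => hz1 h.symm), hcT] at this
    exact this
  obtain ⟨m, hm⟩ : ∃ m, Nat.card T = m + 2 := ⟨Nat.card T - 2, by omega⟩
  rw [hm] at hsum ⊢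
  have e : m + 2 - 2 = m := by omega
  rw [e] at hsum
  have h5 : (2 * Nat.card (ConjClasses N)) * (m + 2) = (m + 2 + 6) * (m + 2) := by
    nlinarith [hsum]
  exact Nat.eq_of_mul_eq_mul_right (by omega) h5

end

end Cfsg.Agent.Lib.Helper5
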