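import Mathlib
import Cfsg.Agent.Lib.Helper5.SL2Roots

set_option autoImplicit false

namespace Cfsg.Agent.Lib.Helper5

open Matrix


section general
variable {G : Type*} [Group G]

theorem pow_card_centralizer_eq_one (g : G) :
    g ^ Nat.card (Subgroup.centralizer ({g} : Set G)) = 1 := by
  have hg : g ∈ Subgroup.centralizer ({g} : Set G) := by
    rw [Subgroup.mem_centralizer_singleton_iff]
  have h := pow_card_eq_one' (G := Subgroup.centralizer ({g} : Set G)) (x := ⟨g, hg⟩)
  have h2 := congrArg (fun z : Subgroup.centralizer ({g} : Set G) => (z : G)) h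
  exact h2

end general

section diag
variable {F : Type*} [Field F]

/-- the split torus -/
def diagHom : Fˣ →* SpecialLinearGroup (Fin 2) F where
  toFun u := mkSL2 !![(u : F), 0; 0, ((u⁻¹ : Fˣ) : F)] (by
    rw [Matrix.det_fin_two_of, mul_zero, sub_zero, Units.mul_inv])
  map_one' := by
    apply Subtype.ext
    show !![((1 : Fˣ) : F), 0; 0, (((1 : Fˣ)⁻¹ : Fˣ) : F)] = (1 : Matrix (Fin 2) (Fin 2) F)
    rw [inv_one, Units.val_one, Matrix.one_fin_two]
  map_mul' u v := by
    apply Subtype.ext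
    show !![((u * v : Fˣ) : F), 0; 0, (((u * v)⁻¹ : Fˣ) : F)] =
      !![(u : F), 0; 0, ((u⁻¹ : Fˣ) : F)] * !![(v : F), 0; 0, ((v⁻¹ : Fˣ) : F)]
    rw [Matrix.mul_fin_two, mul_inv]
    simp

theorem diagHom_injective : Function.Injective (diagHom (F := F)) := by
  intro u v h
  have h1 := congrArg (fun z : SpecialLinearGroup (Fin 2) F => (z : Matrix (Fin 2) (Fin 2) F) 0 0) h
  apply Units.ext
  exact h1

theorem exists_orderOf_eq_card_sub_one [Fintype F] :
    ∃ g : SpecialLinearGroup (Fin 2) F, orderOf g = Fintype.card F - 1 := by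
  classical
  obtain ⟨ζ, hζ⟩ := IsCyclic.exists_generator (α := Fˣ)
  refine ⟨diagHom ζ, ?_⟩
  rw [orderOf_injective diagHom diagHom_injective, orderOf_eq_card_of_forall_mem_zpowers hζ,
    Nat.card_eq_fintype_card, Fintype.card_units]

end diag



section nonsplit
variable {F : Type*} [Field F] [Fintype F]

theorem exists_orderOf_eq_card_add_one (p : ℕ) [Fact p.Prime] [CharP F p] :
    ∃ g : SpecialLinearGroup (Fin 2) F, orderOf g = Fintype.card F + 1 := by
  classical
  have hq : 2 ≤ Fintype.card F := Fintype.one_lt_card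
  let K := FiniteField.Extension F p 2
  have hfin : Module.finrank F K = 2 := FiniteField.finrank_extension F p 2
  have hcard : Nat.card K = Fintype.card F ^ 2 := by
    rw [FiniteField.natCard_extension F p 2, Nat.card_eq_fintype_card]
  let b : Module.Basis (Fin 2) F K := Module.finBasisOfFinrankEq F K hfin
  let f : K →* Matrix (Fin 2) (Fin 2) F := (Algebra.leftMulMatrix b).toRingHom.toMonoidHom
  have hf : Function.Injective f := Algebra.leftMulMatrix_injective b
  obtain ⟨ζ, hζ⟩ := IsCyclic.exists_generator (α := Kˣ)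
  have hζo : orderOf ζ = Fintype.card F ^ 2 - 1 := by
    rw [orderOf_eq_card_of_forall_mem_zpowers hζ, Nat.card_units, hcard]
  -- the determinant of the matrix of `ζ`
  let fu : Kˣ →* (Matrix (Fin 2) (Fin 2) F)ˣ := Units.map f
  let δ : Fˣ := Matrix.GeneralLinearGroup.det (fu ζ)
  have hδ : δ ^ (Fintype.card F - 1) = 1 := by
    rw [← Fintype.card_units]
    exact pow_card_eq_one
  set ω : Kˣ := ζ ^ (Fintype.card F - 1) with hω
  have hωo : orderOf ω = Fintype.card F + 1 := by
    rw [hω, orderOf_pow' _ (by omega), hζo]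
    have h1 : Fintype.card F ^ 2 - 1 = (Fintype.card F - 1) * (Fintype.card F + 1) := by
      obtain ⟨m, hm⟩ : ∃ m, Fintype.card F = m + 1 := ⟨Fintype.card F - 1, by omega⟩
      rw [hm]
      have : (m + 1) ^ 2 = m * (m + 2) + 1 := by ring
      rw [this]
      simp
    rw [h1, Nat.gcd_mul_right_left, Nat.mul_div_cancel_left _ (by omega)]
  have hdet : ((fu ω : (Matrix (Fin 2) (Fin 2) F)ˣ) : Matrix (Fin 2) (Fin 2) F).det = 1 := by
    have h1 : Matrix.GeneralLinearGroup.det (fu ω) = 1 := by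
      rw [hω, map_pow, map_pow]
      exact hδ
    have h2 := congrArg (fun z : Fˣ => (z : F)) h1
    exact h2
  refine ⟨mkSL2 _ hdet, ?_⟩
  let c : SpecialLinearGroup (Fin 2) F →* Matrix (Fin 2) (Fin 2) F :=
    (Units.coeHom _).comp Matrix.SpecialLinearGroup.toGL
  have hc : Function.Injective c := by
    intro x y h
    apply Subtype.ext
    exact h
  rw [← orderOf_injective c hc, ← hωo, ← orderOf_injective fu (Units.map_injective hf),
    ← orderOf_units]
  rfl

end nonsplit



section psl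
variable {F : Type*} [Field F]

theorem mk_eq_one_iff (h : SpecialLinearGroup (Fin 2) F) :
    (QuotientGroup.mk h : ProjectiveSpecialLinearGroup (Fin 2) F) = 1 ↔
      ∃ c : F, (h : Matrix (Fin 2) (Fin 2) F) = c • (1 : Matrix (Fin 2) (Fin 2) F) := by
  show (QuotientGroup.mk h : SpecialLinearGroup (Fin 2) F ⧸
      Subgroup.center (SpecialLinearGroup (Fin 2) F)) = 1 ↔ _
  rw [QuotientGroup.eq_one_iff, Matrix.SpecialLinearGroup.mem_center_iff]
  constructor
  · rintro ⟨r, -, hr⟩
    refine ⟨r, ?_⟩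
    rw [← hr, Matrix.scalar_apply, ← Matrix.smul_one_eq_diagonal]
  · rintro ⟨c, hc⟩
    refine ⟨c, ?_, ?_⟩
    · rw [Fintype.card_fin]
      exact (sq_eq_four_of_scalar h c hc).2
    · rw [hc, Matrix.scalar_apply, ← Matrix.smul_one_eq_diagonal]

theorem scalar_of_mul_self_eq_one (h2 : (2 : F) ≠ 0) (h : SpecialLinearGroup (Fin 2) F)
    (hh : h * h = 1) :
    ∃ c : F, (h : Matrix (Fin 2) (Fin 2) F) = c • (1 : Matrix (Fin 2) (Fin 2) F) := by
  have h1 : (h : Matrix (Fin 2) (Fin 2) F) * (h : Matrix (Fin 2) (Fin 2) F) = 1 :=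
    congrArg (fun z : SpecialLinearGroup (Fin 2) F => (z : Matrix (Fin 2) (Fin 2) F)) hh
  have hd := h.det_coe
  rw [Matrix.det_fin_two] at hd
  have e00 := congrFun (congrFun h1 0) 0
  have e01 := congrFun (congrFun h1 0) 1
  have e10 := congrFun (congrFun h1 1) 0
  simp only [Matrix.mul_apply, Fin.sum_univ_two, Matrix.one_apply_eq] at e00
  simp only [Matrix.mul_apply, Fin.sum_univ_two] at e01 e10
  rw [Matrix.one_apply_ne (by decide)] at e01 e10
  set a := (h : Matrix (Fin 2) (Fin 2) F) 0 0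
  set b := (h : Matrix (Fin 2) (Fin 2) F) 0 1
  set c := (h : Matrix (Fin 2) (Fin 2) F) 1 0
  set d := (h : Matrix (Fin 2) (Fin 2) F) 1 1
  have h3 : a * (a + d) = 2 := by linear_combination e00 + hd
  have h4 : a + d ≠ 0 := by
    intro h0
    rw [h0, mul_zero] at h3
    exact h2 h3.symm
  have hb : b = 0 := by
    have : b * (a + d) = 0 := by linear_combination e01
    rcases mul_eq_zero.1 this with h' | h'
    · exact h'
    · exact absurd h' h4
  have hc : c = 0 := by
    have : c * (a + d) = 0 := by linear_combination e10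
    rcases mul_eq_zero.1 this with h' | h'
    · exact h'
    · exact absurd h' h4
  have had : a = d := by
    have h5 : a * a = 1 := by rw [hb] at e00; linear_combination e00
    have h6 : a * d = 1 := by rw [hb] at hd; linear_combination hd
    have ha : a ≠ 0 := by
      intro h0
      rw [h0, zero_mul] at h5
      exact zero_ne_one h5
    exact mul_left_cancel₀ ha (h5.trans h6.symm)
  refine ⟨a, ?_⟩
  rw [Matrix.eta_fin_two (h : Matrix (Fin 2) (Fin 2) F)]
  show !![a, b; c, d] = _
  rw [hb, hc, ← had, Matrix.smul_one_eq_diagonal]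
  ext i j
  fin_cases i <;> fin_cases j <;> simp

theorem mk_pow_eq_one_iff_even (h2 : (2 : F) = 0) (g : SpecialLinearGroup (Fin 2) F) (k : ℕ) :
    (QuotientGroup.mk g : ProjectiveSpecialLinearGroup (Fin 2) F) ^ k = 1 ↔ g ^ k = 1 := by
  have e : (QuotientGroup.mk g : ProjectiveSpecialLinearGroup (Fin 2) F) ^ k =
      QuotientGroup.mk (g ^ k) := rfl
  rw [e, mk_eq_one_iff]
  constructor
  · rintro ⟨c, hc⟩
    have hc2 := (sq_eq_four_of_scalar _ c hc).2
    have hc1 : c = 1 := by
      have : (c - 1) ^ 2 = 0 := by linear_combination hc2 + (1 - c) * h2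
      exact sub_eq_zero.1 ((pow_eq_zero_iff two_ne_zero).1 this)
    apply Subtype.ext
    rw [hc, hc1, one_smul]
    rfl
  · intro h
    refine ⟨1, ?_⟩
    rw [h, one_smul]
    rfl

theorem mk_pow_eq_one_iff_odd (h2 : (2 : F) ≠ 0) (g : SpecialLinearGroup (Fin 2) F) (k : ℕ) :
    (QuotientGroup.mk g : ProjectiveSpecialLinearGroup (Fin 2) F) ^ k = 1 ↔ g ^ (2 * k) = 1 := by
  have e : (QuotientGroup.mk g : ProjectiveSpecialLinearGroup (Fin 2) F) ^ k =
      QuotientGroup.mk (g ^ k) := rfl
  rw [e, mk_eq_one_iff]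
  have e2 : g ^ (2 * k) = g ^ k * g ^ k := by rw [two_mul, pow_add]
  rw [e2]
  constructor
  · rintro ⟨c, hc⟩
    have hc2 := (sq_eq_four_of_scalar _ c hc).2
    apply Subtype.ext
    show ((g ^ k : SpecialLinearGroup (Fin 2) F) : Matrix (Fin 2) (Fin 2) F) *
      ((g ^ k : SpecialLinearGroup (Fin 2) F) : Matrix (Fin 2) (Fin 2) F) = 1
    rw [hc, Matrix.smul_mul, Matrix.one_mul, smul_smul, ← pow_two, hc2, one_smul]
  · intro h
    exact scalar_of_mul_self_eq_one h2 _ h

end psl


section unip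
variable {F : Type*} [Field F]

theorem cayley_two_sl (g : SpecialLinearGroup (Fin 2) F) :
    (g : Matrix (Fin 2) (Fin 2) F) * (g : Matrix (Fin 2) (Fin 2) F) +
      (1 : Matrix (Fin 2) (Fin 2) F) =
      (g : Matrix (Fin 2) (Fin 2) F).trace • (g : Matrix (Fin 2) (Fin 2) F) := by
  have hd := g.det_coe
  rw [Matrix.det_fin_two] at hd
  ext i j
  fin_cases i <;> fin_cases j
  · simp [Matrix.mul_apply, Fin.sum_univ_two, Matrix.trace_fin_two]
    linear_combination -hd
  · simp [Matrix.mul_apply, Fin.sum_univ_two, Matrix.trace_fin_two]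
    ring
  · simp [Matrix.mul_apply, Fin.sum_univ_two, Matrix.trace_fin_two]
    ring
  · simp [Matrix.mul_apply, Fin.sum_univ_two, Matrix.trace_fin_two]
    linear_combination -hd

/-- elements of `SL₂` with `tr² = 4` have scalar `p`-th power -/
theorem pow_char_scalar_of_sq_eq_four (p : ℕ) [Fact p.Prime] [CharP F p]
    (g : SpecialLinearGroup (Fin 2) F)
    (ht : (g : Matrix (Fin 2) (Fin 2) F).trace ^ 2 = 4) :
    ∃ c : F, ((g ^ p : SpecialLinearGroup (Fin 2) F) : Matrix (Fin 2) (Fin 2) F) =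
      c • (1 : Matrix (Fin 2) (Fin 2) F) := by
  have hp : p.Prime := Fact.out
  obtain ⟨c, hc2, hct⟩ : ∃ c : F, c ^ 2 = 1 ∧ 2 * c = (g : Matrix (Fin 2) (Fin 2) F).trace := by
    by_cases h2 : (2 : F) = 0
    · refine ⟨1, one_pow 2, ?_⟩
      have h4 : (4 : F) = 0 := by
        have : (4 : F) = 2 * 2 := by norm_num
        rw [this, h2, zero_mul]
      rw [h4] at ht
      rw [(pow_eq_zero_iff two_ne_zero).1 ht, h2, zero_mul]
    · refine ⟨(g : Matrix (Fin 2) (Fin 2) F).trace / 2, ?_, ?_⟩
      · rw [div_pow, ht]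
        have h4 : (4 : F) ≠ 0 := by
          have : (4 : F) = 2 * 2 := by norm_num
          rw [this]
          exact mul_ne_zero h2 h2
        have : (2 : F) ^ 2 = 4 := by norm_num
        rw [this, div_self h4]
      · rw [mul_div_cancel₀ _ h2]
  set M := (g : Matrix (Fin 2) (Fin 2) F) with hM
  set N := M - c • (1 : Matrix (Fin 2) (Fin 2) F) with hN
  have hCH := cayley_two_sl g
  have hN2 : N * N = 0 := by
    have e : M * M = M.trace • M - 1 := by rw [← hCH]; abel
    have e3 : c * c = 1 := by rw [← pow_two]; exact hc2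
    rw [hN, sub_mul, mul_sub, mul_sub, Matrix.smul_mul, Matrix.smul_mul, Matrix.mul_smul,
      Matrix.mul_smul, Matrix.one_mul, Matrix.mul_one, Matrix.one_mul, smul_smul, e3, one_smul,
      e, ← hct, two_mul, add_smul]
    abel
  have hcomm : Commute (c • (1 : Matrix (Fin 2) (Fin 2) F)) N := by
    show c • (1 : Matrix (Fin 2) (Fin 2) F) * N = N * c • (1 : Matrix (Fin 2) (Fin 2) F)
    rw [Matrix.smul_mul, Matrix.one_mul, Matrix.mul_smul, Matrix.mul_one]
  have hMN : M = c • (1 : Matrix (Fin 2) (Fin 2) F) + N := by rw [hN]; abel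
  have hNp : N ^ p = 0 := by
    obtain ⟨k, hk⟩ := Nat.exists_eq_add_of_le hp.two_le
    rw [hk, pow_add, pow_two, hN2, zero_mul]
  refine ⟨c ^ p, ?_⟩
  have e1 : ((g ^ p : SpecialLinearGroup (Fin 2) F) : Matrix (Fin 2) (Fin 2) F) = M ^ p := rfl
  rw [e1, hMN, add_pow_char_of_commute (R := Matrix (Fin 2) (Fin 2) F) (p := p) hcomm, hNp, add_zero, smul_pow, one_pow]

theorem mk_pow_char_eq_one (p : ℕ) [Fact p.Prime] [CharP F p]
    (g : SpecialLinearGroup (Fin 2) F)
    (ht : (g : Matrix (Fin 2) (Fin 2) F).trace ^ 2 = 4) :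
    (QuotientGroup.mk g : ProjectiveSpecialLinearGroup (Fin 2) F) ^ p = 1 := by
  have e : (QuotientGroup.mk g : ProjectiveSpecialLinearGroup (Fin 2) F) ^ p =
      QuotientGroup.mk (g ^ p) := rfl
  rw [e, mk_eq_one_iff]
  exact pow_char_scalar_of_sq_eq_four p g ht

end unip

end Cfsg.Agent.Lib.Helper5
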