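import Mathlib
import Cfsg.Agent.Lib.Helper5.SL2Class
import Cfsg.Agent.Lib.Helper5.SL2Torus
import Cfsg.Agent.Lib.Helper5.InvertingClassCount

set_option autoImplicit false

namespace Cfsg.Agent.Lib.Helper5

open Matrix

section general
variable {F : Type*} [Field F]

theorem coe_inv_eq (g : SpecialLinearGroup (Fin 2) F) :
    ((g⁻¹ : SpecialLinearGroup (Fin 2) F) : Matrix (Fin 2) (Fin 2) F) =
      (g : Matrix (Fin 2) (Fin 2) F).trace • (1 : Matrix (Fin 2) (Fin 2) F) -
        (g : Matrix (Fin 2) (Fin 2) F) := by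
  rw [Matrix.SpecialLinearGroup.coe_inv, Matrix.adjugate_fin_two, Matrix.trace_fin_two]
  ext i j
  fin_cases i <;> fin_cases j <;> simp

theorem coe_commute_iff (x g : SpecialLinearGroup (Fin 2) F) :
    x * g = g * x ↔ (x : Matrix (Fin 2) (Fin 2) F) * (g : Matrix (Fin 2) (Fin 2) F) =
      (g : Matrix (Fin 2) (Fin 2) F) * (x : Matrix (Fin 2) (Fin 2) F) := by
  constructor
  · intro h
    exact congrArg (fun z : SpecialLinearGroup (Fin 2) F => (z : Matrix (Fin 2) (Fin 2) F)) h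
  · intro h
    apply Subtype.ext
    exact h

theorem mem_centralizer_iff_span (g₀ : SpecialLinearGroup (Fin 2) F)
    (hns : ¬ ∃ c : F, (g₀ : Matrix (Fin 2) (Fin 2) F) = c • (1 : Matrix (Fin 2) (Fin 2) F))
    (x : SpecialLinearGroup (Fin 2) F) :
    x ∈ Subgroup.centralizer ({g₀} : Set (SpecialLinearGroup (Fin 2) F)) ↔
      ∃ a b : F, (x : Matrix (Fin 2) (Fin 2) F) =
        a • (1 : Matrix (Fin 2) (Fin 2) F) + b • (g₀ : Matrix (Fin 2) (Fin 2) F) := by
  rw [Subgroup.mem_centralizer_singleton_iff, coe_commute_iff]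
  constructor
  · intro h
    exact exists_of_commute _ _ hns h
  · rintro ⟨a, b, h⟩
    rw [h, add_mul, mul_add, Matrix.smul_mul, Matrix.one_mul, Matrix.mul_smul, Matrix.mul_one,
      Matrix.smul_mul, Matrix.mul_smul]

theorem conj_span (h g₀ g₁ : SpecialLinearGroup (Fin 2) F) (hc : h * g₀ * h⁻¹ = g₁)
    (x : SpecialLinearGroup (Fin 2) F) (a b : F)
    (hx : (x : Matrix (Fin 2) (Fin 2) F) =
      a • (1 : Matrix (Fin 2) (Fin 2) F) + b • (g₀ : Matrix (Fin 2) (Fin 2) F)) :
    ((h * x * h⁻¹ : SpecialLinearGroup (Fin 2) F) : Matrix (Fin 2) (Fin 2) F) =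
      a • (1 : Matrix (Fin 2) (Fin 2) F) + b • (g₁ : Matrix (Fin 2) (Fin 2) F) := by
  have e1 : ((h * x * h⁻¹ : SpecialLinearGroup (Fin 2) F) : Matrix (Fin 2) (Fin 2) F) =
      (h : Matrix (Fin 2) (Fin 2) F) * (x : Matrix (Fin 2) (Fin 2) F) *
        ((h⁻¹ : SpecialLinearGroup (Fin 2) F) : Matrix (Fin 2) (Fin 2) F) := rfl
  have e2 : (g₁ : Matrix (Fin 2) (Fin 2) F) =
      (h : Matrix (Fin 2) (Fin 2) F) * (g₀ : Matrix (Fin 2) (Fin 2) F) *
        ((h⁻¹ : SpecialLinearGroup (Fin 2) F) : Matrix (Fin 2) (Fin 2) F) := by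
    rw [← hc]; rfl
  have e3 : (h : Matrix (Fin 2) (Fin 2) F) *
      ((h⁻¹ : SpecialLinearGroup (Fin 2) F) : Matrix (Fin 2) (Fin 2) F) = 1 := by
    have : h * h⁻¹ = 1 := mul_inv_cancel h
    exact congrArg (fun z : SpecialLinearGroup (Fin 2) F => (z : Matrix (Fin 2) (Fin 2) F)) this
  rw [e1, e2, hx, mul_add, add_mul, Matrix.mul_smul, Matrix.smul_mul, Matrix.mul_one, e3,
    Matrix.mul_smul, Matrix.smul_mul]

/-- minus the identity -/
def negOneSL : SpecialLinearGroup (Fin 2) F :=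
  mkSL2 (-(1 : Matrix (Fin 2) (Fin 2) F)) (by
    rw [Matrix.det_neg, Fintype.card_fin, Matrix.det_one]; norm_num)

theorem negOneSL_mul_self : (negOneSL : SpecialLinearGroup (Fin 2) F) * negOneSL = 1 := by
  apply Subtype.ext
  show (-(1 : Matrix (Fin 2) (Fin 2) F)) * (-(1 : Matrix (Fin 2) (Fin 2) F)) = 1
  rw [neg_mul_neg, one_mul]

theorem negOneSL_ne_one (h2 : (2 : F) ≠ 0) : (negOneSL : SpecialLinearGroup (Fin 2) F) ≠ 1 := by
  intro h
  have h1 := congrArg (fun z : SpecialLinearGroup (Fin 2) F =>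
    (z : Matrix (Fin 2) (Fin 2) F) 0 0) h
  have h3 : (-(1 : Matrix (Fin 2) (Fin 2) F)) 0 0 = (1 : Matrix (Fin 2) (Fin 2) F) 0 0 := h1
  rw [Matrix.neg_apply, Matrix.one_apply_eq] at h3
  apply h2
  linear_combination -h3

theorem negOneSL_commute (x : SpecialLinearGroup (Fin 2) F) : x * negOneSL = negOneSL * x := by
  apply Subtype.ext
  show (x : Matrix (Fin 2) (Fin 2) F) * (-(1 : Matrix (Fin 2) (Fin 2) F)) =
    (-(1 : Matrix (Fin 2) (Fin 2) F)) * (x : Matrix (Fin 2) (Fin 2) F)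
  rw [Matrix.mul_neg, Matrix.mul_one, Matrix.neg_mul, Matrix.one_mul]

/-- elements of square one are `±1` -/
theorem eq_one_or_negOne_of_mul_self (h2 : (2 : F) ≠ 0) (y : SpecialLinearGroup (Fin 2) F)
    (hy : y * y = 1) : y = 1 ∨ y = negOneSL := by
  obtain ⟨c, hc⟩ := scalar_of_mul_self_eq_one h2 y hy
  have hc2 := (sq_eq_four_of_scalar y c hc).2
  have : (c - 1) * (c + 1) = 0 := by linear_combination hc2
  rcases mul_eq_zero.1 this with h | h
  · left
    apply Subtype.ext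
    rw [hc, sub_eq_zero.1 h, one_smul]
    rfl
  · right
    apply Subtype.ext
    rw [hc, eq_neg_of_add_eq_zero_left h, neg_smul, one_smul]
    rfl

theorem mul_self_ne_one (h2 : (2 : F) ≠ 0) (g₀ : SpecialLinearGroup (Fin 2) F)
    (ht : (g₀ : Matrix (Fin 2) (Fin 2) F).trace ^ 2 ≠ 4) : g₀ * g₀ ≠ 1 := by
  intro h
  obtain ⟨c, hc⟩ := scalar_of_mul_self_eq_one h2 g₀ h
  exact not_scalar_of_sq_ne_four g₀ ht ⟨c, hc⟩

theorem eq_or_eq_inv_of_trace_eq (h2 : (2 : F) ≠ 0) (g₀ : SpecialLinearGroup (Fin 2) F)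
    (ht : (g₀ : Matrix (Fin 2) (Fin 2) F).trace ^ 2 ≠ 4)
    (x : SpecialLinearGroup (Fin 2) F)
    (hx : x ∈ Subgroup.centralizer ({g₀} : Set (SpecialLinearGroup (Fin 2) F)))
    (htx : (x : Matrix (Fin 2) (Fin 2) F).trace = (g₀ : Matrix (Fin 2) (Fin 2) F).trace) :
    x = g₀ ∨ x = g₀⁻¹ := by
  have hns := not_scalar_of_sq_ne_four g₀ ht
  obtain ⟨a, b, hab⟩ := (mem_centralizer_iff_span g₀ hns x).1 hx
  set t := (g₀ : Matrix (Fin 2) (Fin 2) F).trace with htdef
  have hdet := x.det_coe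
  rw [hab, det_smul_one_add_smul, g₀.det_coe, mul_one, ← htdef] at hdet
  have htr : 2 * a + b * t = t := by
    have := htx
    rw [hab, Matrix.trace_add, Matrix.trace_smul, Matrix.trace_smul, Matrix.trace_one,
      Fintype.card_fin, smul_eq_mul, smul_eq_mul, ← htdef] at this
    push_cast at this
    linear_combination this
  have hb : (4 - t ^ 2) * (b ^ 2 - 1) = 0 := by
    linear_combination 4 * hdet - (2 * a + b * t + t) * htr
  have h4 : 4 - t ^ 2 ≠ 0 := by
    intro h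
    apply ht
    linear_combination -h
  have hb2 : (b - 1) * (b + 1) = 0 := by
    rcases mul_eq_zero.1 hb with h | h
    · exact absurd h h4
    · linear_combination h
  rcases mul_eq_zero.1 hb2 with h | h
  · left
    have hb1 : b = 1 := sub_eq_zero.1 h
    have ha : a = 0 := by
      rw [hb1] at htr
      have : 2 * a = 0 := by linear_combination htr
      rcases mul_eq_zero.1 this with h' | h'
      · exact absurd h' h2
      · exact h'
    apply Subtype.ext
    rw [hab, ha, hb1, zero_smul, zero_add, one_smul]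
  · right
    have hb1 : b = -1 := eq_neg_of_add_eq_zero_left h
    have ha : a = t := by
      rw [hb1] at htr
      have : 2 * (a - t) = 0 := by linear_combination htr
      rcases mul_eq_zero.1 this with h' | h'
      · exact absurd h' h2
      · exact sub_eq_zero.1 h'
    apply Subtype.ext
    rw [hab, ha, hb1, coe_inv_eq, neg_smul, one_smul, ← htdef]
    abel

theorem mem_centralizer_inv_iff (g₀ x : SpecialLinearGroup (Fin 2) F) :
    x ∈ Subgroup.centralizer ({g₀⁻¹} : Set (SpecialLinearGroup (Fin 2) F)) ↔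
      x ∈ Subgroup.centralizer ({g₀} : Set (SpecialLinearGroup (Fin 2) F)) := by
  rw [Subgroup.mem_centralizer_singleton_iff, Subgroup.mem_centralizer_singleton_iff]
  constructor
  · intro h
    calc x * g₀ = g₀ * (g₀⁻¹ * x) * g₀ := by group
      _ = g₀ * (x * g₀⁻¹) * g₀ := by rw [h]
      _ = g₀ * x := by group
  · intro h
    calc x * g₀⁻¹ = g₀⁻¹ * (g₀ * x) * g₀⁻¹ := by group
      _ = g₀⁻¹ * (x * g₀) * g₀⁻¹ := by rw [h]
      _ = g₀⁻¹ * x := by group

theorem mem_normalizer_iff_conj (h2 : (2 : F) ≠ 0) (g₀ : SpecialLinearGroup (Fin 2) F)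
    (ht : (g₀ : Matrix (Fin 2) (Fin 2) F).trace ^ 2 ≠ 4) (h : SpecialLinearGroup (Fin 2) F) :
    h ∈ Subgroup.normalizer
      ((Subgroup.centralizer ({g₀} : Set (SpecialLinearGroup (Fin 2) F)) :
        Subgroup (SpecialLinearGroup (Fin 2) F)) : Set (SpecialLinearGroup (Fin 2) F)) ↔
      (h * g₀ * h⁻¹ = g₀ ∨ h * g₀ * h⁻¹ = g₀⁻¹) := by
  rw [Subgroup.mem_set_normalizer_iff]
  constructor
  · intro hn
    have h0 : g₀ ∈ Subgroup.centralizer ({g₀} : Set (SpecialLinearGroup (Fin 2) F)) := by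
      rw [Subgroup.mem_centralizer_singleton_iff]
    have h1 := (hn g₀).1 h0
    apply eq_or_eq_inv_of_trace_eq h2 g₀ ht _ h1
    show ((h : Matrix (Fin 2) (Fin 2) F) * (g₀ : Matrix (Fin 2) (Fin 2) F) *
      ((h⁻¹ : SpecialLinearGroup (Fin 2) F) : Matrix (Fin 2) (Fin 2) F)).trace = _
    rw [Matrix.trace_mul_cycle]
    have : ((h⁻¹ : SpecialLinearGroup (Fin 2) F) : Matrix (Fin 2) (Fin 2) F) *
        (h : Matrix (Fin 2) (Fin 2) F) = 1 := by
      have h1 : h⁻¹ * h = 1 := inv_mul_cancel h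
      exact congrArg (fun z : SpecialLinearGroup (Fin 2) F => (z : Matrix (Fin 2) (Fin 2) F)) h1
    rw [this, one_mul]
  · intro hc n
    have key : ∀ g₁ : SpecialLinearGroup (Fin 2) F, h * g₀ * h⁻¹ = g₁ →
        (n ∈ Subgroup.centralizer ({g₀} : Set (SpecialLinearGroup (Fin 2) F)) ↔
          h * n * h⁻¹ ∈ Subgroup.centralizer ({g₁} : Set (SpecialLinearGroup (Fin 2) F))) := by
      intro g₁ hg₁
      rw [Subgroup.mem_centralizer_singleton_iff, Subgroup.mem_centralizer_singleton_iff, ← hg₁]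
      constructor
      · intro hn
        calc h * n * h⁻¹ * (h * g₀ * h⁻¹) = h * (n * g₀) * h⁻¹ := by group
          _ = h * (g₀ * n) * h⁻¹ := by rw [hn]
          _ = h * g₀ * h⁻¹ * (h * n * h⁻¹) := by group
      · intro hn
        calc n * g₀ = h⁻¹ * (h * n * h⁻¹ * (h * g₀ * h⁻¹)) * h := by group
          _ = h⁻¹ * (h * g₀ * h⁻¹ * (h * n * h⁻¹)) * h := by rw [hn]
          _ = g₀ * n := by group
    rcases hc with hc | hc
    · exact key g₀ hc
    · rw [SetLike.mem_coe, SetLike.mem_coe, key g₀⁻¹ hc, mem_centralizer_inv_iff]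

theorem conj_eq_inv_of_inverting (h g₀ : SpecialLinearGroup (Fin 2) F)
    (hns : ¬ ∃ c : F, (g₀ : Matrix (Fin 2) (Fin 2) F) = c • (1 : Matrix (Fin 2) (Fin 2) F))
    (hc : h * g₀ * h⁻¹ = g₀⁻¹) (y : SpecialLinearGroup (Fin 2) F)
    (hy : y ∈ Subgroup.centralizer ({g₀} : Set (SpecialLinearGroup (Fin 2) F))) :
    h * y * h⁻¹ = y⁻¹ := by
  obtain ⟨a, b, hab⟩ := (mem_centralizer_iff_span g₀ hns y).1 hy
  apply Subtype.ext
  rw [conj_span h g₀ g₀⁻¹ hc y a b hab, coe_inv_eq y, coe_inv_eq g₀, hab, Matrix.trace_add,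
    Matrix.trace_smul, Matrix.trace_smul, Matrix.trace_one, Fintype.card_fin, smul_eq_mul,
    smul_eq_mul]
  push_cast
  generalize (g₀ : Matrix (Fin 2) (Fin 2) F) = M
  module

end general

section finite
variable {F : Type*} [Field F] [Fintype F] [DecidableEq F]

theorem exists_inverting (g₀ : SpecialLinearGroup (Fin 2) F)
    (ht : (g₀ : Matrix (Fin 2) (Fin 2) F).trace ^ 2 ≠ 4) :
    ∃ w : SpecialLinearGroup (Fin 2) F, w * g₀ * w⁻¹ = g₀⁻¹ := by
  have h : IsConj g₀ g₀⁻¹ := by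
    apply isConj_of_trace_eq g₀ g₀⁻¹ _ ht
    rw [coe_inv_eq, Matrix.trace_sub, Matrix.trace_smul, Matrix.trace_one, Fintype.card_fin,
      smul_eq_mul]
    push_cast
    ring
  exact isConj_iff.1 h

end finite

section normalizer
variable {F : Type*} [Field F] [Fintype F] [DecidableEq F]

omit [Fintype F] [DecidableEq F] in
theorem centralizer_le_normalizer (g₀ : SpecialLinearGroup (Fin 2) F) :
    Subgroup.centralizer ({g₀} : Set (SpecialLinearGroup (Fin 2) F)) ≤
      Subgroup.normalizer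
      ((Subgroup.centralizer ({g₀} : Set (SpecialLinearGroup (Fin 2) F)) :
        Subgroup (SpecialLinearGroup (Fin 2) F)) : Set (SpecialLinearGroup (Fin 2) F)) :=
  Subgroup.le_normalizer

theorem relIndex_centralizer_normalizer (h2 : (2 : F) ≠ 0) (g₀ : SpecialLinearGroup (Fin 2) F)
    (ht : (g₀ : Matrix (Fin 2) (Fin 2) F).trace ^ 2 ≠ 4) :
    (Subgroup.centralizer ({g₀} : Set (SpecialLinearGroup (Fin 2) F))).relIndex
      (Subgroup.normalizer
      ((Subgroup.centralizer ({g₀} : Set (SpecialLinearGroup (Fin 2) F)) :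
        Subgroup (SpecialLinearGroup (Fin 2) F)) : Set (SpecialLinearGroup (Fin 2) F))) = 2 := by
  obtain ⟨w, hw⟩ := exists_inverting g₀ ht
  have hne : g₀⁻¹ ≠ g₀ := by
    intro h
    apply mul_self_ne_one h2 g₀ ht
    nth_rewrite 1 [← h]
    exact inv_mul_cancel g₀
  rw [Subgroup.relIndex_eq_two_iff]
  refine ⟨w, (mem_normalizer_iff_conj h2 g₀ ht w).2 (Or.inr hw), ?_⟩
  intro b hb
  rw [mem_normalizer_iff_conj h2 g₀ ht] at hb
  have hmem : ∀ x : SpecialLinearGroup (Fin 2) F,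
      x ∈ Subgroup.centralizer ({g₀} : Set (SpecialLinearGroup (Fin 2) F)) ↔
        x * g₀ * x⁻¹ = g₀ := by
    intro x
    rw [Subgroup.mem_centralizer_singleton_iff, mul_inv_eq_iff_eq_mul]
  have hbw : (b * w) * g₀ * (b * w)⁻¹ = b * (w * g₀ * w⁻¹) * b⁻¹ := by group
  rcases hb with hb | hb
  · right
    refine ⟨(hmem b).2 hb, ?_⟩
    rw [hmem, hbw, hw]
    have : b * g₀⁻¹ * b⁻¹ = (b * g₀ * b⁻¹)⁻¹ := by group
    rw [this, hb]
    exact hne
  · left
    refine ⟨?_, ?_⟩
    · rw [hmem, hbw, hw]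
      have : b * g₀⁻¹ * b⁻¹ = (b * g₀ * b⁻¹)⁻¹ := by group
      rw [this, hb, inv_inv]
    · rw [hmem, hb]
      exact hne

theorem card_normalizer_centralizer (h2 : (2 : F) ≠ 0) (g₀ : SpecialLinearGroup (Fin 2) F)
    (ht : (g₀ : Matrix (Fin 2) (Fin 2) F).trace ^ 2 ≠ 4) :
    Nat.card (Subgroup.normalizer
      ((Subgroup.centralizer ({g₀} : Set (SpecialLinearGroup (Fin 2) F)) :
        Subgroup (SpecialLinearGroup (Fin 2) F)) : Set (SpecialLinearGroup (Fin 2) F))) =
      2 * Nat.card (Subgroup.centralizer ({g₀} : Set (SpecialLinearGroup (Fin 2) F))) := by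
  have h1 := relIndex_centralizer_normalizer h2 g₀ ht
  have h3 := Subgroup.index_mul_card
    ((Subgroup.centralizer ({g₀} : Set (SpecialLinearGroup (Fin 2) F))).subgroupOf
      (Subgroup.normalizer
      ((Subgroup.centralizer ({g₀} : Set (SpecialLinearGroup (Fin 2) F)) :
        Subgroup (SpecialLinearGroup (Fin 2) F)) : Set (SpecialLinearGroup (Fin 2) F))))
  rw [← h3]
  have h4 : ((Subgroup.centralizer ({g₀} : Set (SpecialLinearGroup (Fin 2) F))).subgroupOf
      (Subgroup.normalizer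
      ((Subgroup.centralizer ({g₀} : Set (SpecialLinearGroup (Fin 2) F)) :
        Subgroup (SpecialLinearGroup (Fin 2) F)) : Set (SpecialLinearGroup (Fin 2) F)))).index =
      2 := h1
  rw [h4, Nat.card_congr (Subgroup.subgroupOfEquivOfLe (centralizer_le_normalizer g₀)).toEquiv]

omit [Fintype F] [DecidableEq F] in
theorem mul_self_eq_negOne_of_mem_normalizer (h2 : (2 : F) ≠ 0)
    (g₀ : SpecialLinearGroup (Fin 2) F)
    (ht : (g₀ : Matrix (Fin 2) (Fin 2) F).trace ^ 2 ≠ 4)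
    (x : SpecialLinearGroup (Fin 2) F)
    (hx : x ∈ Subgroup.normalizer
      ((Subgroup.centralizer ({g₀} : Set (SpecialLinearGroup (Fin 2) F)) :
        Subgroup (SpecialLinearGroup (Fin 2) F)) : Set (SpecialLinearGroup (Fin 2) F)))
    (hxT : x ∉ Subgroup.centralizer ({g₀} : Set (SpecialLinearGroup (Fin 2) F))) :
    x * x = negOneSL := by
  have hns := not_scalar_of_sq_ne_four g₀ ht
  rw [mem_normalizer_iff_conj h2 g₀ ht] at hx
  have hinv : x * g₀ * x⁻¹ = g₀⁻¹ := by
    rcases hx with h | h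
    · exfalso
      apply hxT
      rw [Subgroup.mem_centralizer_singleton_iff, ← mul_inv_eq_iff_eq_mul]
      exact h
    · exact h
  have hxx : x * x ∈ Subgroup.centralizer ({g₀} : Set (SpecialLinearGroup (Fin 2) F)) := by
    rw [Subgroup.mem_centralizer_singleton_iff, ← mul_inv_eq_iff_eq_mul]
    calc x * x * g₀ * (x * x)⁻¹ = x * (x * g₀ * x⁻¹) * x⁻¹ := by group
      _ = x * g₀⁻¹ * x⁻¹ := by rw [hinv]
      _ = (x * g₀ * x⁻¹)⁻¹ := by group
      _ = g₀ := by rw [hinv, inv_inv]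
  have h1 := conj_eq_inv_of_inverting x g₀ hns hinv (x * x) hxx
  have h3 : x * (x * x) * x⁻¹ = x * x := by group
  rw [h3] at h1
  have h4 : (x * x) * (x * x) = 1 := by
    nth_rewrite 1 [h1]
    exact inv_mul_cancel _
  rcases eq_one_or_negOne_of_mul_self h2 _ h4 with h | h
  · exfalso
    apply hxT
    rcases eq_one_or_negOne_of_mul_self h2 x h with h' | h'
    · rw [h']
      exact Subgroup.one_mem _
    · rw [h', Subgroup.mem_centralizer_singleton_iff]
      exact (negOneSL_commute g₀).symm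
  · exact h

theorem card_conjClasses_normalizer (h2 : (2 : F) ≠ 0) (g₀ : SpecialLinearGroup (Fin 2) F)
    (ht : (g₀ : Matrix (Fin 2) (Fin 2) F).trace ^ 2 ≠ 4) :
    2 * Nat.card (ConjClasses (Subgroup.normalizer
      ((Subgroup.centralizer ({g₀} : Set (SpecialLinearGroup (Fin 2) F)) :
        Subgroup (SpecialLinearGroup (Fin 2) F)) : Set (SpecialLinearGroup (Fin 2) F)))) =
      Nat.card (Subgroup.centralizer ({g₀} : Set (SpecialLinearGroup (Fin 2) F))) + 6 := by
  have hns := not_scalar_of_sq_ne_four g₀ ht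
  set T := Subgroup.centralizer ({g₀} : Set (SpecialLinearGroup (Fin 2) F)) with hT
  set N := Subgroup.normalizer ((T : Subgroup (SpecialLinearGroup (Fin 2) F)) :
    Set (SpecialLinearGroup (Fin 2) F)) with hN
  have hle : T ≤ N := Subgroup.le_normalizer
  have hzT : (negOneSL : SpecialLinearGroup (Fin 2) F) ∈ T := by
    rw [hT, Subgroup.mem_centralizer_singleton_iff]
    exact (negOneSL_commute g₀).symm
  have key := card_conjClasses_of_inverting (N := N) (T.subgroupOf N) ?_ ?_ ?_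
    ⟨negOneSL, hle hzT⟩ ?_ ?_ ?_
  · rw [key, Nat.card_congr (Subgroup.subgroupOfEquivOfLe hle).toEquiv]
  · -- commutativity
    rintro ⟨a, haN⟩ ha ⟨b, hbN⟩ hb
    rw [Subgroup.mem_subgroupOf] at ha hb
    apply Subtype.ext
    show a * b = b * a
    obtain ⟨α, β, hab⟩ := (mem_centralizer_iff_span g₀ hns a).1 ha
    rw [hT, Subgroup.mem_centralizer_singleton_iff, coe_commute_iff] at hb
    rw [coe_commute_iff, hab, add_mul, mul_add, Matrix.smul_mul, Matrix.one_mul, Matrix.mul_smul,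
      Matrix.mul_one, Matrix.smul_mul, Matrix.mul_smul, hb]
  · exact relIndex_centralizer_normalizer h2 g₀ ht
  · -- inversion
    rintro ⟨x, hxN⟩ hx ⟨y, hyN⟩ hy
    rw [Subgroup.mem_subgroupOf] at hx hy
    apply Subtype.ext
    show x * y * x⁻¹ = y⁻¹
    have hxN' := hxN
    rw [hN, mem_normalizer_iff_conj h2 g₀ ht] at hxN'
    have hinv : x * g₀ * x⁻¹ = g₀⁻¹ := by
      rcases hxN' with h | h
      · exfalso
        apply hx
        show x ∈ T
        rw [hT, Subgroup.mem_centralizer_singleton_iff, ← mul_inv_eq_iff_eq_mul]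
        exact h
      · exact h
    exact conj_eq_inv_of_inverting x g₀ hns hinv y hy
  · rw [Subgroup.mem_subgroupOf]
    exact hzT
  · intro h
    apply negOneSL_ne_one h2
    exact congrArg Subtype.val h
  · rintro ⟨y, hyN⟩ _
    constructor
    · intro h
      have h' : y * y = 1 := congrArg Subtype.val h
      rcases eq_one_or_negOne_of_mul_self h2 y h' with h1 | h1
      · left; exact Subtype.ext h1
      · right; exact Subtype.ext h1
    · rintro (h | h)
      · rw [h, mul_one]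
      · rw [h]
        apply Subtype.ext
        exact negOneSL_mul_self

end normalizer

end Cfsg.Agent.Lib.Helper5
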