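import Mathlib
import Cfsg.Agent.Lib.Helper5.SL2TorusNorm
import Cfsg.Agent.Lib.Helper5.SL2Class2

set_option autoImplicit false

/-!
The nonsplit torus of `SL₂` over a finite field: a cyclic subgroup of order `q + 1`.
-/

namespace Cfsg.Agent.Lib.Helper5

open Matrix

section general
variable {F : Type*} [Field F]

/-- A matrix in `SL₂` with an eigenvector has an eigenvalue which is a root of
`X² - tX + 1`. -/
theorem root_of_eigenvector (g : SpecialLinearGroup (Fin 2) F) (c : F) (v : Fin 2 → F)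
    (hv : v ≠ 0) (hgv : (g : Matrix (Fin 2) (Fin 2) F).mulVec v = c • v) :
    c ^ 2 - (g : Matrix (Fin 2) (Fin 2) F).trace * c + 1 = 0 := by
  have hdet : ((g : Matrix (Fin 2) (Fin 2) F) - c • (1 : Matrix (Fin 2) (Fin 2) F)).det = 0 := by
    rw [← Matrix.exists_mulVec_eq_zero_iff]
    refine ⟨v, hv, ?_⟩
    rw [Matrix.sub_mulVec, hgv, Matrix.smul_mulVec, Matrix.one_mulVec, sub_self]
  have hd := g.det_coe
  rw [Matrix.det_fin_two] at hd hdet
  rw [Matrix.trace_fin_two]
  simp only [Matrix.sub_apply, Matrix.smul_apply, Matrix.one_apply_eq, smul_eq_mul, mul_one,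
    Matrix.one_apply_ne (show (0 : Fin 2) ≠ 1 by decide),
    Matrix.one_apply_ne (show (1 : Fin 2) ≠ 0 by decide), mul_zero, sub_zero] at hdet
  linear_combination hdet - hd

/-- Elements `a + b g₀` with anisotropic norm form are zero or have nonzero determinant. -/
theorem det_span_ne_zero (g₀ : SpecialLinearGroup (Fin 2) F)
    (hroot : ∀ x : F, x ^ 2 - (g₀ : Matrix (Fin 2) (Fin 2) F).trace * x + 1 ≠ 0) (a b : F)
    (hab : a ≠ 0 ∨ b ≠ 0) :
    (a • (1 : Matrix (Fin 2) (Fin 2) F) + b • (g₀ : Matrix (Fin 2) (Fin 2) F)).det ≠ 0 := by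
  rw [det_smul_one_add_smul, g₀.det_coe, mul_one]
  intro h
  by_cases hb : b = 0
  · subst hb
    have ha : a ≠ 0 := hab.resolve_right (fun h => h rfl)
    apply ha
    have : a ^ 2 = 0 := by linear_combination h
    exact pow_eq_zero_iff (two_ne_zero) |>.1 this
  · apply hroot (-a / b)
    field_simp
    linear_combination h

/-- In the commutant of a nonsplit element, an element with the same trace is the element or
its inverse. -/
theorem eq_or_eq_inv_of_trace_eq' (g₀ : SpecialLinearGroup (Fin 2) F)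
    (hns : ¬ ∃ c : F, (g₀ : Matrix (Fin 2) (Fin 2) F) = c • (1 : Matrix (Fin 2) (Fin 2) F))
    (hroot : ∀ x : F, x ^ 2 - (g₀ : Matrix (Fin 2) (Fin 2) F).trace * x + 1 ≠ 0)
    (x : SpecialLinearGroup (Fin 2) F)
    (hx : x ∈ Subgroup.centralizer ({g₀} : Set (SpecialLinearGroup (Fin 2) F)))
    (htx : (x : Matrix (Fin 2) (Fin 2) F).trace = (g₀ : Matrix (Fin 2) (Fin 2) F).trace) :
    x = g₀ ∨ x = g₀⁻¹ := by
  obtain ⟨a, b, hab⟩ := (mem_centralizer_iff_span g₀ hns x).1 hx
  obtain ⟨t, ht⟩ : ∃ t : F, (g₀ : Matrix (Fin 2) (Fin 2) F).trace = t := ⟨_, rfl⟩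
  obtain ⟨M, hM⟩ : ∃ M : Matrix (Fin 2) (Fin 2) F, (g₀ : Matrix (Fin 2) (Fin 2) F) = M :=
    ⟨_, rfl⟩
  obtain ⟨X, hX⟩ : ∃ X : Matrix (Fin 2) (Fin 2) F, (x : Matrix (Fin 2) (Fin 2) F) = X :=
    ⟨_, rfl⟩
  have hcx := cayley_two_sl x
  have hcg := cayley_two_sl g₀
  have hinv := coe_inv_eq g₀
  rw [htx, ht, hX] at hcx
  rw [ht, hM] at hcg hinv
  rw [hM, hX] at hab
  rw [ht] at hroot
  have hcomm : X * M = M * X := by
    rw [hab, add_mul, mul_add, Matrix.smul_mul, Matrix.one_mul, Matrix.mul_smul, Matrix.mul_one,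
      Matrix.smul_mul, Matrix.mul_smul]
  have hprod : (X - M) * (X - (t • (1 : Matrix (Fin 2) (Fin 2) F) - M)) = 0 := by
    have e : (X - M) * (X - (t • (1 : Matrix (Fin 2) (Fin 2) F) - M))
        = (X * X + 1) - (M * M + 1) - t • (X - M) + (X * M - M * X) := by
      simp only [sub_mul, mul_sub, Matrix.mul_smul, Matrix.mul_one, smul_sub]
      abel
    rw [e, hcx, hcg, hcomm, sub_self, add_zero, smul_sub, sub_self]
  -- both factors lie in the span
  have h1 : X - M = a • (1 : Matrix (Fin 2) (Fin 2) F) + (b - 1) • M := by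
    rw [hab, sub_smul, one_smul]; abel
  have h2 : X - (t • (1 : Matrix (Fin 2) (Fin 2) F) - M) =
      (a - t) • (1 : Matrix (Fin 2) (Fin 2) F) + (b + 1) • M := by
    rw [hab, sub_smul, add_smul, one_smul]; abel
  have hdet : ∀ a' b' : F, (a' ≠ 0 ∨ b' ≠ 0) →
      (a' • (1 : Matrix (Fin 2) (Fin 2) F) + b' • M).det ≠ 0 := by
    intro a' b' hab'
    have := det_span_ne_zero g₀ (by rw [ht]; exact hroot) a' b' hab'
    rwa [hM] at this
  by_cases hz1 : a = 0 ∧ b - 1 = 0
  · left
    apply Subtype.ext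
    show (x : Matrix (Fin 2) (Fin 2) F) = (g₀ : Matrix (Fin 2) (Fin 2) F)
    rw [hX, hM]
    have : X - M = 0 := by
      rw [h1, hz1.1, hz1.2, zero_smul, zero_smul, add_zero]
    exact sub_eq_zero.1 this
  · by_cases hz2 : a - t = 0 ∧ b + 1 = 0
    · right
      apply Subtype.ext
      rw [hinv, hX]
      have : X - (t • (1 : Matrix (Fin 2) (Fin 2) F) - M) = 0 := by
        rw [h2, hz2.1, hz2.2, zero_smul, zero_smul, add_zero]
      exact sub_eq_zero.1 this
    · exfalso
      have d1 := hdet a (b - 1) (by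
        by_contra hcon
        push Not at hcon
        exact hz1 hcon)
      have d2 := hdet (a - t) (b + 1) (by
        by_contra hcon
        push Not at hcon
        exact hz2 hcon)
      have := congrArg Matrix.det hprod
      rw [Matrix.det_mul, h1, h2, Matrix.det_zero] at this
      exact (mul_ne_zero d1 d2) this

end general

section finite
variable {F : Type*} [Field F] [Fintype F] [DecidableEq F]

theorem no_root_of_rootCount_zero (t : F) (hr : rootCount t = 0) (x : F) :
    x ^ 2 - t * x + 1 ≠ 0 := by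
  intro hx
  unfold rootCount at hr
  rw [Finset.card_eq_zero] at hr
  have : x ∈ Finset.univ.filter (fun x : F => x ^ 2 - t * x + 1 = 0) := by
    simp [hx]
  rw [hr] at this
  exact absurd this (Finset.notMem_empty x)

/-- An element whose trace has no root has no eigenvector. -/
theorem no_eigenvector_of_rootCount_zero (g : SpecialLinearGroup (Fin 2) F)
    (hr : rootCount (g : Matrix (Fin 2) (Fin 2) F).trace = 0) (c : F) (v : Fin 2 → F)
    (hv : v ≠ 0) : (g : Matrix (Fin 2) (Fin 2) F).mulVec v ≠ c • v := fun h =>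
  no_root_of_rootCount_zero _ hr c (root_of_eigenvector g c v hv h)

/-- The possible orders of centralizers of non-scalar elements force an element whose
centralizer has order `q + 1` to be nonsplit. -/
theorem nonsplit_of_card_centralizer (g : SpecialLinearGroup (Fin 2) F)
    (hns : ¬ ∃ c : F, (g : Matrix (Fin 2) (Fin 2) F) = c • (1 : Matrix (Fin 2) (Fin 2) F))
    (hdvd : Fintype.card F + 1 ∣
      Nat.card (Subgroup.centralizer ({g} : Set (SpecialLinearGroup (Fin 2) F)))) :
    (g : Matrix (Fin 2) (Fin 2) F).trace ^ 2 ≠ 4 ∧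
      rootCount (g : Matrix (Fin 2) (Fin 2) F).trace = 0 ∧
      Nat.card (Subgroup.centralizer ({g} : Set (SpecialLinearGroup (Fin 2) F)))
        = Fintype.card F + 1 := by
  have hq : 2 ≤ Fintype.card F := Fintype.one_lt_card
  have hpos : 0 < Nat.card (Subgroup.centralizer ({g} : Set (SpecialLinearGroup (Fin 2) F))) :=
    Nat.card_pos
  by_cases ht : (g : Matrix (Fin 2) (Fin 2) F).trace ^ 2 = 4
  · exfalso
    have h := card_centralizer_special g hns ht
    rw [h] at hdvd
    split_ifs at hdvd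
    · have := Nat.le_of_dvd (by omega) hdvd
      omega
    · have h2 : Fintype.card F + 1 ∣ 2 * (Fintype.card F + 1) := Dvd.intro_left 2 rfl
      have h3 : Fintype.card F + 1 ∣ 2 := by
        have := (Nat.dvd_sub h2 hdvd)
        have e : 2 * (Fintype.card F + 1) - 2 * Fintype.card F = 2 := by omega
        rwa [e] at this
      have := Nat.le_of_dvd (by omega) h3
      omega
  · have h := card_centralizer_generic g ht
    rcases rootCount_eq_zero_or_two _ ht with hr | hr
    · rw [hr, add_zero] at h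
      exact ⟨ht, hr, h⟩
    · exfalso
      rw [hr] at h
      have := Nat.le_of_dvd hpos hdvd
      omega

/-- An element of order `q + 1` is nonsplit. -/
theorem nonsplit_of_orderOf (g : SpecialLinearGroup (Fin 2) F)
    (hg : orderOf g = Fintype.card F + 1) :
    (¬ ∃ c : F, (g : Matrix (Fin 2) (Fin 2) F) = c • (1 : Matrix (Fin 2) (Fin 2) F)) ∧
    (g : Matrix (Fin 2) (Fin 2) F).trace ^ 2 ≠ 4 ∧
      rootCount (g : Matrix (Fin 2) (Fin 2) F).trace = 0 ∧
      Nat.card (Subgroup.centralizer ({g} : Set (SpecialLinearGroup (Fin 2) F)))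
        = Fintype.card F + 1 := by
  have hq : 2 ≤ Fintype.card F := Fintype.one_lt_card
  have hns : ¬ ∃ c : F, (g : Matrix (Fin 2) (Fin 2) F) = c • (1 : Matrix (Fin 2) (Fin 2) F) := by
    rintro ⟨c, hc⟩
    have hc2 := (sq_eq_four_of_scalar g c hc).2
    have hgg : g ^ 2 = 1 := by
      apply Subtype.ext
      rw [sq]
      show (g : Matrix (Fin 2) (Fin 2) F) * (g : Matrix (Fin 2) (Fin 2) F) = 1
      rw [hc, Matrix.smul_mul, Matrix.one_mul, smul_smul, ← sq, hc2, one_smul]
    have := orderOf_dvd_of_pow_eq_one hgg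
    rw [hg] at this
    have := Nat.le_of_dvd (by norm_num) this
    omega
  refine ⟨hns, nonsplit_of_card_centralizer g hns ?_⟩
  rw [← hg]
  exact orderOf_dvd_of_pow_eq_one (pow_card_centralizer_eq_one g)

end finite

section center
variable {F : Type*} [Field F]

theorem mem_center_iff_scalar (h : SpecialLinearGroup (Fin 2) F) :
    h ∈ Subgroup.center (SpecialLinearGroup (Fin 2) F) ↔
      ∃ c : F, (h : Matrix (Fin 2) (Fin 2) F) = c • (1 : Matrix (Fin 2) (Fin 2) F) := by
  rw [Matrix.SpecialLinearGroup.mem_center_iff]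
  constructor
  · rintro ⟨r, -, hr⟩
    refine ⟨r, ?_⟩
    rw [← hr, Matrix.scalar_apply, ← Matrix.smul_one_eq_diagonal]
  · rintro ⟨c, hc⟩
    refine ⟨c, ?_, ?_⟩
    · rw [Fintype.card_fin]
      exact (sq_eq_four_of_scalar h c hc).2
    · rw [hc, Matrix.scalar_apply, ← Matrix.smul_one_eq_diagonal]

/-- Commuting with a non-scalar element of the span of `1` and `g₀`. -/
theorem centralizer_eq_of_mem_span (g₀ c : SpecialLinearGroup (Fin 2) F)
    (hc : c ∈ Subgroup.centralizer ({g₀} : Set (SpecialLinearGroup (Fin 2) F)))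
    (hns₀ : ¬ ∃ r : F, (g₀ : Matrix (Fin 2) (Fin 2) F) = r • (1 : Matrix (Fin 2) (Fin 2) F))
    (hns : ¬ ∃ r : F, (c : Matrix (Fin 2) (Fin 2) F) = r • (1 : Matrix (Fin 2) (Fin 2) F)) :
    Subgroup.centralizer ({c} : Set (SpecialLinearGroup (Fin 2) F)) =
      Subgroup.centralizer ({g₀} : Set (SpecialLinearGroup (Fin 2) F)) := by
  obtain ⟨a, b, hab⟩ := (mem_centralizer_iff_span g₀ hns₀ c).1 hc
  have hb : b ≠ 0 := by
    rintro rfl
    apply hns
    refine ⟨a, ?_⟩
    rw [hab, zero_smul, add_zero]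
  ext x
  rw [Subgroup.mem_centralizer_singleton_iff, Subgroup.mem_centralizer_singleton_iff,
    coe_commute_iff, coe_commute_iff, hab]
  simp only [mul_add, add_mul, Matrix.mul_smul, Matrix.smul_mul, Matrix.mul_one, Matrix.one_mul]
  constructor
  · intro h
    have h1 : b • ((x : Matrix (Fin 2) (Fin 2) F) * (g₀ : Matrix (Fin 2) (Fin 2) F)) =
        b • ((g₀ : Matrix (Fin 2) (Fin 2) F) * (x : Matrix (Fin 2) (Fin 2) F)) :=
      add_left_cancel h
    have h2 := congrArg (fun M => b⁻¹ • M) h1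
    simpa [smul_smul, inv_mul_cancel₀ hb] using h2
  · intro h
    rw [h]

end center

section torus
variable {F : Type*} [Field F] [Fintype F] [DecidableEq F]
  (C : Subgroup (SpecialLinearGroup (Fin 2) F))

/-- A cyclic subgroup of order `q + 1` is the centralizer of a nonsplit generator. -/
theorem exists_generator_nonsplit (hC : IsCyclic C) (hcard : Nat.card C = Fintype.card F + 1) :
    ∃ g₀ : SpecialLinearGroup (Fin 2) F, g₀ ∈ C ∧ orderOf g₀ = Fintype.card F + 1 ∧
      C = Subgroup.centralizer ({g₀} : Set (SpecialLinearGroup (Fin 2) F)) := by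
  obtain ⟨g, hg⟩ := hC.exists_generator
  have hord : orderOf (g : SpecialLinearGroup (Fin 2) F) = Fintype.card F + 1 := by
    rw [Subgroup.orderOf_coe, orderOf_eq_card_of_forall_mem_zpowers hg, hcard]
  refine ⟨g, g.2, hord, ?_⟩
  have hle : C ≤ Subgroup.centralizer ({(g : SpecialLinearGroup (Fin 2) F)} :
      Set (SpecialLinearGroup (Fin 2) F)) := by
    intro c hc
    rw [Subgroup.mem_centralizer_singleton_iff]
    obtain ⟨k, hk⟩ := Subgroup.mem_zpowers_iff.1 (hg ⟨c, hc⟩)
    have hk' : (g : SpecialLinearGroup (Fin 2) F) ^ k = c := by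
      have := congrArg Subtype.val hk
      simpa using this
    rw [← hk']
    exact ((Commute.refl (g : SpecialLinearGroup (Fin 2) F)).zpow_left k).eq
  apply Subgroup.eq_of_le_of_card_ge hle
  rw [hcard, (nonsplit_of_orderOf _ hord).2.2.2]

/-- The basic structure of a cyclic subgroup of order `q + 1`. -/
theorem torus_structure (hC : IsCyclic C) (hcard : Nat.card C = Fintype.card F + 1)
    (c : SpecialLinearGroup (Fin 2) F) (hc : c ∈ C)
    (hns : ¬ ∃ r : F, (c : Matrix (Fin 2) (Fin 2) F) = r • (1 : Matrix (Fin 2) (Fin 2) F)) :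
    Subgroup.centralizer ({c} : Set (SpecialLinearGroup (Fin 2) F)) = C ∧
      (c : Matrix (Fin 2) (Fin 2) F).trace ^ 2 ≠ 4 ∧
      rootCount (c : Matrix (Fin 2) (Fin 2) F).trace = 0 := by
  obtain ⟨g₀, hg₀, hord, hCe⟩ := exists_generator_nonsplit C hC hcard
  obtain ⟨hns₀, -, -, hcard₀⟩ := nonsplit_of_orderOf g₀ hord
  have hcc : c ∈ Subgroup.centralizer ({g₀} : Set (SpecialLinearGroup (Fin 2) F)) := by
    rw [← hCe]; exact hc
  have hcent := centralizer_eq_of_mem_span g₀ c hcc hns₀ hns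
  have h1 : Subgroup.centralizer ({c} : Set (SpecialLinearGroup (Fin 2) F)) = C := by
    rw [hcent, ← hCe]
  refine ⟨h1, ?_⟩
  have h2 := nonsplit_of_card_centralizer c hns (by rw [h1, hcard])
  exact ⟨h2.1, h2.2.1⟩

/-- Scalar elements lie in the torus. -/
theorem scalar_mem_torus (hC : IsCyclic C) (hcard : Nat.card C = Fintype.card F + 1)
    (z : SpecialLinearGroup (Fin 2) F)
    (hz : ∃ r : F, (z : Matrix (Fin 2) (Fin 2) F) = r • (1 : Matrix (Fin 2) (Fin 2) F)) :
    z ∈ C := by
  obtain ⟨g₀, hg₀, hord, hCe⟩ := exists_generator_nonsplit C hC hcard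
  rw [hCe, Subgroup.mem_centralizer_singleton_iff]
  obtain ⟨r, hr⟩ := hz
  apply Subtype.ext
  show (z : Matrix (Fin 2) (Fin 2) F) * (g₀ : Matrix (Fin 2) (Fin 2) F) =
    (g₀ : Matrix (Fin 2) (Fin 2) F) * (z : Matrix (Fin 2) (Fin 2) F)
  rw [hr, Matrix.smul_mul, Matrix.one_mul, Matrix.mul_smul, Matrix.mul_one]

/-- Conjugates of a non-central element of the torus inside the torus. -/
theorem isConj_in_torus_iff (hC : IsCyclic C) (hcard : Nat.card C = Fintype.card F + 1)
    (c h : SpecialLinearGroup (Fin 2) F) (hc : c ∈ C) (hh : h ∈ C)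
    (hns : ¬ ∃ r : F, (c : Matrix (Fin 2) (Fin 2) F) = r • (1 : Matrix (Fin 2) (Fin 2) F)) :
    IsConj c h ↔ (h = c ∨ h = c⁻¹) := by
  obtain ⟨hcent, ht, hr⟩ := torus_structure C hC hcard c hc hns
  constructor
  · intro hconj
    have htr : (h : Matrix (Fin 2) (Fin 2) F).trace = (c : Matrix (Fin 2) (Fin 2) F).trace := by
      obtain ⟨x, hx⟩ := isConj_iff.1 hconj
      rw [← hx]
      exact Cfsg.Agent.Lib.Helper5.trace_conj x c
    apply eq_or_eq_inv_of_trace_eq' c hns (no_root_of_rootCount_zero _ hr) h _ htr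
    rw [hcent]; exact hh
  · rintro (rfl | rfl)
    · exact IsConj.refl _
    · apply isConj_of_trace_eq c c⁻¹ _ ht
      rw [coe_inv_eq, Matrix.trace_sub, Matrix.trace_smul, Matrix.trace_one, Fintype.card_fin,
        smul_eq_mul]
      push_cast
      ring

/-- A non-central element of the torus is not an involution. -/
theorem ne_inv_of_mem_torus (hC : IsCyclic C) (hcard : Nat.card C = Fintype.card F + 1)
    (c : SpecialLinearGroup (Fin 2) F) (hc : c ∈ C)
    (hns : ¬ ∃ r : F, (c : Matrix (Fin 2) (Fin 2) F) = r • (1 : Matrix (Fin 2) (Fin 2) F)) :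
    c ≠ c⁻¹ := by
  obtain ⟨-, ht, -⟩ := torus_structure C hC hcard c hc hns
  intro h
  have h1 : (c : Matrix (Fin 2) (Fin 2) F) = (c : Matrix (Fin 2) (Fin 2) F).trace •
      (1 : Matrix (Fin 2) (Fin 2) F) - (c : Matrix (Fin 2) (Fin 2) F) := by
    conv_lhs => rw [h]
    exact coe_inv_eq c
  -- 2 c = t, so either c scalar or t = 0 = 2
  by_cases h2 : (2 : F) = 0
  · apply ht
    have h3 : (c : Matrix (Fin 2) (Fin 2) F).trace • (1 : Matrix (Fin 2) (Fin 2) F) =
        (2 : F) • (c : Matrix (Fin 2) (Fin 2) F) := by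
      rw [two_smul]
      exact (eq_sub_iff_add_eq.1 h1).symm
    rw [h2, zero_smul] at h3
    have h4 := congrFun (congrFun h3 0) 0
    simp only [Matrix.smul_apply, Matrix.one_apply_eq, smul_eq_mul, mul_one,
      Matrix.zero_apply] at h4
    rw [h4]
    have : (4 : F) = 2 * 2 := by norm_num
    rw [this, h2]
    ring
  · apply hns
    refine ⟨(c : Matrix (Fin 2) (Fin 2) F).trace / 2, ?_⟩
    have h3 : (2 : F) • (c : Matrix (Fin 2) (Fin 2) F) =
        (c : Matrix (Fin 2) (Fin 2) F).trace • (1 : Matrix (Fin 2) (Fin 2) F) := by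
      rw [two_smul]
      exact eq_sub_iff_add_eq.1 h1
    have h4 := congrArg (fun M => (2 : F)⁻¹ • M) h3
    simp only [smul_smul, inv_mul_cancel₀ h2, one_smul] at h4
    rw [div_eq_inv_mul]
    exact h4

end torus

end Cfsg.Agent.Lib.Helper5
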