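import Mathlib
import Cfsg.Prelude.Def_Characters
import Cfsg.Agent.Lib.Helper5.SL2Nonsplit
import Cfsg.Agent.Lib.Helper5.IndConj

set_option autoImplicit false

/-!
Values of functions induced from the nonsplit torus of `SL₂` over a finite field.
-/

namespace Cfsg.Agent.Lib.Helper5

open Matrix

section
variable {F : Type*} [Field F] [Fintype F] [DecidableEq F]
  (C : Subgroup (SpecialLinearGroup (Fin 2) F))

/-- Value of an induced function at a non-central element of the torus. -/
theorem indFun_torus_of_mem (hC : IsCyclic C) (hcard : Nat.card C = Fintype.card F + 1)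
    (θ : C → ℂ) (c : SpecialLinearGroup (Fin 2) F) (hc : c ∈ C)
    (hns : ¬ ∃ r : F, (c : Matrix (Fin 2) (Fin 2) F) = r • (1 : Matrix (Fin 2) (Fin 2) F)) :
    Cfsg.indFun C θ c = θ ⟨c, hc⟩ + θ ⟨c⁻¹, C.inv_mem hc⟩ := by
  classical
  have : Fintype C := Fintype.ofFinite C
  rw [indFun_eq_sum_conj C θ c]
  obtain ⟨hcent, -, -⟩ := torus_structure C hC hcard c hc hns
  rw [hcent]
  have hC0 : (Nat.card C : ℂ) ≠ 0 := Nat.cast_ne_zero.mpr Nat.card_pos.ne'
  rw [← mul_assoc, inv_mul_cancel₀ hC0, one_mul]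
  have hne : (⟨c, hc⟩ : C) ≠ ⟨c⁻¹, C.inv_mem hc⟩ := by
    intro h
    exact ne_inv_of_mem_torus C hC hcard c hc hns (congrArg Subtype.val h)
  have hterm : ∀ h : C, (if IsConj c (h : SpecialLinearGroup (Fin 2) F) then θ h else 0)
      = (if h = ⟨c, hc⟩ then θ h else 0) + (if h = ⟨c⁻¹, C.inv_mem hc⟩ then θ h else 0) := by
    intro h
    by_cases h1 : h = ⟨c, hc⟩
    · have h2 : ¬ h = ⟨c⁻¹, C.inv_mem hc⟩ := fun h3 => hne (h1.symm.trans h3)
      rw [if_pos h1, if_neg h2, add_zero, if_pos]
      rw [h1]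
    · by_cases h2 : h = ⟨c⁻¹, C.inv_mem hc⟩
      · rw [if_neg h1, if_pos h2, zero_add, if_pos]
        rw [isConj_in_torus_iff C hC hcard c h hc h.2 hns]
        right
        rw [h2]
      · rw [if_neg h1, if_neg h2, add_zero, if_neg]
        rw [isConj_in_torus_iff C hC hcard c h hc h.2 hns]
        rintro (h3 | h3)
        · exact h1 (Subtype.ext h3)
        · exact h2 (Subtype.ext h3)
  rw [Finset.sum_congr rfl fun h _ => hterm h, Finset.sum_add_distrib, Finset.sum_ite_eq',
    Finset.sum_ite_eq', if_pos (Finset.mem_univ _), if_pos (Finset.mem_univ _)]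

/-- Value of an induced function at a central element. -/
theorem indFun_torus_of_scalar (hC : IsCyclic C) (hcard : Nat.card C = Fintype.card F + 1)
    (θ : C → ℂ) (z : SpecialLinearGroup (Fin 2) F)
    (hz : ∃ r : F, (z : Matrix (Fin 2) (Fin 2) F) = r • (1 : Matrix (Fin 2) (Fin 2) F)) :
    Cfsg.indFun C θ z = ((Fintype.card F : ℂ) * ((Fintype.card F : ℂ) - 1)) *
      θ ⟨z, scalar_mem_torus C hC hcard z hz⟩ := by
  classical
  have : Fintype C := Fintype.ofFinite C
  rw [indFun_eq_sum_conj C θ z]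
  obtain ⟨r, hr⟩ := hz
  rw [centralizer_eq_top_of_scalar z r hr]
  have hcardG : Nat.card (⊤ : Subgroup (SpecialLinearGroup (Fin 2) F)) =
      Fintype.card F * (Fintype.card F - 1) * (Fintype.card F + 1) := by
    rw [Nat.card_congr Subgroup.topEquiv.toEquiv, card_SL2]
  rw [hcardG, hcard]
  have hcenter : z ∈ Subgroup.center (SpecialLinearGroup (Fin 2) F) :=
    (mem_center_iff_scalar z).2 ⟨r, hr⟩
  have hterm : ∀ h : C, (if IsConj z (h : SpecialLinearGroup (Fin 2) F) then θ h else 0)
      = (if h = ⟨z, scalar_mem_torus C hC hcard z ⟨r, hr⟩⟩ then θ h else 0) := by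
    intro h
    by_cases h1 : h = ⟨z, scalar_mem_torus C hC hcard z ⟨r, hr⟩⟩
    · rw [if_pos h1, if_pos]
      rw [h1]
    · rw [if_neg h1, if_neg]
      intro hconj
      obtain ⟨x, hx⟩ := isConj_iff.1 hconj
      apply h1
      apply Subtype.ext
      show (h : SpecialLinearGroup (Fin 2) F) = z
      rw [← hx, Subgroup.mem_center_iff.1 hcenter x, mul_inv_cancel_right]
  rw [Finset.sum_congr rfl fun h _ => hterm h, Finset.sum_ite_eq', if_pos (Finset.mem_univ _)]
  have hq : 1 ≤ Fintype.card F := Fintype.card_pos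
  have hq1 : ((Fintype.card F : ℂ) + 1) ≠ 0 := by
    have : ((Fintype.card F + 1 : ℕ) : ℂ) ≠ 0 := Nat.cast_ne_zero.mpr (by omega)
    simpa using this
  push_cast [Nat.cast_sub hq]
  field_simp

/-- An induced function vanishes at non-central elements having an eigenvalue. -/
theorem indFun_torus_of_root (hC : IsCyclic C) (hcard : Nat.card C = Fintype.card F + 1)
    (θ : C → ℂ) (g : SpecialLinearGroup (Fin 2) F)
    (hns : ¬ ∃ r : F, (g : Matrix (Fin 2) (Fin 2) F) = r • (1 : Matrix (Fin 2) (Fin 2) F))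
    (x : F) (hx : x ^ 2 - (g : Matrix (Fin 2) (Fin 2) F).trace * x + 1 = 0) :
    Cfsg.indFun C θ g = 0 := by
  classical
  have : Fintype C := Fintype.ofFinite C
  rw [indFun_eq_sum_conj C θ g]
  have hsum : (∑ h : C, if IsConj g (h : SpecialLinearGroup (Fin 2) F) then θ h else 0) = 0 := by
    apply Finset.sum_eq_zero
    intro h _
    rw [if_neg]
    intro hconj
    obtain ⟨y, hy⟩ := isConj_iff.1 hconj
    have htr : ((h : SpecialLinearGroup (Fin 2) F) : Matrix (Fin 2) (Fin 2) F).trace =
        (g : Matrix (Fin 2) (Fin 2) F).trace := by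
      rw [← hy]
      exact Cfsg.Agent.Lib.Helper5.trace_conj y g
    by_cases hs : ∃ r : F, ((h : SpecialLinearGroup (Fin 2) F) : Matrix (Fin 2) (Fin 2) F) =
        r • (1 : Matrix (Fin 2) (Fin 2) F)
    · apply hns
      have hcenter : (h : SpecialLinearGroup (Fin 2) F) ∈
          Subgroup.center (SpecialLinearGroup (Fin 2) F) := (mem_center_iff_scalar _).2 hs
      have hgh : g = (h : SpecialLinearGroup (Fin 2) F) := by
        have h1 : g = y⁻¹ * (h : SpecialLinearGroup (Fin 2) F) * y := by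
          rw [← hy]; group
        rw [h1, Subgroup.mem_center_iff.1 hcenter y⁻¹, inv_mul_cancel_right]
      rw [hgh]
      exact hs
    · obtain ⟨-, -, hr⟩ := torus_structure C hC hcard h h.2 hs
      rw [htr] at hr
      exact no_root_of_rootCount_zero _ hr x hx
  rw [hsum, mul_zero, mul_zero]

end

end Cfsg.Agent.Lib.Helper5
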