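import Mathlib
import Cfsg.Prelude.Def_Characters
import Cfsg.Prelude.Def_ParabolicCharacters
import Cfsg.Agent.Lib.Helper5.BorelValues
import Cfsg.Agent.Lib.Helper5.BorelChar

set_option autoImplicit false

/-!
Values of the principal series functions of `SL₂` on the Borel subgroup and on elements
without eigenvalues.
-/

namespace Cfsg.Agent.Lib.Helper5

open Matrix

section
variable {F : Type*} [Field F] [Fintype F] [DecidableEq F]

/-- The Borel subgroup of `SL₂`. -/
abbrev borelSL (F : Type*) [Field F] : Subgroup (SpecialLinearGroup (Fin 2) F) :=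
  (Cfsg.upperTriangularGL 2 F).comap SpecialLinearGroup.toGL

/-- The principal series function attached to a multiplicative character. -/
noncomputable def psFun (α : MulChar F ℂ) : SpecialLinearGroup (Fin 2) F → ℂ :=
  Cfsg.indFun (borelSL F)
    (fun b => α (((b : SpecialLinearGroup (Fin 2) F) : Matrix (Fin 2) (Fin 2) F) 0 0))

/-- The number of `s` with `(a⁻¹ - a) s = u`. -/
noncomputable def fixCount (a : Fˣ) (u : F) : ℂ :=
  ∑ s : F, if (((a⁻¹ : Fˣ) : F) - (a : F)) * s = u then 1 else 0

omit [Fintype F] [DecidableEq F] in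
theorem sq_eq_one_iff_inv (a : Fˣ) : (a : F) ^ 2 = 1 ↔ ((a⁻¹ : Fˣ) : F) = (a : F) := by
  constructor
  · intro h
    have : a⁻¹ = a := by
      rw [inv_eq_iff_mul_eq_one]
      apply Units.ext
      rw [Units.val_mul, Units.val_one, ← sq, h]
    rw [this]
  · intro h
    rw [sq]
    nth_rewrite 1 [← h]
    exact Units.inv_mul a

theorem fixCount_eq (a : Fˣ) (u : F) :
    fixCount a u = if (a : F) ^ 2 = 1 then (if u = 0 then (Fintype.card F : ℂ) else 0) else 1 := by
  unfold fixCount
  by_cases ha : (a : F) ^ 2 = 1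
  · rw [if_pos ha]
    have h0 : ((a⁻¹ : Fˣ) : F) - (a : F) = 0 := sub_eq_zero.2 ((sq_eq_one_iff_inv a).1 ha)
    simp only [h0, zero_mul]
    by_cases hu : u = 0
    · subst hu
      simp
    · rw [if_neg hu]
      apply Finset.sum_eq_zero
      intro s _
      rw [if_neg (fun h => hu h.symm)]
  · rw [if_neg ha]
    have h0 : ((a⁻¹ : Fˣ) : F) - (a : F) ≠ 0 := fun h =>
      ha ((sq_eq_one_iff_inv a).2 (sub_eq_zero.1 h))
    have : ∀ s : F, ((((a⁻¹ : Fˣ) : F) - (a : F)) * s = u) ↔
        s = u / (((a⁻¹ : Fˣ) : F) - (a : F)) := by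
      intro s
      rw [eq_div_iff h0, mul_comm]
    simp only [this]
    rw [Finset.sum_ite_eq']
    simp

/-- Value of a principal series function on the Borel subgroup. -/
theorem psFun_slE (α : MulChar F ℂ) (a : Fˣ) (u : F) :
    psFun α ((slE (a, u) : borelSL F) : SpecialLinearGroup (Fin 2) F)
      = α (a : F) + fixCount a u * α (((a⁻¹ : Fˣ) : F)) := by
  have key := indFun_borel_on_H slM (borelSL F) slX mem_borelSL_two slM_slX
    (fun a _ => α a) (slE (a, u))
  rw [slM_slE] at key
  unfold psFun fixCount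
  refine key.trans ?_
  congr 1
  rw [Finset.sum_mul]
  refine Finset.sum_congr rfl fun s _ => ?_
  simp only [Matrix.of_apply, Matrix.cons_val', Matrix.cons_val_zero, Matrix.cons_val_one,
    Matrix.empty_val', Matrix.cons_val_fin_one]
  split_ifs <;> simp

/-- A principal series function vanishes at an element without eigenvalue. -/
theorem psFun_of_no_root (α : MulChar F ℂ) (g : SpecialLinearGroup (Fin 2) F)
    (hroot : ∀ x : F, x ^ 2 - (g : Matrix (Fin 2) (Fin 2) F).trace * x + 1 ≠ 0) :
    psFun α g = 0 := by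
  have key := indFun_borel_value slM (borelSL F) slX mem_borelSL_two slM_slX
    (fun a _ => α a) g
  unfold psFun
  refine key.trans ?_
  have hd : slM g 0 0 * slM g 1 1 - slM g 0 1 * slM g 1 0 = 1 := by
    have := g.det_coe
    rwa [Matrix.det_fin_two] at this
  have htr : (g : Matrix (Fin 2) (Fin 2) F).trace = slM g 0 0 + slM g 1 1 := by
    rw [Matrix.trace_fin_two]; rfl
  have hc : slM g 1 0 ≠ 0 := by
    intro hc
    apply hroot (slM g 0 0)
    rw [htr]
    rw [hc, mul_zero, sub_zero] at hd
    linear_combination -hd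
  rw [if_neg hc, zero_add]
  apply Finset.sum_eq_zero
  intro s _
  rw [if_neg]
  intro hs
  apply hroot (slM g 1 0 * s + slM g 1 1)
  rw [htr]
  linear_combination (slM g 1 0) * hs - hd

end

end Cfsg.Agent.Lib.Helper5
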