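import Mathlib
import Cfsg.Prelude.Def_Characters
import Cfsg.Agent.Lib.Helper5.SL2PsValues
import Cfsg.Agent.Lib.Helper5.SL2CuspInd

set_option autoImplicit false

/-!
The cuspidal class functions of `SL₂` over a finite field and their values.
-/

namespace Cfsg.Agent.Lib.Helper5

open Matrix

section
variable {F : Type*} [Field F] [Fintype F] [DecidableEq F]
  (C : Subgroup (SpecialLinearGroup (Fin 2) F))

/-- The cuspidal class function attached to a function on the nonsplit torus and a compatible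
multiplicative character. -/
noncomputable def cuspFun (α : MulChar F ℂ) (θ : C → ℂ) : SpecialLinearGroup (Fin 2) F → ℂ :=
  fun g => (psFun (1 : MulChar F ℂ) g - 2) * psFun α g - Cfsg.indFun C θ g

omit [Fintype F] [DecidableEq F] in
theorem slE_coe (a : Fˣ) (u : F) :
    (((slE (a, u) : borelSL F) : SpecialLinearGroup (Fin 2) F) : Matrix (Fin 2) (Fin 2) F)
      = !![(a : F), u; 0, ((a⁻¹ : Fˣ) : F)] := rfl

omit [Fintype F] [DecidableEq F] in
theorem slE_trace (a : Fˣ) (u : F) :
    (((slE (a, u) : borelSL F) : SpecialLinearGroup (Fin 2) F) :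
      Matrix (Fin 2) (Fin 2) F).trace = (a : F) + ((a⁻¹ : Fˣ) : F) := by
  rw [slE_coe, Matrix.trace_fin_two_of]

omit [Fintype F] [DecidableEq F] in
theorem slE_root (a : Fˣ) (u : F) :
    (a : F) ^ 2 - (((slE (a, u) : borelSL F) : SpecialLinearGroup (Fin 2) F) :
      Matrix (Fin 2) (Fin 2) F).trace * (a : F) + 1 = 0 := by
  rw [slE_trace]
  have : ((a⁻¹ : Fˣ) : F) * (a : F) = 1 := Units.inv_mul a
  linear_combination -this

omit [Fintype F] [DecidableEq F] in
theorem slE_scalar_iff (a : Fˣ) (u : F) :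
    (∃ r : F, (((slE (a, u) : borelSL F) : SpecialLinearGroup (Fin 2) F) :
      Matrix (Fin 2) (Fin 2) F) = r • (1 : Matrix (Fin 2) (Fin 2) F)) ↔
      ((a : F) ^ 2 = 1 ∧ u = 0) := by
  rw [slE_coe]
  constructor
  · rintro ⟨r, hr⟩
    have h00 := congrFun (congrFun hr 0) 0
    have h01 := congrFun (congrFun hr 0) 1
    have h11 := congrFun (congrFun hr 1) 1
    simp at h00 h01 h11
    refine ⟨?_, h01⟩
    rw [sq_eq_one_iff_inv, Units.val_inv_eq_inv_val, h11, h00]
  · rintro ⟨ha, rfl⟩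
    refine ⟨(a : F), ?_⟩
    rw [(sq_eq_one_iff_inv a).1 ha]
    ext i j
    fin_cases i <;> fin_cases j <;> simp

theorem psFun_one_slE (a : Fˣ) (u : F) :
    psFun (1 : MulChar F ℂ) ((slE (a, u) : borelSL F) : SpecialLinearGroup (Fin 2) F)
      = 1 + fixCount a u := by
  rw [psFun_slE, MulChar.one_apply_coe, MulChar.one_apply_coe, mul_one]

/-- Value of the cuspidal function on regular elements of the Borel subgroup. -/
theorem cuspFun_slE_regular (hC : IsCyclic C) (hcard : Nat.card C = Fintype.card F + 1)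
    (α : MulChar F ℂ) (θ : C → ℂ) (a : Fˣ) (u : F) (ha : (a : F) ^ 2 ≠ 1) :
    cuspFun C α θ ((slE (a, u) : borelSL F) : SpecialLinearGroup (Fin 2) F) = 0 := by
  unfold cuspFun
  rw [psFun_one_slE, fixCount_eq, if_neg ha,
    indFun_torus_of_root C hC hcard θ _ (fun h => ha ((slE_scalar_iff a u).1 h).1) (a : F)
      (slE_root a u)]
  ring

/-- Value of the cuspidal function on non-central elements of `ZU`. -/
theorem cuspFun_slE_unip (hC : IsCyclic C) (hcard : Nat.card C = Fintype.card F + 1)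
    (α : MulChar F ℂ) (θ : C → ℂ) (a : Fˣ) (u : F) (ha : (a : F) ^ 2 = 1) (hu : u ≠ 0) :
    cuspFun C α θ ((slE (a, u) : borelSL F) : SpecialLinearGroup (Fin 2) F) = - α (a : F) := by
  unfold cuspFun
  rw [psFun_one_slE, psFun_slE, fixCount_eq, if_pos ha, if_neg hu,
    indFun_torus_of_root C hC hcard θ _ (fun h => hu ((slE_scalar_iff a u).1 h).2) (a : F)
      (slE_root a u)]
  ring

/-- Value of the cuspidal function on central elements. -/
theorem cuspFun_slE_central (hC : IsCyclic C) (hcard : Nat.card C = Fintype.card F + 1)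
    (α : MulChar F ℂ) (θ : C → ℂ) (a : Fˣ) (ha : (a : F) ^ 2 = 1) :
    cuspFun C α θ ((slE (a, 0) : borelSL F) : SpecialLinearGroup (Fin 2) F)
      = ((Fintype.card F : ℂ) - 1) * (((Fintype.card F : ℂ) + 1) * α (a : F)
        - (Fintype.card F : ℂ) * θ ⟨((slE (a, 0) : borelSL F) : SpecialLinearGroup (Fin 2) F),
          scalar_mem_torus C hC hcard _ ((slE_scalar_iff a 0).2 ⟨ha, rfl⟩)⟩) := by
  unfold cuspFun
  rw [psFun_one_slE, psFun_slE, fixCount_eq, if_pos ha, if_pos rfl,
    indFun_torus_of_scalar C hC hcard θ _ ((slE_scalar_iff a 0).2 ⟨ha, rfl⟩),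
    (sq_eq_one_iff_inv a).1 ha]
  ring

/-- Value of the cuspidal function on non-central elements of the torus. -/
theorem cuspFun_torus (hC : IsCyclic C) (hcard : Nat.card C = Fintype.card F + 1)
    (α : MulChar F ℂ) (θ : C → ℂ) (c : SpecialLinearGroup (Fin 2) F) (hc : c ∈ C)
    (hns : ¬ ∃ r : F, (c : Matrix (Fin 2) (Fin 2) F) = r • (1 : Matrix (Fin 2) (Fin 2) F)) :
    cuspFun C α θ c = - (θ ⟨c, hc⟩ + θ ⟨c⁻¹, C.inv_mem hc⟩) := by
  unfold cuspFun
  obtain ⟨-, -, hr⟩ := torus_structure C hC hcard c hc hns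
  rw [psFun_of_no_root α c (no_root_of_rootCount_zero _ hr), indFun_torus_of_mem C hC hcard θ c hc hns]
  ring

end

end Cfsg.Agent.Lib.Helper5
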