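import Mathlib
import Cfsg.Prelude.Def_Characters
import Cfsg.Agent.Lib.Helper5.SL2Cusp
import Cfsg.Agent.Lib.Helper4.Characters
import Cfsg.Agent.S0146

set_option autoImplicit false

/-!
Pairing of the cuspidal class functions of `SL₂` with arbitrary class functions.
-/

namespace Cfsg.Agent.Lib.Helper5

open Matrix
open Cfsg.Agent.Lib.Helper1 Cfsg.Agent.Lib.Helper4
open scoped ComplexConjugate

section generic
variable {G : Type*} [Group G] [Fintype G]

omit [Fintype G] in
theorem isClassFunction_mul {φ ψ : G → ℂ} (hφ : Cfsg.IsClassFunction G φ)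
    (hψ : Cfsg.IsClassFunction G ψ) : Cfsg.IsClassFunction G (fun g => φ g * ψ g) := by
  intro g h
  show φ _ * ψ _ = φ g * ψ g
  rw [hφ g h, hψ g h]

omit [Fintype G] in
theorem isClassFunction_conj {φ : G → ℂ} (hφ : Cfsg.IsClassFunction G φ) :
    Cfsg.IsClassFunction G (fun g => conj (φ g)) := by
  intro g h
  show conj (φ _) = conj (φ g)
  rw [hφ g h]

/-- Frobenius reciprocity for a product with an induced function. -/
theorem classInner_mul_indFun (H : Subgroup G) [Fintype H] (θ : H → ℂ) (φ ψ : G → ℂ)
    (hφ : Cfsg.IsClassFunction G φ) (hψ : Cfsg.IsClassFunction G ψ) :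
    Cfsg.classInner (fun g => φ g * Cfsg.indFun H θ g) ψ
      = (Nat.card H : ℂ)⁻¹ * ∑ h : H, θ h * φ (h : G) * conj (ψ (h : G)) := by
  have e1 : Cfsg.classInner (fun g => φ g * Cfsg.indFun H θ g) ψ
      = Cfsg.classInner (Cfsg.indFun H θ) (fun g => conj (φ g) * ψ g) := by
    unfold Cfsg.classInner
    congr 1
    refine Finset.sum_congr rfl fun g _ => ?_
    rw [map_mul, Complex.conj_conj]
    ring
  rw [e1, Cfsg.Agent.S0146.result H θ _ (isClassFunction_mul (isClassFunction_conj hφ) hψ)]
  unfold Cfsg.classInner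
  congr 1
  refine Finset.sum_congr rfl fun h _ => ?_
  rw [map_mul, Complex.conj_conj]
  ring

end generic

section
variable {F : Type*} [Field F] [Fintype F] [DecidableEq F]
  (C : Subgroup (SpecialLinearGroup (Fin 2) F))

theorem conj_fixCount (a : Fˣ) (u : F) : conj (fixCount a u) = fixCount a u := by
  rw [fixCount_eq]
  split_ifs <;> simp

theorem card_borelSL : Nat.card (borelSL F) = Fintype.card Fˣ * Fintype.card F := by
  rw [← Nat.card_congr (Equiv.ofBijective slE slE_bijective), Nat.card_eq_fintype_card,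
    Fintype.card_prod]

theorem psFun_isClassFunction (α : MulChar F ℂ) :
    Cfsg.IsClassFunction (SpecialLinearGroup (Fin 2) F) (psFun α) :=
  indFun_isClassFunction _ _

theorem cuspFun_isClassFunction (α : MulChar F ℂ) (θ : C → ℂ) :
    Cfsg.IsClassFunction (SpecialLinearGroup (Fin 2) F) (cuspFun C α θ) := by
  intro g h
  unfold cuspFun
  rw [psFun_isClassFunction 1 g h, psFun_isClassFunction α g h, indFun_isClassFunction C θ g h]

/-- Pairing of a cuspidal function with a class function. -/
theorem classInner_cuspFun [Fintype C] (α : MulChar F ℂ) (θ : C → ℂ)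
    (ψ : SpecialLinearGroup (Fin 2) F → ℂ)
    (hψ : Cfsg.IsClassFunction (SpecialLinearGroup (Fin 2) F) ψ) :
    Cfsg.classInner (cuspFun C α θ) ψ
      = ((Fintype.card Fˣ : ℂ) * (Fintype.card F : ℂ))⁻¹ *
          (∑ a : Fˣ, if (a : F) ^ 2 = 1 then α (a : F) *
            ((Fintype.card F : ℂ) *
                conj (ψ ((slE (a, 0) : borelSL F) : SpecialLinearGroup (Fin 2) F))
              - ∑ u : F, conj (ψ ((slE (a, u) : borelSL F) : SpecialLinearGroup (Fin 2) F)))
            else 0)
        - (Nat.card C : ℂ)⁻¹ * ∑ c : C, θ c * conj (ψ (c : SpecialLinearGroup (Fin 2) F)) := by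
  classical
  have : Fintype (borelSL F) := Fintype.ofFinite _
  have hsplit : cuspFun C α θ = (fun g => (psFun (1 : MulChar F ℂ) g - 2) * psFun α g)
      - Cfsg.indFun C θ := rfl
  rw [hsplit, classInner_sub_left]
  congr 1
  · have hφ : Cfsg.IsClassFunction (SpecialLinearGroup (Fin 2) F)
        (fun g => psFun (1 : MulChar F ℂ) g - 2) := by
      intro g h
      show psFun 1 _ - 2 = psFun 1 g - 2
      rw [psFun_isClassFunction 1 g h]
    have key := classInner_mul_indFun (borelSL F)
      (fun b => α (((b : SpecialLinearGroup (Fin 2) F) : Matrix (Fin 2) (Fin 2) F) 0 0))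
      (fun g => psFun (1 : MulChar F ℂ) g - 2) ψ hφ hψ
    have hfun : (fun g => (psFun (1 : MulChar F ℂ) g - 2) * psFun α g)
        = (fun g => (psFun (1 : MulChar F ℂ) g - 2) * Cfsg.indFun (borelSL F)
          (fun b => α (((b : SpecialLinearGroup (Fin 2) F) : Matrix (Fin 2) (Fin 2) F) 0 0)) g) :=
      rfl
    rw [hfun, key, card_borelSL]
    push_cast
    congr 1
    rw [← (Equiv.ofBijective slE slE_bijective).sum_comp, Fintype.sum_prod_type]
    refine Finset.sum_congr rfl fun a _ => ?_
    simp only [Equiv.ofBijective_apply]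
    have hterm : ∀ u : F,
        α ((((slE (a, u) : borelSL F) : SpecialLinearGroup (Fin 2) F) :
          Matrix (Fin 2) (Fin 2) F) 0 0) *
          (psFun (1 : MulChar F ℂ) ((slE (a, u) : borelSL F) : SpecialLinearGroup (Fin 2) F) - 2) *
          conj (ψ ((slE (a, u) : borelSL F) : SpecialLinearGroup (Fin 2) F))
        = α (a : F) * ((fixCount a u - 1) *
          conj (ψ ((slE (a, u) : borelSL F) : SpecialLinearGroup (Fin 2) F))) := by
      intro u
      rw [psFun_one_slE]
      have : (((slE (a, u) : borelSL F) : SpecialLinearGroup (Fin 2) F) :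
          Matrix (Fin 2) (Fin 2) F) 0 0 = (a : F) := rfl
      rw [this]
      ring
    rw [Finset.sum_congr rfl fun u _ => hterm u, ← Finset.mul_sum]
    by_cases ha : (a : F) ^ 2 = 1
    · rw [if_pos ha]
      congr 1
      simp only [fixCount_eq, if_pos ha, sub_mul, one_mul, Finset.sum_sub_distrib]
      congr 1
      simp only [ite_mul, zero_mul]
      rw [Finset.sum_ite_eq']
      simp
    · rw [if_neg ha]
      simp only [fixCount_eq, if_neg ha, sub_self, zero_mul, Finset.sum_const_zero, mul_zero]
  · rw [Cfsg.Agent.S0146.result C θ ψ hψ]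
    rfl

end

end Cfsg.Agent.Lib.Helper5
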