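import Mathlib
import Cfsg.Prelude.Def_Characters
import Cfsg.Agent.Lib.Helper5.SL2CuspPair
import Cfsg.Agent.Lib.Helper1.LinearChar

set_option autoImplicit false

/-!
Inner products of the cuspidal class functions of `SL₂` over a finite field.
-/

namespace Cfsg.Agent.Lib.Helper5

open Matrix
open Cfsg.Agent.Lib.Helper1 Cfsg.Agent.Lib.Helper4
open scoped ComplexConjugate

section ind
variable {F : Type*} [Field F]

/-- The indicator function of the scalar matrices. -/
noncomputable def scalarInd (g : SpecialLinearGroup (Fin 2) F) : ℂ :=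
  @ite _ (∃ r : F, (g : Matrix (Fin 2) (Fin 2) F) = r • (1 : Matrix (Fin 2) (Fin 2) F))
    (Classical.propDecidable _) 1 0

theorem scalarInd_of_scalar (g : SpecialLinearGroup (Fin 2) F)
    (h : ∃ r : F, (g : Matrix (Fin 2) (Fin 2) F) = r • (1 : Matrix (Fin 2) (Fin 2) F)) :
    scalarInd g = 1 := by
  unfold scalarInd
  rw [if_pos h]

theorem scalarInd_of_not (g : SpecialLinearGroup (Fin 2) F)
    (h : ¬ ∃ r : F, (g : Matrix (Fin 2) (Fin 2) F) = r • (1 : Matrix (Fin 2) (Fin 2) F)) :
    scalarInd g = 0 := by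
  unfold scalarInd
  rw [if_neg h]

theorem scalar_mem_borelSL (g : SpecialLinearGroup (Fin 2) F)
    (h : ∃ r : F, (g : Matrix (Fin 2) (Fin 2) F) = r • (1 : Matrix (Fin 2) (Fin 2) F)) :
    g ∈ borelSL F := by
  rw [mem_borelSL_two]
  obtain ⟨r, hr⟩ := h
  rw [slM_apply, hr]
  simp

end ind

section
variable {F : Type*} [Field F] [Fintype F] [DecidableEq F]

/-- Sum of a function over the scalar matrices. -/
noncomputable def zSum (Fn : SpecialLinearGroup (Fin 2) F → ℂ) : ℂ :=
  ∑ g : SpecialLinearGroup (Fin 2) F, scalarInd g * Fn g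

theorem sum_subgroup_scalarInd (H : Subgroup (SpecialLinearGroup (Fin 2) F)) [Fintype H]
    (hH : ∀ g : SpecialLinearGroup (Fin 2) F,
      (∃ r : F, (g : Matrix (Fin 2) (Fin 2) F) = r • (1 : Matrix (Fin 2) (Fin 2) F)) → g ∈ H)
    (Fn : SpecialLinearGroup (Fin 2) F → ℂ) :
    ∑ c : H, scalarInd (c : SpecialLinearGroup (Fin 2) F) * Fn c = zSum Fn := by
  unfold zSum
  rw [← sum_extendByZero H (fun c : H => scalarInd (c : SpecialLinearGroup (Fin 2) F) * Fn c)]
  refine Finset.sum_congr rfl fun g _ => ?_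
  by_cases hg : g ∈ H
  · rw [extendByZero_of_mem H _ hg]
  · rw [extendByZero_of_notMem H _ hg, scalarInd_of_not g (fun h => hg (hH g h)), zero_mul]

theorem sum_units_scalar (Fn : SpecialLinearGroup (Fin 2) F → ℂ) :
    (∑ a : Fˣ, if (a : F) ^ 2 = 1
      then Fn ((slE (a, 0) : borelSL F) : SpecialLinearGroup (Fin 2) F) else 0) = zSum Fn := by
  classical
  have : Fintype (borelSL F) := Fintype.ofFinite _
  rw [← sum_subgroup_scalarInd (borelSL F) scalar_mem_borelSL Fn,
    ← (Equiv.ofBijective slE slE_bijective).sum_comp, Fintype.sum_prod_type]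
  refine Finset.sum_congr rfl fun a _ => ?_
  simp only [Equiv.ofBijective_apply]
  by_cases ha : (a : F) ^ 2 = 1
  · rw [if_pos ha, Finset.sum_eq_single (0 : F)]
    · rw [scalarInd_of_scalar _ ((slE_scalar_iff a 0).2 ⟨ha, rfl⟩), one_mul]
    · intro u _ hu
      rw [scalarInd_of_not _ (fun h => hu ((slE_scalar_iff a u).1 h).2), zero_mul]
    · intro h
      exact absurd (Finset.mem_univ _) h
  · rw [if_neg ha]
    symm
    apply Finset.sum_eq_zero
    intro u _
    rw [scalarInd_of_not _ (fun h => ha ((slE_scalar_iff a u).1 h).1), zero_mul]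

/-- Value of a principal series function at a scalar matrix. -/
theorem psFun_scalar (β : MulChar F ℂ) (g : SpecialLinearGroup (Fin 2) F) (r : F)
    (hr : (g : Matrix (Fin 2) (Fin 2) F) = r • (1 : Matrix (Fin 2) (Fin 2) F)) :
    psFun β g = ((Fintype.card F : ℂ) + 1) * β r := by
  have key := indFun_borel_value' slM (borelSL F) slX mem_borelSL_two slM_slX
    (fun a _ => β a) g r 0 0 r (by rw [slM_apply, hr]; simp) (by rw [slM_apply, hr]; simp)
    (by rw [slM_apply, hr]; simp) (by rw [slM_apply, hr]; simp)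
  unfold psFun
  refine key.trans ?_
  simp only [if_pos, zero_mul, sub_self, zero_add]
  rw [Finset.sum_const, Finset.card_univ, nsmul_eq_mul]
  ring

end

section linear
variable {A : Type*} [Group A] [Fintype A]

/-- Orthogonality of linear characters. -/
theorem sum_hom_mul_conj (θ θ' : A →* ℂˣ) [Decidable (θ = θ')] :
    ∑ a : A, (θ a : ℂ) * conj (θ' a : ℂ) = if θ = θ' then (Nat.card A : ℂ) else 0 := by
  have h := classInner_irr (isIrrCharacter_of_hom θ) (isIrrCharacter_of_hom θ')
  unfold Cfsg.classInner at h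
  have hA0 : (Nat.card A : ℂ) ≠ 0 := Nat.cast_ne_zero.mpr Nat.card_pos.ne'
  have hiff : ((fun g => (θ g : ℂ)) = fun g => (θ' g : ℂ)) ↔ θ = θ' := by
    constructor
    · intro h1
      ext a
      exact congrFun h1 a
    · intro h1
      rw [h1]
  have h2 : ∑ a : A, (θ a : ℂ) * conj (θ' a : ℂ) = (Nat.card A : ℂ) *
      (if (fun g => (θ g : ℂ)) = fun g => (θ' g : ℂ) then 1 else 0) := by
    rw [← h, ← mul_assoc, mul_inv_cancel₀ hA0, one_mul]
  rw [h2]
  by_cases h3 : θ = θ'
  · rw [if_pos h3, if_pos (hiff.2 h3), mul_one]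
  · rw [if_neg h3, if_neg (fun h4 => h3 (hiff.1 h4)), mul_zero]

theorem sum_hom_mul_conj_inv (θ θ' : A →* ℂˣ) [Decidable (θ = θ'⁻¹)] :
    ∑ a : A, (θ a : ℂ) * conj (θ' a⁻¹ : ℂ) = if θ = θ'⁻¹ then (Nat.card A : ℂ) else 0 := by
  rw [← sum_hom_mul_conj θ θ'⁻¹]
  refine Finset.sum_congr rfl fun a _ => ?_
  rw [map_inv]
  rfl

end linear

section inner
variable {F : Type*} [Field F] [Fintype F] [DecidableEq F]
  (C : Subgroup (SpecialLinearGroup (Fin 2) F))

/-- Compatibility of a multiplicative character with a function on the torus on scalars. -/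
def Compat (α : MulChar F ℂ) (θ : C → ℂ) : Prop :=
  ∀ c : C, (∃ r : F, ((c : SpecialLinearGroup (Fin 2) F) : Matrix (Fin 2) (Fin 2) F)
    = r • (1 : Matrix (Fin 2) (Fin 2) F)) →
    θ c = α (((c : SpecialLinearGroup (Fin 2) F) : Matrix (Fin 2) (Fin 2) F) 0 0)

theorem card_units_cast : (Fintype.card Fˣ : ℂ) = (Fintype.card F : ℂ) - 1 := by
  rw [Fintype.card_units, Nat.cast_sub Fintype.card_pos, Nat.cast_one]

omit [DecidableEq F] in
theorem card_ne_zero_cast : (Fintype.card F : ℂ) ≠ 0 :=
  Nat.cast_ne_zero.mpr Fintype.card_ne_zero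

omit [DecidableEq F] in
theorem card_sub_one_ne_zero_cast : (Fintype.card F : ℂ) - 1 ≠ 0 := by
  have h : 1 < Fintype.card F := Fintype.one_lt_card
  rw [sub_ne_zero]
  intro h1
  have : (Fintype.card F : ℂ) = ((1 : ℕ) : ℂ) := by rw [h1]; simp
  have := Nat.cast_injective this
  omega

omit [DecidableEq F] in
theorem card_add_one_ne_zero_cast : (Fintype.card F : ℂ) + 1 ≠ 0 := by
  have : ((Fintype.card F + 1 : ℕ) : ℂ) ≠ 0 := Nat.cast_ne_zero.mpr (Nat.succ_ne_zero _)
  simpa using this

/-- Value of the cuspidal function at a scalar matrix. -/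
theorem cuspFun_scalar (hC : IsCyclic C) (hcard : Nat.card C = Fintype.card F + 1)
    (α : MulChar F ℂ) (θ : C → ℂ) (g : SpecialLinearGroup (Fin 2) F) (r : F)
    (hr : (g : Matrix (Fin 2) (Fin 2) F) = r • (1 : Matrix (Fin 2) (Fin 2) F)) :
    cuspFun C α θ g = ((Fintype.card F : ℂ) - 1) * (((Fintype.card F : ℂ) + 1) * α r
      - (Fintype.card F : ℂ) * θ ⟨g, scalar_mem_torus C hC hcard g ⟨r, hr⟩⟩) := by
  unfold cuspFun
  have hr2 : r ^ 2 = 1 := (sq_eq_four_of_scalar g r hr).2
  have hru : IsUnit r := by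
    apply IsUnit.of_mul_eq_one r
    rw [← sq]; exact hr2
  rw [psFun_scalar 1 g r hr, psFun_scalar α g r hr, MulChar.one_apply hru,
    indFun_torus_of_scalar C hC hcard θ g ⟨r, hr⟩]
  ring

/-- The cuspidal functions are orthogonal to the principal series. -/
theorem classInner_cuspFun_psFun (hC : IsCyclic C) (hcard : Nat.card C = Fintype.card F + 1)
    (α β : MulChar F ℂ) (θ : C → ℂ) (hcompat : Compat C α θ) :
    Cfsg.classInner (cuspFun C α θ) (psFun β) = 0 := by
  classical
  have : Fintype C := Fintype.ofFinite C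
  rw [classInner_cuspFun C α θ (psFun β) (psFun_isClassFunction β)]
  set Fn : SpecialLinearGroup (Fin 2) F → ℂ :=
    fun g => α ((g : Matrix (Fin 2) (Fin 2) F) 0 0) * conj (β ((g : Matrix (Fin 2) (Fin 2) F) 0 0))
    with hFn
  have hq0 := card_ne_zero_cast (F := F)
  -- the Borel part
  have hB : (∑ a : Fˣ, if (a : F) ^ 2 = 1 then α (a : F) *
            ((Fintype.card F : ℂ) *
                conj (psFun β ((slE (a, 0) : borelSL F) : SpecialLinearGroup (Fin 2) F))
              - ∑ u : F, conj (psFun β ((slE (a, u) : borelSL F) : SpecialLinearGroup (Fin 2) F)))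
            else 0) = (Fintype.card F : ℂ) * ((Fintype.card F : ℂ) - 1) * zSum Fn := by
    rw [← sum_units_scalar Fn, Finset.mul_sum]
    refine Finset.sum_congr rfl fun a _ => ?_
    by_cases ha : (a : F) ^ 2 = 1
    · rw [if_pos ha, if_pos ha]
      have hinv := (sq_eq_one_iff_inv a).1 ha
      have hval : ∀ u : F, conj (psFun β ((slE (a, u) : borelSL F) :
          SpecialLinearGroup (Fin 2) F)) = (1 + fixCount a u) * conj (β (a : F)) := by
        intro u
        rw [psFun_slE, hinv, map_add, map_mul, conj_fixCount]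
        ring
      rw [hval 0, Finset.sum_congr rfl fun u _ => hval u, ← Finset.sum_mul,
        Finset.sum_add_distrib]
      simp only [fixCount_eq, if_pos ha, Finset.sum_ite_eq', Finset.mem_univ, if_true,
        Finset.sum_const, Finset.card_univ, nsmul_eq_mul, mul_one]
      show _ = _ * Fn _
      rw [hFn]
      simp only [slE_coe, Matrix.of_apply, Matrix.cons_val', Matrix.cons_val_zero,
        Matrix.empty_val', Matrix.cons_val_fin_one]
      ring
    · rw [if_neg ha, if_neg ha, mul_zero]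
  -- the torus part
  have hCsum : ∑ c : C, θ c * conj (psFun β (c : SpecialLinearGroup (Fin 2) F))
      = ((Fintype.card F : ℂ) + 1) * zSum Fn := by
    rw [← sum_subgroup_scalarInd C (fun g hg => scalar_mem_torus C hC hcard g hg) Fn,
      Finset.mul_sum]
    refine Finset.sum_congr rfl fun c _ => ?_
    by_cases hs : ∃ r : F, ((c : SpecialLinearGroup (Fin 2) F) : Matrix (Fin 2) (Fin 2) F)
        = r • (1 : Matrix (Fin 2) (Fin 2) F)
    · obtain ⟨r, hr⟩ := hs
      have h00 : ((c : SpecialLinearGroup (Fin 2) F) : Matrix (Fin 2) (Fin 2) F) 0 0 = r := by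
        rw [hr]; simp
      rw [scalarInd_of_scalar _ ⟨r, hr⟩, psFun_scalar β _ r hr, hcompat c ⟨r, hr⟩, hFn]
      simp only [h00, map_mul, map_add, map_one, Complex.conj_natCast]
      ring
    · obtain ⟨-, -, hroot⟩ := torus_structure C hC hcard c c.2 hs
      rw [scalarInd_of_not _ hs, psFun_of_no_root β _ (no_root_of_rootCount_zero _ hroot)]
      simp
  rw [hB, hCsum, hcard, card_units_cast]
  have hq1 : ((Fintype.card F : ℂ) + 1) ≠ 0 := by
    have : ((Fintype.card F + 1 : ℕ) : ℂ) ≠ 0 := Nat.cast_ne_zero.mpr (Nat.succ_ne_zero _)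
    simpa using this
  have hqm := card_sub_one_ne_zero_cast (F := F)
  push_cast
  field_simp
  ring

end inner

end Cfsg.Agent.Lib.Helper5
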