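import Mathlib
import Cfsg.Prelude.Def_Characters
import Cfsg.Agent.Lib.Helper5.SL2CuspInner

set_option autoImplicit false

/-!
Inner products between the cuspidal class functions of `SL₂` over a finite field.
-/

namespace Cfsg.Agent.Lib.Helper5

open Matrix
open Cfsg.Agent.Lib.Helper1 Cfsg.Agent.Lib.Helper4
open scoped ComplexConjugate

section inner
variable {F : Type*} [Field F] [Fintype F] [DecidableEq F]
  (C : Subgroup (SpecialLinearGroup (Fin 2) F))

omit [Fintype F] [DecidableEq F] in
theorem scalar_inv_eq (g : SpecialLinearGroup (Fin 2) F) (r : F)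
    (hr : (g : Matrix (Fin 2) (Fin 2) F) = r • (1 : Matrix (Fin 2) (Fin 2) F)) : g⁻¹ = g := by
  have hr2 : r ^ 2 = 1 := (sq_eq_four_of_scalar g r hr).2
  rw [inv_eq_iff_mul_eq_one]
  apply Subtype.ext
  show (g : Matrix (Fin 2) (Fin 2) F) * (g : Matrix (Fin 2) (Fin 2) F) = 1
  rw [hr, Matrix.smul_mul, Matrix.one_mul, smul_smul, ← sq, hr2, one_smul]

/-- Inner products of cuspidal functions. -/
theorem classInner_cuspFun_cuspFun (hC : IsCyclic C) (hcard : Nat.card C = Fintype.card F + 1)
    (α α' : MulChar F ℂ) (θ θ' : C →* ℂˣ)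
    (hcompat : Compat C α (fun c => (θ c : ℂ))) (hcompat' : Compat C α' (fun c => (θ' c : ℂ)))
    [Decidable (θ = θ')] [Decidable (θ = θ'⁻¹)] :
    Cfsg.classInner (cuspFun C α (fun c => (θ c : ℂ))) (cuspFun C α' (fun c => (θ' c : ℂ)))
      = (if θ = θ' then 1 else 0) + (if θ = θ'⁻¹ then 1 else 0) := by
  classical
  have : Fintype C := Fintype.ofFinite C
  rw [classInner_cuspFun C α _ _ (cuspFun_isClassFunction C α' _)]
  set Fn : SpecialLinearGroup (Fin 2) F → ℂ :=
    fun g => α ((g : Matrix (Fin 2) (Fin 2) F) 0 0) * conj (α' ((g : Matrix (Fin 2) (Fin 2) F) 0 0))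
    with hFn
  have hq0 := card_ne_zero_cast (F := F)
  have hqm := card_sub_one_ne_zero_cast (F := F)
  have hq1 := card_add_one_ne_zero_cast (F := F)
  -- value at scalars
  have hscal : ∀ (g : SpecialLinearGroup (Fin 2) F) (r : F),
      (g : Matrix (Fin 2) (Fin 2) F) = r • (1 : Matrix (Fin 2) (Fin 2) F) →
      cuspFun C α' (fun c => (θ' c : ℂ)) g = ((Fintype.card F : ℂ) - 1) * α' r := by
    intro g r hr
    rw [cuspFun_scalar C hC hcard α' _ g r hr]
    have h00 : (g : Matrix (Fin 2) (Fin 2) F) 0 0 = r := by rw [hr]; simp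
    have := hcompat' ⟨g, scalar_mem_torus C hC hcard g ⟨r, hr⟩⟩ ⟨r, hr⟩
    simp only at this
    rw [this, h00]
    ring
  -- the Borel part
  have hB : (∑ a : Fˣ, if (a : F) ^ 2 = 1 then α (a : F) *
            ((Fintype.card F : ℂ) *
                conj (cuspFun C α' (fun c => (θ' c : ℂ))
                  ((slE (a, 0) : borelSL F) : SpecialLinearGroup (Fin 2) F))
              - ∑ u : F, conj (cuspFun C α' (fun c => (θ' c : ℂ))
                  ((slE (a, u) : borelSL F) : SpecialLinearGroup (Fin 2) F)))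
            else 0) = (Fintype.card F : ℂ) * ((Fintype.card F : ℂ) - 1) * zSum Fn := by
    rw [← sum_units_scalar Fn, Finset.mul_sum]
    refine Finset.sum_congr rfl fun a _ => ?_
    by_cases ha : (a : F) ^ 2 = 1
    · rw [if_pos ha, if_pos ha]
      have hsc : (((slE (a, 0) : borelSL F) : SpecialLinearGroup (Fin 2) F) :
          Matrix (Fin 2) (Fin 2) F) = (a : F) • (1 : Matrix (Fin 2) (Fin 2) F) := by
        rw [slE_coe, (sq_eq_one_iff_inv a).1 ha]
        ext i j
        fin_cases i <;> fin_cases j <;> simp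
      have hval : ∀ u : F, conj (cuspFun C α' (fun c => (θ' c : ℂ))
          ((slE (a, u) : borelSL F) : SpecialLinearGroup (Fin 2) F))
          = (if u = 0 then (Fintype.card F : ℂ) else 0) * conj (α' (a : F))
            - conj (α' (a : F)) := by
        intro u
        by_cases hu : u = 0
        · subst hu
          rw [hscal _ (a : F) hsc, if_pos rfl, map_mul, map_sub, map_one, Complex.conj_natCast]
          ring
        · rw [cuspFun_slE_unip C hC hcard α' _ a u ha hu, if_neg hu, map_neg]
          ring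
      rw [hval 0, Finset.sum_congr rfl fun u _ => hval u, Finset.sum_sub_distrib,
        ← Finset.sum_mul, Finset.sum_ite_eq', if_pos (Finset.mem_univ _), if_pos rfl,
        Finset.sum_const, Finset.card_univ, nsmul_eq_mul]
      show _ = _ * Fn _
      rw [hFn]
      simp only [slE_coe, Matrix.of_apply, Matrix.cons_val', Matrix.cons_val_zero,
        Matrix.empty_val', Matrix.cons_val_fin_one]
      ring
    · rw [if_neg ha, if_neg ha, mul_zero]
  -- the torus part
  have hval : ∀ c : C, cuspFun C α' (fun c => (θ' c : ℂ)) (c : SpecialLinearGroup (Fin 2) F)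
      = -((θ' c : ℂ) + (θ' c⁻¹ : ℂ)) + scalarInd (c : SpecialLinearGroup (Fin 2) F) *
        (((Fintype.card F : ℂ) + 1) *
          α' (((c : SpecialLinearGroup (Fin 2) F) : Matrix (Fin 2) (Fin 2) F) 0 0)) := by
    intro c
    by_cases hs : ∃ r : F, ((c : SpecialLinearGroup (Fin 2) F) : Matrix (Fin 2) (Fin 2) F)
        = r • (1 : Matrix (Fin 2) (Fin 2) F)
    · obtain ⟨r, hr⟩ := hs
      have h00 : ((c : SpecialLinearGroup (Fin 2) F) : Matrix (Fin 2) (Fin 2) F) 0 0 = r := by
        rw [hr]; simp
      have hinv : c⁻¹ = c := by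
        apply Subtype.ext
        rw [Subgroup.coe_inv]
        exact scalar_inv_eq _ r hr
      have hc' := hcompat' c ⟨r, hr⟩
      simp only at hc'
      rw [hscal _ r hr, scalarInd_of_scalar _ ⟨r, hr⟩, hinv, hc', h00]
      ring
    · rw [cuspFun_torus C hC hcard α' _ _ c.2 hs, scalarInd_of_not _ hs, zero_mul, add_zero]
      rfl
  have hCsum : ∑ c : C, (θ c : ℂ) * conj (cuspFun C α' (fun c => (θ' c : ℂ))
        (c : SpecialLinearGroup (Fin 2) F))
      = - ((if θ = θ' then (Nat.card C : ℂ) else 0) + (if θ = θ'⁻¹ then (Nat.card C : ℂ) else 0))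
        + ((Fintype.card F : ℂ) + 1) * zSum Fn := by
    rw [← sum_hom_mul_conj θ θ', ← sum_hom_mul_conj_inv θ θ',
      ← sum_subgroup_scalarInd C (fun g hg => scalar_mem_torus C hC hcard g hg) Fn,
      Finset.mul_sum, ← Finset.sum_add_distrib, ← Finset.sum_neg_distrib,
      ← Finset.sum_add_distrib]
    refine Finset.sum_congr rfl fun c _ => ?_
    rw [hval c]
    by_cases hs : ∃ r : F, ((c : SpecialLinearGroup (Fin 2) F) : Matrix (Fin 2) (Fin 2) F)
        = r • (1 : Matrix (Fin 2) (Fin 2) F)
    · have hc := hcompat c hs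
      simp only at hc
      rw [scalarInd_of_scalar _ hs, hFn]
      simp only [map_add, map_neg, map_mul, map_one, Complex.conj_natCast, one_mul]
      rw [hc]
      ring
    · rw [scalarInd_of_not _ hs]
      simp only [map_add, map_neg, zero_mul, add_zero, mul_zero]
      ring
  rw [hB, hCsum, hcard, card_units_cast]
  push_cast
  have e1 : ∀ (p : Prop) [Decidable p], (if p then ((Fintype.card F : ℂ) + 1) else 0)
      = ((Fintype.card F : ℂ) + 1) * (if p then 1 else 0) := by
    intro p _
    split_ifs <;> simp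
  rw [e1 (θ = θ'), e1 (θ = θ'⁻¹)]
  field_simp
  ring

end inner

end Cfsg.Agent.Lib.Helper5
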