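import Mathlib
import Cfsg.Prelude.Def_Characters
import Cfsg.Agent.Lib.Helper5.SL2CuspNorm
import Cfsg.Agent.Lib.Helper4.VirtualChar
import Cfsg.Agent.Lib.Helper1.CharFound7
import Cfsg.Agent.S0188
import Cfsg.Agent.S0148

set_option autoImplicit false

/-!
Irreducibility of the cuspidal characters of `SL₂` over a finite field.
-/

namespace Cfsg.Agent.Lib.Helper5

open Matrix
open Cfsg.Agent.Lib.Helper1 Cfsg.Agent.Lib.Helper4
open scoped ComplexConjugate

section generic
universe u
variable {G : Type u} [Group G]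

theorem isCharacter_mul' {φ ψ : G → ℂ} (hφ : Cfsg.IsCharacter G φ) (hψ : Cfsg.IsCharacter G ψ) :
    Cfsg.IsCharacter G (fun g => φ g * ψ g) := by
  have h1 := Cfsg.Agent.S0188.isCharacter_prod hφ hψ
  exact isCharacter_comp_hom h1 (MonoidHom.prod (MonoidHom.id G) (MonoidHom.id G))

end generic

section
variable {F : Type*} [Field F] [Fintype F] [DecidableEq F]
  (C : Subgroup (SpecialLinearGroup (Fin 2) F))

theorem isCharacter_psFun (α : MulChar F ℂ) :
    Cfsg.IsCharacter (SpecialLinearGroup (Fin 2) F) (psFun α) :=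
  isCharacter_indFun_sl2 α

theorem isCharacter_indFun_torus (θ : C →* ℂˣ) :
    Cfsg.IsCharacter (SpecialLinearGroup (Fin 2) F) (Cfsg.indFun C (fun c => (θ c : ℂ))) := by
  apply Cfsg.Agent.S0148.result
  exact isCharacter_of_irr (isIrrCharacter_of_hom θ)

/-- The cuspidal functions are generalized characters. -/
theorem isGenChar_cuspFun (α : MulChar F ℂ) (θ : C →* ℂˣ) :
    Cfsg.IsGeneralizedCharacter (SpecialLinearGroup (Fin 2) F)
      (cuspFun C α (fun c => (θ c : ℂ))) := by
  refine ⟨fun g => psFun (1 : MulChar F ℂ) g * psFun α g,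
    psFun α + psFun α + Cfsg.indFun C (fun c => (θ c : ℂ)),
    isCharacter_mul' (isCharacter_psFun 1) (isCharacter_psFun α),
    isCharacter_add (isCharacter_add (isCharacter_psFun α) (isCharacter_psFun α))
      (isCharacter_indFun_torus C θ), ?_⟩
  funext g
  unfold cuspFun
  simp only [Pi.sub_apply, Pi.add_apply]
  ring

/-- The degree of a cuspidal function. -/
theorem cuspFun_one (hC : IsCyclic C) (hcard : Nat.card C = Fintype.card F + 1)
    (α : MulChar F ℂ) (θ : C →* ℂˣ) :
    cuspFun C α (fun c => (θ c : ℂ)) 1 = (Fintype.card F : ℂ) - 1 := by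
  have h1 : ((1 : SpecialLinearGroup (Fin 2) F) : Matrix (Fin 2) (Fin 2) F)
      = (1 : F) • (1 : Matrix (Fin 2) (Fin 2) F) := by
    rw [one_smul]; rfl
  rw [cuspFun_scalar C hC hcard α _ 1 1 h1, map_one]
  have : (⟨1, scalar_mem_torus C hC hcard 1 ⟨1, h1⟩⟩ : C) = 1 := rfl
  rw [this, map_one]
  simp only [Units.val_one]
  ring

/-- The cuspidal characters are irreducible. -/
theorem isIrrCharacter_cuspFun (hC : IsCyclic C) (hcard : Nat.card C = Fintype.card F + 1)
    (α : MulChar F ℂ) (θ : C →* ℂˣ) (hcompat : Compat C α (fun c => (θ c : ℂ)))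
    (hθ : θ ≠ θ⁻¹) :
    Cfsg.IsIrrCharacter (SpecialLinearGroup (Fin 2) F) (cuspFun C α (fun c => (θ c : ℂ))) := by
  classical
  have hnorm := classInner_cuspFun_cuspFun C hC hcard α α θ θ hcompat hcompat
  rw [if_pos rfl, if_neg hθ, add_zero] at hnorm
  obtain ⟨ψ, hψ, h | h⟩ := genChar_norm_one (isGenChar_cuspFun C α θ) hnorm
  · rw [h]; exact hψ
  · exfalso
    obtain ⟨n, hn, hn1⟩ := irr_apply_one_pos hψ
    have h1 := congrFun h 1
    rw [cuspFun_one C hC hcard α θ, Pi.neg_apply, hn1] at h1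
    have hq : 1 ≤ Fintype.card F := Fintype.card_pos
    have h2 : ((Fintype.card F - 1 + n : ℕ) : ℂ) = 0 := by
      push_cast [Nat.cast_sub hq]
      linear_combination h1
    have h3 : Fintype.card F - 1 + n = 0 := by exact_mod_cast h2
    omega

end

end Cfsg.Agent.Lib.Helper5
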