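import Mathlib
import Cfsg.Prelude.Def_Characters
import Cfsg.Agent.Lib.Helper5.SL2CuspIrr

set_option autoImplicit false

/-!
Existence of a multiplicative character compatible with a character of the nonsplit torus.
-/

namespace Cfsg.Agent.Lib.Helper5

open Matrix

section
variable {F : Type*} [Field F] [Fintype F] [DecidableEq F]
  (C : Subgroup (SpecialLinearGroup (Fin 2) F))

omit [Fintype F] [DecidableEq F] in
theorem negOneSL_scalar :
    ((negOneSL : SpecialLinearGroup (Fin 2) F) : Matrix (Fin 2) (Fin 2) F)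
      = (-1 : F) • (1 : Matrix (Fin 2) (Fin 2) F) := by
  show (-(1 : Matrix (Fin 2) (Fin 2) F)) = _
  rw [neg_smul, one_smul]

omit [Fintype F] [DecidableEq F] in
theorem scalar_cases (g : SpecialLinearGroup (Fin 2) F) (r : F)
    (hr : (g : Matrix (Fin 2) (Fin 2) F) = r • (1 : Matrix (Fin 2) (Fin 2) F)) :
    (r = 1 ∧ g = 1) ∨ (r = -1 ∧ g = negOneSL) := by
  have hr2 : r ^ 2 = 1 := (sq_eq_four_of_scalar g r hr).2
  have : (r - 1) * (r + 1) = 0 := by linear_combination hr2
  rcases mul_eq_zero.1 this with h | h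
  · left
    have h1 : r = 1 := sub_eq_zero.1 h
    refine ⟨h1, ?_⟩
    apply Subtype.ext
    rw [hr, h1, one_smul]
    rfl
  · right
    have h1 : r = -1 := eq_neg_of_add_eq_zero_left h
    refine ⟨h1, ?_⟩
    apply Subtype.ext
    rw [hr, h1, negOneSL_scalar]

/-- Every character of the torus has a compatible multiplicative character. -/
theorem exists_compat (hC : IsCyclic C) (hcard : Nat.card C = Fintype.card F + 1)
    (θ : C →* ℂˣ) : ∃ α : MulChar F ℂ, Compat C α (fun c => (θ c : ℂ)) := by
  have hmem : (negOneSL : SpecialLinearGroup (Fin 2) F) ∈ C :=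
    scalar_mem_torus C hC hcard _ ⟨-1, negOneSL_scalar⟩
  set t : ℂ := (θ ⟨negOneSL, hmem⟩ : ℂ) with ht
  have htt : t * t = 1 := by
    have h1 : (⟨negOneSL, hmem⟩ : C) * ⟨negOneSL, hmem⟩ = 1 := by
      apply Subtype.ext
      exact negOneSL_mul_self
    have h2 := congrArg (fun z : ℂˣ => (z : ℂ)) (congrArg θ h1)
    simp only [map_mul, map_one, Units.val_mul, Units.val_one] at h2
    exact h2
  have ht1 : t = 1 ∨ t = -1 := by
    have : (t - 1) * (t + 1) = 0 := by linear_combination htt
    rcases mul_eq_zero.1 this with h | h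
    · left; exact sub_eq_zero.1 h
    · right; exact eq_neg_of_add_eq_zero_left h
  have hkey : ∀ α : MulChar F ℂ, α (-1) = t → Compat C α (fun c => (θ c : ℂ)) := by
    intro α hα c hc
    obtain ⟨r, hr⟩ := hc
    have h00 : ((c : SpecialLinearGroup (Fin 2) F) : Matrix (Fin 2) (Fin 2) F) 0 0 = r := by
      rw [hr]; simp
    simp only
    rw [h00]
    rcases scalar_cases _ r hr with ⟨h1, h2⟩ | ⟨h1, h2⟩
    · have hc1 : c = 1 := Subtype.ext h2
      rw [hc1, h1, map_one, map_one, Units.val_one]
    · have hc1 : c = ⟨negOneSL, hmem⟩ := Subtype.ext h2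
      rw [hc1, h1, hα]
  rcases ht1 with h | h
  · refine ⟨1, hkey 1 ?_⟩
    rw [h, MulChar.one_apply (IsUnit.neg isUnit_one)]
  · have hne : (-1 : F) ≠ 1 := by
      intro h1
      have h2 : (negOneSL : SpecialLinearGroup (Fin 2) F) = 1 := by
        apply Subtype.ext
        rw [negOneSL_scalar, h1, one_smul]
        rfl
      have h3 : (⟨negOneSL, hmem⟩ : C) = 1 := Subtype.ext h2
      rw [ht, h3, map_one, Units.val_one] at h
      norm_num at h
    obtain ⟨χ, hχ⟩ := MulChar.exists_apply_ne_one_of_hasEnoughRootsOfUnity F ℂ hne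
    have hχ2 : χ (-1) * χ (-1) = 1 := by
      rw [← map_mul]; simp
    have : (χ (-1) - 1) * (χ (-1) + 1) = 0 := by linear_combination hχ2
    have hχ1 : χ (-1) = -1 := by
      rcases mul_eq_zero.1 this with h1 | h1
      · exact absurd (sub_eq_zero.1 h1) hχ
      · exact eq_neg_of_add_eq_zero_left h1
    exact ⟨χ, hkey χ (by rw [hχ1, h])⟩

end

end Cfsg.Agent.Lib.Helper5
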