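import Mathlib
import Cfsg.Prelude.Def_Characters
import Cfsg.Agent.Lib.Helper5.SL2CuspCompat

set_option autoImplicit false

/-!
Completeness: every irreducible character of `SL₂` over a finite field is a constituent of a
principal series function or of a cuspidal function.
-/

namespace Cfsg.Agent.Lib.Helper5

open Matrix
open Cfsg.Agent.Lib.Helper1 Cfsg.Agent.Lib.Helper4
open scoped ComplexConjugate

section dual

/-- Sum over all characters of a finite cyclic group. -/
theorem sum_monoidHom_apply {A : Type*} [Group A] [Fintype A] (hA : IsCyclic A)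
    [Fintype (A →* ℂˣ)] [DecidableEq A] (c : A) :
    ∑ θ : A →* ℂˣ, (θ c : ℂ) = if c = 1 then (Nat.card A : ℂ) else 0 := by
  classical
  let _ : CommGroup A := hA.commGroup
  by_cases hc : c = 1
  · subst hc
    rw [if_pos rfl]
    simp only [map_one, Units.val_one, Finset.sum_const, Finset.card_univ, nsmul_eq_mul, mul_one]
    rw [← Nat.card_eq_fintype_card]
    congr 1
    exact CommGroup.card_monoidHom_of_hasEnoughRootsOfUnity A ℂ
  · rw [if_neg hc]
    obtain ⟨θ₀, hθ₀⟩ := CommGroup.exists_apply_ne_one_of_hasEnoughRootsOfUnity A ℂ hc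
    have h1 : ∑ θ : A →* ℂˣ, (θ c : ℂ) = (θ₀ c : ℂ) * ∑ θ : A →* ℂˣ, (θ c : ℂ) := by
      rw [Finset.mul_sum]
      exact (Fintype.sum_equiv (Equiv.mulLeft θ₀) (fun θ => (θ₀ c : ℂ) * (θ c : ℂ))
        (fun θ => (θ c : ℂ)) (by intro θ; simp)).symm
    have h2 : ((θ₀ c : ℂ) - 1) * ∑ θ : A →* ℂˣ, (θ c : ℂ) = 0 := by
      rw [sub_mul, one_mul, ← h1, sub_self]
    rcases mul_eq_zero.1 h2 with h | h
    · exfalso
      apply hθ₀
      apply Units.ext
      rw [Units.val_one]
      exact sub_eq_zero.1 h
    · exact h

/-- Sum over all multiplicative characters of a finite field. -/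
theorem sum_mulChar_apply {F : Type*} [Field F] [Fintype F] [DecidableEq F]
    [Fintype (MulChar F ℂ)] (a : Fˣ) :
    ∑ β : MulChar F ℂ, β (a : F) = if a = 1 then (Fintype.card Fˣ : ℂ) else 0 := by
  classical
  by_cases ha : a = 1
  · subst ha
    rw [if_pos rfl]
    simp only [Units.val_one, map_one, Finset.sum_const, Finset.card_univ, nsmul_eq_mul, mul_one]
    rw [← Nat.card_eq_fintype_card, ← Nat.card_eq_fintype_card]
    congr 1
    exact MulChar.card_eq_card_units_of_hasEnoughRootsOfUnity F ℂ
  · rw [if_neg ha]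
    have hne : (a : F) ≠ 1 := fun h => ha (Units.ext h)
    obtain ⟨β₀, hβ₀⟩ := MulChar.exists_apply_ne_one_of_hasEnoughRootsOfUnity F ℂ hne
    have h1 : ∑ β : MulChar F ℂ, β (a : F) = β₀ (a : F) * ∑ β : MulChar F ℂ, β (a : F) := by
      rw [Finset.mul_sum]
      exact (Fintype.sum_equiv (Equiv.mulLeft β₀) (fun β => β₀ (a : F) * β (a : F))
        (fun β => β (a : F)) (by intro β; simp [MulChar.mul_apply])).symm
    have h2 : (β₀ (a : F) - 1) * ∑ β : MulChar F ℂ, β (a : F) = 0 := by
      rw [sub_mul, one_mul, ← h1, sub_self]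
    rcases mul_eq_zero.1 h2 with h | h
    · exact absurd (sub_eq_zero.1 h) hβ₀
    · exact h

end dual

section complete
variable {F : Type*} [Field F] [Fintype F] [DecidableEq F]
  (C : Subgroup (SpecialLinearGroup (Fin 2) F))

/-- The compatible multiplicative character chosen for a character of the torus. -/
noncomputable def compatChar (hC : IsCyclic C) (hcard : Nat.card C = Fintype.card F + 1)
    (θ : C →* ℂˣ) : MulChar F ℂ :=
  Classical.choose (exists_compat C hC hcard θ)

theorem compatChar_spec (hC : IsCyclic C) (hcard : Nat.card C = Fintype.card F + 1)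
    (θ : C →* ℂˣ) : Compat C (compatChar C hC hcard θ) (fun c => (θ c : ℂ)) :=
  Classical.choose_spec (exists_compat C hC hcard θ)

/-- The cuspidal class function attached to a character of the torus. -/
noncomputable def cuspChar (hC : IsCyclic C) (hcard : Nat.card C = Fintype.card F + 1)
    (θ : C →* ℂˣ) : SpecialLinearGroup (Fin 2) F → ℂ :=
  cuspFun C (compatChar C hC hcard θ) (fun c => (θ c : ℂ))

/-- Frobenius reciprocity for the principal series, in coordinates. -/
theorem classInner_psFun (β : MulChar F ℂ) (χ : SpecialLinearGroup (Fin 2) F → ℂ)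
    (hχ : Cfsg.IsClassFunction (SpecialLinearGroup (Fin 2) F) χ) :
    Cfsg.classInner (psFun β) χ = ((Fintype.card Fˣ : ℂ) * (Fintype.card F : ℂ))⁻¹ *
      ∑ a : Fˣ, ∑ u : F, β (a : F) *
        conj (χ ((slE (a, u) : borelSL F) : SpecialLinearGroup (Fin 2) F)) := by
  classical
  have : Fintype (borelSL F) := Fintype.ofFinite _
  unfold psFun
  rw [Cfsg.Agent.S0146.result (borelSL F) _ χ hχ]
  unfold Cfsg.classInner
  rw [card_borelSL]
  push_cast
  congr 1
  rw [← (Equiv.ofBijective slE slE_bijective).sum_comp, Fintype.sum_prod_type]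
  rfl

/-- The completeness identity. -/
theorem completeness_identity (hC : IsCyclic C) (hcard : Nat.card C = Fintype.card F + 1)
    [Fintype (C →* ℂˣ)] [Fintype (MulChar F ℂ)]
    (χ : SpecialLinearGroup (Fin 2) F → ℂ)
    (hχ : Cfsg.IsClassFunction (SpecialLinearGroup (Fin 2) F) χ) :
    ((Fintype.card F : ℂ) - 1) * ∑ θ : C →* ℂˣ, Cfsg.classInner (cuspChar C hC hcard θ) χ
      + ((Fintype.card F : ℂ) + 1) * ∑ β : MulChar F ℂ, Cfsg.classInner (psFun β) χ
      = 2 * conj (χ 1) := by
  classical
  have : Fintype C := Fintype.ofFinite C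
  have hq0 := card_ne_zero_cast (F := F)
  have hqm := card_sub_one_ne_zero_cast (F := F)
  have hq1 := card_add_one_ne_zero_cast (F := F)
  set SU : ℂ := ∑ u : F, conj (χ ((slE ((1 : Fˣ), u) : borelSL F) :
    SpecialLinearGroup (Fin 2) F)) with hSU
  have hone : ((slE ((1 : Fˣ), (0 : F)) : borelSL F) : SpecialLinearGroup (Fin 2) F) = 1 := by
    apply Subtype.ext
    rw [slE_coe]
    ext i j
    fin_cases i <;> fin_cases j <;> simp
  -- principal series part
  have hP : ∑ β : MulChar F ℂ, Cfsg.classInner (psFun β) χ = (Fintype.card F : ℂ)⁻¹ * SU := by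
    simp only [classInner_psFun _ χ hχ]
    rw [← Finset.mul_sum, Finset.sum_comm]
    have h1 : ∀ a : Fˣ, ∑ β : MulChar F ℂ, ∑ u : F, β (a : F) *
        conj (χ ((slE (a, u) : borelSL F) : SpecialLinearGroup (Fin 2) F))
        = (if a = 1 then (Fintype.card Fˣ : ℂ) else 0) *
          ∑ u : F, conj (χ ((slE (a, u) : borelSL F) : SpecialLinearGroup (Fin 2) F)) := by
      intro a
      rw [Finset.sum_comm, ← sum_mulChar_apply a, Finset.sum_mul, Finset.sum_comm]
      refine Finset.sum_congr rfl fun β _ => ?_
      rw [Finset.mul_sum]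
    rw [Finset.sum_congr rfl fun a _ => h1 a]
    simp only [ite_mul, zero_mul]
    rw [Finset.sum_ite_eq', if_pos (Finset.mem_univ _), card_units_cast, ← hSU]
    field_simp
  -- cuspidal part
  have hCsp : ∑ θ : C →* ℂˣ, Cfsg.classInner (cuspChar C hC hcard θ) χ
      = (((Fintype.card F : ℂ) - 1) * (Fintype.card F : ℂ))⁻¹ * (((Fintype.card F : ℂ) + 1) *
          ((Fintype.card F : ℂ) * conj (χ 1) - SU)) - conj (χ 1) := by
    unfold cuspChar
    simp only [classInner_cuspFun C _ _ χ hχ]
    rw [Finset.sum_sub_distrib, ← Finset.mul_sum, ← Finset.mul_sum, card_units_cast]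
    congr 1
    · congr 1
      rw [Finset.sum_comm]
      have h1 : ∀ a : Fˣ, (∑ θ : C →* ℂˣ, if (a : F) ^ 2 = 1 then
          compatChar C hC hcard θ (a : F) *
            ((Fintype.card F : ℂ) *
                conj (χ ((slE (a, 0) : borelSL F) : SpecialLinearGroup (Fin 2) F))
              - ∑ u : F, conj (χ ((slE (a, u) : borelSL F) : SpecialLinearGroup (Fin 2) F)))
          else 0)
          = if a = 1 then ((Fintype.card F : ℂ) + 1) *
            ((Fintype.card F : ℂ) * conj (χ 1) - SU) else 0 := by
        intro a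
        by_cases ha : (a : F) ^ 2 = 1
        · simp only [if_pos ha]
          rw [← Finset.sum_mul]
          have hsc := (slE_scalar_iff a 0).2 ⟨ha, rfl⟩
          have hmem := scalar_mem_torus C hC hcard _ hsc
          have hval : ∀ θ : C →* ℂˣ, compatChar C hC hcard θ (a : F)
              = (θ ⟨_, hmem⟩ : ℂ) := by
            intro θ
            have := compatChar_spec C hC hcard θ ⟨_, hmem⟩ hsc
            simp only at this
            rw [this]
            rfl
          rw [Finset.sum_congr rfl fun θ _ => hval θ, sum_monoidHom_apply hC, hcard]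
          by_cases h1 : a = 1
          · subst h1
            rw [if_pos rfl, if_pos (Subtype.ext hone), hone]
            push_cast
            ring
          · rw [if_neg h1, if_neg, zero_mul]
            intro h2
            apply h1
            have h3 := congrArg (fun c : C => ((c : SpecialLinearGroup (Fin 2) F) :
              Matrix (Fin 2) (Fin 2) F) 0 0) h2
            simp only [slE_coe] at h3
            apply Units.ext
            simpa using h3
        · simp only [if_neg ha, Finset.sum_const_zero]
          rw [if_neg]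
          rintro rfl
          exact ha (by simp)
      rw [Finset.sum_congr rfl fun a _ => h1 a, Finset.sum_ite_eq', if_pos (Finset.mem_univ _)]
    · rw [Finset.sum_comm]
      have h2 : ∀ c : C, ∑ θ : C →* ℂˣ, (θ c : ℂ) * conj (χ (c : SpecialLinearGroup (Fin 2) F))
          = (if c = 1 then (Nat.card C : ℂ) else 0) *
            conj (χ (c : SpecialLinearGroup (Fin 2) F)) := by
        intro c
        rw [← Finset.sum_mul, sum_monoidHom_apply hC]
      rw [Finset.sum_congr rfl fun c _ => h2 c]
      simp only [ite_mul, zero_mul]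
      rw [Finset.sum_ite_eq', if_pos (Finset.mem_univ _), hcard]
      push_cast
      rw [← mul_assoc, inv_mul_cancel₀ hq1, one_mul]
  rw [hP, hCsp]
  field_simp
  ring

end complete

end Cfsg.Agent.Lib.Helper5
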