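import Mathlib
import Cfsg.Prelude.Def_Characters
import Cfsg.Agent.Lib.Helper5.SL2Complete
import Cfsg.Agent.Lib.Helper1.CharFound6

set_option autoImplicit false

/-!
Classification of the irreducible characters of `SL₂` over a finite field.
-/

namespace Cfsg.Agent.Lib.Helper5

open Matrix
open Cfsg.Agent.Lib.Helper1 Cfsg.Agent.Lib.Helper4
open scoped ComplexConjugate

section generic
variable {G : Type*} [Group G] [Fintype G]

/-- Positive definiteness of the inner product. -/
theorem eq_zero_of_norm_zero' {f : G → ℂ} (h : Cfsg.classInner f f = 0) : f = 0 := by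
  funext g
  have hG0 : (Nat.card G : ℂ) ≠ 0 := Nat.cast_ne_zero.2 Nat.card_pos.ne'
  unfold Cfsg.classInner at h
  have h1 : ∑ x : G, f x * conj (f x) = 0 := by
    rcases mul_eq_zero.1 h with h | h
    · exact absurd (inv_eq_zero.1 h) hG0
    · exact h
  have h2 : ∑ x : G, Complex.normSq (f x) = 0 := by
    have : ((∑ x : G, Complex.normSq (f x) : ℝ) : ℂ) = 0 := by
      rw [← h1]
      push_cast
      exact Finset.sum_congr rfl fun x _ => (Complex.mul_conj (f x)).symm
    exact_mod_cast this
  have h3 := (Finset.sum_eq_zero_iff_of_nonneg (fun x _ => Complex.normSq_nonneg (f x))).1 h2 g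
    (Finset.mem_univ g)
  exact Complex.normSq_eq_zero.1 h3

/-- The trivial character. -/
def trivFun (G : Type*) : G → ℂ := fun _ => 1

omit [Fintype G] in
theorem isIrrCharacter_trivFun : Cfsg.IsIrrCharacter G (trivFun G) := by
  have := isIrrCharacter_of_hom (1 : G →* ℂˣ)
  exact this

/-- Two irreducible characters with nonzero inner product are equal. -/
theorem eq_of_classInner_ne_zero {χ ψ : G → ℂ} (hχ : Cfsg.IsIrrCharacter G χ)
    (hψ : Cfsg.IsIrrCharacter G ψ) (h : Cfsg.classInner χ ψ ≠ 0) : χ = ψ := by
  classical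
  rw [classInner_irr hχ hψ] at h
  by_contra hne
  rw [if_neg hne] at h
  exact h rfl

end generic

section
variable {F : Type*} [Field F] [Fintype F] [DecidableEq F]
  (C : Subgroup (SpecialLinearGroup (Fin 2) F))

theorem classInner_psFun_triv (β : MulChar F ℂ) [Decidable (β = 1)] :
    Cfsg.classInner (psFun β) (trivFun (SpecialLinearGroup (Fin 2) F))
      = if β = 1 then 1 else 0 := by
  rw [classInner_psFun β _ (fun _ _ => rfl)]
  have hq0 := card_ne_zero_cast (F := F)
  have hqm := card_sub_one_ne_zero_cast (F := F)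
  have h1 : ∑ a : Fˣ, ∑ u : F, β (a : F) *
      conj (trivFun (SpecialLinearGroup (Fin 2) F)
        ((slE (a, u) : borelSL F) : SpecialLinearGroup (Fin 2) F))
      = (Fintype.card F : ℂ) * ∑ a : Fˣ, β (a : F) := by
    rw [Finset.mul_sum]
    refine Finset.sum_congr rfl fun a _ => ?_
    simp [trivFun]
  rw [h1, mulChar_sum_units_eq, card_units_cast]
  by_cases hβ : β = 1
  · subst hβ
    rw [if_pos rfl, MulChar.sum_one_eq_card_units, card_units_cast]
    field_simp
  · rw [if_neg hβ, MulChar.sum_eq_zero_of_ne_one hβ]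
    simp

/-- The Steinberg character. -/
noncomputable def stFun : SpecialLinearGroup (Fin 2) F → ℂ :=
  fun g => psFun (1 : MulChar F ℂ) g - 1

theorem psFun_one_eq : psFun (1 : MulChar F ℂ) = trivFun _ + stFun := by
  funext g
  simp [trivFun, stFun]

theorem stFun_one : stFun (1 : SpecialLinearGroup (Fin 2) F) = (Fintype.card F : ℂ) := by
  unfold stFun
  have h1 : ((1 : SpecialLinearGroup (Fin 2) F) : Matrix (Fin 2) (Fin 2) F)
      = (1 : F) • (1 : Matrix (Fin 2) (Fin 2) F) := by
    rw [one_smul]; rfl
  rw [psFun_scalar 1 1 1 h1, map_one]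
  ring

theorem classInner_psFun_one_self :
    Cfsg.classInner (psFun (1 : MulChar F ℂ)) (psFun (1 : MulChar F ℂ)) = 2 := by
  classical
  have := classInner_indFun_sl2 (1 : MulChar F ℂ) 1
  rw [if_pos rfl, if_pos inv_one.symm] at this
  unfold psFun
  rw [this]
  norm_num

theorem isIrrCharacter_stFun :
    Cfsg.IsIrrCharacter (SpecialLinearGroup (Fin 2) F) (stFun (F := F)) := by
  classical
  have hst : stFun (F := F) = psFun (1 : MulChar F ℂ) - trivFun _ := by
    funext g
    simp [trivFun, stFun]
  have hgen : Cfsg.IsGeneralizedCharacter (SpecialLinearGroup (Fin 2) F) (stFun (F := F)) := by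
    rw [hst]
    exact isGenChar_sub (isGenChar_of_isCharacter (isCharacter_psFun 1))
      (isGenChar_of_irr isIrrCharacter_trivFun)
  have h1 := classInner_psFun_triv (1 : MulChar F ℂ)
  rw [if_pos rfl] at h1
  have h2 : Cfsg.classInner (trivFun (SpecialLinearGroup (Fin 2) F)) (psFun (1 : MulChar F ℂ))
      = 1 := by
    rw [← classInner_conj_symm, h1, map_one]
  have hnorm : Cfsg.classInner (stFun (F := F)) stFun = 1 := by
    rw [hst, classInner_sub_left, classInner_sub_right, classInner_sub_right,
      classInner_psFun_one_self, h1, h2, classInner_irr_self isIrrCharacter_trivFun]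
    norm_num
  obtain ⟨ψ, hψ, h | h⟩ := genChar_norm_one hgen hnorm
  · rw [h]; exact hψ
  · exfalso
    obtain ⟨n, hn, hn1⟩ := irr_apply_one_pos hψ
    have h3 := congrFun h 1
    rw [stFun_one, Pi.neg_apply, hn1] at h3
    have h4 : ((Fintype.card F + n : ℕ) : ℂ) = 0 := by
      push_cast
      linear_combination h3
    have h5 : Fintype.card F + n = 0 := by exact_mod_cast h4
    omega

end

end Cfsg.Agent.Lib.Helper5
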