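import Mathlib
import Cfsg.Prelude.Def_Characters
import Cfsg.Agent.Lib.Helper5.SL2IrrClass

set_option autoImplicit false

/-!
Classification of the irreducible characters of `SL₂` over a finite field, continued.
-/

namespace Cfsg.Agent.Lib.Helper5

open Matrix
open Cfsg.Agent.Lib.Helper1 Cfsg.Agent.Lib.Helper4
open scoped ComplexConjugate

section
variable {F : Type*} [Field F] [Fintype F] [DecidableEq F]
  (C : Subgroup (SpecialLinearGroup (Fin 2) F))

theorem classInner_cuspFun_triv
    (α : MulChar F ℂ) (θ : C →* ℂˣ) [Decidable (θ = 1)] :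
    Cfsg.classInner (cuspFun C α (fun c => (θ c : ℂ))) (trivFun (SpecialLinearGroup (Fin 2) F))
      = - (if θ = 1 then 1 else 0) := by
  classical
  have : Fintype C := Fintype.ofFinite C
  rw [classInner_cuspFun C α _ _ (fun _ _ => rfl)]
  have hB : (∑ a : Fˣ, if (a : F) ^ 2 = 1 then α (a : F) *
            ((Fintype.card F : ℂ) *
                conj (trivFun (SpecialLinearGroup (Fin 2) F)
                  ((slE (a, 0) : borelSL F) : SpecialLinearGroup (Fin 2) F))
              - ∑ u : F, conj (trivFun (SpecialLinearGroup (Fin 2) F)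
                  ((slE (a, u) : borelSL F) : SpecialLinearGroup (Fin 2) F)))
            else 0) = 0 := by
    apply Finset.sum_eq_zero
    intro a _
    simp [trivFun]
  have hCs : ∑ c : C, (θ c : ℂ) * conj (trivFun (SpecialLinearGroup (Fin 2) F)
      (c : SpecialLinearGroup (Fin 2) F)) = if θ = 1 then (Nat.card C : ℂ) else 0 := by
    rw [← sum_hom_mul_conj θ 1]
    refine Finset.sum_congr rfl fun c _ => ?_
    simp [trivFun]
  rw [hB, hCs, mul_zero, zero_sub]
  have hC0 : (Nat.card C : ℂ) ≠ 0 := Nat.cast_ne_zero.mpr Nat.card_pos.ne'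
  split_ifs
  · rw [inv_mul_cancel₀ hC0]
  · rw [mul_zero]

/-- The cuspidal function of the trivial character is the Steinberg character minus the trivial
character. -/
theorem cuspChar_one (hC : IsCyclic C) (hcard : Nat.card C = Fintype.card F + 1) :
    cuspChar C hC hcard 1 = stFun - trivFun _ := by
  classical
  obtain ⟨W, hW⟩ : ∃ W : SpecialLinearGroup (Fin 2) F → ℂ,
      W = psFun (1 : MulChar F ℂ) - (trivFun _ + trivFun _) := ⟨_, rfl⟩
  have hWst : stFun (F := F) - trivFun _ = W := by
    funext g
    simp only [hW, stFun, trivFun, Pi.sub_apply, Pi.add_apply]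
    ring
  rw [hWst]
  have hcompat := compatChar_spec C hC hcard 1
  have h11 : Cfsg.classInner (cuspChar C hC hcard 1) (cuspChar C hC hcard 1) = 2 := by
    unfold cuspChar
    have hinv : (1 : C →* ℂˣ) = 1⁻¹ := by
      ext c
      simp
    rw [classInner_cuspFun_cuspFun C hC hcard _ _ 1 1 hcompat hcompat, if_pos rfl,
      if_pos hinv]
    norm_num
  have h1t : Cfsg.classInner (cuspChar C hC hcard 1) (trivFun _) = -1 := by
    unfold cuspChar
    rw [classInner_cuspFun_triv C, if_pos rfl]
  have h1p : Cfsg.classInner (cuspChar C hC hcard 1) (psFun (1 : MulChar F ℂ)) = 0 :=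
    classInner_cuspFun_psFun C hC hcard _ 1 _ hcompat
  have h1W : Cfsg.classInner (cuspChar C hC hcard 1) W = 2 := by
    rw [hW, classInner_sub_right, classInner_add_right, h1p, h1t]
    norm_num
  have hW1 : Cfsg.classInner W (cuspChar C hC hcard 1) = 2 := by
    rw [← classInner_conj_symm, h1W]
    exact map_ofNat _ 2
  have hpt := classInner_psFun_triv (1 : MulChar F ℂ)
  rw [if_pos rfl] at hpt
  have htp : Cfsg.classInner (trivFun (SpecialLinearGroup (Fin 2) F)) (psFun (1 : MulChar F ℂ))
      = 1 := by
    rw [← classInner_conj_symm, hpt, map_one]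
  have htt := classInner_irr_self (isIrrCharacter_trivFun (G := SpecialLinearGroup (Fin 2) F))
  have hWW : Cfsg.classInner W W = 2 := by
    rw [hW]
    simp only [classInner_sub_left, classInner_sub_right, classInner_add_left,
      classInner_add_right, classInner_psFun_one_self, hpt, htp, htt]
    norm_num
  have hzero : cuspChar C hC hcard 1 - W = 0 := by
    apply eq_zero_of_norm_zero'
    rw [classInner_sub_left, classInner_sub_right, classInner_sub_right, h11, h1W, hW1, hWW]
    norm_num
  exact sub_eq_zero.1 hzero

end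

end Cfsg.Agent.Lib.Helper5
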