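import Mathlib
import Cfsg.Prelude.Def_Characters
import Cfsg.Agent.Lib.Helper5.SL2IrrClass2

set_option autoImplicit false

/-!
Every irreducible character of `SL₂` over a finite field occurs in a principal series or in a
cuspidal function.
-/

namespace Cfsg.Agent.Lib.Helper5

open Matrix
open Cfsg.Agent.Lib.Helper1 Cfsg.Agent.Lib.Helper4
open scoped ComplexConjugate

section
variable {F : Type*} [Field F] [Fintype F] [DecidableEq F]
  (C : Subgroup (SpecialLinearGroup (Fin 2) F))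

theorem isIrrCharacter_psFun {β : MulChar F ℂ} (hβ : β ≠ β⁻¹) :
    Cfsg.IsIrrCharacter (SpecialLinearGroup (Fin 2) F) (psFun β) := by
  classical
  apply isIrrCharacter_of_norm_one (isCharacter_psFun β)
  have := classInner_indFun_sl2 β β
  rw [if_pos rfl, if_neg hβ, add_zero] at this
  exact this

theorem isIrrCharacter_cuspChar (hC : IsCyclic C) (hcard : Nat.card C = Fintype.card F + 1)
    {θ : C →* ℂˣ} (hθ : θ ≠ θ⁻¹) :
    Cfsg.IsIrrCharacter (SpecialLinearGroup (Fin 2) F) (cuspChar C hC hcard θ) :=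
  isIrrCharacter_cuspFun C hC hcard _ θ (compatChar_spec C hC hcard θ) hθ

/-- Some principal series or cuspidal function meets a given irreducible character. -/
theorem exists_classInner_ne_zero (hC : IsCyclic C) (hcard : Nat.card C = Fintype.card F + 1)
    {χ : SpecialLinearGroup (Fin 2) F → ℂ}
    (hχ : Cfsg.IsIrrCharacter (SpecialLinearGroup (Fin 2) F) χ) :
    (∃ β : MulChar F ℂ, Cfsg.classInner (psFun β) χ ≠ 0) ∨
      (∃ θ : C →* ℂˣ, Cfsg.classInner (cuspChar C hC hcard θ) χ ≠ 0) := by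
  classical
  have : Finite C := inferInstance
  have : Fintype (C →* ℂˣ) := Fintype.ofFinite _
  have : Fintype (MulChar F ℂ) := Fintype.ofFinite _
  have hid := completeness_identity C hC hcard χ
    (isClassFunction_of_isCharacter (isCharacter_of_irr hχ))
  by_contra hcon
  simp only [not_or, not_exists, not_not] at hcon
  obtain ⟨h1, h2⟩ := hcon
  rw [Finset.sum_eq_zero (fun θ _ => h2 θ), Finset.sum_eq_zero (fun β _ => h1 β)] at hid
  obtain ⟨n, hn, hn1⟩ := irr_apply_one_pos hχ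
  rw [hn1] at hid
  simp at hid
  omega

theorem irr_classification (hC : IsCyclic C) (hcard : Nat.card C = Fintype.card F + 1)
    {χ : SpecialLinearGroup (Fin 2) F → ℂ}
    (hχ : Cfsg.IsIrrCharacter (SpecialLinearGroup (Fin 2) F) χ) :
    χ = trivFun _ ∨ χ = stFun ∨ (∃ β : MulChar F ℂ, β ≠ β⁻¹ ∧ χ = psFun β) ∨
      (∃ θ : C →* ℂˣ, θ ≠ θ⁻¹ ∧ χ = cuspChar C hC hcard θ) ∨
      (∃ β : MulChar F ℂ, β = β⁻¹ ∧ β ≠ 1 ∧ Cfsg.classInner (psFun β) χ ≠ 0) ∨
      (∃ θ : C →* ℂˣ, θ = θ⁻¹ ∧ θ ≠ 1 ∧ Cfsg.classInner (cuspChar C hC hcard θ) χ ≠ 0) := by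
  classical
  have htriv := isIrrCharacter_trivFun (G := SpecialLinearGroup (Fin 2) F)
  have hst := isIrrCharacter_stFun (F := F)
  rcases exists_classInner_ne_zero C hC hcard hχ with ⟨β, hβ⟩ | ⟨θ, hθ⟩
  · by_cases hβ1 : β = 1
    · rw [hβ1, psFun_one_eq, classInner_add_left] at hβ
      by_cases ht : Cfsg.classInner (trivFun (SpecialLinearGroup (Fin 2) F)) χ = 0
      · rw [ht, zero_add] at hβ
        exact Or.inr (Or.inl (eq_of_classInner_ne_zero hst hχ hβ).symm)
      · exact Or.inl (eq_of_classInner_ne_zero htriv hχ ht).symm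
    · by_cases hβ2 : β = β⁻¹
      · exact Or.inr (Or.inr (Or.inr (Or.inr (Or.inl ⟨β, hβ2, hβ1, hβ⟩))))
      · exact Or.inr (Or.inr (Or.inl ⟨β, hβ2,
          (eq_of_classInner_ne_zero (isIrrCharacter_psFun hβ2) hχ hβ).symm⟩))
  · by_cases hθ1 : θ = 1
    · rw [hθ1, cuspChar_one, classInner_sub_left] at hθ
      by_cases ht : Cfsg.classInner (trivFun (SpecialLinearGroup (Fin 2) F)) χ = 0
      · rw [ht, sub_zero] at hθ
        exact Or.inr (Or.inl (eq_of_classInner_ne_zero hst hχ hθ).symm)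
      · exact Or.inl (eq_of_classInner_ne_zero htriv hχ ht).symm
    · by_cases hθ2 : θ = θ⁻¹
      · exact Or.inr (Or.inr (Or.inr (Or.inr (Or.inr ⟨θ, hθ2, hθ1, hθ⟩))))
      · exact Or.inr (Or.inr (Or.inr (Or.inl ⟨θ, hθ2,
          (eq_of_classInner_ne_zero (isIrrCharacter_cuspChar C hC hcard hθ2) hχ hθ).symm⟩)))

end

end Cfsg.Agent.Lib.Helper5
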