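import Mathlib
import Cfsg.Agent.Lib.Helper5.SL2Roots

set_option autoImplicit false

namespace Cfsg.Agent.Lib.Helper5

open Matrix

section elements
variable {F : Type*} [Field F]

/-- the companion matrix of `X² − tX + 1` -/
def companionSL (t : F) : SpecialLinearGroup (Fin 2) F :=
  mkSL2 !![0, -1; 1, t] (by rw [Matrix.det_fin_two_of]; ring)

theorem trace_companionSL (t : F) :
    ((companionSL t : SpecialLinearGroup (Fin 2) F) : Matrix (Fin 2) (Fin 2) F).trace = t := by
  show (!![0, -1; 1, t] : Matrix (Fin 2) (Fin 2) F).trace = t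
  rw [Matrix.trace_fin_two_of, zero_add]

theorem companionSL_not_scalar (t : F) :
    ¬ ∃ c : F, ((companionSL t : SpecialLinearGroup (Fin 2) F) : Matrix (Fin 2) (Fin 2) F) =
      c • (1 : Matrix (Fin 2) (Fin 2) F) := by
  rintro ⟨c, hc⟩
  have h : (!![0, -1; 1, t] : Matrix (Fin 2) (Fin 2) F) = c • (1 : Matrix (Fin 2) (Fin 2) F) := hc
  have h10 := congrFun (congrFun h 1) 0
  simp at h10

end elements

section counting
variable {F : Type*} [Field F] [Fintype F] [DecidableEq F]

theorem sum_rootCount : ∑ t : F, rootCount t = Fintype.card F - 1 := by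
  unfold rootCount
  simp_rw [Finset.card_filter]
  rw [Finset.sum_comm]
  have h : ∀ x : F, (∑ t : F, if x ^ 2 - t * x + 1 = 0 then 1 else 0) =
      if x = 0 then 0 else 1 := by
    intro x
    by_cases hx : x = 0
    · rw [if_pos hx]
      apply Finset.sum_eq_zero
      intro t _
      rw [if_neg]
      rw [hx]
      simp
    · rw [if_neg hx]
      have : ∀ t : F, (x ^ 2 - t * x + 1 = 0) ↔ t = (x ^ 2 + 1) / x := by
        intro t
        rw [eq_div_iff hx]
        constructor
        · intro h; linear_combination -h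
        · intro h; linear_combination -h
      simp_rw [this]
      rw [Finset.sum_ite_eq' Finset.univ ((x ^ 2 + 1) / x) (fun _ => 1), if_pos (Finset.mem_univ _)]
  simp_rw [h]
  have h' : ∀ x : F, (if x = 0 then 0 else 1) = if ¬ x = 0 then 1 else 0 := by
    intro x
    by_cases hx : x = 0
    · rw [if_pos hx, if_neg (not_not.2 hx)]
    · rw [if_neg hx, if_pos hx]
  simp_rw [h']
  rw [← Finset.card_filter, Finset.filter_not, Finset.card_sdiff_of_subset (Finset.subset_univ _),
    Finset.card_univ, Finset.filter_eq', if_pos (Finset.mem_univ _), Finset.card_singleton]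

theorem rootCount_of_root (t x : F) (ht : t ^ 2 ≠ 4) (hx : x ^ 2 - t * x + 1 = 0) :
    rootCount t = 2 := by
  rcases rootCount_eq_zero_or_two t ht with h | h
  · exfalso
    unfold rootCount at h
    rw [Finset.card_eq_zero] at h
    have : x ∈ Finset.univ.filter (fun x : F => x ^ 2 - t * x + 1 = 0) := by
      rw [Finset.mem_filter]
      exact ⟨Finset.mem_univ _, hx⟩
    rw [h] at this
    exact absurd this (Finset.notMem_empty _)
  · exact h

theorem exists_rootCount_zero_even (h2 : (2 : F) = 0) : ∃ t : F, t ≠ 0 ∧ rootCount t = 0 := by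
  by_contra hcon
  push Not at hcon
  have hq : 2 ≤ Fintype.card F := Fintype.one_lt_card
  have h4 : (4 : F) = 0 := by
    have : (4 : F) = 2 * 2 := by norm_num
    rw [this, h2, zero_mul]
  have hall : ∀ t ∈ Finset.univ.erase (0 : F), rootCount t = 2 := by
    intro t ht
    rw [Finset.mem_erase] at ht
    have ht4 : t ^ 2 ≠ 4 := by
      rw [h4]
      exact pow_ne_zero 2 ht.1
    rcases rootCount_eq_zero_or_two t ht4 with h | h
    · exact absurd h (hcon t ht.1)
    · exact h
  have h1 := sum_rootCount (F := F)
  rw [← Finset.add_sum_erase _ _ (Finset.mem_univ (0 : F)), Finset.sum_congr rfl hall,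
    Finset.sum_const, Finset.card_erase_of_mem (Finset.mem_univ _), Finset.card_univ,
    smul_eq_mul] at h1
  omega

theorem exists_rootCount_zero_odd (hq : 5 < Fintype.card F) :
    ∃ t : F, t ≠ 0 ∧ t ^ 2 ≠ 4 ∧ rootCount t = 0 := by
  by_contra hcon
  push Not at hcon
  set S : Finset F := Finset.univ \ {0, 2, -2} with hS
  have hall : ∀ t ∈ S, rootCount t = 2 := by
    intro t ht
    rw [hS, Finset.mem_sdiff, Finset.mem_insert, Finset.mem_insert, Finset.mem_singleton] at ht
    obtain ⟨-, ht⟩ := ht
    push Not at ht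
    have ht4 : t ^ 2 ≠ 4 := by
      intro h
      have : (t - 2) * (t + 2) = 0 := by linear_combination h
      rcases mul_eq_zero.1 this with h' | h'
      · exact ht.2.1 (sub_eq_zero.1 h')
      · exact ht.2.2 (eq_neg_of_add_eq_zero_left h')
    rcases rootCount_eq_zero_or_two t ht4 with h | h
    · exact absurd h (hcon t ht.1 ht4)
    · exact h
  have h1 := sum_rootCount (F := F)
  have h2 : ∑ t ∈ S, rootCount t ≤ ∑ t : F, rootCount t :=
    Finset.sum_le_sum_of_subset (Finset.subset_univ _)
  rw [Finset.sum_congr rfl hall, Finset.sum_const, smul_eq_mul, h1] at h2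
  have h3 : Fintype.card F - 3 ≤ S.card := by
    have := Finset.le_card_sdiff ({0, 2, -2} : Finset F) Finset.univ
    rw [Finset.card_univ, ← hS] at this
    have h3' : ({0, 2, -2} : Finset F).card ≤ 3 := Finset.card_le_three
    omega
  omega

end counting

end Cfsg.Agent.Lib.Helper5
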