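import Mathlib
import Cfsg.Prelude.Def_Characters
import Cfsg.Agent.Lib.Helper5.SL2IrrList
import Cfsg.Agent.S2429

set_option autoImplicit false

/-!
The families of irreducible characters of `SL₂` over a finite field: degrees, coincidences and
a counting lemma.
-/

namespace Cfsg.Agent.Lib.Helper5

open Matrix
open Cfsg.Agent.Lib.Helper1 Cfsg.Agent.Lib.Helper4
open scoped ComplexConjugate

/-- Counting along a two-to-one surjection. -/
theorem card_eq_two_mul_of_two_to_one {X Y : Type*} [Finite X] (φ : X → Y)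
    (hsurj : Function.Surjective φ) (ι : X → X) (hι : ∀ x, ι x ≠ x)
    (hφ : ∀ x y, φ x = φ y ↔ y = x ∨ y = ι x) : Nat.card X = 2 * Nat.card Y := by
  classical
  have : Fintype X := Fintype.ofFinite X
  have : Finite Y := Finite.of_surjective φ hsurj
  have : Fintype Y := Fintype.ofFinite Y
  rw [Nat.card_eq_fintype_card, Nat.card_eq_fintype_card]
  have h1 : Fintype.card X = ∑ y : Y, Fintype.card {x : X // φ x = y} := by
    rw [← Fintype.card_sigma]
    exact Fintype.card_congr (Equiv.sigmaFiberEquiv φ).symm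
  rw [h1]
  have h2 : ∀ y : Y, Fintype.card {x : X // φ x = y} = 2 := by
    intro y
    obtain ⟨x₀, hx₀⟩ := hsurj y
    rw [Fintype.card_subtype]
    have : (Finset.univ.filter (fun x : X => φ x = y)) = {x₀, ι x₀} := by
      ext x
      simp only [Finset.mem_filter, Finset.mem_univ, true_and, Finset.mem_insert,
        Finset.mem_singleton]
      rw [← hx₀, eq_comm, hφ]
    rw [this, Finset.card_pair (hι x₀).symm]
  rw [Finset.sum_congr rfl (fun y _ => h2 y), Finset.sum_const, Finset.card_univ, smul_eq_mul,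
    mul_comm]

/-- An element of odd order equal to its inverse is trivial. -/
theorem eq_one_of_eq_inv_of_pow_odd {A : Type*} [Group A] {x : A} {n : ℕ} (hn : Odd n)
    (hx : x = x⁻¹) (hxn : x ^ n = 1) : x = 1 := by
  have h2 : x ^ 2 = 1 := by
    rw [sq]
    nth_rewrite 2 [hx]
    exact mul_inv_cancel x
  obtain ⟨k, rfl⟩ := hn
  rw [pow_succ, pow_mul, h2, one_pow, one_mul] at hxn
  exact hxn

section
variable {F : Type*} [Field F] [Fintype F] [DecidableEq F]

theorem exists_torus : ∃ C : Subgroup (SpecialLinearGroup (Fin 2) F),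
    IsCyclic C ∧ Nat.card C = Fintype.card F + 1 := by
  obtain ⟨g₀, hg₀, -, -⟩ := Cfsg.Agent.S2429.exists_nonsplit_generator (F := F)
  refine ⟨Subgroup.zpowers g₀, inferInstance, ?_⟩
  rw [Nat.card_zpowers, hg₀]

theorem psFun_apply_one (β : MulChar F ℂ) :
    psFun β (1 : SpecialLinearGroup (Fin 2) F) = (Fintype.card F : ℂ) + 1 := by
  have h1 : ((1 : SpecialLinearGroup (Fin 2) F) : Matrix (Fin 2) (Fin 2) F)
      = (1 : F) • (1 : Matrix (Fin 2) (Fin 2) F) := by
    rw [one_smul]; rfl
  rw [psFun_scalar β 1 1 h1, map_one, mul_one]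

omit [Fintype F] [DecidableEq F] in
theorem trivFun_apply_one : trivFun (SpecialLinearGroup (Fin 2) F) 1 = 1 := rfl

variable (C : Subgroup (SpecialLinearGroup (Fin 2) F))

theorem cuspChar_apply_one (hC : IsCyclic C) (hcard : Nat.card C = Fintype.card F + 1)
    (θ : C →* ℂˣ) : cuspChar C hC hcard θ 1 = (Fintype.card F : ℂ) - 1 :=
  cuspFun_one C hC hcard _ θ

theorem psFun_inv {β : MulChar F ℂ} (hβ : β ≠ β⁻¹) : psFun β⁻¹ = psFun β := by
  classical
  have hβ' : β⁻¹ ≠ (β⁻¹)⁻¹ := by
    rw [inv_inv]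
    exact hβ.symm
  apply eq_of_classInner_ne_zero (isIrrCharacter_psFun hβ') (isIrrCharacter_psFun hβ)
  have := classInner_indFun_sl2 β⁻¹ β
  unfold psFun
  rw [this, if_neg hβ.symm, if_pos rfl]
  norm_num

theorem psFun_eq_iff {β β' : MulChar F ℂ} (hβ : β ≠ β⁻¹) :
    psFun β = psFun β' ↔ β' = β ∨ β' = β⁻¹ := by
  classical
  constructor
  · intro h
    have h1 := classInner_indFun_sl2 β β'
    have h2 := classInner_indFun_sl2 β β
    rw [if_pos rfl, if_neg hβ, add_zero] at h2
    have h3 : Cfsg.classInner (psFun β) (psFun β') = 1 := by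
      rw [← h]
      exact h2
    unfold psFun at h3
    rw [h3] at h1
    by_cases hb : β = β'
    · exact Or.inl hb.symm
    · by_cases hb' : β = β'⁻¹
      · right
        rw [hb', inv_inv]
      · rw [if_neg hb, if_neg hb'] at h1
        norm_num at h1
  · rintro (h | h)
    · rw [h]
    · rw [h, psFun_inv hβ]

omit [Fintype F] [DecidableEq F] in
theorem monoidHom_inv_inv (θ : C →* ℂˣ) : θ⁻¹⁻¹ = θ := by
  ext c
  simp

theorem cuspChar_inv (hC : IsCyclic C) (hcard : Nat.card C = Fintype.card F + 1)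
    {θ : C →* ℂˣ} (hθ : θ ≠ θ⁻¹) : cuspChar C hC hcard θ⁻¹ = cuspChar C hC hcard θ := by
  classical
  have hθ' : θ⁻¹ ≠ (θ⁻¹)⁻¹ := by
    rw [monoidHom_inv_inv]
    exact hθ.symm
  apply eq_of_classInner_ne_zero (isIrrCharacter_cuspChar C hC hcard hθ')
    (isIrrCharacter_cuspChar C hC hcard hθ)
  unfold cuspChar
  rw [classInner_cuspFun_cuspFun C hC hcard _ _ θ⁻¹ θ (compatChar_spec C hC hcard _)
    (compatChar_spec C hC hcard _), if_neg hθ.symm, if_pos rfl]
  norm_num

theorem cuspChar_eq_iff (hC : IsCyclic C) (hcard : Nat.card C = Fintype.card F + 1)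
    {θ θ' : C →* ℂˣ} (hθ : θ ≠ θ⁻¹) :
    cuspChar C hC hcard θ = cuspChar C hC hcard θ' ↔ θ' = θ ∨ θ' = θ⁻¹ := by
  classical
  constructor
  · intro h
    have h1 := classInner_cuspFun_cuspFun C hC hcard _ _ θ θ' (compatChar_spec C hC hcard _)
      (compatChar_spec C hC hcard _)
    have h2 := classInner_cuspFun_cuspFun C hC hcard _ _ θ θ (compatChar_spec C hC hcard _)
      (compatChar_spec C hC hcard _)
    rw [if_pos rfl, if_neg hθ, add_zero] at h2
    have h3 : Cfsg.classInner (cuspChar C hC hcard θ) (cuspChar C hC hcard θ') = 1 := by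
      rw [← h]
      exact h2
    unfold cuspChar at h3
    rw [h3] at h1
    by_cases hb : θ = θ'
    · exact Or.inl hb.symm
    · by_cases hb' : θ = θ'⁻¹
      · right
        rw [hb', monoidHom_inv_inv]
      · rw [if_neg hb, if_neg hb'] at h1
        norm_num at h1
  · rintro (h | h)
    · rw [h]
    · rw [h, cuspChar_inv C hC hcard hθ]

omit [Fintype F] [DecidableEq F] in
theorem monoidHom_pow_card_eq_one (θ : C →* ℂˣ) : θ ^ Nat.card C = 1 := by
  ext c
  rw [MonoidHom.pow_apply, ← map_pow, pow_card_eq_one', map_one, MonoidHom.one_apply]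

end

end Cfsg.Agent.Lib.Helper5
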