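import Mathlib
import Cfsg.Prelude.Def_Characters
import Cfsg.Agent.Lib.Helper5.SL2Centralizer

set_option autoImplicit false

/-!
The diagonal automorphism of `SL₂`: conjugation by `diag(ν, 1)`.
-/

namespace Cfsg.Agent.Lib.Helper5

open Matrix

section
variable {F : Type*} [Field F]

/-- Conjugation by `diag(ν, 1)`, as a function. -/
def sigmaFun (ν : Fˣ) (g : SpecialLinearGroup (Fin 2) F) : SpecialLinearGroup (Fin 2) F :=
  mkSL2 !![(g : Matrix (Fin 2) (Fin 2) F) 0 0, (ν : F) * (g : Matrix (Fin 2) (Fin 2) F) 0 1;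
          (ν : F)⁻¹ * (g : Matrix (Fin 2) (Fin 2) F) 1 0, (g : Matrix (Fin 2) (Fin 2) F) 1 1] (by
    rw [Matrix.det_fin_two_of]
    have hd := g.det_coe
    rw [Matrix.det_fin_two] at hd
    have hν : (ν : F) * (ν : F)⁻¹ = 1 := mul_inv_cancel₀ ν.ne_zero
    linear_combination hd - ((g : Matrix (Fin 2) (Fin 2) F) 0 1 *
      (g : Matrix (Fin 2) (Fin 2) F) 1 0) * hν)

theorem sigmaFun_coe (ν : Fˣ) (g : SpecialLinearGroup (Fin 2) F) :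
    ((sigmaFun ν g : SpecialLinearGroup (Fin 2) F) : Matrix (Fin 2) (Fin 2) F) =
      !![(g : Matrix (Fin 2) (Fin 2) F) 0 0, (ν : F) * (g : Matrix (Fin 2) (Fin 2) F) 0 1;
        (ν : F)⁻¹ * (g : Matrix (Fin 2) (Fin 2) F) 1 0, (g : Matrix (Fin 2) (Fin 2) F) 1 1] := rfl

theorem sigmaFun_mul (ν : Fˣ) (g h : SpecialLinearGroup (Fin 2) F) :
    sigmaFun ν (g * h) = sigmaFun ν g * sigmaFun ν h := by
  have hgh : ((g * h : SpecialLinearGroup (Fin 2) F) : Matrix (Fin 2) (Fin 2) F) =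
      (g : Matrix (Fin 2) (Fin 2) F) * (h : Matrix (Fin 2) (Fin 2) F) :=
    Matrix.SpecialLinearGroup.coe_mul g h
  have e00 : ((g * h : SpecialLinearGroup (Fin 2) F) : Matrix (Fin 2) (Fin 2) F) 0 0 =
      (g : Matrix (Fin 2) (Fin 2) F) 0 0 * (h : Matrix (Fin 2) (Fin 2) F) 0 0 +
      (g : Matrix (Fin 2) (Fin 2) F) 0 1 * (h : Matrix (Fin 2) (Fin 2) F) 1 0 := by
    rw [hgh, Matrix.mul_apply, Fin.sum_univ_two]
  have e01 : ((g * h : SpecialLinearGroup (Fin 2) F) : Matrix (Fin 2) (Fin 2) F) 0 1 =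
      (g : Matrix (Fin 2) (Fin 2) F) 0 0 * (h : Matrix (Fin 2) (Fin 2) F) 0 1 +
      (g : Matrix (Fin 2) (Fin 2) F) 0 1 * (h : Matrix (Fin 2) (Fin 2) F) 1 1 := by
    rw [hgh, Matrix.mul_apply, Fin.sum_univ_two]
  have e10 : ((g * h : SpecialLinearGroup (Fin 2) F) : Matrix (Fin 2) (Fin 2) F) 1 0 =
      (g : Matrix (Fin 2) (Fin 2) F) 1 0 * (h : Matrix (Fin 2) (Fin 2) F) 0 0 +
      (g : Matrix (Fin 2) (Fin 2) F) 1 1 * (h : Matrix (Fin 2) (Fin 2) F) 1 0 := by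
    rw [hgh, Matrix.mul_apply, Fin.sum_univ_two]
  have e11 : ((g * h : SpecialLinearGroup (Fin 2) F) : Matrix (Fin 2) (Fin 2) F) 1 1 =
      (g : Matrix (Fin 2) (Fin 2) F) 1 0 * (h : Matrix (Fin 2) (Fin 2) F) 0 1 +
      (g : Matrix (Fin 2) (Fin 2) F) 1 1 * (h : Matrix (Fin 2) (Fin 2) F) 1 1 := by
    rw [hgh, Matrix.mul_apply, Fin.sum_univ_two]
  apply Subtype.ext
  show ((sigmaFun ν (g * h) : SpecialLinearGroup (Fin 2) F) : Matrix (Fin 2) (Fin 2) F) =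
    ((sigmaFun ν g : SpecialLinearGroup (Fin 2) F) : Matrix (Fin 2) (Fin 2) F) *
    ((sigmaFun ν h : SpecialLinearGroup (Fin 2) F) : Matrix (Fin 2) (Fin 2) F)
  rw [sigmaFun_coe, sigmaFun_coe, sigmaFun_coe, Matrix.mul_fin_two, e00, e01, e10, e11]
  have hν : (ν : F) * (ν : F)⁻¹ = 1 := mul_inv_cancel₀ ν.ne_zero
  obtain ⟨a, ha⟩ : ∃ a, (g : Matrix (Fin 2) (Fin 2) F) 0 0 = a := ⟨_, rfl⟩
  obtain ⟨b, hb⟩ : ∃ a, (g : Matrix (Fin 2) (Fin 2) F) 0 1 = a := ⟨_, rfl⟩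
  obtain ⟨c, hc⟩ : ∃ a, (g : Matrix (Fin 2) (Fin 2) F) 1 0 = a := ⟨_, rfl⟩
  obtain ⟨d, hd⟩ : ∃ a, (g : Matrix (Fin 2) (Fin 2) F) 1 1 = a := ⟨_, rfl⟩
  obtain ⟨a', ha'⟩ : ∃ a, (h : Matrix (Fin 2) (Fin 2) F) 0 0 = a := ⟨_, rfl⟩
  obtain ⟨b', hb'⟩ : ∃ a, (h : Matrix (Fin 2) (Fin 2) F) 0 1 = a := ⟨_, rfl⟩
  obtain ⟨c', hc'⟩ : ∃ a, (h : Matrix (Fin 2) (Fin 2) F) 1 0 = a := ⟨_, rfl⟩
  obtain ⟨d', hd'⟩ : ∃ a, (h : Matrix (Fin 2) (Fin 2) F) 1 1 = a := ⟨_, rfl⟩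
  rw [ha, hb, hc, hd, ha', hb', hc', hd']
  have h1 : a * a' + b * c' = a * a' + (ν : F) * b * ((ν : F)⁻¹ * c') := by
    linear_combination (-(b * c')) * hν
  have h2 : (ν : F) * (a * b' + b * d') = a * ((ν : F) * b') + (ν : F) * b * d' := by ring
  have h3 : (ν : F)⁻¹ * (c * a' + d * c') = (ν : F)⁻¹ * c * a' + d * ((ν : F)⁻¹ * c') := by ring
  have h4 : c * b' + d * d' = (ν : F)⁻¹ * c * ((ν : F) * b') + d * d' := by
    linear_combination (-(c * b')) * hν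
  rw [h1, h2, h3, h4]

theorem sigmaFun_sigmaFun_inv (ν : Fˣ) (g : SpecialLinearGroup (Fin 2) F) :
    sigmaFun ν (sigmaFun ν⁻¹ g) = g := by
  apply Subtype.ext
  show ((sigmaFun ν (sigmaFun ν⁻¹ g) : SpecialLinearGroup (Fin 2) F) :
    Matrix (Fin 2) (Fin 2) F) = (g : Matrix (Fin 2) (Fin 2) F)
  rw [sigmaFun_coe, sigmaFun_coe]
  have hν : (ν : F) * (ν : F)⁻¹ = 1 := mul_inv_cancel₀ ν.ne_zero
  have hν' : ((ν⁻¹ : Fˣ) : F) = (ν : F)⁻¹ := Units.val_inv_eq_inv_val ν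
  rw [hν', inv_inv]
  conv_rhs => rw [Matrix.eta_fin_two (g : Matrix (Fin 2) (Fin 2) F)]
  simp only [Matrix.of_apply, Matrix.cons_val_zero, Matrix.cons_val_one,
    Matrix.cons_val', Matrix.cons_val_fin_one]
  rw [← mul_assoc, ← mul_assoc, hν, mul_comm (ν : F)⁻¹ (ν : F), hν, one_mul, one_mul]

/-- Conjugation by `diag(ν, 1)` as an automorphism of `SL₂`. -/
def sigmaSL (ν : Fˣ) : SpecialLinearGroup (Fin 2) F ≃* SpecialLinearGroup (Fin 2) F where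
  toFun := sigmaFun ν
  invFun := sigmaFun ν⁻¹
  left_inv g := by
    have := sigmaFun_sigmaFun_inv ν⁻¹ g
    rwa [inv_inv] at this
  right_inv g := sigmaFun_sigmaFun_inv ν g
  map_mul' := sigmaFun_mul ν

theorem sigmaSL_apply (ν : Fˣ) (g : SpecialLinearGroup (Fin 2) F) :
    sigmaSL ν g = sigmaFun ν g := rfl

theorem sigmaSL_coe (ν : Fˣ) (g : SpecialLinearGroup (Fin 2) F) :
    ((sigmaSL ν g : SpecialLinearGroup (Fin 2) F) : Matrix (Fin 2) (Fin 2) F) =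
      !![(g : Matrix (Fin 2) (Fin 2) F) 0 0, (ν : F) * (g : Matrix (Fin 2) (Fin 2) F) 0 1;
        (ν : F)⁻¹ * (g : Matrix (Fin 2) (Fin 2) F) 1 0, (g : Matrix (Fin 2) (Fin 2) F) 1 1] := rfl

theorem sigmaSL_trace (ν : Fˣ) (g : SpecialLinearGroup (Fin 2) F) :
    ((sigmaSL ν g : SpecialLinearGroup (Fin 2) F) : Matrix (Fin 2) (Fin 2) F).trace =
      (g : Matrix (Fin 2) (Fin 2) F).trace := by
  rw [sigmaSL_coe, Matrix.trace_fin_two_of, Matrix.trace_fin_two]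

theorem sigmaSL_scalar (ν : Fˣ) (g : SpecialLinearGroup (Fin 2) F) (r : F)
    (hr : (g : Matrix (Fin 2) (Fin 2) F) = r • (1 : Matrix (Fin 2) (Fin 2) F)) :
    sigmaSL ν g = g := by
  apply Subtype.ext
  show ((sigmaSL ν g : SpecialLinearGroup (Fin 2) F) : Matrix (Fin 2) (Fin 2) F) = _
  rw [sigmaSL_coe]
  conv_rhs => rw [Matrix.eta_fin_two (g : Matrix (Fin 2) (Fin 2) F)]
  have h01 : (g : Matrix (Fin 2) (Fin 2) F) 0 1 = 0 := by rw [hr]; simp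
  have h10 : (g : Matrix (Fin 2) (Fin 2) F) 1 0 = 0 := by rw [hr]; simp
  rw [h01, h10, mul_zero, mul_zero]

theorem sigmaSL_scalar_iff (ν : Fˣ) (g : SpecialLinearGroup (Fin 2) F) :
    (∃ r : F, ((sigmaSL ν g : SpecialLinearGroup (Fin 2) F) : Matrix (Fin 2) (Fin 2) F)
      = r • (1 : Matrix (Fin 2) (Fin 2) F)) ↔
    (∃ r : F, (g : Matrix (Fin 2) (Fin 2) F) = r • (1 : Matrix (Fin 2) (Fin 2) F)) := by
  constructor
  · rintro ⟨r, hr⟩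
    have h := sigmaSL_scalar ν⁻¹ (sigmaSL ν g) r hr
    have h2 : sigmaSL ν⁻¹ (sigmaSL ν g) = g := (sigmaSL ν).left_inv g
    rw [h2] at h
    exact ⟨r, by rw [h]; exact hr⟩
  · rintro ⟨r, hr⟩
    rw [sigmaSL_scalar ν g r hr]
    exact ⟨r, hr⟩

end

end Cfsg.Agent.Lib.Helper5
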