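import Mathlib
import Cfsg.Prelude.Def_Characters
import Cfsg.Agent.Lib.Helper5.SL2Sigma
import Cfsg.Agent.Lib.Helper5.SL2Families

set_option autoImplicit false

/-!
Invariance of the principal series and cuspidal functions under the diagonal automorphism.
-/

namespace Cfsg.Agent.Lib.Helper5

open Matrix
open Cfsg.Agent.Lib.Helper1 Cfsg.Agent.Lib.Helper4
open scoped ComplexConjugate

section generic
universe u
variable {G : Type u} [Group G]

theorem classFun_of_isConj {f : G → ℂ} (hf : Cfsg.IsClassFunction G f) {a b : G}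
    (h : IsConj a b) : f a = f b := by
  obtain ⟨c, hc⟩ := isConj_iff.1 h
  rw [← hc, hf]

theorem classInner_comp_mulEquiv [Fintype G] (e : G ≃* G) (f g : G → ℂ) :
    Cfsg.classInner (fun x => f (e x)) (fun x => g (e x)) = Cfsg.classInner f g := by
  unfold Cfsg.classInner
  congr 1
  exact Fintype.sum_equiv e.toEquiv _ _ (fun x => rfl)

end generic

section
variable {F : Type*} [Field F] [Fintype F] [DecidableEq F]

theorem classFun_sigma_of_trace {f : SpecialLinearGroup (Fin 2) F → ℂ}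
    (hf : Cfsg.IsClassFunction (SpecialLinearGroup (Fin 2) F) f) (ν : Fˣ)
    (g : SpecialLinearGroup (Fin 2) F)
    (ht : (g : Matrix (Fin 2) (Fin 2) F).trace ^ 2 ≠ 4) : f (sigmaSL ν g) = f g := by
  apply classFun_of_isConj hf
  apply isConj_of_trace_eq _ _ (sigmaSL_trace ν g)
  rw [sigmaSL_trace]
  exact ht

theorem psFun_sigma (β : MulChar F ℂ) (ν : Fˣ) (g : SpecialLinearGroup (Fin 2) F) :
    psFun β (sigmaSL ν g) = psFun β g := by
  obtain ⟨a, ha⟩ : ∃ a, (g : Matrix (Fin 2) (Fin 2) F) 0 0 = a := ⟨_, rfl⟩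
  obtain ⟨b, hb⟩ : ∃ a, (g : Matrix (Fin 2) (Fin 2) F) 0 1 = a := ⟨_, rfl⟩
  obtain ⟨c, hc⟩ : ∃ a, (g : Matrix (Fin 2) (Fin 2) F) 1 0 = a := ⟨_, rfl⟩
  obtain ⟨d, hd⟩ : ∃ a, (g : Matrix (Fin 2) (Fin 2) F) 1 1 = a := ⟨_, rfl⟩
  have key1 := indFun_borel_value' slM (borelSL F) slX mem_borelSL_two slM_slX
    (fun a _ => β a) g a b c d (by rw [slM_apply, ha]) (by rw [slM_apply, hb])
    (by rw [slM_apply, hc]) (by rw [slM_apply, hd])
  have key2 := indFun_borel_value' slM (borelSL F) slX mem_borelSL_two slM_slX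
    (fun a _ => β a) (sigmaSL ν g) a ((ν : F) * b) ((ν : F)⁻¹ * c) d
    (by rw [slM_apply, sigmaSL_coe, ha]; rfl) (by rw [slM_apply, sigmaSL_coe, hb]; rfl)
    (by rw [slM_apply, sigmaSL_coe, hc]; rfl) (by rw [slM_apply, sigmaSL_coe, hd]; rfl)
  have hν0 : (ν : F) ≠ 0 := ν.ne_zero
  have hνi : (ν : F)⁻¹ ≠ 0 := inv_ne_zero hν0
  unfold psFun
  refine key2.trans (Eq.trans ?_ key1.symm)
  congr 1
  · by_cases hc0 : c = 0
    · rw [if_pos hc0, if_pos (by rw [hc0, mul_zero])]
    · rw [if_neg hc0, if_neg (mul_ne_zero hνi hc0)]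
  · symm
    apply Fintype.sum_equiv (Equiv.mulLeft₀ (ν : F) hν0)
    intro s
    simp only [Equiv.mulLeft₀_apply]
    have hcond : (ν : F)⁻¹ * c * ((ν : F) * s) ^ 2 + (d - a) * ((ν : F) * s) - (ν : F) * b
        = (ν : F) * (c * s ^ 2 + (d - a) * s - b) := by
      field_simp
    have hval : (ν : F)⁻¹ * c * ((ν : F) * s) + d = c * s + d := by
      field_simp
    rw [hcond, hval]
    by_cases h0 : c * s ^ 2 + (d - a) * s - b = 0
    · rw [if_pos h0, if_pos (by rw [h0, mul_zero])]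
    · rw [if_neg h0, if_neg (mul_ne_zero hν0 h0)]

omit [Fintype F] [DecidableEq F] in
theorem trivFun_sigma (ν : Fˣ) (g : SpecialLinearGroup (Fin 2) F) :
    trivFun (SpecialLinearGroup (Fin 2) F) (sigmaSL ν g) = trivFun _ g := rfl

theorem stFun_sigma (ν : Fˣ) (g : SpecialLinearGroup (Fin 2) F) :
    stFun (sigmaSL ν g) = stFun g := by
  unfold stFun
  rw [psFun_sigma]

variable (C : Subgroup (SpecialLinearGroup (Fin 2) F))

theorem indFun_torus_sigma (hC : IsCyclic C) (hcard : Nat.card C = Fintype.card F + 1)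
    (θ : C → ℂ) (ν : Fˣ) (g : SpecialLinearGroup (Fin 2) F) :
    Cfsg.indFun C θ (sigmaSL ν g) = Cfsg.indFun C θ g := by
  have hcf : Cfsg.IsClassFunction (SpecialLinearGroup (Fin 2) F) (Cfsg.indFun C θ) :=
    indFun_isClassFunction C θ
  by_cases hs : ∃ r : F, (g : Matrix (Fin 2) (Fin 2) F) = r • (1 : Matrix (Fin 2) (Fin 2) F)
  · obtain ⟨r, hr⟩ := hs
    rw [sigmaSL_scalar ν g r hr]
  · by_cases ht : (g : Matrix (Fin 2) (Fin 2) F).trace ^ 2 = 4
    · have hroot : ∃ x : F, x ^ 2 - (g : Matrix (Fin 2) (Fin 2) F).trace * x + 1 = 0 := by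
        have h4 : ((g : Matrix (Fin 2) (Fin 2) F).trace - 2) *
            ((g : Matrix (Fin 2) (Fin 2) F).trace + 2) = 0 := by
          linear_combination ht
        rcases mul_eq_zero.1 h4 with h | h
        · refine ⟨1, ?_⟩
          linear_combination -h
        · refine ⟨-1, ?_⟩
          linear_combination h
      obtain ⟨x, hx⟩ := hroot
      rw [indFun_torus_of_root C hC hcard θ g hs x hx,
        indFun_torus_of_root C hC hcard θ (sigmaSL ν g)
          (fun h => hs ((sigmaSL_scalar_iff ν g).1 h)) x (by rw [sigmaSL_trace]; exact hx)]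
    · exact classFun_sigma_of_trace hcf ν g ht

theorem cuspFun_sigma (hC : IsCyclic C) (hcard : Nat.card C = Fintype.card F + 1)
    (α : MulChar F ℂ) (θ : C → ℂ) (ν : Fˣ) (g : SpecialLinearGroup (Fin 2) F) :
    cuspFun C α θ (sigmaSL ν g) = cuspFun C α θ g := by
  unfold cuspFun
  rw [psFun_sigma, psFun_sigma, indFun_torus_sigma C hC hcard]

theorem cuspChar_sigma (hC : IsCyclic C) (hcard : Nat.card C = Fintype.card F + 1)
    (θ : C →* ℂˣ) (ν : Fˣ) (g : SpecialLinearGroup (Fin 2) F) :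
    cuspChar C hC hcard θ (sigmaSL ν g) = cuspChar C hC hcard θ g :=
  cuspFun_sigma C hC hcard _ _ ν g

end

end Cfsg.Agent.Lib.Helper5
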