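import Mathlib
import Cfsg.Prelude.Def_Characters
import Cfsg.Agent.Lib.Helper5.GL2Lin
import Cfsg.Agent.Lib.Helper5.SL2Complete
import Cfsg.Agent.Lib.Helper5.SL2SigmaInv
import Cfsg.Agent.Lib.Helper1.RepEigen
import Cfsg.Agent.Lib.Helper1.CharInt

set_option autoImplicit false

/-!
Class functions of `GL₂` over a finite field orthogonal to the whole principal series.
-/

namespace Cfsg.Agent.Lib.Helper5

open Matrix
open Cfsg.Agent.Lib.Helper1 Cfsg.Agent.Lib.Helper4
open scoped ComplexConjugate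

section integrality
universe u
variable {G : Type u} [Group G] [Finite G]

/-- Character values are algebraic integers. -/
theorem isIntegral_character_apply {χ : G → ℂ} (hχ : Cfsg.IsCharacter G χ) (g : G) :
    IsIntegral ℤ (χ g) := by
  obtain ⟨n, ρ, rfl⟩ := hχ
  rw [character_eq_sum_roots]
  apply IsIntegral.multiset_sum
  intro μ hμ
  have h := charpoly_roots_pow ρ g μ hμ
  exact IsIntegral.of_pow (orderOf_pos _) (h ▸ isIntegral_one)

end integrality

section
variable {F : Type*} [Field F] [Fintype F] [DecidableEq F]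

/-- Functions on `Fˣ` orthogonal to all multiplicative characters vanish. -/
theorem mulChar_dual [Fintype (MulChar F ℂ)] (f : Fˣ → ℂ)
    (h : ∀ α : MulChar F ℂ, ∑ a : Fˣ, α (a : F) * f a = 0) (a₀ : Fˣ) : f a₀ = 0 := by
  classical
  have h1 : ∑ α : MulChar F ℂ, α ((a₀⁻¹ : Fˣ) : F) * ∑ a : Fˣ, α (a : F) * f a = 0 := by
    apply Finset.sum_eq_zero
    intro α _
    rw [h α, mul_zero]
  have h2 : ∑ α : MulChar F ℂ, α ((a₀⁻¹ : Fˣ) : F) * ∑ a : Fˣ, α (a : F) * f a
      = ∑ a : Fˣ, (∑ α : MulChar F ℂ, α ((a₀⁻¹ * a : Fˣ) : F)) * f a := by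
    simp_rw [Finset.mul_sum]
    rw [Finset.sum_comm]
    refine Finset.sum_congr rfl fun a _ => ?_
    rw [Finset.sum_mul]
    refine Finset.sum_congr rfl fun α _ => ?_
    rw [Units.val_mul, map_mul]
    ring
  rw [h2] at h1
  simp_rw [sum_mulChar_apply] at h1
  rw [Finset.sum_eq_single a₀] at h1
  · rw [if_pos (inv_mul_cancel a₀)] at h1
    rcases mul_eq_zero.1 h1 with h3 | h3
    · exact absurd h3 card_units_ne_zero
    · exact h3
  · intro b _ hb
    rw [if_neg, zero_mul]
    intro h3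
    apply hb
    rw [inv_mul_eq_one] at h3
    exact h3.symm
  · intro h3
    exact absurd (Finset.mem_univ _) h3

/-- A class function orthogonal to the whole principal series sums to zero along each coset of
the unipotent radical in the Borel subgroup. -/
theorem cusp_sum_zero (χ : GL (Fin 2) F → ℂ)
    (hχ : Cfsg.IsClassFunction (GL (Fin 2) F) χ)
    (h : ∀ α β : MulChar F ℂ, Cfsg.classInner (gpsFun α β) χ = 0) (a d : Fˣ) :
    ∑ u : F, χ ((glE ((a, d), u) : Cfsg.upperTriangularGL 2 F) : GL (Fin 2) F) = 0 := by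
  classical
  have : Fintype (MulChar F ℂ) := Fintype.ofFinite _
  obtain ⟨S, hS⟩ : ∃ S : Fˣ → Fˣ → ℂ, S = fun a d =>
    ∑ u : F, conj (χ ((glE ((a, d), u) : Cfsg.upperTriangularGL 2 F) : GL (Fin 2) F)) :=
    ⟨_, rfl⟩
  have key : ∀ α β : MulChar F ℂ, ∑ a : Fˣ, ∑ d : Fˣ, α (a : F) * (β (d : F) * S a d) = 0 := by
    intro α β
    have h1 := h α β
    rw [classInner_gpsFun α β χ hχ] at h1
    rcases mul_eq_zero.1 h1 with h0 | h0
    · exfalso
      have hq : (Fintype.card F : ℂ) ≠ 0 := Nat.cast_ne_zero.2 Fintype.card_ne_zero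
      exact mul_ne_zero (mul_ne_zero card_units_ne_zero card_units_ne_zero) hq (inv_eq_zero.1 h0)
    · rw [← h0]
      refine Finset.sum_congr rfl fun a _ => Finset.sum_congr rfl fun d _ => ?_
      rw [hS, Finset.mul_sum, Finset.mul_sum]
      refine Finset.sum_congr rfl fun u _ => ?_
      ring
  have step1 : ∀ (β : MulChar F ℂ) (a : Fˣ), ∑ d : Fˣ, β (d : F) * S a d = 0 := by
    intro β
    apply mulChar_dual (fun a => ∑ d : Fˣ, β (d : F) * S a d)
    intro α
    rw [← key α β]
    refine Finset.sum_congr rfl fun a _ => ?_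
    rw [Finset.mul_sum]
  have step2 : S a d = 0 := mulChar_dual (fun d => S a d) (fun β => step1 β a) d
  rw [hS] at step2
  have h3 : conj (∑ u : F, χ ((glE ((a, d), u) : Cfsg.upperTriangularGL 2 F) : GL (Fin 2) F))
      = 0 := by
    rw [map_sum]
    exact step2
  exact (map_eq_zero (starRingEnd ℂ)).1 h3

end

end Cfsg.Agent.Lib.Helper5
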