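import Mathlib

set_option autoImplicit false

/-!
Automorphisms of `PSL₂(F)`, part 1: coordinates on `SL₂(F)`, the projection to `PSL₂(F)`, and the
elements `X t`, `Y s`.
-/

namespace Cfsg.Agent.Lib.Helper5.PSL2Aut

open Matrix Matrix.SpecialLinearGroup

section
variable {F : Type*} [Field F]

/-- An element of `SL₂(F)` from its entries. -/
def mk2 (a b c d : F) (h : a * d - b * c = 1) : SpecialLinearGroup (Fin 2) F :=
  ⟨!![a, b; c, d], by rw [Matrix.det_fin_two_of]; exact h⟩

theorem mk2_coe (a b c d : F) (h : a * d - b * c = 1) :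
    ((mk2 a b c d h : SpecialLinearGroup (Fin 2) F) : Matrix (Fin 2) (Fin 2) F)
      = !![a, b; c, d] := rfl

theorem mk2_congr {a b c d a' b' c' d' : F} {h : a * d - b * c = 1} {h' : a' * d' - b' * c' = 1}
    (ha : a = a') (hb : b = b') (hc : c = c') (hd : d = d') :
    mk2 a b c d h = mk2 a' b' c' d' h' := by
  subst ha hb hc hd
  rfl

theorem mk2_eq_iff {a b c d a' b' c' d' : F} {h : a * d - b * c = 1}
    {h' : a' * d' - b' * c' = 1} :
    mk2 a b c d h = mk2 a' b' c' d' h' ↔ a = a' ∧ b = b' ∧ c = c' ∧ d = d' := by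
  constructor
  · intro e
    have e' := congrArg (fun g : SpecialLinearGroup (Fin 2) F =>
      (g : Matrix (Fin 2) (Fin 2) F)) e
    simp only [mk2_coe] at e'
    have h00 := congrFun (congrFun e' 0) 0
    have h01 := congrFun (congrFun e' 0) 1
    have h10 := congrFun (congrFun e' 1) 0
    have h11 := congrFun (congrFun e' 1) 1
    simp at h00 h01 h10 h11
    exact ⟨h00, h01, h10, h11⟩
  · rintro ⟨ha, hb, hc, hd⟩
    exact mk2_congr ha hb hc hd

theorem exists_mk2 (g : SpecialLinearGroup (Fin 2) F) :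
    ∃ (a b c d : F) (h : a * d - b * c = 1), g = mk2 a b c d h := by
  have hdet := g.2
  rw [Matrix.det_fin_two] at hdet
  refine ⟨g.1 0 0, g.1 0 1, g.1 1 0, g.1 1 1, hdet, ?_⟩
  apply Subtype.ext
  rw [mk2_coe]
  exact Matrix.eta_fin_two _

theorem mk2_mul (a b c d a' b' c' d' : F) (h : a * d - b * c = 1) (h' : a' * d' - b' * c' = 1) :
    mk2 a b c d h * mk2 a' b' c' d' h'
      = mk2 (a * a' + b * c') (a * b' + b * d') (c * a' + d * c') (c * b' + d * d')
        (by linear_combination (a' * d' - b' * c') * h + h') := by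
  apply Subtype.ext
  rw [Matrix.SpecialLinearGroup.coe_mul, mk2_coe, mk2_coe, mk2_coe, Matrix.mul_fin_two]

theorem mk2_one : (1 : SpecialLinearGroup (Fin 2) F) = mk2 1 0 0 1 (by ring) := by
  apply Subtype.ext
  rw [mk2_coe, Matrix.SpecialLinearGroup.coe_one, Matrix.one_fin_two]

theorem mk2_inv (a b c d : F) (h : a * d - b * c = 1) :
    (mk2 a b c d h)⁻¹ = mk2 d (-b) (-c) a (by linear_combination h) := by
  apply inv_eq_of_mul_eq_one_right
  rw [mk2_mul, mk2_one]
  apply mk2_congr
  · linear_combination h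
  · ring
  · ring
  · linear_combination h

/-- The projection to `PSL₂(F)`. -/
def pi : SpecialLinearGroup (Fin 2) F →* ProjectiveSpecialLinearGroup (Fin 2) F :=
  QuotientGroup.mk' (Subgroup.center (SpecialLinearGroup (Fin 2) F))

theorem pi_surjective : Function.Surjective (pi (F := F)) :=
  QuotientGroup.mk'_surjective _

theorem mem_center_mk2_iff (a b c d : F) (h : a * d - b * c = 1) :
    mk2 a b c d h ∈ Subgroup.center (SpecialLinearGroup (Fin 2) F)
      ↔ b = 0 ∧ c = 0 ∧ a = d ∧ (a = 1 ∨ a = -1) := by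
  rw [Matrix.SpecialLinearGroup.mem_center_iff]
  constructor
  · rintro ⟨r, hr, hrm⟩
    rw [mk2_coe] at hrm
    have h00 := congrFun (congrFun hrm 0) 0
    have h01 := congrFun (congrFun hrm 0) 1
    have h10 := congrFun (congrFun hrm 1) 0
    have h11 := congrFun (congrFun hrm 1) 1
    simp [Matrix.scalar_apply] at h00 h01 h10 h11
    rw [Fintype.card_fin] at hr
    refine ⟨h01.symm, h10.symm, by rw [← h00, ← h11], ?_⟩
    rw [← h00]
    have : (r - 1) * (r + 1) = 0 := by linear_combination hr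
    rcases mul_eq_zero.1 this with h1 | h1
    · left; linear_combination h1
    · right; linear_combination h1
  · rintro ⟨hb, hc, had, ha⟩
    refine ⟨a, ?_, ?_⟩
    · rw [Fintype.card_fin]
      rcases ha with ha | ha <;> rw [ha] <;> ring
    · rw [mk2_coe]
      subst hb hc
      rw [← had]
      ext i j
      fin_cases i <;> fin_cases j <;> simp [Matrix.scalar_apply]

theorem pi_mk2_eq_iff {a b c d a' b' c' d' : F} {h : a * d - b * c = 1}
    {h' : a' * d' - b' * c' = 1} :
    pi (mk2 a b c d h) = pi (mk2 a' b' c' d' h') ↔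
      (a = a' ∧ b = b' ∧ c = c' ∧ d = d') ∨ (a = -a' ∧ b = -b' ∧ c = -c' ∧ d = -d') := by
  unfold pi
  rw [QuotientGroup.mk'_eq_mk']
  constructor
  · rintro ⟨z, hz, hgz⟩
    obtain ⟨e, f, g, k, hk, rfl⟩ := exists_mk2 z
    rw [mem_center_mk2_iff] at hz
    obtain ⟨hf, hg, hek, he⟩ := hz
    subst hf hg hek
    rw [mk2_mul, mk2_eq_iff] at hgz
    obtain ⟨h1, h2, h3, h4⟩ := hgz
    rcases he with he | he
    · left
      subst he
      refine ⟨?_, ?_, ?_, ?_⟩
      · linear_combination h1
      · linear_combination h2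
      · linear_combination h3
      · linear_combination h4
    · right
      subst he
      refine ⟨?_, ?_, ?_, ?_⟩
      · linear_combination -h1
      · linear_combination -h2
      · linear_combination -h3
      · linear_combination -h4
  · rintro (⟨ha, hb, hc, hd⟩ | ⟨ha, hb, hc, hd⟩)
    · exact ⟨1, Subgroup.one_mem _, by rw [mul_one]; exact mk2_congr ha hb hc hd⟩
    · refine ⟨mk2 (-1) 0 0 (-1) (by ring), ?_, ?_⟩
      · rw [mem_center_mk2_iff]
        exact ⟨rfl, rfl, rfl, Or.inr rfl⟩
      · rw [mk2_mul]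
        apply mk2_congr
        · rw [ha]; ring
        · rw [hb]; ring
        · rw [hc]; ring
        · rw [hd]; ring

/-- Upper unitriangular elements. -/
def xm (t : F) : SpecialLinearGroup (Fin 2) F := mk2 1 t 0 1 (by ring)

/-- Lower unitriangular elements. -/
def ym (s : F) : SpecialLinearGroup (Fin 2) F := mk2 1 0 s 1 (by ring)

/-- Monomial elements. -/
def wm (t : Fˣ) : SpecialLinearGroup (Fin 2) F :=
  mk2 0 (t : F) (-((t⁻¹ : Fˣ) : F)) 0 (by
    have : (t : F) * ((t⁻¹ : Fˣ) : F) = 1 := by rw [← Units.val_mul, mul_inv_cancel, Units.val_one]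
    linear_combination this)

/-- Diagonal elements. -/
def hm (t : Fˣ) : SpecialLinearGroup (Fin 2) F :=
  mk2 (t : F) 0 0 ((t⁻¹ : Fˣ) : F) (by
    have : (t : F) * ((t⁻¹ : Fˣ) : F) = 1 := by rw [← Units.val_mul, mul_inv_cancel, Units.val_one]
    linear_combination this)

theorem xm_zero : xm (0 : F) = 1 := by rw [mk2_one]; rfl

theorem ym_zero : ym (0 : F) = 1 := by rw [mk2_one]; rfl

theorem xm_add (t t' : F) : xm (t + t') = xm t * xm t' := by
  unfold xm
  rw [mk2_mul]
  apply mk2_congr <;> ring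

theorem ym_add (s s' : F) : ym (s + s') = ym s * ym s' := by
  unfold ym
  rw [mk2_mul]
  apply mk2_congr <;> ring

theorem xm_inv (t : F) : (xm t)⁻¹ = xm (-t) := by
  unfold xm
  rw [mk2_inv]
  apply mk2_congr <;> ring

theorem ym_inv (s : F) : (ym s)⁻¹ = ym (-s) := by
  unfold ym
  rw [mk2_inv]
  apply mk2_congr <;> ring

theorem units_mul_inv_val (t : Fˣ) : (t : F) * ((t⁻¹ : Fˣ) : F) = 1 := by
  rw [← Units.val_mul, mul_inv_cancel, Units.val_one]

theorem xm_ym_xm (t : Fˣ) : xm (t : F) * ym (-((t⁻¹ : Fˣ) : F)) * xm (t : F) = wm t := by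
  unfold xm ym wm
  rw [mk2_mul, mk2_mul]
  have h := units_mul_inv_val t
  apply mk2_congr
  · linear_combination -h
  · linear_combination (-(t : F)) * h
  · ring
  · linear_combination -h

theorem wm_mul_wm_one_inv (t : Fˣ) : wm t * (wm (1 : Fˣ))⁻¹ = hm t := by
  unfold wm hm
  rw [mk2_inv, mk2_mul]
  apply mk2_congr
  · simp
  · simp
  · simp
  · simp

theorem hm_conj_xm (t : Fˣ) (u : F) : hm t * xm u * (hm t)⁻¹ = xm ((t : F) ^ 2 * u) := by
  unfold hm xm
  rw [mk2_inv, mk2_mul, mk2_mul]
  have h := units_mul_inv_val t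
  apply mk2_congr
  · linear_combination h
  · ring
  · ring
  · linear_combination h

/-- `SL₂(F)` is generated by the elementary matrices. -/
theorem sl2_closure :
    Subgroup.closure (Set.range (xm (F := F)) ∪ Set.range (ym (F := F))) = ⊤ := by
  rw [eq_top_iff]
  have hx : ∀ t : F, xm t ∈ Subgroup.closure (Set.range (xm (F := F)) ∪ Set.range (ym (F := F))) :=
    fun t => Subgroup.subset_closure (Or.inl ⟨t, rfl⟩)
  have hy : ∀ t : F, ym t ∈ Subgroup.closure (Set.range (xm (F := F)) ∪ Set.range (ym (F := F))) :=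
    fun t => Subgroup.subset_closure (Or.inr ⟨t, rfl⟩)
  have key : ∀ (a b c d : F) (h : a * d - b * c = 1), c ≠ 0 →
      mk2 a b c d h ∈ Subgroup.closure (Set.range (xm (F := F)) ∪ Set.range (ym (F := F))) := by
    intro a b c d h hc
    have e : mk2 a b c d h = xm ((a - 1) / c) * ym c * xm ((d - 1) / c) := by
      unfold xm ym
      rw [mk2_mul, mk2_mul]
      apply mk2_congr
      · field_simp
        ring
      · field_simp
        linear_combination -h
      · ring
      · field_simp
        ring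
    rw [e]
    exact Subgroup.mul_mem _ (Subgroup.mul_mem _ (hx _) (hy _)) (hx _)
  intro g _
  obtain ⟨a, b, c, d, h, rfl⟩ := exists_mk2 g
  by_cases hc : c = 0
  · have ha : a ≠ 0 := by
      rintro rfl
      rw [hc] at h
      simp at h
    have e : mk2 a b c d h = ym (-1) * mk2 a b (a + c) (b + d) (by linear_combination h) := by
      unfold ym
      rw [mk2_mul]
      apply mk2_congr <;> ring
    rw [e]
    exact Subgroup.mul_mem _ (hy _) (key _ _ _ _ _ (by rw [hc, add_zero]; exact ha))
  · exact key a b c d h hc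

/-- The elements `X t` of `PSL₂(F)`. -/
def X (t : F) : ProjectiveSpecialLinearGroup (Fin 2) F := pi (xm t)

/-- The elements `Y s` of `PSL₂(F)`. -/
def Y (s : F) : ProjectiveSpecialLinearGroup (Fin 2) F := pi (ym s)

theorem X_zero : X (0 : F) = 1 := by unfold X; rw [xm_zero, map_one]

theorem Y_zero : Y (0 : F) = 1 := by unfold Y; rw [ym_zero, map_one]

theorem X_add (t t' : F) : X (t + t') = X t * X t' := by unfold X; rw [xm_add, map_mul]

theorem Y_add (s s' : F) : Y (s + s') = Y s * Y s' := by unfold Y; rw [ym_add, map_mul]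

theorem X_inv (t : F) : (X t)⁻¹ = X (-t) := by unfold X; rw [← map_inv, xm_inv]

theorem Y_inv (s : F) : (Y s)⁻¹ = Y (-s) := by unfold Y; rw [← map_inv, ym_inv]

theorem neg_eq_self_of_one_eq_neg_one (h : (1 : F) = -1) (a : F) : -a = a := by
  have : -a = (-1) * a := by ring
  rw [this, ← h, one_mul]

theorem X_injective : Function.Injective (X (F := F)) := by
  intro t t' h
  unfold X xm at h
  rw [pi_mk2_eq_iff] at h
  rcases h with ⟨_, h, _, _⟩ | ⟨h1, h, _, _⟩
  · exact h
  · rw [h, neg_eq_self_of_one_eq_neg_one h1]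

theorem Y_injective : Function.Injective (Y (F := F)) := by
  intro t t' h
  unfold Y ym at h
  rw [pi_mk2_eq_iff] at h
  rcases h with ⟨_, _, h, _⟩ | ⟨h1, _, h, _⟩
  · exact h
  · rw [h, neg_eq_self_of_one_eq_neg_one h1]

theorem X_eq_Y_iff (t s : F) : X t = Y s ↔ t = 0 ∧ s = 0 := by
  constructor
  · intro h
    unfold X Y xm ym at h
    rw [pi_mk2_eq_iff] at h
    rcases h with ⟨_, h1, h2, _⟩ | ⟨_, h1, h2, _⟩
    · exact ⟨h1, h2.symm⟩
    · refine ⟨by rw [h1, neg_zero], ?_⟩
      rw [← neg_eq_zero, ← h2]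
  · rintro ⟨rfl, rfl⟩
    rw [X_zero, Y_zero]

/-- Two homomorphisms from `PSL₂(F)` that agree on the elements `X t` and `Y s` are equal. -/
theorem hom_ext_XY {G : Type*} [Group G] (f₁ f₂ : ProjectiveSpecialLinearGroup (Fin 2) F →* G)
    (hX : ∀ t : F, f₁ (X t) = f₂ (X t)) (hY : ∀ s : F, f₁ (Y s) = f₂ (Y s)) : f₁ = f₂ := by
  have h1 : f₁.comp pi = f₂.comp pi := by
    apply MonoidHom.eq_of_eqOn_dense sl2_closure
    rintro g (⟨t, rfl⟩ | ⟨s, rfl⟩)
    · exact hX t
    · exact hY s
  apply MonoidHom.ext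
  intro q
  obtain ⟨g, rfl⟩ := pi_surjective q
  exact DFunLike.congr_fun h1 g

/-- The braid relation between `X t` and `Y s` holds exactly when `t * s = -1`. -/
theorem braid_iff (t s : F) (ht : t ≠ 0) :
    X t * Y s * X t = Y s * X t * Y s ↔ t * s = -1 := by
  unfold X Y
  rw [← map_mul, ← map_mul, ← map_mul, ← map_mul]
  unfold xm ym
  rw [mk2_mul, mk2_mul, mk2_mul, mk2_mul, pi_mk2_eq_iff]
  constructor
  · rintro (⟨_, h2, _, _⟩ | ⟨h1, h2, _, _⟩)
    · have : t * (t * s + 1) = 0 := by linear_combination h2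
      rcases mul_eq_zero.1 this with h | h
      · exact absurd h ht
      · linear_combination h
    · have e1 : t * (t * s + 3) = 0 := by linear_combination h2
      have e2 : t * s + 3 = 0 := by
        rcases mul_eq_zero.1 e1 with h | h
        · exact absurd h ht
        · exact h
      have e3 : (2 : F) * 2 = 0 := by linear_combination 2 * e2 - h1
      have e4 : (2 : F) = 0 := by
        rcases mul_eq_zero.1 e3 with h | h <;> exact h
      linear_combination e2 - e4
  · intro h
    left
    refine ⟨by ring, ?_, ?_, by ring⟩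
    · linear_combination t * h
    · linear_combination (-s) * h

end

end Cfsg.Agent.Lib.Helper5.PSL2Aut
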