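import Mathlib
import Cfsg.Agent.Lib.Helper5.PSL2Aut1

set_option autoImplicit false

/-!
Automorphisms of `PSL₂(F)`, part 2: the automorphisms induced by `GL₂(F)` and by field
automorphisms.
-/

namespace Cfsg.Agent.Lib.Helper5.PSL2Aut

open Matrix Matrix.SpecialLinearGroup

section
variable {F : Type*} [Field F]

/-- An automorphism of `SL₂(F)` induces an automorphism of `PSL₂(F)`. -/
def quotAutFun (θ : MulAut (SpecialLinearGroup (Fin 2) F)) :
    MulAut (ProjectiveSpecialLinearGroup (Fin 2) F) :=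
  QuotientGroup.congr (Subgroup.center (SpecialLinearGroup (Fin 2) F))
    (Subgroup.center (SpecialLinearGroup (Fin 2) F)) θ
    (Subgroup.characteristic_iff_map_eq.1 inferInstance θ)

theorem quotAutFun_pi (θ : MulAut (SpecialLinearGroup (Fin 2) F))
    (x : SpecialLinearGroup (Fin 2) F) : quotAutFun θ (pi x) = pi (θ x) := rfl

/-- The homomorphism `Aut(SL₂(F)) → Aut(PSL₂(F))`. -/
def quotAut : MulAut (SpecialLinearGroup (Fin 2) F) →*
    MulAut (ProjectiveSpecialLinearGroup (Fin 2) F) where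
  toFun := quotAutFun
  map_one' := by
    apply MulEquiv.ext
    intro q
    obtain ⟨x, rfl⟩ := pi_surjective q
    rw [quotAutFun_pi]
    rfl
  map_mul' θ₁ θ₂ := by
    apply MulEquiv.ext
    intro q
    obtain ⟨x, rfl⟩ := pi_surjective q
    rfl

theorem quotAut_pi (θ : MulAut (SpecialLinearGroup (Fin 2) F))
    (x : SpecialLinearGroup (Fin 2) F) : quotAut θ (pi x) = pi (θ x) := rfl

/-- Conjugation by an element of `GL₂(F)` on `SL₂(F)`, as a function. -/
def glConjFun (g : GL (Fin 2) F) (x : SpecialLinearGroup (Fin 2) F) :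
    SpecialLinearGroup (Fin 2) F :=
  ⟨(g : Matrix (Fin 2) (Fin 2) F) * (x : Matrix (Fin 2) (Fin 2) F) *
      ((g⁻¹ : GL (Fin 2) F) : Matrix (Fin 2) (Fin 2) F), by
    rw [Matrix.det_mul, Matrix.det_mul, x.2, mul_one, ← Matrix.det_mul, ← Units.val_mul,
      mul_inv_cancel, Units.val_one, Matrix.det_one]⟩

theorem glConjFun_coe (g : GL (Fin 2) F) (x : SpecialLinearGroup (Fin 2) F) :
    ((glConjFun g x : SpecialLinearGroup (Fin 2) F) : Matrix (Fin 2) (Fin 2) F)
      = (g : Matrix (Fin 2) (Fin 2) F) * (x : Matrix (Fin 2) (Fin 2) F) *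
      ((g⁻¹ : GL (Fin 2) F) : Matrix (Fin 2) (Fin 2) F) := rfl

theorem glConjFun_mul (g g' : GL (Fin 2) F) (x : SpecialLinearGroup (Fin 2) F) :
    glConjFun (g * g') x = glConjFun g (glConjFun g' x) := by
  apply Subtype.ext
  rw [glConjFun_coe, glConjFun_coe, glConjFun_coe, _root_.mul_inv_rev, Units.val_mul,
    Units.val_mul]
  simp only [Matrix.mul_assoc]

theorem glConjFun_one (x : SpecialLinearGroup (Fin 2) F) : glConjFun 1 x = x := by
  apply Subtype.ext
  rw [glConjFun_coe, inv_one, Units.val_one, Matrix.one_mul, Matrix.mul_one]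

theorem glConjFun_map_mul (g : GL (Fin 2) F) (x y : SpecialLinearGroup (Fin 2) F) :
    glConjFun g (x * y) = glConjFun g x * glConjFun g y := by
  apply Subtype.ext
  rw [Matrix.SpecialLinearGroup.coe_mul, glConjFun_coe, glConjFun_coe, glConjFun_coe,
    Matrix.SpecialLinearGroup.coe_mul]
  have h : ((g⁻¹ : GL (Fin 2) F) : Matrix (Fin 2) (Fin 2) F) * (g : Matrix (Fin 2) (Fin 2) F)
      = 1 := by rw [← Units.val_mul, inv_mul_cancel, Units.val_one]
  calc (g : Matrix (Fin 2) (Fin 2) F) * ((x : Matrix (Fin 2) (Fin 2) F) *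
        (y : Matrix (Fin 2) (Fin 2) F)) * ((g⁻¹ : GL (Fin 2) F) : Matrix (Fin 2) (Fin 2) F)
      = (g : Matrix (Fin 2) (Fin 2) F) * (x : Matrix (Fin 2) (Fin 2) F) * 1 *
        (y : Matrix (Fin 2) (Fin 2) F) * ((g⁻¹ : GL (Fin 2) F) : Matrix (Fin 2) (Fin 2) F) := by
        rw [Matrix.mul_one]; simp only [Matrix.mul_assoc]
    _ = _ := by rw [← h]; simp only [Matrix.mul_assoc]

/-- Conjugation by an element of `GL₂(F)` as an automorphism of `SL₂(F)`. -/
def glConj : GL (Fin 2) F →* MulAut (SpecialLinearGroup (Fin 2) F) where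
  toFun g :=
    { toFun := glConjFun g
      invFun := glConjFun g⁻¹
      left_inv := fun x => by rw [← glConjFun_mul, inv_mul_cancel, glConjFun_one]
      right_inv := fun x => by rw [← glConjFun_mul, mul_inv_cancel, glConjFun_one]
      map_mul' := glConjFun_map_mul g }
  map_one' := by
    apply MulEquiv.ext
    intro x
    exact glConjFun_one x
  map_mul' g g' := by
    apply MulEquiv.ext
    intro x
    exact glConjFun_mul g g' x

theorem glConj_apply (g : GL (Fin 2) F) (x : SpecialLinearGroup (Fin 2) F) :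
    glConj g x = glConjFun g x := rfl

/-- A field automorphism as an automorphism of `SL₂(F)`. -/
def fieldAut : (F ≃+* F) →* MulAut (SpecialLinearGroup (Fin 2) F) where
  toFun σ :=
    { toFun := Matrix.SpecialLinearGroup.map (σ : F →+* F)
      invFun := Matrix.SpecialLinearGroup.map (σ.symm : F →+* F)
      left_inv := fun x => by
        apply Subtype.ext
        ext i j
        simp
      right_inv := fun x => by
        apply Subtype.ext
        ext i j
        simp
      map_mul' := map_mul _ }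
  map_one' := by
    apply MulEquiv.ext
    intro x
    apply Subtype.ext
    ext i j
    rfl
  map_mul' σ τ := by
    apply MulEquiv.ext
    intro x
    apply Subtype.ext
    ext i j
    rfl

theorem fieldAut_apply_coe (σ : F ≃+* F) (x : SpecialLinearGroup (Fin 2) F) (i j : Fin 2) :
    (fieldAut σ x : Matrix (Fin 2) (Fin 2) F) i j = σ ((x : Matrix (Fin 2) (Fin 2) F) i j) := rfl

theorem fieldAut_mk2 (σ : F ≃+* F) (a b c d : F) (h : a * d - b * c = 1) :
    fieldAut σ (mk2 a b c d h) = mk2 (σ a) (σ b) (σ c) (σ d)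
      (by rw [← map_mul, ← map_mul, ← map_sub, h, map_one]) := by
  apply Subtype.ext
  ext i j
  rw [fieldAut_apply_coe, mk2_coe, mk2_coe]
  fin_cases i <;> fin_cases j <;> simp

/-- The diagonal element `diag(u, 1)` of `GL₂(F)`. -/
def dg (u : Fˣ) : GL (Fin 2) F :=
  ⟨!![(u : F), 0; 0, 1], !![((u⁻¹ : Fˣ) : F), 0; 0, 1], by
    rw [Matrix.mul_fin_two, Matrix.one_fin_two]
    simp, by
    rw [Matrix.mul_fin_two, Matrix.one_fin_two]
    simp⟩

theorem dg_coe (u : Fˣ) : ((dg u : GL (Fin 2) F) : Matrix (Fin 2) (Fin 2) F)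
    = !![(u : F), 0; 0, 1] := rfl

theorem dg_inv_coe (u : Fˣ) : (((dg u)⁻¹ : GL (Fin 2) F) : Matrix (Fin 2) (Fin 2) F)
    = !![((u⁻¹ : Fˣ) : F), 0; 0, 1] := rfl

theorem dg_mul (u v : Fˣ) : dg (u * v) = dg u * dg v := by
  apply Units.ext
  rw [Units.val_mul, dg_coe, dg_coe, dg_coe, Matrix.mul_fin_two]
  simp

theorem glConj_dg_mk2 (u : Fˣ) (a b c d : F) (h : a * d - b * c = 1) :
    glConj (dg u) (mk2 a b c d h) = mk2 a ((u : F) * b) (((u⁻¹ : Fˣ) : F) * c) d (by
      have := units_mul_inv_val u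
      linear_combination h - b * c * this) := by
  apply Subtype.ext
  rw [glConj_apply, glConjFun_coe, dg_coe, dg_inv_coe, mk2_coe, mk2_coe, Matrix.mul_fin_two,
    Matrix.mul_fin_two]
  have := units_mul_inv_val u
  congr 1
  simp only [mul_zero, add_zero, zero_mul, zero_add, mul_one, one_mul]
  ext i j
  fin_cases i <;> fin_cases j <;> simp
  · rw [mul_comm, ← mul_assoc, inv_mul_cancel₀ (Units.ne_zero u), one_mul]
  · ring

/-- The automorphism `x ↦ g σ(x) g⁻¹` of `PSL₂(F)`. -/
def semi (g : GL (Fin 2) F) (σ : F ≃+* F) : MulAut (ProjectiveSpecialLinearGroup (Fin 2) F) :=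
  quotAut (glConj g * fieldAut σ)

theorem semi_pi (g : GL (Fin 2) F) (σ : F ≃+* F) (x : SpecialLinearGroup (Fin 2) F) :
    semi g σ (pi x) = pi (glConj g (fieldAut σ x)) := rfl

theorem semi_one_one : semi (1 : GL (Fin 2) F) (1 : F ≃+* F) = 1 := by
  unfold semi
  rw [map_one, map_one, mul_one, map_one]

theorem semi_dg_X (u : Fˣ) (σ : F ≃+* F) (t : F) : semi (dg u) σ (X t) = X ((u : F) * σ t) := by
  unfold X
  rw [semi_pi]
  unfold xm
  rw [fieldAut_mk2, glConj_dg_mk2]
  congr 1
  apply mk2_congr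
  · rw [map_one]
  · rfl
  · rw [map_zero, mul_zero]
  · rw [map_one]

theorem semi_dg_Y (u : Fˣ) (σ : F ≃+* F) (s : F) :
    semi (dg u) σ (Y s) = Y (((u⁻¹ : Fˣ) : F) * σ s) := by
  unfold Y
  rw [semi_pi]
  unfold ym
  rw [fieldAut_mk2, glConj_dg_mk2]
  congr 1
  apply mk2_congr
  · rw [map_one]
  · rw [map_zero, mul_zero]
  · rfl
  · rw [map_one]

end

end Cfsg.Agent.Lib.Helper5.PSL2Aut
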