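import Mathlib
import Cfsg.Agent.Lib.Helper5.PSL2Aut2

set_option autoImplicit false

/-!
Automorphisms of `PSL₂(F)`, part 3: an automorphism preserving the two opposite root subgroups is
diagonal-times-field.
-/

namespace Cfsg.Agent.Lib.Helper5.PSL2Aut

open Matrix Matrix.SpecialLinearGroup

theorem exists_sq_add_sq' {K : Type*} [Field K] [Fintype K] (c : K) :
    ∃ a b : K, a ^ 2 + b ^ 2 = c := by
  by_cases h2 : ringChar K = 2
  · obtain ⟨a, ha⟩ := FiniteField.isSquare_of_char_two h2 c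
    exact ⟨a, 0, by rw [ha]; ring⟩
  · have hodd := FiniteField.odd_card_of_char_ne_two h2
    obtain ⟨a, b, hab⟩ := FiniteField.exists_root_sum_quadratic (R := K) (f := Polynomial.X ^ 2)
      (g := Polynomial.X ^ 2 - Polynomial.C c) (Polynomial.degree_X_pow 2)
      (Polynomial.degree_X_pow_sub_C (by decide) _) hodd
    refine ⟨a, b, ?_⟩
    rw [← sub_eq_zero]
    simpa only [Polynomial.eval_C, Polynomial.eval_X, Polynomial.eval_pow, Polynomial.eval_sub,
      ← add_sub_assoc] using hab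

section
variable {F : Type*} [Field F]

theorem wm_mul_wm_inv (s c : Fˣ) : wm s * (wm c)⁻¹ = hm (s * c⁻¹) := by
  unfold wm hm
  rw [mk2_inv, mk2_mul]
  apply mk2_congr
  · simp
  · simp
  · simp
  · simp [mul_comm]

theorem pi_hm_conj_X (t : Fˣ) (u : F) :
    pi (hm t) * X u * (pi (hm t))⁻¹ = X ((t : F) ^ 2 * u) := by
  unfold X
  rw [← map_inv, ← map_mul, ← map_mul, hm_conj_xm]

theorem pi_wm (t : Fˣ) : pi (wm t) = X (t : F) * Y (-((t⁻¹ : Fˣ) : F)) * X (t : F) := by
  unfold X Y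
  rw [← map_mul, ← map_mul, xm_ym_xm]

end

section
variable {F : Type*} [Field F] [Fintype F]

/-- An automorphism of `PSL₂(F)` preserving both root subgroups is the composite of a diagonal
automorphism and a field automorphism. -/
theorem core (α : MulAut (ProjectiveSpecialLinearGroup (Fin 2) F))
    (hX : ∀ t : F, ∃ t' : F, α (X t) = X t') (hY : ∀ s : F, ∃ s' : F, α (Y s) = Y s') :
    ∃ (u : Fˣ) (σ : F ≃+* F), α = semi (dg u) σ := by
  choose a ha using hX
  choose b hb using hY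
  have a_add : ∀ t t' : F, a (t + t') = a t + a t' := by
    intro t t'
    apply X_injective
    rw [← ha, X_add, map_mul, ha, ha, X_add]
  have a_zero : a 0 = 0 := by
    have := a_add 0 0
    rw [add_zero] at this
    linear_combination -this
  have b_zero : b 0 = 0 := by
    apply Y_injective
    rw [← hb, Y_zero, map_one]
  have a_inj : Function.Injective a := by
    intro t t' h
    apply X_injective
    apply α.injective
    rw [ha, ha, h]
  have a_ne : ∀ t : F, t ≠ 0 → a t ≠ 0 := by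
    intro t ht h
    apply ht
    apply a_inj
    rw [h, a_zero]
  -- the braid relation
  have hbraid : ∀ t : Fˣ, a (t : F) * b (-((t⁻¹ : Fˣ) : F)) = -1 := by
    intro t
    have h1 : X (t : F) * Y (-((t⁻¹ : Fˣ) : F)) * X (t : F)
        = Y (-((t⁻¹ : Fˣ) : F)) * X (t : F) * Y (-((t⁻¹ : Fˣ) : F)) := by
      rw [braid_iff _ _ (Units.ne_zero t)]
      have := units_mul_inv_val t
      linear_combination -this
    have h2 := congrArg α h1
    rw [map_mul, map_mul, map_mul, map_mul, ha, hb] at h2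
    exact (braid_iff _ _ (a_ne _ (Units.ne_zero t))).1 h2
  -- the unit-valued version of `a`
  let au : Fˣ → Fˣ := fun t => Units.mk0 (a (t : F)) (a_ne _ (Units.ne_zero t))
  have hau : ∀ t : Fˣ, ((au t : Fˣ) : F) = a (t : F) := fun t => rfl
  have hb' : ∀ t : Fˣ, b (-((t⁻¹ : Fˣ) : F)) = -(((au t)⁻¹ : Fˣ) : F) := by
    intro t
    have h1 := hbraid t
    have h2 := units_mul_inv_val (au t)
    rw [hau] at h2
    have h3 : a (t : F) * (b (-((t⁻¹ : Fˣ) : F)) + (((au t)⁻¹ : Fˣ) : F)) = 0 := by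
      linear_combination h1 + h2
    rcases mul_eq_zero.1 h3 with h | h
    · exact absurd h (a_ne _ (Units.ne_zero t))
    · linear_combination h
  have hw : ∀ t : Fˣ, α (pi (wm t)) = pi (wm (au t)) := by
    intro t
    rw [pi_wm, map_mul, map_mul, ha, hb, hb', pi_wm, hau]
  have hh : ∀ t : Fˣ, α (pi (hm t)) = pi (hm (au t * (au 1)⁻¹)) := by
    intro t
    rw [← wm_mul_wm_one_inv, map_mul, map_inv, map_mul, map_inv, hw, hw, ← map_inv, ← map_mul,
      wm_mul_wm_inv]
  have hsq : ∀ (t : Fˣ) (u : F),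
      a ((t : F) ^ 2 * u) = (a (t : F) * (((au 1)⁻¹ : Fˣ) : F)) ^ 2 * a u := by
    intro t u
    apply X_injective
    rw [← ha, ← pi_hm_conj_X, map_mul, map_mul, map_inv, hh, ha, pi_hm_conj_X, Units.val_mul, hau]
  -- the normalized map
  obtain ⟨c, hc⟩ : ∃ c : Fˣ, c = au 1 := ⟨_, rfl⟩
  rw [← hc] at hsq
  have hc1 : (c : F) = a 1 := by rw [hc, hau, Units.val_one]
  have hcc : (c : F) * ((c⁻¹ : Fˣ) : F) = 1 := units_mul_inv_val c
  have hcc' : ((c⁻¹ : Fˣ) : F) * (c : F) = 1 := by rw [mul_comm]; exact hcc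
  obtain ⟨σ₀, hσ₀⟩ : ∃ σ₀ : F → F, ∀ t, σ₀ t = ((c⁻¹ : Fˣ) : F) * a t :=
    ⟨fun t => ((c⁻¹ : Fˣ) : F) * a t, fun t => rfl⟩
  have σ_add : ∀ t t', σ₀ (t + t') = σ₀ t + σ₀ t' := by
    intro t t'
    rw [hσ₀, hσ₀, hσ₀, a_add]
    ring
  have σ_zero : σ₀ 0 = 0 := by rw [hσ₀, a_zero, mul_zero]
  have σ_one : σ₀ 1 = 1 := by rw [hσ₀, ← hc1, hcc']
  have σ_sq : ∀ t u : F, σ₀ (t ^ 2 * u) = σ₀ t ^ 2 * σ₀ u := by
    intro t u
    by_cases ht : t = 0
    · rw [ht]
      simp [σ_zero]
    · have := hsq (Units.mk0 t ht) u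
      rw [Units.val_mk0] at this
      rw [hσ₀, hσ₀, hσ₀, this]
      ring
  have σ_sq1 : ∀ t : F, σ₀ (t ^ 2) = σ₀ t ^ 2 := by
    intro t
    have := σ_sq t 1
    rw [mul_one, σ_one, mul_one] at this
    exact this
  have σ_mul : ∀ v u : F, σ₀ (v * u) = σ₀ v * σ₀ u := by
    intro v u
    obtain ⟨t₁, t₂, rfl⟩ := exists_sq_add_sq' v
    rw [add_mul, σ_add, σ_sq, σ_sq, σ_add, σ_sq1, σ_sq1]
    ring
  let σr : F →+* F :=
    { toFun := σ₀
      map_one' := σ_one
      map_mul' := σ_mul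
      map_zero' := σ_zero
      map_add' := σ_add }
  have hbij : Function.Bijective σr := Finite.injective_iff_bijective.1 σr.injective
  let σ : F ≃+* F := RingEquiv.ofBijective σr hbij
  have hσ : ∀ t, σ t = σ₀ t := fun t => rfl
  have ha' : ∀ t : F, a t = (c : F) * σ t := by
    intro t
    rw [hσ, hσ₀, ← mul_assoc, hcc, one_mul]
  have hb'' : ∀ s : F, b s = ((c⁻¹ : Fˣ) : F) * σ s := by
    intro s
    by_cases hs : s = 0
    · rw [hs, b_zero, map_zero, mul_zero]
    · have h1 := hb' (-(Units.mk0 s hs)⁻¹)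
      have e1 : (-((((-(Units.mk0 s hs)⁻¹)⁻¹ : Fˣ)) : F)) = s := by
        rw [inv_neg, inv_inv, Units.val_neg, Units.val_mk0, neg_neg]
      rw [e1] at h1
      rw [h1]
      have e2 : ((au (-(Units.mk0 s hs)⁻¹) : Fˣ) : F) = (c : F) * (-(σ s)⁻¹) := by
        rw [hau, ha', Units.val_neg, map_neg, Units.val_inv_eq_inv_val, map_inv₀, Units.val_mk0]
      rw [Units.val_inv_eq_inv_val, e2, Units.val_inv_eq_inv_val]
      have hσs : σ s ≠ 0 := by
        intro h0
        apply hs
        apply σ.injective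
        rw [h0, map_zero]
      have hcne : (c : F) ≠ 0 := Units.ne_zero c
      field_simp
  refine ⟨c, σ, ?_⟩
  have key : (α : ProjectiveSpecialLinearGroup (Fin 2) F →* ProjectiveSpecialLinearGroup (Fin 2) F)
      = ((semi (dg c) σ : MulAut (ProjectiveSpecialLinearGroup (Fin 2) F)) :
        ProjectiveSpecialLinearGroup (Fin 2) F →* ProjectiveSpecialLinearGroup (Fin 2) F) := by
    apply hom_ext_XY
    · intro t
      change α (X t) = semi (dg c) σ (X t)
      rw [ha, semi_dg_X, ha']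
    · intro s
      change α (Y s) = semi (dg c) σ (Y s)
      rw [hb, semi_dg_Y, hb'']
  apply MulEquiv.ext
  intro q
  exact DFunLike.congr_fun key q

end

end Cfsg.Agent.Lib.Helper5.PSL2Aut
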