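import Mathlib
import Cfsg.Agent.Lib.Helper5.PSL2Aut3
import Cfsg.Agent.Lib.Helper5.SL2Count

set_option autoImplicit false

/-!
Automorphisms of `PSL₂(F)`, part 4: every automorphism is `x ↦ g σ(x) g⁻¹`.
-/

namespace Cfsg.Agent.Lib.Helper5.PSL2Aut

open Matrix Matrix.SpecialLinearGroup

section
variable {F : Type*} [Field F]

theorem glConj_toGL (m x : SpecialLinearGroup (Fin 2) F) :
    glConj (Matrix.SpecialLinearGroup.toGL m) x = m * x * m⁻¹ := by
  apply Subtype.ext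
  rw [glConj_apply, glConjFun_coe, ← map_inv, Matrix.SpecialLinearGroup.coe_GL_coe_matrix,
    Matrix.SpecialLinearGroup.coe_GL_coe_matrix, Matrix.SpecialLinearGroup.coe_mul,
    Matrix.SpecialLinearGroup.coe_mul]

theorem fieldAut_one (x : SpecialLinearGroup (Fin 2) F) : fieldAut (1 : F ≃+* F) x = x := by
  rw [map_one]
  rfl

theorem conj_pi_eq_semi (m : SpecialLinearGroup (Fin 2) F) :
    MulAut.conj (pi m) = semi (Matrix.SpecialLinearGroup.toGL m) (1 : F ≃+* F) := by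
  apply MulEquiv.ext
  intro q
  obtain ⟨x, rfl⟩ := pi_surjective q
  rw [semi_pi, fieldAut_one, glConj_toGL, MulAut.conj_apply, map_mul, map_mul, map_inv]

theorem semi_one_mul_semi (g g' : GL (Fin 2) F) (σ : F ≃+* F) :
    semi g (1 : F ≃+* F) * semi g' σ = semi (g * g') σ := by
  unfold semi
  rw [map_one, mul_one, ← map_mul quotAut, ← mul_assoc, ← map_mul glConj]

theorem conj_xm_of_ne (a b c d : F) (h : a * d - b * c = 1) (hc : c ≠ 0) (t : F) :
    mk2 a b c d h * xm t * (mk2 a b c d h)⁻¹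
      = xm (a / c) * ym (-(c ^ 2 * t)) * (xm (a / c))⁻¹ := by
  have hu : a / c * c = a := div_mul_cancel₀ a hc
  generalize a / c = u at hu
  unfold xm ym
  rw [mk2_inv, mk2_inv, mk2_mul, mk2_mul, mk2_mul, mk2_mul]
  apply mk2_congr
  · linear_combination h + c * t * hu
  · linear_combination (-t * (a + u * c)) * hu
  · ring
  · linear_combination h - c * t * hu

theorem conj_xm_of_eq (a b c d : F) (h : a * d - b * c = 1) (hc : c = 0) (t : F) :
    mk2 a b c d h * xm t * (mk2 a b c d h)⁻¹ = xm (a ^ 2 * t) := by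
  unfold xm
  rw [mk2_inv, mk2_mul, mk2_mul]
  subst hc
  apply mk2_congr
  · linear_combination h
  · ring
  · ring
  · linear_combination h

theorem wm_one_conj_xm (t : F) : wm (1 : Fˣ) * xm t * (wm (1 : Fˣ))⁻¹ = ym (-t) := by
  unfold wm xm ym
  rw [mk2_inv, mk2_mul, mk2_mul]
  apply mk2_congr <;> simp

/-- The upper unipotent subgroup of `PSL₂(F)`. -/
def Uplus : Subgroup (ProjectiveSpecialLinearGroup (Fin 2) F) where
  carrier := Set.range (X (F := F))
  mul_mem' := by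
    rintro _ _ ⟨t, rfl⟩ ⟨t', rfl⟩
    exact ⟨t + t', X_add t t'⟩
  one_mem' := ⟨0, X_zero⟩
  inv_mem' := by
    rintro _ ⟨t, rfl⟩
    exact ⟨-t, (X_inv t).symm⟩

theorem mem_Uplus (q : ProjectiveSpecialLinearGroup (Fin 2) F) :
    q ∈ Uplus (F := F) ↔ ∃ t : F, X t = q := Iff.rfl

end

section
variable {F : Type*} [Field F] [Fintype F]

theorem card_Uplus : Nat.card (Uplus (F := F)) = Fintype.card F := by
  rw [← Nat.card_eq_fintype_card]
  apply Nat.card_congr
  exact (Equiv.ofInjective (X (F := F)) X_injective).symm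

theorem card_PSL2_dvd : Nat.card (ProjectiveSpecialLinearGroup (Fin 2) F) ∣
    Fintype.card F * (Fintype.card F - 1) * (Fintype.card F + 1) := by
  classical
  rw [← Cfsg.Agent.Lib.Helper5.card_SL2,
    Subgroup.card_eq_card_quotient_mul_card_subgroup
      (Subgroup.center (SpecialLinearGroup (Fin 2) F))]
  exact Dvd.intro _ rfl

theorem isPGroup_Uplus {p f : ℕ} [Fact p.Prime] (hF : Fintype.card F = p ^ f) :
    IsPGroup p (Uplus (F := F)) :=
  IsPGroup.of_card (by rw [card_Uplus, hF])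

theorem not_dvd_index_Uplus {p f : ℕ} [Fact p.Prime] (hf : 1 ≤ f)
    (hF : Fintype.card F = p ^ f) : ¬ p ∣ (Uplus (F := F)).index := by
  intro hdvd
  have hp : p.Prime := Fact.out
  have h1 := (Uplus (F := F)).card_mul_index
  rw [card_Uplus] at h1
  have h2 := card_PSL2_dvd (F := F)
  rw [← h1, mul_assoc] at h2
  have hq : 0 < Fintype.card F := Fintype.card_pos
  have h3 : (Uplus (F := F)).index ∣ (Fintype.card F - 1) * (Fintype.card F + 1) :=
    Nat.dvd_of_mul_dvd_mul_left hq h2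
  have h4 : p ∣ (Fintype.card F - 1) * (Fintype.card F + 1) := dvd_trans hdvd h3
  have h5 : p ∣ Fintype.card F := by
    rw [hF]
    exact dvd_pow_self p (by omega)
  have hq2 : 2 ≤ Fintype.card F := by
    rw [hF]
    calc 2 ≤ p := hp.two_le
      _ = p ^ 1 := (pow_one p).symm
      _ ≤ p ^ f := Nat.pow_le_pow_right hp.pos hf
  rcases (Nat.Prime.dvd_mul hp).1 h4 with h | h
  · have h6 : p ∣ Fintype.card F - (Fintype.card F - 1) := Nat.dvd_sub h5 h
    have e : Fintype.card F - (Fintype.card F - 1) = 1 := by omega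
    rw [e] at h6
    exact hp.one_lt.ne' (Nat.dvd_one.1 h6)
  · have h6 : p ∣ Fintype.card F + 1 - Fintype.card F := Nat.dvd_sub h h5
    have e : Fintype.card F + 1 - Fintype.card F = 1 := by omega
    rw [e] at h6
    exact hp.one_lt.ne' (Nat.dvd_one.1 h6)

/-- Every `p`-subgroup of `PSL₂(F)` is contained in a conjugate of the upper unipotent
subgroup. -/
theorem exists_conj_of_isPGroup {p f : ℕ} [Fact p.Prime] (hf : 1 ≤ f)
    (hF : Fintype.card F = p ^ f) (K : Subgroup (ProjectiveSpecialLinearGroup (Fin 2) F))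
    (hK : IsPGroup p K) :
    ∃ g : ProjectiveSpecialLinearGroup (Fin 2) F, ∀ k ∈ K, ∃ t : F, k = g * X t * g⁻¹ := by
  have : Finite (ProjectiveSpecialLinearGroup (Fin 2) F) := by
    unfold ProjectiveSpecialLinearGroup
    infer_instance
  obtain ⟨Q, hQ⟩ := hK.exists_le_sylow
  let SU : Sylow p (ProjectiveSpecialLinearGroup (Fin 2) F) :=
    (isPGroup_Uplus hF).toSylow (not_dvd_index_Uplus hf hF)
  obtain ⟨g, hg⟩ := MulAction.exists_smul_eq (ProjectiveSpecialLinearGroup (Fin 2) F) SU Q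
  refine ⟨g, fun k hk => ?_⟩
  have h1 : k ∈ (Q : Subgroup (ProjectiveSpecialLinearGroup (Fin 2) F)) := hQ hk
  rw [← hg, Sylow.coe_subgroup_smul, Subgroup.mem_pointwise_smul_iff_inv_smul_mem] at h1
  have h2 : g⁻¹ * k * g ∈ Uplus (F := F) := by
    have := h1
    rw [MulAut.smul_def, ← map_inv, MulAut.conj_apply, inv_inv] at this
    exact this
  obtain ⟨t, ht⟩ := h2
  refine ⟨t, ?_⟩
  rw [ht]
  group

/-- Every automorphism of `PSL₂(F)` is of the form `x ↦ g σ(x) g⁻¹` with `g ∈ GL₂(F)` and `σ` a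
field automorphism. -/
theorem exists_semi {p f : ℕ} [Fact p.Prime] (hf : 1 ≤ f) (hF : Fintype.card F = p ^ f)
    (α : MulAut (ProjectiveSpecialLinearGroup (Fin 2) F)) :
    ∃ (g : GL (Fin 2) F) (σ : F ≃+* F), α = semi g σ := by
  -- first move the image of the upper unipotent subgroup back
  obtain ⟨g₁, hg₁⟩ := exists_conj_of_isPGroup hf hF ((Uplus (F := F)).map α.toMonoidHom)
    ((isPGroup_Uplus hF).map _)
  have h1 : ∀ t : F, ∃ t' : F, (MulAut.conj g₁⁻¹ * α) (X t) = X t' := by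
    intro t
    obtain ⟨t', ht'⟩ := hg₁ (α (X t)) ⟨X t, ⟨t, rfl⟩, rfl⟩
    refine ⟨t', ?_⟩
    rw [MulAut.mul_apply, MulAut.conj_apply, ht']
    group
  obtain ⟨α₁, hα₁⟩ : ∃ α₁ : MulAut (ProjectiveSpecialLinearGroup (Fin 2) F),
      α₁ = MulAut.conj g₁⁻¹ * α := ⟨_, rfl⟩
  rw [← hα₁] at h1
  -- the lower unipotent subgroup
  have hYX : ∀ s : F, Y s = pi (wm (1 : Fˣ)) * X (-s) * (pi (wm (1 : Fˣ)))⁻¹ := by
    intro s
    unfold X Y
    rw [← map_inv, ← map_mul, ← map_mul, wm_one_conj_xm, neg_neg]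
  have hYmem : ∀ s : F, Y s ∈ (Uplus (F := F)).map
      (MulAut.conj (pi (wm (1 : Fˣ)))).toMonoidHom := by
    intro s
    refine ⟨X (-s), ⟨-s, rfl⟩, ?_⟩
    rw [hYX s]
    rfl
  obtain ⟨g₂, hg₂⟩ := exists_conj_of_isPGroup hf hF
    (((Uplus (F := F)).map (MulAut.conj (pi (wm (1 : Fˣ)))).toMonoidHom).map α₁.toMonoidHom)
    (((isPGroup_Uplus hF).map _).map _)
  have h2 : ∀ s : F, ∃ t' : F, α₁ (Y s) = g₂ * X t' * g₂⁻¹ := by
    intro s
    exact hg₂ (α₁ (Y s)) ⟨Y s, hYmem s, rfl⟩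
  obtain ⟨m, rfl⟩ := pi_surjective g₂
  obtain ⟨a, b, c, d, hdet, rfl⟩ := exists_mk2 m
  -- the image of the upper unipotent subgroup is everything
  choose a₁ ha₁ using h1
  have a₁_inj : Function.Injective a₁ := by
    intro t t' h
    apply X_injective
    apply α₁.injective
    rw [ha₁, ha₁, h]
  have a₁_surj : Function.Surjective a₁ := Finite.injective_iff_surjective.1 a₁_inj
  have hc : c ≠ 0 := by
    intro hc
    obtain ⟨t', ht'⟩ := h2 1
    unfold X at ht'
    rw [← map_inv, ← map_mul, ← map_mul, conj_xm_of_eq a b c d hdet hc] at ht'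
    obtain ⟨t'', ht''⟩ := a₁_surj (a ^ 2 * t')
    have h3 : α₁ (Y 1) = α₁ (X t'') := by
      rw [ht', ha₁, ht'']
      rfl
    have h4 := α₁.injective h3
    have h5 := (X_eq_Y_iff t'' 1).1 h4.symm
    exact one_ne_zero h5.2
  -- now conjugate by an upper unipotent element
  have h3 : ∀ s : F, ∃ s' : F, (MulAut.conj (X (-(a / c))) * α₁) (Y s) = Y s' := by
    intro s
    obtain ⟨t', ht'⟩ := h2 s
    refine ⟨-(c ^ 2 * t'), ?_⟩
    rw [MulAut.mul_apply, ht']
    unfold X Y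
    rw [← map_inv, ← map_mul, ← map_mul, conj_xm_of_ne a b c d hdet hc, MulAut.conj_apply,
      ← map_inv, ← map_mul, ← map_mul, xm_inv, xm_inv, neg_neg]
    congr 1
    rw [← mul_assoc, ← mul_assoc, ← xm_add, neg_add_cancel, xm_zero, one_mul, mul_assoc,
      ← xm_add, neg_add_cancel, xm_zero, mul_one]
  have h4 : ∀ t : F, ∃ t' : F, (MulAut.conj (X (-(a / c))) * α₁) (X t) = X t' := by
    intro t
    refine ⟨a₁ t, ?_⟩
    rw [MulAut.mul_apply, ha₁, MulAut.conj_apply, X_inv, ← X_add, ← X_add]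
    congr 1
    ring
  obtain ⟨u, σ, hcore⟩ := core _ h4 h3
  -- assemble
  have e1 : α = MulAut.conj g₁ * MulAut.conj (X (a / c)) * (MulAut.conj (X (-(a / c))) * α₁) := by
    rw [hα₁, ← X_inv, map_inv, map_inv]
    group
  obtain ⟨m₁, hm₁⟩ := pi_surjective (g₁ * X (a / c))
  rw [← map_mul, ← hm₁, conj_pi_eq_semi, hcore, semi_one_mul_semi] at e1
  exact ⟨_, _, e1⟩

end

end Cfsg.Agent.Lib.Helper5.PSL2Aut
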