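import Cfsg.Agent.Lib.Helper6.C2Max.Defs
import Cfsg.Agent.Lib.Helper1.SLn

/-!
S5634 PK-A : an overgroup of the monomial group of `SL_ι(F)` (`|ι| ≥ 3`) that contains one
nontrivial elementary transvection is everything.
-/

set_option autoImplicit false

namespace Cfsg.Agent.Lib.Helper6.C2Max

open Matrix

variable {F : Type*} [Field F] [Fintype F] {ι : Type*} [Fintype ι] [DecidableEq ι]

namespace PkA

/-- the monomial matrix `e_c ↦ γ c • e_{π c}` -/
def monoM (π : Equiv.Perm ι) (γ : ι → F) : Matrix ι ι F :=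
  Matrix.of fun r c => if r = π c then γ c else 0

theorem monoM_apply (π : Equiv.Perm ι) (γ : ι → F) (r c : ι) :
    monoM π γ r c = if r = π c then γ c else 0 := rfl

theorem isMono_monoM (π : Equiv.Perm ι) (γ : ι → F) : IsMono (monoM π γ) := by
  refine ⟨π, fun r c h => ?_⟩
  by_contra h'
  exact h (if_neg h')

theorem monoM_one (γ : ι → F) : monoM (1 : Equiv.Perm ι) γ = Matrix.diagonal γ := by
  ext r c
  rw [monoM_apply, Matrix.diagonal_apply, Equiv.Perm.one_apply]
  by_cases h : r = c
  · rw [if_pos h, if_pos h, h]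
  · rw [if_neg h, if_neg h]

theorem monoM_eq (π : Equiv.Perm ι) (γ : ι → F) :
    monoM π γ = (π⁻¹).permMatrix F * Matrix.diagonal γ := by
  ext r c
  rw [Matrix.mul_diagonal, monoM_apply, Equiv.Perm.permMatrix, PEquiv.toMatrix_apply]
  by_cases h : r = π c
  · subst h
    simp
  · have h' : ¬ (Equiv.symm π) r = c := by
      intro e
      apply h
      rw [← e]
      simp
    simp [h, h']

theorem det_monoM (π : Equiv.Perm ι) (γ : ι → F) :
    (monoM π γ).det = (((Equiv.Perm.sign π : ℤˣ) : ℤ) : F) * ∏ k, γ k := by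
  rw [monoM_eq, Matrix.det_mul, Matrix.det_permutation, Matrix.det_diagonal, Equiv.Perm.sign_inv]

theorem monoM_mul_single (π : Equiv.Perm ι) (γ : ι → F) (i j : ι) (c : F) :
    monoM π γ * Matrix.single i j c = Matrix.single (π i) j (γ i * c) := by
  ext r k
  by_cases hk : k = j
  · subst hk
    rw [Matrix.mul_single_apply_same, monoM_apply, Matrix.single_apply]
    by_cases hr : r = π i
    · simp [hr]
    · simp [hr, Ne.symm hr]
  · rw [Matrix.mul_single_apply_of_ne (c := c) i j r k hk, Matrix.single_apply, if_neg]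
    intro h
    exact hk h.2.symm

theorem single_mul_monoM (π : Equiv.Perm ι) (γ : ι → F) (i' j : ι) (c : F) :
    Matrix.single i' (π j) c * monoM π γ = Matrix.single i' j (c * γ j) := by
  ext r k
  by_cases hr : r = i'
  · subst hr
    rw [Matrix.single_mul_apply_same, monoM_apply, Matrix.single_apply]
    by_cases hk : j = k
    · simp [hk]
    · have : ¬ π j = π k := fun e => hk (π.injective e)
      simp [hk, this]
  · rw [Matrix.single_mul_apply_of_ne (c := c) i' (π j) r k hr, Matrix.single_apply, if_neg]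
    intro h
    exact hr h.1.symm

/-- conjugating an elementary transvection by a monomial matrix -/
theorem mono_conj (g : SpecialLinearGroup ι F) (π : Equiv.Perm ι) (γ : ι → F)
    (hg : g.1 = monoM π γ) (hγ : ∀ k, γ k ≠ 0) {i j i' j' : ι} (hij : i ≠ j) (hij' : i' ≠ j')
    (hi : π i = i') (hj : π j = j') (c : F) :
    g * SpecialLinearGroup.transvection hij c * g⁻¹ =
      SpecialLinearGroup.transvection hij' (γ i * c / γ j) := by
  rw [mul_inv_eq_iff_eq_mul]
  apply Subtype.ext
  show g.1 * (SpecialLinearGroup.transvection hij c).1 =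
    (SpecialLinearGroup.transvection hij' (γ i * c / γ j)).1 * g.1
  rw [SpecialLinearGroup.transvection_coe, SpecialLinearGroup.transvection_coe,
    hg, mul_add, add_mul, mul_one, one_mul, monoM_mul_single, ← hi, ← hj, single_mul_monoM]
  congr 2
  field_simp [hγ j]

theorem exists_third (h3 : 3 ≤ Fintype.card ι) (i j : ι) : ∃ k : ι, k ≠ i ∧ k ≠ j := by
  have h : ({i, j} : Finset ι).card < (Finset.univ : Finset ι).card := by
    rw [Finset.card_univ]
    exact lt_of_le_of_lt Finset.card_le_two (by omega)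
  obtain ⟨k, _, hk⟩ := Finset.exists_mem_notMem_of_card_lt_card h
  refine ⟨k, fun e => hk ?_, fun e => hk ?_⟩
  · rw [e]; simp
  · rw [e]; simp

/-- scaling with the torus -/
theorem scale (h3 : 3 ≤ Fintype.card ι) {K : Subgroup (SpecialLinearGroup ι F)} (hK : Over K)
    {i j : ι} (hij : i ≠ j) (c : F) (hc : c ≠ 0)
    (h : SpecialLinearGroup.transvection hij c ∈ K) (c' : F) :
    SpecialLinearGroup.transvection hij c' ∈ K := by
  by_cases hc' : c' = 0
  · rw [hc', SpecialLinearGroup.transvection_coeff_zero]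
    exact K.one_mem
  obtain ⟨k, hki, hkj⟩ := exists_third h3 i j
  have hl : c' / c ≠ 0 := div_ne_zero hc' hc
  set γ : ι → F := fun l => if l = i then c' / c else if l = k then (c' / c)⁻¹ else 1 with hγdef
  have hγ : ∀ l, γ l ≠ 0 := by
    intro l
    show (if l = i then c' / c else if l = k then (c' / c)⁻¹ else 1) ≠ 0
    split_ifs
    · exact hl
    · exact inv_ne_zero hl
    · exact one_ne_zero
  have hd : (SpecialLinearGroup.diag2n (Ne.symm hki) (c' / c) hl).1 = monoM 1 γ := by
    rw [SpecialLinearGroup.diag2n_coe, monoM_one]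
  have hdK : SpecialLinearGroup.diag2n (Ne.symm hki) (c' / c) hl ∈ K := by
    apply hK
    rw [hd]
    exact isMono_monoM _ _
  have h1 := mono_conj _ 1 γ hd hγ hij hij rfl rfl c
  have hγi : γ i = c' / c := by
    show (if i = i then c' / c else if i = k then (c' / c)⁻¹ else 1) = c' / c
    rw [if_pos rfl]
  have hγj : γ j = 1 := by
    show (if j = i then c' / c else if j = k then (c' / c)⁻¹ else 1) = 1
    rw [if_neg (Ne.symm hij), if_neg (Ne.symm hkj)]
  have h2 : γ i * c / γ j = c' := by
    rw [hγi, hγj]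
    field_simp
  rw [h2] at h1
  rw [← h1]
  exact K.mul_mem (K.mul_mem hdK h) (K.inv_mem hdK)

/-- moving the position with the monomial group -/
theorem move {K : Subgroup (SpecialLinearGroup ι F)} (hK : Over K)
    {i j : ι} (hij : i ≠ j) (c : F) (hc : c ≠ 0)
    (h : SpecialLinearGroup.transvection hij c ∈ K) {i' j' : ι} (hij' : i' ≠ j') :
    ∃ c'' : F, c'' ≠ 0 ∧ SpecialLinearGroup.transvection hij' c'' ∈ K := by
  set π : Equiv.Perm ι := Equiv.swap (Equiv.swap i i' j) j' * Equiv.swap i i' with hπ
  have hπi : π i = i' := by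
    rw [hπ, Equiv.Perm.mul_apply, Equiv.swap_apply_left]
    apply Equiv.swap_apply_of_ne_of_ne
    · intro e
      have := congrArg (Equiv.swap i i') e
      rw [Equiv.swap_apply_self, Equiv.swap_apply_right] at this
      exact hij this
    · exact hij'
  have hπj : π j = j' := by
    rw [hπ, Equiv.Perm.mul_apply, Equiv.swap_apply_left]
  set ε : F := (((Equiv.Perm.sign π : ℤˣ) : ℤ) : F) with hε
  have hεε : ε * ε = 1 := by
    rw [hε, ← Int.cast_mul, ← Units.val_mul, Int.units_mul_self, Units.val_one, Int.cast_one]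
  have hε0 : ε ≠ 0 := left_ne_zero_of_mul_eq_one hεε
  set γ : ι → F := Function.update (fun _ => (1 : F)) i ε with hγdef
  have hγ : ∀ l, γ l ≠ 0 := by
    intro l
    by_cases hl : l = i
    · rw [hγdef, hl, Function.update_self]
      exact hε0
    · rw [hγdef, Function.update_of_ne hl]
      exact one_ne_zero
  have hprod : ∏ l, γ l = ε := by
    rw [hγdef, Finset.prod_update_of_mem (Finset.mem_univ i)]
    simp
  have hdet : (monoM π γ).det = 1 := by
    rw [det_monoM, hprod]
    exact hεε
  set g : SpecialLinearGroup ι F := ⟨monoM π γ, hdet⟩ with hg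
  have hgK : g ∈ K := hK g (isMono_monoM π γ)
  have h1 := mono_conj g π γ rfl hγ hij hij' hπi hπj c
  refine ⟨γ i * c / γ j, div_ne_zero (mul_ne_zero (hγ i) hc) (hγ j), ?_⟩
  rw [← h1]
  exact K.mul_mem (K.mul_mem hgK h) (K.inv_mem hgK)

end PkA

open PkA

theorem top_of_hasTv (h3 : 3 ≤ Fintype.card ι) {K : Subgroup (SpecialLinearGroup ι F)}
    (hK : Over K) (hT : HasTv K) : K = ⊤ := by
  obtain ⟨i, j, hij, c, hc, h⟩ := hT
  haveI : Nontrivial ι := Fintype.one_lt_card_iff_nontrivial.1 (by omega)
  apply Cfsg.Agent.Lib.Helper1.eq_top_of_transvection_mem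
  intro i' j' hij' c'
  obtain ⟨c'', hc'', h'⟩ := move hK hij c hc h hij'
  exact scale h3 hK hij' c'' hc'' h' c'

end Cfsg.Agent.Lib.Helper6.C2Max
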