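import Mathlib

set_option autoImplicit false

/-!
Hilbert's Theorem 90 for `GL_n` over a cyclic group of field automorphisms: a matrix `g` whose
twisted norm `g σ(g) ⋯ σ^{r-1}(g)` is `1` has the form `h σ(h)⁻¹`.
-/

namespace Cfsg.Agent.Lib.Helper5.PSLCoset

open Matrix

section
variable {ι : Type*} [Fintype ι] [DecidableEq ι] {F : Type*} [Field F]

/-- The twisted partial products `g σ(g) ⋯ σ^{k-1}(g)`. -/
def tw (σ : F ≃+* F) (g : Matrix ι ι F) : ℕ → Matrix ι ι F
  | 0 => 1
  | (k + 1) => g * (tw σ g k).map σ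

@[simp] theorem tw_zero (σ : F ≃+* F) (g : Matrix ι ι F) : tw σ g 0 = 1 := rfl

theorem tw_succ (σ : F ≃+* F) (g : Matrix ι ι F) (k : ℕ) :
    tw σ g (k + 1) = g * (tw σ g k).map σ := rfl

theorem map_pow_succ (σ : F ≃+* F) (b : Matrix ι ι F) (k : ℕ) :
    (b.map (σ ^ k : F ≃+* F)).map σ = b.map (σ ^ (k + 1) : F ≃+* F) := by
  ext i j
  simp only [Matrix.map_apply]
  rw [pow_succ']
  rfl

theorem tw_succ' (σ : F ≃+* F) (g : Matrix ι ι F) (k : ℕ) :
    tw σ g (k + 1) = tw σ g k * g.map (σ ^ k : F ≃+* F) := by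
  induction k with
  | zero =>
    rw [tw_succ, tw_zero, pow_zero, one_mul]
    have h1 : (1 : Matrix ι ι F).map σ = 1 := by
      ext i j
      simp [Matrix.one_apply, apply_ite]
    have h2 : g.map ((1 : F ≃+* F)) = g := by
      ext i j
      rfl
    rw [h1, h2, mul_one]
  | succ k ih =>
    rw [tw_succ (k := k + 1), ih, Matrix.map_mul, map_pow_succ, ← mul_assoc, ← tw_succ, ih]

/-- The twisted trace of a matrix. -/
def theta (σ : F ≃+* F) (g : Matrix ι ι F) (r : ℕ) (b : Matrix ι ι F) : Matrix ι ι F :=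
  ∑ i ∈ Finset.range r, tw σ g i * b.map (σ ^ i : F ≃+* F)

theorem map_sum' (σ : F ≃+* F) {κ : Type*} (s : Finset κ) (M : κ → Matrix ι ι F) :
    (∑ i ∈ s, M i).map σ = ∑ i ∈ s, (M i).map σ := by
  ext a b
  simp only [Matrix.map_apply, Matrix.sum_apply, map_sum]

theorem mul_map_theta (σ : F ≃+* F) (g : Matrix ι ι F) (r : ℕ) (hσ : σ ^ r = 1)
    (hg : tw σ g r = 1) (b : Matrix ι ι F) :
    g * (theta σ g r b).map σ = theta σ g r b := by
  unfold theta
  rw [map_sum', Finset.mul_sum]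
  have h1 : ∀ i ∈ Finset.range r, g * (tw σ g i * b.map (σ ^ i : F ≃+* F)).map σ
      = tw σ g (i + 1) * b.map (σ ^ (i + 1) : F ≃+* F) := by
    intro i _
    rw [Matrix.map_mul, map_pow_succ, ← mul_assoc, ← tw_succ]
  rw [Finset.sum_congr rfl h1]
  have h2 := Finset.sum_range_succ (fun i => tw σ g i * b.map (σ ^ i : F ≃+* F)) r
  have h3 := Finset.sum_range_succ' (fun i => tw σ g i * b.map (σ ^ i : F ≃+* F)) r
  rw [h2] at h3
  simp only [tw_zero, pow_zero, one_mul] at h3
  rw [hσ, hg, one_mul] at h3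
  exact (add_right_cancel h3).symm

/-- The twisted trace of a vector. -/
def thetaV (σ : F ≃+* F) (g : Matrix ι ι F) (r : ℕ) (v : ι → F) : ι → F :=
  ∑ i ∈ Finset.range r, tw σ g i *ᵥ (fun l => (σ ^ i : F ≃+* F) (v l))

theorem theta_apply (σ : F ≃+* F) (g : Matrix ι ι F) (r : ℕ) (b : Matrix ι ι F) (k j : ι) :
    theta σ g r b k j = thetaV σ g r (fun l => b l j) k := by
  unfold theta thetaV
  rw [Matrix.sum_apply, Finset.sum_apply]
  rfl

/-- The powers of `σ` below its order are linearly independent as functions. -/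
theorem linearIndependent_pow (σ : F ≃+* F) (r : ℕ) (hr : orderOf σ = r) :
    LinearIndependent F (fun i : Fin r => (⇑((σ ^ (i : ℕ) : F ≃+* F)) : F → F)) := by
  have h := linearIndependent_monoidHom F F
  have hinj : Function.Injective
      (fun i : Fin r => (((σ ^ (i : ℕ) : F ≃+* F) : F →+* F) : F →* F)) := by
    intro i j hij
    have h1 : (σ ^ (i : ℕ) : F ≃+* F) = σ ^ (j : ℕ) := by
      apply RingEquiv.ext
      intro a
      exact DFunLike.congr_fun hij a
    apply Fin.ext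
    by_cases hr0 : r = 0
    · subst hr0
      exact i.elim0
    · have hpos : 0 < orderOf σ := by omega
      exact pow_injOn_Iio_orderOf (by simpa [hr] using i.2) (by simpa [hr] using j.2) h1
  exact h.comp _ hinj

theorem span_thetaV (σ : F ≃+* F) (g : Matrix ι ι F) (r : ℕ) (hr : orderOf σ = r) (hr0 : 0 < r) :
    Submodule.span F (Set.range (thetaV σ g r)) = ⊤ := by
  by_contra hne
  obtain ⟨lam, hlam0, hlam⟩ := Submodule.exists_le_ker_of_lt_top _ (lt_top_iff_ne_top.2 hne)
  apply hlam0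
  apply LinearMap.ext
  intro v
  have hv : ∀ a : F, ∑ i : Fin r, lam (tw σ g i *ᵥ (fun l => (σ ^ (i : ℕ) : F ≃+* F) (v l)))
      • ((⇑((σ ^ (i : ℕ) : F ≃+* F)) : F → F)) a = 0 := by
    intro a
    have h1 : lam (thetaV σ g r (a • v)) = 0 :=
      hlam (Submodule.subset_span ⟨a • v, rfl⟩)
    unfold thetaV at h1
    rw [map_sum, ← Fin.sum_univ_eq_sum_range
      (fun i => lam (tw σ g i *ᵥ (fun l => (σ ^ i : F ≃+* F) ((a • v) l)))) r] at h1
    rw [← h1]
    apply Finset.sum_congr rfl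
    intro i _
    have h2 : (fun l => (σ ^ (i : ℕ) : F ≃+* F) ((a • v) l))
        = (σ ^ (i : ℕ) : F ≃+* F) a • (fun l => (σ ^ (i : ℕ) : F ≃+* F) (v l)) := by
      ext l
      simp
    rw [h2, Matrix.mulVec_smul, map_smul, smul_eq_mul, smul_eq_mul, mul_comm]
  have hli := linearIndependent_pow σ r hr
  rw [Fintype.linearIndependent_iff] at hli
  have h0 := hli (fun i => lam (tw σ g i *ᵥ (fun l => (σ ^ (i : ℕ) : F ≃+* F) (v l)))) (by
    ext a
    rw [Finset.sum_apply]
    simpa using hv a) ⟨0, hr0⟩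
  simpa using h0

/-- Some twisted trace is invertible. -/
theorem exists_isUnit_theta (σ : F ≃+* F) (g : Matrix ι ι F) (r : ℕ) (hr : orderOf σ = r)
    (hr0 : 0 < r) : ∃ b : Matrix ι ι F, IsUnit (theta σ g r b) := by
  obtain ⟨f, hf, -, hli⟩ := Submodule.exists_fun_fin_finrank_span_eq F (Set.range (thetaV σ g r))
  have hcard : Module.finrank F (Submodule.span F (Set.range (thetaV σ g r)))
      = Fintype.card ι := by
    rw [span_thetaV σ g r hr hr0, finrank_top, Module.finrank_fintype_fun_eq_card]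
  obtain ⟨e⟩ : Nonempty (ι ≃ Fin (Module.finrank F (Submodule.span F
      (Set.range (thetaV σ g r))))) := by
    rw [hcard]
    exact ⟨Fintype.equivFin ι⟩
  choose v hv using hf
  refine ⟨Matrix.of (fun l j => v (e j) l), ?_⟩
  rw [← Matrix.linearIndependent_cols_iff_isUnit]
  have : (theta σ g r (Matrix.of (fun l j => v (e j) l))).col = f ∘ e := by
    ext j k
    rw [Matrix.col_apply, theta_apply, Function.comp_apply, ← hv]
    rfl
  rw [this]
  exact hli.comp _ e.injective

/-- Hilbert's Theorem 90 for matrices. -/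
theorem hilbert90_matrix (σ : F ≃+* F) (g : Matrix ι ι F) (r : ℕ) (hr : orderOf σ = r)
    (hr0 : 0 < r) (hg : tw σ g r = 1) :
    ∃ h : Matrix ι ι F, IsUnit h ∧ g * h.map σ = h := by
  obtain ⟨b, hb⟩ := exists_isUnit_theta σ g r hr hr0
  refine ⟨_, hb, mul_map_theta σ g r ?_ hg b⟩
  rw [← hr]
  exact pow_orderOf_eq_one σ

end

end Cfsg.Agent.Lib.Helper5.PSLCoset
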