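import Mathlib
import Cfsg.Agent.Lib.Helper5.PSLCoset2

set_option autoImplicit false

/-!
The norm of a cyclic group of automorphisms of a finite field: scalar Hilbert 90 and
surjectivity onto the fixed units.
-/

namespace Cfsg.Agent.Lib.Helper5.PSLCoset

open Matrix

section
variable {ι : Type*} [Fintype ι] [DecidableEq ι] {F : Type*} [Field F]

/-- The partial norms `a σ(a) ⋯ σ^{k-1}(a)`. -/
def nrm (σ : F ≃+* F) (k : ℕ) (a : F) : F := ∏ i ∈ Finset.range k, (σ ^ i : F ≃+* F) a

theorem nrm_zero (σ : F ≃+* F) (a : F) : nrm σ 0 a = 1 := by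
  unfold nrm
  rw [Finset.range_zero, Finset.prod_empty]

theorem nrm_succ (σ : F ≃+* F) (k : ℕ) (a : F) : nrm σ (k + 1) a = a * σ (nrm σ k a) := by
  unfold nrm
  rw [Finset.prod_range_succ', map_prod, pow_zero, mul_comm]
  congr 1
  apply Finset.prod_congr rfl
  intro i _
  rw [pow_succ']
  rfl

theorem nrm_mul (σ : F ≃+* F) (k : ℕ) (a b : F) : nrm σ k (a * b) = nrm σ k a * nrm σ k b := by
  unfold nrm
  rw [← Finset.prod_mul_distrib]
  apply Finset.prod_congr rfl
  intro i _
  rw [map_mul]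

theorem nrm_one (σ : F ≃+* F) (k : ℕ) : nrm σ k 1 = 1 := by
  unfold nrm
  simp

theorem nrm_ne_zero (σ : F ≃+* F) (k : ℕ) {a : F} (ha : a ≠ 0) : nrm σ k a ≠ 0 := by
  unfold nrm
  rw [Finset.prod_ne_zero_iff]
  intro i _
  exact (map_ne_zero_iff _ (σ ^ i : F ≃+* F).injective).2 ha

theorem nrm_map (σ : F ≃+* F) (k : ℕ) (a : F) : nrm σ k (σ a) = σ (nrm σ k a) := by
  unfold nrm
  rw [map_prod]
  apply Finset.prod_congr rfl
  intro i _
  have : (σ ^ i : F ≃+* F) * σ = σ * σ ^ i := by rw [← pow_succ, ← pow_succ']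
  exact DFunLike.congr_fun this a

/-- The full norm is fixed by `σ`. -/
theorem map_nrm (σ : F ≃+* F) (r : ℕ) (hσ : σ ^ r = 1) (a : F) : σ (nrm σ r a) = nrm σ r a := by
  have h1 := nrm_succ σ r a
  have h2 : nrm σ (r + 1) a = nrm σ r a * a := by
    unfold nrm
    rw [Finset.prod_range_succ, hσ]
    rfl
  rw [h2, mul_comm] at h1
  by_cases ha : a = 0
  · subst ha
    by_cases hr : r = 0
    · subst hr
      rw [nrm_zero, map_one]
    · have : nrm σ r (0 : F) = 0 := by
        unfold nrm
        apply Finset.prod_eq_zero (Finset.mem_range.2 (Nat.pos_of_ne_zero hr))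
        simp
      rw [this, map_zero]
  · exact (mul_left_cancel₀ ha h1).symm

theorem tw_smul (σ : F ≃+* F) (a : F) (g : Matrix ι ι F) (k : ℕ) :
    tw σ (a • g) k = nrm σ k a • tw σ g k := by
  induction k with
  | zero => rw [tw_zero, tw_zero, nrm_zero, one_smul]
  | succ k ih =>
    rw [tw_succ, ih, tw_succ, nrm_succ]
    have : (nrm σ k a • tw σ g k).map σ = σ (nrm σ k a) • (tw σ g k).map σ := by
      ext i j
      simp
    rw [this, Matrix.smul_mul, Matrix.mul_smul, smul_smul]

theorem tw_one (σ : F ≃+* F) (k : ℕ) : tw σ (1 : Matrix ι ι F) k = 1 := by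
  induction k with
  | zero => rfl
  | succ k ih =>
    rw [tw_succ, ih, one_mul]
    ext i j
    simp [Matrix.one_apply, apply_ite]

/-- Scalar Hilbert 90. -/
theorem hilbert90_scalar (σ : F ≃+* F) (r : ℕ) (hr : orderOf σ = r) (hr0 : 0 < r) (a : F)
    (ha : nrm σ r a = 1) : ∃ b : F, b ≠ 0 ∧ a * σ b = b := by
  obtain ⟨h, hu, hh⟩ := hilbert90_matrix (ι := Unit) σ (a • (1 : Matrix Unit Unit F)) r hr hr0 (by
    rw [tw_smul, tw_one, ha, one_smul])
  refine ⟨h () (), ?_, ?_⟩
  · intro h0
    rw [Matrix.isUnit_iff_isUnit_det, Matrix.det_unique, h0] at hu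
    exact not_isUnit_zero hu
  · have := congrFun (congrFun hh ()) ()
    rw [Matrix.smul_mul, Matrix.one_mul, Matrix.smul_apply, Matrix.map_apply, smul_eq_mul] at this
    exact this

end

section
variable {F : Type*} [Field F] [Finite F]

/-- The norm is onto the fixed nonzero elements. -/
theorem exists_nrm_eq (σ : F ≃+* F) (r : ℕ) (hr : orderOf σ = r) (hr0 : 0 < r) (c : F)
    (hc0 : c ≠ 0) (hc : σ c = c) : ∃ a : F, a ≠ 0 ∧ nrm σ r a = c := by
  classical
  have hσr : σ ^ r = 1 := by
    rw [← hr]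
    exact pow_orderOf_eq_one σ
  -- the homomorphisms on units
  let s : Fˣ →* Fˣ := Units.map ((σ : F →+* F) : F →* F)
  let N : Fˣ →* Fˣ :=
    { toFun := fun a => Units.mk0 (nrm σ r (a : F)) (nrm_ne_zero σ r a.ne_zero)
      map_one' := by
        apply Units.ext
        simp [nrm_one]
      map_mul' := by
        intro a b
        apply Units.ext
        simp [nrm_mul] }
  let D : Fˣ →* Fˣ :=
    { toFun := fun a => a * (s a)⁻¹
      map_one' := by simp
      map_mul' := by
        intro a b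
        rw [map_mul, mul_inv]
        exact mul_mul_mul_comm _ _ _ _ }
  let Fix : Subgroup Fˣ :=
    { carrier := {a | s a = a}
      mul_mem' := by
        intro a b ha hb
        show s (a * b) = a * b
        rw [map_mul, ha, hb]
      one_mem' := map_one s
      inv_mem' := by
        intro a ha
        show s a⁻¹ = a⁻¹
        rw [map_inv, ha] }
  have hNs : ∀ a : Fˣ, N (s a) = N a := by
    intro a
    apply Units.ext
    show nrm σ r (σ (a : F)) = nrm σ r (a : F)
    rw [nrm_map, map_nrm σ r hσr]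
  have hsN : ∀ a : Fˣ, s (N a) = N a := by
    intro a
    apply Units.ext
    show σ (nrm σ r (a : F)) = nrm σ r (a : F)
    exact map_nrm σ r hσr _
  have h1 : N.ker = D.range := by
    apply le_antisymm
    · intro a ha
      have ha' : nrm σ r (a : F) = 1 := by
        have := congrArg Units.val (MonoidHom.mem_ker.1 ha)
        exact this
      obtain ⟨b, hb0, hb⟩ := hilbert90_scalar σ r hr hr0 (a : F) ha'
      refine ⟨Units.mk0 b hb0, ?_⟩
      apply Units.ext
      show b * ((s (Units.mk0 b hb0))⁻¹ : Fˣ) = (a : F)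
      have hsb : ((s (Units.mk0 b hb0) : Fˣ) : F) = σ b := rfl
      rw [Units.val_inv_eq_inv_val, hsb]
      have hσb : σ b ≠ 0 := by simpa using hb0
      field_simp
      rw [mul_comm]
      exact hb.symm
    · rintro _ ⟨b, rfl⟩
      rw [MonoidHom.mem_ker]
      show N (b * (s b)⁻¹) = 1
      rw [map_mul, map_inv, hNs, mul_inv_cancel]
  have h2 : D.ker = Fix := by
    ext a
    rw [MonoidHom.mem_ker]
    show a * (s a)⁻¹ = 1 ↔ s a = a
    rw [mul_inv_eq_one]
    exact eq_comm
  have h3 : N.range ≤ Fix := by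
    rintro _ ⟨a, rfl⟩
    exact hsN a
  have hcardN := N.ker.card_mul_index
  have hcardD := D.ker.card_mul_index
  rw [Subgroup.index_ker] at hcardN hcardD
  rw [h1] at hcardN
  rw [h2] at hcardD
  have hpos : 0 < Nat.card D.range := Nat.card_pos
  have h4 : Nat.card N.range = Nat.card Fix := by
    apply Nat.eq_of_mul_eq_mul_left hpos
    rw [hcardN, mul_comm, hcardD]
  have h5 : N.range = Fix := Subgroup.eq_of_le_of_card_ge h3 (le_of_eq h4.symm)
  have hcFix : Units.mk0 c hc0 ∈ Fix := by
    show s (Units.mk0 c hc0) = Units.mk0 c hc0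
    apply Units.ext
    exact hc
  rw [← h5] at hcFix
  obtain ⟨a, ha⟩ := hcFix
  exact ⟨(a : F), a.ne_zero, congrArg Units.val ha⟩

end

end Cfsg.Agent.Lib.Helper5.PSLCoset
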