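import Mathlib
import Cfsg.Agent.Lib.Helper5.PSLCoset3

set_option autoImplicit false

/-!
Nondegenerate Hermitian forms over a finite field have orthonormal bases; consequently every
invertible Hermitian matrix `A` satisfies `E A σ(E)ᵀ = 1` for some `E`.
-/

namespace Cfsg.Agent.Lib.Helper5.PSLCoset

open Matrix

section
variable {F : Type*} [Field F]

/-- A form linear in the first variable with Hermitian symmetry with respect to `σ`. -/
structure IsHerm (σ : F ≃+* F) {V : Type*} [AddCommGroup V] [Module F V] (H : V → V → F) :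
    Prop where
  add_left : ∀ u v w, H (u + v) w = H u w + H v w
  smul_left : ∀ (a : F) v w, H (a • v) w = a * H v w
  symm : ∀ v w, H w v = σ (H v w)

namespace IsHerm

variable {σ : F ≃+* F} {V : Type*} [AddCommGroup V] [Module F V] {H : V → V → F}

theorem add_right (h : IsHerm σ H) (u v w : V) : H u (v + w) = H u v + H u w := by
  rw [h.symm (v + w) u, h.add_left, map_add, ← h.symm, ← h.symm]

theorem zero_left (h : IsHerm σ H) (w : V) : H 0 w = 0 := by
  have := h.smul_left 0 0 w
  rwa [zero_smul, zero_mul] at this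

theorem zero_right (h : IsHerm σ H) (w : V) : H w 0 = 0 := by
  rw [h.symm 0 w, h.zero_left, map_zero]

theorem neg_left (h : IsHerm σ H) (v w : V) : H (-v) w = -H v w := by
  have := h.smul_left (-1) v w
  rwa [neg_one_smul, neg_one_mul] at this

theorem sub_left (h : IsHerm σ H) (u v w : V) : H (u - v) w = H u w - H v w := by
  rw [sub_eq_add_neg, h.add_left, h.neg_left, ← sub_eq_add_neg]

theorem smul_right (h : IsHerm σ H) (a : F) (v w : V) : H v (a • w) = σ a * H v w := by
  rw [h.symm (a • w) v, h.smul_left, map_mul, ← h.symm]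

theorem sub_right (h : IsHerm σ H) (u v w : V) : H u (v - w) = H u v - H u w := by
  rw [h.symm (v - w) u, h.sub_left, map_sub, ← h.symm, ← h.symm]

/-- The functional `u ↦ H u w`. -/
def toDual (h : IsHerm σ H) (w : V) : Module.Dual F V :=
  IsLinearMap.mk' (fun u => H u w) ⟨fun u v => h.add_left u v w, fun a u => h.smul_left a u w⟩

theorem toDual_apply (h : IsHerm σ H) (w u : V) : h.toDual w u = H u w := rfl

end IsHerm

end

section
variable {F : Type*} [Field F] [Finite F]

/-- A nonzero Hermitian form has a vector of nonzero norm. -/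
theorem exists_norm_ne_zero {σ : F ≃+* F} (hσ1 : σ ≠ 1) {V : Type*} [AddCommGroup V]
    [Module F V] {H : V → V → F} (h : IsHerm σ H) {v w : V} (hvw : H v w ≠ 0) :
    ∃ u : V, H u u ≠ 0 := by
  by_contra hcon
  push Not at hcon
  have h1 : ∀ u u' : V, H u u' + σ (H u u') = 0 := by
    intro u u'
    have := hcon (u + u')
    rw [h.add_left, h.add_right, h.add_right, hcon u, hcon u', zero_add, add_zero,
      h.symm u u'] at this
    exact this
  have h2 : ∀ b : F, b + σ b = 0 := by
    intro b
    have := h1 ((b / H v w) • v) w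
    rwa [h.smul_left, div_mul_cancel₀ _ hvw] at this
  have h3 : (1 : F) + 1 = 0 := by simpa using h2 1
  apply hσ1
  apply RingEquiv.ext
  intro b
  have h4 := h2 b
  have h5 : b + b = 0 := by
    have : b + b = b * (1 + 1) := by ring
    rw [this, h3, mul_zero]
  have : σ b = b := by
    have h6 : b + σ b = b + b := by rw [h4, h5]
    exact add_left_cancel h6
  rw [this]
  rfl

theorem exists_orthonormal {σ : F ≃+* F} (hσ : orderOf σ = 2) :
    ∀ (k : ℕ) (V : Type*) [AddCommGroup V] [Module F V] [FiniteDimensional F V]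
      (H : V → V → F), IsHerm σ H → (∀ v, v ≠ 0 → ∃ w, H v w ≠ 0) → Module.finrank F V = k →
      ∃ e : Fin k → V, ∀ i j, H (e i) (e j) = if i = j then 1 else 0 := by
  have hσ1 : σ ≠ 1 := by
    intro h1
    rw [h1, orderOf_one] at hσ
    omega
  have hσ2 : ∀ a : F, σ (σ a) = a := by
    intro a
    have h2 : σ ^ 2 = 1 := by
      rw [← hσ]
      exact pow_orderOf_eq_one σ
    have := DFunLike.congr_fun h2 a
    rwa [pow_two] at this
  intro k
  induction k with
  | zero =>
    intro V _ _ _ H _ _ _
    exact ⟨Fin.elim0, fun i => i.elim0⟩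
  | succ k ih =>
    intro V _ _ _ H h hnd hdim
    -- a nonzero vector
    have hpos : 0 < Module.finrank F V := by omega
    obtain ⟨v₀, hv₀⟩ := Module.finrank_pos_iff_exists_ne_zero.1 hpos
    obtain ⟨w₀, hw₀⟩ := hnd v₀ hv₀
    obtain ⟨u, hu⟩ := exists_norm_ne_zero hσ1 h hw₀
    -- rescale to norm one
    have hfix : σ (H u u) = H u u := (h.symm u u).symm
    have hfix' : σ (H u u)⁻¹ = (H u u)⁻¹ := by rw [map_inv₀, hfix]
    obtain ⟨a, ha0, ha⟩ := exists_nrm_eq σ 2 hσ (by norm_num) (H u u)⁻¹ (inv_ne_zero hu) hfix'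
    have ha' : a * σ a = (H u u)⁻¹ := by
      rw [← ha]
      unfold nrm
      rw [Finset.prod_range_succ, Finset.prod_range_one, pow_zero, pow_one]
      rfl
    obtain ⟨v, hv⟩ : ∃ v : V, v = a • u := ⟨_, rfl⟩
    have hvv : H v v = 1 := by
      rw [hv, h.smul_left, h.smul_right, ← mul_assoc, ha', inv_mul_cancel₀ hu]
    -- the orthogonal complement
    have hf0 : h.toDual v ≠ 0 := by
      intro h0
      have := LinearMap.congr_fun h0 v
      rw [IsHerm.toDual_apply, hvv] at this
      exact one_ne_zero this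
    have hker := Module.Dual.finrank_ker_add_one_of_ne_zero hf0
    have hW : ∀ w : LinearMap.ker (h.toDual v), H (w : V) v = 0 := fun w => w.2
    have hW' : ∀ w : LinearMap.ker (h.toDual v), H v (w : V) = 0 := by
      intro w
      rw [h.symm (w : V) v, hW, map_zero]
    have hHW : IsHerm σ (fun w w' : LinearMap.ker (h.toDual v) => H (w : V) (w' : V)) :=
      ⟨fun u v w => h.add_left _ _ _, fun a v w => h.smul_left _ _ _, fun v w => h.symm _ _⟩
    have hndW : ∀ w : LinearMap.ker (h.toDual v), w ≠ 0 →
        ∃ w' : LinearMap.ker (h.toDual v), H (w : V) (w' : V) ≠ 0 := by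
      intro w hw
      obtain ⟨x, hx⟩ := hnd (w : V) (fun h0 => hw (Subtype.ext h0))
      have hmem : x - H x v • v ∈ LinearMap.ker (h.toDual v) := by
        rw [LinearMap.mem_ker, IsHerm.toDual_apply, h.sub_left, h.smul_left, hvv, mul_one,
          sub_self]
      refine ⟨⟨_, hmem⟩, ?_⟩
      show H (w : V) (x - H x v • v) ≠ 0
      rw [h.sub_right, h.smul_right, hW, mul_zero, sub_zero]
      exact hx
    obtain ⟨e', he'⟩ := ih (LinearMap.ker (h.toDual v)) _ hHW hndW (by omega)
    refine ⟨Fin.cons v (fun i => (e' i : V)), ?_⟩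
    intro i j
    refine Fin.cases ?_ (fun i' => ?_) i <;> refine Fin.cases ?_ (fun j' => ?_) j
    · simpa using hvv
    · rw [Fin.cons_zero, Fin.cons_succ, hW', if_neg (Fin.succ_ne_zero j').symm]
    · rw [Fin.cons_zero, Fin.cons_succ, hW, if_neg (Fin.succ_ne_zero i')]
    · rw [Fin.cons_succ, Fin.cons_succ, he']
      simp only [Fin.succ_inj]

end

section
variable {n : ℕ} {F : Type*} [Field F] [Finite F]

/-- The Hermitian form of a matrix. -/
def hform (σ : F ≃+* F) (A : Matrix (Fin n) (Fin n) F) (v w : Fin n → F) : F :=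
  ∑ k, ∑ l, v k * A k l * σ (w l)

theorem isHerm_hform {σ : F ≃+* F} (hσ2 : ∀ a : F, σ (σ a) = a) {A : Matrix (Fin n) (Fin n) F}
    (hA : ∀ k l, σ (A k l) = A l k) : IsHerm σ (hform σ A) := by
  refine ⟨?_, ?_, ?_⟩
  · intro u v w
    unfold hform
    rw [← Finset.sum_add_distrib]
    apply Finset.sum_congr rfl
    intro k _
    rw [← Finset.sum_add_distrib]
    apply Finset.sum_congr rfl
    intro l _
    rw [Pi.add_apply]
    ring
  · intro a v w
    unfold hform
    rw [Finset.mul_sum]
    apply Finset.sum_congr rfl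
    intro k _
    rw [Finset.mul_sum]
    apply Finset.sum_congr rfl
    intro l _
    rw [Pi.smul_apply, smul_eq_mul]
    ring
  · intro v w
    unfold hform
    rw [map_sum, Finset.sum_comm]
    apply Finset.sum_congr rfl
    intro k _
    rw [map_sum]
    apply Finset.sum_congr rfl
    intro l _
    rw [map_mul, map_mul, hσ2, hA]
    ring

/-- Every invertible Hermitian matrix over a finite field is congruent to the identity. -/
theorem exists_congr_one {σ : F ≃+* F} (hσ : orderOf σ = 2) {A : Matrix (Fin n) (Fin n) F}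
    (hA : ∀ k l, σ (A k l) = A l k) (hAu : IsUnit A) :
    ∃ E : Matrix (Fin n) (Fin n) F, E * A * (E.map σ).transpose = 1 := by
  have hσ2 : ∀ a : F, σ (σ a) = a := by
    intro a
    have h2 : σ ^ 2 = 1 := by
      rw [← hσ]
      exact pow_orderOf_eq_one σ
    have := DFunLike.congr_fun h2 a
    rwa [pow_two] at this
  have hnd : ∀ v : Fin n → F, v ≠ 0 → ∃ w, hform σ A v w ≠ 0 := by
    intro v hv
    by_contra hcon
    push Not at hcon
    apply hv
    have h1 : v ᵥ* A = 0 := by
      ext l
      have := hcon (fun l' => σ ((Pi.single l (1 : F) : Fin n → F) l'))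
      unfold hform at this
      simp only [hσ2] at this
      rw [Matrix.vecMul, dotProduct, Pi.zero_apply, ← this]
      apply Finset.sum_congr rfl
      intro k _
      rw [Finset.sum_eq_single l]
      · rw [Pi.single_eq_same, mul_one]
      · intro l' _ hl'
        rw [Pi.single_eq_of_ne hl', mul_zero]
      · intro h
        exact absurd (Finset.mem_univ _) h
    obtain ⟨B, hB⟩ := hAu.exists_right_inv
    have := congrArg (fun x => x ᵥ* B) h1
    simp only [Matrix.vecMul_vecMul, hB, Matrix.vecMul_one, Matrix.zero_vecMul] at this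
    exact this
  obtain ⟨e, he⟩ := exists_orthonormal hσ n (Fin n → F) (hform σ A) (isHerm_hform hσ2 hA) hnd
    (by rw [Module.finrank_fintype_fun_eq_card, Fintype.card_fin])
  refine ⟨Matrix.of e, ?_⟩
  ext i j
  rw [Matrix.mul_apply, Matrix.one_apply, ← he i j]
  unfold hform
  simp only [Matrix.mul_apply, Finset.sum_mul]
  rw [Finset.sum_comm]
  rfl

end

end Cfsg.Agent.Lib.Helper5.PSLCoset
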