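import Mathlib

set_option autoImplicit false

/-!
Alternating bilinear forms on finite-dimensional vector spaces: symplectic bases, and the parity
of the rank.
-/

namespace Cfsg.Agent.Lib.Helper5.AltForm

open Module

universe u v

variable {F : Type u} [Field F] {V : Type v} [AddCommGroup V] [Module F V]

/-- A family of hyperbolic pairs for a bilinear form. -/
structure AltFam (B : LinearMap.BilinForm F V) {k : ℕ} (e f : Fin k → V) : Prop where
  ee : ∀ i j, B (e i) (e j) = 0
  ff : ∀ i j, B (f i) (f j) = 0
  ef : ∀ i j, B (e i) (f j) = if i = j then 1 else 0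

variable {B : LinearMap.BilinForm F V}

theorem alt_swap (hB : B.IsAlt) (x y : V) : B x y = -B y x := hB.neg_eq x y ▸ (neg_neg _).symm

theorem AltFam.fe (hB : B.IsAlt) {k : ℕ} {e f : Fin k → V} (h : AltFam B e f) (i j : Fin k) :
    B (f i) (e j) = if i = j then -1 else 0 := by
  rw [alt_swap hB, h.ef]
  by_cases hij : i = j
  · rw [if_pos hij, if_pos hij.symm]
  · rw [if_neg hij, if_neg (Ne.symm hij), neg_zero]

theorem sum_left {ι : Type*} (s : Finset ι) (c : ι → F) (g : ι → V) (y : V) :
    B (∑ i ∈ s, c i • g i) y = ∑ i ∈ s, c i * B (g i) y := by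
  rw [map_sum, LinearMap.sum_apply]
  refine Finset.sum_congr rfl fun i _ => ?_
  rw [map_smul, LinearMap.smul_apply, smul_eq_mul]

theorem sum_right {ι : Type*} (s : Finset ι) (c : ι → F) (g : ι → V) (y : V) :
    B y (∑ i ∈ s, c i • g i) = ∑ i ∈ s, c i * B y (g i) := by
  rw [map_sum]
  refine Finset.sum_congr rfl fun i _ => ?_
  rw [map_smul, smul_eq_mul]

theorem AltFam.linearIndependent (hB : B.IsAlt) {k : ℕ} {e f : Fin k → V} (h : AltFam B e f) :
    LinearIndependent F (Sum.elim e f) := by
  classical
  rw [Fintype.linearIndependent_iff]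
  intro c hc
  rw [Fintype.sum_sum_type] at hc
  simp only [Sum.elim_inl, Sum.elim_inr] at hc
  have ha : ∀ j, c (Sum.inl j) = 0 := by
    intro j
    have h1 := congrArg (fun x => B x (f j)) hc
    simp only [map_add, LinearMap.add_apply, sum_left, map_zero, LinearMap.zero_apply] at h1
    rw [Finset.sum_eq_single j, h.ef, if_pos rfl, mul_one, Finset.sum_eq_zero, add_zero] at h1
    · exact h1
    · intro i _; rw [h.ff, mul_zero]
    · intro i _ hij; rw [h.ef, if_neg hij, mul_zero]
    · intro hj; exact absurd (Finset.mem_univ _) hj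
  have hb : ∀ j, c (Sum.inr j) = 0 := by
    intro j
    have h1 := congrArg (fun x => B x (e j)) hc
    simp only [map_add, LinearMap.add_apply, sum_left, map_zero, LinearMap.zero_apply] at h1
    rw [Finset.sum_eq_zero, zero_add, Finset.sum_eq_single j, h.fe hB, if_pos rfl] at h1
    · have : c (Sum.inr j) = 0 := by
        have := h1
        rw [mul_neg, mul_one, neg_eq_zero] at this
        exact this
      exact this
    · intro i _ hij; rw [h.fe hB, if_neg hij, mul_zero]
    · intro hj; exact absurd (Finset.mem_univ _) hj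
    · intro i _; rw [h.ee, mul_zero]
  rintro (i | i)
  · exact ha i
  · exact hb i

theorem AltFam.two_mul_le (hB : B.IsAlt) [FiniteDimensional F V] {k : ℕ} {e f : Fin k → V}
    (h : AltFam B e f) : 2 * k ≤ finrank F V := by
  have := (h.linearIndependent hB).fintype_card_le_finrank
  rw [Fintype.card_sum, Fintype.card_fin] at this
  omega

/-- Extending a family of hyperbolic pairs. -/
theorem AltFam.extend (hB : B.IsAlt) (hnd : ∀ x, (∀ y, B x y = 0) → x = 0)
    [FiniteDimensional F V] {k : ℕ} {e f : Fin k → V} (h : AltFam B e f)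
    (hk : 2 * k < finrank F V) :
    ∃ (e' f' : Fin (k + 1) → V), AltFam B e' f' := by
  classical
  -- the orthogonal complement is nonzero
  let φ : V →ₗ[F] (Fin k ⊕ Fin k → F) :=
    LinearMap.pi fun s => Sum.elim (fun i => B (e i)) (fun i => B (f i)) s
  have hφ : finrank F (Fin k ⊕ Fin k → F) < finrank F V := by
    rw [Module.finrank_pi, Fintype.card_sum, Fintype.card_fin]
    omega
  have hker := LinearMap.ker_ne_bot_of_finrank_lt (f := φ) hφ
  obtain ⟨x, hx, hx0⟩ := Submodule.exists_mem_ne_zero_of_ne_bot hker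
  have hxe : ∀ i, B (e i) x = 0 := by
    intro i
    have := congrFun (LinearMap.mem_ker.1 hx) (Sum.inl i)
    exact this
  have hxf : ∀ i, B (f i) x = 0 := by
    intro i
    have := congrFun (LinearMap.mem_ker.1 hx) (Sum.inr i)
    exact this
  have hxe' : ∀ i, B x (e i) = 0 := fun i => by rw [alt_swap hB, hxe, neg_zero]
  have hxf' : ∀ i, B x (f i) = 0 := fun i => by rw [alt_swap hB, hxf, neg_zero]
  obtain ⟨y, hy⟩ : ∃ y, B x y ≠ 0 := by
    by_contra hcon
    push Not at hcon
    exact hx0 (hnd x hcon)
  -- project y to the orthogonal complement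
  set y' : V := y - ∑ i, B (e i) y • f i + ∑ i, B (f i) y • e i with hy'
  have hey' : ∀ j, B (e j) y' = 0 := by
    intro j
    rw [hy', map_add, map_sub, sum_right, sum_right, Finset.sum_eq_single j, h.ef, if_pos rfl,
      mul_one, Finset.sum_eq_zero, add_zero, sub_self]
    · intro i _; rw [h.ee, mul_zero]
    · intro i _ hij; rw [h.ef, if_neg (Ne.symm hij), mul_zero]
    · intro hj; exact absurd (Finset.mem_univ _) hj
  have hfy' : ∀ j, B (f j) y' = 0 := by
    intro j
    rw [hy', map_add, map_sub, sum_right, sum_right, Finset.sum_eq_zero, sub_zero,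
      Finset.sum_eq_single j, h.fe hB, if_pos rfl]
    · ring
    · intro i _ hij; rw [h.fe hB, if_neg (Ne.symm hij), mul_zero]
    · intro hj; exact absurd (Finset.mem_univ _) hj
    · intro i _; rw [h.ff, mul_zero]
  have hxy' : B x y' = B x y := by
    rw [hy', map_add, map_sub, sum_right, sum_right, Finset.sum_eq_zero, Finset.sum_eq_zero,
      sub_zero, add_zero]
    · intro i _; rw [hxe', mul_zero]
    · intro i _; rw [hxf', mul_zero]
  set c : F := B x y with hc
  refine ⟨Fin.snoc e x, Fin.snoc f (c⁻¹ • y'), ?_⟩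
  have hey'' : ∀ j, B y' (e j) = 0 := fun j => by rw [alt_swap hB, hey', neg_zero]
  have hfy'' : ∀ j, B y' (f j) = 0 := fun j => by rw [alt_swap hB, hfy', neg_zero]
  constructor
  · intro i j
    refine Fin.lastCases ?_ (fun i' => ?_) i <;> refine Fin.lastCases ?_ (fun j' => ?_) j
    · simp only [Fin.snoc_last]; exact hB x
    · simp only [Fin.snoc_last, Fin.snoc_castSucc]; exact hxe' j'
    · simp only [Fin.snoc_last, Fin.snoc_castSucc]; exact hxe i'
    · simp only [Fin.snoc_castSucc]; exact h.ee i' j'
  · intro i j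
    refine Fin.lastCases ?_ (fun i' => ?_) i <;> refine Fin.lastCases ?_ (fun j' => ?_) j
    · simp only [Fin.snoc_last]; exact hB _
    · simp only [Fin.snoc_last, Fin.snoc_castSucc]
      rw [map_smul, LinearMap.smul_apply, hfy'', smul_zero]
    · simp only [Fin.snoc_last, Fin.snoc_castSucc]
      rw [map_smul, hfy', smul_zero]
    · simp only [Fin.snoc_castSucc]; exact h.ff i' j'
  · intro i j
    refine Fin.lastCases ?_ (fun i' => ?_) i <;> refine Fin.lastCases ?_ (fun j' => ?_) j
    · simp only [Fin.snoc_last]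
      rw [map_smul, hxy', if_pos trivial, smul_eq_mul, inv_mul_cancel₀ hy]
    · simp only [Fin.snoc_last, Fin.snoc_castSucc]
      rw [hxf', if_neg]
      exact (Fin.castSucc_lt_last j').ne'
    · simp only [Fin.snoc_last, Fin.snoc_castSucc]
      rw [map_smul, hey', smul_zero, if_neg]
      exact (Fin.castSucc_lt_last i').ne
    · simp only [Fin.snoc_castSucc]
      rw [h.ef]
      simp only [Fin.castSucc_inj]

/-- A nondegenerate alternating form has a maximal family of hyperbolic pairs filling the space. -/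
theorem exists_altFam (hB : B.IsAlt) (hnd : ∀ x, (∀ y, B x y = 0) → x = 0)
    [FiniteDimensional F V] :
    ∃ (k : ℕ) (e f : Fin k → V), AltFam B e f ∧ 2 * k = finrank F V := by
  have key : ∀ k : ℕ, 2 * k ≤ finrank F V → ∃ (e f : Fin k → V), AltFam B e f := by
    intro k
    induction k with
    | zero =>
      intro _
      exact ⟨Fin.elim0, Fin.elim0, ⟨fun i => i.elim0, fun i => i.elim0, fun i => i.elim0⟩⟩
    | succ k ih =>
      intro hk
      obtain ⟨e, f, h⟩ := ih (by omega)
      exact h.extend hB hnd (by omega)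
  rcases Nat.even_or_odd' (finrank F V) with ⟨k, hk | hk⟩
  · obtain ⟨e, f, h⟩ := key k (by omega)
    exact ⟨k, e, f, h, hk.symm⟩
  · exfalso
    obtain ⟨e, f, h⟩ := key k (by omega)
    obtain ⟨e', f', h'⟩ := h.extend hB hnd (by omega)
    have := h'.two_mul_le hB
    omega

theorem even_finrank_of_nondegenerate (hB : B.IsAlt) (hnd : ∀ x, (∀ y, B x y = 0) → x = 0)
    [FiniteDimensional F V] : Even (finrank F V) := by
  obtain ⟨k, -, -, -, hk⟩ := exists_altFam hB hnd
  exact ⟨k, by omega⟩

/-- A symplectic basis: the Gram matrix is the standard matrix `J`. -/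
theorem exists_symplectic_basis (hB : B.IsAlt) (hnd : ∀ x, (∀ y, B x y = 0) → x = 0)
    [FiniteDimensional F V] :
    ∃ (m : ℕ) (b : Basis (Fin m ⊕ Fin m) F V), 2 * m = finrank F V ∧
      ∀ x y, B (b x) (b y) = Matrix.J (Fin m) F x y := by
  classical
  obtain ⟨k, e, f, h, hk⟩ := exists_altFam hB hnd
  have hli : LinearIndependent F (Sum.elim f e) := by
    have := h.linearIndependent hB
    have h2 : Sum.elim f e = Sum.elim e f ∘ Sum.swap := by
      funext s
      rcases s with i | i <;> rfl
    rw [h2]
    exact this.comp _ Sum.swap_leftInverse.injective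
  have hcard : Fintype.card (Fin k ⊕ Fin k) = finrank F V := by
    rw [Fintype.card_sum, Fintype.card_fin]
    omega
  have hspan : ⊤ ≤ Submodule.span F (Set.range (Sum.elim f e)) := by
    rw [hli.span_eq_top_of_card_eq_finrank' hcard]
  refine ⟨k, Basis.mk hli hspan, hk, ?_⟩
  intro x y
  rw [Basis.coe_mk]
  rcases x with i | i <;> rcases y with j | j
  · simp only [Sum.elim_inl, Matrix.J, Matrix.fromBlocks_apply₁₁, Matrix.zero_apply]
    exact h.ff i j
  · simp only [Sum.elim_inl, Sum.elim_inr, Matrix.J, Matrix.fromBlocks_apply₁₂, Matrix.neg_apply,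
      Matrix.one_apply]
    rw [h.fe hB]
    by_cases hij : i = j
    · rw [if_pos hij, if_pos hij]
    · rw [if_neg hij, if_neg hij, neg_zero]
  · simp only [Sum.elim_inl, Sum.elim_inr, Matrix.J, Matrix.fromBlocks_apply₂₁, Matrix.one_apply]
    exact h.ef i j
  · simp only [Sum.elim_inr, Matrix.J, Matrix.fromBlocks_apply₂₂, Matrix.zero_apply]
    exact h.ee i j

/-- The rank of an alternating form is even. -/
theorem even_finrank_sub_ker (hB : B.IsAlt) [FiniteDimensional F V] :
    Even (finrank F V - finrank F (LinearMap.ker B)) := by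
  obtain ⟨C, hC⟩ := Submodule.exists_isCompl (LinearMap.ker B)
  have hdim : finrank F (LinearMap.ker B) + finrank F C = finrank F V :=
    Submodule.finrank_add_eq_of_isCompl hC
  have hBC : (B.restrict C).IsAlt := fun x => hB x
  have hnd : ∀ x : C, (∀ y : C, B.restrict C x y = 0) → x = 0 := by
    intro x hx
    have hxk : (x : V) ∈ LinearMap.ker B := by
      rw [LinearMap.mem_ker]
      ext y
      have hy : y ∈ LinearMap.ker B ⊔ C := by rw [hC.sup_eq_top]; trivial
      obtain ⟨y₁, hy₁, y₂, hy₂, rfl⟩ := Submodule.mem_sup.1 hy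
      rw [map_add, LinearMap.zero_apply]
      have h1 : B (x : V) y₁ = 0 := by
        rw [alt_swap hB, LinearMap.mem_ker.1 hy₁, LinearMap.zero_apply, neg_zero]
      have h2 : B (x : V) y₂ = 0 := hx ⟨y₂, hy₂⟩
      rw [h1, h2, add_zero]
    have : (x : V) ∈ LinearMap.ker B ⊓ C := ⟨hxk, x.2⟩
    rw [hC.inf_eq_bot, Submodule.mem_bot] at this
    exact Subtype.ext this
  have := even_finrank_of_nondegenerate hBC hnd
  have h2 : finrank F V - finrank F (LinearMap.ker B) = finrank F C := by omega
  rw [h2]
  exact this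

end Cfsg.Agent.Lib.Helper5.AltForm
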