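import Mathlib
import Cfsg.Agent.Lib.Helper5.AltForm
import Cfsg.Agent.Lib.Helper1.SpCard

set_option autoImplicit false

/-!
A group acting faithfully on a space with a nondegenerate alternating form embeds in the
standard symplectic group.
-/

namespace Cfsg.Agent.Lib.Helper5.AltForm

open Module Matrix

universe u v

variable {F : Type u} [Field F] {W : Type v} [AddCommGroup W] [Module F W]

theorem form_eq_sympForm {n : ℕ} (B : LinearMap.BilinForm F W) (b : Basis (Fin n ⊕ Fin n) F W)
    (hb : ∀ x y, B (b x) (b y) = Matrix.J (Fin n) F x y) (u v : W) :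
    B u v = Cfsg.sympForm n F (b.repr u) (b.repr v) := by
  rw [LinearMap.BilinForm.apply_eq_dotProduct_toMatrix_mulVec b B u v]
  have : LinearMap.BilinForm.toMatrix b B = Matrix.J (Fin n) F := by
    ext x y
    rw [LinearMap.BilinForm.toMatrix_apply, hb]
  rw [this]
  rfl

theorem exists_hom_symplectic [FiniteDimensional F W] {G : Type*} [Group G]
    (B : LinearMap.BilinForm F W) (hB : B.IsAlt) (hnd : ∀ x, (∀ y, B x y = 0) → x = 0)
    (n : ℕ) (hn : finrank F W = 2 * n) (ρ : G →* Module.End F W) (hρ : Function.Injective ρ)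
    (hpres : ∀ g u v, B (ρ g u) (ρ g v) = B u v) :
    ∃ φ : G →* Matrix.symplecticGroup (Fin n) F, Function.Injective φ := by
  classical
  obtain ⟨m, b, hm, hb⟩ := exists_symplectic_basis hB hnd
  obtain rfl : m = n := by omega
  have hmem : ∀ g, LinearMap.toMatrix b b (ρ g) ∈ Matrix.symplecticGroup (Fin m) F := by
    intro g
    rw [Cfsg.Agent.Lib.Helper1.SpCard.mem_symplectic_iff_form]
    intro x y
    have hx : x = b.repr (b.repr.symm (Finsupp.equivFunOnFinite.symm x)) := by simp
    have hy : y = b.repr (b.repr.symm (Finsupp.equivFunOnFinite.symm y)) := by simp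
    set u := b.repr.symm (Finsupp.equivFunOnFinite.symm x) with hu
    set v := b.repr.symm (Finsupp.equivFunOnFinite.symm y) with hv
    rw [hx, hy, LinearMap.toMatrix_mulVec_repr, LinearMap.toMatrix_mulVec_repr,
      ← form_eq_sympForm B b hb, ← form_eq_sympForm B b hb, hpres]
  refine ⟨{ toFun := fun g => ⟨LinearMap.toMatrix b b (ρ g), hmem g⟩
            map_one' := ?_
            map_mul' := ?_ }, ?_⟩
  · apply Subtype.ext
    show LinearMap.toMatrix b b (ρ 1) = 1
    rw [map_one, Module.End.one_eq_id, LinearMap.toMatrix_id]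
  · intro g h
    apply Subtype.ext
    show LinearMap.toMatrix b b (ρ (g * h)) = LinearMap.toMatrix b b (ρ g) * LinearMap.toMatrix b b (ρ h)
    rw [map_mul, LinearMap.toMatrix_mul]
  · intro g h hgh
    apply hρ
    have h1 : LinearMap.toMatrix b b (ρ g) = LinearMap.toMatrix b b (ρ h) :=
      congrArg Subtype.val hgh
    exact (LinearMap.toMatrix b b).injective h1

end Cfsg.Agent.Lib.Helper5.AltForm
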