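import Mathlib

namespace Cfsg.Agent.Lib.Helper5.SylTor

open Polynomial

section NT

variable {q r : ℕ} [hr : Fact r.Prime]

theorem natCast_ne_zero (hrq : ¬ r ∣ q) : (q : ZMod r) ≠ 0 := by
  intro h
  exact hrq ((ZMod.natCast_eq_zero_iff _ _).1 h)

theorem ord_pos (hrq : ¬ r ∣ q) : 0 < orderOf (q : ZMod r) := by
  have h := ZMod.pow_card_sub_one_eq_one (natCast_ne_zero hrq)
  refine orderOf_pos_iff.2 (isOfFinOrder_iff_pow_eq_one.2 ⟨r - 1, ?_, h⟩)
  have := hr.out.two_le
  omega

theorem dvd_pow_sub_one_iff (hq : 0 < q) (j : ℕ) :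
    r ∣ q ^ j - 1 ↔ orderOf (q : ZMod r) ∣ j := by
  have h1 : 1 ≤ q ^ j := Nat.one_le_pow _ _ hq
  rw [orderOf_dvd_iff_pow_eq_one, ← ZMod.natCast_eq_zero_iff, Nat.cast_sub h1, sub_eq_zero]
  simp

theorem int_dvd_pow_sub_one_iff (hq : 0 < q) (j : ℕ) :
    (r : ℤ) ∣ (q : ℤ) ^ j - 1 ↔ orderOf (q : ZMod r) ∣ j := by
  rw [← dvd_pow_sub_one_iff hq j]
  have h1 : 1 ≤ q ^ j := Nat.one_le_pow _ _ hq
  have : ((q : ℤ) ^ j - 1) = ((q ^ j - 1 : ℕ) : ℤ) := by
    rw [Nat.cast_sub h1]; simp
  rw [this, Int.natCast_dvd_natCast]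

/-- the `r`-adic valuation of `q ^ d - 1` is that of `Φ_d(q)`, `d` the order of `q` mod `r`. -/
theorem val_cyclotomic (hq : 0 < q) (hrq : ¬ r ∣ q) :
    padicValNat r (q ^ orderOf (q : ZMod r) - 1) =
      padicValNat r ((cyclotomic (orderOf (q : ZMod r)) ℤ).eval (q : ℤ)).natAbs := by
  set d := orderOf (q : ZMod r) with hd
  have hd0 : 0 < d := ord_pos hrq
  have h1 : 1 ≤ q ^ d := Nat.one_le_pow _ _ hq
  have hfac : ((q : ℤ) ^ d - 1) = (cyclotomic d ℤ).eval (q : ℤ) *
      ∏ e ∈ d.properDivisors, (cyclotomic e ℤ).eval (q : ℤ) := by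
    have h := prod_cyclotomic_eq_X_pow_sub_one hd0 ℤ
    rw [← Nat.insert_self_properDivisors hd0.ne', Finset.prod_insert Nat.self_notMem_properDivisors] at h
    have h2 := congrArg (eval (q : ℤ)) h
    rw [eval_mul, eval_prod] at h2
    simpa using h2.symm
  have hprod : ¬ (r : ℤ) ∣ ∏ e ∈ d.properDivisors, (cyclotomic e ℤ).eval (q : ℤ) := by
    have hp : Prime (r : ℤ) := Nat.prime_iff_prime_int.1 hr.out
    rw [hp.dvd_finsetProd_iff]
    rintro ⟨e, he, hdvd⟩
    rw [Nat.mem_properDivisors] at he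
    have h3 : (cyclotomic e ℤ).eval (q : ℤ) ∣ (q : ℤ) ^ e - 1 := by
      have := eval_dvd (x := (q : ℤ)) (cyclotomic.dvd_X_pow_sub_one e ℤ)
      simpa using this
    have h4 := (int_dvd_pow_sub_one_iff hq e).1 (hdvd.trans h3)
    have he0 : 0 < e := Nat.pos_of_dvd_of_pos he.1 hd0
    exact absurd (Nat.le_of_dvd he0 h4) (by omega)
  have hne : ((q : ℤ) ^ d - 1) ≠ 0 ∨ True := Or.inr trivial
  have hnat : ((q ^ d - 1 : ℕ) : ℤ) = (q : ℤ) ^ d - 1 := by
    rw [Nat.cast_sub h1]; simp
  have hA : padicValInt r ((q : ℤ) ^ d - 1) = padicValNat r (q ^ d - 1) := by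
    rw [← hnat, padicValInt.of_nat]
  rw [← hA, hfac]
  by_cases hz : (cyclotomic d ℤ).eval (q : ℤ) = 0
  · rw [hz]; simp
  have hz2 : (∏ e ∈ d.properDivisors, (cyclotomic e ℤ).eval (q : ℤ)) ≠ 0 := by
    intro h0; rw [h0] at hprod; exact hprod (dvd_zero _)
  rw [padicValInt.mul hz hz2, padicValInt.eq_zero_of_not_dvd hprod, add_zero]
  rfl

/-- geometric factor: for `x ≡ 1 (mod r)` and `0 < k < r`, `v_r (x^k - 1) = v_r (x - 1)`. -/
theorem val_pow_sub_one_of_lt {x k : ℕ} (hx : 1 < x) (hx1 : r ∣ x - 1) (hk : 0 < k) (hkr : k < r) :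
    padicValNat r (x ^ k - 1) = padicValNat r (x - 1) := by
  have hmul : x ^ k - 1 = (x - 1) * ∑ i ∈ Finset.range k, x ^ i := by
    have h1 : 1 ≤ x ^ k := Nat.one_le_pow _ _ (by omega)
    zify [h1, hx.le]
    rw [mul_geom_sum]
  have hxz : (x : ZMod r) = 1 := by
    have := (ZMod.natCast_eq_zero_iff _ _).2 hx1
    rw [Nat.cast_sub hx.le, sub_eq_zero] at this
    simpa using this
  have hsum : ¬ r ∣ ∑ i ∈ Finset.range k, x ^ i := by
    rw [← ZMod.natCast_eq_zero_iff]
    push_cast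
    rw [hxz]
    simp only [one_pow, Finset.sum_const, Finset.card_range, nsmul_eq_mul, mul_one]
    rw [ZMod.natCast_eq_zero_iff]
    intro h
    exact absurd (Nat.le_of_dvd hk h) (by omega)
  have h0 : x - 1 ≠ 0 := by omega
  have h0' : (∑ i ∈ Finset.range k, x ^ i) ≠ 0 := by
    intro h; rw [h] at hsum; exact hsum (dvd_zero _)
  rw [hmul, padicValNat.mul h0 h0', padicValNat.eq_zero_of_not_dvd hsum, add_zero]

/-- valuation of `q^j - 1` for `0 < j < r`. -/
theorem val_pow_sub_one (hq : 1 < q) (hrq : ¬ r ∣ q) {j : ℕ} (hj : 0 < j) (hjr : j < r) :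
    padicValNat r (q ^ j - 1) = if orderOf (q : ZMod r) ∣ j then
      padicValNat r ((cyclotomic (orderOf (q : ZMod r)) ℤ).eval (q : ℤ)).natAbs else 0 := by
  have hq0 : 0 < q := by omega
  split_ifs with h
  · obtain ⟨k, rfl⟩ := h
    have hd0 : 0 < orderOf (q : ZMod r) := ord_pos hrq
    have hk0 : 0 < k := Nat.pos_of_mul_pos_left hj
    have hkr : k < r := lt_of_le_of_lt (Nat.le_mul_of_pos_left k hd0) hjr
    rw [pow_mul, val_pow_sub_one_of_lt (Nat.one_lt_pow hd0.ne' hq)
      ((dvd_pow_sub_one_iff hq0 _).2 dvd_rfl) hk0 hkr, val_cyclotomic hq0 hrq]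
  · exact padicValNat.eq_zero_of_not_dvd (fun h' => h ((dvd_pow_sub_one_iff hq0 j).1 h'))

/-- the `r`-part of `|GL_n(q)|` for `n < r`. -/
theorem val_card_GL (hq : 1 < q) (hrq : ¬ r ∣ q) {n : ℕ} (hnr : n < r) :
    (∏ i : Fin n, (q ^ n - q ^ (i : ℕ))).factorization r =
      (n / orderOf (q : ZMod r)) *
        padicValNat r ((cyclotomic (orderOf (q : ZMod r)) ℤ).eval (q : ℤ)).natAbs := by
  have hq0 : 0 < q := by omega
  set v := padicValNat r ((cyclotomic (orderOf (q : ZMod r)) ℤ).eval (q : ℤ)).natAbs with hv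
  have hne : ∀ i ∈ (Finset.univ : Finset (Fin n)), q ^ n - q ^ (i : ℕ) ≠ 0 := by
    intro i _
    have : q ^ (i : ℕ) < q ^ n := Nat.pow_lt_pow_right hq i.2
    omega
  rw [Nat.factorization_prod hne, Finsupp.finsetSum_apply]
  have hterm : ∀ i : Fin n, (q ^ n - q ^ (i : ℕ)).factorization r =
      if orderOf (q : ZMod r) ∣ (n - i) then v else 0 := by
    intro i
    have hi : (i : ℕ) < n := i.2
    have e1 : q ^ n - q ^ (i : ℕ) = q ^ (i : ℕ) * (q ^ (n - i) - 1) := by
      rw [Nat.mul_sub, mul_one, ← pow_add]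
      congr 2; omega
    have hne1 : q ^ (i : ℕ) ≠ 0 := (pow_pos hq0 _).ne'
    have hne2 : q ^ (n - i) - 1 ≠ 0 := by
      have : 1 < q ^ (n - (i : ℕ)) := Nat.one_lt_pow (by omega) hq
      omega
    rw [e1, Nat.factorization_mul hne1 hne2, Finsupp.add_apply, Nat.factorization_def _ hr.out,
      Nat.factorization_def _ hr.out,
      padicValNat.eq_zero_of_not_dvd (fun h => hrq (hr.out.dvd_of_dvd_pow h)), zero_add,
      val_pow_sub_one hq hrq (by omega) (by omega)]
  rw [Finset.sum_congr rfl (fun i _ => hterm i)]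
  rw [Fin.sum_univ_eq_sum_range (fun i => if orderOf (q : ZMod r) ∣ (n - i) then v else 0) n]
  rw [← Finset.sum_range_reflect]
  have : ∀ j ∈ Finset.range n, (if orderOf (q : ZMod r) ∣ (n - (n - 1 - j)) then v else 0) =
      if orderOf (q : ZMod r) ∣ (j + 1) then v else 0 := by
    intro j hj
    rw [Finset.mem_range] at hj
    have : n - (n - 1 - j) = j + 1 := by omega
    rw [this]
  rw [Finset.sum_congr rfl this, Finset.sum_ite, Finset.sum_const_zero, add_zero, Finset.sum_const,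
    smul_eq_mul]
  congr 1
  rw [← Nat.Ioc_filter_dvd_card_eq_div]
  apply Finset.card_bij (fun j _ => j + 1)
  · intro j hj
    simp only [Finset.mem_filter, Finset.mem_range, Finset.mem_Ioc] at hj ⊢
    exact ⟨⟨by omega, by omega⟩, hj.2⟩
  · intro a _ b _ h; omega
  · intro b hb
    simp only [Finset.mem_filter, Finset.mem_range, Finset.mem_Ioc] at hb ⊢
    exact ⟨b - 1, ⟨by omega, by rw [Nat.sub_add_cancel (by omega)]; exact hb.2⟩, by omega⟩

end NT

section Syl

/-- An injective hom from a group of order the full `r`-part identifies every Sylow `r`-subgroup. -/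
theorem sylow_equiv_of_injective {G A : Type*} [Group G] [Finite G] [Group A] {r : ℕ} [Fact r.Prime]
    (φ : A →* G) (hφ : Function.Injective φ)
    (hcard : Nat.card A = r ^ (Nat.card G).factorization r) (P : Sylow r G) :
    Nonempty (↥(P : Subgroup G) ≃* A) := by
  have h1 : Nat.card φ.range = r ^ (Nat.card G).factorization r := by
    rw [← hcard]
    exact Nat.card_congr (MonoidHom.ofInjective hφ).toEquiv.symm
  let Q : Sylow r G := Sylow.ofCard φ.range h1
  have e1 : ↥(P : Subgroup G) ≃* ↥(Q : Subgroup G) := Sylow.equiv P Q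
  have e2 : ↥(Q : Subgroup G) ≃* φ.range := MulEquiv.subgroupCongr (Sylow.coe_ofCard _ h1)
  exact ⟨(e1.trans e2).trans (MonoidHom.ofInjective hφ).symm⟩

/-- injective hom from `Z/m` into a finite cyclic group of order divisible by `m`. -/
theorem exists_zmod_hom {C : Type*} [Group C] [Finite C] [IsCyclic C] {m : ℕ} (hm : m ∣ Nat.card C) :
    ∃ ψ : Multiplicative (ZMod m) →* C, Function.Injective ψ := by
  obtain ⟨g, hg⟩ := IsCyclic.exists_ofOrder_eq_natCard (α := C)
  have hN : 0 < Nat.card C := Nat.card_pos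
  have hm0 : 0 < m := Nat.pos_of_dvd_of_pos hm hN
  obtain ⟨k, hk⟩ := hm
  have hk0 : k ≠ 0 := by rintro rfl; omega
  have hord : orderOf (g ^ k) = m := by
    rw [orderOf_pow_of_dvd hk0 (by rw [hg, hk]; exact dvd_mul_left _ _), hg, hk]
    exact Nat.mul_div_cancel _ (Nat.pos_of_ne_zero hk0)
  set h := g ^ k with hh
  have hgen : ∀ x : Subgroup.zpowers h, x ∈ Subgroup.zpowers (⟨h, Subgroup.mem_zpowers h⟩ : Subgroup.zpowers h) := by
    rintro ⟨x, hx⟩
    obtain ⟨i, rfl⟩ := Subgroup.mem_zpowers_iff.1 hx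
    exact Subgroup.mem_zpowers_iff.2 ⟨i, by ext; simp⟩
  have hcard : Nat.card (Subgroup.zpowers h) = m := by rw [Nat.card_zpowers, hord]
  let e := zmodMulEquivOfGenerator hgen hcard
  exact ⟨(Subgroup.zpowers h).subtype.comp e.toMonoidHom,
    (Subgroup.subtype_injective _).comp e.injective⟩

end Syl

section Torus

/-- componentwise multiplication on the first factor of `K^a × F^b`, as `F`-linear maps. -/
noncomputable def rho (F K : Type*) [Field F] [Field K] [Algebra F K] (a b : ℕ) :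
    (Fin a → K) →* Module.End F ((Fin a → K) × (Fin b → F)) where
  toFun c := LinearMap.prodMap (LinearMap.mulLeft F c) LinearMap.id
  map_one' := by
    refine LinearMap.ext fun ⟨x, y⟩ => ?_
    simp
  map_mul' c c' := by
    refine LinearMap.ext fun ⟨x, y⟩ => ?_
    simp

theorem rho_injective (F K : Type*) [Field F] [Field K] [Algebra F K] (a b : ℕ) :
    Function.Injective (rho F K a b) := by
  intro c c' h
  have := congrArg (fun f => (f ((1 : Fin a → K), (0 : Fin b → F))).1) h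
  simpa [rho] using this

theorem exists_torus_hom {F : Type*} [Field F] [Fintype F] (n d : ℕ) (hd : 0 < d) {m : ℕ}
    (hm : m ∣ Fintype.card F ^ d - 1) :
    ∃ φ : (Fin (n / d) → Multiplicative (ZMod m)) →* GL (Fin n) F, Function.Injective φ := by
  classical
  obtain ⟨p, hp⟩ := CharP.exists F
  have : Fact p.Prime := ⟨CharP.char_is_prime F p⟩
  have : NeZero d := ⟨hd.ne'⟩
  let K := FiniteField.Extension F p d
  have : Fintype K := Fintype.ofFinite K
  have hKcard : Nat.card K = Fintype.card F ^ d := by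
    rw [FiniteField.natCard_extension, Nat.card_eq_fintype_card]
  have hunits : Nat.card Kˣ = Fintype.card F ^ d - 1 := by
    rw [Nat.card_units, hKcard]
  obtain ⟨ψ, hψ⟩ := exists_zmod_hom (C := Kˣ) (m := m) (by rw [hunits]; exact hm)
  set a := n / d with ha
  set b := n % d with hb
  have hfin : Module.finrank F ((Fin a → K) × (Fin b → F)) = n := by
    rw [Module.finrank_prod, Module.finrank_pi_fintype, Module.finrank_fin_fun]
    simp only [Finset.sum_const, Finset.card_univ, Fintype.card_fin, smul_eq_mul]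
    rw [FiniteField.finrank_extension, ha, hb]
    exact Nat.div_add_mod' n d
  let bas := Module.finBasisOfFinrankEq F ((Fin a → K) × (Fin b → F)) hfin
  let e1 : (Module.End F ((Fin a → K) × (Fin b → F)))ˣ ≃* GL (Fin n) F :=
    Units.mapEquiv (LinearMap.toMatrixAlgEquiv bas).toMulEquiv
  let f1 : (Fin a → Kˣ) →* GL (Fin n) F :=
    e1.toMonoidHom.comp ((Units.map (rho F K a b)).comp MulEquiv.piUnits.symm.toMonoidHom)
  have hf1 : Function.Injective f1 := by
    refine e1.injective.comp ((Units.map_injective (rho_injective F K a b)).comp ?_)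
    exact MulEquiv.piUnits.symm.injective
  let f2 : (Fin a → Multiplicative (ZMod m)) →* (Fin a → Kˣ) :=
    MonoidHom.pi fun i => ψ.comp (Pi.evalMonoidHom _ i)
  have hf2 : Function.Injective f2 := by
    intro x y h
    funext i
    exact hψ (congrFun h i)
  exact ⟨f1.comp f2, hf1.comp hf2⟩

end Torus

end Cfsg.Agent.Lib.Helper5.SylTor
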