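import Mathlib

/-!
A semisimple endomorphism commuting with a nonzero nilpotent one has a repeated irreducible factor:
dimension bounds for the primary components.
-/

set_option autoImplicit false

namespace Cfsg.Agent.Lib.Helper5.CommUnip

open Polynomial Module LinearMap

variable {F : Type*} [Field F] {V : Type*} [AddCommGroup V] [Module F V]

theorem aeval_restrict (b : End F V) (U : Submodule F V) (hU : ∀ x ∈ U, b x ∈ U) (p : F[X]) (x : U) :
    ((aeval (b.restrict hU) p) x : V) = aeval b p x.1 := by
  induction p using Polynomial.induction_on' with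
  | add p q hp hq => simp [hp, hq]
  | monomial n a =>
    rw [aeval_monomial, aeval_monomial, Module.End.pow_restrict]
    simp [Module.algebraMap_end_apply]

theorem aeval_mem (b : End F V) (U : Submodule F V) (hU : ∀ x ∈ U, b x ∈ U) (p : F[X]) (x : V)
    (hx : x ∈ U) : aeval b p x ∈ U := by
  have := aeval_restrict b U hU p ⟨x, hx⟩
  rw [← this]
  exact Submodule.coe_mem _

variable [FiniteDimensional F V]

/-- a nonzero `b`-stable subspace killed by an irreducible `f(b)` has dimension at least `deg f`. -/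
theorem natDegree_le_finrank (b : End F V) (f : F[X]) (hf : Irreducible f) (U : Submodule F V)
    (hU : ∀ x ∈ U, b x ∈ U) (hfU : U ≤ ker (aeval b f)) (hne : U ≠ ⊥) :
    f.natDegree ≤ finrank F U := by
  have hnt : Nontrivial U := Submodule.nontrivial_iff_ne_bot.2 hne
  set bU := b.restrict hU with hbU
  have h0 : aeval bU f = 0 := by
    ext x
    rw [aeval_restrict]
    have := hfU x.2
    rw [LinearMap.mem_ker] at this
    rw [this]; rfl
  have hdvd : minpoly F bU ∣ f := minpoly.dvd F bU h0
  have hnu : ¬ IsUnit (minpoly F bU) := minpoly.not_isUnit F bU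
  have hassoc : Associated (minpoly F bU) f := by
    obtain ⟨c, hc⟩ := hdvd
    rcases hf.isUnit_or_isUnit hc with h | h
    · exact absurd h hnu
    · exact ⟨h.unit, by rw [hc]; rfl⟩
  have hdeg : f.natDegree = (minpoly F bU).natDegree := (natDegree_eq_of_degree_eq (degree_eq_degree_of_associated hassoc)).symm
  rw [hdeg]
  have h1 : (minpoly F bU).natDegree ≤ bU.charpoly.natDegree :=
    natDegree_le_of_dvd (LinearMap.minpoly_dvd_charpoly bU) (LinearMap.charpoly_monic bU).ne_zero
  rwa [LinearMap.charpoly_natDegree] at h1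

/-- if a nilpotent `N` commuting with `b` does not vanish on `ker f(b)`, `f` irreducible, then this kernel
has dimension at least `2 deg f`. -/
theorem two_mul_natDegree_le_finrank_ker (b N : End F V) (hc : Commute b N) (hN : IsNilpotent N)
    (f : F[X]) (hf : Irreducible f) (hne : ∃ x ∈ ker (aeval b f), N x ≠ 0) :
    2 * f.natDegree ≤ finrank F (ker (aeval b f)) := by
  classical
  set W := ker (aeval b f) with hW
  have hcf : Commute (aeval b f) N := by
    have : ∀ p : F[X], Commute (aeval b p) N := by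
      intro p
      induction p using Polynomial.induction_on' with
      | add p q hp hq => rw [map_add]; exact hp.add_left hq
      | monomial n a =>
        rw [aeval_monomial]
        exact (Algebra.commute_algebraMap_left _ _).mul_left (hc.pow_left n)
    exact this f
  have hcfb : Commute (aeval b f) b := by
    have h1 : Commute (aeval b f) (aeval b X) := (Polynomial.commute_X f).symm.map (aeval b)
    rwa [aeval_X] at h1
  have hNW : ∀ x ∈ W, N x ∈ W := by
    intro x hx
    rw [hW, LinearMap.mem_ker] at hx ⊢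
    have := congrFun (congrArg DFunLike.coe hcf.eq) x
    simp only [Module.End.mul_apply] at this
    rw [this, hx, map_zero]
  have hbW : ∀ x ∈ W, b x ∈ W := by
    intro x hx
    rw [hW, LinearMap.mem_ker] at hx ⊢
    have := congrFun (congrArg DFunLike.coe hcfb.eq) x
    simp only [Module.End.mul_apply] at this
    rw [this, hx, map_zero]
  have hNjW : ∀ j : ℕ, ∀ x ∈ W, (N ^ j) x ∈ W := by
    intro j
    induction j with
    | zero => intro x hx; simpa using hx
    | succ j ih =>
      intro x hx
      rw [pow_succ', Module.End.mul_apply]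
      exact hNW _ (ih x hx)
  obtain ⟨e, he⟩ := hN
  have hex : ∃ j, ∀ x ∈ W, (N ^ j) x = 0 := ⟨e, fun x _ => by rw [he]; rfl⟩
  set e₀ := Nat.find hex with he₀
  have he₀spec : ∀ x ∈ W, (N ^ e₀) x = 0 := Nat.find_spec hex
  obtain ⟨x₀, hx₀W, hx₀⟩ := hne
  have he₀2 : 2 ≤ e₀ := by
    by_contra hlt
    have : e₀ = 0 ∨ e₀ = 1 := by omega
    rcases this with h | h
    · have := he₀spec x₀ hx₀W
      rw [h, pow_zero, Module.End.one_apply] at this
      rw [this, map_zero] at hx₀
      exact hx₀ rfl
    · have := he₀spec x₀ hx₀W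
      rw [h, pow_one] at this
      exact hx₀ this
  set m := e₀ - 1 with hm
  have hm1 : 1 ≤ m := by omega
  have hmlt : m < e₀ := by omega
  have hmin := Nat.find_min hex hmlt
  push Not at hmin
  obtain ⟨x₁, hx₁W, hx₁⟩ := hmin
  set U := W.map (N ^ m) with hU
  have hUne : U ≠ ⊥ := by
    intro h
    have : (N ^ m) x₁ ∈ U := Submodule.mem_map_of_mem hx₁W
    rw [h, Submodule.mem_bot] at this
    exact hx₁ this
  have hUW : U ≤ W := by
    rintro _ ⟨w, hw, rfl⟩
    exact hNjW m w hw
  have hUb : ∀ x ∈ U, b x ∈ U := by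
    rintro _ ⟨w, hw, rfl⟩
    refine ⟨b w, hbW w hw, ?_⟩
    have := congrFun (congrArg DFunLike.coe (hc.pow_right m).eq) w
    simp only [Module.End.mul_apply] at this
    exact this.symm
  have hUker : ∀ u ∈ U, (N ^ m) u = 0 := by
    rintro _ ⟨w, hw, rfl⟩
    rw [← Module.End.mul_apply, ← pow_add]
    have : m + m = e₀ + (m - 1) := by omega
    rw [this, pow_add, Module.End.mul_apply]
    exact he₀spec _ (hNjW _ w hw)
  have hdegU := natDegree_le_finrank b f hf U hUb (hUW.trans (le_of_eq hW)) hUne
  -- rank-nullity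
  set φ : W →ₗ[F] V := (N ^ m).domRestrict W with hφ
  have hrange : LinearMap.range φ = U := by
    rw [hφ, LinearMap.range_domRestrict]
  have hrn := LinearMap.finrank_range_add_finrank_ker φ
  have hle : finrank F U ≤ finrank F (LinearMap.ker φ) := by
    have h1 : finrank F (U.comap W.subtype) = finrank F U :=
      LinearEquiv.finrank_eq (Submodule.comapSubtypeEquivOfLe hUW)
    rw [← h1]
    apply Submodule.finrank_mono
    intro w hw
    rw [Submodule.mem_comap] at hw
    rw [LinearMap.mem_ker]
    exact hUker _ hw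
  rw [hrange] at hrn
  omega

omit [FiniteDimensional F V] in
theorem ker_aeval_prod (b : End F V) (S : Finset F[X])
    (hS : (S : Set F[X]).Pairwise IsCoprime) :
    ker (aeval b (∏ g ∈ S, g)) = ⨆ g ∈ S, ker (aeval b g) := by
  classical
  induction S using Finset.induction_on with
  | empty =>
    simp only [Finset.prod_empty, map_one, Finset.notMem_empty, iSup_false, iSup_bot]
    exact LinearMap.ker_eq_bot.2 (fun x y h => h)
  | insert g S hg ih =>
    rw [Finset.prod_insert hg, Finset.iSup_insert]
    have hS' : (S : Set F[X]).Pairwise IsCoprime := hS.mono (by simp)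
    have hcop : IsCoprime g (∏ g' ∈ S, g') := by
      apply IsCoprime.prod_right
      intro g' hg'
      exact hS (by simp) (by simp [hg']) (fun h => hg (h ▸ hg'))
    rw [← ih hS', Polynomial.sup_ker_aeval_eq_ker_aeval_mul_of_coprime b hcop]

theorem finrank_ker_aeval_prod (b : End F V) (S : Finset F[X])
    (hS : (S : Set F[X]).Pairwise IsCoprime) :
    finrank F (ker (aeval b (∏ g ∈ S, g))) = ∑ g ∈ S, finrank F (ker (aeval b g)) := by
  classical
  induction S using Finset.induction_on with
  | empty =>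
    rw [Finset.sum_empty]
    have : ker (aeval b (∏ g ∈ (∅ : Finset F[X]), g)) = ⊥ := by
      rw [Finset.prod_empty, map_one]
      exact LinearMap.ker_eq_bot.2 (fun x y h => h)
    rw [this, finrank_bot]
  | insert g S hg ih =>
    rw [Finset.prod_insert hg, Finset.sum_insert hg]
    have hS' : (S : Set F[X]).Pairwise IsCoprime := hS.mono (by simp)
    have hcop : IsCoprime g (∏ g' ∈ S, g') := by
      apply IsCoprime.prod_right
      intro g' hg'
      exact hS (by simp) (by simp [hg']) (fun h => hg (h ▸ hg'))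
    rw [← ih hS', ← Polynomial.sup_ker_aeval_eq_ker_aeval_mul_of_coprime b hcop]
    have h1 := Submodule.finrank_sup_add_finrank_inf_eq (ker (aeval b g)) (ker (aeval b (∏ g' ∈ S, g')))
    have h2 : ker (aeval b g) ⊓ ker (aeval b (∏ g' ∈ S, g')) = ⊥ :=
      (Polynomial.disjoint_ker_aeval_of_isCoprime b hcop).eq_bot
    rw [h2, finrank_bot, add_zero] at h1
    exact h1

/-- the kernels of pairwise coprime polynomials in `b` are independent. -/
theorem sum_finrank_ker_le (b : End F V) (S : Finset F[X])
    (hS : (S : Set F[X]).Pairwise IsCoprime) :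
    ∑ g ∈ S, finrank F (ker (aeval b g)) ≤ finrank F V := by
  rw [← finrank_ker_aeval_prod b S hS]
  exact Submodule.finrank_le _

theorem ker_aeval_ne_bot_of_dvd_minpoly (b : End F V) (g : F[X]) (hg : ¬ IsUnit g)
    (hdvd : g ∣ minpoly F b) : ker (aeval b g) ≠ ⊥ := by
  intro hker
  obtain ⟨h, hh⟩ := hdvd
  have hμ0 : minpoly F b ≠ 0 := minpoly.ne_zero (Algebra.IsIntegral.isIntegral b)
  have hh0 : h ≠ 0 := by
    rintro rfl
    rw [mul_zero] at hh
    exact hμ0 hh
  have h1 : aeval b g * aeval b h = 0 := by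
    rw [← map_mul, ← hh, minpoly.aeval]
  have h2 : aeval b h = 0 := by
    ext x
    have := congrFun (congrArg DFunLike.coe h1) x
    simp only [Module.End.mul_apply, LinearMap.zero_apply] at this
    have hx : aeval b h x ∈ ker (aeval b g) := this
    rw [hker, Submodule.mem_bot] at hx
    rw [hx]; rfl
  have h3 : minpoly F b ∣ h := minpoly.dvd F b h2
  have h4 : (minpoly F b).natDegree ≤ h.natDegree := natDegree_le_of_dvd h3 hh0
  have hg0 : g ≠ 0 := by
    rintro rfl
    rw [zero_mul] at hh
    exact hμ0 hh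
  rw [hh, natDegree_mul hg0 hh0] at h4
  have : g.natDegree = 0 := by omega
  exact hg (by
    rw [natDegree_eq_zero] at this
    obtain ⟨c, rfl⟩ := this
    have hc : c ≠ 0 := by
      rintro rfl
      exact hg0 (by simp)
    exact isUnit_C.2 (isUnit_iff_ne_zero.2 hc))

/-- a nonzero map commuting with a semisimple `b` is nonzero on some primary component. -/
theorem exists_irreducible_ne_zero_on_ker (b N : End F V) (hN0 : N ≠ 0)
    (hsq : Squarefree (minpoly F b)) :
    ∃ f : F[X], Irreducible f ∧ f.Monic ∧ f ∣ minpoly F b ∧ ∃ x ∈ ker (aeval b f), N x ≠ 0 := by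
  classical
  set μ := minpoly F b with hμ
  have hμ0 : μ ≠ 0 := minpoly.ne_zero (Algebra.IsIntegral.isIntegral b)
  set M := UniqueFactorizationMonoid.normalizedFactors μ with hM
  have hnd : M.Nodup := (UniqueFactorizationMonoid.squarefree_iff_nodup_normalizedFactors hμ0).1 hsq
  set S : Finset F[X] := ⟨M, hnd⟩ with hS
  have hprod : ∏ g ∈ S, g = M.prod := by
    rw [Finset.prod_eq_multiset_prod]
    simp [hS]
  have hassoc : Associated M.prod μ := UniqueFactorizationMonoid.prod_normalizedFactors hμ0
  have hmem : ∀ g ∈ S, Irreducible g ∧ g.Monic ∧ g ∣ μ := by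
    intro g hg
    have hg' : g ∈ M := hg
    refine ⟨UniqueFactorizationMonoid.irreducible_of_normalized_factor g hg', ?_,
      UniqueFactorizationMonoid.dvd_of_mem_normalizedFactors hg'⟩
    have := UniqueFactorizationMonoid.normalize_normalized_factor g hg'
    exact (Polynomial.monic_normalize (UniqueFactorizationMonoid.irreducible_of_normalized_factor g hg').ne_zero) |> (this ▸ ·)
  have hpair : (S : Set F[X]).Pairwise IsCoprime := by
    intro g hg g' hg' hne
    have h1 := hmem g hg
    have h2 := hmem g' hg'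
    rw [h1.1.coprime_iff_not_dvd]
    intro hdvd
    have := h1.1.associated_of_dvd h2.1 hdvd
    exact hne (eq_of_monic_of_associated h1.2.1 h2.2.1 this)
  have htop : ker (aeval b (∏ g ∈ S, g)) = ⊤ := by
    rw [hprod]
    have : μ ∣ M.prod := hassoc.symm.dvd
    obtain ⟨c, hc⟩ := this
    rw [hc, map_mul, hμ, minpoly.aeval, zero_mul]
    exact LinearMap.ker_zero
  rw [ker_aeval_prod b S hpair] at htop
  by_contra hcon
  push Not at hcon
  apply hN0
  have hle : (⨆ g ∈ S, ker (aeval b g)) ≤ ker N := by
    apply iSup₂_le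
    intro g hg x hx
    obtain ⟨h1, h2, h3⟩ := hmem g hg
    exact hcon g h1 h2 h3 x hx
  rw [htop, top_le_iff] at hle
  exact LinearMap.ker_eq_top.1 hle

/-- Key lemma: if a nonzero nilpotent `N` commutes with a semisimple `b`, then some irreducible factor `f` of
the minimal polynomial of `b` occurs twice: for every finite set `S` of distinct irreducible factors containing
`f`, `deg f + ∑_{g ∈ S} deg g ≤ dim V`. -/
theorem key (b N : End F V) (hc : Commute b N) (hN : IsNilpotent N) (hN0 : N ≠ 0)
    (hsq : Squarefree (minpoly F b)) :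
    ∃ f : F[X], Irreducible f ∧ f.Monic ∧ f ∣ minpoly F b ∧
      ∀ S : Finset F[X], (S : Set F[X]).Pairwise IsCoprime →
        (∀ g ∈ S, Irreducible g ∧ g ∣ minpoly F b) → f ∈ S →
        f.natDegree + ∑ g ∈ S, g.natDegree ≤ finrank F V := by
  classical
  obtain ⟨f, hf, hfm, hfd, hx⟩ := exists_irreducible_ne_zero_on_ker b N hN0 hsq
  refine ⟨f, hf, hfm, hfd, ?_⟩
  intro S hS hSirr hfS
  have h2 := two_mul_natDegree_le_finrank_ker b N hc hN f hf hx
  have h3 := sum_finrank_ker_le b S hS
  have h4 : ∀ g ∈ S, g.natDegree ≤ finrank F (ker (aeval b g)) := by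
    intro g hg
    obtain ⟨hgi, hgd⟩ := hSirr g hg
    have hne := ker_aeval_ne_bot_of_dvd_minpoly b g hgi.not_isUnit hgd
    refine natDegree_le_finrank b g hgi _ ?_ le_rfl hne
    intro x hx
    rw [LinearMap.mem_ker] at hx ⊢
    have h1 : Commute (aeval b g) (aeval b X) := (Polynomial.commute_X g).symm.map (aeval b)
    rw [aeval_X] at h1
    have := congrFun (congrArg DFunLike.coe h1.eq) x
    simp only [Module.End.mul_apply] at this
    rw [this, hx, map_zero]
  rw [← Finset.add_sum_erase S _ hfS] at h3 ⊢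
  have h5 : ∑ g ∈ S.erase f, g.natDegree ≤ ∑ g ∈ S.erase f, finrank F (ker (aeval b g)) :=
    Finset.sum_le_sum (fun g hg => h4 g (Finset.mem_of_mem_erase hg))
  omega

/-- matrix form of `key`. -/
theorem key_matrix {n : ℕ} (b N : Matrix (Fin n) (Fin n) F) (hc : Commute b N) (hN : IsNilpotent N)
    (hN0 : N ≠ 0) (hsq : Squarefree (minpoly F b)) :
    ∃ f : F[X], Irreducible f ∧ f.Monic ∧ f ∣ minpoly F b ∧
      ∀ S : Finset F[X], (S : Set F[X]).Pairwise IsCoprime →
        (∀ g ∈ S, Irreducible g ∧ g ∣ minpoly F b) → f ∈ S →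
        f.natDegree + ∑ g ∈ S, g.natDegree ≤ n := by
  have e := Matrix.toLinAlgEquiv' (R := F) (n := Fin n)
  have hmin : minpoly F (Matrix.toLin' b) = minpoly F b := Matrix.minpoly_toLin' b
  have hc' : Commute (Matrix.toLin' b) (Matrix.toLin' N) := by
    show Matrix.toLin' b * Matrix.toLin' N = Matrix.toLin' N * Matrix.toLin' b
    rw [Module.End.mul_eq_comp, Module.End.mul_eq_comp, ← Matrix.toLin'_mul, ← Matrix.toLin'_mul, hc.eq]
  have hN' : IsNilpotent (Matrix.toLin' N) := by
    obtain ⟨k, hk⟩ := hN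
    refine ⟨k, ?_⟩
    rw [← Matrix.toLin'_pow, hk, map_zero]
  have hN0' : Matrix.toLin' N ≠ 0 := by
    intro h
    apply hN0
    exact Matrix.toLin'.injective (by rw [h, map_zero])
  obtain ⟨f, h1, h2, h3, h4⟩ := key (Matrix.toLin' b) (Matrix.toLin' N) hc' hN' hN0' (by rwa [hmin])
  refine ⟨f, h1, h2, by rwa [← hmin], ?_⟩
  intro S hS hSi hfS
  have := h4 S hS (fun g hg => by rw [hmin]; exact hSi g hg) hfS
  rwa [Module.finrank_pi, Fintype.card_fin] at this

/-- determinant of a map acting as scalars on two complementary subspaces. -/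
theorem det_of_isCompl (φ : End F V) (V₁ V₂ : Submodule F V) (h : IsCompl V₁ V₂) (a₁ a₂ : F)
    (h₁ : ∀ x ∈ V₁, φ x = a₁ • x) (h₂ : ∀ x ∈ V₂, φ x = a₂ • x) :
    LinearMap.det φ = a₁ ^ finrank F V₁ * a₂ ^ finrank F V₂ := by
  set e := Submodule.prodEquivOfIsCompl V₁ V₂ h with he
  set ψ : End F (V₁ × V₂) := (a₁ • (LinearMap.id : V₁ →ₗ[F] V₁)).prodMap (a₂ • (LinearMap.id : V₂ →ₗ[F] V₂)) with hψ
  have hconj : φ = (e : (V₁ × V₂) →ₗ[F] V) ∘ₗ ψ ∘ₗ (e.symm : V →ₗ[F] (V₁ × V₂)) := by
    apply LinearMap.ext
    intro v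
    obtain ⟨⟨x₁, x₂⟩, rfl⟩ := e.surjective v
    simp only [LinearMap.coe_comp, LinearEquiv.coe_coe, Function.comp_apply, LinearEquiv.symm_apply_apply]
    rw [hψ, LinearMap.prodMap_apply, he, Submodule.coe_prodEquivOfIsCompl', Submodule.coe_prodEquivOfIsCompl']
    simp only [LinearMap.smul_apply, LinearMap.id_apply, Submodule.coe_smul]
    rw [map_add, h₁ _ x₁.2, h₂ _ x₂.2]
  rw [hconj, LinearMap.det_conj, hψ, LinearMap.det_prodMap, LinearMap.det_smul, LinearMap.det_smul,
    LinearMap.det_id, LinearMap.det_id, mul_one, mul_one]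

end Cfsg.Agent.Lib.Helper5.CommUnip
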