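import Mathlib
import Cfsg.Agent.Lib.Helper5.SylTor1

/-! Tools for prime graphs of linear groups: irreducible factors of minimal polynomials of
elements of order prime to the characteristic, and two-block tori. -/

namespace Cfsg.Agent.Lib.Helper5.PrimeGraph

open Polynomial

section factor
variable {F : Type*} [Field F]

/-- If `h ^ m = 1` with `m` invertible in `F` and `h ^ t ≠ 1`, some irreducible factor of the
minimal polynomial of `h` does not divide `X ^ t - 1`. -/
theorem exists_irreducible_factor_not_dvd {n : ℕ} (h : Matrix (Fin n) (Fin n) F) (m t : ℕ)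
    (hmF : (m : F) ≠ 0) (h1 : h ^ m = 1) (h2 : h ^ t ≠ 1) :
    ∃ f : F[X], Irreducible f ∧ f ∣ minpoly F h ∧ f ∣ X ^ m - C 1 ∧ ¬ f ∣ X ^ t - C 1 := by
  classical
  set μ := minpoly F h with hμ
  have hμ0 : μ ≠ 0 := minpoly.ne_zero (Matrix.isIntegral h)
  have hsep : (X ^ m - C (1 : F)).Separable := separable_X_pow_sub_C 1 hmF one_ne_zero
  have hdvd : μ ∣ X ^ m - C (1 : F) := by
    apply minpoly.dvd
    simp [h1]
  have hsq : Squarefree μ := hsep.squarefree.squarefree_of_dvd hdvd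
  set P : F[X] := X ^ t - C 1 with hP
  have hnP : ¬ μ ∣ P := by
    intro hd
    have := (minpoly.dvd_iff (A := F) (x := h) (p := P)).1 hd
    simp [hP, sub_eq_zero] at this
    exact h2 this
  by_contra hcon
  push Not at hcon
  apply hnP
  obtain ⟨μ', hμ'⟩ := EuclideanDomain.gcd_dvd_left μ P
  have hμ'0 : μ' ≠ 0 := by
    rintro rfl
    rw [mul_zero] at hμ'
    exact hμ0 hμ'
  by_cases hu : IsUnit μ'
  · have : μ ∣ EuclideanDomain.gcd μ P := by
      obtain ⟨u, rfl⟩ := hu
      exact ⟨↑u⁻¹, ((Units.mul_inv_eq_iff_eq_mul u).2 hμ').symm⟩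
    exact this.trans (EuclideanDomain.gcd_dvd_right μ P)
  · exfalso
    obtain ⟨f, hf, hfd⟩ := WfDvdMonoid.exists_irreducible_factor hu hμ'0
    have hfμ : f ∣ μ := by rw [hμ']; exact hfd.mul_left _
    have hfP := hcon f hf hfμ (hfμ.trans hdvd)
    have hfg : f ∣ EuclideanDomain.gcd μ P := EuclideanDomain.dvd_gcd hfμ hfP
    have : f * f ∣ μ := by rw [hμ']; exact mul_dvd_mul hfg hfd
    exact hf.not_isUnit (hsq f this)

theorem natDegree_minpoly_le {n : ℕ} (h : Matrix (Fin n) (Fin n) F) :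
    (minpoly F h).natDegree ≤ n := by
  have h4 : (minpoly F h).natDegree ≤ h.charpoly.natDegree :=
    natDegree_le_of_dvd (Matrix.minpoly_dvd_charpoly h) (Matrix.charpoly_monic h).ne_zero
  rwa [Matrix.charpoly_natDegree_eq_dim, Fintype.card_fin] at h4

/-- for an irreducible `f`, divisibility of `X^j - 1` is a statement about the root. -/
theorem dvd_X_pow_sub_one_iff (f : F[X]) (j : ℕ) :
    f ∣ X ^ j - C 1 ↔ (AdjoinRoot.root f) ^ j = 1 := by
  rw [← AdjoinRoot.mk_eq_zero]
  simp [sub_eq_zero]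

end factor

section finite
variable {F : Type*} [Field F] [Fintype F]

/-- the root of an irreducible factor of `X^m - 1` has order dividing `q^deg - 1`. -/
theorem root_pow_card_sub_one (f : F[X]) (hf : Irreducible f) {m : ℕ} (hm : 0 < m)
    (hfm : f ∣ X ^ m - C 1) : (AdjoinRoot.root f) ^ (Fintype.card F ^ f.natDegree - 1) = 1 := by
  classical
  have := Fact.mk hf
  have hf0 : f ≠ 0 := hf.ne_zero
  have hx1 : (AdjoinRoot.root f) ^ m = 1 := (dvd_X_pow_sub_one_iff f m).1 hfm
  have hfin : Module.Finite F (AdjoinRoot f) := (AdjoinRoot.powerBasis hf0).finite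
  have : Finite (AdjoinRoot f) := Module.finite_of_finite F
  have : Fintype (AdjoinRoot f) := Fintype.ofFinite _
  have hcard : Fintype.card (AdjoinRoot f) = Fintype.card F ^ f.natDegree := by
    rw [Module.card_eq_pow_finrank (K := F) (V := AdjoinRoot f),
      (AdjoinRoot.powerBasis hf0).finrank, AdjoinRoot.powerBasis_dim]
  have hx0 : AdjoinRoot.root f ≠ 0 := by
    intro h0
    rw [h0, zero_pow hm.ne'] at hx1
    exact zero_ne_one hx1
  have hx3 := FiniteField.pow_card_sub_one_eq_one (AdjoinRoot.root f) hx0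
  rwa [hcard] at hx3

/-- if the root of `f` has `f ∣ X^(m) - 1` but `f ∤ X^t - 1` with `m = t * s`, `s` prime, then
`s ∣ q^deg f - 1`. -/
theorem prime_dvd_of_not_dvd (f : F[X]) (hf : Irreducible f) {t s : ℕ} (hs : s.Prime) (ht : 0 < t)
    (hfm : f ∣ X ^ (t * s) - C 1) (hft : ¬ f ∣ X ^ t - C 1) :
    s ∣ Fintype.card F ^ f.natDegree - 1 := by
  have h1 : (AdjoinRoot.root f) ^ (t * s) = 1 := (dvd_X_pow_sub_one_iff f _).1 hfm
  have h2 : ¬ (AdjoinRoot.root f) ^ t = 1 := fun h => hft ((dvd_X_pow_sub_one_iff f _).2 h)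
  have h3 := root_pow_card_sub_one f hf (Nat.mul_pos ht hs.pos) hfm
  set o := orderOf (AdjoinRoot.root f) with ho
  have ho1 : o ∣ t * s := orderOf_dvd_of_pow_eq_one h1
  have ho2 : ¬ o ∣ t := fun h => h2 (orderOf_dvd_iff_pow_eq_one.1 h)
  have ho3 : o ∣ Fintype.card F ^ f.natDegree - 1 := orderOf_dvd_of_pow_eq_one h3
  have hso : s ∣ o := by
    by_contra hcon
    have hcop : Nat.Coprime o s := (Nat.Prime.coprime_iff_not_dvd hs).2 hcon |>.symm
    exact ho2 (hcop.dvd_of_dvd_mul_right ho1)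
  exact hso.trans ho3

end finite

section two_torus

/-- multiplication on the first two factors of `K₁ × K₂ × F^b`. -/
noncomputable def rho2 (F K₁ K₂ : Type*) [Field F] [Field K₁] [Field K₂] [Algebra F K₁]
    [Algebra F K₂] (b : ℕ) : K₁ × K₂ →* Module.End F (K₁ × K₂ × (Fin b → F)) where
  toFun c := LinearMap.prodMap (LinearMap.mulLeft F c.1)
    (LinearMap.prodMap (LinearMap.mulLeft F c.2) LinearMap.id)
  map_one' := by
    refine LinearMap.ext fun ⟨x, y, z⟩ => ?_
    simp
  map_mul' c c' := by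
    refine LinearMap.ext fun ⟨x, y, z⟩ => ?_
    simp

theorem rho2_injective (F K₁ K₂ : Type*) [Field F] [Field K₁] [Field K₂] [Algebra F K₁]
    [Algebra F K₂] (b : ℕ) : Function.Injective (rho2 F K₁ K₂ b) := by
  intro c c' h
  have h1 := congrArg (fun f => (f ((1 : K₁), (1 : K₂), (0 : Fin b → F))).1) h
  have h2 := congrArg (fun f => (f ((1 : K₁), (1 : K₂), (0 : Fin b → F))).2.1) h
  simp [rho2] at h1 h2
  exact Prod.ext h1 h2

/-- a product of two cyclic groups of orders dividing `q^k - 1`, `q^l - 1` inside `GL_n(F)`,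
`k + l ≤ n`. -/
theorem exists_two_torus_hom {F : Type*} [Field F] [Fintype F] (n k l : ℕ) (hk : 0 < k)
    (hl : 0 < l) (hkl : k + l ≤ n) {m₁ m₂ : ℕ} (hm₁ : m₁ ∣ Fintype.card F ^ k - 1)
    (hm₂ : m₂ ∣ Fintype.card F ^ l - 1) :
    ∃ φ : Multiplicative (ZMod m₁) × Multiplicative (ZMod m₂) →* GL (Fin n) F,
      Function.Injective φ := by
  classical
  obtain ⟨p, hp⟩ := CharP.exists F
  have : Fact p.Prime := ⟨CharP.char_is_prime F p⟩
  have : NeZero k := ⟨hk.ne'⟩
  have : NeZero l := ⟨hl.ne'⟩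
  let K₁ := FiniteField.Extension F p k
  let K₂ := FiniteField.Extension F p l
  have : Fintype K₁ := Fintype.ofFinite K₁
  have : Fintype K₂ := Fintype.ofFinite K₂
  have hu₁ : Nat.card K₁ˣ = Fintype.card F ^ k - 1 := by
    rw [Nat.card_units, FiniteField.natCard_extension, Nat.card_eq_fintype_card]
  have hu₂ : Nat.card K₂ˣ = Fintype.card F ^ l - 1 := by
    rw [Nat.card_units, FiniteField.natCard_extension, Nat.card_eq_fintype_card]
  obtain ⟨ψ₁, hψ₁⟩ := SylTor.exists_zmod_hom (C := K₁ˣ) (m := m₁) (by rw [hu₁]; exact hm₁)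
  obtain ⟨ψ₂, hψ₂⟩ := SylTor.exists_zmod_hom (C := K₂ˣ) (m := m₂) (by rw [hu₂]; exact hm₂)
  set b := n - (k + l) with hb
  have hfin : Module.finrank F (K₁ × K₂ × (Fin b → F)) = n := by
    rw [Module.finrank_prod, Module.finrank_prod, Module.finrank_fin_fun,
      FiniteField.finrank_extension, FiniteField.finrank_extension]
    omega
  let bas := Module.finBasisOfFinrankEq F (K₁ × K₂ × (Fin b → F)) hfin
  let e1 : (Module.End F (K₁ × K₂ × (Fin b → F)))ˣ ≃* GL (Fin n) F :=
    Units.mapEquiv (LinearMap.toMatrixAlgEquiv bas).toMulEquiv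
  let f1 : K₁ˣ × K₂ˣ →* GL (Fin n) F :=
    e1.toMonoidHom.comp ((Units.map (rho2 F K₁ K₂ b)).comp MulEquiv.prodUnits.symm.toMonoidHom)
  have hf1 : Function.Injective f1 := by
    refine e1.injective.comp ((Units.map_injective (rho2_injective F K₁ K₂ b)).comp ?_)
    exact MulEquiv.prodUnits.symm.injective
  let f2 : Multiplicative (ZMod m₁) × Multiplicative (ZMod m₂) →* K₁ˣ × K₂ˣ :=
    MonoidHom.prodMap ψ₁ ψ₂
  have hf2 : Function.Injective f2 := by
    intro x y h
    have h1 := congrArg Prod.fst h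
    have h2 := congrArg Prod.snd h
    exact Prod.ext (hψ₁ h1) (hψ₂ h2)
  exact ⟨f1.comp f2, hf1.comp hf2⟩

end two_torus

end Cfsg.Agent.Lib.Helper5.PrimeGraph
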