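import Mathlib
import Cfsg.Prelude
import Cfsg.Agent.Lib.Helper5.PrimeGraph1
import Cfsg.Agent.Lib.Helper5.SylTor1
import Cfsg.Agent.Lib.Helper5.CommUnip
import Cfsg.Agent.S0246

/-!
Prime graph tools, part 2: Frobenius conjugates of roots, general index matrices, symplectic
reciprocity of annihilating polynomials, lifting element orders from `PSp` to `Sp`.
-/

set_option autoImplicit false

namespace Cfsg.Agent.Lib.Helper5.PrimeGraph

open Polynomial

section galois
variable {F : Type*} [Field F] [Fintype F]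

/-- over a finite field, every root of an irreducible `g` in `AdjoinRoot g` is a Frobenius
conjugate of the canonical root. -/
theorem root_eq_pow (g : F[X]) [hg : Fact (Irreducible g)] (β : AdjoinRoot g)
    (hβ : aeval β g = 0) :
    ∃ i : ℕ, β = (AdjoinRoot.root g) ^ (Fintype.card F ^ i) := by
  classical
  have hf0 : g ≠ 0 := hg.out.ne_zero
  have hfin : Module.Finite F (AdjoinRoot g) := (AdjoinRoot.powerBasis hf0).finite
  have hfinite : Finite (AdjoinRoot g) := Module.finite_of_finite F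
  let τ : AdjoinRoot g →ₐ[F] AdjoinRoot g :=
    AdjoinRoot.liftAlgHom g (Algebra.ofId F (AdjoinRoot g)) β (by
      rw [← hβ]; rfl)
  obtain ⟨n, hn⟩ := (FiniteField.bijective_frobeniusAlgHom_pow F (AdjoinRoot g)).2 τ
  refine ⟨n.1, ?_⟩
  have h1 : τ (AdjoinRoot.root g) = β := AdjoinRoot.liftAlgHom_root _ _ _ _
  rw [← h1, ← hn]
  simp only [AlgHom.coe_pow, FiniteField.coe_frobeniusAlgHom, pow_iterate]

/-- if the inverse of the root of an irreducible `g` is again a root, the order of the root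
divides some `q^i + 1`. -/
theorem orderOf_root_dvd_pow_add_one (g : F[X]) [hg : Fact (Irreducible g)]
    (h0 : AdjoinRoot.root g ≠ 0) (hinv : aeval (AdjoinRoot.root g)⁻¹ g = 0) :
    ∃ i : ℕ, orderOf (AdjoinRoot.root g) ∣ Fintype.card F ^ i + 1 := by
  obtain ⟨i, hi⟩ := root_eq_pow g _ hinv
  refine ⟨i, orderOf_dvd_of_pow_eq_one ?_⟩
  rw [pow_succ, ← hi, inv_mul_cancel₀ h0]

/-- the order of `q` modulo a prime dividing the order of the root divides the degree. -/
theorem ord_dvd_natDegree (g : F[X]) (hg : Irreducible g) {m : ℕ} (hm : 0 < m)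
    (hgm : g ∣ X ^ m - C 1) {r : ℕ} (hr : r ∣ orderOf (AdjoinRoot.root g)) :
    orderOf ((Fintype.card F : ℕ) : ZMod r) ∣ g.natDegree := by
  have h3 := root_pow_card_sub_one g hg hm hgm
  have h4 : r ∣ Fintype.card F ^ g.natDegree - 1 := hr.trans (orderOf_dvd_of_pow_eq_one h3)
  have h1 : 1 ≤ Fintype.card F ^ g.natDegree := Nat.one_le_pow _ _ Fintype.card_pos
  rw [← ZMod.natCast_eq_zero_iff, Nat.cast_sub h1, sub_eq_zero] at h4
  rw [orderOf_dvd_iff_pow_eq_one]
  simpa using h4

end galois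

end Cfsg.Agent.Lib.Helper5.PrimeGraph

namespace Cfsg.Agent.Lib.Helper5.PrimeGraph

open Polynomial

section matrices
variable {F : Type*} [Field F] {ι : Type*} [Fintype ι] [DecidableEq ι]

/-- If `h ^ m = 1` with `m` invertible in `F` and `h ^ t ≠ 1`, some irreducible factor of the
minimal polynomial of `h` does not divide `X ^ t - 1` (any index type). -/
theorem exists_irreducible_factor_not_dvd' (h : Matrix ι ι F) (m t : ℕ)
    (hmF : (m : F) ≠ 0) (h1 : h ^ m = 1) (h2 : h ^ t ≠ 1) :
    ∃ f : F[X], Irreducible f ∧ f ∣ minpoly F h ∧ f ∣ X ^ m - C 1 ∧ ¬ f ∣ X ^ t - C 1 := by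
  classical
  set μ := minpoly F h with hμ
  have hμ0 : μ ≠ 0 := minpoly.ne_zero (Matrix.isIntegral h)
  have hsep : (X ^ m - C (1 : F)).Separable := separable_X_pow_sub_C 1 hmF one_ne_zero
  have hdvd : μ ∣ X ^ m - C (1 : F) := by
    apply minpoly.dvd
    simp [h1]
  have hsq : Squarefree μ := hsep.squarefree.squarefree_of_dvd hdvd
  set P : F[X] := X ^ t - C 1 with hP
  have hnP : ¬ μ ∣ P := by
    intro hd
    have := (minpoly.dvd_iff (A := F) (x := h) (p := P)).1 hd
    simp [hP, sub_eq_zero] at this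
    exact h2 this
  by_contra hcon
  push Not at hcon
  apply hnP
  obtain ⟨μ', hμ'⟩ := EuclideanDomain.gcd_dvd_left μ P
  have hμ'0 : μ' ≠ 0 := by
    rintro rfl
    rw [mul_zero] at hμ'
    exact hμ0 hμ'
  by_cases hu : IsUnit μ'
  · have : μ ∣ EuclideanDomain.gcd μ P := by
      obtain ⟨u, rfl⟩ := hu
      exact ⟨↑u⁻¹, ((Units.mul_inv_eq_iff_eq_mul u).2 hμ').symm⟩
    exact this.trans (EuclideanDomain.gcd_dvd_right μ P)
  · exfalso
    obtain ⟨f, hf, hfd⟩ := WfDvdMonoid.exists_irreducible_factor hu hμ'0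
    have hfμ : f ∣ μ := by rw [hμ']; exact hfd.mul_left _
    have hfP := hcon f hf hfμ (hfμ.trans hdvd)
    have hfg : f ∣ EuclideanDomain.gcd μ P := EuclideanDomain.dvd_gcd hfμ hfP
    have : f * f ∣ μ := by rw [hμ']; exact mul_dvd_mul hfg hfd
    exact hf.not_isUnit (hsq f this)

/-- matrix form of `CommUnip.key` for an arbitrary index type. -/
theorem key_matrix' (b N : Matrix ι ι F) (hc : Commute b N) (hN : IsNilpotent N)
    (hN0 : N ≠ 0) (hsq : Squarefree (minpoly F b)) :
    ∃ f : F[X], Irreducible f ∧ f.Monic ∧ f ∣ minpoly F b ∧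
      ∀ S : Finset F[X], (S : Set F[X]).Pairwise IsCoprime →
        (∀ g ∈ S, Irreducible g ∧ g ∣ minpoly F b) → f ∈ S →
        f.natDegree + ∑ g ∈ S, g.natDegree ≤ Fintype.card ι := by
  have hmin : minpoly F (Matrix.toLin' b) = minpoly F b := Matrix.minpoly_toLin' b
  have hc' : Commute (Matrix.toLin' b) (Matrix.toLin' N) := by
    show Matrix.toLin' b * Matrix.toLin' N = Matrix.toLin' N * Matrix.toLin' b
    rw [Module.End.mul_eq_comp, Module.End.mul_eq_comp, ← Matrix.toLin'_mul, ← Matrix.toLin'_mul, hc.eq]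
  have hN' : IsNilpotent (Matrix.toLin' N) := by
    obtain ⟨k, hk⟩ := hN
    refine ⟨k, ?_⟩
    rw [← Matrix.toLin'_pow, hk, map_zero]
  have hN0' : Matrix.toLin' N ≠ 0 := by
    intro h
    apply hN0
    exact Matrix.toLin'.injective (by rw [h, map_zero])
  obtain ⟨f, h1, h2, h3, h4⟩ := CommUnip.key (Matrix.toLin' b) (Matrix.toLin' N) hc' hN' hN0' (by rwa [hmin])
  refine ⟨f, h1, h2, by rwa [← hmin], ?_⟩
  intro S hS hSi hfS
  have := h4 S hS (fun g hg => by rw [hmin]; exact hSi g hg) hfS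
  rwa [Module.finrank_pi] at this

/-- pairwise coprime divisors of the minimal polynomial have total degree at most the size. -/
theorem sum_natDegree_le (b : Matrix ι ι F) (S : Finset F[X])
    (hS : (S : Set F[X]).Pairwise IsCoprime) (hd : ∀ g ∈ S, g ∣ minpoly F b) :
    ∑ g ∈ S, g.natDegree ≤ Fintype.card ι := by
  have hμ0 : minpoly F b ≠ 0 := minpoly.ne_zero (Matrix.isIntegral b)
  have h1 : ∏ g ∈ S, g ∣ minpoly F b := Finset.prod_dvd_of_coprime hS hd
  have h2 : (∏ g ∈ S, g).natDegree = ∑ g ∈ S, g.natDegree := by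
    apply natDegree_prod
    intro g hg h0
    subst h0
    exact hμ0 (zero_dvd_iff.1 (hd 0 hg))
  have h3 := natDegree_le_of_dvd (h1.trans (Matrix.minpoly_dvd_charpoly b)) (Matrix.charpoly_monic b).ne_zero
  rwa [h2, Matrix.charpoly_natDegree_eq_dim] at h3

end matrices

section symplectic
variable {F : Type*} [Field F] {l : Type*} [Fintype l] [DecidableEq l]

theorem conj_pow (U V M : Matrix l l F) (hVU : V * U = 1) (i : ℕ) :
    (U * M * V) ^ i = U * M ^ i * V := by
  induction i with
  | zero =>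
    rw [pow_zero, pow_zero, Matrix.mul_one]
    exact (mul_eq_one_comm.1 hVU).symm
  | succ i ih =>
    rw [pow_succ, ih, pow_succ]
    calc U * M ^ i * V * (U * M * V) = U * M ^ i * (V * U) * M * V := by
          simp only [Matrix.mul_assoc]
      _ = U * (M ^ i * M) * V := by rw [hVU, Matrix.mul_one, Matrix.mul_assoc U]

theorem aeval_conj_mul (U V M : Matrix l l F) (hVU : V * U = 1) (P : F[X]) :
    aeval (U * M * V) P = U * aeval M P * V := by
  rw [aeval_eq_sum_range, aeval_eq_sum_range, Finset.mul_sum, Finset.sum_mul]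
  refine Finset.sum_congr rfl fun i _ => ?_
  rw [conj_pow U V M hVU, Matrix.mul_smul, Matrix.smul_mul]

theorem aeval_transpose (M : Matrix l l F) (P : F[X]) :
    aeval M.transpose P = (aeval M P).transpose := by
  rw [aeval_eq_sum_range, aeval_eq_sum_range, Matrix.transpose_sum]
  refine Finset.sum_congr rfl fun i _ => ?_
  rw [Matrix.transpose_smul, Matrix.transpose_pow]

/-- a polynomial killing a symplectic matrix kills its inverse. -/
theorem aeval_symplectic_inv (a : Matrix.symplecticGroup l F) (P : F[X])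
    (h : aeval (a : Matrix (l ⊕ l) (l ⊕ l) F) P = 0) :
    aeval ((a⁻¹ : Matrix.symplecticGroup l F) : Matrix (l ⊕ l) (l ⊕ l) F) P = 0 := by
  rw [SymplecticGroup.coe_inv, aeval_conj_mul, aeval_transpose, h]
  · simp
  · rw [Matrix.mul_neg, Matrix.J_squared, neg_neg]

end symplectic

end Cfsg.Agent.Lib.Helper5.PrimeGraph

namespace Cfsg.Agent.Lib.Helper5.PrimeGraph

section lift
variable {F : Type*} [Field F] {n : ℕ}

theorem center_sq (hn : 1 ≤ n) (z : Matrix.symplecticGroup (Fin n) F)
    (hz : z ∈ Subgroup.center (Matrix.symplecticGroup (Fin n) F)) : z * z = 1 := by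
  rcases (Cfsg.Agent.S0246.mem_center_iff hn z).1 hz with rfl | rfl
  · rw [mul_one]
  · apply Subtype.ext
    show (-1 : Matrix (Fin n ⊕ Fin n) (Fin n ⊕ Fin n) F) * (-1) = 1
    simp

theorem center_eq_one_of_two_eq_zero (hn : 1 ≤ n) (h2 : (2 : F) = 0)
    (z : Matrix.symplecticGroup (Fin n) F)
    (hz : z ∈ Subgroup.center (Matrix.symplecticGroup (Fin n) F)) : z = 1 := by
  rcases (Cfsg.Agent.S0246.mem_center_iff hn z).1 hz with rfl | rfl
  · rfl
  · apply Subtype.ext
    show (-1 : Matrix (Fin n ⊕ Fin n) (Fin n ⊕ Fin n) F) = 1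
    have h1 : (-1 : F) = 1 := by linear_combination -h2
    ext i j
    simp [Matrix.one_apply]
    split_ifs <;> simp [h1]

/-- for odd `m` (or in characteristic 2), `PSp` has an element of order `m` iff `Sp` has. -/
theorem orderOf_mem_range_psp_iff (hn : 1 ≤ n) (m : ℕ) (hm : Odd m ∨ (2 : F) = 0) :
    m ∈ Set.range (orderOf : Cfsg.PSp n F → ℕ) ↔
      m ∈ Set.range (orderOf : Matrix.symplecticGroup (Fin n) F → ℕ) := by
  constructor
  · rintro ⟨g, hg⟩
    obtain ⟨x, rfl⟩ := QuotientGroup.mk_surjective g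
    have hxm : x ^ m ∈ Subgroup.center (Matrix.symplecticGroup (Fin n) F) := by
      rw [← QuotientGroup.eq_one_iff, QuotientGroup.mk_pow, ← hg, pow_orderOf_eq_one]
    have key : ∀ y : Matrix.symplecticGroup (Fin n) F,
        (QuotientGroup.mk y : Cfsg.PSp n F) = QuotientGroup.mk x → y ^ m = 1 → orderOf y = m := by
      intro y hy hym
      apply Nat.dvd_antisymm (orderOf_dvd_of_pow_eq_one hym)
      rw [← hg, ← hy]
      apply orderOf_dvd_of_pow_eq_one
      rw [← QuotientGroup.mk_pow, pow_orderOf_eq_one, QuotientGroup.mk_one]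
    rcases hm with hodd | h2
    · rcases (Cfsg.Agent.S0246.mem_center_iff hn _).1 hxm with h1 | h1
      · exact ⟨x, key x rfl h1⟩
      · refine ⟨Cfsg.Agent.S0246.negOne n F * x, key _ ?_ ?_⟩
        · rw [QuotientGroup.mk_mul, (QuotientGroup.eq_one_iff _).2 Cfsg.Agent.S0246.negOne_mem_center,
            one_mul]
        · have hc : Commute (Cfsg.Agent.S0246.negOne n F) x :=
            (Subgroup.mem_center_iff.1 Cfsg.Agent.S0246.negOne_mem_center x).symm
          rw [hc.mul_pow, h1]
          obtain ⟨t, rfl⟩ := hodd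
          have hsq : Cfsg.Agent.S0246.negOne n F ^ 2 = 1 := by
            rw [pow_two]; exact center_sq hn _ Cfsg.Agent.S0246.negOne_mem_center
          rw [pow_succ, pow_mul, hsq, one_pow, one_mul]
          exact center_sq hn _ Cfsg.Agent.S0246.negOne_mem_center
    · exact ⟨x, key x rfl (center_eq_one_of_two_eq_zero hn h2 _ hxm)⟩
  · rintro ⟨x, hx⟩
    refine ⟨QuotientGroup.mk x, ?_⟩
    apply Nat.dvd_antisymm
    · rw [← hx]
      apply orderOf_dvd_of_pow_eq_one
      rw [← QuotientGroup.mk_pow, pow_orderOf_eq_one, QuotientGroup.mk_one]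
    · set j := orderOf (QuotientGroup.mk x : Cfsg.PSp n F) with hj
      have h1 : x ^ j ∈ Subgroup.center (Matrix.symplecticGroup (Fin n) F) := by
        rw [← QuotientGroup.eq_one_iff, QuotientGroup.mk_pow, hj, pow_orderOf_eq_one]
      rcases hm with hodd | h2
      · have h2 : x ^ (2 * j) = 1 := by
          rw [mul_comm, pow_mul, pow_two]
          exact center_sq hn _ h1
        have h3 : m ∣ 2 * j := by rw [← hx]; exact orderOf_dvd_of_pow_eq_one h2
        exact (Nat.Coprime.dvd_of_dvd_mul_left (Nat.Coprime.symm (Nat.coprime_two_left.2 hodd)) h3)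
      · rw [← hx]
        exact orderOf_dvd_of_pow_eq_one (center_eq_one_of_two_eq_zero hn h2 _ h1)

end lift

end Cfsg.Agent.Lib.Helper5.PrimeGraph

namespace Cfsg.Agent.Lib.Helper5.PrimeGraph

open Polynomial

section star
variable {F : Type*} [Field F] [Fintype F] {l : Type*} [Fintype l] [DecidableEq l]

theorem monic_irreducible_dvd_X_sub_one {g : F[X]} (hg : Irreducible g) (hgm : g.Monic)
    (h : g ∣ X - C 1) : g = X - C 1 := by
  have hass : Associated g (X - C 1) := (hg.dvd_irreducible_iff_associated (irreducible_X_sub_C 1)).1 h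
  exact eq_of_monic_of_associated hgm (monic_X_sub_C 1) hass

/-- the "reciprocal" irreducible factor: for a symplectic matrix of finite order, with every
irreducible factor `g` of the minimal polynomial, the minimal polynomial of the inverse root
is again a factor. -/
theorem exists_star (b : Matrix.symplecticGroup l F) (m : ℕ) (hm : 0 < m) (hb : b ^ m = 1)
    (g : F[X]) (hg : Irreducible g) (hgm : g.Monic)
    (hgd : g ∣ minpoly F (b : Matrix (l ⊕ l) (l ⊕ l) F)) (hg1 : g ≠ X - C 1) :
    ∃ g' : F[X], Irreducible g' ∧ g'.Monic ∧ g' ∣ minpoly F (b : Matrix (l ⊕ l) (l ⊕ l) F) ∧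
      g' ≠ X - C 1 ∧ g' ∣ X ^ m - C 1 ∧
      (g' = g → ∃ i : ℕ, orderOf (AdjoinRoot.root g) ∣ Fintype.card F ^ i + 1) := by
  classical
  have := Fact.mk hg
  set B : Matrix (l ⊕ l) (l ⊕ l) F := (b : Matrix (l ⊕ l) (l ⊕ l) F) with hB
  set μ := minpoly F B with hμ
  set α := AdjoinRoot.root g with hα
  have hBm : B ^ m = 1 := by
    have := congrArg (fun y : Matrix.symplecticGroup l F => (y : Matrix (l ⊕ l) (l ⊕ l) F)) hb
    simpa using this
  have hμdvd : μ ∣ X ^ m - C 1 := by
    apply minpoly.dvd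
    rw [map_sub, map_pow, aeval_X, aeval_C, hBm, map_one, sub_self]
  have hαm : α ^ m = 1 := (dvd_X_pow_sub_one_iff g m).1 (hgd.trans hμdvd)
  have hα0 : α ≠ 0 := by
    intro h
    rw [h, zero_pow hm.ne'] at hαm
    exact zero_ne_one hαm
  have hα1 : α ≠ 1 := by
    intro h
    apply hg1
    apply monic_irreducible_dvd_X_sub_one hg hgm
    have := (dvd_X_pow_sub_one_iff g 1).2 (by rw [pow_one]; exact h)
    rwa [pow_one] at this
  have hf0 : g ≠ 0 := hg.ne_zero
  have hfin : Module.Finite F (AdjoinRoot g) := (AdjoinRoot.powerBasis hf0).finite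
  have hint : IsIntegral F α⁻¹ := Algebra.IsIntegral.isIntegral _
  -- the inverse matrix is killed by μ
  have hinvB : aeval ((b⁻¹ : Matrix.symplecticGroup l F) : Matrix (l ⊕ l) (l ⊕ l) F) μ = 0 :=
    aeval_symplectic_inv b μ (minpoly.aeval F B)
  have hbinv : ((b⁻¹ : Matrix.symplecticGroup l F) : Matrix (l ⊕ l) (l ⊕ l) F) = B ^ (m - 1) := by
    have h1 : b⁻¹ = b ^ (m - 1) := by
      rw [inv_eq_iff_mul_eq_one, ← pow_succ', Nat.sub_add_cancel hm, hb]
    rw [h1]
    simp [hB]
  have hcomp : aeval B (μ.comp (X ^ (m - 1))) = 0 := by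
    rw [aeval_comp, map_pow, aeval_X, ← hbinv, hinvB]
  have hdvd2 : g ∣ μ.comp (X ^ (m - 1)) := hgd.trans (minpoly.dvd F B hcomp)
  have hαinv : α⁻¹ = α ^ (m - 1) := by
    apply inv_eq_of_mul_eq_one_right
    rw [← pow_succ', Nat.sub_add_cancel hm, hαm]
  have hμα : aeval α⁻¹ μ = 0 := by
    obtain ⟨c, hc⟩ := hdvd2
    have h1 : aeval α (μ.comp (X ^ (m - 1))) = 0 := by
      rw [hc, map_mul, AdjoinRoot.aeval_eq, AdjoinRoot.mk_self, zero_mul]
    rwa [aeval_comp, map_pow, aeval_X, ← hαinv] at h1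
  refine ⟨minpoly F α⁻¹, minpoly.irreducible hint, minpoly.monic hint, minpoly.dvd F _ hμα, ?_,
    (minpoly.dvd F _ hμα).trans hμdvd, ?_⟩
  · intro h
    have h1 := minpoly.aeval F α⁻¹
    rw [h, map_sub, aeval_X, aeval_C, map_one, sub_eq_zero] at h1
    exact hα1 (inv_eq_one.1 h1)
  · intro h
    apply orderOf_root_dvd_pow_add_one g hα0
    have h1 := minpoly.aeval F α⁻¹
    rw [h] at h1
    exact h1

end star

end Cfsg.Agent.Lib.Helper5.PrimeGraph
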