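import Mathlib
import Cfsg.Agent.Lib.Helper5.AltForm

namespace Cfsg.Agent.Lib.Helper5.SylTor

open Module

section Forms

variable {F : Type*} [Field F]

/-- injective isometric action on a nondegenerate alternating space of dimension `2n`
gives an injective hom to `Sp_{2n}`. -/
theorem exists_sp_hom {W : Type*} [AddCommGroup W] [Module F W] [FiniteDimensional F W]
    (B : LinearMap.BilinForm F W) (hB : B.IsAlt) (hnd : ∀ x, (∀ y, B x y = 0) → x = 0)
    {n : ℕ} (hdim : finrank F W = 2 * n) {A : Type*} [Group A] (ρ : A →* (W ≃ₗ[F] W))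
    (hρ : Function.Injective ρ) (hpres : ∀ a x y, B (ρ a x) (ρ a y) = B x y) :
    ∃ φ : A →* Matrix.symplecticGroup (Fin n) F, Function.Injective φ := by
  classical
  obtain ⟨m, b, hm, hb⟩ := AltForm.exists_symplectic_basis hB hnd
  obtain rfl : m = n := by omega
  have hgram : LinearMap.BilinForm.toMatrix b B = Matrix.J (Fin m) F := by
    ext x y
    rw [LinearMap.BilinForm.toMatrix_apply, hb]
  have hmem : ∀ a, LinearMap.toMatrix b b (ρ a).toLinearMap ∈ Matrix.symplecticGroup (Fin m) F := by
    intro a
    rw [SymplecticGroup.mem_iff']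
    have h1 := LinearMap.BilinForm.toMatrix_comp b b B (ρ a).toLinearMap (ρ a).toLinearMap
    have h2 : B.comp (ρ a).toLinearMap (ρ a).toLinearMap = B := by
      ext x y
      simp [hpres]
    rw [h2, hgram] at h1
    exact h1.symm
  refine ⟨{ toFun := fun a => ⟨LinearMap.toMatrix b b (ρ a).toLinearMap, hmem a⟩
            map_one' := ?_
            map_mul' := ?_ }, ?_⟩
  · apply Subtype.ext
    simp
  · intro x y
    apply Subtype.ext
    show LinearMap.toMatrix b b (ρ (x * y)).toLinearMap =
      LinearMap.toMatrix b b (ρ x).toLinearMap * LinearMap.toMatrix b b (ρ y).toLinearMap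
    rw [← LinearMap.toMatrix_mul, map_mul]
    rfl
  · intro x y h
    apply hρ
    have h1 := congrArg Subtype.val h
    simp only [MonoidHom.coe_mk, OneHom.coe_mk] at h1
    have h2 := (LinearMap.toMatrix b b).injective h1
    exact LinearEquiv.toLinearMap_injective h2

end Forms

section Pieces

variable {F : Type*} [Field F]

/-- orthogonal sum of `a` copies of a form -/
noncomputable def piForm {E : Type*} [AddCommGroup E] [Module F E] (a : ℕ)
    (BE : LinearMap.BilinForm F E) : LinearMap.BilinForm F (Fin a → E) :=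
  ∑ i, BE.comp (LinearMap.proj i) (LinearMap.proj i)

theorem piForm_apply {E : Type*} [AddCommGroup E] [Module F E] (a : ℕ)
    (BE : LinearMap.BilinForm F E) (x y : Fin a → E) :
    piForm a BE x y = ∑ i, BE (x i) (y i) := by
  simp [piForm, LinearMap.sum_apply]

theorem piForm_isAlt {E : Type*} [AddCommGroup E] [Module F E] (a : ℕ)
    {BE : LinearMap.BilinForm F E} (h : BE.IsAlt) : (piForm a BE).IsAlt := by
  intro x
  rw [piForm_apply]
  exact Finset.sum_eq_zero fun i _ => h (x i)

theorem piForm_nondeg {E : Type*} [AddCommGroup E] [Module F E] (a : ℕ)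
    {BE : LinearMap.BilinForm F E} (h : ∀ x, (∀ y, BE x y = 0) → x = 0)
    (x : Fin a → E) (hx : ∀ y, piForm a BE x y = 0) : x = 0 := by
  classical
  funext i
  apply h
  intro e
  have := hx (Pi.single i e)
  rw [piForm_apply, Finset.sum_eq_single i] at this
  · simpa using this
  · intro j _ hj
    rw [Pi.single_eq_of_ne hj]
    simp
  · intro hi
    exact absurd (Finset.mem_univ i) hi

/-- orthogonal sum of two forms -/
noncomputable def prodForm {W₁ W₂ : Type*} [AddCommGroup W₁] [Module F W₁] [AddCommGroup W₂]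
    [Module F W₂] (B₁ : LinearMap.BilinForm F W₁) (B₂ : LinearMap.BilinForm F W₂) :
    LinearMap.BilinForm F (W₁ × W₂) :=
  B₁.comp (LinearMap.fst F W₁ W₂) (LinearMap.fst F W₁ W₂) +
    B₂.comp (LinearMap.snd F W₁ W₂) (LinearMap.snd F W₁ W₂)

theorem prodForm_apply {W₁ W₂ : Type*} [AddCommGroup W₁] [Module F W₁] [AddCommGroup W₂]
    [Module F W₂] (B₁ : LinearMap.BilinForm F W₁) (B₂ : LinearMap.BilinForm F W₂)
    (x y : W₁ × W₂) : prodForm B₁ B₂ x y = B₁ x.1 y.1 + B₂ x.2 y.2 := by
  simp [prodForm]

theorem prodForm_isAlt {W₁ W₂ : Type*} [AddCommGroup W₁] [Module F W₁] [AddCommGroup W₂]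
    [Module F W₂] {B₁ : LinearMap.BilinForm F W₁} {B₂ : LinearMap.BilinForm F W₂}
    (h₁ : B₁.IsAlt) (h₂ : B₂.IsAlt) : (prodForm B₁ B₂).IsAlt := by
  intro x
  rw [prodForm_apply, h₁, h₂, add_zero]

theorem prodForm_nondeg {W₁ W₂ : Type*} [AddCommGroup W₁] [Module F W₁] [AddCommGroup W₂]
    [Module F W₂] {B₁ : LinearMap.BilinForm F W₁} {B₂ : LinearMap.BilinForm F W₂}
    (h₁ : ∀ x, (∀ y, B₁ x y = 0) → x = 0) (h₂ : ∀ x, (∀ y, B₂ x y = 0) → x = 0)
    (x : W₁ × W₂) (hx : ∀ y, prodForm B₁ B₂ x y = 0) : x = 0 := by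
  apply Prod.ext
  · apply h₁
    intro y
    have := hx (y, 0)
    simpa [prodForm_apply] using this
  · apply h₂
    intro y
    have := hx (0, y)
    simpa [prodForm_apply] using this

/-- hyperbolic trace form on `K × K` -/
noncomputable def hypForm (F K : Type*) [Field F] [Field K] [Algebra F K] :
    LinearMap.BilinForm F (K × K) :=
  (Algebra.traceForm F K).comp (LinearMap.fst F K K) (LinearMap.snd F K K) -
    (Algebra.traceForm F K).comp (LinearMap.snd F K K) (LinearMap.fst F K K)

theorem hypForm_apply (F K : Type*) [Field F] [Field K] [Algebra F K] (x y : K × K) :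
    hypForm F K x y = Algebra.trace F K (x.1 * y.2) - Algebra.trace F K (x.2 * y.1) := by
  simp [hypForm, Algebra.traceForm_apply]

theorem hypForm_isAlt (F K : Type*) [Field F] [Field K] [Algebra F K] : (hypForm F K).IsAlt := by
  intro x
  rw [hypForm_apply, mul_comm, sub_self]

theorem hypForm_nondeg (F K : Type*) [Field F] [Field K] [Algebra F K] [FiniteDimensional F K]
    [Algebra.IsSeparable F K] (x : K × K) (hx : ∀ y, hypForm F K x y = 0) : x = 0 := by
  have hnd := (traceForm_nondegenerate F K).1
  apply Prod.ext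
  · apply hnd
    intro w
    have := hx (0, w)
    simpa [hypForm_apply, Algebra.traceForm_apply] using this
  · apply hnd
    intro w
    have := hx (w, 0)
    simpa [hypForm_apply, Algebra.traceForm_apply] using this

end Pieces

section Block

variable {F : Type*} [Field F]

/-- componentwise action on the first factor of `E^a × M` -/
noncomputable def blockAct {E M U : Type*} [AddCommGroup E] [Module F E] [AddCommGroup M]
    [Module F M] [Group U] (τ : U →* (E ≃ₗ[F] E)) (a : ℕ) :
    (Fin a → U) →* (((Fin a → E) × M) ≃ₗ[F] ((Fin a → E) × M)) where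
  toFun u := (LinearEquiv.piCongrRight fun i => τ (u i)).prodCongr (LinearEquiv.refl F M)
  map_one' := by
    apply LinearEquiv.ext
    rintro ⟨x, y⟩
    simp only [Pi.one_apply, map_one, LinearEquiv.prodCongr_apply, LinearEquiv.refl_apply,
      LinearEquiv.mul_apply]
    apply Prod.ext
    · funext i; rfl
    · rfl
  map_mul' u u' := by
    apply LinearEquiv.ext
    rintro ⟨x, y⟩
    simp only [Pi.mul_apply, map_mul, LinearEquiv.prodCongr_apply, LinearEquiv.refl_apply,
      LinearEquiv.mul_apply]
    apply Prod.ext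
    · funext i; rfl
    · rfl

theorem blockAct_apply {E M U : Type*} [AddCommGroup E] [Module F E] [AddCommGroup M]
    [Module F M] [Group U] (τ : U →* (E ≃ₗ[F] E)) (a : ℕ) (u : Fin a → U)
    (x : (Fin a → E) × M) : blockAct (M := M) τ a u x = (fun i => τ (u i) (x.1 i), x.2) := rfl

theorem blockAct_injective {E M U : Type*} [AddCommGroup E] [Module F E] [AddCommGroup M]
    [Module F M] [Group U] (τ : U →* (E ≃ₗ[F] E)) (hτ : Function.Injective τ) (a : ℕ) :
    Function.Injective (blockAct (M := M) τ a) := by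
  classical
  intro u u' h
  funext i
  apply hτ
  apply LinearEquiv.ext
  intro e
  have h1 := congrArg (fun g => (g ((Pi.single i e : Fin a → E), (0 : M))).1 i) h
  simpa [blockAct_apply] using h1

theorem blockAct_pres {E M U : Type*} [AddCommGroup E] [Module F E] [AddCommGroup M]
    [Module F M] [Group U] (τ : U →* (E ≃ₗ[F] E)) (a : ℕ) (BE : LinearMap.BilinForm F E)
    (BM : LinearMap.BilinForm F M) (hτ : ∀ u x y, BE (τ u x) (τ u y) = BE x y)
    (u : Fin a → U) (x y : (Fin a → E) × M) :
    prodForm (piForm a BE) BM (blockAct τ a u x) (blockAct τ a u y) =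
      prodForm (piForm a BE) BM x y := by
  simp only [prodForm_apply, piForm_apply, blockAct_apply, hτ]

end Block

end Cfsg.Agent.Lib.Helper5.SylTor
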