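import Mathlib
import Cfsg.Agent.Lib.Helper5.SylTor4

namespace Cfsg.Agent.Lib.Helper5.SylTor

open Module

section Split

variable (F K : Type*) [Field F] [Field K] [Algebra F K]

/-- `u ↦ (u, u⁻¹)` acting on `K × K` -/
noncomputable def hypAct : Kˣ →* ((K × K) ≃ₗ[F] (K × K)) where
  toFun u := (DistribMulAction.toLinearEquiv F K u).prodCongr (DistribMulAction.toLinearEquiv F K u⁻¹)
  map_one' := by
    apply LinearEquiv.ext
    rintro ⟨x, y⟩
    simp
  map_mul' u u' := by
    apply LinearEquiv.ext
    rintro ⟨x, y⟩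
    simp [mul_smul, mul_comm]

theorem hypAct_apply (u : Kˣ) (x : K × K) :
    hypAct F K u x = ((u : K) * x.1, ((u⁻¹ : Kˣ) : K) * x.2) := by
  simp [hypAct, Units.smul_def]

theorem hypAct_injective : Function.Injective (hypAct F K) := by
  intro u u' h
  have h1 := congrArg (fun g => (g ((1 : K), (0 : K))).1) h
  simp only [hypAct_apply, mul_one] at h1
  exact Units.ext h1

theorem hypAct_pres (u : Kˣ) (x y : K × K) :
    hypForm F K (hypAct F K u x) (hypAct F K u y) = hypForm F K x y := by
  simp only [hypForm_apply, hypAct_apply]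
  have h1 : (u : K) * x.1 * (((u⁻¹ : Kˣ) : K) * y.2) = x.1 * y.2 := by
    rw [mul_mul_mul_comm, Units.mul_inv, one_mul]
  have h2 : ((u⁻¹ : Kˣ) : K) * x.2 * ((u : K) * y.1) = x.2 * y.1 := by
    rw [mul_mul_mul_comm, Units.inv_mul, one_mul]
  rw [h1, h2]

end Split

section Nonsplit

variable (F L : Type*) [Field F] [Fintype F] [Field L] [Finite L] [Algebra F L]

/-- the involution `x ↦ x^(q^e)` -/
noncomputable def sig (e : ℕ) : L ≃ₐ[F] L := FiniteField.frobeniusAlgEquivOfAlgebraic F L ^ e

theorem sig_apply (e : ℕ) (x : L) : sig F L e x = x ^ (Fintype.card F ^ e) := by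
  unfold sig
  rw [AlgEquiv.coe_pow, FiniteField.coe_frobeniusAlgEquivOfAlgebraic_iterate]

variable {F L}

theorem sig_sig {e : ℕ} (hfin : finrank F L = 2 * e) (x : L) : sig F L e (sig F L e x) = x := by
  have h : sig F L e * sig F L e = 1 := by
    unfold sig
    rw [← pow_add, ← two_mul, ← hfin, ← FiniteField.orderOf_frobeniusAlgEquivOfAlgebraic,
      pow_orderOf_eq_one]
  have := congrArg (fun g : L ≃ₐ[F] L => g x) h
  simpa using this

theorem exists_sig_ne {e : ℕ} (he : 0 < e) (hfin : finrank F L = 2 * e) : ∃ δ : L, sig F L e δ ≠ δ := by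
  by_contra hcon
  push Not at hcon
  have h1 : sig F L e = 1 := by
    ext x
    exact hcon x
  have h2 : sig F L e ≠ 1 := by
    unfold sig
    apply pow_ne_one_of_lt_orderOf he.ne'
    rw [FiniteField.orderOf_frobeniusAlgEquivOfAlgebraic, hfin]
    omega
  exact h2 h1

theorem exists_eps {e : ℕ} (he : 0 < e) (hfin : finrank F L = 2 * e) :
    ∃ ε : L, ε ≠ 0 ∧ sig F L e ε = -ε := by
  obtain ⟨δ, hδ⟩ := exists_sig_ne he hfin
  refine ⟨δ - sig F L e δ, fun h => hδ (sub_eq_zero.1 h).symm, ?_⟩
  rw [map_sub, sig_sig hfin]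
  ring

/-- the form `Tr(ε x σ(y))` -/
noncomputable def nsForm (e : ℕ) (ε : L) : LinearMap.BilinForm F L :=
  (Algebra.traceForm F L).comp (LinearMap.mulLeft F ε) (sig F L e).toLinearMap

theorem nsForm_apply (e : ℕ) (ε : L) (x y : L) :
    nsForm (F := F) e ε x y = Algebra.trace F L (ε * x * sig F L e y) := by
  simp [nsForm, Algebra.traceForm_apply, mul_assoc]

theorem trace_eq_zero_of_sig {e : ℕ} (hfin : finrank F L = 2 * e) {z : L} (hz : sig F L e z = -z) :
    Algebra.trace F L z = 0 := by
  apply (algebraMap F L).injective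
  rw [FiniteField.algebraMap_trace_eq_sum_pow, map_zero, hfin, two_mul, Finset.sum_range_add]
  rw [← Finset.sum_add_distrib]
  apply Finset.sum_eq_zero
  intro i _
  have h1 : z ^ (Nat.card F ^ (e + i)) = (sig F L e z) ^ (Nat.card F ^ i) := by
    rw [sig_apply, ← pow_mul, Nat.card_eq_fintype_card, ← pow_add]
  have h2 : ∀ w : L, w ^ (Nat.card F ^ i) = sig F L i w := by
    intro w
    rw [sig_apply, Nat.card_eq_fintype_card]
  rw [h1, hz, h2, h2, map_neg, add_neg_cancel]

theorem nsForm_isAlt {e : ℕ} (hfin : finrank F L = 2 * e) {ε : L} (hε : sig F L e ε = -ε) :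
    (nsForm (F := F) e ε).IsAlt := by
  intro x
  rw [nsForm_apply]
  apply trace_eq_zero_of_sig hfin
  rw [map_mul, map_mul, sig_sig hfin, hε]
  ring

theorem nsForm_nondeg {e : ℕ} {ε : L} (hε0 : ε ≠ 0) (x : L)
    (hx : ∀ y, nsForm (F := F) e ε x y = 0) : x = 0 := by
  have : FiniteDimensional F L := Module.Finite.of_finite
  have hnd := (traceForm_nondegenerate F L).1
  have h1 : ε * x = 0 := by
    apply hnd
    intro w
    have := hx ((sig F L e).symm w)
    rw [nsForm_apply, AlgEquiv.apply_symm_apply] at this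
    rwa [Algebra.traceForm_apply]
  rcases mul_eq_zero.1 h1 with h | h
  · exact absurd h hε0
  · exact h

theorem nsForm_pres (e : ℕ) (ε : L) (u : Lˣ) (hu : (u : L) * sig F L e (u : L) = 1) (x y : L) :
    nsForm (F := F) e ε (DistribMulAction.toModuleAut F L u x) (DistribMulAction.toModuleAut F L u y) =
      nsForm (F := F) e ε x y := by
  simp only [nsForm_apply, DistribMulAction.toModuleAut_apply, DistribMulAction.toLinearEquiv_apply,
    Units.smul_def, smul_eq_mul, map_mul]
  have : ε * ((u : L) * x) * (sig F L e (u : L) * sig F L e y) =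
      ((u : L) * sig F L e (u : L)) * (ε * x * sig F L e y) := by ring
  rw [this, hu, one_mul]

theorem toModuleAut_injective : Function.Injective (DistribMulAction.toModuleAut F L : Lˣ →* _) := by
  intro u u' h
  have h1 := congrArg (fun g : L ≃ₗ[F] L => g 1) h
  simp only [DistribMulAction.toModuleAut_apply, DistribMulAction.toLinearEquiv_apply,
    Units.smul_def, smul_eq_mul, mul_one] at h1
  exact Units.ext h1

end Nonsplit

end Cfsg.Agent.Lib.Helper5.SylTor
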