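import Mathlib
import Cfsg.Agent.Lib.Helper5.SylTor1
import Cfsg.Agent.Lib.Helper5.SylTor5

namespace Cfsg.Agent.Lib.Helper5.SylTor

open Module

variable {F : Type*} [Field F] [Fintype F]

theorem finrank_hyp_block (K : Type*) [Field K] [Algebra F K] [FiniteDimensional F K] (a b : ℕ) :
    finrank F ((Fin a → K × K) × (Fin b → F × F)) = 2 * (a * finrank F K + b) := by
  rw [Module.finrank_prod, Module.finrank_pi_fintype, Module.finrank_pi_fintype]
  simp only [Module.finrank_prod, Finset.sum_const, Finset.card_univ, Fintype.card_fin, smul_eq_mul,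
    Module.finrank_self]
  ring

theorem exists_sp_hom_split (n d : ℕ) (hd : 0 < d) {m : ℕ} (hm : m ∣ Fintype.card F ^ d - 1) :
    ∃ φ : (Fin (n / d) → Multiplicative (ZMod m)) →* Matrix.symplecticGroup (Fin n) F,
      Function.Injective φ := by
  classical
  obtain ⟨p, hp⟩ := CharP.exists F
  have : Fact p.Prime := ⟨CharP.char_is_prime F p⟩
  have : NeZero d := ⟨hd.ne'⟩
  let K := FiniteField.Extension F p d
  have : Fintype K := Fintype.ofFinite K
  have hKcard : Nat.card K = Fintype.card F ^ d := by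
    rw [FiniteField.natCard_extension, Nat.card_eq_fintype_card]
  have hunits : Nat.card Kˣ = Fintype.card F ^ d - 1 := by
    rw [Nat.card_units, hKcard]
  obtain ⟨ψ, hψ⟩ := exists_zmod_hom (C := Kˣ) (m := m) (by rw [hunits]; exact hm)
  let τ : Multiplicative (ZMod m) →* ((K × K) ≃ₗ[F] (K × K)) := (hypAct F K).comp ψ
  have hτ : Function.Injective τ := (hypAct_injective F K).comp hψ
  have hτp : ∀ u x y, hypForm F K (τ u x) (τ u y) = hypForm F K x y :=
    fun u x y => hypAct_pres F K (ψ u) x y
  let B := prodForm (piForm (n / d) (hypForm F K)) (piForm (n % d) (hypForm F F))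
  have hB : B.IsAlt := prodForm_isAlt (piForm_isAlt _ (hypForm_isAlt F K))
    (piForm_isAlt _ (hypForm_isAlt F F))
  have hnd : ∀ x, (∀ y, B x y = 0) → x = 0 :=
    prodForm_nondeg (piForm_nondeg _ (hypForm_nondeg F K)) (piForm_nondeg _ (hypForm_nondeg F F))
  have hdim : finrank F ((Fin (n / d) → K × K) × (Fin (n % d) → F × F)) = 2 * n := by
    rw [finrank_hyp_block, FiniteField.finrank_extension, Nat.div_add_mod' n d]
  exact exists_sp_hom B hB hnd hdim (blockAct τ (n / d)) (blockAct_injective τ hτ _)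
    (blockAct_pres τ _ _ _ hτp)

theorem finrank_ns_block (L : Type*) [Field L] [Algebra F L] [FiniteDimensional F L] (a b e : ℕ)
    (h : finrank F L = 2 * e) :
    finrank F ((Fin a → L) × (Fin b → F × F)) = 2 * (a * e + b) := by
  rw [Module.finrank_prod, Module.finrank_pi_fintype, Module.finrank_pi_fintype]
  simp only [Module.finrank_prod, Finset.sum_const, Finset.card_univ, Fintype.card_fin, smul_eq_mul,
    Module.finrank_self, h]
  ring

theorem exists_sp_hom_nonsplit (n e : ℕ) (he : 0 < e) {m : ℕ} (hm : m ∣ Fintype.card F ^ e + 1) :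
    ∃ φ : (Fin (n / e) → Multiplicative (ZMod m)) →* Matrix.symplecticGroup (Fin n) F,
      Function.Injective φ := by
  classical
  obtain ⟨p, hp⟩ := CharP.exists F
  have : Fact p.Prime := ⟨CharP.char_is_prime F p⟩
  have : NeZero (2 * e) := ⟨by omega⟩
  let L := FiniteField.Extension F p (2 * e)
  have : Fintype L := Fintype.ofFinite L
  have hfin : finrank F L = 2 * e := FiniteField.finrank_extension F p (2 * e)
  have hq1 : 1 ≤ Fintype.card F ^ e := Nat.one_le_pow _ _ Fintype.card_pos
  have hLcard : Nat.card L = Fintype.card F ^ (2 * e) := by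
    rw [FiniteField.natCard_extension, Nat.card_eq_fintype_card]
  have hunits : Nat.card Lˣ = (Fintype.card F ^ e - 1) * (Fintype.card F ^ e + 1) := by
    rw [Nat.card_units, hLcard, two_mul, pow_add]
    have h2 : 1 ≤ Fintype.card F ^ e * Fintype.card F ^ e := Nat.mul_pos hq1 hq1
    zify [hq1, h2]
    ring
  obtain ⟨ψ, hψ⟩ := exists_zmod_hom (C := Lˣ) (m := m) (by
    rw [hunits]; exact hm.mul_left _)
  obtain ⟨ε, hε0, hε⟩ := exists_eps (F := F) (L := L) he hfin
  let τ : Multiplicative (ZMod m) →* (L ≃ₗ[F] L) := (DistribMulAction.toModuleAut F L).comp ψ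
  have hτ : Function.Injective τ := (toModuleAut_injective (F := F) (L := L)).comp hψ
  have hm0 : m ≠ 0 := by
    rintro rfl
    rw [zero_dvd_iff] at hm
    omega
  have : NeZero m := ⟨hm0⟩
  have hnorm : ∀ z : Multiplicative (ZMod m), ((ψ z : Lˣ) : L) * sig F L e ((ψ z : Lˣ) : L) = 1 := by
    intro z
    have h1 : z ^ m = 1 := by
      have := pow_card_eq_one' (G := Multiplicative (ZMod m)) (x := z)
      rwa [Nat.card_congr Multiplicative.toAdd, Nat.card_zmod] at this
    have h2 : (ψ z) ^ m = 1 := by rw [← map_pow, h1, map_one]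
    obtain ⟨k, hk⟩ := hm
    have h3 : (ψ z) ^ (Fintype.card F ^ e + 1) = 1 := by rw [hk, pow_mul, h2, one_pow]
    rw [sig_apply, ← pow_succ']
    have := congrArg (fun u : Lˣ => (u : L)) h3
    simpa using this
  have hτp : ∀ u x y, nsForm (F := F) e ε (τ u x) (τ u y) = nsForm (F := F) e ε x y :=
    fun u x y => nsForm_pres e ε (ψ u) (hnorm u) x y
  let B := prodForm (piForm (n / e) (nsForm (F := F) e ε)) (piForm (n % e) (hypForm F F))
  have hB : B.IsAlt := prodForm_isAlt (piForm_isAlt _ (nsForm_isAlt hfin hε))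
    (piForm_isAlt _ (hypForm_isAlt F F))
  have hnd : ∀ x, (∀ y, B x y = 0) → x = 0 :=
    prodForm_nondeg (piForm_nondeg _ (nsForm_nondeg hε0)) (piForm_nondeg _ (hypForm_nondeg F F))
  have hdim : finrank F ((Fin (n / e) → L) × (Fin (n % e) → F × F)) = 2 * n := by
    rw [finrank_ns_block L _ _ e hfin, Nat.div_add_mod' n e]
  exact exists_sp_hom B hB hnd hdim (blockAct τ (n / e)) (blockAct_injective τ hτ _)
    (blockAct_pres τ _ _ _ hτp)

end Cfsg.Agent.Lib.Helper5.SylTor
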