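import Mathlib
import Cfsg.Agent.Lib.Helper5.SylTor6
import Cfsg.Agent.Lib.Helper2.SpIsom
import Cfsg.Agent.Lib.Helper1.SpBasic

/-!
Faithful symplectic representations: a predicate `HasSpRep F A e` (`A` embeds in `Sp_{2e}(F)`),
closed under products (orthogonal sums), with the basic cyclic examples (split and nonsplit tori,
a transvection group).
-/

set_option autoImplicit false

namespace Cfsg.Agent.Lib.Helper5.SpRep

open Module Cfsg.Agent.Lib.Helper5.SylTor

variable {F : Type*} [Field F]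

/-- `A` embeds in `Sp_{2e}(F)`. -/
def HasSpRep (F : Type*) [Field F] (A : Type*) [Group A] (e : ℕ) : Prop :=
  ∃ φ : A →* Matrix.symplecticGroup (Fin e) F, Function.Injective φ

theorem HasSpRep.comp {A A' : Type*} [Group A] [Group A'] {e : ℕ} (h : HasSpRep F A e)
    (f : A' →* A) (hf : Function.Injective f) : HasSpRep F A' e := by
  obtain ⟨φ, hφ⟩ := h
  exact ⟨φ.comp f, hφ.comp hf⟩

theorem HasSpRep.exists_orderOf {A : Type*} [Group A] {e : ℕ} (h : HasSpRep F A e) (a : A) :
    ∃ x : Matrix.symplecticGroup (Fin e) F, orderOf x = orderOf a := by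
  obtain ⟨φ, hφ⟩ := h
  exact ⟨φ a, orderOf_injective φ hφ a⟩

theorem spHom_injective (m : ℕ) :
    Function.Injective (Cfsg.Agent.Lib.Helper2.SpIsom.spHom m F) := by
  intro A B h
  apply Cfsg.Agent.Lib.Helper1.SpBasic.ext_mulVec
  intro x
  have := congrArg (fun g => g x) h
  exact this

theorem spHom_pres (m : ℕ) (A : Matrix.symplecticGroup (Fin m) F) (x y : Fin m ⊕ Fin m → F) :
    Cfsg.Agent.Lib.Helper2.SpIsom.sympBilin m F (Cfsg.Agent.Lib.Helper2.SpIsom.spHom m F A x)
      (Cfsg.Agent.Lib.Helper2.SpIsom.spHom m F A y) =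
    Cfsg.Agent.Lib.Helper2.SpIsom.sympBilin m F x y := by
  rw [Cfsg.Agent.Lib.Helper2.SpIsom.sympBilin_apply, Cfsg.Agent.Lib.Helper2.SpIsom.sympBilin_apply]
  exact Cfsg.Agent.Lib.Helper1.SpBasic.form_mulVec A x y

theorem sympBilin_nondeg (m : ℕ) (x : Fin m ⊕ Fin m → F)
    (hx : ∀ y, Cfsg.Agent.Lib.Helper2.SpIsom.sympBilin m F x y = 0) : x = 0 := by
  apply Cfsg.Agent.Lib.Helper2.SpIsom.sympForm_nondeg
  intro y
  rw [← Cfsg.Agent.Lib.Helper2.SpIsom.sympBilin_apply]
  exact hx y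

/-- orthogonal sum of two faithful symplectic representations (padded by a trivial part). -/
theorem HasSpRep.prod {A₁ A₂ : Type*} [Group A₁] [Group A₂] {e₁ e₂ n : ℕ}
    (h₁ : HasSpRep F A₁ e₁) (h₂ : HasSpRep F A₂ e₂) (hn : e₁ + e₂ ≤ n) :
    HasSpRep F (A₁ × A₂) n := by
  classical
  obtain ⟨φ₁, hφ₁⟩ := h₁
  obtain ⟨φ₂, hφ₂⟩ := h₂
  set b := n - (e₁ + e₂) with hb
  let V₁ := Fin e₁ ⊕ Fin e₁ → F
  let V₂ := Fin e₂ ⊕ Fin e₂ → F
  let M := Fin b → F × F
  let B : LinearMap.BilinForm F (V₁ × (V₂ × M)) :=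
    prodForm (Cfsg.Agent.Lib.Helper2.SpIsom.sympBilin e₁ F)
      (prodForm (Cfsg.Agent.Lib.Helper2.SpIsom.sympBilin e₂ F) (piForm b (hypForm F F)))
  have hB : B.IsAlt := prodForm_isAlt Cfsg.Agent.Lib.Helper2.SpIsom.sympBilin_isAlt
    (prodForm_isAlt Cfsg.Agent.Lib.Helper2.SpIsom.sympBilin_isAlt (piForm_isAlt _ (hypForm_isAlt F F)))
  have hnd : ∀ x, (∀ y, B x y = 0) → x = 0 :=
    prodForm_nondeg (sympBilin_nondeg e₁)
      (prodForm_nondeg (sympBilin_nondeg e₂) (piForm_nondeg _ (hypForm_nondeg F F)))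
  have hdim : finrank F (V₁ × (V₂ × M)) = 2 * n := by
    rw [Module.finrank_prod, Module.finrank_prod, Module.finrank_pi, Module.finrank_pi,
      Module.finrank_pi_fintype]
    simp only [Module.finrank_prod, Finset.sum_const, Finset.card_univ, Fintype.card_fin,
      smul_eq_mul, Module.finrank_self, Fintype.card_sum]
    omega
  let ρ : A₁ × A₂ →* ((V₁ × (V₂ × M)) ≃ₗ[F] (V₁ × (V₂ × M))) :=
    { toFun := fun a => (Cfsg.Agent.Lib.Helper2.SpIsom.spHom e₁ F (φ₁ a.1)).prodCongr
        ((Cfsg.Agent.Lib.Helper2.SpIsom.spHom e₂ F (φ₂ a.2)).prodCongr (LinearEquiv.refl F M))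
      map_one' := by
        apply LinearEquiv.ext
        rintro ⟨x, y, z⟩
        simp
      map_mul' := by
        intro a a'
        apply LinearEquiv.ext
        rintro ⟨x, y, z⟩
        simp }
  have hρa : ∀ (a : A₁ × A₂) (x : V₁ × (V₂ × M)), ρ a x =
      (Cfsg.Agent.Lib.Helper2.SpIsom.spHom e₁ F (φ₁ a.1) x.1,
        (Cfsg.Agent.Lib.Helper2.SpIsom.spHom e₂ F (φ₂ a.2) x.2.1, x.2.2)) := fun a x => rfl
  have hρ : Function.Injective ρ := by
    intro a a' h
    apply Prod.ext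
    · apply hφ₁
      apply spHom_injective
      apply LinearEquiv.ext
      intro x
      have := congrArg (fun g => (g (x, (0, 0))).1) h
      simpa [hρa] using this
    · apply hφ₂
      apply spHom_injective
      apply LinearEquiv.ext
      intro x
      have := congrArg (fun g => (g (0, (x, 0))).2.1) h
      simpa [hρa] using this
  have hpres : ∀ a x y, B (ρ a x) (ρ a y) = B x y := by
    intro a x y
    simp only [B, prodForm_apply, hρa]
    rw [spHom_pres, spHom_pres]
  exact exists_sp_hom B hB hnd hdim ρ hρ hpres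

theorem HasSpRep.mono {A : Type*} [Group A] {e n : ℕ} (h : HasSpRep F A e) (hn : e ≤ n) :
    HasSpRep F A n := by
  have h0 : HasSpRep F Unit 0 := ⟨1, fun a b _ => Subsingleton.elim a b⟩
  have := h.prod h0 (n := n) (by omega)
  exact this.comp (MonoidHom.inl A Unit) (fun a b hab => by simpa using congrArg Prod.fst hab)

/-- the root group of a transvection: the additive group of `F` embeds in `Sp_2(F)`. -/
theorem hasSpRep_additive : HasSpRep F (Multiplicative F) 1 := by
  classical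
  let v : Fin 1 ⊕ Fin 1 → F := Pi.single (Sum.inl 0) 1
  have hv : v ≠ 0 := by
    intro h
    have := congrFun h (Sum.inl 0)
    simp [v] at this
  refine ⟨{ toFun := fun c => Cfsg.Agent.Lib.Helper1.SpBasic.T v (Multiplicative.toAdd c)
            map_one' := Cfsg.Agent.Lib.Helper1.SpBasic.T_zero v
            map_mul' := fun c d => (Cfsg.Agent.Lib.Helper1.SpBasic.T_add v _ _).symm }, ?_⟩
  intro c d h
  simp only [MonoidHom.coe_mk, OneHom.coe_mk] at h
  obtain ⟨x, hx⟩ : ∃ x, Cfsg.sympForm 1 F x v ≠ 0 := by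
    by_contra hcon
    push Not at hcon
    apply hv
    apply Cfsg.Agent.Lib.Helper2.SpIsom.sympForm_nondeg
    intro y
    have h1 := hcon y
    have h2 : Cfsg.sympForm 1 F v y = -Cfsg.sympForm 1 F y v := by
      have h3 := Cfsg.Agent.Lib.Helper2.SpIsom.sympBilin_isAlt (m := 1) (F := F)
      have h4 := LinearMap.IsAlt.neg h3 v y
      rw [Cfsg.Agent.Lib.Helper2.SpIsom.sympBilin_apply,
        Cfsg.Agent.Lib.Helper2.SpIsom.sympBilin_apply] at h4
      rw [← h4, neg_neg]
    rw [h2, h1, neg_zero]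
  have h1 := congrArg (fun A : Matrix.symplecticGroup (Fin 1) F =>
    (A : Matrix (Fin 1 ⊕ Fin 1) (Fin 1 ⊕ Fin 1) F).mulVec x) h
  simp only [Cfsg.Agent.Lib.Helper1.SpBasic.T_mulVec] at h1
  have h2 : ((Multiplicative.toAdd c * Cfsg.sympForm 1 F x v) -
      (Multiplicative.toAdd d * Cfsg.sympForm 1 F x v)) • v = 0 := by
    rw [sub_smul]
    exact sub_eq_zero.2 (add_left_cancel h1)
  rcases smul_eq_zero.1 h2 with h3 | h3
  · rw [← sub_mul] at h3
    rcases mul_eq_zero.1 h3 with h4 | h4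
    · exact Multiplicative.toAdd.injective (sub_eq_zero.1 h4)
    · exact absurd h4 hx
  · exact absurd h3 hv

theorem hasSpRep_transvection (p : ℕ) [Fact p.Prime] [CharP F p] :
    HasSpRep F (Multiplicative (ZMod p)) 1 := by
  refine hasSpRep_additive.comp
    (AddMonoidHom.toMultiplicative (ZMod.castHom (dvd_refl p) F).toAddMonoidHom) ?_
  intro a b h
  have h1 : (ZMod.castHom (dvd_refl p) F) (Multiplicative.toAdd a) =
      (ZMod.castHom (dvd_refl p) F) (Multiplicative.toAdd b) := congrArg Multiplicative.toAdd h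
  exact Multiplicative.toAdd.injective ((ZMod.castHom (dvd_refl p) F).injective h1)

section finite

variable [Fintype F]

theorem hasSpRep_zmod_split (e : ℕ) (he : 0 < e) {m : ℕ} (hm : m ∣ Fintype.card F ^ e - 1) :
    HasSpRep F (Multiplicative (ZMod m)) e := by
  obtain ⟨φ, hφ⟩ := exists_sp_hom_split (F := F) e e he hm
  have : Nonempty (Fin (e / e)) := ⟨⟨0, by rw [Nat.div_self he]; exact Nat.one_pos⟩⟩
  refine ⟨φ.comp (MonoidHom.pi fun _ => MonoidHom.id _), hφ.comp ?_⟩
  intro a b hab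
  exact congrFun hab (Classical.arbitrary _)

theorem hasSpRep_zmod_nonsplit (e : ℕ) (he : 0 < e) {m : ℕ} (hm : m ∣ Fintype.card F ^ e + 1) :
    HasSpRep F (Multiplicative (ZMod m)) e := by
  obtain ⟨φ, hφ⟩ := exists_sp_hom_nonsplit (F := F) e e he hm
  have : Nonempty (Fin (e / e)) := ⟨⟨0, by rw [Nat.div_self he]; exact Nat.one_pos⟩⟩
  refine ⟨φ.comp (MonoidHom.pi fun _ => MonoidHom.id _), hφ.comp ?_⟩
  intro a b hab
  exact congrFun hab (Classical.arbitrary _)

end finite

end Cfsg.Agent.Lib.Helper5.SpRep
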