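import Mathlib

/-!
Quadratic forms over finite fields: existence of singular vectors (Chevalley–Warning), hyperbolic
pairs, Witt decomposition into hyperbolic pairs and an anisotropic part of dimension at most two.
-/

set_option autoImplicit false

namespace Cfsg.Agent.Lib.Helper5

open Module QuadraticMap

universe u v w

section cw
variable {F : Type u} [Field F] [Finite F]

/-- a ternary quadratic form over a finite field has a nontrivial zero -/
theorem exists_ternary_zero (q₀ q₁ q₂ p₀₁ p₀₂ p₁₂ : F) :
    ∃ x : Fin 3 → F, x ≠ 0 ∧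
      q₀ * x 0 ^ 2 + q₁ * x 1 ^ 2 + q₂ * x 2 ^ 2 + p₀₁ * x 0 * x 1 + p₀₂ * x 0 * x 2
        + p₁₂ * x 1 * x 2 = 0 := by
  classical
  have : Fintype F := Fintype.ofFinite F
  obtain ⟨p, hp⟩ := CharP.exists F
  have hpp : p.Prime := by
    rcases CharP.char_is_prime_or_zero F p with h | h
    · exact h
    · exfalso
      subst h
      have := CharP.charP_to_charZero F
      exact not_finite F
  open MvPolynomial in
  let f : MvPolynomial (Fin 3) F :=
    C q₀ * X 0 ^ 2 + C q₁ * X 1 ^ 2 + C q₂ * X 2 ^ 2 + C p₀₁ * X 0 * X 1 + C p₀₂ * X 0 * X 2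
      + C p₁₂ * X 1 * X 2
  have hdeg : f.totalDegree < Fintype.card (Fin 3) := by
    rw [Fintype.card_fin]
    have h1 : ∀ (a : F) (i : Fin 3), (MvPolynomial.C a * MvPolynomial.X i ^ 2 :
        MvPolynomial (Fin 3) F).totalDegree ≤ 2 := by
      intro a i
      refine (MvPolynomial.totalDegree_mul _ _).trans ?_
      rw [MvPolynomial.totalDegree_C, zero_add]
      refine (MvPolynomial.totalDegree_pow _ _).trans ?_
      rw [MvPolynomial.totalDegree_X]
    have h2 : ∀ (a : F) (i j : Fin 3), (MvPolynomial.C a * MvPolynomial.X i * MvPolynomial.X j :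
        MvPolynomial (Fin 3) F).totalDegree ≤ 2 := by
      intro a i j
      refine (MvPolynomial.totalDegree_mul _ _).trans ?_
      have := MvPolynomial.totalDegree_mul (MvPolynomial.C a) (MvPolynomial.X i : MvPolynomial (Fin 3) F)
      rw [MvPolynomial.totalDegree_C, zero_add, MvPolynomial.totalDegree_X] at this
      rw [MvPolynomial.totalDegree_X]
      omega
    have h3 : f.totalDegree ≤ 2 := by
      simp only [f]
      refine (MvPolynomial.totalDegree_add _ _).trans (max_le ?_ (h2 _ _ _))
      refine (MvPolynomial.totalDegree_add _ _).trans (max_le ?_ (h2 _ _ _))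
      refine (MvPolynomial.totalDegree_add _ _).trans (max_le ?_ (h2 _ _ _))
      refine (MvPolynomial.totalDegree_add _ _).trans (max_le ?_ (h1 _ _))
      refine (MvPolynomial.totalDegree_add _ _).trans (max_le (h1 _ _) (h1 _ _))
    omega
  have hdvd := char_dvd_card_solutions p hdeg
  have hzero : MvPolynomial.eval (0 : Fin 3 → F) f = 0 := by
    simp [f]
  have hcard : 1 < Fintype.card {x : Fin 3 → F // MvPolynomial.eval x f = 0} := by
    have hpos : 0 < Fintype.card {x : Fin 3 → F // MvPolynomial.eval x f = 0} :=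
      Fintype.card_pos_iff.2 ⟨⟨0, hzero⟩⟩
    have := Nat.le_of_dvd hpos hdvd
    exact lt_of_lt_of_le hpp.one_lt this
  obtain ⟨⟨x, hx⟩, hne⟩ := Fintype.exists_ne_of_one_lt_card hcard ⟨0, hzero⟩
  refine ⟨x, ?_, ?_⟩
  · intro h
    apply hne
    exact Subtype.ext h
  · have := hx
    simp only [f, map_add, map_mul, map_pow, MvPolynomial.eval_C, MvPolynomial.eval_X] at this
    exact this

end cw

section basic
variable {F : Type u} [Field F] {V : Type v} [AddCommGroup V] [Module F V]
variable (Q : QuadraticForm F V)

theorem map_lin2 (s t : F) (u w : V) :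
    Q (s • u + t • w) = s ^ 2 * Q u + s * t * polar Q u w + t ^ 2 * Q w := by
  rw [QuadraticMap.map_add (⇑Q), QuadraticMap.map_smul, QuadraticMap.map_smul, polar_smul_left,
    polar_smul_right]
  simp only [smul_eq_mul]
  ring

theorem map_lin3 (x y z : F) (a b c : V) :
    Q (x • a + y • b + z • c) = Q a * x ^ 2 + Q b * y ^ 2 + Q c * z ^ 2 + polar Q a b * x * y
      + polar Q a c * x * z + polar Q b c * y * z := by
  rw [QuadraticMap.map_add (⇑Q), map_lin2, QuadraticMap.map_smul, polar_add_left, polar_smul_left,
    polar_smul_right, polar_smul_left, polar_smul_right]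
  simp only [smul_eq_mul]
  ring

theorem polar_self_of_singular {v : V} (hv : Q v = 0) : polar Q v v = 0 := by
  rw [QuadraticMap.polar_self, hv, smul_zero]

/-- a nonzero singular vector of a nondegenerate form has a hyperbolic partner -/
theorem exists_partner (hQ : (polarBilin Q).Nondegenerate) {v : V} (hv0 : v ≠ 0) (hv : Q v = 0) :
    ∃ w : V, polar Q v w = 1 ∧ Q w = 0 := by
  have h1 : ∃ u, polar Q v u ≠ 0 := by
    by_contra hcon
    push Not at hcon
    exact hv0 (hQ.1 v hcon)
  obtain ⟨u, hu⟩ := h1
  obtain ⟨u₁, h2⟩ : ∃ u₁, polar Q v u₁ = 1 :=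
    ⟨(polar Q v u)⁻¹ • u, by rw [polar_smul_right, smul_eq_mul, inv_mul_cancel₀ hu]⟩
  have hvv := polar_self_of_singular Q hv
  refine ⟨u₁ - Q u₁ • v, ?_, ?_⟩
  · rw [polar_sub_right, polar_smul_right, hvv, smul_zero, sub_zero, h2]
  · have h3 : u₁ - Q u₁ • v = (1 : F) • u₁ + (-Q u₁) • v := by
      rw [one_smul, neg_smul, sub_eq_add_neg]
    rw [h3, map_lin2, polar_comm, h2, hv]
    ring

/-- hyperbolic family -/
structure HypFam {k : ℕ} (e f : Fin k → V) : Prop where
  qe : ∀ i, Q (e i) = 0
  qf : ∀ i, Q (f i) = 0
  ef : ∀ i j, polar Q (e i) (f j) = if i = j then 1 else 0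
  ee : ∀ i j, polar Q (e i) (e j) = 0
  ff : ∀ i j, polar Q (f i) (f j) = 0

theorem polar_comp_subtype (W : Submodule F V) (a b : W) :
    polar (Q.comp W.subtype) a b = polar Q (a : V) (b : V) := by
  simp [polar, QuadraticMap.comp_apply]

theorem polarBilin_isRefl : LinearMap.BilinForm.IsRefl (polarBilin Q) := by
  intro x y h
  show polar Q y x = 0
  rw [polar_comm]
  exact h

theorem polar_sum_left {ι : Type*} (s : Finset ι) (c : ι → F) (g : ι → V) (y : V) :
    polar Q (∑ i ∈ s, c i • g i) y = ∑ i ∈ s, c i * polar Q (g i) y := by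
  have h : ∀ x, polar Q x y = polarBilin Q x y := fun x => rfl
  rw [h, map_sum, LinearMap.sum_apply]
  apply Finset.sum_congr rfl
  intro i _
  rw [map_smul, LinearMap.smul_apply, smul_eq_mul]
  rfl

/-- a hyperbolic family together with an independent family orthogonal to it is independent -/
theorem HypFam.linearIndependent {k : ℕ} {e f : Fin k → V} (h : HypFam Q e f)
    {ι : Type w} [Fintype ι] (z : ι → V) (hz : LinearIndependent F z)
    (hze : ∀ l i, polar Q (z l) (e i) = 0) (hzf : ∀ l i, polar Q (z l) (f i) = 0) :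
    LinearIndependent F (Sum.elim (Sum.elim e f) z) := by
  classical
  rw [Fintype.linearIndependent_iff]
  intro c hc
  rw [Fintype.sum_sum_type, Fintype.sum_sum_type] at hc
  simp only [Sum.elim_inl, Sum.elim_inr] at hc
  have ha : ∀ j, c (Sum.inl (Sum.inl j)) = 0 := by
    intro j
    have h1 := congrArg (fun x => polar Q x (f j)) hc
    simp only [polar_add_left, polar_sum_left] at h1
    rw [show polar Q 0 (f j) = 0 from by simp [polar]] at h1
    rw [Finset.sum_eq_single j, h.ef, if_pos rfl, mul_one, Finset.sum_eq_zero, Finset.sum_eq_zero,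
      add_zero, add_zero] at h1
    · exact h1
    · intro l _; rw [hzf, mul_zero]
    · intro i _; rw [h.ff, mul_zero]
    · intro i _ hij; rw [h.ef, if_neg hij, mul_zero]
    · intro hj; exact absurd (Finset.mem_univ _) hj
  have hb : ∀ j, c (Sum.inl (Sum.inr j)) = 0 := by
    intro j
    have h1 := congrArg (fun x => polar Q x (e j)) hc
    simp only [polar_add_left, polar_sum_left] at h1
    rw [show polar Q 0 (e j) = 0 from by simp [polar]] at h1
    rw [Finset.sum_eq_zero, zero_add, Finset.sum_eq_single j, polar_comm, h.ef, if_pos rfl, mul_one,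
      Finset.sum_eq_zero, add_zero] at h1
    · exact h1
    · intro l _; rw [hze, mul_zero]
    · intro i _ hij; rw [polar_comm, h.ef, if_neg (Ne.symm hij), mul_zero]
    · intro hj; exact absurd (Finset.mem_univ _) hj
    · intro i _; rw [h.ee, mul_zero]
  have hc' : ∑ l, c (Sum.inr l) • z l = 0 := by
    rw [Finset.sum_eq_zero, Finset.sum_eq_zero, zero_add, zero_add] at hc
    · exact hc
    · intro i _; rw [hb, zero_smul]
    · intro i _; rw [ha, zero_smul]
  have hcz := Fintype.linearIndependent_iff.1 hz (fun l => c (Sum.inr l)) hc'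
  rintro ((i | i) | l)
  · exact ha i
  · exact hb i
  · exact hcz l

theorem HypFam.linearIndependent' {k : ℕ} {e f : Fin k → V} (h : HypFam Q e f) :
    LinearIndependent F (Sum.elim e f) := by
  have h1 := h.linearIndependent Q (ι := PEmpty.{1}) (fun l => l.elim)
    (linearIndependent_empty_type) (fun l => l.elim) (fun l => l.elim)
  exact h1.comp Sum.inl Sum.inl_injective


section finiteField
variable [Finite F]

theorem exists_singular_of_linearIndependent (b : Fin 3 → V) (hb : LinearIndependent F b) :
    ∃ v : V, v ≠ 0 ∧ Q v = 0 := by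
  obtain ⟨x, hx0, hx⟩ := exists_ternary_zero (Q (b 0)) (Q (b 1)) (Q (b 2)) (polar Q (b 0) (b 1))
    (polar Q (b 0) (b 2)) (polar Q (b 1) (b 2))
  refine ⟨x 0 • b 0 + x 1 • b 1 + x 2 • b 2, ?_, ?_⟩
  · intro h
    apply hx0
    have h1 := Fintype.linearIndependent_iff.1 hb x (by rw [Fin.sum_univ_three]; exact h)
    funext i
    exact h1 i
  · rw [map_lin3]; exact hx

theorem exists_singular_of_finrank [FiniteDimensional F V] (h : 3 ≤ finrank F V) :
    ∃ v : V, v ≠ 0 ∧ Q v = 0 := by
  let bs := Module.finBasis F V
  have hli : LinearIndependent F (fun i : Fin 3 => bs (Fin.castLE h i)) :=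
    bs.linearIndependent.comp _ (Fin.castLE_injective h)
  exact exists_singular_of_linearIndependent Q _ hli

/-- an anisotropic binary form over a finite field is universal -/
theorem exists_represents (u w : V)
    (haniso : ∀ s t : F, Q (s • u + t • w) = 0 → s = 0 ∧ t = 0) (d : F) :
    ∃ s t : F, Q (s • u + t • w) = d := by
  obtain ⟨x, hx0, hx⟩ := exists_ternary_zero (Q u) (Q w) (-d) (polar Q u w) 0 0
  have h1 : Q (x 0 • u + x 1 • w) = d * x 2 ^ 2 := by
    rw [map_lin2]
    linear_combination hx
  have hx2 : x 2 ≠ 0 := by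
    intro h
    rw [h] at h1
    have h2 := haniso (x 0) (x 1) (by rw [h1]; ring)
    apply hx0
    funext i
    fin_cases i
    · exact h2.1
    · exact h2.2
    · exact h
  refine ⟨x 0 / x 2, x 1 / x 2, ?_⟩
  have h3 : (x 0 / x 2) • u + (x 1 / x 2) • w = (x 2)⁻¹ • (x 0 • u + x 1 • w) := by
    rw [smul_add, smul_smul, smul_smul, div_eq_inv_mul, div_eq_inv_mul]
  rw [h3, QuadraticMap.map_smul, h1, smul_eq_mul]
  field_simp

end finiteField

section findim
variable [FiniteDimensional F V]

/-- the orthogonal complement of a hyperbolic pair -/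
theorem hyp_complement (hQ : (polarBilin Q).Nondegenerate) {v w : V} (hv : Q v = 0) (hw : Q w = 0)
    (hvw : polar Q v w = 1) :
    let W := LinearMap.BilinForm.orthogonal (polarBilin Q) (Submodule.span F {v, w})
    (polarBilin (Q.comp W.subtype)).Nondegenerate ∧ finrank F W < finrank F V ∧
      ∀ x : V, x ∈ W ↔ polar Q v x = 0 ∧ polar Q w x = 0 := by
  intro W
  have hvv := polar_self_of_singular Q hv
  have hww := polar_self_of_singular Q hw
  have hwv : polar Q w v = 1 := by rw [polar_comm]; exact hvw
  have hmem : ∀ x : V, x ∈ W ↔ polar Q v x = 0 ∧ polar Q w x = 0 := by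
    intro x
    constructor
    · intro hx
      exact ⟨hx v (Submodule.subset_span (by simp)), hx w (Submodule.subset_span (by simp))⟩
    · rintro ⟨h1, h2⟩ n hn
      obtain ⟨a, b, rfl⟩ := Submodule.mem_span_pair.1 hn
      show polar Q (a • v + b • w) x = 0
      rw [polar_add_left, polar_smul_left, polar_smul_left, h1, h2, smul_zero, smul_zero, add_zero]
  have hdisj : Disjoint W (Submodule.span F {v, w}) := by
    rw [Submodule.disjoint_def]
    intro x hxW hxH
    obtain ⟨a, b, rfl⟩ := Submodule.mem_span_pair.1 hxH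
    obtain ⟨h1, h2⟩ := (hmem _).1 hxW
    rw [polar_add_right, polar_smul_right, polar_smul_right, hvv, hvw, smul_zero, zero_add,
      smul_eq_mul, mul_one] at h1
    rw [polar_add_right, polar_smul_right, polar_smul_right, hww, hwv, smul_zero, add_zero,
      smul_eq_mul, mul_one] at h2
    rw [h1, h2, zero_smul, zero_smul, add_zero]
  refine ⟨?_, ?_, hmem⟩
  · have h1 : LinearMap.BilinForm.orthogonal (polarBilin Q) W = Submodule.span F {v, w} :=
      LinearMap.BilinForm.orthogonal_orthogonal hQ (polarBilin_isRefl Q) _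
    have h2 : (LinearMap.BilinForm.restrict (polarBilin Q) W).Nondegenerate :=
      LinearMap.BilinForm.nondegenerate_restrict_of_disjoint_orthogonal _ (polarBilin_isRefl Q)
        (by rw [h1]; exact hdisj)
    have h3 : polarBilin (Q.comp W.subtype) = LinearMap.BilinForm.restrict (polarBilin Q) W := by
      ext a b
      exact polar_comp_subtype Q W a b
    rw [h3]; exact h2
  · apply Submodule.finrank_lt
    intro htop
    have : v ∈ W := by rw [htop]; trivial
    have h1 := ((hmem v).1 this).2
    rw [hwv] at h1
    exact one_ne_zero h1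

theorem HypFam.exists_complement {k : ℕ} {e f : Fin k → V} (h : HypFam Q e f)
    (hQ : (polarBilin Q).Nondegenerate) :
    ∃ W : Submodule F V, (∀ x, x ∈ W ↔ ∀ i, polar Q (e i) x = 0 ∧ polar Q (f i) x = 0) ∧
      finrank F W + 2 * k = finrank F V := by
  classical
  set U := Submodule.span F (Set.range (Sum.elim e f)) with hU
  refine ⟨LinearMap.BilinForm.orthogonal (polarBilin Q) U, ?_, ?_⟩
  · intro x
    constructor
    · intro hx i
      exact ⟨hx _ (Submodule.subset_span ⟨Sum.inl i, rfl⟩),
        hx _ (Submodule.subset_span ⟨Sum.inr i, rfl⟩)⟩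
    · intro hx n hn
      show polarBilin Q n x = 0
      induction hn using Submodule.span_induction with
      | mem y hy =>
        obtain ⟨i | i, rfl⟩ := hy
        · exact (hx i).1
        · exact (hx i).2
      | zero => simp
      | add a b _ _ ha hb => rw [map_add, LinearMap.add_apply, ha, hb, add_zero]
      | smul c a _ ha => rw [map_smul, LinearMap.smul_apply, ha, smul_zero]
  · have h1 : finrank F U = 2 * k := by
      rw [hU, finrank_span_eq_card (h.linearIndependent' Q), Fintype.card_sum, Fintype.card_fin]
      ring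
    have h2 := LinearMap.BilinForm.finrank_orthogonal hQ U
    have h3 : finrank F U ≤ finrank F V := Submodule.finrank_le U
    omega

end findim

end basic

section witt
variable {F : Type u} [Field F]

theorem exists_witt_aux (n : ℕ) : ∀ (V : Type v) [AddCommGroup V] [Module F V]
    [FiniteDimensional F V] (Q : QuadraticForm F V), (polarBilin Q).Nondegenerate →
    finrank F V = n →
    ∃ (k : ℕ) (e f : Fin k → V), HypFam Q e f ∧
      ∀ x : V, (∀ i, polar Q (e i) x = 0 ∧ polar Q (f i) x = 0) → Q x = 0 → x = 0 := by
  induction n using Nat.strong_induction_on with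
  | _ n ih =>
  intro V _ _ _ Q hQ hn
  by_cases hex : ∃ v : V, v ≠ 0 ∧ Q v = 0
  · obtain ⟨v, hv0, hv⟩ := hex
    obtain ⟨w, hvw, hw⟩ := exists_partner Q hQ hv0 hv
    obtain ⟨hW, hlt, hmem⟩ := hyp_complement Q hQ hv hw hvw
    set W := LinearMap.BilinForm.orthogonal (polarBilin Q) (Submodule.span F {v, w}) with hWdef
    obtain ⟨k, e', f', hH, haniso⟩ := ih (finrank F W) (by rw [← hn]; exact hlt) W
      (Q.comp W.subtype) hW rfl
    have hvv := polar_self_of_singular Q hv
    have hww := polar_self_of_singular Q hw
    have hwv : polar Q w v = 1 := by rw [polar_comm]; exact hvw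
    refine ⟨k + 1, Fin.cons v (fun i => (e' i : V)), Fin.cons w (fun i => (f' i : V)), ?_, ?_⟩
    · constructor
      · intro i
        induction i using Fin.cases with
        | zero => exact hv
        | succ i => exact hH.qe i
      · intro i
        induction i using Fin.cases with
        | zero => exact hw
        | succ i => exact hH.qf i
      · intro i j
        induction i using Fin.cases with
        | zero =>
          induction j using Fin.cases with
          | zero => simpa using hvw
          | succ j =>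
            simp only [Fin.cons_zero, Fin.cons_succ]
            rw [if_neg (Fin.succ_ne_zero j).symm]
            exact ((hmem _).1 (f' j).2).1
        | succ i =>
          induction j using Fin.cases with
          | zero =>
            simp only [Fin.cons_zero, Fin.cons_succ]
            rw [if_neg (Fin.succ_ne_zero i), polar_comm]
            exact ((hmem _).1 (e' i).2).2
          | succ j =>
            simp only [Fin.cons_succ, Fin.succ_inj]
            rw [← polar_comp_subtype Q W]
            exact hH.ef i j
      · intro i j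
        induction i using Fin.cases with
        | zero =>
          induction j using Fin.cases with
          | zero => simpa using hvv
          | succ j =>
            simp only [Fin.cons_zero, Fin.cons_succ]
            exact ((hmem _).1 (e' j).2).1
        | succ i =>
          induction j using Fin.cases with
          | zero =>
            simp only [Fin.cons_zero, Fin.cons_succ]
            rw [polar_comm]
            exact ((hmem _).1 (e' i).2).1
          | succ j =>
            simp only [Fin.cons_succ]
            rw [← polar_comp_subtype Q W]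
            exact hH.ee i j
      · intro i j
        induction i using Fin.cases with
        | zero =>
          induction j using Fin.cases with
          | zero => simpa using hww
          | succ j =>
            simp only [Fin.cons_zero, Fin.cons_succ]
            exact ((hmem _).1 (f' j).2).2
        | succ i =>
          induction j using Fin.cases with
          | zero =>
            simp only [Fin.cons_zero, Fin.cons_succ]
            rw [polar_comm]
            exact ((hmem _).1 (f' i).2).2
          | succ j =>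
            simp only [Fin.cons_succ]
            rw [← polar_comp_subtype Q W]
            exact hH.ff i j
    · intro x hx hQx
      have hxW : x ∈ W := by
        rw [hmem]
        have := hx 0
        simpa using this
      have h1 := haniso ⟨x, hxW⟩ (by
        intro i
        have := hx i.succ
        simp only [Fin.cons_succ] at this
        rw [polar_comp_subtype, polar_comp_subtype]
        exact this) hQx
      exact congrArg Subtype.val h1
  · push Not at hex
    refine ⟨0, Fin.elim0, Fin.elim0, ⟨fun i => i.elim0, fun i => i.elim0, fun i => i.elim0,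
      fun i => i.elim0, fun i => i.elim0⟩, ?_⟩
    intro x _ hQx
    by_contra hx0
    exact hex x hx0 hQx


/-- Witt decomposition over a finite field: hyperbolic pairs plus an anisotropic complement of
dimension at most two. -/
theorem exists_witt [Finite F] {V : Type v} [AddCommGroup V] [Module F V] [FiniteDimensional F V]
    (Q : QuadraticForm F V) (hQ : (polarBilin Q).Nondegenerate) :
    ∃ (k : ℕ) (e f : Fin k → V) (W : Submodule F V), HypFam Q e f ∧
      (∀ x, x ∈ W ↔ ∀ i, polar Q (e i) x = 0 ∧ polar Q (f i) x = 0) ∧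
      finrank F W + 2 * k = finrank F V ∧ finrank F W ≤ 2 ∧ (∀ x ∈ W, Q x = 0 → x = 0) := by
  obtain ⟨k, e, f, hH, haniso⟩ := exists_witt_aux (F := F) _ V Q hQ rfl
  obtain ⟨W, hmem, hdim⟩ := hH.exists_complement Q hQ
  have hanisoW : ∀ x ∈ W, Q x = 0 → x = 0 := fun x hx hQx => haniso x ((hmem x).1 hx) hQx
  refine ⟨k, e, f, W, hH, hmem, hdim, ?_, hanisoW⟩
  by_contra hcon
  push Not at hcon
  obtain ⟨v, hv0, hv⟩ := exists_singular_of_finrank (Q.comp W.subtype) (by omega)
  apply hv0
  apply Subtype.ext
  exact hanisoW v.1 v.2 hv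

end witt

section more
variable {F : Type u} [Field F] {V : Type v} [AddCommGroup V] [Module F V]
variable (Q : QuadraticForm F V)

theorem polar_sum_right {ι : Type*} (s : Finset ι) (c : ι → F) (g : ι → V) (y : V) :
    polar Q y (∑ i ∈ s, c i • g i) = ∑ i ∈ s, c i * polar Q y (g i) := by
  rw [polar_comm, polar_sum_left]
  apply Finset.sum_congr rfl
  intro i _
  rw [polar_comm]

/-- the orthogonal complement of a hyperbolic family is nondegenerate -/
theorem HypFam.exists_polar_ne_zero {k : ℕ} {e f : Fin k → V} (h : HypFam Q e f)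
    (hQ : (polarBilin Q).Nondegenerate) (x : V)
    (hx : ∀ i, polar Q (e i) x = 0 ∧ polar Q (f i) x = 0) (hx0 : x ≠ 0) :
    ∃ y : V, (∀ i, polar Q (e i) y = 0 ∧ polar Q (f i) y = 0) ∧ polar Q x y ≠ 0 := by
  classical
  have h1 : ∃ y', polar Q x y' ≠ 0 := by
    by_contra hcon
    push Not at hcon
    exact hx0 (hQ.1 x hcon)
  obtain ⟨y', hy'⟩ := h1
  refine ⟨y' - ∑ i, polar Q y' (f i) • e i - ∑ i, polar Q y' (e i) • f i, ?_, ?_⟩
  · intro j
    constructor
    · rw [polar_sub_right, polar_sub_right, polar_sum_right, polar_sum_right]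
      rw [Finset.sum_eq_zero (fun i _ => by rw [h.ee, mul_zero]), Finset.sum_eq_single j]
      · rw [h.ef, if_pos rfl, mul_one, sub_zero, polar_comm, sub_self]
      · intro i _ hij; rw [h.ef, if_neg (Ne.symm hij), mul_zero]
      · intro hj; exact absurd (Finset.mem_univ _) hj
    · rw [polar_sub_right, polar_sub_right, polar_sum_right, polar_sum_right]
      rw [Finset.sum_eq_zero (fun i _ => by rw [h.ff, mul_zero] : ∀ i ∈ Finset.univ,
        polar Q y' (e i) * polar Q (f j) (f i) = 0), Finset.sum_eq_single j]
      · rw [polar_comm Q (f j) (e j), h.ef, if_pos rfl, mul_one, sub_zero, polar_comm, sub_self]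
      · intro i _ hij; rw [polar_comm Q (f j) (e i), h.ef, if_neg hij, mul_zero]
      · intro hj; exact absurd (Finset.mem_univ _) hj
  · rw [polar_sub_right, polar_sub_right, polar_sum_right, polar_sum_right]
    rw [Finset.sum_eq_zero, Finset.sum_eq_zero, sub_zero, sub_zero]
    · exact hy'
    · intro i _; rw [polar_comm Q x (f i), (hx i).2, mul_zero]
    · intro i _; rw [polar_comm Q x (e i), (hx i).1, mul_zero]

/-- In an anisotropic nondegenerate plane over a finite field there are independent `x, y` with
`Q x = 1` and `B(x,y) = 1`. -/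
theorem exists_elliptic_pair [Finite F] [FiniteDimensional F V] (W : Submodule F V)
    (hW2 : finrank F W = 2)
    (haniso : ∀ x ∈ W, Q x = 0 → x = 0)
    (hnd : ∀ x ∈ W, x ≠ 0 → ∃ y ∈ W, polar Q x y ≠ 0) :
    ∃ x y : V, x ∈ W ∧ y ∈ W ∧ Q x = 1 ∧ polar Q x y = 1 ∧ LinearIndependent F ![x, y] := by
  classical
  let bw : Basis (Fin 2) F W := Module.finBasisOfFinrankEq F W hW2
  have hpair : ∀ s t : F, Q (s • (bw 0 : V) + t • (bw 1 : V)) = 0 → s = 0 ∧ t = 0 := by
    intro s t hst
    have h1 : s • (bw 0 : V) + t • (bw 1 : V) ∈ W :=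
      W.add_mem (W.smul_mem _ (bw 0).2) (W.smul_mem _ (bw 1).2)
    have h2 := haniso _ h1 hst
    have h3 : s • bw 0 + t • bw 1 = 0 := Subtype.ext h2
    have h4 := Fintype.linearIndependent_iff.1 bw.linearIndependent ![s, t]
      (by rw [Fin.sum_univ_two]; simpa using h3)
    exact ⟨by simpa using h4 0, by simpa using h4 1⟩
  obtain ⟨x, hxW, hst⟩ : ∃ x ∈ W, Q x = 1 := by
    obtain ⟨s, t, hst⟩ := exists_represents Q (bw 0 : V) (bw 1 : V) hpair 1
    exact ⟨_, W.add_mem (W.smul_mem _ (bw 0).2) (W.smul_mem _ (bw 1).2), hst⟩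
  have hx0 : x ≠ 0 := by
    intro h
    rw [h, QuadraticMap.map_zero] at hst
    exact zero_ne_one hst
  have hx0' : (⟨x, hxW⟩ : W) ≠ 0 := fun h => hx0 (congrArg Subtype.val h)
  obtain ⟨z', hz'⟩ := exists_linearIndependent_pair_of_one_lt_finrank (by rw [hW2]; exact one_lt_two)
    hx0'
  let bW : Basis (Fin 2) F W := basisOfLinearIndependentOfCardEqFinrank hz' (by rw [hW2]; rfl)
  have hbW0 : bW 0 = ⟨x, hxW⟩ := by simp [bW]
  have hbW1 : bW 1 = z' := by simp [bW]
  -- not both `B(x,x)` and `B(x,z)` vanish
  have hpr : ¬ (polar Q x x = 0 ∧ polar Q x (z' : V) = 0) := by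
    rintro ⟨hp, hr⟩
    obtain ⟨y₀, hy₀W, hy₀⟩ := hnd x hxW hx0
    have h1 := bW.sum_repr ⟨y₀, hy₀W⟩
    rw [Fin.sum_univ_two, hbW0, hbW1] at h1
    have h2 : y₀ = bW.repr ⟨y₀, hy₀W⟩ 0 • x + bW.repr ⟨y₀, hy₀W⟩ 1 • (z' : V) := by
      have := congrArg Subtype.val h1
      simpa using this.symm
    apply hy₀
    rw [h2, polar_add_right, polar_smul_right, polar_smul_right, hp, hr, smul_zero, smul_zero,
      add_zero]
  rw [LinearIndependent.pair_iff] at hz'
  have hli : ∀ a b : F, a • x + b • (z' : V) = 0 → a = 0 ∧ b = 0 := by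
    intro a b hab
    apply hz' a b
    apply Subtype.ext
    exact hab
  by_cases hr : polar Q x (z' : V) = 0
  · have hp : polar Q x x ≠ 0 := fun hp => hpr ⟨hp, hr⟩
    refine ⟨x, (z' : V) + (polar Q x x)⁻¹ • x, hxW, W.add_mem z'.2 (W.smul_mem _ hxW), hst, ?_, ?_⟩
    · rw [polar_add_right, polar_smul_right, hr, zero_add, smul_eq_mul, inv_mul_cancel₀ hp]
    · rw [LinearIndependent.pair_iff]
      intro a b hab
      have h1 : (a + b * (polar Q x x)⁻¹) • x + b • (z' : V) = 0 := by
        rw [← hab]
        module
      obtain ⟨h2, h3⟩ := hli _ _ h1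
      rw [h3, zero_mul, add_zero] at h2
      exact ⟨h2, h3⟩
  · refine ⟨x, (polar Q x (z' : V))⁻¹ • (z' : V), hxW, W.smul_mem _ z'.2, hst, ?_, ?_⟩
    · rw [polar_smul_right, smul_eq_mul, inv_mul_cancel₀ hr]
    · rw [LinearIndependent.pair_iff]
      intro a b hab
      rw [smul_smul] at hab
      obtain ⟨h2, h3⟩ := hli _ _ hab
      refine ⟨h2, ?_⟩
      rcases mul_eq_zero.1 h3 with h | h
      · exact h
      · exact absurd (inv_eq_zero.1 h) hr

end more

section ext
variable {F : Type u} [Field F] {V : Type v} [AddCommGroup V] [Module F V]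

/-- a quadratic form vanishing on a basis with vanishing polar form on the basis is zero -/
theorem eq_zero_of_basis {ι : Type w} [Fintype ι] (D : QuadraticForm F V) (b : Basis ι F V)
    (h1 : ∀ i, D (b i) = 0) (h2 : ∀ i j, polar D (b i) (b j) = 0) (v : V) : D v = 0 := by
  classical
  have hB : polarBilin D = 0 := by
    apply LinearMap.BilinForm.ext_basis b
    intro i j
    exact h2 i j
  have hadd : ∀ x y, D (x + y) = D x + D y := by
    intro x y
    have : polar D x y = 0 := by
      have := LinearMap.congr_fun (LinearMap.congr_fun hB x) y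
      exact this
    rw [QuadraticMap.map_add (⇑D), this, add_zero]
  let Dhom : V →+ F := { toFun := D, map_zero' := QuadraticMap.map_zero D, map_add' := hadd }
  have : D v = Dhom (∑ i, b.repr v i • b i) := by rw [b.sum_repr]; rfl
  rw [this, map_sum]
  apply Finset.sum_eq_zero
  intro i _
  show D (b.repr v i • b i) = 0
  rw [QuadraticMap.map_smul, h1, smul_zero]

theorem ext_basis {ι : Type w} [Fintype ι] (Q₁ Q₂ : QuadraticForm F V) (b : Basis ι F V)
    (h1 : ∀ i, Q₁ (b i) = Q₂ (b i)) (h2 : ∀ i j, polar Q₁ (b i) (b j) = polar Q₂ (b i) (b j))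
    (v : V) : Q₁ v = Q₂ v := by
  have := eq_zero_of_basis (Q₁ - Q₂) b (fun i => by simp [h1])
    (fun i j => by
      have : polar (⇑(Q₁ - Q₂)) (b i) (b j) = polar Q₁ (b i) (b j) - polar Q₂ (b i) (b j) := by
        simp only [polar, sub_apply]; ring
      rw [this, h2, sub_self]) v
  rw [sub_apply, sub_eq_zero] at this
  exact this

/-- a linear map scaling a nondegenerate quadratic form by `c ≠ 0` on a basis is a similarity -/
theorem exists_similarity_of_basis [FiniteDimensional F V] {ι : Type w} [Fintype ι]
    (Q : QuadraticForm F V) (hQ : (polarBilin Q).Nondegenerate) (b : Basis ι F V) (c : F)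
    (hc : c ≠ 0) (t : ι → V) (h1 : ∀ i, Q (t i) = c * Q (b i))
    (h2 : ∀ i j, polar Q (t i) (t j) = c * polar Q (b i) (b j)) :
    ∃ g : V ≃ₗ[F] V, ∀ v, Q (g v) = c * Q v := by
  classical
  let g₀ : V →ₗ[F] V := b.constr F t
  have hg₀ : ∀ i, g₀ (b i) = t i := fun i => b.constr_basis F t i
  have hQg : ∀ v, Q (g₀ v) = c * Q v := by
    intro v
    have := ext_basis (Q.comp g₀) (c • Q) b (fun i => by
      rw [QuadraticMap.comp_apply, hg₀, h1]; rfl)
      (fun i j => by
        have e1 : polar (⇑(Q.comp g₀)) (b i) (b j) = polar Q (g₀ (b i)) (g₀ (b j)) := by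
          simp [polar, QuadraticMap.comp_apply]
        have e2 : polar (⇑(c • Q)) (b i) (b j) = c * polar Q (b i) (b j) := by
          simp only [polar, smul_apply, smul_eq_mul]; ring
        rw [e1, e2, hg₀, hg₀, h2]) v
    exact this
  have hinj : Function.Injective g₀ := by
    rw [← LinearMap.ker_eq_bot, LinearMap.ker_eq_bot']
    intro v hv
    apply hQ.1 v
    intro w
    show polar Q v w = 0
    have h3 : polar Q (g₀ v) (g₀ w) = c * polar Q v w := by
      simp only [polar, ← map_add, hQg]; ring
    rw [hv] at h3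
    have h4 : polar Q 0 (g₀ w) = 0 := by simp [polar]
    rw [h4] at h3
    rcases mul_eq_zero.1 h3.symm with h | h
    · exact absurd h hc
    · exact h
  exact ⟨LinearEquiv.ofInjectiveEndo g₀ hinj, fun v => hQg v⟩

end ext


section odd
variable {F : Type u} [Field F]

/-- a nondegenerate quadratic form of dimension at least two over a finite field represents `1` -/
theorem exists_represents_one [Finite F] {V : Type v} [AddCommGroup V] [Module F V]
    [FiniteDimensional F V] (Q : QuadraticForm F V) (hQ : (polarBilin Q).Nondegenerate)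
    (hdim : 2 ≤ finrank F V) : ∃ v : V, Q v = 1 := by
  classical
  obtain ⟨k, e, f, W, hH, hmem, hd, hW2, haniso⟩ := exists_witt Q hQ
  rcases Nat.eq_zero_or_pos k with hk | hk
  · subst hk
    have hW : finrank F W = 2 := by omega
    let bw : Basis (Fin 2) F W := Module.finBasisOfFinrankEq F W hW
    have hpair : ∀ s t : F, Q (s • (bw 0 : V) + t • (bw 1 : V)) = 0 → s = 0 ∧ t = 0 := by
      intro s t hst
      have h1 : s • (bw 0 : V) + t • (bw 1 : V) ∈ W :=
        W.add_mem (W.smul_mem _ (bw 0).2) (W.smul_mem _ (bw 1).2)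
      have h2 := haniso _ h1 hst
      have h3 : s • bw 0 + t • bw 1 = 0 := Subtype.ext h2
      have h4 := Fintype.linearIndependent_iff.1 bw.linearIndependent ![s, t]
        (by rw [Fin.sum_univ_two]; simpa using h3)
      exact ⟨by simpa using h4 0, by simpa using h4 1⟩
    obtain ⟨s, t, hst⟩ := exists_represents Q (bw 0 : V) (bw 1 : V) hpair 1
    exact ⟨_, hst⟩
  · refine ⟨(1 : F) • e ⟨0, hk⟩ + (1 : F) • f ⟨0, hk⟩, ?_⟩
    rw [map_lin2, hH.qe, hH.qf, hH.ef, if_pos rfl]
    ring

theorem exists_orthogonal_family_aux [Finite F] (h2 : (2 : F) ≠ 0) (n : ℕ) :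
    ∀ (V : Type v) [AddCommGroup V] [Module F V] [FiniteDimensional F V] (Q : QuadraticForm F V),
    (polarBilin Q).Nondegenerate → finrank F V = n + 1 →
    ∃ b : Fin (n + 1) → V, (∀ i j, i ≠ j → polar Q (b i) (b j) = 0) ∧
      (∀ i, i ≠ Fin.last n → Q (b i) = 1) ∧ Q (b (Fin.last n)) ≠ 0 := by
  induction n with
  | zero =>
    intro V _ _ _ Q hQ hn
    obtain ⟨x, hx⟩ := Module.finrank_pos_iff_exists_ne_zero.1
      (by rw [hn]; exact Nat.one_pos : 0 < finrank F V)
    have : Subsingleton (Fin (0 + 1)) := (inferInstance : Subsingleton (Fin 1))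
    refine ⟨fun _ => x, ?_, ?_, ?_⟩
    · intro i j hij
      exact absurd (Subsingleton.elim i j) hij
    · intro i hi
      exact absurd (Subsingleton.elim i _) hi
    · intro hQx
      apply hx
      apply hQ.1 x
      intro y
      show polar Q x y = 0
      obtain ⟨c, rfl⟩ := (finrank_eq_one_iff_of_nonzero' x hx).1 hn y
      rw [polar_smul_right, QuadraticMap.polar_self, hQx, smul_zero, smul_zero]
  | succ n ih =>
    intro V _ _ _ Q hQ hn
    obtain ⟨v₀, hv₀⟩ := exists_represents_one Q hQ (by omega)
    have hv₀0 : v₀ ≠ 0 := by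
      intro h
      rw [h, QuadraticMap.map_zero] at hv₀
      exact zero_ne_one hv₀
    have hpol : polarBilin Q v₀ v₀ ≠ 0 := by
      show polar Q v₀ v₀ ≠ 0
      rw [QuadraticMap.polar_self, hv₀]
      simpa using h2
    set W := LinearMap.BilinForm.orthogonal (polarBilin Q) (Submodule.span F {v₀}) with hWdef
    have hWnd : (polarBilin (Q.comp W.subtype)).Nondegenerate := by
      have h3 : polarBilin (Q.comp W.subtype) = LinearMap.BilinForm.restrict (polarBilin Q) W := by
        ext a b
        exact polar_comp_subtype Q W a b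
      rw [h3]
      exact LinearMap.BilinForm.restrict_nondegenerate_orthogonal_spanSingleton _ hQ
        (polarBilin_isRefl Q) hpol
    have hWdim : finrank F W = n + 1 := by
      have h4 := LinearMap.BilinForm.finrank_orthogonal hQ (Submodule.span F {v₀})
      rw [finrank_span_singleton hv₀0, hn, Nat.add_sub_cancel] at h4
      exact h4
    obtain ⟨b', hb1, hb2, hb3⟩ := ih W (Q.comp W.subtype) hWnd hWdim
    have hW0 : ∀ x : W, polar Q v₀ (x : V) = 0 := by
      intro x
      exact x.2 v₀ (Submodule.mem_span_singleton_self v₀)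
    refine ⟨Fin.cons v₀ (fun i => (b' i : V)), ?_, ?_, ?_⟩
    · intro i j hij
      induction i using Fin.cases with
      | zero =>
        induction j using Fin.cases with
        | zero => exact absurd rfl hij
        | succ j => simp only [Fin.cons_zero, Fin.cons_succ]; exact hW0 _
      | succ i =>
        induction j using Fin.cases with
        | zero =>
          simp only [Fin.cons_zero, Fin.cons_succ]
          rw [polar_comm]; exact hW0 _
        | succ j =>
          simp only [Fin.cons_succ]
          rw [← polar_comp_subtype Q W]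
          exact hb1 i j (fun h => hij (by rw [h]))
    · intro i hi
      induction i using Fin.cases with
      | zero => simpa using hv₀
      | succ i =>
        simp only [Fin.cons_succ]
        apply hb2 i
        intro h
        apply hi
        rw [h]; rfl
    · have : Fin.last (n + 1) = Fin.succ (Fin.last n) := rfl
      rw [this, Fin.cons_succ]
      exact hb3

end odd


section twoforms
variable {F : Type u} [Field F] {V : Type v} [AddCommGroup V] [Module F V]

/-- two-form version of `exists_similarity_of_basis` -/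
theorem exists_similarity_of_basis' [FiniteDimensional F V] {ι : Type w} [Fintype ι]
    (Q Q' : QuadraticForm F V) (hQ : (polarBilin Q).Nondegenerate) (b : Basis ι F V) (c : F)
    (hc : c ≠ 0) (t : ι → V) (h1 : ∀ i, Q' (t i) = c * Q (b i))
    (h2 : ∀ i j, polar Q' (t i) (t j) = c * polar Q (b i) (b j)) :
    ∃ g : V ≃ₗ[F] V, ∀ v, Q' (g v) = c * Q v := by
  classical
  let g₀ : V →ₗ[F] V := b.constr F t
  have hg₀ : ∀ i, g₀ (b i) = t i := fun i => b.constr_basis F t i
  have hQg : ∀ v, Q' (g₀ v) = c * Q v := by
    intro v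
    have := ext_basis (Q'.comp g₀) (c • Q) b (fun i => by
      rw [QuadraticMap.comp_apply, hg₀, h1]; rfl)
      (fun i j => by
        have e1 : polar (⇑(Q'.comp g₀)) (b i) (b j) = polar Q' (g₀ (b i)) (g₀ (b j)) := by
          simp [polar, QuadraticMap.comp_apply]
        have e2 : polar (⇑(c • Q)) (b i) (b j) = c * polar Q (b i) (b j) := by
          simp only [polar, smul_apply, smul_eq_mul]; ring
        rw [e1, e2, hg₀, hg₀, h2]) v
    exact this
  have hinj : Function.Injective g₀ := by
    rw [← LinearMap.ker_eq_bot, LinearMap.ker_eq_bot']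
    intro v hv
    apply hQ.1 v
    intro w
    show polar Q v w = 0
    have h3 : polar Q' (g₀ v) (g₀ w) = c * polar Q v w := by
      simp only [polar, ← map_add, hQg]; ring
    rw [hv] at h3
    have h4 : polar Q' 0 (g₀ w) = 0 := by simp [polar]
    rw [h4] at h3
    rcases mul_eq_zero.1 h3.symm with h | h
    · exact absurd h hc
    · exact h
  exact ⟨LinearEquiv.ofInjectiveEndo g₀ hinj, fun v => hQg v⟩

end twoforms

end Cfsg.Agent.Lib.Helper5
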