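import Mathlib
import Cfsg.Prelude
import Cfsg.Agent.Lib.Helper5.QuadFin

set_option autoImplicit false

/-!
Embedding groups of isometries into the standard isometry groups, and extension of scalars for
isometries of quadratic forms given by matrices.
-/

namespace Cfsg.Agent.Lib.Helper5.QuadEmbed

open Matrix

section hom
variable {K : Type*} [Field K] {ι₂ : Type} [Fintype ι₂] [DecidableEq ι₂]
variable {W : Type*} [AddCommGroup W] [Module K W] {G : Type*} [Group G]

/-- A group acting faithfully and linearly on `W`, preserving a function `Q'` which corresponds to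
`Q₂` under a linear equivalence with `ι₂ → K`, embeds in the isometry group of `Q₂`. -/
theorem exists_hom_isometry (Q₂ : (ι₂ → K) → K) (Q' : W → K) (E : W ≃ₗ[K] (ι₂ → K))
    (hE : ∀ w, Q₂ (E w) = Q' w) (ρ : G →* Module.End K W) (hρ : Function.Injective ρ)
    (hpres : ∀ g w, Q' (ρ g w) = Q' w) :
    ∃ φ : G →* ↥(Cfsg.isometryGroup K Q₂), Function.Injective φ := by
  classical
  obtain ⟨ψ, hψ⟩ : ∃ ψ : G →* Matrix ι₂ ι₂ K, ∀ g, ψ g
      = LinearMap.toMatrix' ((E.conjRingEquiv : Module.End K W ≃+* Module.End K (ι₂ → K)) (ρ g)) :=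
    ⟨((LinearMap.toMatrixAlgEquiv' : Module.End K (ι₂ → K) ≃ₐ[K] Matrix ι₂ ι₂ K) :
        Module.End K (ι₂ → K) →* Matrix ι₂ ι₂ K).comp
      (((E.conjRingEquiv : Module.End K W ≃+* Module.End K (ι₂ → K)) :
        Module.End K W →* Module.End K (ι₂ → K)).comp ρ), fun g => rfl⟩
  have hψinj : Function.Injective ψ := by
    intro g h hgh
    apply hρ
    rw [hψ, hψ] at hgh
    exact (E.conjRingEquiv : Module.End K W ≃+* Module.End K (ι₂ → K)).injective
      (LinearMap.toMatrix'.injective hgh)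
  have hmulVec : ∀ g (x : ι₂ → K), ψ g *ᵥ x = E (ρ g (E.symm x)) := by
    intro g x
    rw [hψ, LinearMap.toMatrix'_mulVec]
    rfl
  have hmem : ∀ g, (MonoidHom.toHomUnits ψ g : GL ι₂ K) ∈ Cfsg.isometryGroup K Q₂ := by
    intro g u v
    show Q₂ (ψ g *ᵥ u) = Q₂ u
    rw [hmulVec, hE, hpres, ← hE, LinearEquiv.apply_symm_apply]
  refine ⟨(MonoidHom.toHomUnits ψ).codRestrict _ hmem, ?_⟩
  intro g h hgh
  apply hψinj
  have h1 := congrArg (fun x : ↥(Cfsg.isometryGroup K Q₂) =>
    ((x : GL ι₂ K) : Matrix ι₂ ι₂ K)) hgh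
  exact h1

end hom

section ext
variable {F K : Type*} [Field F] [Field K] {n : Type*} [Fintype n] [DecidableEq n]

theorem dot_toQuadraticMap' (D : Matrix n n K) (w : n → K) :
    D.toQuadraticForm' w = w ⬝ᵥ (D *ᵥ w) := by
  unfold Matrix.toQuadraticForm'
  rw [LinearMap.BilinMap.toQuadraticMap_apply, Matrix.toLinearMap₂'_apply']

/-- A matrix with zero diagonal and `D i j + D j i = 0` gives the zero quadratic form. -/
theorem dot_eq_zero_of_alt (D : Matrix n n K) (h1 : ∀ i, D i i = 0)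
    (h2 : ∀ i j, D i j + D j i = 0) (w : n → K) : w ⬝ᵥ (D *ᵥ w) = 0 := by
  rw [← dot_toQuadraticMap']
  apply Cfsg.Agent.Lib.Helper5.eq_zero_of_basis D.toQuadraticForm' (Pi.basisFun K n)
  · intro i
    rw [dot_toQuadraticMap', Pi.basisFun_apply, Matrix.mulVec_single_one, single_one_dotProduct]
    exact h1 i
  · intro i j
    simp only [QuadraticMap.polar, dot_toQuadraticMap', Pi.basisFun_apply]
    rw [Matrix.mulVec_add, add_dotProduct, dotProduct_add, dotProduct_add]
    simp only [Matrix.mulVec_single_one, single_one_dotProduct, Matrix.col_apply]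
    have := h2 i j
    linear_combination this

/-- Extension of scalars: a matrix preserving the quadratic form `v ↦ v ⬝ᵥ A *ᵥ v` over `F`
preserves the extended form over `K`. -/
theorem quad_ext (ι : F →+* K) (A g : Matrix n n F)
    (hg : ∀ v : n → F, (g *ᵥ v) ⬝ᵥ (A *ᵥ (g *ᵥ v)) = v ⬝ᵥ (A *ᵥ v)) (w : n → K) :
    (g.map ι *ᵥ w) ⬝ᵥ (A.map ι *ᵥ (g.map ι *ᵥ w)) = w ⬝ᵥ (A.map ι *ᵥ w) := by
  obtain ⟨C, hC⟩ : ∃ C : Matrix n n F, C = gᵀ * A * g - A := ⟨_, rfl⟩
  have hCv : ∀ v : n → F, v ⬝ᵥ (C *ᵥ v) = 0 := by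
    intro v
    rw [hC, Matrix.sub_mulVec, dotProduct_sub, ← hg v, sub_eq_zero, ← Matrix.mulVec_mulVec,
      ← Matrix.mulVec_mulVec, Matrix.dotProduct_mulVec, Matrix.vecMul_transpose]
  have h1 : ∀ i, C i i = 0 := by
    intro i
    have := hCv (Pi.single i 1)
    rwa [Matrix.mulVec_single_one, single_one_dotProduct] at this
  have h2 : ∀ i j, C i j + C j i = 0 := by
    intro i j
    have := hCv (Pi.single i 1 + Pi.single j 1)
    rw [Matrix.mulVec_add, add_dotProduct, dotProduct_add, dotProduct_add] at this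
    simp only [Matrix.mulVec_single_one, single_one_dotProduct, Matrix.col_apply, h1] at this
    linear_combination this
  have h3 := dot_eq_zero_of_alt (C.map ι)
    (fun i => by rw [Matrix.map_apply, h1, map_zero])
    (fun i j => by rw [Matrix.map_apply, Matrix.map_apply, ← map_add, h2, map_zero]) w
  have h4 : C.map ι = (g.map ι)ᵀ * A.map ι * g.map ι - A.map ι := by
    have h5 : (gᵀ * A * g - A).map ι = (gᵀ * A * g).map ι - A.map ι := by
      ext i j
      simp only [Matrix.map_apply, Matrix.sub_apply, map_sub]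
    rw [hC, h5, Matrix.map_mul, Matrix.map_mul, Matrix.transpose_map]
  rw [h4, Matrix.sub_mulVec, dotProduct_sub, sub_eq_zero, ← Matrix.mulVec_mulVec,
    ← Matrix.mulVec_mulVec, Matrix.dotProduct_mulVec, Matrix.vecMul_transpose] at h3
  exact h3

end ext

end Cfsg.Agent.Lib.Helper5.QuadEmbed
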