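import Mathlib
import Cfsg.Prelude
import Cfsg.Agent.Lib.Helper5.QuadEmbed

set_option autoImplicit false

/-!
From hyperbolic-type basis data for a quadratic form to the standard coordinate forms
`quadFormPlus` and `quadFormMinus`.
-/

namespace Cfsg.Agent.Lib.Helper5.QuadGlue

open Matrix Module QuadraticMap Cfsg.Agent.Lib.Helper5.QuadEmbed

variable {F : Type*} [Field F]

/-- The matrix of the plus-type form. -/
def Aplus (m : ℕ) (F : Type*) [Field F] : Matrix (Fin m ⊕ Fin m) (Fin m ⊕ Fin m) F :=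
  Matrix.fromBlocks 0 1 0 0

theorem quadFormPlus_eq (m : ℕ) (v : Fin m ⊕ Fin m → F) :
    Cfsg.quadFormPlus m F v = v ⬝ᵥ (Aplus m F *ᵥ v) := by
  unfold Cfsg.quadFormPlus Aplus dotProduct Matrix.mulVec dotProduct
  simp only [Fintype.sum_sum_type, Matrix.fromBlocks_apply₁₁, Matrix.fromBlocks_apply₁₂,
    Matrix.fromBlocks_apply₂₁, Matrix.fromBlocks_apply₂₂, Matrix.zero_apply, zero_mul,
    Finset.sum_const_zero, add_zero, zero_add, Matrix.one_apply, ite_mul, one_mul,
    Finset.sum_ite_eq, Finset.mem_univ, if_true, mul_zero]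

/-- The plus-type form as a quadratic form. -/
noncomputable def QP (m : ℕ) (F : Type*) [Field F] : QuadraticForm F (Fin m ⊕ Fin m → F) :=
  (Aplus m F).toQuadraticForm'

theorem QP_apply (m : ℕ) (v : Fin m ⊕ Fin m → F) : QP m F v = Cfsg.quadFormPlus m F v := by
  rw [quadFormPlus_eq]
  exact dot_toQuadraticMap' _ _

/-- The matrix of the minus-type form. -/
def Aminus (k : ℕ) (F : Type*) [Field F] (a c : F) :
    Matrix ((Fin k ⊕ Fin k) ⊕ Fin 2) ((Fin k ⊕ Fin k) ⊕ Fin 2) F :=
  Matrix.fromBlocks (Matrix.fromBlocks 0 1 0 0) 0 0 !![1, a; 0, c]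

theorem quadFormMinus_eq (k : ℕ) (a c : F) (v : (Fin k ⊕ Fin k) ⊕ Fin 2 → F) :
    Cfsg.quadFormMinus k F a c v = v ⬝ᵥ (Aminus k F a c *ᵥ v) := by
  unfold Cfsg.quadFormMinus Aminus dotProduct Matrix.mulVec dotProduct
  simp only [Fintype.sum_sum_type, Matrix.fromBlocks_apply₁₁, Matrix.fromBlocks_apply₁₂,
    Matrix.fromBlocks_apply₂₁, Matrix.fromBlocks_apply₂₂, Matrix.zero_apply, zero_mul,
    Finset.sum_const_zero, add_zero, zero_add, Matrix.one_apply, Fin.sum_univ_two,
    Matrix.of_apply, Matrix.cons_val', Matrix.cons_val_zero, Matrix.cons_val_one,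
    Matrix.cons_val_fin_one, ite_mul, one_mul, Finset.sum_ite_eq, Finset.mem_univ, if_true,
    mul_zero]
  ring

/-- The minus-type form as a quadratic form. -/
noncomputable def QM (k : ℕ) (F : Type*) [Field F] (a c : F) :
    QuadraticForm F ((Fin k ⊕ Fin k) ⊕ Fin 2 → F) :=
  (Aminus k F a c).toQuadraticForm'

theorem QM_apply (k : ℕ) (a c : F) (v : (Fin k ⊕ Fin k) ⊕ Fin 2 → F) :
    QM k F a c v = Cfsg.quadFormMinus k F a c v := by
  rw [quadFormMinus_eq]
  exact dot_toQuadraticMap' _ _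

variable {V : Type*} [AddCommGroup V] [Module F V]

/-- Two quadratic forms agreeing on a basis and with the same polar form on distinct basis
elements are equal. -/
theorem ext_basis' {ι : Type*} [Fintype ι] (Q₁ Q₂ : QuadraticForm F V) (b : Basis ι F V)
    (h1 : ∀ i, Q₁ (b i) = Q₂ (b i))
    (h2 : ∀ i j, i ≠ j → polar Q₁ (b i) (b j) = polar Q₂ (b i) (b j)) (v : V) : Q₁ v = Q₂ v := by
  apply Cfsg.Agent.Lib.Helper5.ext_basis Q₁ Q₂ b h1
  intro i j
  by_cases hij : i = j
  · subst hij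
    rw [QuadraticMap.polar_self, QuadraticMap.polar_self, h1]
  · exact h2 i j hij


theorem equivFun_basis {ι : Type*} [Fintype ι] [DecidableEq ι] (b : Basis ι F V) (i : ι) :
    b.equivFun (b i) = Pi.single i 1 := by
  funext j
  rw [Basis.equivFun_self, Pi.single_apply]
  simp only [eq_comm]

theorem polar_comp_basis {ι : Type*} [Fintype ι] [DecidableEq ι] (b : Basis ι F V)
    (Q' : QuadraticForm F (ι → F)) (i j : ι) :
    polar (Q'.comp b.equivFun.toLinearMap) (b i) (b j)
      = Q' (Pi.single i 1 + Pi.single j 1) - Q' (Pi.single i 1) - Q' (Pi.single j 1) := by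
  simp only [polar, QuadraticMap.comp_apply, LinearEquiv.coe_coe, map_add, equivFun_basis]

theorem plus_glue {m : ℕ} (Q : QuadraticForm F V) (b : Basis (Fin m ⊕ Fin m) F V)
    (h0 : ∀ i, Q (b (Sum.inl i)) = 0 ∧ Q (b (Sum.inr i)) = 0)
    (h1 : ∀ i j, polar Q (b (Sum.inl i)) (b (Sum.inr j)) = if i = j then 1 else 0)
    (h2 : ∀ i j, polar Q (b (Sum.inl i)) (b (Sum.inl j)) = 0 ∧
      polar Q (b (Sum.inr i)) (b (Sum.inr j)) = 0)
    (v : V) : Q v = Cfsg.quadFormPlus m F (b.equivFun v) := by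
  classical
  rw [← QP_apply]
  have hs : ∀ i : Fin m ⊕ Fin m, QP m F (Pi.single i 1) = 0 := by
    intro i
    rw [QP_apply]
    rcases i with a | a <;> simp [Cfsg.quadFormPlus]
  refine ext_basis' Q ((QP m F).comp b.equivFun.toLinearMap) b ?_ ?_ v
  · intro i
    rw [QuadraticMap.comp_apply, LinearEquiv.coe_coe, equivFun_basis, hs]
    rcases i with a | a
    · exact (h0 a).1
    · exact (h0 a).2
  · intro i j hij
    rw [polar_comp_basis, hs, hs, sub_zero, sub_zero, QP_apply]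
    rcases i with a | a <;> rcases j with c | c
    · rw [(h2 a c).1]
      simp [Cfsg.quadFormPlus]
    · rw [h1]
      simp [Cfsg.quadFormPlus, Pi.single_apply, Finset.sum_ite_eq, eq_comm]
    · rw [QuadraticMap.polar_comm, h1]
      simp [Cfsg.quadFormPlus, Pi.single_apply, Finset.sum_ite_eq, eq_comm]
    · rw [(h2 a c).2]
      simp [Cfsg.quadFormPlus]


theorem minus_glue {k : ℕ} (Q : QuadraticForm F V) (b : Basis ((Fin k ⊕ Fin k) ⊕ Fin 2) F V)
    (a c : F)
    (h0 : ∀ i, Q (b (Sum.inl (Sum.inl i))) = 0 ∧ Q (b (Sum.inl (Sum.inr i))) = 0)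
    (h1 : ∀ i j, polar Q (b (Sum.inl (Sum.inl i))) (b (Sum.inl (Sum.inr j)))
      = if i = j then 1 else 0)
    (h2 : ∀ i j, polar Q (b (Sum.inl (Sum.inl i))) (b (Sum.inl (Sum.inl j))) = 0 ∧
      polar Q (b (Sum.inl (Sum.inr i))) (b (Sum.inl (Sum.inr j))) = 0)
    (h3 : ∀ i (l : Fin 2), polar Q (b (Sum.inl (Sum.inl i))) (b (Sum.inr l)) = 0 ∧
      polar Q (b (Sum.inl (Sum.inr i))) (b (Sum.inr l)) = 0)
    (h4 : Q (b (Sum.inr 0)) = 1) (h5 : polar Q (b (Sum.inr 0)) (b (Sum.inr 1)) = a)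
    (h6 : Q (b (Sum.inr 1)) = c)
    (v : V) : Q v = Cfsg.quadFormMinus k F a c (b.equivFun v) := by
  classical
  rw [← QM_apply]
  have hs1 : ∀ i : Fin k ⊕ Fin k, QM k F a c (Pi.single (Sum.inl i) 1) = 0 := by
    intro i
    rw [QM_apply]
    rcases i with i | i <;> simp [Cfsg.quadFormMinus]
  have hs2 : QM k F a c (Pi.single (Sum.inr 0) 1) = 1 := by
    rw [QM_apply]
    simp [Cfsg.quadFormMinus]
  have hs3 : QM k F a c (Pi.single (Sum.inr 1) 1) = c := by
    rw [QM_apply]
    simp [Cfsg.quadFormMinus]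
  have h01 : ∀ l : Fin 2, l = 0 ∨ l = 1 := by decide
  have hcross : ∀ (i : Fin k ⊕ Fin k) (l : Fin 2),
      QM k F a c (Pi.single (Sum.inl i) 1 + Pi.single (Sum.inr l) 1)
        = QM k F a c (Pi.single (Sum.inr l) 1) := by
    intro i l
    rw [QM_apply, QM_apply]
    rcases i with i | i <;> simp [Cfsg.quadFormMinus]
  refine ext_basis' Q ((QM k F a c).comp b.equivFun.toLinearMap) b ?_ ?_ v
  · intro i
    rw [QuadraticMap.comp_apply, LinearEquiv.coe_coe, equivFun_basis]
    rcases i with (i | i) | i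
    · rw [hs1]
      exact (h0 i).1
    · rw [hs1]
      exact (h0 i).2
    · rcases h01 i with rfl | rfl
      · exact h4.trans hs2.symm
      · exact h6.trans hs3.symm
  · intro i j hij
    rw [polar_comp_basis]
    rcases i with (i | i) | i <;> rcases j with (j | j) | j
    · rw [(h2 i j).1, hs1, hs1, QM_apply]
      simp [Cfsg.quadFormMinus]
    · rw [h1, hs1, hs1, QM_apply]
      simp [Cfsg.quadFormMinus, Pi.single_apply, Finset.sum_ite_eq, eq_comm]
    · rw [(h3 i j).1, hs1, hcross, sub_zero, sub_self]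
    · rw [QuadraticMap.polar_comm, h1, hs1, hs1, QM_apply]
      simp [Cfsg.quadFormMinus, Pi.single_apply, Finset.sum_ite_eq, eq_comm]
    · rw [(h2 i j).2, hs1, hs1, QM_apply]
      simp [Cfsg.quadFormMinus]
    · rw [(h3 i j).2, hs1, hcross, sub_zero, sub_self]
    · rw [QuadraticMap.polar_comm, (h3 j i).1, hs1, add_comm, hcross, sub_zero, sub_self]
    · rw [QuadraticMap.polar_comm, (h3 j i).2, hs1, add_comm, hcross, sub_zero, sub_self]
    · rcases h01 i with rfl | rfl <;> rcases h01 j with rfl | rfl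
      · exact absurd rfl hij
      · rw [hs2, hs3, QM_apply, h5]
        simp [Cfsg.quadFormMinus]
        ring
      · rw [hs2, hs3, QM_apply, QuadraticMap.polar_comm, h5]
        simp [Cfsg.quadFormMinus]
      · exact absurd rfl hij

end Cfsg.Agent.Lib.Helper5.QuadGlue
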