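import Mathlib
import Cfsg.Agent.S2609

set_option autoImplicit false

namespace Cfsg.Agent.Lib.Helper5.SpinorDiag

open Cfsg.Agent.Lib.Helper2 Cfsg.Agent.Lib.Helper2.Spinor Cfsg.Agent.Lib.Helper2.CDG
open Cfsg.Agent.Lib.Helper2.ReflGen Matrix

section crit
variable {F : Type*} [Field F] [Fintype F] {ι : Type} [Fintype ι] [DecidableEq ι]
variable {Q : QuadraticForm F (ι → F)}

/-- spinor norm criterion over a general index type -/
theorem criterion (h2 : (2 : F) ≠ 0) (hQ : (QuadraticMap.polarBilin Q).Nondegenerate)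
    (hn : 2 ≤ Fintype.card ι) (g : ↥(Cfsg.isometryGroup F ⇑Q)) (vs : List (ι → F))
    (hvs : ∀ v ∈ vs, Q v ≠ 0)
    (hg : ((g : Matrix.GeneralLinearGroup ι F) : Matrix ι ι F) =
      (vs.map (fun v => Cfsg.reflectionMatrix ⇑Q v)).prod) :
    g ∈ commutator ↥(Cfsg.isometryGroup F ⇑Q) ↔
      (Even vs.length ∧ IsSquare (vs.map (fun v => Q v)).prod) := by
  classical
  obtain ⟨h0, hP⟩ := Cfsg.Agent.S2609.Phi_prod (Q := Q) h2 vs hvs
  have hP := hP g hg
  rw [mem_commutator_iff h2 hQ hn, hP, Prod.mk_eq_one]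
  have hneg : (-1 : Fˣ) ≠ 1 := by
    intro h
    have h1 := congrArg Units.val h
    rw [Units.val_neg, Units.val_one] at h1
    apply h2
    have : (2 : F) = 1 - (-1) := by ring
    rw [this, h1]; ring
  constructor
  · rintro ⟨ha, hb⟩
    have he : Even vs.length := by
      rcases Nat.even_or_odd vs.length with he | ho
      · exact he
      · rw [ho.neg_one_pow] at ha
        exact absurd ha hneg
    refine ⟨he, ?_⟩
    rw [he.neg_one_pow, one_mul] at hb
    unfold Cfsg.Agent.S2609.sq at hb
    by_contra hns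
    rw [if_neg hns] at hb
    exact absurd hb (by decide)
  · rintro ⟨he, hs⟩
    refine ⟨he.neg_one_pow, ?_⟩
    rw [he.neg_one_pow, one_mul]
    unfold Cfsg.Agent.S2609.sq
    rw [if_pos hs]

/-- existence of an isometry with a given matrix which is a product of reflections -/
theorem exists_of_prod (vs : List (ι → F)) (hvs : ∀ v ∈ vs, Q v ≠ 0) :
    ∃ g : ↥(Cfsg.isometryGroup F ⇑Q),
      ((g : Matrix.GeneralLinearGroup ι F) : Matrix ι ι F) =
      (vs.map (fun v => Cfsg.reflectionMatrix ⇑Q v)).prod := by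
  induction vs with
  | nil => exact ⟨1, rfl⟩
  | cons v vs ih =>
    obtain ⟨g, hg⟩ := ih (fun w hw => hvs w (List.mem_cons_of_mem _ hw))
    refine ⟨refl Q v (hvs v List.mem_cons_self) * g, ?_⟩
    rw [List.map_cons, List.prod_cons, ← hg]
    rfl

end crit

section pairs
variable {F : Type*} [Field F] {ι : Type} [Fintype ι] [DecidableEq ι]
variable (Q : QuadraticForm F (ι → F))
variable {J : Type} (a b : J → ι)

/-- the hypotheses: the coordinates `a j, b j` form hyperbolic pairs of `Q` -/
structure IsHypPairs : Prop where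
  inj : Function.Injective (Sum.elim a b)
  qa : ∀ j, Q (Pi.single (a j) 1) = 0
  qb : ∀ j, Q (Pi.single (b j) 1) = 0
  pa : ∀ j x, QuadraticMap.polar (⇑Q) (Pi.single (a j) 1) x = x (b j)
  pb : ∀ j x, QuadraticMap.polar (⇑Q) (Pi.single (b j) 1) x = x (a j)

variable {Q a b}

/-- the vector `e_a + e_b` -/
def uvec (a b : J → ι) (j : J) : ι → F := Pi.single (a j) 1 + Pi.single (b j) 1

/-- the vector `e_a - e_b` -/
def wvec (a b : J → ι) (j : J) : ι → F := Pi.single (a j) 1 - Pi.single (b j) 1

theorem ne_ab (h : IsHypPairs Q a b) (j : J) : a j ≠ b j := by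
  intro hab
  have := h.inj (a₁ := Sum.inl j) (a₂ := Sum.inr j) hab
  exact Sum.inl_ne_inr this

theorem Q_uvec (h : IsHypPairs Q a b) (j : J) : Q (uvec (F := F) a b j) = 1 := by
  unfold uvec
  rw [QuadraticMap.map_add Q, h.qa, h.qb, h.pa, Pi.single_eq_same, zero_add, zero_add]

theorem Q_wvec (h : IsHypPairs Q a b) (j : J) : Q (wvec (F := F) a b j) = -1 := by
  unfold wvec
  rw [sub_eq_add_neg, QuadraticMap.map_add Q, QuadraticMap.map_neg, h.qa, h.qb, h.pa, Pi.neg_apply,
    Pi.single_eq_same, zero_add, zero_add]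

theorem polar_uvec (h : IsHypPairs Q a b) (j : J) (x : ι → F) :
    QuadraticMap.polar (⇑Q) (uvec a b j) x = x (b j) + x (a j) := by
  unfold uvec
  rw [QuadraticMap.polar_add_left, h.pa, h.pb]

theorem polar_wvec (h : IsHypPairs Q a b) (j : J) (x : ι → F) :
    QuadraticMap.polar (⇑Q) (wvec a b j) x = x (b j) - x (a j) := by
  unfold wvec
  rw [QuadraticMap.polar_sub_left, h.pa, h.pb]

theorem pair_mulVec (h : IsHypPairs Q a b) (j : J) (x : ι → F) :
    Cfsg.reflectionMatrix (⇑Q) (uvec a b j) *ᵥ (Cfsg.reflectionMatrix (⇑Q) (wvec a b j) *ᵥ x) =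
      fun k => if k = a j ∨ k = b j then - x k else x k := by
  have hne := ne_ab h j
  rw [reflectionMatrix_mulVec, reflectionMatrix_mulVec, Q_uvec h, Q_wvec h, polar_uvec h,
    polar_wvec h]
  funext k
  simp only [Pi.sub_apply, Pi.smul_apply, smul_eq_mul, uvec, wvec, Pi.add_apply, Pi.single_apply]
  by_cases hka : k = a j
  · subst hka
    simp [hne, hne.symm]
  · by_cases hkb : k = b j
    · subst hkb
      simp [hne, hne.symm]
    · simp [hka, hkb]

/-- the list of reflection vectors attached to a list of pairs -/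
def vlist (a b : J → ι) (L : List J) : List (ι → F) :=
  L.flatMap (fun j => [uvec a b j, wvec a b j])

theorem vlist_cons (j : J) (L : List J) :
    vlist (F := F) a b (j :: L) = uvec a b j :: wvec a b j :: vlist a b L := by
  unfold vlist
  rw [List.flatMap_cons]
  rfl

theorem vlist_length (L : List J) : (vlist (F := F) a b L).length = 2 * L.length := by
  induction L with
  | nil => rfl
  | cons j L ih => rw [vlist_cons, List.length_cons, List.length_cons, ih, List.length_cons]; ring

theorem vlist_ne (h : IsHypPairs Q a b) (L : List J) : ∀ v ∈ vlist (F := F) a b L, Q v ≠ 0 := by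
  induction L with
  | nil => intro v hv; simp [vlist] at hv
  | cons j L ih =>
    intro v hv
    rw [vlist_cons, List.mem_cons, List.mem_cons] at hv
    rcases hv with rfl | rfl | hv
    · rw [Q_uvec h]; exact one_ne_zero
    · rw [Q_wvec h]; exact neg_ne_zero.2 one_ne_zero
    · exact ih v hv

theorem vlist_prod (h : IsHypPairs Q a b) (L : List J) :
    ((vlist (F := F) a b L).map (fun v => Q v)).prod = (-1) ^ L.length := by
  induction L with
  | nil => simp [vlist]
  | cons j L ih =>
    rw [vlist_cons, List.map_cons, List.map_cons, List.prod_cons, List.prod_cons, ih, Q_uvec h,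
      Q_wvec h, List.length_cons, pow_succ]
    ring

theorem pair_unique (h : IsHypPairs Q a b) {j j' : J} {k : ι} (hk : k = a j ∨ k = b j)
    (hk' : k = a j' ∨ k = b j') : j = j' := by
  rcases hk with hk | hk <;> rcases hk' with hk' | hk'
  · have := h.inj (a₁ := Sum.inl j) (a₂ := Sum.inl j') (hk.symm.trans hk')
    exact Sum.inl_injective this
  · have := h.inj (a₁ := Sum.inl j) (a₂ := Sum.inr j') (hk.symm.trans hk')
    exact absurd this Sum.inl_ne_inr
  · have := h.inj (a₁ := Sum.inr j) (a₂ := Sum.inl j') (hk.symm.trans hk')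
    exact absurd this Sum.inr_ne_inl
  · have := h.inj (a₁ := Sum.inr j) (a₂ := Sum.inr j') (hk.symm.trans hk')
    exact Sum.inr_injective this

theorem vlist_mulVec (h : IsHypPairs Q a b) (L : List J) (hL : L.Nodup) (x : ι → F) :
    ((vlist (F := F) a b L).map (fun v => Cfsg.reflectionMatrix ⇑Q v)).prod *ᵥ x =
      fun k => if ∃ j ∈ L, k = a j ∨ k = b j then - x k else x k := by
  classical
  induction L generalizing x with
  | nil =>
    simp [vlist]
  | cons j L ih =>
    rw [List.nodup_cons] at hL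
    rw [vlist_cons, List.map_cons, List.map_cons, List.prod_cons, List.prod_cons,
      ← Matrix.mulVec_mulVec, ← Matrix.mulVec_mulVec, pair_mulVec h, ih hL.2]
    funext k
    beta_reduce
    by_cases hk : k = a j ∨ k = b j
    · have h1 : ¬ ∃ j' ∈ L, k = a j' ∨ k = b j' := by
        rintro ⟨j', hj', hk'⟩
        have := pair_unique h hk hk'
        subst this
        exact hL.1 hj'
      have h2 : ∃ j' ∈ j :: L, k = a j' ∨ k = b j' := ⟨j, List.mem_cons_self, hk⟩
      rw [if_pos hk, if_pos h2, if_neg h1]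
    · rw [if_neg hk]
      by_cases hex : ∃ j' ∈ L, k = a j' ∨ k = b j'
      · have h2 : ∃ j' ∈ j :: L, k = a j' ∨ k = b j' := by
          obtain ⟨j', hj', hk'⟩ := hex
          exact ⟨j', List.mem_cons_of_mem _ hj', hk'⟩
        rw [if_pos hex, if_pos h2]
      · have h2 : ¬ ∃ j' ∈ j :: L, k = a j' ∨ k = b j' := by
          rintro ⟨j', hj', hk'⟩
          rw [List.mem_cons] at hj'
          rcases hj' with rfl | hj'
          · exact hk hk'
          · exact hex ⟨j', hj', hk'⟩
        rw [if_neg hex, if_neg h2]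

end pairs

section final
variable {F : Type*} [Field F] [Fintype F] {ι : Type} [Fintype ι] [DecidableEq ι]
variable {Q : QuadraticForm F (ι → F)} {J : Type} {a b : J → ι}

open Classical in
theorem diag_mem_iff (h2 : (2 : F) ≠ 0) (hQ : (QuadraticMap.polarBilin Q).Nondegenerate)
    (hn : 2 ≤ Fintype.card ι) (h : IsHypPairs Q a b) (L : List J) (hL : L.Nodup)
    (d : ι → F) (hd : ∀ k, d k = if ∃ j ∈ L, k = a j ∨ k = b j then -1 else 1) :
    (∃ g : ↥(Cfsg.isometryGroup F ⇑Q), g ∈ commutator ↥(Cfsg.isometryGroup F ⇑Q) ∧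
      ((g : Matrix.GeneralLinearGroup ι F) : Matrix ι ι F) = Matrix.diagonal d) ↔
    IsSquare ((-1 : F) ^ L.length) := by
  have hmat : Matrix.diagonal d =
      ((vlist (F := F) a b L).map (fun v => Cfsg.reflectionMatrix ⇑Q v)).prod := by
    apply Matrix.mulVec_injective
    funext x
    rw [vlist_mulVec h L hL]
    funext k
    rw [Matrix.mulVec_diagonal, hd]
    by_cases hk : ∃ j ∈ L, k = a j ∨ k = b j
    · rw [if_pos hk, if_pos hk, neg_one_mul]
    · rw [if_neg hk, if_neg hk, one_mul]
  have hcrit := fun g hg => criterion h2 hQ hn g (vlist (F := F) a b L) (vlist_ne h L) hg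
  constructor
  · rintro ⟨g, hg, hgm⟩
    rw [hmat] at hgm
    have := ((hcrit g hgm).1 hg).2
    rw [vlist_prod h] at this
    exact this
  · intro hs
    obtain ⟨g, hg⟩ := exists_of_prod (Q := Q) (vlist (F := F) a b L) (vlist_ne h L)
    refine ⟨g, (hcrit g hg).2 ⟨?_, ?_⟩, ?_⟩
    · rw [vlist_length]; exact even_two_mul _
    · rw [vlist_prod h]; exact hs
    · rw [hg, hmat]

theorem three_pow_mod (i : ℕ) : 3 ^ i % 4 = if Even i then 1 else 3 := by
  rcases Nat.even_or_odd' i with ⟨k, rfl | rfl⟩
  · rw [if_pos (even_two_mul k), pow_mul, Nat.pow_mod]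
    norm_num
  · rw [if_neg (by rw [Nat.not_even_iff_odd]; exact ⟨k, rfl⟩), pow_succ, pow_mul, Nat.mul_mod,
      Nat.pow_mod]
    norm_num

theorem isSquare_neg_one_pow_iff {q : ℕ} (hF : Fintype.card F = q) (hq : Odd q) (i : ℕ) :
    IsSquare ((-1 : F) ^ i) ↔ q ^ i % 4 = 1 := by
  have hq4 : q % 4 = 1 ∨ q % 4 = 3 := by
    obtain ⟨k, rfl⟩ := hq
    omega
  rcases Nat.even_or_odd i with he | ho
  · rw [he.neg_one_pow]
    constructor
    · intro _
      rw [Nat.pow_mod]
      rcases hq4 with h | h
      · rw [h]; simp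
      · rw [h, three_pow_mod, if_pos he]
    · intro _
      exact ⟨1, by ring⟩
  · rw [ho.neg_one_pow, FiniteField.isSquare_neg_one_iff, hF, Nat.pow_mod]
    rcases hq4 with h | h
    · rw [h]; simp
    · rw [h, three_pow_mod, if_neg (by rw [Nat.not_even_iff_odd]; exact ho)]
      simp

/-- the list of the first `i` elements of `Fin m` -/
def firstL {m : ℕ} (i : ℕ) (him : i ≤ m) : List (Fin m) := (List.finRange i).map (Fin.castLE him)

theorem firstL_length {m : ℕ} (i : ℕ) (him : i ≤ m) : (firstL i him).length = i := by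
  unfold firstL
  rw [List.length_map, List.length_finRange]

theorem firstL_nodup {m : ℕ} (i : ℕ) (him : i ≤ m) : (firstL i him).Nodup := by
  unfold firstL
  exact (List.nodup_finRange i).map (Fin.castLE_injective him)

theorem mem_firstL {m : ℕ} (i : ℕ) (him : i ≤ m) (j : Fin m) : j ∈ firstL i him ↔ (j : ℕ) < i := by
  unfold firstL
  rw [List.mem_map]
  constructor
  · rintro ⟨x, -, rfl⟩
    exact x.2
  · intro hj
    exact ⟨⟨j, hj⟩, List.mem_finRange _, Fin.ext rfl⟩

end final

end Cfsg.Agent.Lib.Helper5.SpinorDiag
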