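import Mathlib
import Cfsg.Agent.Lib.Helper5.SpinorDiag
import Cfsg.Agent.Lib.Helper2.Dickson4

set_option autoImplicit false

namespace Cfsg.Agent.Lib.Helper5.OmegaCrit

open Cfsg.Agent.Lib.Helper2 Cfsg.Agent.Lib.Helper2.Spinor Cfsg.Agent.Lib.Helper2.CDG
open Cfsg.Agent.Lib.Helper2.ReflGen Cfsg.Agent.Lib.Helper2.Dickson Matrix
open Cfsg.Agent.Lib.Helper5.SpinorDiag

variable {F : Type*} [Field F] [Fintype F] {ι : Type} [Fintype ι] [DecidableEq ι]
variable {Q : QuadraticForm F (ι → F)}

/-- generation by reflections in all characteristics -/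
theorem closure_R_all (hQ : (QuadraticMap.polarBilin Q).Nondegenerate)
    (hex : Fintype.card F ≠ 2 ∨ Fintype.card ι ≠ 4) (hn : 2 ≤ Fintype.card ι) :
    Subgroup.closure (R Q) = ⊤ := by
  by_cases h2 : (2 : F) = 0
  · exact OrthTwo.closure_R_eq_top₂ h2 hQ hex hn
  · exact closure_R_eq_top h2 hQ

/-- the Dickson criterion in characteristic two -/
theorem mem_commutator_iff₂ (h2 : (2 : F) = 0) (hQ : (QuadraticMap.polarBilin Q).Nondegenerate)
    (hex : Fintype.card F ≠ 2 ∨ Fintype.card ι ≠ 4) (hn : 2 ≤ Fintype.card ι)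
    (g : ↥(Cfsg.isometryGroup F ⇑Q)) :
    g ∈ commutator ↥(Cfsg.isometryGroup F ⇑Q) ↔ dfun g = 0 := by
  have hgen := OrthTwo.closure_R_eq_top₂ h2 hQ hex hn
  constructor
  · intro hg
    have h1 := Abelianization.commutator_subset_ker (dickson hQ hgen) hg
    rw [MonoidHom.mem_ker] at h1
    exact Multiplicative.ofAdd.injective h1
  · intro hg
    have hcard := card_abelianization₂ h2 hQ hex hn
    have hfr : 2 ≤ Module.finrank F (ι → F) := by
      rw [Module.finrank_fintype_fun_eq_card]; exact hn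
    obtain ⟨u, hu1⟩ := Cfsg.Agent.Lib.Helper5.exists_represents_one Q hQ hfr
    have hu : Q u ≠ 0 := by rw [hu1]; exact one_ne_zero
    have hsurj : Function.Surjective (Abelianization.lift (dickson hQ hgen)) := by
      intro x
      have hx : ∀ a : ZMod 2, a = 0 ∨ a = 1 := by decide
      rcases hx (Multiplicative.toAdd x) with h | h
      · refine ⟨1, ?_⟩
        rw [map_one]
        exact (Multiplicative.toAdd.injective h).symm
      · refine ⟨Abelianization.of (refl Q u hu), ?_⟩
        rw [Abelianization.lift_apply_of, dickson_refl]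
        exact (Multiplicative.toAdd.injective h).symm
    have : Finite (Abelianization ↥(Cfsg.isometryGroup F ⇑Q)) := Nat.finite_of_card_ne_zero (by rw [hcard]; norm_num)
    have hbij : Function.Bijective (Abelianization.lift (dickson hQ hgen)) := by
      rw [Nat.bijective_iff_surjective_and_card]
      refine ⟨hsurj, ?_⟩
      rw [hcard, Nat.card_eq_fintype_card]
      rfl
    have h1 : Abelianization.lift (dickson hQ hgen) (Abelianization.of g) =
        Abelianization.lift (dickson hQ hgen) 1 := by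
      rw [Abelianization.lift_apply_of, map_one]
      show Multiplicative.ofAdd (dfun g) = 1
      rw [hg]; rfl
    have h3 := hbij.1 h1
    rw [← Abelianization.ker_of]
    exact h3

/-- the Dickson invariant of a product of reflections -/
theorem dfun_prod (hQ : (QuadraticMap.polarBilin Q).Nondegenerate) (vs : List (ι → F))
    (hvs : ∀ v ∈ vs, Q v ≠ 0) :
    ∀ (g : ↥(Cfsg.isometryGroup F ⇑Q)),
    ((g : Matrix.GeneralLinearGroup ι F) : Matrix ι ι F) =
      (vs.map (fun v => Cfsg.reflectionMatrix ⇑Q v)).prod →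
    dfun g = (vs.length : ZMod 2) := by
  induction vs with
  | nil =>
    intro g hg
    have : g = 1 := by
      apply Subtype.ext
      apply Units.ext
      rw [hg]
      rfl
    rw [this, dfun_one]
    simp
  | cons v vs ih =>
    have hv : Q v ≠ 0 := hvs v (List.mem_cons_self)
    have ih := ih (fun w hw => hvs w (List.mem_cons_of_mem _ hw))
    intro g hg
    have hg' : g = refl Q v hv * (refl Q v hv * g) := by
      rw [← mul_assoc, refl_mul_self, one_mul]
    have h3 : (((refl Q v hv * g : ↥(Cfsg.isometryGroup F ⇑Q)) :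
        Matrix.GeneralLinearGroup ι F) : Matrix ι ι F) =
        (vs.map (fun v => Cfsg.reflectionMatrix ⇑Q v)).prod := by
      have h4 : (((refl Q v hv * g : ↥(Cfsg.isometryGroup F ⇑Q)) :
        Matrix.GeneralLinearGroup ι F) : Matrix ι ι F) =
          Cfsg.reflectionMatrix ⇑Q v * ((g : Matrix.GeneralLinearGroup ι F) : Matrix ι ι F) := rfl
      rw [h4, hg, List.map_cons, List.prod_cons, ← mul_assoc]
      have h5 : Cfsg.reflectionMatrix ⇑Q v * Cfsg.reflectionMatrix ⇑Q v = 1 := by
        have := congrArg (fun x : ↥(Cfsg.isometryGroup F ⇑Q) =>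
          ((x : Matrix.GeneralLinearGroup ι F) : Matrix ι ι F)) (refl_mul_self (Q := Q) v hv)
        exact this
      rw [h5, one_mul]
    rw [hg', dfun_refl_mul hQ, ih _ h3, List.length_cons]
    push_cast
    rfl

/-- uniform criterion: a product of reflections lies in `Ω` iff the number of factors is even and
the product of the norms is a square -/
theorem criterion_all (hQ : (QuadraticMap.polarBilin Q).Nondegenerate)
    (hex : Fintype.card F ≠ 2 ∨ Fintype.card ι ≠ 4) (hn : 2 ≤ Fintype.card ι)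
    (g : ↥(Cfsg.isometryGroup F ⇑Q)) (vs : List (ι → F))
    (hvs : ∀ v ∈ vs, Q v ≠ 0)
    (hg : ((g : Matrix.GeneralLinearGroup ι F) : Matrix ι ι F) =
      (vs.map (fun v => Cfsg.reflectionMatrix ⇑Q v)).prod) :
    g ∈ commutator ↥(Cfsg.isometryGroup F ⇑Q) ↔
      (Even vs.length ∧ IsSquare (vs.map (fun v => Q v)).prod) := by
  by_cases h2 : (2 : F) = 0
  · rw [mem_commutator_iff₂ h2 hQ hex hn, dfun_prod hQ vs hvs g hg]
    have hsq : IsSquare (vs.map (fun v => Q v)).prod := by
      apply FiniteField.isSquare_of_char_two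
      have : CharP F 2 := by
        apply CharTwo.of_one_ne_zero_of_two_eq_zero one_ne_zero h2
      exact ringChar.eq F 2
    constructor
    · intro h
      refine ⟨?_, hsq⟩
      exact (ZMod.natCast_eq_zero_iff_even).1 h
    · rintro ⟨h, -⟩
      exact (ZMod.natCast_eq_zero_iff_even).2 h
  · exact criterion h2 hQ hn g vs hvs hg

omit [Fintype F] in
theorem reflMatrix_sq (v : ι → F) (hv : Q v ≠ 0) :
    Cfsg.reflectionMatrix ⇑Q v * Cfsg.reflectionMatrix ⇑Q v = 1 := by
  have := congrArg (fun x : ↥(Cfsg.isometryGroup F ⇑Q) =>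
    ((x : Matrix.GeneralLinearGroup ι F) : Matrix ι ι F)) (refl_mul_self (Q := Q) v hv)
  exact this

omit [Fintype F] in
theorem prod_mul_prod_reverse (vs : List (ι → F)) (hvs : ∀ v ∈ vs, Q v ≠ 0) :
    (vs.map (fun v => Cfsg.reflectionMatrix ⇑Q v)).prod *
      (vs.reverse.map (fun v => Cfsg.reflectionMatrix ⇑Q v)).prod = 1 := by
  induction vs with
  | nil => simp
  | cons v vs ih =>
    have hv : Q v ≠ 0 := hvs v (List.mem_cons_self)
    have ih := ih (fun w hw => hvs w (List.mem_cons_of_mem _ hw))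
    rw [List.reverse_cons, List.map_append, List.prod_append, List.map_cons, List.prod_cons,
      List.map_cons, List.map_nil, List.prod_cons, List.prod_nil, mul_one]
    calc Cfsg.reflectionMatrix ⇑Q v * (vs.map (fun v => Cfsg.reflectionMatrix ⇑Q v)).prod *
          ((vs.reverse.map (fun v => Cfsg.reflectionMatrix ⇑Q v)).prod * Cfsg.reflectionMatrix ⇑Q v)
        = Cfsg.reflectionMatrix ⇑Q v * ((vs.map (fun v => Cfsg.reflectionMatrix ⇑Q v)).prod *
          (vs.reverse.map (fun v => Cfsg.reflectionMatrix ⇑Q v)).prod) *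
            Cfsg.reflectionMatrix ⇑Q v := by
          simp only [mul_assoc]
      _ = 1 := by rw [ih, mul_one, reflMatrix_sq v hv]

/-- every element of the group generated by the reflections is a product of a list of
reflections -/
theorem exists_list (hgen : Subgroup.closure (R Q) = ⊤) (g : ↥(Cfsg.isometryGroup F ⇑Q)) :
    ∃ vs : List (ι → F), (∀ v ∈ vs, Q v ≠ 0) ∧
      ((g : Matrix.GeneralLinearGroup ι F) : Matrix ι ι F) =
        (vs.map (fun v => Cfsg.reflectionMatrix ⇑Q v)).prod := by
  have hg : g ∈ Subgroup.closure (R Q) := by rw [hgen]; trivial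
  induction hg using Subgroup.closure_induction with
  | mem g hg =>
    obtain ⟨v, hv, hgv⟩ := hg
    refine ⟨[v], ?_, ?_⟩
    · intro w hw
      rw [List.mem_singleton] at hw
      rw [hw]; exact hv
    · rw [hgv]; simp
  | one => exact ⟨[], by simp, rfl⟩
  | mul x y _ _ hx hy =>
    obtain ⟨vx, hvx, hx⟩ := hx
    obtain ⟨vy, hvy, hy⟩ := hy
    refine ⟨vx ++ vy, ?_, ?_⟩
    · intro w hw
      rw [List.mem_append] at hw
      rcases hw with hw | hw
      · exact hvx w hw
      · exact hvy w hw
    · rw [List.map_append, List.prod_append, ← hx, ← hy]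
      rfl
  | inv x _ hx =>
    obtain ⟨vx, hvx, hx⟩ := hx
    have hvr : ∀ v ∈ vx.reverse, Q v ≠ 0 := by
      intro w hw
      exact hvx w (List.mem_reverse.1 hw)
    refine ⟨vx.reverse, hvr, ?_⟩
    obtain ⟨g', hg'⟩ := exists_of_prod (Q := Q) vx.reverse hvr
    have h1 : x * g' = 1 := by
      apply Subtype.ext
      apply Units.ext
      show ((x : Matrix.GeneralLinearGroup ι F) : Matrix ι ι F) *
        ((g' : Matrix.GeneralLinearGroup ι F) : Matrix ι ι F) = 1
      rw [hx, hg', prod_mul_prod_reverse vx hvx]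
    have h3 : x⁻¹ = g' := inv_eq_of_mul_eq_one_right h1
    rw [h3, hg']

/-- the isometry group modulo `Ω` has exponent two -/
theorem sq_mem_commutator (hQ : (QuadraticMap.polarBilin Q).Nondegenerate)
    (hex : Fintype.card F ≠ 2 ∨ Fintype.card ι ≠ 4) (hn : 2 ≤ Fintype.card ι)
    (x : ↥(Cfsg.isometryGroup F ⇑Q)) : x * x ∈ commutator ↥(Cfsg.isometryGroup F ⇑Q) := by
  obtain ⟨vs, hvs, hx⟩ := exists_list (closure_R_all hQ hex hn) x
  rw [criterion_all hQ hex hn (x * x) (vs ++ vs) (by
    intro w hw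
    rw [List.mem_append] at hw
    rcases hw with hw | hw <;> exact hvs w hw) (by
    rw [List.map_append, List.prod_append, ← hx]; rfl)]
  refine ⟨?_, ?_⟩
  · rw [List.length_append]; exact ⟨_, rfl⟩
  · rw [List.map_append, List.prod_append]; exact ⟨_, rfl⟩

/-- `a * (s a s⁻¹)` lies in `Ω` -/
theorem mul_conj_mem_commutator (hQ : (QuadraticMap.polarBilin Q).Nondegenerate)
    (hex : Fintype.card F ≠ 2 ∨ Fintype.card ι ≠ 4) (hn : 2 ≤ Fintype.card ι)
    (a s : ↥(Cfsg.isometryGroup F ⇑Q)) :
    a * (s * a * s⁻¹) ∈ commutator ↥(Cfsg.isometryGroup F ⇑Q) := by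
  rw [← Abelianization.ker_of, MonoidHom.mem_ker, map_mul, map_mul, map_mul, map_inv,
    mul_comm (Abelianization.of s), mul_assoc, mul_inv_cancel, mul_one, ← map_mul,
    ← MonoidHom.mem_ker, Abelianization.ker_of]
  exact sq_mem_commutator hQ hex hn a

omit [Fintype F] in
theorem finrank_Fix_add_rank (g : ↥(Cfsg.isometryGroup F ⇑Q)) :
    Module.finrank F ↥(Fix g) +
      (((g : Matrix.GeneralLinearGroup ι F) : Matrix ι ι F) - 1).rank = Fintype.card ι := by
  have h := LinearMap.finrank_range_add_finrank_ker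
    (Matrix.mulVecLin (((g : Matrix.GeneralLinearGroup ι F) : Matrix ι ι F) - 1))
  rw [Module.finrank_fintype_fun_eq_card] at h
  have hker : LinearMap.ker
      (Matrix.mulVecLin (((g : Matrix.GeneralLinearGroup ι F) : Matrix ι ι F) - 1)) = Fix g := by
    ext x
    rw [LinearMap.mem_ker, Matrix.mulVecLin_apply, Matrix.sub_mulVec, Matrix.one_mulVec,
      sub_eq_zero, mem_Fix]
  rw [hker] at h
  unfold Matrix.rank
  omega

/-- the Dickson criterion in terms of the rank of `g - 1` -/
theorem mem_commutator_iff_rank₂ (h2 : (2 : F) = 0)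
    (hQ : (QuadraticMap.polarBilin Q).Nondegenerate)
    (hex : Fintype.card F ≠ 2 ∨ Fintype.card ι ≠ 4) (hn : 2 ≤ Fintype.card ι)
    (g : ↥(Cfsg.isometryGroup F ⇑Q)) :
    g ∈ commutator ↥(Cfsg.isometryGroup F ⇑Q) ↔
      Even (((g : Matrix.GeneralLinearGroup ι F) : Matrix ι ι F) - 1).rank := by
  rw [mem_commutator_iff₂ h2 hQ hex hn, ← ZMod.natCast_eq_zero_iff_even]
  unfold dfun
  have h := finrank_Fix_add_rank g
  have hc := congrArg (fun n : ℕ => (n : ZMod 2)) h
  simp only [Nat.cast_add] at hc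
  rw [← hc]
  have hx : ∀ a b : ZMod 2, a + (a + b) = 0 ↔ b = 0 := by decide
  exact hx _ _

end Cfsg.Agent.Lib.Helper5.OmegaCrit
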