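import Mathlib
import Cfsg.Agent.Lib.Helper5.OmegaCrit
import Cfsg.Agent.Lib.Helper2.QuadStd

set_option autoImplicit false

namespace Cfsg.Agent.Lib.Helper5.MaxTS

open Cfsg.Agent.Lib.Helper2 Cfsg.Agent.Lib.Helper2.CDG Cfsg.Agent.Lib.Helper2.ReflGen Matrix
open Cfsg.Agent.Lib.Helper5.OmegaCrit Module

variable {F : Type*} [Field F] {ι : Type} [Fintype ι] [DecidableEq ι]
variable {Q : QuadraticForm F (ι → F)}

/-- totally singular subspaces -/
def IsTS (Q : QuadraticForm F (ι → F)) (U : Submodule F (ι → F)) : Prop := ∀ u ∈ U, Q u = 0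

theorem IsTS.polar {U : Submodule F (ι → F)} (hU : IsTS Q U) {x y : ι → F} (hx : x ∈ U)
    (hy : y ∈ U) : QuadraticMap.polar (⇑Q) x y = 0 := by
  unfold QuadraticMap.polar
  rw [hU _ (U.add_mem hx hy), hU x hx, hU y hy]
  ring

/-- totally singular subspaces of half the dimension -/
structure IsLag (Q : QuadraticForm F (ι → F)) (U : Submodule F (ι → F)) : Prop where
  ts : IsTS Q U
  dim : 2 * finrank F U = Fintype.card ι

theorem IsLag.mem_of_orth (hQ : (QuadraticMap.polarBilin Q).Nondegenerate)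
    {U : Submodule F (ι → F)} (hU : IsLag Q U) {x : ι → F}
    (hx : ∀ u ∈ U, QuadraticMap.polar (⇑Q) u x = 0) : x ∈ U := by
  have hle : U ≤ LinearMap.BilinForm.orthogonal (QuadraticMap.polarBilin Q) U := by
    intro y hy u hu
    exact hU.ts.polar hu hy
  have hfr := LinearMap.BilinForm.finrank_orthogonal hQ U
  rw [Module.finrank_fintype_fun_eq_card] at hfr
  have hdim := hU.dim
  have heq : U = LinearMap.BilinForm.orthogonal (QuadraticMap.polarBilin Q) U := by
    apply Submodule.eq_of_le_of_finrank_eq hle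
    omega
  rw [heq]
  intro u hu
  exact hx u hu

/-- a subspace not inside the kernel of a functional meets it in a hyperplane -/
theorem finrank_inf_ker_of_not_le (D : Submodule F (ι → F)) (φ : (ι → F) →ₗ[F] F)
    (hD : ¬ D ≤ LinearMap.ker φ) :
    finrank F D = finrank F ↥(D ⊓ LinearMap.ker φ) + 1 := by
  let ψ : ↥D →ₗ[F] F := φ.comp D.subtype
  have hrn := LinearMap.finrank_range_add_finrank_ker ψ
  have hmap : Submodule.map D.subtype (LinearMap.ker ψ) = D ⊓ LinearMap.ker φ := by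
    ext x
    constructor
    · rintro ⟨y, hy, rfl⟩
      exact ⟨y.2, hy⟩
    · rintro ⟨hx1, hx2⟩
      exact ⟨⟨x, hx1⟩, hx2, rfl⟩
  rw [← hmap, Submodule.finrank_map_subtype_eq]
  have : LinearMap.range ψ = ⊤ := by
    rw [eq_top_iff]
    intro c _
    obtain ⟨y, hy, hy0⟩ := Set.not_subset.1 hD
    have hy0' : φ y ≠ 0 := hy0
    refine ⟨(c * (φ y)⁻¹) • ⟨y, hy⟩, ?_⟩
    rw [map_smul]
    show (c * (φ y)⁻¹) • φ y = c
    rw [smul_eq_mul, mul_assoc, inv_mul_cancel₀ hy0', mul_one]
  rw [this, finrank_top, Module.finrank_self] at hrn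
  omega

theorem finrank_inf_ker_of_le (D : Submodule F (ι → F)) (φ : (ι → F) →ₗ[F] F)
    (hD : D ≤ LinearMap.ker φ) :
    finrank F D = finrank F ↥(D ⊓ LinearMap.ker φ) := by
  rw [inf_eq_left.2 hD]

/-- the reflection as a linear map -/
noncomputable def Rl (Q : QuadraticForm F (ι → F)) (v : ι → F) : (ι → F) →ₗ[F] (ι → F) :=
  Matrix.mulVecLin (Cfsg.reflectionMatrix ⇑Q v)

theorem Rl_apply (v x : ι → F) :
    Rl Q v x = x - ((Q v)⁻¹ * QuadraticMap.polar (⇑Q) v x) • v :=
  reflectionMatrix_mulVec Q v x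

theorem Rl_fix (v x : ι → F) (hx : QuadraticMap.polar (⇑Q) v x = 0) : Rl Q v x = x := by
  rw [Rl_apply, hx, mul_zero, zero_smul, sub_zero]

theorem phi_Rl (v : ι → F) (hv : Q v ≠ 0) (x : ι → F) :
    QuadraticMap.polar (⇑Q) v (Rl Q v x) = - QuadraticMap.polar (⇑Q) v x := by
  rw [Rl_apply, QuadraticMap.polar_sub_right, QuadraticMap.polar_smul_right, polar_self,
    smul_eq_mul]
  field_simp
  ring

theorem Rl_Rl (v : ι → F) (hv : Q v ≠ 0) (x : ι → F) : Rl Q v (Rl Q v x) = x := by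
  show Cfsg.reflectionMatrix ⇑Q v *ᵥ (Cfsg.reflectionMatrix ⇑Q v *ᵥ x) = x
  rw [Matrix.mulVec_mulVec, reflMatrix_sq v hv, Matrix.one_mulVec]

theorem Q_Rl (v : ι → F) (hv : Q v ≠ 0) (x : ι → F) : Q (Rl Q v x) = Q x :=
  (reflection_facts Q v hv).1 x

theorem Rl_injective (v : ι → F) (hv : Q v ≠ 0) : Function.Injective (Rl Q v) := by
  intro x y hxy
  rw [← Rl_Rl v hv x, ← Rl_Rl v hv y, hxy]

theorem IsLag.map_Rl {E' : Submodule F (ι → F)} (hE' : IsLag Q E') (v : ι → F) (hv : Q v ≠ 0) :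
    IsLag Q (E'.map (Rl Q v)) where
  ts := by
    rintro u ⟨y, hy, rfl⟩
    rw [Q_Rl v hv]
    exact hE'.ts y hy
  dim := by
    rw [← hE'.dim]
    congr 1
    exact (LinearEquiv.finrank_eq (Submodule.equivMapOfInjective (Rl Q v) (Rl_injective v hv) E')).symm

/-- the two subspaces meet the hyperplane in the same subspace -/
theorem map_Rl_inf_ker (E' : Submodule F (ι → F)) (v : ι → F) (hv : Q v ≠ 0) :
    E'.map (Rl Q v) ⊓ LinearMap.ker (QuadraticMap.polarBilin Q v) =
      E' ⊓ LinearMap.ker (QuadraticMap.polarBilin Q v) := by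
  ext x
  constructor
  · rintro ⟨⟨y, hy, rfl⟩, hx⟩
    have hx' : QuadraticMap.polar (⇑Q) v (Rl Q v y) = 0 := hx
    rw [phi_Rl v hv, neg_eq_zero] at hx'
    rw [Rl_fix v y hx']
    exact ⟨hy, hx'⟩
  · rintro ⟨hx1, hx2⟩
    have hx' : QuadraticMap.polar (⇑Q) v x = 0 := hx2
    exact ⟨⟨x, hx1, Rl_fix v x hx'⟩, hx2⟩

/-- part (i): the two intersections cannot both leave the hyperplane -/
theorem not_both_out {E E' : Submodule F (ι → F)} (hE : IsLag Q E) (hE' : IsLag Q E')
    (v : ι → F) (hv : Q v ≠ 0)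
    (h1 : ¬ E ⊓ E' ≤ LinearMap.ker (QuadraticMap.polarBilin Q v))
    (h3 : ¬ E ⊓ E'.map (Rl Q v) ≤ LinearMap.ker (QuadraticMap.polarBilin Q v)) : False := by
  obtain ⟨x, ⟨hxE, hxE'⟩, hx0⟩ := Set.not_subset.1 h1
  obtain ⟨y, ⟨hyE, ⟨z, hzE', rfl⟩⟩, hy0⟩ := Set.not_subset.1 h3
  have hx0' : QuadraticMap.polar (⇑Q) v x ≠ 0 := hx0
  have hy0' : QuadraticMap.polar (⇑Q) v (Rl Q v z) ≠ 0 := hy0
  set y := Rl Q v z with hy
  -- rescale `x`
  set s := QuadraticMap.polar (⇑Q) v y / QuadraticMap.polar (⇑Q) v x with hs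
  set x' := s • x with hx'
  have hx'E : x' ∈ E := E.smul_mem _ hxE
  have hx'E' : x' ∈ E' := E'.smul_mem _ hxE'
  have hφx' : QuadraticMap.polar (⇑Q) v x' = QuadraticMap.polar (⇑Q) v y := by
    rw [hx', QuadraticMap.polar_smul_right, smul_eq_mul, hs]
    field_simp
  have hRy : Rl Q v y = z := Rl_Rl v hv z
  have hmem : x' - Rl Q v y ∈ E' := E'.sub_mem hx'E' (by rw [hRy]; exact hzE')
  have hQ0 := hE'.ts _ hmem
  set c := (Q v)⁻¹ * QuadraticMap.polar (⇑Q) v y with hc
  have heq : x' - Rl Q v y = (x' - y) + c • v := by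
    rw [Rl_apply]
    abel
  rw [heq, map_add_smul, hE.ts _ (E.sub_mem hx'E hyE), QuadraticMap.polar_comm,
    QuadraticMap.polar_sub_right, hφx', sub_self, mul_zero, add_zero, zero_add] at hQ0
  have hc0 : c = 0 := by
    rcases mul_eq_zero.1 hQ0 with h | h
    · rcases mul_eq_zero.1 h with h | h <;> exact h
    · exact absurd h hv
  rw [hc] at hc0
  rcases mul_eq_zero.1 hc0 with h | h
  · exact (inv_ne_zero hv) h
  · exact hy0' h

/-- a Lagrangian is not contained in the hyperplane orthogonal to a nonsingular vector -/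
theorem IsLag.exists_not_orth (hQ : (QuadraticMap.polarBilin Q).Nondegenerate)
    {E' : Submodule F (ι → F)} (hE' : IsLag Q E') (v : ι → F) (hv : Q v ≠ 0) :
    ∃ w ∈ E', QuadraticMap.polar (⇑Q) v w ≠ 0 := by
  by_contra hall
  push Not at hall
  have : v ∈ E' := hE'.mem_of_orth hQ (fun u hu => by
    rw [QuadraticMap.polar_comm]; exact hall u hu)
  exact hv (hE'.ts v this)

/-- decomposition of a Lagrangian along a vector outside the hyperplane -/
theorem IsLag.orth_of_orth {E' : Submodule F (ι → F)} (v w k : ι → F)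
    (hw : w ∈ E') (hφw : QuadraticMap.polar (⇑Q) v w ≠ 0)
    (hK : ∀ k' ∈ E' ⊓ LinearMap.ker (QuadraticMap.polarBilin Q v), QuadraticMap.polar (⇑Q) k' k = 0)
    (hwk : QuadraticMap.polar (⇑Q) w k = 0) :
    ∀ u ∈ E', QuadraticMap.polar (⇑Q) u k = 0 := by
  intro u hu
  set s := QuadraticMap.polar (⇑Q) v u / QuadraticMap.polar (⇑Q) v w with hs
  have hk' : u - s • w ∈ E' ⊓ LinearMap.ker (QuadraticMap.polarBilin Q v) := by
    refine ⟨E'.sub_mem hu (E'.smul_mem _ hw), ?_⟩
    show QuadraticMap.polar (⇑Q) v (u - s • w) = 0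
    rw [QuadraticMap.polar_sub_right, QuadraticMap.polar_smul_right, smul_eq_mul, hs]
    field_simp
    ring
  have h1 := hK _ hk'
  rw [QuadraticMap.polar_sub_left, QuadraticMap.polar_smul_left, hwk, smul_zero, sub_zero] at h1
  exact h1

/-- part (ii): the two intersections cannot both lie in the hyperplane -/
theorem not_both_in (hQ : (QuadraticMap.polarBilin Q).Nondegenerate)
    {E E' : Submodule F (ι → F)} (hE : IsLag Q E) (hE' : IsLag Q E')
    (v : ι → F) (hv : Q v ≠ 0)
    (h1 : E ⊓ E' ≤ LinearMap.ker (QuadraticMap.polarBilin Q v))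
    (h3 : E ⊓ E'.map (Rl Q v) ≤ LinearMap.ker (QuadraticMap.polarBilin Q v)) : False := by
  obtain ⟨w, hwE', hφw⟩ := hE'.exists_not_orth hQ v hv
  have hE'' := hE'.map_Rl v hv
  have hK'' := map_Rl_inf_ker E' v hv
  set K := E' ⊓ LinearMap.ker (QuadraticMap.polarBilin Q v) with hKdef
  set B := QuadraticMap.polarBilin Q with hB
  have hRw : Rl Q v w ∈ E'.map (Rl Q v) := ⟨w, hwE', rfl⟩
  have hQw : Q w = 0 := hE'.ts w hwE'
  have hQRw : Q (Rl Q v w) = 0 := hE''.ts _ hRw
  set t := QuadraticMap.polar (⇑Q) w (Rl Q v w) with ht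
  have ht0 : t ≠ 0 := by
    rw [ht, Rl_apply, QuadraticMap.polar_sub_right, QuadraticMap.polar_smul_right, polar_self, hQw,
      mul_zero, zero_sub, smul_eq_mul, QuadraticMap.polar_comm (⇑Q) w v]
    exact neg_ne_zero.2 (mul_ne_zero (mul_ne_zero (inv_ne_zero hv) hφw) hφw)
  -- dimension count
  have hex : ∃ x ∈ E, (∀ k ∈ K, QuadraticMap.polar (⇑Q) k x = 0) ∧ x ∉ K := by
    have horth : LinearMap.BilinForm.orthogonal B (E ⊔ K) = E ⊓ LinearMap.BilinForm.orthogonal B K := by
      ext x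
      constructor
      · intro hx
        refine ⟨hE.mem_of_orth hQ (fun u hu => hx u (Submodule.mem_sup_left hu)), ?_⟩
        intro k hk
        exact hx k (Submodule.mem_sup_right hk)
      · rintro ⟨hxE, hxK⟩ n hn
        obtain ⟨e, he, k, hk, rfl⟩ := Submodule.mem_sup.1 hn
        show B (e + k) x = 0
        rw [map_add, LinearMap.add_apply]
        have h5 : B e x = 0 := hE.ts.polar he hxE
        have h6 : B k x = 0 := hxK k hk
        rw [h5, h6, add_zero]
    have hfr := LinearMap.BilinForm.finrank_orthogonal hQ (E ⊔ K)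
    rw [Module.finrank_fintype_fun_eq_card, horth] at hfr
    have hsup := Submodule.finrank_sup_add_finrank_inf_eq E K
    have hnle : ¬ E' ≤ LinearMap.ker (QuadraticMap.polarBilin Q v) := by
      intro hle
      exact hφw (hle hwE')
    have hE'K : finrank F ↥E' = finrank F ↥K + 1 :=
      finrank_inf_ker_of_not_le E' (QuadraticMap.polarBilin Q v) hnle
    have hd1 := hE.dim
    have hd2 := hE'.dim
    have hcount : finrank F ↥(E ⊓ LinearMap.BilinForm.orthogonal B K) = finrank F ↥(E ⊓ K) + 1 := by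
      have hle : finrank F ↥(E ⊔ K) ≤ Fintype.card ι := by
        have := Submodule.finrank_le (E ⊔ K)
        rw [Module.finrank_fintype_fun_eq_card] at this
        exact this
      omega
    by_contra hno
    push Not at hno
    have hle : E ⊓ LinearMap.BilinForm.orthogonal B K ≤ E ⊓ K := by
      rintro x ⟨hxE, hxK⟩
      exact ⟨hxE, hno x hxE hxK⟩
    have := Submodule.finrank_mono hle
    omega
  obtain ⟨x, hxE, hxK, hxnK⟩ := hex
  set α := QuadraticMap.polar (⇑Q) x (Rl Q v w) with hα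
  set β := QuadraticMap.polar (⇑Q) x w with hβ
  set a := α / t with ha
  set b := β / t with hb
  set k := x - a • w - b • Rl Q v w with hk
  -- `k` is orthogonal to `E'` and to `E''`
  have hkK : ∀ k' ∈ K, QuadraticMap.polar (⇑Q) k' k = 0 := by
    intro k' hk'
    have hk'2 : k' ∈ E'.map (Rl Q v) := by
      have : k' ∈ E'.map (Rl Q v) ⊓ LinearMap.ker (QuadraticMap.polarBilin Q v) := by
        rw [hK'']; exact hk'
      exact this.1
    rw [hk, QuadraticMap.polar_sub_right, QuadraticMap.polar_sub_right, QuadraticMap.polar_smul_right,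
      QuadraticMap.polar_smul_right, hxK k' hk', hE'.ts.polar hk'.1 hwE', hE''.ts.polar hk'2 hRw]
    simp
  have hwk : QuadraticMap.polar (⇑Q) w k = 0 := by
    rw [hk, QuadraticMap.polar_sub_right, QuadraticMap.polar_sub_right, QuadraticMap.polar_smul_right,
      QuadraticMap.polar_smul_right, polar_self, hQw, ← ht, QuadraticMap.polar_comm (⇑Q) w x, ← hβ,
      hb, smul_eq_mul, smul_eq_mul]
    field_simp
    ring
  have hRwk : QuadraticMap.polar (⇑Q) (Rl Q v w) k = 0 := by
    rw [hk, QuadraticMap.polar_sub_right, QuadraticMap.polar_sub_right, QuadraticMap.polar_smul_right,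
      QuadraticMap.polar_smul_right, polar_self, hQRw, QuadraticMap.polar_comm (⇑Q) (Rl Q v w) w,
      ← ht, QuadraticMap.polar_comm (⇑Q) (Rl Q v w) x, ← hα, ha, smul_eq_mul, smul_eq_mul]
    field_simp
    ring
  have hkE' : k ∈ E' := hE'.mem_of_orth hQ (IsLag.orth_of_orth v w k hwE' hφw hkK hwk)
  have hφRw : QuadraticMap.polar (⇑Q) v (Rl Q v w) ≠ 0 := by
    rw [phi_Rl v hv]; exact neg_ne_zero.2 hφw
  have hkE'' : k ∈ E'.map (Rl Q v) := hE''.mem_of_orth hQ
    (IsLag.orth_of_orth v (Rl Q v w) k hRw hφRw (by rw [hK'']; exact hkK) hRwk)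
  -- expand `Q x = 0`
  have hxeq : x = k + (a • w + b • Rl Q v w) := by rw [hk]; abel
  have hQx := hE.ts x hxE
  have hky : QuadraticMap.polar (⇑Q) k (a • w + b • Rl Q v w) = 0 := by
    rw [QuadraticMap.polar_add_right, QuadraticMap.polar_smul_right, QuadraticMap.polar_smul_right,
      hE'.ts.polar hkE' hwE', hE''.ts.polar hkE'' hRw, smul_zero, smul_zero, add_zero]
  have hQy : Q (a • w + b • Rl Q v w) = a * (b * t) := by
    rw [QuadraticMap.map_add Q, QuadraticMap.map_smul, QuadraticMap.map_smul, hQw, hQRw,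
      QuadraticMap.polar_smul_left, QuadraticMap.polar_smul_right, ← ht]
    simp only [smul_eq_mul, mul_zero, add_zero, zero_add]
  rw [hxeq, QuadraticMap.map_add Q, hE'.ts k hkE', hQy, hky, zero_add, add_zero] at hQx
  rcases mul_eq_zero.1 hQx with ha0 | hbt
  · -- `a = 0`: `x ∈ E''`
    have hxE'' : x ∈ E'.map (Rl Q v) := by
      rw [hxeq, ha0, zero_smul, zero_add]
      exact Submodule.add_mem _ hkE'' (Submodule.smul_mem _ _ hRw)
    have hφx : x ∈ LinearMap.ker (QuadraticMap.polarBilin Q v) := h3 ⟨hxE, hxE''⟩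
    have : x ∈ E'.map (Rl Q v) ⊓ LinearMap.ker (QuadraticMap.polarBilin Q v) := ⟨hxE'', hφx⟩
    rw [hK''] at this
    exact hxnK this
  · have hb0 : b = 0 := by
      rcases mul_eq_zero.1 hbt with h | h
      · exact h
      · exact absurd h ht0
    have hxE' : x ∈ E' := by
      rw [hxeq, hb0, zero_smul, add_zero]
      exact Submodule.add_mem _ hkE' (Submodule.smul_mem _ _ hwE')
    have hφx : x ∈ LinearMap.ker (QuadraticMap.polarBilin Q v) := h1 ⟨hxE, hxE'⟩
    exact hxnK ⟨hxE', hφx⟩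

/-- multiplying by a reflection changes the dimension of the intersection by one -/
theorem finrank_flip (hQ : (QuadraticMap.polarBilin Q).Nondegenerate)
    {E E' : Submodule F (ι → F)} (hE : IsLag Q E) (hE' : IsLag Q E')
    (v : ι → F) (hv : Q v ≠ 0) :
    finrank F ↥(E ⊓ E'.map (Rl Q v)) + finrank F ↥(E ⊓ E') =
      2 * finrank F ↥(E ⊓ (E' ⊓ LinearMap.ker (QuadraticMap.polarBilin Q v))) + 1 := by
  have hK'' := map_Rl_inf_ker E' v hv
  have e1 : E ⊓ E' ⊓ LinearMap.ker (QuadraticMap.polarBilin Q v) =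
      E ⊓ (E' ⊓ LinearMap.ker (QuadraticMap.polarBilin Q v)) := inf_assoc _ _ _
  have e2 : E ⊓ E'.map (Rl Q v) ⊓ LinearMap.ker (QuadraticMap.polarBilin Q v) =
      E ⊓ (E' ⊓ LinearMap.ker (QuadraticMap.polarBilin Q v)) := by
    rw [inf_assoc, hK'']
  by_cases h1 : E ⊓ E' ≤ LinearMap.ker (QuadraticMap.polarBilin Q v)
  · by_cases h3 : E ⊓ E'.map (Rl Q v) ≤ LinearMap.ker (QuadraticMap.polarBilin Q v)
    · exact (not_both_in hQ hE hE' v hv h1 h3).elim
    · have a1 := finrank_inf_ker_of_le _ _ h1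
      have a2 := finrank_inf_ker_of_not_le _ _ h3
      rw [e1] at a1
      rw [e2] at a2
      omega
  · by_cases h3 : E ⊓ E'.map (Rl Q v) ≤ LinearMap.ker (QuadraticMap.polarBilin Q v)
    · have a1 := finrank_inf_ker_of_not_le _ _ h1
      have a2 := finrank_inf_ker_of_le _ _ h3
      rw [e1] at a1
      rw [e2] at a2
      omega
    · exact (not_both_out hE hE' v hv h1 h3).elim

/-- the image of a Lagrangian under an isometry -/
theorem IsLag.map_iso {E : Submodule F (ι → F)} (hE : IsLag Q E)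
    (g : ↥(Cfsg.isometryGroup F ⇑Q)) :
    IsLag Q (E.map (Matrix.mulVecLin ((g : Matrix.GeneralLinearGroup ι F) : Matrix ι ι F))) where
  ts := by
    rintro u ⟨y, hy, rfl⟩
    show Q (((g : Matrix.GeneralLinearGroup ι F) : Matrix ι ι F) *ᵥ y) = 0
    rw [iso_Q]
    exact hE.ts y hy
  dim := by
    rw [← hE.dim]
    congr 1
    have hinj : Function.Injective
        (Matrix.mulVecLin ((g : Matrix.GeneralLinearGroup ι F) : Matrix ι ι F)) := by
      intro x y hxy
      have h1 : ((g⁻¹ : ↥(Cfsg.isometryGroup F ⇑Q)) : Matrix.GeneralLinearGroup ι F).1 *ᵥ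
          (((g : Matrix.GeneralLinearGroup ι F) : Matrix ι ι F) *ᵥ x) =
          ((g⁻¹ : ↥(Cfsg.isometryGroup F ⇑Q)) : Matrix.GeneralLinearGroup ι F).1 *ᵥ
          (((g : Matrix.GeneralLinearGroup ι F) : Matrix ι ι F) *ᵥ y) := by
        have : ((g : Matrix.GeneralLinearGroup ι F) : Matrix ι ι F) *ᵥ x =
          ((g : Matrix.GeneralLinearGroup ι F) : Matrix ι ι F) *ᵥ y := hxy
        rw [this]
      rw [← mul_mulVec, ← mul_mulVec, inv_mul_cancel, one_mulVec', one_mulVec'] at h1
      exact h1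
    exact (LinearEquiv.finrank_eq (Submodule.equivMapOfInjective _ hinj E)).symm

/-- the parity of the intersection dimension for a product of reflections -/
theorem finrank_inf_prod [Fintype F] (hQ : (QuadraticMap.polarBilin Q).Nondegenerate)
    {E : Submodule F (ι → F)} (hE : IsLag Q E) (vs : List (ι → F))
    (hvs : ∀ v ∈ vs, Q v ≠ 0) :
    ∀ (g : ↥(Cfsg.isometryGroup F ⇑Q)),
    ((g : Matrix.GeneralLinearGroup ι F) : Matrix ι ι F) =
      (vs.map (fun v => Cfsg.reflectionMatrix ⇑Q v)).prod →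
    ((finrank F ↥(E ⊓ E.map (Matrix.mulVecLin
      ((g : Matrix.GeneralLinearGroup ι F) : Matrix ι ι F))) : ℕ) : ZMod 2) =
      (finrank F ↥E : ZMod 2) + (vs.length : ZMod 2) := by
  induction vs with
  | nil =>
    intro g hg
    rw [hg, List.map_nil, List.prod_nil, Matrix.mulVecLin_one, Submodule.map_id, inf_idem]
    simp
  | cons v vs ih =>
    have hv : Q v ≠ 0 := hvs v (List.mem_cons_self)
    have ih := ih (fun w hw => hvs w (List.mem_cons_of_mem _ hw))
    intro g hg
    obtain ⟨g', hg'⟩ := Cfsg.Agent.Lib.Helper5.SpinorDiag.exists_of_prod (Q := Q) vs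
      (fun w hw => hvs w (List.mem_cons_of_mem _ hw))
    have ih' := ih g' hg'
    have hmap : E.map (Matrix.mulVecLin ((g : Matrix.GeneralLinearGroup ι F) : Matrix ι ι F)) =
        (E.map (Matrix.mulVecLin ((g' : Matrix.GeneralLinearGroup ι F) : Matrix ι ι F))).map
          (Rl Q v) := by
      rw [← Submodule.map_comp, hg, List.map_cons, List.prod_cons, ← hg', Matrix.mulVecLin_mul]
      rfl
    have hflip := finrank_flip hQ hE (hE.map_iso g') v hv
    rw [← hmap] at hflip
    have hcast := congrArg (fun n : ℕ => (n : ZMod 2)) hflip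
    simp only [Nat.cast_add, Nat.cast_mul, Nat.cast_one, Nat.cast_ofNat] at hcast
    rw [ih'] at hcast
    rw [List.length_cons, Nat.cast_add, Nat.cast_one]
    have h2 : (2 : ZMod 2) = 0 := by decide
    rw [h2, zero_mul, zero_add] at hcast
    have hx : ∀ a b c : ZMod 2, a + (b + c) = 1 → a = b + (c + 1) := by decide
    exact hx _ _ _ hcast

theorem even_sub_iff [Fintype F] (hQ : (QuadraticMap.polarBilin Q).Nondegenerate)
    {E : Submodule F (ι → F)} (hE : IsLag Q E) (vs : List (ι → F))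
    (hvs : ∀ v ∈ vs, Q v ≠ 0) (g : ↥(Cfsg.isometryGroup F ⇑Q))
    (hg : ((g : Matrix.GeneralLinearGroup ι F) : Matrix ι ι F) =
      (vs.map (fun v => Cfsg.reflectionMatrix ⇑Q v)).prod) :
    Even (finrank F ↥E - finrank F ↥(E ⊓ E.map (Matrix.mulVecLin
      ((g : Matrix.GeneralLinearGroup ι F) : Matrix ι ι F)))) ↔ Even vs.length := by
  have h1 := finrank_inf_prod hQ hE vs hvs g hg
  have hle : finrank F ↥(E ⊓ E.map (Matrix.mulVecLin
      ((g : Matrix.GeneralLinearGroup ι F) : Matrix ι ι F))) ≤ finrank F ↥E :=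
    Submodule.finrank_mono inf_le_left
  rw [← ZMod.natCast_eq_zero_iff_even, ← ZMod.natCast_eq_zero_iff_even, Nat.cast_sub hle, h1]
  have hx : ∀ a b : ZMod 2, a - (a + b) = 0 ↔ b = 0 := by decide
  exact hx _ _

section std
open Cfsg.Agent.Lib.Helper5.QuadGlue

/-- the standard Lagrangian of the plus-type form -/
def Estd (m : ℕ) (F : Type*) [Field F] : Submodule F (Fin m ⊕ Fin m → F) :=
  LinearMap.ker (LinearMap.funLeft F F (Sum.inr : Fin m → Fin m ⊕ Fin m))

theorem mem_Estd {m : ℕ} (w : Fin m ⊕ Fin m → F) : w ∈ Estd m F ↔ ∀ i, w (Sum.inr i) = 0 := by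
  unfold Estd
  rw [LinearMap.mem_ker]
  constructor
  · intro h i
    exact congrFun h i
  · intro h
    funext i
    exact h i

theorem finrank_Estd (m : ℕ) : finrank F ↥(Estd m F) = m := by
  have h := LinearMap.finrank_range_add_finrank_ker
    (LinearMap.funLeft F F (Sum.inr : Fin m → Fin m ⊕ Fin m))
  have hs : LinearMap.range (LinearMap.funLeft F F (Sum.inr : Fin m → Fin m ⊕ Fin m)) = ⊤ :=
    LinearMap.range_eq_top.2 (LinearMap.funLeft_surjective_of_injective F F _ Sum.inr_injective)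
  rw [hs, finrank_top, Module.finrank_fintype_fun_eq_card, Module.finrank_fintype_fun_eq_card,
    Fintype.card_sum, Fintype.card_fin] at h
  unfold Estd
  omega

theorem isLag_Estd (m : ℕ) : IsLag (QP m F) (Estd m F) where
  ts := by
    intro u hu
    rw [mem_Estd] at hu
    rw [QP_apply]
    unfold Cfsg.quadFormPlus
    apply Finset.sum_eq_zero
    intro i _
    rw [hu i, mul_zero]
  dim := by
    rw [finrank_Estd, Fintype.card_sum, Fintype.card_fin]
    ring

end std

end Cfsg.Agent.Lib.Helper5.MaxTS
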