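import Mathlib
import Cfsg.Agent.Lib.Helper5.MaxTS

set_option autoImplicit false

namespace Cfsg.Agent.Lib.Helper5.OmegaAdjust

open Cfsg.Agent.Lib.Helper2 Cfsg.Agent.Lib.Helper2.CDG Cfsg.Agent.Lib.Helper2.ReflGen Matrix
open Cfsg.Agent.Lib.Helper5.OmegaCrit Cfsg.Agent.Lib.Helper5.SpinorDiag Module

variable {F : Type*} [Field F] {ι : Type} [Fintype ι] [DecidableEq ι]
variable {Q : QuadraticForm F (ι → F)}

/-- the action of isometries on subspaces -/
def act (g : ↥(Cfsg.isometryGroup F ⇑Q)) (U : Submodule F (ι → F)) : Submodule F (ι → F) :=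
  U.map (Matrix.mulVecLin ((g : Matrix.GeneralLinearGroup ι F) : Matrix ι ι F))

theorem mem_act (g : ↥(Cfsg.isometryGroup F ⇑Q)) (U : Submodule F (ι → F)) (x : ι → F) :
    x ∈ act g U ↔ ∃ y ∈ U, ((g : Matrix.GeneralLinearGroup ι F) : Matrix ι ι F) *ᵥ y = x :=
  Submodule.mem_map

theorem act_mul (g h : ↥(Cfsg.isometryGroup F ⇑Q)) (U : Submodule F (ι → F)) :
    act (g * h) U = act g (act h U) := by
  unfold act
  rw [← Submodule.map_comp]
  congr 1
  show Matrix.mulVecLin (((g : Matrix.GeneralLinearGroup ι F) : Matrix ι ι F) *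
    ((h : Matrix.GeneralLinearGroup ι F) : Matrix ι ι F)) = _
  rw [Matrix.mulVecLin_mul]

theorem act_one (U : Submodule F (ι → F)) : act (1 : ↥(Cfsg.isometryGroup F ⇑Q)) U = U := by
  unfold act
  show U.map (Matrix.mulVecLin (1 : Matrix ι ι F)) = U
  rw [Matrix.mulVecLin_one, Submodule.map_id]

theorem mulVecLin_injective (g : ↥(Cfsg.isometryGroup F ⇑Q)) : Function.Injective
    (Matrix.mulVecLin ((g : Matrix.GeneralLinearGroup ι F) : Matrix ι ι F)) := by
  intro x y hxy
  have h1 : ((g⁻¹ : ↥(Cfsg.isometryGroup F ⇑Q)) : Matrix.GeneralLinearGroup ι F).1 *ᵥ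
      (((g : Matrix.GeneralLinearGroup ι F) : Matrix ι ι F) *ᵥ x) =
      ((g⁻¹ : ↥(Cfsg.isometryGroup F ⇑Q)) : Matrix.GeneralLinearGroup ι F).1 *ᵥ
      (((g : Matrix.GeneralLinearGroup ι F) : Matrix ι ι F) *ᵥ y) := by
    have : ((g : Matrix.GeneralLinearGroup ι F) : Matrix ι ι F) *ᵥ x =
      ((g : Matrix.GeneralLinearGroup ι F) : Matrix ι ι F) *ᵥ y := hxy
    rw [this]
  rw [← mul_mulVec, ← mul_mulVec, inv_mul_cancel, one_mulVec', one_mulVec'] at h1
  exact h1

theorem finrank_act (g : ↥(Cfsg.isometryGroup F ⇑Q)) (U : Submodule F (ι → F)) :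
    finrank F ↥(act g U) = finrank F ↥U :=
  (LinearEquiv.finrank_eq (Submodule.equivMapOfInjective _ (mulVecLin_injective g) U)).symm

theorem act_eq_of_le (g : ↥(Cfsg.isometryGroup F ⇑Q)) (W : Submodule F (ι → F))
    (h : act g W ≤ W) : act g W = W :=
  Submodule.eq_of_le_of_finrank_eq h (finrank_act g W)

/-- a reflection in a vector of `W` preserves `W` -/
theorem act_refl_of_mem (W : Submodule F (ι → F)) (w : ι → F) (hw : Q w ≠ 0) (hwW : w ∈ W) :
    act (refl Q w hw) W = W := by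
  apply act_eq_of_le
  intro x hx
  obtain ⟨y, hy, rfl⟩ := (mem_act _ _ _).1 hx
  rw [refl_mulVec]
  exact W.sub_mem hy (W.smul_mem _ hwW)

/-- a reflection in a vector orthogonal to `W` preserves `W` -/
theorem act_refl_of_orth (W : Submodule F (ι → F)) (z : ι → F) (hz : Q z ≠ 0)
    (hzW : ∀ w ∈ W, QuadraticMap.polar (⇑Q) z w = 0) :
    act (refl Q z hz) W = W := by
  apply act_eq_of_le
  intro x hx
  obtain ⟨y, hy, rfl⟩ := (mem_act _ _ _).1 hx
  rw [refl_mulVec, hzW y hy, mul_zero, zero_smul, sub_zero]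
  exact hy

/-- the norm of `e - d f` for a hyperbolic pair -/
theorem Q_sub_smul (e f : ι → F) (he : Q e = 0) (hf : Q f = 0)
    (hef : QuadraticMap.polar (⇑Q) e f = 1) (d : F) : Q (e - d • f) = -d := by
  rw [sub_eq_add_neg, ← neg_smul, map_add_smul, he, hf, hef]
  ring

/-- the action of `r_{e-f} r_{e-df}` -/
theorem hd_mulVec (e f : ι → F) (he : Q e = 0) (hf : Q f = 0)
    (hef : QuadraticMap.polar (⇑Q) e f = 1) (d : F) (hd : d ≠ 0) (x : ι → F) :
    Cfsg.reflectionMatrix (⇑Q) (e - (1 : F) • f) *ᵥ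
        (Cfsg.reflectionMatrix (⇑Q) (e - d • f) *ᵥ x) =
      x + ((d - 1) * QuadraticMap.polar (⇑Q) f x) • e +
        ((d⁻¹ - 1) * QuadraticMap.polar (⇑Q) e x) • f := by
  have hee : QuadraticMap.polar (⇑Q) e e = 0 := by rw [polar_self, he, mul_zero]
  have hff : QuadraticMap.polar (⇑Q) f f = 0 := by rw [polar_self, hf, mul_zero]
  have hfe : QuadraticMap.polar (⇑Q) f e = 1 := by rw [QuadraticMap.polar_comm, hef]
  rw [reflectionMatrix_mulVec, reflectionMatrix_mulVec, Q_sub_smul e f he hf hef,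
    Q_sub_smul e f he hf hef]
  simp only [QuadraticMap.polar_sub_left, QuadraticMap.polar_sub_right,
    QuadraticMap.polar_smul_left, QuadraticMap.polar_smul_right, smul_eq_mul, hee, hff, hef, hfe]
  funext k
  simp only [Pi.add_apply, Pi.sub_apply, Pi.smul_apply, smul_eq_mul]
  field_simp
  ring

variable [Fintype F]

/-- the element `h_d = r_{e-f} r_{e-df}` preserving every totally singular subspace through `e` -/
theorem exists_hd (W : Submodule F (ι → F)) (hW : ∀ w ∈ W, Q w = 0) (e f : ι → F) (heW : e ∈ W)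
    (hf : Q f = 0) (hef : QuadraticMap.polar (⇑Q) e f = 1) (d : F) (hd : d ≠ 0) :
    ∃ h : ↥(Cfsg.isometryGroup F ⇑Q),
      ((h : Matrix.GeneralLinearGroup ι F) : Matrix ι ι F) =
        ([e - (1 : F) • f, e - d • f].map (fun v => Cfsg.reflectionMatrix ⇑Q v)).prod ∧
      (∀ v ∈ [e - (1 : F) • f, e - d • f], Q v ≠ 0) ∧
      ([e - (1 : F) • f, e - d • f].map (fun v => Q v)).prod = d ∧
      act h W = W := by
  have he : Q e = 0 := hW e heW
  have hne : ∀ v ∈ [e - (1 : F) • f, e - d • f], Q v ≠ 0 := by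
    intro v hv
    rw [List.mem_cons, List.mem_singleton] at hv
    rcases hv with rfl | rfl
    · rw [Q_sub_smul e f he hf hef]; exact neg_ne_zero.2 one_ne_zero
    · rw [Q_sub_smul e f he hf hef]; exact neg_ne_zero.2 hd
  obtain ⟨h, hh⟩ := exists_of_prod (Q := Q) [e - (1 : F) • f, e - d • f] hne
  refine ⟨h, hh, hne, ?_, ?_⟩
  · simp only [List.map_cons, List.map_nil, List.prod_cons, List.prod_nil, mul_one]
    rw [Q_sub_smul e f he hf hef, Q_sub_smul e f he hf hef]
    ring
  · apply act_eq_of_le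
    intro x hx
    obtain ⟨y, hy, rfl⟩ := (mem_act _ _ _).1 hx
    rw [hh]
    simp only [List.map_cons, List.map_nil, List.prod_cons, List.prod_nil, mul_one]
    rw [← Matrix.mulVec_mulVec, hd_mulVec e f he hf hef d hd]
    have hey : QuadraticMap.polar (⇑Q) e y = 0 := by
      unfold QuadraticMap.polar
      rw [hW _ (W.add_mem heW hy), he, hW y hy]
      ring
    rw [hey, mul_zero, zero_smul, add_zero]
    exact W.add_mem hy (W.smul_mem _ heW)

/-- adjusting an isometry by an element of the stabilizer -/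
theorem adjust (hQ : (QuadraticMap.polarBilin Q).Nondegenerate)
    (hex : Fintype.card F ≠ 2 ∨ Fintype.card ι ≠ 4) (hn : 2 ≤ Fintype.card ι)
    (U W : Submodule F (ι → F)) (g₀ : ↥(Cfsg.isometryGroup F ⇑Q)) (hg₀ : act g₀ U = W)
    (vs : List (ι → F)) (hvs : ∀ v ∈ vs, Q v ≠ 0)
    (hgm : ((g₀ : Matrix.GeneralLinearGroup ι F) : Matrix ι ι F) =
      (vs.map (fun v => Cfsg.reflectionMatrix ⇑Q v)).prod)
    (h : ↥(Cfsg.isometryGroup F ⇑Q)) (ws : List (ι → F)) (hws : ∀ v ∈ ws, Q v ≠ 0)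
    (hhm : ((h : Matrix.GeneralLinearGroup ι F) : Matrix ι ι F) =
      (ws.map (fun v => Cfsg.reflectionMatrix ⇑Q v)).prod)
    (hhW : act h W = W) (hpar : Even (ws.length + vs.length))
    (hsq : IsSquare ((ws.map (fun v => Q v)).prod * (vs.map (fun v => Q v)).prod)) :
    ∃ g : ↥(Cfsg.isometryGroup F ⇑Q), g ∈ commutator ↥(Cfsg.isometryGroup F ⇑Q) ∧ act g U = W := by
  refine ⟨h * g₀, ?_, ?_⟩
  · rw [criterion_all hQ hex hn (h * g₀) (ws ++ vs) (by
      intro v hv
      rw [List.mem_append] at hv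
      rcases hv with hv | hv
      · exact hws v hv
      · exact hvs v hv) (by
      rw [List.map_append, List.prod_append, ← hhm, ← hgm]; rfl)]
    rw [List.length_append, List.map_append, List.prod_append]
    exact ⟨hpar, hsq⟩
  · rw [act_mul, hg₀, hhW]

omit [Fintype F] [DecidableEq ι] in
theorem prod_Q_ne_zero (vs : List (ι → F)) (hvs : ∀ v ∈ vs, Q v ≠ 0) :
    (vs.map (fun v => Q v)).prod ≠ 0 := by
  apply List.prod_ne_zero
  intro h0
  rw [List.mem_map] at h0
  obtain ⟨v, hv, hv0⟩ := h0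
  exact hvs v hv hv0

/-- the totally singular case: `2k < n` -/
theorem ts_adjust (hQ : (QuadraticMap.polarBilin Q).Nondegenerate)
    (hex : Fintype.card F ≠ 2 ∨ Fintype.card ι ≠ 4)
    (U W : Submodule F (ι → F)) (hW0 : ∀ w ∈ W, Q w = 0)
    (hk : 2 * finrank F ↥W < Fintype.card ι)
    (g₀ : ↥(Cfsg.isometryGroup F ⇑Q)) (hg₀ : act g₀ U = W) :
    ∃ g : ↥(Cfsg.isometryGroup F ⇑Q), g ∈ commutator ↥(Cfsg.isometryGroup F ⇑Q) ∧ act g U = W := by
  by_cases hWbot : W = ⊥
  · refine ⟨1, Subgroup.one_mem _, ?_⟩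
    rw [act_one]
    have h1 := finrank_act g₀ U
    rw [hg₀, hWbot, finrank_bot] at h1
    rw [hWbot]
    exact Submodule.finrank_eq_zero.1 h1.symm
  obtain ⟨e, heW, he0⟩ := Submodule.exists_mem_ne_zero_of_ne_bot hWbot
  have he : Q e = 0 := hW0 e heW
  obtain ⟨f, hef, hf⟩ := Cfsg.Agent.Lib.Helper5.exists_partner Q hQ he0 he
  have hn : 2 ≤ Fintype.card ι := by
    have : 0 < finrank F ↥W := by
      rw [Module.finrank_pos_iff_exists_ne_zero]
      exact ⟨⟨e, heW⟩, fun h => he0 (congrArg Subtype.val h)⟩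
    omega
  -- a nonsingular vector orthogonal to `W`
  have hz : ∃ z : ι → F, Q z ≠ 0 ∧ ∀ w ∈ W, QuadraticMap.polar (⇑Q) z w = 0 := by
    by_contra hno
    push Not at hno
    set B := QuadraticMap.polarBilin Q with hB
    have hts : ∀ z ∈ LinearMap.BilinForm.orthogonal B W, Q z = 0 := by
      intro z hz
      by_contra hz0
      obtain ⟨w, hwW, hw⟩ := hno z hz0
      apply hw
      rw [QuadraticMap.polar_comm]
      exact hz w hwW
    have hle : LinearMap.BilinForm.orthogonal B W ≤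
        LinearMap.BilinForm.orthogonal B (LinearMap.BilinForm.orthogonal B W) := by
      intro x hx y hy
      show QuadraticMap.polar (⇑Q) y x = 0
      unfold QuadraticMap.polar
      rw [hts _ (Submodule.add_mem _ hy hx), hts y hy, hts x hx]
      ring
    have h1 := LinearMap.BilinForm.finrank_orthogonal hQ W
    have h3 := LinearMap.BilinForm.finrank_orthogonal hQ (LinearMap.BilinForm.orthogonal B W)
    rw [Module.finrank_fintype_fun_eq_card] at h1 h3
    have h4 := Submodule.finrank_mono hle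
    have h5 : finrank F ↥W ≤ Fintype.card ι := by
      have := Submodule.finrank_le W
      rw [Module.finrank_fintype_fun_eq_card] at this
      exact this
    omega
  obtain ⟨z, hzQ, hzW⟩ := hz
  obtain ⟨vs, hvs, hgm⟩ := exists_list (closure_R_all hQ hex hn) g₀
  have hP := prod_Q_ne_zero vs hvs
  rcases Nat.even_or_odd vs.length with hev | hod
  · obtain ⟨h, hhm, hne, hprod, hhW⟩ := exists_hd W hW0 e f heW hf hef _ hP
    refine adjust hQ hex hn U W g₀ hg₀ vs hvs hgm h _ hne hhm hhW ?_ ?_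
    · simp only [List.length_cons, List.length_nil]
      obtain ⟨r, hr⟩ := hev
      exact ⟨r + 1, by omega⟩
    · rw [hprod]
      exact ⟨_, rfl⟩
  · obtain ⟨h, hhm, hne, hprod, hhW⟩ := exists_hd W hW0 e f heW hf hef
      ((vs.map (fun v => Q v)).prod * Q z) (mul_ne_zero hP hzQ)
    refine adjust hQ hex hn U W g₀ hg₀ vs hvs hgm (h * refl Q z hzQ)
      ([e - (1 : F) • f, e - ((vs.map (fun v => Q v)).prod * Q z) • f] ++ [z]) ?_ ?_ ?_ ?_ ?_
    · intro v hv
      rw [List.mem_append, List.mem_singleton] at hv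
      rcases hv with hv | rfl
      · exact hne v hv
      · exact hzQ
    · rw [List.map_append, List.prod_append, ← hhm]
      simp only [List.map_cons, List.map_nil, List.prod_cons, List.prod_nil, mul_one]
      rfl
    · rw [act_mul, act_refl_of_orth W z hzQ hzW, hhW]
    · simp only [List.length_append, List.length_cons, List.length_nil]
      obtain ⟨r, hr⟩ := hod
      exact ⟨r + 2, by omega⟩
    · rw [List.map_append, List.prod_append, hprod]
      simp only [List.map_cons, List.map_nil, List.prod_cons, List.prod_nil, mul_one]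
      exact ⟨(vs.map (fun v => Q v)).prod * Q z, by ring⟩

open Cfsg.Agent.Lib.Helper5.MaxTS in
/-- the Lagrangian case -/
theorem lag_adjust (hQ : (QuadraticMap.polarBilin Q).Nondegenerate)
    (hex : Fintype.card F ≠ 2 ∨ Fintype.card ι ≠ 4) (hn : 2 ≤ Fintype.card ι)
    (U W : Submodule F (ι → F)) (hU : IsLag Q U) (hW : IsLag Q W)
    (hpar : Even (finrank F ↥U - finrank F ↥(U ⊓ W)))
    (g₀ : ↥(Cfsg.isometryGroup F ⇑Q)) (hg₀ : act g₀ U = W) :
    ∃ g : ↥(Cfsg.isometryGroup F ⇑Q), g ∈ commutator ↥(Cfsg.isometryGroup F ⇑Q) ∧ act g U = W := by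
  have hWbot : W ≠ ⊥ := by
    intro h
    have := hW.dim
    rw [h, finrank_bot] at this
    omega
  obtain ⟨e, heW, he0⟩ := Submodule.exists_mem_ne_zero_of_ne_bot hWbot
  have he : Q e = 0 := hW.ts e heW
  obtain ⟨f, hef, hf⟩ := Cfsg.Agent.Lib.Helper5.exists_partner Q hQ he0 he
  obtain ⟨vs, hvs, hgm⟩ := exists_list (closure_R_all hQ hex hn) g₀
  have hP := prod_Q_ne_zero vs hvs
  have hev : Even vs.length := by
    rw [← even_sub_iff hQ hU vs hvs g₀ hgm]
    have : U.map (Matrix.mulVecLin ((g₀ : Matrix.GeneralLinearGroup ι F) : Matrix ι ι F)) = W := hg₀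
    rw [this]
    exact hpar
  obtain ⟨h, hhm, hne, hprod, hhW⟩ := exists_hd W hW.ts e f heW hf hef _ hP
  refine adjust hQ hex hn U W g₀ hg₀ vs hvs hgm h _ hne hhm hhW ?_ ?_
  · simp only [List.length_cons, List.length_nil]
    obtain ⟨r, hr⟩ := hev
    exact ⟨r + 1, by omega⟩
  · rw [hprod]
    exact ⟨_, rfl⟩

omit [DecidableEq ι] in
/-- a nondegenerate subspace of dimension at least two represents every nonzero value -/
theorem exists_value_sub (W' : Submodule F (ι → F))
    (hnd : W' ⊓ LinearMap.BilinForm.orthogonal (QuadraticMap.polarBilin Q) W' = ⊥)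
    (hdim : 2 ≤ finrank F ↥W') (c : F) (hc : c ≠ 0) : ∃ w ∈ W', Q w = c := by
  set Q' : QuadraticForm F ↥W' := c⁻¹ • (Q.comp W'.subtype) with hQ'
  have hpol : ∀ a b : ↥W', QuadraticMap.polar (⇑Q') a b =
      c⁻¹ * QuadraticMap.polar (⇑Q) (a : ι → F) (b : ι → F) := by
    intro a b
    simp [hQ', QuadraticMap.polar, QuadraticMap.comp_apply]
    ring
  have hleft : ∀ x : ↥W', (∀ y : ↥W', QuadraticMap.polar (⇑Q') x y = 0) → x = 0 := by
    intro x hx
    have hmem : (x : ι → F) ∈ W' ⊓ LinearMap.BilinForm.orthogonal (QuadraticMap.polarBilin Q) W' := by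
      refine ⟨x.2, ?_⟩
      intro y hy
      have := hx ⟨y, hy⟩
      rw [hpol] at this
      rcases mul_eq_zero.1 this with h | h
      · exact absurd h (inv_ne_zero hc)
      · show QuadraticMap.polar (⇑Q) y (x : ι → F) = 0
        rw [QuadraticMap.polar_comm]
        exact h
    rw [hnd, Submodule.mem_bot] at hmem
    exact Subtype.ext hmem
  have hQ'nd : (QuadraticMap.polarBilin Q').Nondegenerate := by
    constructor
    · intro x hx
      exact hleft x hx
    · intro y hy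
      apply hleft y
      intro x
      rw [QuadraticMap.polar_comm]
      exact hy x
  obtain ⟨w, hw⟩ := Cfsg.Agent.Lib.Helper5.exists_represents_one Q' hQ'nd hdim
  refine ⟨w.1, w.2, ?_⟩
  have h1 : c⁻¹ * Q (w : ι → F) = 1 := hw
  field_simp at h1
  exact h1

/-- the nondegenerate case -/
theorem nondeg_adjust (hQ : (QuadraticMap.polarBilin Q).Nondegenerate)
    (hex : Fintype.card F ≠ 2 ∨ Fintype.card ι ≠ 4) (hn : 3 ≤ Fintype.card ι)
    (U W : Submodule F (ι → F))
    (hW : W ⊓ LinearMap.BilinForm.orthogonal (QuadraticMap.polarBilin Q) W = ⊥)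
    (g₀ : ↥(Cfsg.isometryGroup F ⇑Q)) (hg₀ : act g₀ U = W) :
    ∃ g : ↥(Cfsg.isometryGroup F ⇑Q), g ∈ commutator ↥(Cfsg.isometryGroup F ⇑Q) ∧ act g U = W := by
  set B := QuadraticMap.polarBilin Q with hB
  have hn2 : 2 ≤ Fintype.card ι := by omega
  have hrefl : LinearMap.BilinForm.IsRefl B := Cfsg.Agent.Lib.Helper5.polarBilin_isRefl Q
  -- a stabilised universal subspace
  have hkey : ∃ W' : Submodule F (ι → F),
      W' ⊓ LinearMap.BilinForm.orthogonal B W' = ⊥ ∧
      (2 ≤ finrank F ↥W' ∨ U = W) ∧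
      ∀ w ∈ W', ∀ hw : Q w ≠ 0, act (refl Q w hw) W = W := by
    by_cases h2 : 2 ≤ finrank F ↥W
    · exact ⟨W, hW, Or.inl h2, fun w hw hwQ => act_refl_of_mem W w hwQ hw⟩
    · refine ⟨LinearMap.BilinForm.orthogonal B W, ?_, ?_, ?_⟩
      · rw [LinearMap.BilinForm.orthogonal_orthogonal hQ hrefl, inf_comm]
        exact hW
      · have h1 := LinearMap.BilinForm.finrank_orthogonal hQ W
        rw [Module.finrank_fintype_fun_eq_card] at h1
        left
        omega
      · intro w hw hwQ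
        apply act_refl_of_orth W w hwQ
        intro x hx
        rw [QuadraticMap.polar_comm]
        exact hw x hx
  obtain ⟨W', hW'nd, hW'dim, hW'stab⟩ := hkey
  rcases hW'dim with hW'dim | hUW
  swap
  · exact ⟨1, Subgroup.one_mem _, by rw [act_one, hUW]⟩
  obtain ⟨vs, hvs, hgm⟩ := exists_list (closure_R_all hQ hex hn2) g₀
  have hP := prod_Q_ne_zero vs hvs
  rcases Nat.even_or_odd vs.length with hev | hod
  · obtain ⟨w₁, hw₁, hQ₁⟩ := exists_value_sub W' hW'nd hW'dim 1 one_ne_zero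
    obtain ⟨w₂, hw₂, hQ₂⟩ := exists_value_sub W' hW'nd hW'dim _ hP
    have hne₁ : Q w₁ ≠ 0 := by rw [hQ₁]; exact one_ne_zero
    have hne₂ : Q w₂ ≠ 0 := by rw [hQ₂]; exact hP
    refine adjust hQ hex hn2 U W g₀ hg₀ vs hvs hgm (refl Q w₁ hne₁ * refl Q w₂ hne₂) [w₁, w₂]
      ?_ ?_ ?_ ?_ ?_
    · intro v hv
      rw [List.mem_cons, List.mem_singleton] at hv
      rcases hv with rfl | rfl
      · exact hne₁
      · exact hne₂
    · simp only [List.map_cons, List.map_nil, List.prod_cons, List.prod_nil, mul_one]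
      rfl
    · rw [act_mul, hW'stab w₂ hw₂ hne₂, hW'stab w₁ hw₁ hne₁]
    · simp only [List.length_cons, List.length_nil]
      obtain ⟨r, hr⟩ := hev
      exact ⟨r + 1, by omega⟩
    · simp only [List.map_cons, List.map_nil, List.prod_cons, List.prod_nil, mul_one]
      rw [hQ₁, hQ₂, one_mul]
      exact ⟨_, rfl⟩
  · obtain ⟨w, hw, hQw⟩ := exists_value_sub W' hW'nd hW'dim _ hP
    have hne : Q w ≠ 0 := by rw [hQw]; exact hP
    refine adjust hQ hex hn2 U W g₀ hg₀ vs hvs hgm (refl Q w hne) [w] ?_ ?_ ?_ ?_ ?_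
    · intro v hv
      rw [List.mem_singleton] at hv
      rw [hv]; exact hne
    · simp only [List.map_cons, List.map_nil, List.prod_cons, List.prod_nil, mul_one]
      rfl
    · exact hW'stab w hw hne
    · simp only [List.length_cons, List.length_nil]
      obtain ⟨r, hr⟩ := hod
      exact ⟨r + 1, by omega⟩
    · simp only [List.map_cons, List.map_nil, List.prod_cons, List.prod_nil, mul_one]
      rw [hQw]
      exact ⟨_, rfl⟩

omit [Fintype F] in
/-- an isometric linear equivalence gives an element of the isometry group -/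
theorem exists_iso_of_linearEquiv (g : (ι → F) ≃ₗ[F] (ι → F)) (hg : ∀ v, Q (g v) = Q v) :
    ∃ g₀ : ↥(Cfsg.isometryGroup F ⇑Q),
      ∀ x, ((g₀ : Matrix.GeneralLinearGroup ι F) : Matrix ι ι F) *ᵥ x = g x := by
  have h1 : LinearMap.toMatrix' g.toLinearMap * LinearMap.toMatrix' g.symm.toLinearMap = 1 := by
    rw [← LinearMap.toMatrix'_comp]
    have : g.toLinearMap ∘ₗ g.symm.toLinearMap = LinearMap.id := by
      ext x : 1
      simp
    rw [this, LinearMap.toMatrix'_id]
  have h3 : LinearMap.toMatrix' g.symm.toLinearMap * LinearMap.toMatrix' g.toLinearMap = 1 := by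
    rw [← LinearMap.toMatrix'_comp]
    have : g.symm.toLinearMap ∘ₗ g.toLinearMap = LinearMap.id := by
      ext x : 1
      simp
    rw [this, LinearMap.toMatrix'_id]
  refine ⟨⟨⟨LinearMap.toMatrix' g.toLinearMap, LinearMap.toMatrix' g.symm.toLinearMap, h1, h3⟩,
    fun u _ => ?_⟩, fun x => ?_⟩
  · show Q (LinearMap.toMatrix' g.toLinearMap *ᵥ u) = Q u
    rw [LinearMap.toMatrix'_mulVec]
    exact hg u
  · show LinearMap.toMatrix' g.toLinearMap *ᵥ x = g x
    rw [LinearMap.toMatrix'_mulVec]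
    rfl

omit [Fintype F] in
theorem act_eq_of_extends (g₀ : ↥(Cfsg.isometryGroup F ⇑Q)) (U W : Submodule F (ι → F))
    (φ : ↥U ≃ₗ[F] ↥W)
    (h : ∀ x : ↥U, ((g₀ : Matrix.GeneralLinearGroup ι F) : Matrix ι ι F) *ᵥ (x : ι → F) =
      (φ x : ι → F)) : act g₀ U = W := by
  ext y
  rw [mem_act]
  constructor
  · rintro ⟨x, hx, rfl⟩
    rw [h ⟨x, hx⟩]
    exact (φ ⟨x, hx⟩).2
  · intro hy
    refine ⟨(φ.symm ⟨y, hy⟩ : ι → F), (φ.symm ⟨y, hy⟩).2, ?_⟩
    rw [h, LinearEquiv.apply_symm_apply]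

end Cfsg.Agent.Lib.Helper5.OmegaAdjust
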