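import Mathlib

/-!
Primary decomposition of a vector space with an endomorphism, as an `F`-linear equivalence with a
product of quotient rings `F[X] ⧸ (p i ^ e i)`, from Mathlib's structure theorem for finitely generated
torsion modules over a PID.
-/

set_option autoImplicit false

namespace Cfsg.Agent.Lib.Helper5

open Polynomial Module

universe u v

variable {F : Type u} [Field F] {V : Type v} [AddCommGroup V] [Module F V] [FiniteDimensional F V]

/-- Primary decomposition of `(V, φ)`: an `F`-linear equivalence of `V` with `Π i, F[X] ⧸ (p i ^ e i)`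
(`p i` irreducible) under which `q(φ)` acts as multiplication by the class of `q` in each factor. -/
theorem exists_primary_decomp (φ : V →ₗ[F] V) :
    ∃ (ι : Type u) (_ : Fintype ι) (p : ι → F[X]) (_ : ∀ i, Irreducible (p i)) (e : ι → ℕ)
      (Ψ : V ≃ₗ[F] (∀ i, F[X] ⧸ F[X] ∙ p i ^ e i)),
      ∀ (q : F[X]) (u : V) (i : ι),
        Ψ (aeval φ q u) i = Ideal.Quotient.mk (F[X] ∙ p i ^ e i) q * Ψ u i := by
  classical
  have htors : Module.IsTorsion F[X] (AEval' φ) :=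
    Module.AEval.isTorsion_of_finiteDimensional F V φ
  obtain ⟨ι, hι, p, hp, e, ⟨Φ⟩⟩ := Module.equiv_directSum_of_isTorsion htors
  let Ψ : AEval' φ ≃ₗ[F[X]] (∀ i, F[X] ⧸ F[X] ∙ p i ^ e i) :=
    Φ ≪≫ₗ DirectSum.linearEquivFunOnFintype F[X] ι (fun i => F[X] ⧸ F[X] ∙ p i ^ e i)
  let ΨF : V ≃ₗ[F] (∀ i, F[X] ⧸ F[X] ∙ p i ^ e i) :=
    (AEval'.of φ) ≪≫ₗ (Ψ.restrictScalars F)
  refine ⟨ι, hι, p, hp, e, ΨF, ?_⟩
  intro q u i
  show Ψ (AEval'.of φ (aeval φ q u)) i = _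
  have h1 : AEval'.of φ (aeval φ q u) = q • AEval'.of φ u :=
    Module.AEval.of_aeval_smul (R := F) (M := V) φ q u
  rw [h1, map_smul]
  rfl

omit [FiniteDimensional F V] in
/-- The `X`-case of `exists_primary_decomp`. -/
theorem primary_decomp_X {ι : Type*} {p : ι → F[X]} {e : ι → ℕ} (φ : V →ₗ[F] V)
    (Ψ : V ≃ₗ[F] (∀ i, F[X] ⧸ F[X] ∙ p i ^ e i))
    (hΨ : ∀ (q : F[X]) (u : V) (i : ι),
        Ψ (aeval φ q u) i = Ideal.Quotient.mk (F[X] ∙ p i ^ e i) q * Ψ u i) (u : V) (i : ι) :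
    Ψ (φ u) i = Ideal.Quotient.mk (F[X] ∙ p i ^ e i) X * Ψ u i := by
  have := hΨ X u i
  rwa [aeval_X] at this

end Cfsg.Agent.Lib.Helper5
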