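import Mathlib
import Cfsg.Agent.Lib.Helper5.PrimaryDecomp

set_option autoImplicit false

namespace Cfsg.Agent.Lib.Helper5

open Polynomial Module

universe u v w

section charpolyMulX
variable {F : Type u} [Field F]

theorem charpoly_mulRoot (f : F[X]) (hf : f ≠ 0) [Module.Finite F (AdjoinRoot f)] :
    (LinearMap.mulLeft F (AdjoinRoot.root f)).charpoly = f * C f.leadingCoeff⁻¹ := by
  have h1 := _root_.charpoly_leftMulMatrix (AdjoinRoot.powerBasis hf)
  rw [Algebra.leftMulMatrix_apply, LinearMap.charpoly_toMatrix, AdjoinRoot.powerBasis_gen,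
    AdjoinRoot.minpoly_root hf] at h1
  exact h1

/-- The characteristic polynomial of multiplication by `X` on `F[X] ⧸ (f)` is the monic
normalisation of `f`. -/
theorem charpoly_mulX (f : F[X]) (hf : f ≠ 0) [hfin : Module.Finite F (F[X] ⧸ F[X] ∙ f)] :
    (LinearMap.mulLeft F (Ideal.Quotient.mk (F[X] ∙ f) X)).charpoly = f * C f.leadingCoeff⁻¹ := by
  have : Module.Finite F (AdjoinRoot f) := hfin
  exact charpoly_mulRoot f hf

end charpolyMulX

section charpolyPi
variable {F : Type u} [Field F]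

/-- Splitting off one factor of a product, linearly. -/
def piSplitL {ι : Type v} [DecidableEq ι] (i : ι) (Q : ι → Type w)
    [∀ j, AddCommGroup (Q j)] [∀ j, Module F (Q j)] :
    (∀ j, Q j) ≃ₗ[F] (Q i × (∀ j : {j // j ≠ i}, Q j)) :=
  { Equiv.piSplitAt i Q with
    map_add' := fun _ _ => rfl
    map_smul' := fun _ _ => rfl }

/-- The componentwise map on a product. -/
def piMap {ι : Type v} {Q : ι → Type w}
    [∀ j, AddCommGroup (Q j)] [∀ j, Module F (Q j)] (f : ∀ i, Q i →ₗ[F] Q i) :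
    (∀ j, Q j) →ₗ[F] (∀ j, Q j) :=
  LinearMap.pi (fun i => (f i).comp (LinearMap.proj i))

@[simp] theorem piMap_apply {ι : Type v} {Q : ι → Type w}
    [∀ j, AddCommGroup (Q j)] [∀ j, Module F (Q j)] (f : ∀ i, Q i →ₗ[F] Q i) (y : ∀ j, Q j) (i : ι) :
    piMap f y i = f i (y i) := rfl

theorem charpoly_piMap_aux (n : ℕ) : ∀ {ι : Type v} [Fintype ι] [DecidableEq ι] {Q : ι → Type w}
    [∀ j, AddCommGroup (Q j)] [∀ j, Module F (Q j)] [∀ j, Module.Finite F (Q j)]
    (f : ∀ i, Q i →ₗ[F] Q i), Fintype.card ι = n →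
    (piMap f).charpoly = ∏ i, (f i).charpoly := by
  induction n with
  | zero =>
    intro ι _ _ Q _ _ _ f hcard
    have : IsEmpty ι := Fintype.card_eq_zero_iff.1 hcard
    rw [Finset.univ_eq_empty, Finset.prod_empty]
    have hfr : Module.finrank F (∀ j, Q j) = 0 := by
      rw [Module.finrank_pi_fintype]; simp
    have h1 := LinearMap.charpoly_natDegree (piMap f)
    rw [hfr] at h1
    exact (Polynomial.Monic.natDegree_eq_zero (LinearMap.charpoly_monic _)).1 h1
  | succ n ih =>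
    intro ι _ _ Q _ _ _ f hcard
    have hne : Nonempty ι := by
      rw [← Fintype.card_pos_iff, hcard]; exact Nat.succ_pos n
    obtain ⟨i⟩ := hne
    have hcard' : Fintype.card {j // j ≠ i} = n := by
      rw [Fintype.card_subtype_compl, Fintype.card_subtype_eq, hcard]; rfl
    have ih' := ih (ι := {j // j ≠ i}) (Q := fun j => Q j.1) (fun j => f j.1) hcard'
    have hconj : (piSplitL (F := F) i Q).conj (piMap f) =
        (f i).prodMap (piMap (fun j : {j // j ≠ i} => f j.1)) := by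
      apply LinearMap.ext
      intro y
      rw [LinearEquiv.conj_apply_apply]
      obtain ⟨z, rfl⟩ := (piSplitL (F := F) i Q).surjective y
      rw [LinearEquiv.symm_apply_apply]
      rfl
    rw [← LinearEquiv.charpoly_conj (piSplitL (F := F) i Q), hconj, LinearMap.charpoly_prodMap, ih',
      Fintype.prod_eq_mul_prod_subtype_ne (fun j => (f j).charpoly) i]

theorem charpoly_piMap {ι : Type v} [Fintype ι] [DecidableEq ι] {Q : ι → Type w}
    [∀ j, AddCommGroup (Q j)] [∀ j, Module F (Q j)] [∀ j, Module.Finite F (Q j)]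
    (f : ∀ i, Q i →ₗ[F] Q i) : (piMap f).charpoly = ∏ i, (f i).charpoly :=
  charpoly_piMap_aux _ f rfl

end charpolyPi

theorem card_fiber_eq_count {δ : Type u} {γ : Type w} [Fintype δ] [DecidableEq γ] (d : δ → γ)
    (c : γ) :
    Fintype.card {x // d x = c} = Multiset.count c ((Finset.univ : Finset δ).val.map d) := by
  classical
  rw [Multiset.count_map, Fintype.card_subtype, Finset.card_def, Finset.filter_val]
  congr 1
  apply Multiset.filter_congr
  intro x _
  exact eq_comm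

theorem exists_equiv_of_map_eq {α : Type u} {β : Type v} {γ : Type w} [Fintype α] [Fintype β]
    [DecidableEq γ] (a : α → γ) (b : β → γ)
    (h : (Finset.univ : Finset α).val.map a = (Finset.univ : Finset β).val.map b) :
    ∃ σ : α ≃ β, ∀ x, b (σ x) = a x := by
  classical
  have hc : ∀ c : γ, Fintype.card {x // a x = c} = Fintype.card {y // b y = c} := by
    intro c
    rw [card_fiber_eq_count, card_fiber_eq_count, h]
  let e : ∀ c : γ, {x // a x = c} ≃ {y // b y = c} := fun c => Fintype.equivOfCardEq (hc c)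
  let σ : α ≃ β := (Equiv.sigmaFiberEquiv a).symm.trans
    ((Equiv.sigmaCongrRight e).trans (Equiv.sigmaFiberEquiv b))
  refine ⟨σ, ?_⟩
  intro x
  have : σ x = (e (a x) ⟨x, rfl⟩).1 := rfl
  rw [this]
  exact (e (a x) ⟨x, rfl⟩).2

section
variable {R : Type u} [CommRing R]

/-- Dropping trivial factors of a product. -/
def piDrop {ι : Type v} (Q : ι → Type w) [∀ i, AddCommGroup (Q i)] [∀ i, Module R (Q i)]
    (P : ι → Prop) [DecidablePred P] (h : ∀ i, ¬ P i → Subsingleton (Q i)) :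
    (∀ i, Q i) ≃ₗ[R] (∀ i : {i // P i}, Q i.1) where
  toFun y i := y i.1
  invFun z i := if hi : P i then z ⟨i, hi⟩ else 0
  map_add' _ _ := rfl
  map_smul' _ _ := rfl
  left_inv y := by
    funext i
    by_cases hi : P i
    · simp [hi]
    · have := h i hi
      exact Subsingleton.elim _ _
  right_inv z := by
    funext i
    obtain ⟨i, hi⟩ := i
    simp [hi]

end

section main
variable {F : Type u} [Field F]

/-- monic normalisation -/
noncomputable def nz (g : F[X]) : F[X] := g * C g.leadingCoeff⁻¹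

theorem nz_monic {g : F[X]} (hg : g ≠ 0) : (nz g).Monic := Polynomial.monic_mul_leadingCoeff_inv hg

theorem nz_associated {g : F[X]} (hg : g ≠ 0) : Associated (nz g) g := by
  have hu : IsUnit (C g.leadingCoeff⁻¹ : F[X]) :=
    Polynomial.isUnit_C.2 (IsUnit.mk0 _ (inv_ne_zero (leadingCoeff_ne_zero.2 hg)))
  exact (associated_mul_unit_right g _ hu).symm

theorem nz_one : nz (1 : F[X]) = 1 := by simp [nz]

end main

section decomp
variable {F : Type u} [Field F] {V : Type v} [AddCommGroup V] [Module F V] [FiniteDimensional F V]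

theorem decomp_facts (φ : V →ₗ[F] V) (s : F[X]) (hs : Squarefree s) (hφ : aeval φ s = 0)
    {ι : Type u} [Fintype ι] (p : ι → F[X]) (hp : ∀ i, Irreducible (p i)) (e : ι → ℕ)
    (Ψ : V ≃ₗ[F] (∀ i, F[X] ⧸ F[X] ∙ p i ^ e i))
    (hΨ : ∀ (q : F[X]) (u : V) (i : ι),
      Ψ (aeval φ q u) i = Ideal.Quotient.mk (F[X] ∙ p i ^ e i) q * Ψ u i) :
    (∀ i, e i ≤ 1) ∧ φ.charpoly = ∏ i, nz (p i ^ e i) := by
  classical
  constructor
  · intro i
    by_contra hcon
    push Not at hcon
    have h1 := hΨ s (Ψ.symm (Pi.single i 1)) i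
    rw [hφ, LinearMap.zero_apply, map_zero, Pi.zero_apply, LinearEquiv.apply_symm_apply,
      Pi.single_eq_same, mul_one] at h1
    have h2 : p i ^ e i ∣ s := by
      have := (Ideal.Quotient.eq_zero_iff_mem.1 h1.symm)
      exact Ideal.mem_span_singleton.1 this
    have h3 : p i * p i ∣ s := by
      refine dvd_trans ?_ h2
      rw [← pow_two]
      exact pow_dvd_pow _ hcon
    exact (hp i).not_isUnit (hs _ h3)
  · have hne : ∀ i, p i ^ e i ≠ 0 := fun i => pow_ne_zero _ (hp i).ne_zero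
    have fin : ∀ i, Module.Finite F (F[X] ⧸ F[X] ∙ p i ^ e i) := fun i =>
      (AdjoinRoot.powerBasis (hne i)).finite
    have hconj : Ψ.conj φ =
        piMap (fun i => LinearMap.mulLeft F (Ideal.Quotient.mk (F[X] ∙ p i ^ e i) X)) := by
      apply LinearMap.ext
      intro y
      rw [LinearEquiv.conj_apply_apply]
      funext i
      rw [primary_decomp_X φ Ψ hΨ, LinearEquiv.apply_symm_apply]
      rfl
    rw [← LinearEquiv.charpoly_conj Ψ, hconj, charpoly_piMap]
    apply Finset.prod_congr rfl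
    intro i _
    exact charpoly_mulX _ (hne i)


theorem prod_nz_eq {ι : Type u} [Fintype ι] (p : ι → F[X]) (e : ι → ℕ) (he : ∀ i, e i ≤ 1) :
    ∏ i, nz (p i ^ e i) = ∏ i : {i // e i ≠ 0}, nz (p i.1) := by
  classical
  rw [← Finset.prod_subtype (Finset.univ.filter (fun i => e i ≠ 0)) (by simp)
    (fun i => nz (p i))]
  rw [Finset.prod_filter]
  apply Finset.prod_congr rfl
  intro i _
  by_cases hi : e i = 0
  · simp [hi, nz_one]
  · have : e i = 1 := le_antisymm (he i) (Nat.one_le_iff_ne_zero.2 hi)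
    simp [this]

theorem conj_of_charpoly_eq {W : Type w} [AddCommGroup W] [Module F W] [FiniteDimensional F W]
    (φ : V →ₗ[F] V) (ψ : W →ₗ[F] W) (s : F[X]) (hs : Squarefree s)
    (hφ : aeval φ s = 0) (hψ : aeval ψ s = 0) (hc : φ.charpoly = ψ.charpoly) :
    ∃ E : V ≃ₗ[F] W, ∀ v, E (φ v) = ψ (E v) := by
  classical
  obtain ⟨ι, _, p, hp, e, Ψ, hΨ⟩ := exists_primary_decomp φ
  obtain ⟨κ, _, r, hr, f, Ω, hΩ⟩ := exists_primary_decomp ψ
  obtain ⟨he, hcφ⟩ := decomp_facts φ s hs hφ p hp e Ψ hΨ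
  obtain ⟨hf, hcψ⟩ := decomp_facts ψ s hs hψ r hr f Ω hΩ
  rw [prod_nz_eq p e he] at hcφ
  rw [prod_nz_eq r f hf] at hcψ
  have hM : (Finset.univ : Finset {i // e i ≠ 0}).val.map (fun i => nz (p i.1)) =
      (Finset.univ : Finset {j // f j ≠ 0}).val.map (fun j => nz (r j.1)) := by
    have hrel := UniqueFactorizationMonoid.factors_unique
      (f := (Finset.univ : Finset {i // e i ≠ 0}).val.map (fun i => nz (p i.1)))
      (g := (Finset.univ : Finset {j // f j ≠ 0}).val.map (fun j => nz (r j.1)))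
      (by
        intro x hx
        obtain ⟨i, _, rfl⟩ := Multiset.mem_map.1 hx
        exact (nz_associated (hp i.1).ne_zero).irreducible_iff.2 (hp i.1))
      (by
        intro x hx
        obtain ⟨j, _, rfl⟩ := Multiset.mem_map.1 hx
        exact (nz_associated (hr j.1).ne_zero).irreducible_iff.2 (hr j.1))
      (by
        have h1 : ((Finset.univ : Finset {i // e i ≠ 0}).val.map (fun i => nz (p i.1))).prod =
            φ.charpoly := by rw [hcφ]; rfl
        have h2 : ((Finset.univ : Finset {j // f j ≠ 0}).val.map (fun j => nz (r j.1))).prod =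
            ψ.charpoly := by rw [hcψ]; rfl
        rw [h1, h2, hc]; exact Associated.refl _)
    rw [← Multiset.rel_eq]
    refine hrel.mono ?_
    intro a ha b hb hab
    obtain ⟨i, _, rfl⟩ := Multiset.mem_map.1 ha
    obtain ⟨j, _, rfl⟩ := Multiset.mem_map.1 hb
    exact Polynomial.eq_of_monic_of_associated (nz_monic (hp i.1).ne_zero)
      (nz_monic (hr j.1).ne_zero) hab
  obtain ⟨σ, hσ⟩ := exists_equiv_of_map_eq _ _ hM
  have hI : ∀ i : {i // e i ≠ 0},
      (F[X] ∙ p i.1 ^ e i.1) = (F[X] ∙ r (σ i).1 ^ f (σ i).1) := by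
    intro i
    have h1 : e i.1 = 1 := le_antisymm (he _) (Nat.one_le_iff_ne_zero.2 i.2)
    have h2 : f (σ i).1 = 1 := le_antisymm (hf _) (Nat.one_le_iff_ne_zero.2 (σ i).2)
    rw [h1, h2, pow_one, pow_one]
    have h3 : Associated (p i.1) (r (σ i).1) := by
      have h4 := nz_associated (hp i.1).ne_zero
      have h5 := nz_associated (hr (σ i).1).ne_zero
      rw [hσ i] at h5
      exact h4.symm.trans h5
    exact Ideal.span_singleton_eq_span_singleton.2 h3
  let Q₁ : ι → Type u := fun i => F[X] ⧸ F[X] ∙ p i ^ e i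
  let Q₂ : κ → Type u := fun j => F[X] ⧸ F[X] ∙ r j ^ f j
  have hsub : ∀ (g : F[X]) (k : ℕ), ¬ (k ≠ 0) → Subsingleton (F[X] ⧸ F[X] ∙ g ^ k) := by
    intro g k hk
    push Not at hk
    subst hk
    rw [pow_zero]
    apply Ideal.Quotient.subsingleton_iff.2
    exact Ideal.span_singleton_one
  let E₁ : (∀ i, Q₁ i) ≃ₗ[F[X]] (∀ i : {i // e i ≠ 0}, Q₁ i.1) :=
    piDrop Q₁ (fun i => e i ≠ 0) (fun i hi => hsub (p i) (e i) hi)
  let E₂ : (∀ i : {i // e i ≠ 0}, Q₁ i.1) ≃ₗ[F[X]] (∀ i : {i // e i ≠ 0}, Q₂ (σ i).1) :=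
    LinearEquiv.piCongrRight (fun i => Submodule.quotEquivOfEq _ _ (hI i))
  let E₃ : (∀ i : {i // e i ≠ 0}, Q₂ (σ i).1) ≃ₗ[F[X]] (∀ j : {j // f j ≠ 0}, Q₂ j.1) :=
    LinearEquiv.piCongrLeft F[X] (fun j : {j // f j ≠ 0} => Q₂ j.1) σ
  let E₄ : (∀ j, Q₂ j) ≃ₗ[F[X]] (∀ j : {j // f j ≠ 0}, Q₂ j.1) :=
    piDrop Q₂ (fun j => f j ≠ 0) (fun j hj => hsub (r j) (f j) hj)
  let E : (∀ i, Q₁ i) ≃ₗ[F[X]] (∀ j, Q₂ j) := E₁ ≪≫ₗ E₂ ≪≫ₗ E₃ ≪≫ₗ E₄.symm
  refine ⟨Ψ ≪≫ₗ E.restrictScalars F ≪≫ₗ Ω.symm, ?_⟩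
  intro v
  have h1 : Ψ (φ v) = (X : F[X]) • Ψ v := by
    funext i
    rw [primary_decomp_X φ Ψ hΨ]
    rfl
  have h2 : ∀ w, Ω (ψ w) = (X : F[X]) • Ω w := by
    intro w
    funext j
    rw [primary_decomp_X ψ Ω hΩ]
    rfl
  apply Ω.injective
  rw [h2]
  simp only [LinearEquiv.trans_apply, LinearEquiv.apply_symm_apply, LinearEquiv.restrictScalars_apply]
  rw [h1, map_smul]

end decomp

end Cfsg.Agent.Lib.Helper5
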