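import Mathlib

set_option autoImplicit false

namespace Cfsg.Agent.Lib.Helper5.Wall

variable {R : Type*} [CommRing R] [Finite R]

/-- In a finite ring, some positive power of each element is idempotent. -/
theorem exists_pow_idem (x : R) : ∃ N, 0 < N ∧ x ^ N * x ^ N = x ^ N := by
  obtain ⟨i, j, hij, hne⟩ : ∃ i j : ℕ, x ^ i = x ^ j ∧ i ≠ j := by
    have := not_injective_infinite_finite (fun n : ℕ => x ^ n)
    simp only [Function.Injective, not_forall] at this
    obtain ⟨i, j, h, hne⟩ := this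
    exact ⟨i, j, h, hne⟩
  wlog hlt : i < j generalizing i j
  · exact this j i hij.symm hne.symm (lt_of_le_of_ne (not_lt.1 hlt) hne.symm)
  obtain ⟨d, rfl⟩ : ∃ d, j = i + d := ⟨j - i, by omega⟩
  have hd : 0 < d := by omega
  -- x^(k) = x^(k + d) for k ≥ i
  have h1 : ∀ k, i ≤ k → x ^ (k + d) = x ^ k := by
    intro k hk
    obtain ⟨t, rfl⟩ : ∃ t, k = i + t := ⟨k - i, by omega⟩
    calc x ^ (i + t + d) = x ^ (i + d) * x ^ t := by rw [← pow_add]; congr 1; omega
      _ = x ^ i * x ^ t := by rw [← hij]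
      _ = x ^ (i + t) := by rw [pow_add]
  have h2 : ∀ m k, i ≤ k → x ^ (k + m * d) = x ^ k := by
    intro m
    induction m with
    | zero => intro k _; simp
    | succ m ih =>
      intro k hk
      calc x ^ (k + (m + 1) * d) = x ^ (k + m * d + d) := by congr 1; ring
        _ = x ^ (k + m * d) := h1 _ (by omega)
        _ = x ^ k := ih k hk
  refine ⟨(i + 1) * d, Nat.mul_pos (by omega) hd, ?_⟩
  rw [← pow_add]
  have : i ≤ (i + 1) * d := by nlinarith
  exact h2 (i + 1) _ this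

variable (σ : R →+* R)

/-- Hilbert 90 for a finite commutative ring with involution `σ` for which some `e - σ e` is a unit. -/
theorem hilbert90 (hσ : ∀ x, σ (σ x) = x) (e : R) (he : IsUnit (e - σ e)) (y : R) (hy : y * σ y = 1) :
    ∃ z : R, IsUnit z ∧ y * σ z = z := by
  set w : R := 1 + y with hw
  obtain ⟨N, hN, hidem⟩ := exists_pow_idem w
  set ε : R := w ^ N with hε
  have hσw : σ w = σ y * w := by
    rw [hw, map_add, map_one, mul_add, mul_one, mul_comm (σ y) y, hy, add_comm]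
  have hσε : σ ε = σ y ^ N * ε := by rw [hε, map_pow, hσw, mul_pow]
  have hyε : ε = y ^ N * ε := by
    have h1 : σ ε * σ ε = σ ε := by rw [← map_mul, hidem]
    rw [hσε] at h1
    have h2 : σ y ^ N * y ^ N = 1 := by rw [← mul_pow, mul_comm, hy, one_pow]
    have h3 : y ^ N * y ^ N * (σ y ^ N * ε * (σ y ^ N * ε)) =
        (σ y ^ N * y ^ N) * (σ y ^ N * y ^ N) * (ε * ε) := by ring
    calc ε = y ^ N * y ^ N * (σ y ^ N * ε * (σ y ^ N * ε)) := by
          rw [h3, h2, hidem, one_mul, one_mul]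
      _ = y ^ N * y ^ N * (σ y ^ N * ε) := by rw [h1]
      _ = y ^ N * ((σ y ^ N * y ^ N) * ε) := by ring
      _ = y ^ N * ε := by rw [h2, one_mul]
  have hσε' : σ ε = ε := by
    have h2 : σ y ^ N * y ^ N = 1 := by rw [← mul_pow, mul_comm, hy, one_pow]
    rw [hσε]
    calc σ y ^ N * ε = σ y ^ N * (y ^ N * ε) := by rw [← hyε]
      _ = (σ y ^ N * y ^ N) * ε := by ring
      _ = ε := by rw [h2, one_mul]
  set θ : R := ε + (1 - ε) * e with hθ
  refine ⟨θ + y * σ θ, ?_, ?_⟩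
  · -- unit
    have hε1 : ε * (1 - ε) = 0 := by rw [mul_sub, mul_one, hidem, sub_self]
    have hε2 : (1 - ε) * (1 - ε) = 1 - ε := by
      have : (1 - ε) * (1 - ε) = 1 - ε - ε + ε * ε := by ring
      rw [this, hidem]; ring
    set ν : R := (1 - ε) * w * σ e with hν
    have hνnil : IsNilpotent ν := by
      refine ⟨N, ?_⟩
      rw [hν, mul_pow, mul_pow, ← hε]
      have : (1 - ε) ^ N * ε = 0 := by
        obtain ⟨k, rfl⟩ : ∃ k, N = k + 1 := ⟨N - 1, by omega⟩
        rw [pow_succ, mul_assoc, mul_comm (1 - ε) ε, hε1, mul_zero]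
      rw [this, zero_mul]
    have hv : IsUnit ((e - σ e) + ν) := hνnil.isUnit_add_left_of_commute he (Commute.all _ _)
    obtain ⟨v, hv⟩ := hv
    have hz : θ + y * σ θ = ε * w + (1 - ε) * ((e - σ e) + ν) := by
      rw [hθ, map_add, map_mul, map_sub, map_one, hσε', hν]
      have hy' : y = w - 1 := by rw [hw]; ring
      have : (1 - ε) * (e - σ e + (1 - ε) * w * σ e) = (1 - ε) * (e - σ e) + ((1 - ε) * (1 - ε)) * w * σ e := by ring
      rw [this, hε2, hy']
      ring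
    have hwN : ε * w * (w ^ (N - 1)) = ε := by
      rw [mul_assoc, ← pow_succ']
      have : N - 1 + 1 = N := by omega
      rw [this, ← hε, hidem]
    refine ⟨⟨θ + y * σ θ, ε * w ^ (N - 1) + (1 - ε) * (v⁻¹ : Rˣ), ?_, ?_⟩, rfl⟩
    · rw [hz, ← hv]
      have h1 : ε * w * (ε * w ^ (N - 1)) = ε := by
        calc ε * w * (ε * w ^ (N - 1)) = ε * (ε * w * w ^ (N - 1)) := by ring
          _ = ε := by rw [hwN, hidem]
      have h2 : (1 - ε) * (v : R) * ((1 - ε) * ((v⁻¹ : Rˣ) : R)) = 1 - ε := by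
        calc (1 - ε) * (v : R) * ((1 - ε) * ((v⁻¹ : Rˣ) : R))
            = ((1 - ε) * (1 - ε)) * ((v : R) * ((v⁻¹ : Rˣ) : R)) := by ring
          _ = 1 - ε := by rw [hε2, Units.mul_inv, mul_one]
      calc (ε * w + (1 - ε) * (v : R)) * (ε * w ^ (N - 1) + (1 - ε) * ((v⁻¹ : Rˣ) : R))
          = ε * w * (ε * w ^ (N - 1)) + (1 - ε) * (v : R) * ((1 - ε) * ((v⁻¹ : Rˣ) : R))
            + (ε * (1 - ε)) * (w * ((v⁻¹ : Rˣ) : R) + (v : R) * w ^ (N - 1)) := by ring
        _ = 1 := by rw [h1, h2, hε1]; ring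
    · rw [mul_comm, hz, ← hv]
      have h1 : ε * w * (ε * w ^ (N - 1)) = ε := by
        calc ε * w * (ε * w ^ (N - 1)) = ε * (ε * w * w ^ (N - 1)) := by ring
          _ = ε := by rw [hwN, hidem]
      have h2 : (1 - ε) * (v : R) * ((1 - ε) * ((v⁻¹ : Rˣ) : R)) = 1 - ε := by
        calc (1 - ε) * (v : R) * ((1 - ε) * ((v⁻¹ : Rˣ) : R))
            = ((1 - ε) * (1 - ε)) * ((v : R) * ((v⁻¹ : Rˣ) : R)) := by ring
          _ = 1 - ε := by rw [hε2, Units.mul_inv, mul_one]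
      calc (ε * w + (1 - ε) * (v : R)) * (ε * w ^ (N - 1) + (1 - ε) * ((v⁻¹ : Rˣ) : R))
          = ε * w * (ε * w ^ (N - 1)) + (1 - ε) * (v : R) * ((1 - ε) * ((v⁻¹ : Rˣ) : R))
            + (ε * (1 - ε)) * (w * ((v⁻¹ : Rˣ) : R) + (v : R) * w ^ (N - 1)) := by ring
        _ = 1 := by rw [h1, h2, hε1]; ring
  · calc y * σ (θ + y * σ θ) = y * σ θ + (y * σ y) * σ (σ θ) := by rw [map_add, map_mul]; ring
      _ = θ + y * σ θ := by rw [hy, hσ]; ring

/-- Surjectivity of the norm `y ↦ σ y * y` onto the symmetric units. -/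
theorem norm_surj (hσ : ∀ x, σ (σ x) = x) (e : R) (he : IsUnit (e - σ e)) (a : Rˣ)
    (ha : σ (a : R) = a) : ∃ y : Rˣ, σ (y : R) * y = a := by
  classical
  let τ : Rˣ →* Rˣ := Units.map (σ : R →* R)
  have hτ : ∀ z : Rˣ, ((τ z : Rˣ) : R) = σ (z : R) := fun z => rfl
  let Nm : Rˣ →* Rˣ := MonoidHom.id Rˣ * τ
  let φ : Rˣ →* Rˣ := MonoidHom.id Rˣ / τ
  have hNm : ∀ z, Nm z = z * τ z := fun z => rfl
  have hφ : ∀ z, φ z = z / τ z := fun z => rfl
  have hττ : ∀ z, τ (τ z) = z := fun z => Units.ext (by rw [hτ, hτ, hσ])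
  have h1 : Nm.range ≤ φ.ker := by
    rintro _ ⟨y, rfl⟩
    rw [MonoidHom.mem_ker, hφ, hNm, map_mul, hττ, mul_comm, div_self']
  have h2 : φ.range = Nm.ker := by
    apply le_antisymm
    · rintro _ ⟨z, rfl⟩
      rw [MonoidHom.mem_ker, hNm, hφ, map_div, hττ]
      rw [div_mul_div_comm, mul_comm, div_self']
    · intro y hy
      rw [MonoidHom.mem_ker, hNm] at hy
      have hy' : (y : R) * σ (y : R) = 1 := by
        have := congrArg (fun u : Rˣ => (u : R)) hy
        simpa [hτ] using this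
      obtain ⟨z, hz, hyz⟩ := hilbert90 σ hσ e he (y : R) hy'
      obtain ⟨z, rfl⟩ := hz
      refine ⟨z, ?_⟩
      rw [hφ, div_eq_iff_eq_mul]
      apply Units.ext
      rw [Units.val_mul, hτ]
      exact hyz.symm
  have h3 : Nat.card φ.ker * Nat.card φ.range = Nat.card Rˣ := by
    rw [← Subgroup.index_ker, Subgroup.card_mul_index]
  have h4 : Nat.card Nm.ker * Nat.card Nm.range = Nat.card Rˣ := by
    rw [← Subgroup.index_ker, Subgroup.card_mul_index]
  have h5 : Nat.card φ.ker = Nat.card Nm.range := by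
    rw [h2] at h3
    have hpos : 0 < Nat.card Nm.ker := Nat.card_pos
    have : Nat.card Nm.ker * Nat.card Nm.range = Nat.card Nm.ker * Nat.card φ.ker := by
      rw [h4, mul_comm, h3]
    exact (Nat.eq_of_mul_eq_mul_left hpos this).symm
  have h6 : Nm.range = φ.ker := Subgroup.eq_of_le_of_card_ge h1 (le_of_eq h5)
  have h7 : a ∈ φ.ker := by
    rw [MonoidHom.mem_ker, hφ, div_eq_one]
    apply Units.ext
    rw [hτ, ha]
  rw [← h6] at h7
  obtain ⟨y, hy⟩ := h7
  refine ⟨y, ?_⟩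
  rw [← hy, hNm, Units.val_mul, hτ, mul_comm]

end Cfsg.Agent.Lib.Helper5.Wall
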