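import Mathlib
import Cfsg.Agent.Lib.Helper5.Wall1

set_option autoImplicit false

namespace Cfsg.Agent.Lib.Helper5.Wall

section bicomm

variable {M : Type*} [Ring M]

/-- The bicommutant of a set `s`, as a subring. -/
def bic (s : Set M) : Subring M := Subring.centralizer (Subring.centralizer s : Set M)

theorem mem_bic {s : Set M} {x : M} :
    x ∈ bic s ↔ ∀ u : M, (∀ t ∈ s, t * u = u * t) → u * x = x * u := by
  unfold bic
  rw [Subring.mem_centralizer_iff]
  constructor
  · intro h u hu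
    exact h u (Subring.mem_centralizer_iff.2 hu)
  · intro h u hu
    exact h u (Subring.mem_centralizer_iff.1 hu)

theorem subset_bic (s : Set M) : s ⊆ bic s := by
  intro x hx
  rw [SetLike.mem_coe, mem_bic]
  intro u hu
  exact (hu x hx).symm

theorem bic_comm {s : Set M} (hs : ∀ x ∈ s, ∀ y ∈ s, x * y = y * x) {x y : M} (hx : x ∈ bic s)
    (hy : y ∈ bic s) : x * y = y * x := by
  rw [mem_bic] at hy
  refine hy x ?_
  intro t ht
  rw [mem_bic] at hx
  exact hx t (fun t' ht' => hs t' ht' t ht)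

theorem inv_mem_bic {s : Set M} {x x' : M} (hx : x ∈ bic s) (h1 : x * x' = 1) (h2 : x' * x = 1) :
    x' ∈ bic s := by
  rw [mem_bic] at hx ⊢
  intro u hu
  have := hx u hu
  calc u * x' = (x' * x) * (u * x') := by rw [h2, one_mul]
    _ = x' * (x * u) * x' := by noncomm_ring
    _ = x' * (u * x) * x' := by rw [this]
    _ = x' * u * (x * x') := by noncomm_ring
    _ = x' * u := by rw [h1, mul_one]

end bicomm

section main

variable {M : Type*} [Ring M] [Finite M] (τ : M → M)

/-- Data: an anti-involution `τ` of `M` and a commuting set `s` whose commutant is `τ`-stable. -/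
structure Setup (s : Set M) : Prop where
  add : ∀ x y, τ (x + y) = τ x + τ y
  mul : ∀ x y, τ (x * y) = τ y * τ x
  one : τ 1 = 1
  inv : ∀ x, (∀ t ∈ s, t * x = x * t) → τ (τ x) = x
  comm : ∀ x ∈ s, ∀ y ∈ s, x * y = y * x
  stable : ∀ x, (∀ t ∈ s, t * x = x * t) → ∀ t ∈ s, t * τ x = τ x * t

variable {τ} {s : Set M}

theorem Setup.zero (h : Setup τ s) : τ 0 = 0 := by
  have := h.add 0 0
  rw [add_zero] at this
  exact left_eq_add.1 this

theorem Setup.mem (h : Setup τ s) {x : M} (hx : x ∈ bic s) : τ x ∈ bic s := by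
  rw [mem_bic] at hx ⊢
  intro u hu
  have h1 := hx (τ u) (h.stable u hu)
  have h2 := congrArg τ h1
  rw [h.mul, h.mul, h.inv u hu] at h2
  exact h2.symm

/-- the commutative ring structure on the bicommutant -/
@[reducible] def Setup.commRing (h : Setup τ s) : CommRing (bic s) :=
  { (bic s).toRing with
    mul_comm := fun x y => Subtype.ext (bic_comm h.comm x.2 y.2) }

/-- `τ` as a ring endomorphism of the bicommutant -/
def Setup.sigma (h : Setup τ s) : @RingHom (bic s) (bic s) h.commRing.toNonAssocSemiring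
    h.commRing.toNonAssocSemiring :=
  letI := h.commRing
  { toFun := fun x => ⟨τ x.1, h.mem x.2⟩
    map_one' := Subtype.ext h.one
    map_mul' := fun x y => Subtype.ext (by
      show τ (x.1 * y.1) = τ x.1 * τ y.1
      rw [h.mul]
      exact bic_comm h.comm (h.mem y.2) (h.mem x.2))
    map_zero' := Subtype.ext h.zero
    map_add' := fun x y => Subtype.ext (h.add x.1 y.1) }

theorem isUnit_bic_iff (h : Setup τ s) (x : bic s) :
    letI := h.commRing
    IsUnit x ↔ IsUnit (x : M) := by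
  letI := h.commRing
  constructor
  · rintro ⟨u, rfl⟩
    refine ⟨⟨(u : bic s), ((u⁻¹ : (bic s)ˣ) : bic s), ?_, ?_⟩, rfl⟩
    · have := congrArg Subtype.val u.mul_inv
      exact this
    · have := congrArg Subtype.val u.inv_mul
      exact this
  · rintro ⟨u, hu⟩
    have hmem : ((u⁻¹ : Mˣ) : M) ∈ bic s := by
      refine inv_mem_bic x.2 ?_ ?_
      · rw [← hu]; exact u.mul_inv
      · rw [← hu]; exact u.inv_mul
    refine ⟨⟨x, ⟨_, hmem⟩, ?_, ?_⟩, rfl⟩
    · apply Subtype.ext
      show (x : M) * ((u⁻¹ : Mˣ) : M) = 1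
      rw [← hu]; exact u.mul_inv
    · apply Subtype.ext
      show ((u⁻¹ : Mˣ) : M) * (x : M) = 1
      rw [← hu]; exact u.inv_mul

/-- Hilbert 90 in the bicommutant. -/
theorem Setup.h90 (h : Setup τ s) (e : M) (he : e ∈ bic s) (hu : IsUnit (e - τ e))
    (y : M) (hy : y ∈ bic s) (hyy : y * τ y = 1) :
    ∃ z : M, IsUnit z ∧ z ∈ bic s ∧ y * τ z = z := by
  letI := h.commRing
  have hfin : Finite (bic s) := Subtype.finite
  have hσ : ∀ x : bic s, h.sigma (h.sigma x) = x := fun x => Subtype.ext (h.inv x.1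
    (fun t ht => bic_comm h.comm (subset_bic s ht) x.2))
  have he' : IsUnit ((⟨e, he⟩ : bic s) - h.sigma ⟨e, he⟩) := by
    rw [isUnit_bic_iff h]
    exact hu
  have hy' : (⟨y, hy⟩ : bic s) * h.sigma ⟨y, hy⟩ = 1 := Subtype.ext hyy
  obtain ⟨z, hz, hyz⟩ := hilbert90 h.sigma hσ ⟨e, he⟩ he' ⟨y, hy⟩ hy'
  refine ⟨z.1, (isUnit_bic_iff h z).1 hz, z.2, ?_⟩
  exact congrArg Subtype.val hyz

/-- Norm surjectivity in the bicommutant. -/
theorem Setup.norm (h : Setup τ s) (e : M) (he : e ∈ bic s) (hu : IsUnit (e - τ e))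
    (a : M) (ha : a ∈ bic s) (hau : IsUnit a) (hsym : τ a = a) :
    ∃ y : M, IsUnit y ∧ y ∈ bic s ∧ τ y * y = a := by
  letI := h.commRing
  have hfin : Finite (bic s) := Subtype.finite
  have hσ : ∀ x : bic s, h.sigma (h.sigma x) = x := fun x => Subtype.ext (h.inv x.1
    (fun t ht => bic_comm h.comm (subset_bic s ht) x.2))
  have he' : IsUnit ((⟨e, he⟩ : bic s) - h.sigma ⟨e, he⟩) := by
    rw [isUnit_bic_iff h]
    exact hu
  have hau' : IsUnit (⟨a, ha⟩ : bic s) := (isUnit_bic_iff h _).2 hau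
  obtain ⟨a', ha'⟩ := hau'
  have hsym' : h.sigma (a' : bic s) = a' := by
    rw [ha']
    exact Subtype.ext hsym
  obtain ⟨y, hy⟩ := norm_surj h.sigma hσ ⟨e, he⟩ he' a' hsym'
  refine ⟨(y : bic s).1, (isUnit_bic_iff h _).1 y.isUnit, (y : bic s).2, ?_⟩
  have := congrArg Subtype.val hy
  rw [ha'] at this
  exact this

end main

end Cfsg.Agent.Lib.Helper5.Wall
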