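import Mathlib
import Cfsg.Agent.Lib.Helper5.Wall2

set_option autoImplicit false

namespace Cfsg.Agent.Lib.Helper5.Wall

section adj

variable {F : Type*} [Field F] {V : Type*} [AddCommGroup V] [Module F V] [FiniteDimensional F V]
variable (ω : LinearMap.BilinForm F V) (hnd : ω.Nondegenerate)

/-- the adjoint of an endomorphism with respect to a nondegenerate form:
`ω (adj φ x) y = ω x (φ y)`. -/
noncomputable def adj (φ : Module.End F V) : Module.End F V :=
  ω.leftAdjointOfNondegenerate hnd φ

theorem adj_apply (φ : Module.End F V) (x y : V) : ω (adj ω hnd φ x) y = ω x (φ y) :=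
  LinearMap.BilinForm.isAdjointPairLeftAdjointOfNondegenerate ω hnd φ x y

theorem adj_unique (ψ φ : Module.End F V) (h : ∀ x y, ω (ψ x) y = ω x (φ y)) :
    ψ = adj ω hnd φ :=
  (LinearMap.BilinForm.isAdjointPair_iff_eq_of_nondegenerate ω hnd ψ φ).1 h

theorem adj_add (φ ψ : Module.End F V) : adj ω hnd (φ + ψ) = adj ω hnd φ + adj ω hnd ψ := by
  symm
  apply adj_unique
  intro x y
  rw [LinearMap.add_apply, map_add, LinearMap.add_apply, adj_apply, adj_apply, LinearMap.add_apply,
    map_add]

theorem adj_mul (φ ψ : Module.End F V) : adj ω hnd (φ * ψ) = adj ω hnd ψ * adj ω hnd φ := by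
  symm
  apply adj_unique
  intro x y
  rw [Module.End.mul_apply, adj_apply, adj_apply, Module.End.mul_apply]

theorem adj_one : adj ω hnd (1 : Module.End F V) = 1 := by
  symm
  apply adj_unique
  intro x y
  rfl

theorem adj_adj (halt : ω.IsAlt) (φ : Module.End F V) : adj ω hnd (adj ω hnd φ) = φ := by
  symm
  apply adj_unique
  intro x y
  have h1 : ω x (adj ω hnd φ y) = -ω (adj ω hnd φ y) x := (halt.neg_eq _ _).symm
  rw [h1, adj_apply, halt.neg_eq]

end adj

section regular

variable {F : Type*} [Field F] [Finite F] {V : Type*} [AddCommGroup V] [Module F V]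
  [FiniteDimensional F V]

theorem finite_end : Finite (Module.End F V) := by
  haveI : Finite V := Module.finite_of_finite F
  exact Finite.of_injective (fun f : Module.End F V => (f : V → V)) DFunLike.coe_injective

/-- The regular case: if `A - A⁻¹` is invertible, two `A`-invariant nondegenerate alternating forms
are equivalent under the centraliser of `A`. -/
theorem regular_case (ω ω' : LinearMap.BilinForm F V) (hnd : ω.Nondegenerate)
    (hnd' : ω'.Nondegenerate) (halt : ω.IsAlt) (halt' : ω'.IsAlt) (A A' : Module.End F V)
    (hAA' : A * A' = 1) (hA'A : A' * A = 1)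
    (hAω : ∀ u v, ω (A u) (A v) = ω u v) (hAω' : ∀ u v, ω' (A u) (A v) = ω' u v)
    (hreg : IsUnit (A - A')) :
    ∃ Y : Module.End F V, IsUnit Y ∧ Y * A = A * Y ∧ ∀ u v, ω (Y u) (Y v) = ω' u v := by
  classical
  haveI := finite_end (F := F) (V := V)
  have hAA'v : ∀ v, A (A' v) = v := fun v => by
    have := congrArg (fun f : Module.End F V => f v) hAA'
    exact this
  have hA'Av : ∀ v, A' (A v) = v := fun v => by
    have := congrArg (fun f : Module.End F V => f v) hA'A
    exact this
  have hsep : ∀ x x' : V, (∀ w, ω x w = ω x' w) → x = x' := by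
    intro x x' h
    have h1 : ∀ w, ω (x - x') w = 0 := by
      intro w
      rw [map_sub, LinearMap.sub_apply, h w, sub_self]
    have := hnd.1 (x - x') h1
    exact sub_eq_zero.1 this
  -- τ A = A'
  have hτA : adj ω hnd A = A' := by
    symm
    apply adj_unique
    intro x y
    rw [← hAω (A' x) y, hAA'v]
  have hτA' : adj ω hnd A' = A := by
    rw [← hτA, adj_adj ω hnd halt]
  -- the element a
  set a : Module.End F V := ω'.symmCompOfNondegenerate ω hnd with ha
  have haω : ∀ v w, ω (a v) w = ω' v w := fun v w =>
    LinearMap.BilinForm.symmCompOfNondegenerate_left_apply ω' hnd w v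
  have hτa : adj ω hnd a = a := by
    symm
    apply adj_unique
    intro x y
    rw [haω, ← halt.neg_eq, haω, halt'.neg_eq]
  have hau : IsUnit a := by
    rw [LinearMap.isUnit_iff_ker_eq_bot, LinearMap.ker_eq_bot']
    intro v hv
    apply hnd'.1
    intro w
    rw [← haω, hv, map_zero, LinearMap.zero_apply]
  have haA : A * a = a * A := by
    apply LinearMap.ext
    intro v
    apply hsep
    intro w
    rw [Module.End.mul_apply, Module.End.mul_apply, haω]
    calc ω (A (a v)) w = ω (A (a v)) (A (A' w)) := by rw [hAA'v]
      _ = ω (a v) (A' w) := hAω _ _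
      _ = ω' v (A' w) := haω _ _
      _ = ω' (A v) (A (A' w)) := (hAω' _ _).symm
      _ = ω' (A v) w := by rw [hAA'v]
  have hS : Setup (adj ω hnd) ({A, a} : Set (Module.End F V)) :=
    { add := adj_add ω hnd
      mul := adj_mul ω hnd
      one := adj_one ω hnd
      inv := fun x _ => adj_adj ω hnd halt x
      comm := by
        intro x hx y hy
        rcases hx with rfl | rfl <;> rcases hy with rfl | rfl
        · rfl
        · exact haA
        · exact haA.symm
        · rfl
      stable := by
        intro x hx t ht
        have hxA : A * x = x * A := hx A (Set.mem_insert _ _)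
        have hxa : a * x = x * a := hx a (Set.mem_insert_of_mem _ rfl)
        rcases ht with rfl | rfl
        · have h1 : A' * x = x * A' := by
            calc A' * x = A' * x * (t * A') := by rw [hAA', mul_one]
              _ = A' * (x * t) * A' := by simp only [mul_assoc]
              _ = A' * (t * x) * A' := by rw [hxA]
              _ = (A' * t) * x * A' := by simp only [mul_assoc]
              _ = x * A' := by rw [hA'A, one_mul]
          have h2 := congrArg (adj ω hnd) h1
          rw [adj_mul, adj_mul, hτA'] at h2
          exact h2.symm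
        · have h2 := congrArg (adj ω hnd) hxa
          rw [adj_mul, adj_mul, hτa] at h2
          exact h2.symm }
  have hu : IsUnit (A - adj ω hnd A) := by rw [hτA]; exact hreg
  obtain ⟨y, hyu, hymem, hy⟩ := hS.norm A (subset_bic _ (Set.mem_insert _ _)) hu a
    (subset_bic _ (Set.mem_insert_of_mem _ rfl)) hau hτa
  refine ⟨y, hyu, bic_comm hS.comm hymem (subset_bic _ (Set.mem_insert _ _)), ?_⟩
  intro u v
  rw [← adj_apply ω hnd y (y u) v, ← Module.End.mul_apply, hy, haω]

end regular

end Cfsg.Agent.Lib.Helper5.Wall
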