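import Mathlib
import Cfsg.Agent.Lib.Helper5.Wall4
import Cfsg.Agent.Lib.Helper5.AltForm2

set_option autoImplicit false

namespace Cfsg.Agent.Lib.Helper5.Wall

open Module

section split

variable {F : Type*} [Field F] {V : Type*} [AddCommGroup V] [Module F V]

/-- gluing equivalences on two complementary subspaces that are orthogonal for both forms. -/
theorem split (ω ω' : LinearMap.BilinForm F V) (A : Module.End F V) (U W : Submodule F V)
    (hUW : IsCompl U W) (hAU : ∀ u ∈ U, A u ∈ U) (hAW : ∀ w ∈ W, A w ∈ W)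
    (h1 : ∀ u ∈ U, ∀ w ∈ W, ω u w = 0) (h2 : ∀ u ∈ U, ∀ w ∈ W, ω w u = 0)
    (h1' : ∀ u ∈ U, ∀ w ∈ W, ω' u w = 0) (h2' : ∀ u ∈ U, ∀ w ∈ W, ω' w u = 0)
    (YU : U ≃ₗ[F] U) (hYU : ∀ u v : U, ω (YU u : V) (YU v : V) = ω' (u : V) (v : V))
    (hYUA : ∀ u : U, ((YU ⟨A u, hAU u u.2⟩ : U) : V) = A (YU u : V))
    (YW : W ≃ₗ[F] W) (hYW : ∀ u v : W, ω (YW u : V) (YW v : V) = ω' (u : V) (v : V))
    (hYWA : ∀ w : W, ((YW ⟨A w, hAW w w.2⟩ : W) : V) = A (YW w : V)) :
    ∃ Y : V ≃ₗ[F] V, (∀ v, Y (A v) = A (Y v)) ∧ ∀ u v, ω (Y u) (Y v) = ω' u v := by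
  set e := Submodule.prodEquivOfIsCompl U W hUW with he
  set Y : V ≃ₗ[F] V := e.symm ≪≫ₗ (YU.prodCongr YW) ≪≫ₗ e with hY
  have hYe : ∀ p : U × W, Y (e p) = (YU p.1 : V) + (YW p.2 : V) := by
    intro p
    rw [hY]
    simp only [LinearEquiv.trans_apply, LinearEquiv.symm_apply_apply]
    rfl
  have hep : ∀ p : U × W, e p = (p.1 : V) + (p.2 : V) := fun p => rfl
  refine ⟨Y, ?_, ?_⟩
  · intro v
    obtain ⟨p, rfl⟩ := e.surjective v
    have h3 : A (e p) = e (⟨A p.1, hAU _ p.1.2⟩, ⟨A p.2, hAW _ p.2.2⟩) := by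
      rw [hep, hep, map_add]
    rw [h3, hYe, hYe, map_add, hYUA, hYWA]
  · intro u v
    obtain ⟨p, rfl⟩ := e.surjective u
    obtain ⟨p', rfl⟩ := e.surjective v
    rw [hYe, hYe, hep, hep]
    simp only [map_add, LinearMap.add_apply]
    rw [hYU, hYW, h1 _ (YU p.1).2 _ (YW p'.2).2, h2 _ (YU p'.1).2 _ (YW p.2).2,
      h1' _ p.1.2 _ p'.2.2, h2' _ p'.1.2 _ p.2.2]

end split

section scalar

variable {F : Type*} [Field F] {V : Type*} [AddCommGroup V] [Module F V] [FiniteDimensional F V]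

/-- two nondegenerate alternating forms on the same space are equivalent. -/
theorem scalar_case (ω ω' : LinearMap.BilinForm F V) (halt : ω.IsAlt) (halt' : ω'.IsAlt)
    (hnd : ∀ x, (∀ y, ω x y = 0) → x = 0) (hnd' : ∀ x, (∀ y, ω' x y = 0) → x = 0) :
    ∃ Y : V ≃ₗ[F] V, ∀ u v, ω (Y u) (Y v) = ω' u v := by
  classical
  obtain ⟨m, b, hm, hb⟩ := AltForm.exists_symplectic_basis halt hnd
  obtain ⟨m', b', hm', hb'⟩ := AltForm.exists_symplectic_basis halt' hnd'
  obtain rfl : m = m' := by omega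
  refine ⟨b'.repr ≪≫ₗ b.repr.symm, ?_⟩
  intro u v
  rw [AltForm.form_eq_sympForm ω b hb, AltForm.form_eq_sympForm ω' b' hb']
  simp

end scalar

section eigen

variable {F : Type*} [Field F] {V : Type*} [AddCommGroup V] [Module F V]

theorem pow_apply_of_sq_zero (A : Module.End F V) (c : F) (w : V)
    (hN : (A - c • 1) ((A - c • 1) w) = 0) (j : ℕ) :
    (A ^ (j + 1)) w = c ^ (j + 1) • w + (((j + 1 : ℕ) : F) * c ^ j) • (A - c • 1) w := by
  have hA : ∀ x, A x = c • x + (A - c • 1) x := by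
    intro x
    simp [LinearMap.sub_apply]
  have hAN : A ((A - c • 1) w) = c • (A - c • 1) w := by
    rw [hA ((A - c • 1) w), hN, add_zero]
  induction j with
  | zero =>
    simp only [zero_add, pow_one, Nat.cast_one, pow_zero, mul_one, one_smul]
    exact hA w
  | succ j ih =>
    rw [pow_succ', Module.End.mul_apply, ih, map_add, map_smul, map_smul, hAN, hA w]
    simp only [smul_add, smul_smul]
    rw [add_assoc, ← add_smul]
    congr 2
    · ring
    · push_cast
      ring

theorem ker_inf_range (A : Module.End F V) (k : ℕ) (hk : (k : F) ≠ 0) (hA : ∀ v, (A ^ k) v = v)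
    (c : F) (hc : c ≠ 0) :
    LinearMap.ker (A - c • 1) ⊓ LinearMap.range (A - c • 1) = ⊥ := by
  rw [eq_bot_iff]
  rintro v ⟨hv1, ⟨w, rfl⟩⟩
  rw [SetLike.mem_coe, LinearMap.mem_ker] at hv1
  rw [Submodule.mem_bot]
  obtain ⟨j, rfl⟩ : ∃ j, k = j + 1 := by
    refine ⟨k - 1, ?_⟩
    have : k ≠ 0 := by
      rintro rfl
      exact hk Nat.cast_zero
    omega
  have h1 := pow_apply_of_sq_zero A c w hv1 j
  rw [hA w] at h1
  -- apply N
  have h2 := congrArg (fun x => (A - c • (1 : Module.End F V)) x) h1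
  rw [map_add, map_smul, map_smul, hv1, smul_zero, add_zero] at h2
  -- h2 : N w = c^(j+1) • N w
  by_cases hck : c ^ (j + 1) = 1
  · rw [hck, one_smul] at h1
    have h3 : (((j + 1 : ℕ) : F) * c ^ j) • (A - c • 1) w = 0 := by
      have := h1
      exact left_eq_add.1 this
    rcases smul_eq_zero.1 h3 with h4 | h4
    · exfalso
      rcases mul_eq_zero.1 h4 with h5 | h5
      · exact hk h5
      · exact pow_ne_zero _ hc h5
    · exact h4
  · have h3 : (1 - c ^ (j + 1)) • (A - c • 1) w = 0 := by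
      rw [sub_smul, one_smul, ← h2, sub_self]
    rcases smul_eq_zero.1 h3 with h4 | h4
    · exfalso
      exact hck (sub_eq_zero.1 h4).symm
    · exact h4

theorem isCompl_ker_range [FiniteDimensional F V] (A : Module.End F V) (k : ℕ) (hk : (k : F) ≠ 0)
    (hA : ∀ v, (A ^ k) v = v) (c : F) (hc : c ≠ 0) :
    IsCompl (LinearMap.ker (A - c • 1)) (LinearMap.range (A - c • 1)) := by
  have hinf := ker_inf_range A k hk hA c hc
  refine ⟨disjoint_iff.2 hinf, codisjoint_iff.2 ?_⟩
  apply Submodule.eq_top_of_finrank_eq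
  have h1 := Submodule.finrank_sup_add_finrank_inf_eq (LinearMap.ker (A - c • 1))
    (LinearMap.range (A - c • 1))
  rw [hinf, finrank_bot, add_zero] at h1
  have h2 := LinearMap.finrank_range_add_finrank_ker (A - c • 1)
  omega

theorem orth_ker_range (ω : LinearMap.BilinForm F V) (A : Module.End F V)
    (hAω : ∀ u v, ω (A u) (A v) = ω u v) (c : F) (hc : c * c = 1)
    (u : V) (hu : u ∈ LinearMap.ker (A - c • 1)) (w : V) (hw : w ∈ LinearMap.range (A - c • 1)) :
    ω u w = 0 := by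
  obtain ⟨x, rfl⟩ := hw
  rw [LinearMap.mem_ker, LinearMap.sub_apply, sub_eq_zero] at hu
  have hu' : A u = c • u := by simpa using hu
  have h1 : c * ω u (A x) = ω u x := by
    rw [← hAω u x, hu', map_smul, LinearMap.smul_apply, smul_eq_mul]
  have h2 : ω u (A x) = c * ω u x := by
    calc ω u (A x) = (c * c) * ω u (A x) := by rw [hc, one_mul]
      _ = c * (c * ω u (A x)) := by ring
      _ = c * ω u x := by rw [h1]
  rw [LinearMap.sub_apply, map_sub, h2]
  simp

theorem exists_eigen [FiniteDimensional F V] (A A' : Module.End F V) (hAA' : ∀ v, A (A' v) = v)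
    (h : ¬ IsUnit (A - A')) : ∃ c : F, c * c = 1 ∧ LinearMap.ker (A - c • 1) ≠ ⊥ := by
  rw [LinearMap.isUnit_iff_ker_eq_bot] at h
  obtain ⟨v, hv, hv0⟩ := (Submodule.ne_bot_iff _).1 h
  rw [LinearMap.mem_ker, LinearMap.sub_apply, sub_eq_zero] at hv
  have hAAv : A (A v) = v := by rw [hv, hAA']
  by_cases hx : A v + v = 0
  · refine ⟨-1, by ring, ?_⟩
    rw [Submodule.ne_bot_iff]
    refine ⟨v, ?_, hv0⟩
    rw [LinearMap.mem_ker, LinearMap.sub_apply]
    simp only [neg_smul, one_smul, LinearMap.neg_apply, Module.End.one_apply, sub_neg_eq_add]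
    exact hx
  · refine ⟨1, by ring, ?_⟩
    rw [Submodule.ne_bot_iff]
    refine ⟨A v + v, ?_, hx⟩
    rw [LinearMap.mem_ker, LinearMap.sub_apply, map_add, hAAv]
    simp only [one_smul, Module.End.one_apply]
    abel

end eigen

section core

universe u v

variable {F : Type u} [Field F] [Finite F]

theorem nondeg_of_alt {V : Type v} [AddCommGroup V] [Module F V] (ω : LinearMap.BilinForm F V)
    (halt : ω.IsAlt) (hnd : ∀ x, (∀ y, ω x y = 0) → x = 0) : ω.Nondegenerate := by
  refine ⟨hnd, ?_⟩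
  intro y hy
  apply hnd
  intro x
  rw [← halt.neg_eq, hy x, neg_zero]

/-- Core: a semisimple operator preserving two nondegenerate alternating forms; the forms are
equivalent under the centraliser of the operator. -/
theorem core (k : ℕ) (hk : (k : F) ≠ 0) : ∀ (d : ℕ) (V : Type v) [AddCommGroup V] [Module F V]
    [FiniteDimensional F V], finrank F V = d → ∀ (ω ω' : LinearMap.BilinForm F V), ω.IsAlt →
    ω'.IsAlt → (∀ x, (∀ y, ω x y = 0) → x = 0) → (∀ x, (∀ y, ω' x y = 0) → x = 0) →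
    ∀ A : Module.End F V, (∀ v, (A ^ k) v = v) → (∀ u v, ω (A u) (A v) = ω u v) →
    (∀ u v, ω' (A u) (A v) = ω' u v) →
    ∃ Y : V ≃ₗ[F] V, (∀ v, Y (A v) = A (Y v)) ∧ ∀ u v, ω (Y u) (Y v) = ω' u v := by
  intro d
  induction d using Nat.strong_induction_on with
  | _ d ih =>
  intro V _ _ _ hd ω ω' halt halt' hnd hnd' A hA hAω hAω'
  obtain ⟨j, rfl⟩ : ∃ j, k = j + 1 := by
    refine ⟨k - 1, ?_⟩
    have : k ≠ 0 := by
      rintro rfl
      exact hk Nat.cast_zero
    omega
  set A' : Module.End F V := A ^ j with hA'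
  have hAA' : A * A' = 1 := by
    apply LinearMap.ext
    intro v
    rw [hA', ← pow_succ']
    exact hA v
  have hA'A : A' * A = 1 := by
    apply LinearMap.ext
    intro v
    rw [hA', ← pow_succ]
    exact hA v
  have hAA'v : ∀ v, A (A' v) = v := fun v => by
    have := congrArg (fun f : Module.End F V => f v) hAA'
    exact this
  by_cases hreg : IsUnit (A - A')
  · obtain ⟨Y, hYu, hYA, hY⟩ := regular_case ω ω' (nondeg_of_alt ω halt hnd)
      (nondeg_of_alt ω' halt' hnd') halt halt' A A' hAA' hA'A hAω hAω' hreg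
    have hbij : Function.Bijective Y := (Module.End.isUnit_iff Y).1 hYu
    refine ⟨LinearEquiv.ofBijective Y hbij, ?_, ?_⟩
    · intro v
      rw [LinearEquiv.ofBijective_apply, LinearEquiv.ofBijective_apply]
      have := congrArg (fun f : Module.End F V => f v) hYA
      exact this
    · intro u v
      rw [LinearEquiv.ofBijective_apply, LinearEquiv.ofBijective_apply]
      exact hY u v
  · obtain ⟨c, hc, hUne⟩ := exists_eigen A A' hAA'v hreg
    have hc0 : c ≠ 0 := by
      rintro rfl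
      rw [mul_zero] at hc
      exact zero_ne_one hc
    set U := LinearMap.ker (A - c • (1 : Module.End F V)) with hU
    set W := LinearMap.range (A - c • (1 : Module.End F V)) with hW
    have hUW : IsCompl U W := isCompl_ker_range A (j + 1) hk hA c hc0
    have hcomm : ∀ x, (A - c • (1 : Module.End F V)) (A x) = A ((A - c • (1 : Module.End F V)) x) := by
      intro x
      simp [LinearMap.sub_apply]
    have hAU : ∀ u ∈ U, A u ∈ U := by
      intro u hu
      rw [hU, LinearMap.mem_ker] at hu ⊢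
      rw [hcomm, hu, map_zero]
    have hAW : ∀ w ∈ W, A w ∈ W := by
      rintro w ⟨x, rfl⟩
      exact ⟨A x, hcomm x⟩
    have hAu : ∀ u ∈ U, A u = c • u := by
      intro u hu
      rw [hU, LinearMap.mem_ker, LinearMap.sub_apply, sub_eq_zero] at hu
      simpa using hu
    have h1 : ∀ u ∈ U, ∀ w ∈ W, ω u w = 0 := fun u hu w hw => orth_ker_range ω A hAω c hc u hu w hw
    have h2 : ∀ u ∈ U, ∀ w ∈ W, ω w u = 0 := by
      intro u hu w hw
      rw [← halt.neg_eq, h1 u hu w hw, neg_zero]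
    have h1' : ∀ u ∈ U, ∀ w ∈ W, ω' u w = 0 :=
      fun u hu w hw => orth_ker_range ω' A hAω' c hc u hu w hw
    have h2' : ∀ u ∈ U, ∀ w ∈ W, ω' w u = 0 := by
      intro u hu w hw
      rw [← halt'.neg_eq, h1' u hu w hw, neg_zero]
    have hdecomp : ∀ v : V, ∃ u ∈ U, ∃ w ∈ W, v = u + w := by
      intro v
      have : v ∈ U ⊔ W := by rw [hUW.sup_eq_top]; trivial
      obtain ⟨u, hu, w, hw, rfl⟩ := Submodule.mem_sup.1 this
      exact ⟨u, hu, w, hw, rfl⟩
    -- nondegeneracy of the restrictions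
    have hndU : ∀ (η : LinearMap.BilinForm F V), (∀ x, (∀ y, η x y = 0) → x = 0) →
        (∀ u ∈ U, ∀ w ∈ W, η u w = 0) → ∀ x : U, (∀ y : U, (η.restrict U) x y = 0) → x = 0 := by
      intro η hη hη1 x hx
      apply Subtype.ext
      apply hη
      intro v
      obtain ⟨u, hu, w, hw, rfl⟩ := hdecomp v
      rw [map_add, hη1 x x.2 w hw, add_zero]
      exact hx ⟨u, hu⟩
    have hndW : ∀ (η : LinearMap.BilinForm F V), (∀ x, (∀ y, η x y = 0) → x = 0) →
        (∀ u ∈ U, ∀ w ∈ W, η w u = 0) → ∀ x : W, (∀ y : W, (η.restrict W) x y = 0) → x = 0 := by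
      intro η hη hη2 x hx
      apply Subtype.ext
      apply hη
      intro v
      obtain ⟨u, hu, w, hw, rfl⟩ := hdecomp v
      rw [map_add, hη2 u hu x x.2, zero_add]
      exact hx ⟨w, hw⟩
    -- U: scalar case
    obtain ⟨YU, hYU⟩ := scalar_case (ω.restrict U) (ω'.restrict U) (fun x => halt x) (fun x => halt' x)
      (hndU ω hnd h1) (hndU ω' hnd' h1')
    -- W: induction
    have hlt : finrank F W < d := by
      have h3 : finrank F W + finrank F U = finrank F V :=
        LinearMap.finrank_range_add_finrank_ker (A - c • (1 : Module.End F V))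
      have h4 : 0 < finrank F U := by
        obtain ⟨x, hx, hx0⟩ := (Submodule.ne_bot_iff _).1 hUne
        exact Module.finrank_pos_iff_exists_ne_zero.2 ⟨⟨x, hx⟩, fun h => hx0 (congrArg Subtype.val h)⟩
      rw [← hd]
      omega
    have hAWk : ∀ x : W, ((A.restrict hAW) ^ (j + 1)) x = x := by
      intro x
      apply Subtype.ext
      rw [Module.End.pow_restrict, LinearMap.restrict_apply]
      exact hA x
    obtain ⟨YW, hYWA, hYW⟩ := ih (finrank F W) hlt W rfl (ω.restrict W) (ω'.restrict W)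
      (fun x => halt x) (fun x => halt' x) (hndW ω hnd h2) (hndW ω' hnd' h2') (A.restrict hAW) hAWk
      (fun u v => hAω u v) (fun u v => hAω' u v)
    refine split ω ω' A U W hUW hAU hAW h1 h2 h1' h2' YU (fun u v => hYU u v) ?_ YW
      (fun u v => hYW u v) ?_
    · intro u
      have h5 : (⟨A u, hAU u u.2⟩ : U) = c • u := Subtype.ext (hAu u u.2)
      rw [h5, map_smul, hAu _ (YU u).2]
      rfl
    · intro w
      have := congrArg Subtype.val (hYWA w)
      exact this

end core

end Cfsg.Agent.Lib.Helper5.Wall
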