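import Mathlib
import Cfsg.Agent.S2590
import Cfsg.Agent.Lib.Helper5.SemisimpleConj

set_option autoImplicit false

namespace Cfsg.Agent.Lib.Helper5.OrthCls

open Polynomial QuadraticMap Module Cfsg.Agent.S2590

universe u

variable {F : Type u} [Field F] [Finite F] {V V' : Type u} [AddCommGroup V] [Module F V]
  [FiniteDimensional F V] [AddCommGroup V'] [Module F V'] [FiniteDimensional F V']

/-- two fixed-point-free semisimple isometries of odd order with the same characteristic
polynomial live on isometric quadratic spaces -/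
theorem fpf_isometric (Q : QuadraticForm F V) (Q' : QuadraticForm F V')
    (hQ : (polarBilin Q).Nondegenerate) (hQ' : (polarBilin Q').Nondegenerate)
    (k : ℕ) (hk : (k : F) ≠ 0) (hodd : Odd k)
    (A : Module.End F V) (A' : Module.End F V')
    (hAk : ∀ v, (A ^ k) v = v) (hA'k : ∀ v, (A' ^ k) v = v)
    (hQA : ∀ v, Q (A v) = Q v) (hQA' : ∀ v, Q' (A' v) = Q' v)
    (hfpf : ∀ v, A v = v → v = 0)
    (hc : A.charpoly = A'.charpoly) :
    ∃ g : V ≃ₗ[F] V', ∀ v, Q' (g v) = Q v := by
  classical
  have hs : Squarefree (X ^ k - 1 : F[X]) := by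
    have : (X ^ k - C (1 : F)).Separable := Polynomial.separable_X_pow_sub_C 1 hk one_ne_zero
    rw [map_one] at this
    exact this.squarefree
  have hAs : aeval A (X ^ k - 1 : F[X]) = 0 := by
    rw [map_sub, map_pow, aeval_X, map_one, sub_eq_zero]
    exact LinearMap.ext hAk
  have hA's : aeval A' (X ^ k - 1 : F[X]) = 0 := by
    rw [map_sub, map_pow, aeval_X, map_one, sub_eq_zero]
    exact LinearMap.ext hA'k
  obtain ⟨E, hE⟩ := conj_of_charpoly_eq A A' _ hs hAs hA's hc
  obtain ⟨j, rfl⟩ : ∃ j, k = 2 * j + 1 := hodd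
  set Ai : Module.End F V := A ^ (2 * j) with hAi
  have hAA' : A * Ai = 1 := by
    apply LinearMap.ext
    intro w
    rw [hAi, ← pow_succ']
    exact hAk w
  have hA'A : Ai * A = 1 := by
    apply LinearMap.ext
    intro w
    rw [hAi, ← pow_succ]
    exact hAk w
  have hfix2 : ∀ v : V, A (A v) = v → A v = v := by
    intro v hv
    have h1 : ∀ i : ℕ, (A ^ (2 * i)) v = v := by
      intro i
      induction i with
      | zero => simp
      | succ i ih =>
        rw [show 2 * (i + 1) = 2 * i + 2 by ring, pow_add, Module.End.mul_apply, pow_two,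
          Module.End.mul_apply, hv, ih]
    have h2 := hAk v
    rw [pow_succ', Module.End.mul_apply, h1 j] at h2
    exact h2
  have hreg : IsUnit (A - Ai) := by
    rw [LinearMap.isUnit_iff_ker_eq_bot, LinearMap.ker_eq_bot']
    intro w hw
    rw [LinearMap.sub_apply, sub_eq_zero] at hw
    have h1 : A (A w) = w := by
      rw [hw]
      have := congrArg (fun f : Module.End F V => f w) hAA'
      exact this
    exact hfpf w (hfix2 w h1)
  set ω : LinearMap.BilinForm F V := polarBilin Q with hω
  set ω' : LinearMap.BilinForm F V :=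
    LinearMap.BilinForm.comp (polarBilin Q') E.toLinearMap E.toLinearMap with hω'
  have hωapp : ∀ u v : V, ω u v = polar Q u v := fun u v => rfl
  have hω'app : ∀ u v : V, ω' u v = polar Q' (E u) (E v) := fun u v => rfl
  have hsym : ∀ x y, ω x y = ω y x := fun x y => polar_comm _ _ _
  have hsym' : ∀ x y, ω' x y = ω' y x := fun x y => polar_comm _ _ _
  have hnd' : ω'.Nondegenerate := by
    have h1 : ∀ x : V, (∀ y : V, ω' x y = 0) → x = 0 := by
      intro x hx
      apply E.injective
      rw [map_zero]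
      apply hQ'.1
      intro v
      obtain ⟨v', rfl⟩ := E.surjective v
      exact hx v'
    exact ⟨h1, fun y hy => h1 y (fun x => by rw [hsym']; exact hy x)⟩
  have hAω : ∀ u v, ω (A u) (A v) = ω u v := fun u v => polar_map Q A hQA u v
  have hAω' : ∀ u v, ω' (A u) (A v) = ω' u v := by
    intro u v
    rw [hω'app, hω'app, hE, hE]
    exact polar_map Q' A' hQA' _ _
  obtain ⟨Y, hYu, hYA, hY⟩ := regular_case_symm ω ω' hQ hnd' hsym hsym' A Ai hAA' hA'A hAω hAω' hreg
  have hYAapp : ∀ w, Y (A w) = A (Y w) := fun w => by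
    have := congrArg (fun f : Module.End F V => f w) hYA
    exact this
  have hNsurj : ∀ w : V, ∃ w₀ : V, A w₀ - w₀ = w := by
    have hinj : Function.Injective (A - (1 : Module.End F V)) := by
      rw [← LinearMap.ker_eq_bot, LinearMap.ker_eq_bot']
      intro w hw
      rw [LinearMap.sub_apply, sub_eq_zero] at hw
      exact hfpf w hw
    have hsurj := LinearMap.surjective_of_injective hinj
    intro w
    obtain ⟨w₀, hw₀⟩ := hsurj w
    exact ⟨w₀, hw₀⟩
  have hYQ : ∀ w : V, Q (Y w) = Q' (E w) := by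
    intro w
    obtain ⟨w₀, rfl⟩ := hNsurj w
    have e1 : Y (A w₀ - w₀) = A (Y w₀) - Y w₀ := by
      rw [map_sub, hYAapp]
    have e2 : E (A w₀ - w₀) = A' (E w₀) - E w₀ := by
      rw [← hE, ← map_sub]
    rw [e1, e2, Q_sub Q A hQA, Q_sub Q' A' hQA', ← e1, ← e2]
    congr 1
    exact hY (A w₀ - w₀) w₀
  have hbij : Function.Bijective Y := (Module.End.isUnit_iff Y).1 hYu
  set Ye : V ≃ₗ[F] V := LinearEquiv.ofBijective Y hbij with hYe
  refine ⟨Ye.symm.trans E, ?_⟩
  intro v
  rw [LinearEquiv.trans_apply, ← hYQ]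
  congr 1
  exact Ye.apply_symm_apply v

end Cfsg.Agent.Lib.Helper5.OrthCls
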