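import Mathlib
import Cfsg.Agent.Lib.Helper5.QuadFin

set_option autoImplicit false

namespace Cfsg.Agent.Lib.Helper5.OrthCls

open QuadraticMap Module

universe u v w

variable {F : Type u} [Field F]

/-- Two subspaces of `F^ι` orthogonal for the dot product have dimensions adding up to at most
`card ι`. -/
theorem finrank_add_le_of_dot_orthogonal' {ι : Type w} [Fintype ι] [DecidableEq ι]
    (A B : Submodule F (ι → F))
    (h : ∀ a ∈ A, ∀ b ∈ B, a ⬝ᵥ b = 0) : finrank F A + finrank F B ≤ Fintype.card ι := by
  let Bil : LinearMap.BilinForm F (ι → F) := Matrix.toBilin' 1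
  have hnd : Bil.Nondegenerate :=
    LinearMap.BilinForm.nondegenerate_toBilin'_of_det_ne_zero' 1 (by simp)
  have hle : B ≤ Bil.orthogonal A := by
    intro b hb
    rw [LinearMap.BilinForm.mem_orthogonal_iff]
    intro a ha
    show Bil a b = 0
    simp [Bil, Matrix.toBilin'_apply', h a ha b hb]
  have h1 := Submodule.finrank_mono hle
  rw [LinearMap.BilinForm.finrank_orthogonal hnd, finrank_fintype_fun_eq_card] at h1
  have h2 : finrank F A ≤ Fintype.card ι := by
    have := Submodule.finrank_le A
    rwa [finrank_fintype_fun_eq_card] at this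
  omega

theorem finrank_le_of_isotropic_projections' {V : Type v} [AddCommGroup V] [Module F V]
    [FiniteDimensional F V] {ι : Type w} [Fintype ι] [DecidableEq ι]
    (px py : V →ₗ[F] (ι → F)) (U : Submodule F V)
    (hinj : ∀ u ∈ U, py u = 0 → px u = 0 → u = 0)
    (horth : ∀ u ∈ U, ∀ u' ∈ U, py u' = 0 → px u' ⬝ᵥ py u = 0) :
    finrank F U ≤ Fintype.card ι := by
  set g : U →ₗ[F] (ι → F) := py.domRestrict U with hg
  set h : LinearMap.ker g →ₗ[F] (ι → F) := (px.domRestrict U).domRestrict (LinearMap.ker g) with hh
  have hhinj : Function.Injective h := by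
    rw [← LinearMap.ker_eq_bot, LinearMap.ker_eq_bot']
    intro u hu
    have h1 : py (u : U) = 0 := u.2
    have h2 : px (u : U) = 0 := hu
    have h3 := hinj _ (u : U).2 h1 h2
    apply Subtype.ext; apply Subtype.ext; exact h3
  have hA : finrank F (LinearMap.range h) = finrank F (LinearMap.ker g) :=
    LinearMap.finrank_range_of_inj hhinj
  have hB := LinearMap.finrank_range_add_finrank_ker g
  have hAB := finrank_add_le_of_dot_orthogonal' (LinearMap.range h) (LinearMap.range g) (by
    rintro a ⟨u', rfl⟩ b ⟨u, rfl⟩
    exact horth _ u.2 _ (u' : U).2 u'.2)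
  omega

variable {V : Type v} [AddCommGroup V] [Module F V]

/-- Witt data: a hyperbolic family with anisotropic orthogonal complement -/
structure WData (Q : QuadraticForm F V) {ι : Type w} [DecidableEq ι] (e f : ι → V)
    (W : Submodule F V) : Prop where
  qe : ∀ i, Q (e i) = 0
  qf : ∀ i, Q (f i) = 0
  ef : ∀ i j, polar Q (e i) (f j) = if i = j then 1 else 0
  ee : ∀ i j, polar Q (e i) (e j) = 0
  ff : ∀ i j, polar Q (f i) (f j) = 0
  memW : ∀ x, x ∈ W ↔ ∀ i, polar Q (e i) x = 0 ∧ polar Q (f i) x = 0
  aniso : ∀ x ∈ W, Q x = 0 → x = 0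

/-- a quadratic space is of plus type if it has a totally singular subspace of half the dimension -/
def IsPlus (Q : QuadraticForm F V) : Prop :=
  ∃ U : Submodule F V, (∀ u ∈ U, Q u = 0) ∧ 2 * finrank F U = finrank F V

section wdata

variable {Q : QuadraticForm F V} {ι : Type w} [Fintype ι] [DecidableEq ι] {e f : ι → V}
  {W : Submodule F V}

theorem Q_sum_e (h : WData Q e f W) (c : ι → F) : Q (∑ i, c i • e i) = 0 := by
  classical
  have key : ∀ s : Finset ι, Q (∑ i ∈ s, c i • e i) = 0 ∧
      ∀ j, polar Q (∑ i ∈ s, c i • e i) (e j) = 0 := by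
    intro s
    induction s using Finset.induction_on with
    | empty =>
      refine ⟨by simp, fun j => by simp [polar]⟩
    | insert a s ha ih =>
      rw [Finset.sum_insert ha]
      refine ⟨?_, fun j => ?_⟩
      · have h1 : polar Q (c a • e a) (∑ i ∈ s, c i • e i) = 0 := by
          rw [polar_comm, polar_smul_right, ih.2 a, smul_zero]
        have h2 : Q (c a • e a + ∑ i ∈ s, c i • e i) =
            Q (c a • e a) + Q (∑ i ∈ s, c i • e i) + polar Q (c a • e a) (∑ i ∈ s, c i • e i) := by
          rw [polar]; ring
        rw [h2, h1, ih.1, QuadraticMap.map_smul, h.qe, smul_zero, add_zero, add_zero]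
      · rw [polar_add_left, polar_smul_left, h.ee, smul_zero, zero_add, ih.2 j]
  exact (key Finset.univ).1

theorem polar_sum_e (h : WData Q e f W) (c : ι → F) (x : V) :
    polar Q (∑ i, c i • e i) x = ∑ i, c i * polar Q (e i) x := by
  classical
  have key : ∀ s : Finset ι, polar Q (∑ i ∈ s, c i • e i) x = ∑ i ∈ s, c i * polar Q (e i) x := by
    intro s
    induction s using Finset.induction_on with
    | empty => simp [polar]
    | insert a s ha ih =>
      rw [Finset.sum_insert ha, Finset.sum_insert ha, polar_add_left, polar_smul_left, ih,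
        smul_eq_mul]
  exact key Finset.univ

theorem WData.finrank_le [FiniteDimensional F V] (h : WData Q e f W) (U : Submodule F V)
    (hU : ∀ u ∈ U, Q u = 0) : finrank F U ≤ Fintype.card ι := by
  classical
  set px : V →ₗ[F] (ι → F) := LinearMap.pi (fun i => (polarBilin Q (f i))) with hpx
  set py : V →ₗ[F] (ι → F) := LinearMap.pi (fun i => (polarBilin Q (e i))) with hpy
  have hpxa : ∀ u i, px u i = polar Q (f i) u := fun u i => rfl
  have hpya : ∀ u i, py u i = polar Q (e i) u := fun u i => rfl
  apply finrank_le_of_isotropic_projections' px py U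
  · intro u hu hy hx
    apply h.aniso u _ (hU u hu)
    rw [h.memW]
    intro i
    exact ⟨by rw [← hpya, hy]; rfl, by rw [← hpxa, hx]; rfl⟩
  · intro u hu u' hu' hy'
    -- u' = Σ x'_i e_i
    set z : V := u' - ∑ i, px u' i • e i with hz
    have hzW : z ∈ W := by
      rw [h.memW]
      intro j
      constructor
      · have h1 : polar Q (e j) u' = 0 := by
          rw [← hpya, hy']
          rfl
        have h2 : polar Q (e j) (∑ i, px u' i • e i) = 0 := by
          rw [polar_comm, polar_sum_e h]
          apply Finset.sum_eq_zero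
          intro i _
          rw [h.ee, mul_zero]
        rw [hz, polar_sub_right, h1, h2, sub_zero]
      · rw [hz, polar_sub_right, polar_comm Q (f j) (∑ i, px u' i • e i), polar_sum_e h,
          Finset.sum_eq_single j, h.ef, if_pos rfl, mul_one, hpxa, sub_self]
        · intro i _ hij
          rw [h.ef, if_neg hij, mul_zero]
        · intro hj
          exact absurd (Finset.mem_univ j) hj
    have hQz : Q z = 0 := by
      have h1 : Q z = Q u' - Q (∑ i, px u' i • e i) - polar Q (∑ i, px u' i • e i) u' := by
        have h2 : u' = z + ∑ i, px u' i • e i := by rw [hz]; abel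
        have h3 : Q u' = Q z + Q (∑ i, px u' i • e i) + polar Q z (∑ i, px u' i • e i) := by
          conv_lhs => rw [h2]
          rw [polar]; ring
        have h4 : polar Q z (∑ i, px u' i • e i) =
            polar Q u' (∑ i, px u' i • e i) - polar Q (∑ i, px u' i • e i) (∑ i, px u' i • e i) := by
          rw [hz, polar_sub_left]
        have h5 : polar Q (∑ i, px u' i • e i) (∑ i, px u' i • e i) = 0 := by
          rw [QuadraticMap.polar_self, Q_sum_e h, smul_zero]
        rw [h3, h4, h5, polar_comm Q u']
        ring
      rw [h1, hU u' hu', Q_sum_e h, polar_sum_e h]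
      simp only [sub_zero, zero_sub, neg_eq_zero]
      apply Finset.sum_eq_zero
      intro i _
      rw [← hpya, hy']
      simp
    have hz0 : z = 0 := h.aniso z hzW hQz
    have hu'eq : u' = ∑ i, px u' i • e i := by
      rw [hz, sub_eq_zero] at hz0
      exact hz0
    have h6 : polar Q u' u = 0 := by
      rw [polar, hU _ (U.add_mem hu' hu), hU u' hu', hU u hu]
      ring
    have h7 : polar Q (∑ i, px u' i • e i) u = 0 := by
      rw [← hu'eq]
      exact h6
    rw [polar_sum_e h] at h7
    rw [dotProduct]
    exact h7

theorem WData.linearIndependent_e (h : WData Q e f W) : LinearIndependent F e := by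
  classical
  rw [Fintype.linearIndependent_iff]
  intro c hc j
  have h1 : polar Q (∑ i, c i • e i) (f j) = polar Q 0 (f j) := by rw [hc]
  rw [polar_sum_e h, Finset.sum_eq_single j, h.ef, if_pos rfl, mul_one] at h1
  · rw [h1]
    simp [polar]
  · intro i _ hij
    rw [h.ef, if_neg hij, mul_zero]
  · intro hj
    exact absurd (Finset.mem_univ j) hj

theorem WData.isPlus_iff [FiniteDimensional F V] (h : WData Q e f W)
    (hdim : finrank F W + 2 * Fintype.card ι = finrank F V) : IsPlus Q ↔ finrank F W = 0 := by
  constructor
  · rintro ⟨U, hU, hUd⟩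
    have := h.finrank_le U hU
    omega
  · intro hW
    refine ⟨Submodule.span F (Set.range e), ?_, ?_⟩
    · intro u hu
      obtain ⟨c, rfl⟩ := (Submodule.mem_span_range_iff_exists_fun F).1 hu
      exact Q_sum_e h c
    · rw [finrank_span_eq_card h.linearIndependent_e]
      omega

end wdata

end Cfsg.Agent.Lib.Helper5.OrthCls
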