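import Mathlib
import Cfsg.Agent.Lib.Helper5.OrthCls2

set_option autoImplicit false

namespace Cfsg.Agent.Lib.Helper5.OrthCls

open QuadraticMap Module

universe u v w

variable {F : Type u} [Field F]

theorem exists_artin_schreier [Finite F] (h2 : (2 : F) = 0) (ζ ζ' : F)
    (hζ : ∀ t : F, t ^ 2 + t + ζ ≠ 0) (hζ' : ∀ t : F, t ^ 2 + t + ζ' ≠ 0) :
    ∃ s : F, s ^ 2 + s = ζ + ζ' := by
  classical
  have hneg : ∀ x : F, -x = x := by
    intro x
    have : x + x = 0 := by rw [← two_mul, h2, zero_mul]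
    exact neg_eq_of_add_eq_zero_left this
  have hsq : ∀ a b : F, (a + b) ^ 2 = a ^ 2 + b ^ 2 := by
    intro a b
    have : (a + b) ^ 2 = a ^ 2 + b ^ 2 + 2 * (a * b) := by ring
    rw [this, h2, zero_mul, add_zero]
  let P : F →+ F :=
    { toFun := fun s => s ^ 2 + s
      map_zero' := by simp
      map_add' := fun a b => by
        show (a + b) ^ 2 + (a + b) = a ^ 2 + a + (b ^ 2 + b)
        rw [hsq]; ring }
  have hPa : ∀ s, P s = s ^ 2 + s := fun s => rfl
  have hker : Nat.card P.ker = 2 := by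
    rw [Nat.card_eq_two_iff]
    refine ⟨⟨0, by simp⟩, ⟨1, ?_⟩, ?_, ?_⟩
    · rw [AddMonoidHom.mem_ker, hPa, one_pow, ← two_mul, h2, zero_mul]
    · intro h
      have := congrArg Subtype.val h
      exact zero_ne_one this
    · ext x
      simp only [Set.mem_insert_iff, Set.mem_singleton_iff, Set.mem_univ, iff_true]
      have hx : P x.1 = 0 := x.2
      rw [hPa] at hx
      have h3 : x.1 * (x.1 + 1) = 0 := by rw [← hx]; ring
      rcases mul_eq_zero.1 h3 with h | h
      · left; exact Subtype.ext h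
      · right
        apply Subtype.ext
        show x.1 = 1
        have := eq_neg_of_add_eq_zero_left h
        rw [this, hneg]
  have h1 := AddSubgroup.index_ker P
  have h3 := AddSubgroup.index_mul_card P.ker
  have h4 := AddSubgroup.index_mul_card P.range
  have hidx : P.range.index = 2 := by
    rw [hker, h1] at h3
    rw [← h3] at h4
    have hpos : 0 < Nat.card P.range := Nat.card_pos
    rw [mul_comm] at h4
    exact Nat.eq_of_mul_eq_mul_left hpos h4
  have hnot : ∀ z : F, (∀ t : F, t ^ 2 + t + z ≠ 0) → z ∉ P.range := by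
    intro z hz hmem
    obtain ⟨t, ht⟩ := hmem
    apply hz t
    rw [hPa] at ht
    rw [ht, ← two_mul, h2, zero_mul]
  have h5 : ζ + ζ' ∈ P.range := by
    rw [AddSubgroup.add_mem_iff_of_index_two hidx]
    exact iff_of_false (hnot ζ hζ) (hnot ζ' hζ')
  obtain ⟨s, hs⟩ := h5
  exact ⟨s, hs⟩

theorem exists_sqrt_ratio [Finite F] (h2 : (2 : F) ≠ 0) (ζ ζ' : F)
    (hζ : ∀ t : F, t ^ 2 + t + ζ ≠ 0) (hζ' : ∀ t : F, t ^ 2 + t + ζ' ≠ 0) :
    ∃ w : F, w ^ 2 * (1 - 4 * ζ') = 1 - 4 * ζ := by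
  classical
  haveI : Fintype F := Fintype.ofFinite F
  have hns : ∀ z : F, (∀ t : F, t ^ 2 + t + z ≠ 0) → ¬ IsSquare (1 - 4 * z) := by
    intro z hz hsq
    obtain ⟨u, hu⟩ := hsq
    apply hz ((u - 1) / 2)
    have h4 : (4 : F) ≠ 0 := by
      have : (4 : F) = 2 * 2 := by norm_num
      rw [this]
      exact mul_ne_zero h2 h2
    have hz' : z = (1 - u * u) / 4 := by
      rw [← hu]; field_simp; ring
    rw [hz']
    field_simp
    ring
  have h1 := quadraticChar_neg_one_iff_not_isSquare.2 (hns ζ hζ)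
  have h1' := quadraticChar_neg_one_iff_not_isSquare.2 (hns ζ' hζ')
  have hn'0 : (1 - 4 * ζ') ≠ 0 := by
    intro h
    apply hns ζ' hζ'
    rw [h]
    exact ⟨0, by simp⟩
  have hn0 : (1 - 4 * ζ) ≠ 0 := by
    intro h
    apply hns ζ hζ
    rw [h]
    exact ⟨0, by simp⟩
  have h3 : quadraticChar F ((1 - 4 * ζ) * (1 - 4 * ζ')) = 1 := by
    rw [map_mul, h1, h1']
    norm_num
  obtain ⟨u, hu⟩ := (quadraticChar_one_iff_isSquare (mul_ne_zero hn0 hn'0)).1 h3
  refine ⟨u / (1 - 4 * ζ'), ?_⟩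
  rw [div_pow, sq u, ← hu]
  field_simp

theorem exists_adjust [Finite F] (ζ ζ' : F)
    (hζ : ∀ t : F, t ^ 2 + t + ζ ≠ 0) (hζ' : ∀ t : F, t ^ 2 + t + ζ' ≠ 0) :
    ∃ c s : F, c + 2 * s = 1 ∧ c ^ 2 * ζ' + c * s + s ^ 2 = ζ := by
  by_cases h2 : (2 : F) = 0
  · obtain ⟨s, hs⟩ := exists_artin_schreier h2 ζ ζ' hζ hζ'
    refine ⟨1, s, by rw [h2, zero_mul, add_zero], ?_⟩
    have hneg : ζ' + ζ' = 0 := by rw [← two_mul, h2, zero_mul]
    have : (1 : F) ^ 2 * ζ' + 1 * s + s ^ 2 = (s ^ 2 + s) + ζ' := by ring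
    rw [this, hs, add_assoc, hneg, add_zero]
  · obtain ⟨w, hw⟩ := exists_sqrt_ratio h2 ζ ζ' hζ hζ'
    refine ⟨-w, (1 + w) / 2, by field_simp; ring, ?_⟩
    have h4 : (4 : F) ≠ 0 := by
      have : (4 : F) = 2 * 2 := by norm_num
      rw [this]
      exact mul_ne_zero h2 h2
    have hζeq : ζ = (1 - w ^ 2 * (1 - 4 * ζ')) / 4 := by
      rw [hw]; field_simp; ring
    rw [hζeq]
    field_simp
    ring

theorem irreducible_of_pair {V : Type v} [AddCommGroup V] [Module F V] (Q : QuadraticForm F V)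
    (haniso : ∀ x, Q x = 0 → x = 0) (x y : V) (hx : Q x = 1) (hxy : polar Q x y = 1)
    (hli : LinearIndependent F ![x, y]) : ∀ t : F, t ^ 2 + t + Q y ≠ 0 := by
  intro t ht
  have h1 : Q (t • x + (1 : F) • y) = 0 := by
    rw [Cfsg.Agent.Lib.Helper5.map_lin2, hx, hxy, ← ht]
    ring
  have h2 := haniso _ h1
  rw [LinearIndependent.pair_iff] at hli
  have := (hli t 1 h2).2
  exact one_ne_zero this

theorem aniso_plane_isometric [Finite F] {Va : Type v} {Vb : Type w} [AddCommGroup Va]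
    [Module F Va] [FiniteDimensional F Va] [AddCommGroup Vb] [Module F Vb]
    [FiniteDimensional F Vb] (hda : finrank F Va = 2) (hdb : finrank F Vb = 2)
    (Qa : QuadraticForm F Va) (Qb : QuadraticForm F Vb)
    (ha : ∀ x, Qa x = 0 → x = 0) (hb : ∀ x, Qb x = 0 → x = 0)
    (hnda : ∀ x, x ≠ 0 → ∃ y, polar Qa x y ≠ 0) (hndb : ∀ x, x ≠ 0 → ∃ y, polar Qb x y ≠ 0) :
    ∃ θ : Va ≃ₗ[F] Vb, ∀ v, Qb (θ v) = Qa v := by
  classical
  obtain ⟨x, y, -, -, hx, hxy, hli⟩ := exists_elliptic_pair Qa (⊤ : Submodule F Va)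
    (by rw [finrank_top, hda]) (fun x _ h => ha x h)
    (fun x _ hx0 => by obtain ⟨y, hy⟩ := hnda x hx0; exact ⟨y, trivial, hy⟩)
  obtain ⟨x', y', -, -, hx', hxy', hli'⟩ := exists_elliptic_pair Qb (⊤ : Submodule F Vb)
    (by rw [finrank_top, hdb]) (fun x _ h => hb x h)
    (fun x _ hx0 => by obtain ⟨y, hy⟩ := hndb x hx0; exact ⟨y, trivial, hy⟩)
  have hζ := irreducible_of_pair Qa ha x y hx hxy hli
  have hζ' := irreducible_of_pair Qb hb x' y' hx' hxy' hli'
  obtain ⟨c, s, hcs, hval⟩ := exists_adjust (Qa y) (Qb y') hζ hζ'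
  set y'' : Vb := s • x' + c • y' with hy''
  have hQy'' : Qb y'' = Qa y := by
    rw [hy'', Cfsg.Agent.Lib.Helper5.map_lin2, hx', hxy', ← hval]
    ring
  have hpxy'' : polar Qb x' y'' = 1 := by
    rw [hy'', polar_add_right, polar_smul_right, polar_smul_right, hxy', QuadraticMap.polar_self,
      hx']
    simp only [smul_eq_mul, nsmul_eq_mul, mul_one, Nat.cast_ofNat]
    rw [← hcs]
    ring
  let ba : Basis (Fin 2) F Va := basisOfLinearIndependentOfCardEqFinrank hli (by rw [hda]; rfl)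
  have hba : ⇑ba = ![x, y] := coe_basisOfLinearIndependentOfCardEqFinrank hli _
  let θ₀ : Va →ₗ[F] Vb := ba.constr F ![x', y'']
  have hθ0 : θ₀ x = x' := by
    have := ba.constr_basis F ![x', y''] 0
    rw [hba] at this
    exact this
  have hθ1 : θ₀ y = y'' := by
    have := ba.constr_basis F ![x', y''] 1
    rw [hba] at this
    exact this
  have hpol : ∀ u v, polar (⇑(Qb.comp θ₀)) u v = polar Qb (θ₀ u) (θ₀ v) := by
    intro u v
    simp [polar, QuadraticMap.comp_apply]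
  have hQ : ∀ v, Qb (θ₀ v) = Qa v := by
    intro v
    have := Cfsg.Agent.Lib.Helper5.ext_basis (Qb.comp θ₀) Qa ba
      (fun i => by
        rw [QuadraticMap.comp_apply, hba]
        fin_cases i
        · show Qb (θ₀ x) = Qa x
          rw [hθ0, hx', hx]
        · show Qb (θ₀ y) = Qa y
          rw [hθ1, hQy''])
      (fun i j => by
        rw [hpol, hba]
        fin_cases i <;> fin_cases j
        · show polar Qb (θ₀ x) (θ₀ x) = polar Qa x x
          rw [hθ0, QuadraticMap.polar_self, QuadraticMap.polar_self, hx, hx']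
        · show polar Qb (θ₀ x) (θ₀ y) = polar Qa x y
          rw [hθ0, hθ1, hpxy'', hxy]
        · show polar Qb (θ₀ y) (θ₀ x) = polar Qa y x
          rw [hθ0, hθ1, polar_comm, hpxy'', polar_comm, hxy]
        · show polar Qb (θ₀ y) (θ₀ y) = polar Qa y y
          rw [hθ1, QuadraticMap.polar_self, QuadraticMap.polar_self, hQy'']) v
    exact this
  have hinj : Function.Injective θ₀ := by
    rw [← LinearMap.ker_eq_bot, LinearMap.ker_eq_bot']
    intro v hv
    apply ha
    rw [← hQ, hv, QuadraticMap.map_zero]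
  refine ⟨LinearMap.linearEquivOfInjective θ₀ hinj (by rw [hda, hdb]), ?_⟩
  intro v
  exact hQ v

end Cfsg.Agent.Lib.Helper5.OrthCls
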