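import Mathlib
import Cfsg.Agent.Lib.Helper5.OrthCls3

set_option autoImplicit false

namespace Cfsg.Agent.Lib.Helper5.OrthCls

open QuadraticMap Module

universe u v w

variable {F : Type u} [Field F]

section iso

variable {V : Type v} {V' : Type w} [AddCommGroup V] [Module F V] [AddCommGroup V'] [Module F V']

theorem isPlus_of_isometry {Q : QuadraticForm F V} {Q' : QuadraticForm F V'} (g : V ≃ₗ[F] V')
    (hg : ∀ v, Q' (g v) = Q v) (h : IsPlus Q) : IsPlus Q' := by
  obtain ⟨U, hU, hd⟩ := h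
  refine ⟨U.map g.toLinearMap, ?_, ?_⟩
  · rintro _ ⟨u, hu, rfl⟩
    show Q' (g u) = 0
    rw [hg, hU u hu]
  · rw [LinearEquiv.finrank_map_eq, hd, g.finrank_eq]

theorem isPlus_iff_of_isometry {Q : QuadraticForm F V} {Q' : QuadraticForm F V'} (g : V ≃ₗ[F] V')
    (hg : ∀ v, Q' (g v) = Q v) : IsPlus Q ↔ IsPlus Q' := by
  constructor
  · exact isPlus_of_isometry g hg
  · apply isPlus_of_isometry g.symm
    intro v
    rw [← hg, LinearEquiv.apply_symm_apply]

end iso

section single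

variable {V : Type v} [AddCommGroup V] [Module F V]
variable {Q : QuadraticForm F V} {ι : Type w} [Fintype ι] [DecidableEq ι] {e f : ι → V}
  {W : Submodule F V}

theorem WData.swap (h : WData Q e f W) : WData Q f e W where
  qe := h.qf
  qf := h.qe
  ef := fun i j => by
    rw [polar_comm, h.ef]
    by_cases hij : i = j
    · rw [if_pos hij, if_pos hij.symm]
    · rw [if_neg hij, if_neg (Ne.symm hij)]
  ee := h.ff
  ff := h.ee
  memW := fun x => by
    rw [h.memW]
    exact forall_congr' (fun i => and_comm)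
  aniso := h.aniso

theorem WData.nondegW (h : WData Q e f W) (hQ : (polarBilin Q).Nondegenerate) :
    ∀ x ∈ W, x ≠ 0 → ∃ y ∈ W, polar Q x y ≠ 0 := by
  intro x hx hx0
  have h1 : ∃ y, polar Q x y ≠ 0 := by
    by_contra hcon
    push Not at hcon
    exact hx0 (hQ.1 x hcon)
  obtain ⟨y, hy⟩ := h1
  set a : V := ∑ i, polar Q (f i) y • e i with ha
  set b : V := ∑ i, polar Q (e i) y • f i with hb
  have hxW := (h.memW x).1 hx
  refine ⟨y - a - b, ?_, ?_⟩
  · rw [h.memW]
    intro j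
    constructor
    · have h2 : polar Q (e j) a = 0 := by
        rw [polar_comm, ha, polar_sum_e h]
        apply Finset.sum_eq_zero
        intro i _
        rw [h.ee, mul_zero]
      have h3 : polar Q (e j) b = polar Q (e j) y := by
        rw [polar_comm, hb, polar_sum_e h.swap, Finset.sum_eq_single j]
        · rw [polar_comm Q (f j), h.ef, if_pos rfl, mul_one]
        · intro i _ hij
          rw [polar_comm Q (f i), h.ef, if_neg (Ne.symm hij), mul_zero]
        · intro hj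
          exact absurd (Finset.mem_univ j) hj
      rw [polar_sub_right, polar_sub_right, h2, h3]
      ring
    · have h2 : polar Q (f j) b = 0 := by
        rw [polar_comm, hb, polar_sum_e h.swap]
        apply Finset.sum_eq_zero
        intro i _
        rw [h.ff, mul_zero]
      have h3 : polar Q (f j) a = polar Q (f j) y := by
        rw [polar_comm, ha, polar_sum_e h, Finset.sum_eq_single j]
        · rw [h.ef, if_pos rfl, mul_one]
        · intro i _ hij
          rw [h.ef, if_neg hij, mul_zero]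
        · intro hj
          exact absurd (Finset.mem_univ j) hj
      rw [polar_sub_right, polar_sub_right, h2, h3]
      ring
  · have h2 : polar Q x a = 0 := by
      rw [polar_comm, ha, polar_sum_e h]
      apply Finset.sum_eq_zero
      intro i _
      rw [(hxW i).1, mul_zero]
    have h3 : polar Q x b = 0 := by
      rw [polar_comm, hb, polar_sum_e h.swap]
      apply Finset.sum_eq_zero
      intro i _
      rw [(hxW i).2, mul_zero]
    rw [polar_sub_right, polar_sub_right, h2, h3, sub_zero, sub_zero]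
    exact hy

end single

theorem exists_wdata [Finite F] {V : Type v} [AddCommGroup V] [Module F V]
    [FiniteDimensional F V] (Q : QuadraticForm F V) (hQ : (polarBilin Q).Nondegenerate) :
    ∃ (k : ℕ) (e f : Fin k → V) (W : Submodule F V), WData Q e f W ∧
      finrank F W + 2 * k = finrank F V ∧ finrank F W ≤ 2 := by
  obtain ⟨k, e, f, W, hH, hmem, hd, hW2, haniso⟩ := exists_witt Q hQ
  exact ⟨k, e, f, W, ⟨hH.qe, hH.qf, hH.ef, hH.ee, hH.ff, hmem, haniso⟩, hd, hW2⟩

section prod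

variable {V₁ : Type v} {V₂ : Type w} [AddCommGroup V₁] [Module F V₁] [AddCommGroup V₂]
  [Module F V₂]
variable (Q₁ : QuadraticForm F V₁) (Q₂ : QuadraticForm F V₂)

theorem prod_nondeg (h₁ : (polarBilin Q₁).Nondegenerate) (h₂ : (polarBilin Q₂).Nondegenerate) :
    (polarBilin (Q₁.prod Q₂)).Nondegenerate := by
  have key : ∀ x : V₁ × V₂, (∀ y, polar (Q₁.prod Q₂) x y = 0) → x = 0 := by
    intro x hx
    apply Prod.ext
    · apply h₁.1
      intro y₁
      have := hx (y₁, 0)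
      rw [polar_prod] at this
      simp only at this
      rw [show polar Q₂ x.2 0 = 0 by simp [polar], add_zero] at this
      exact this
    · apply h₂.1
      intro y₂
      have := hx (0, y₂)
      rw [polar_prod] at this
      simp only at this
      rw [show polar Q₁ x.1 0 = 0 by simp [polar], zero_add] at this
      exact this
  refine ⟨key, fun y hy => key y (fun x => ?_)⟩
  rw [polar_comm]
  exact hy x

theorem isPlus_prod [FiniteDimensional F V₁] [FiniteDimensional F V₂] (h₁ : IsPlus Q₁)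
    (h₂ : IsPlus Q₂) : IsPlus (Q₁.prod Q₂) := by
  obtain ⟨U₁, hU₁, hd₁⟩ := h₁
  obtain ⟨U₂, hU₂, hd₂⟩ := h₂
  set Ψ : (U₁ × U₂) →ₗ[F] V₁ × V₂ := LinearMap.prodMap U₁.subtype U₂.subtype with hΨ
  have hinj : Function.Injective Ψ := by
    intro a b hab
    have h1 := congrArg Prod.fst hab
    have h2 := congrArg Prod.snd hab
    apply Prod.ext
    · exact Subtype.ext h1
    · exact Subtype.ext h2
  refine ⟨LinearMap.range Ψ, ?_, ?_⟩
  · rintro _ ⟨u, rfl⟩
    rw [prod_apply]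
    show Q₁ (u.1 : V₁) + Q₂ (u.2 : V₂) = 0
    rw [hU₁ _ u.1.2, hU₂ _ u.2.2, add_zero]
  · rw [LinearMap.finrank_range_of_inj hinj, Module.finrank_prod, Module.finrank_prod]
    omega

variable {Q₁ Q₂}

theorem WData.prod_bot {ι₁ : Type*} {ι₂ : Type*} [Fintype ι₁] [DecidableEq ι₁] [Fintype ι₂]
    [DecidableEq ι₂] {e₁ f₁ : ι₁ → V₁} {e₂ f₂ : ι₂ → V₂} {W₁ : Submodule F V₁}
    (h₁ : WData Q₁ e₁ f₁ W₁) (h₂ : WData Q₂ e₂ f₂ ⊥) :
    WData (Q₁.prod Q₂) (Sum.elim (fun i => ((e₁ i, 0) : V₁ × V₂)) (fun j => ((0, e₂ j) : V₁ × V₂)))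
      (Sum.elim (fun i => ((f₁ i, 0) : V₁ × V₂)) (fun j => ((0, f₂ j) : V₁ × V₂)))
      (W₁.prod ⊥) where
  qe := by
    rintro (i | j)
    · simp [prod_apply, h₁.qe]
    · simp [prod_apply, h₂.qe]
  qf := by
    rintro (i | j)
    · simp [prod_apply, h₁.qf]
    · simp [prod_apply, h₂.qf]
  ef := by
    rintro (i | j) (i' | j')
    · show polar (Q₁.prod Q₂) (e₁ i, 0) (f₁ i', 0) = _
      rw [polar_prod]
      simp only [polar_zero_left, add_zero, h₁.ef, Sum.inl.injEq]
    · show polar (Q₁.prod Q₂) (e₁ i, 0) (0, f₂ j') = _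
      rw [polar_prod]
      simp only [polar_zero_left, polar_zero_right, add_zero, reduceCtorEq, if_false]
    · show polar (Q₁.prod Q₂) (0, e₂ j) (f₁ i', 0) = _
      rw [polar_prod]
      simp only [polar_zero_left, polar_zero_right, add_zero, reduceCtorEq, if_false]
    · show polar (Q₁.prod Q₂) (0, e₂ j) (0, f₂ j') = _
      rw [polar_prod]
      simp only [polar_zero_left, zero_add, h₂.ef, Sum.inr.injEq]
  ee := by
    rintro (i | j) (i' | j')
    · show polar (Q₁.prod Q₂) (e₁ i, 0) (e₁ i', 0) = _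
      rw [polar_prod]
      simp only [polar_zero_left, add_zero, h₁.ee]
    · show polar (Q₁.prod Q₂) (e₁ i, 0) (0, e₂ j') = _
      rw [polar_prod]
      simp only [polar_zero_left, polar_zero_right, add_zero]
    · show polar (Q₁.prod Q₂) (0, e₂ j) (e₁ i', 0) = _
      rw [polar_prod]
      simp only [polar_zero_left, polar_zero_right, add_zero]
    · show polar (Q₁.prod Q₂) (0, e₂ j) (0, e₂ j') = _
      rw [polar_prod]
      simp only [polar_zero_left, zero_add, h₂.ee]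
  ff := by
    rintro (i | j) (i' | j')
    · show polar (Q₁.prod Q₂) (f₁ i, 0) (f₁ i', 0) = _
      rw [polar_prod]
      simp only [polar_zero_left, add_zero, h₁.ff]
    · show polar (Q₁.prod Q₂) (f₁ i, 0) (0, f₂ j') = _
      rw [polar_prod]
      simp only [polar_zero_left, polar_zero_right, add_zero]
    · show polar (Q₁.prod Q₂) (0, f₂ j) (f₁ i', 0) = _
      rw [polar_prod]
      simp only [polar_zero_left, polar_zero_right, add_zero]
    · show polar (Q₁.prod Q₂) (0, f₂ j) (0, f₂ j') = _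
      rw [polar_prod]
      simp only [polar_zero_left, zero_add, h₂.ff]
  memW := by
    intro x
    rw [Submodule.mem_prod, h₁.memW, h₂.memW]
    constructor
    · rintro ⟨hx1, hx2⟩ (i | j)
      · simp only [Sum.elim_inl, polar_prod]
        rw [(hx1 i).1, (hx1 i).2]
        simp only [polar_zero_left, add_zero, and_self]
      · simp only [Sum.elim_inr, polar_prod]
        rw [(hx2 j).1, (hx2 j).2]
        simp only [polar_zero_left, add_zero, and_self]
    · intro hx
      constructor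
      · intro i
        have := hx (Sum.inl i)
        simp only [Sum.elim_inl, polar_prod] at this
        rw [polar_zero_left, add_zero, add_zero] at this
        exact this
      · intro j
        have := hx (Sum.inr j)
        simp only [Sum.elim_inr, polar_prod] at this
        rw [polar_zero_left, zero_add, zero_add] at this
        exact this
  aniso := by
    intro x hx hQx
    rw [Submodule.mem_prod] at hx
    have h2 : x.2 = 0 := (Submodule.mem_bot F).1 hx.2
    rw [prod_apply, h2, QuadraticMap.map_zero, add_zero] at hQx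
    apply Prod.ext
    · exact h₁.aniso x.1 hx.1 hQx
    · exact h2

theorem not_isPlus_prod [Finite F] [FiniteDimensional F V₁] [FiniteDimensional F V₂]
    (hQ₁ : (polarBilin Q₁).Nondegenerate) (hQ₂ : (polarBilin Q₂).Nondegenerate)
    (h₁ : ¬ IsPlus Q₁) (h₂ : IsPlus Q₂) : ¬ IsPlus (Q₁.prod Q₂) := by
  classical
  obtain ⟨k₁, e₁, f₁, W₁, hw₁, hd₁, -⟩ := exists_wdata Q₁ hQ₁
  obtain ⟨k₂, e₂, f₂, W₂, hw₂, hd₂, -⟩ := exists_wdata Q₂ hQ₂
  have hc₁ : Fintype.card (Fin k₁) = k₁ := Fintype.card_fin k₁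
  have hc₂ : Fintype.card (Fin k₂) = k₂ := Fintype.card_fin k₂
  have hW₂ : finrank F W₂ = 0 := (hw₂.isPlus_iff (by rw [hc₂]; exact hd₂)).1 h₂
  have hW₁ : finrank F W₁ ≠ 0 := fun h => h₁ ((hw₁.isPlus_iff (by rw [hc₁]; exact hd₁)).2 h)
  have hbot : W₂ = ⊥ := Submodule.finrank_eq_zero.1 hW₂
  rw [hbot] at hw₂
  have hw := hw₁.prod_bot hw₂
  rintro ⟨U, hU, hUd⟩
  have h3 := hw.finrank_le U hU
  rw [Fintype.card_sum, hc₁, hc₂] at h3
  rw [Module.finrank_prod] at hUd
  omega

theorem isPlus_prod_of_not [Finite F] [FiniteDimensional F V₁] [FiniteDimensional F V₂]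
    (hQ₁ : (polarBilin Q₁).Nondegenerate) (hQ₂ : (polarBilin Q₂).Nondegenerate)
    (hev₁ : Even (finrank F V₁)) (hev₂ : Even (finrank F V₂))
    (h₁ : ¬ IsPlus Q₁) (h₂ : ¬ IsPlus Q₂) : IsPlus (Q₁.prod Q₂) := by
  classical
  obtain ⟨k₁, e₁, f₁, W₁, hw₁, hd₁, hle₁⟩ := exists_wdata Q₁ hQ₁
  obtain ⟨k₂, e₂, f₂, W₂, hw₂, hd₂, hle₂⟩ := exists_wdata Q₂ hQ₂
  have hc₁ : Fintype.card (Fin k₁) = k₁ := Fintype.card_fin k₁
  have hc₂ : Fintype.card (Fin k₂) = k₂ := Fintype.card_fin k₂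
  have hW₁ : finrank F W₁ ≠ 0 := fun h => h₁ ((hw₁.isPlus_iff (by rw [hc₁]; exact hd₁)).2 h)
  have hW₂ : finrank F W₂ ≠ 0 := fun h => h₂ ((hw₂.isPlus_iff (by rw [hc₂]; exact hd₂)).2 h)
  have hW₁2 : finrank F W₁ = 2 := by
    obtain ⟨c, hc⟩ := hev₁
    omega
  have hW₂2 : finrank F W₂ = 2 := by
    obtain ⟨c, hc⟩ := hev₂
    omega
  -- the anti-isometry
  obtain ⟨θ, hθ⟩ := aniso_plane_isometric hW₁2 hW₂2 (-(Q₁.comp W₁.subtype)) (Q₂.comp W₂.subtype)
    (fun x hx => by
      have hx' : -(Q₁ (x : V₁)) = 0 := hx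
      rw [neg_eq_zero] at hx'
      exact Subtype.ext (hw₁.aniso x.1 x.2 hx'))
    (fun x hx => by
      rw [QuadraticMap.comp_apply] at hx
      exact Subtype.ext (hw₂.aniso x.1 x.2 hx))
    (fun x hx0 => by
      obtain ⟨y, hyW, hy⟩ := hw₁.nondegW hQ₁ x.1 x.2 (fun h => hx0 (Subtype.ext h))
      refine ⟨⟨y, hyW⟩, ?_⟩
      have e : polar (⇑(-(Q₁.comp W₁.subtype))) x ⟨y, hyW⟩ = - polar Q₁ (x : V₁) y := by
        show -(Q₁ ((x : V₁) + y)) - -(Q₁ (x : V₁)) - -(Q₁ y) =
          -(Q₁ ((x : V₁) + y) - Q₁ (x : V₁) - Q₁ y)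
        ring
      rw [e, neg_ne_zero]
      exact hy)
    (fun x hx0 => by
      obtain ⟨y, hyW, hy⟩ := hw₂.nondegW hQ₂ x.1 x.2 (fun h => hx0 (Subtype.ext h))
      refine ⟨⟨y, hyW⟩, ?_⟩
      rw [polar_comp_subtype]
      exact hy)
  have hθ' : ∀ w : W₁, Q₂ ((θ w : W₂) : V₂) = - Q₁ (w : V₁) := fun w => hθ w
  set L₁ : (Fin k₁ → F) →ₗ[F] V₁ := Fintype.linearCombination F e₁ with hL₁
  set L₂ : (Fin k₂ → F) →ₗ[F] V₂ := Fintype.linearCombination F e₂ with hL₂
  have hL₁a : ∀ c, L₁ c = ∑ i, c i • e₁ i := fun c => Fintype.linearCombination_apply F e₁ c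
  have hL₂a : ∀ c, L₂ c = ∑ i, c i • e₂ i := fun c => Fintype.linearCombination_apply F e₂ c
  set Ψ : ((Fin k₁ → F) × (Fin k₂ → F) × W₁) →ₗ[F] V₁ × V₂ :=
    LinearMap.prod
      (L₁ ∘ₗ LinearMap.fst F _ _ + W₁.subtype ∘ₗ LinearMap.snd F _ _ ∘ₗ LinearMap.snd F _ _)
      (L₂ ∘ₗ LinearMap.fst F _ _ ∘ₗ LinearMap.snd F _ _ +
        W₂.subtype ∘ₗ θ.toLinearMap ∘ₗ LinearMap.snd F _ _ ∘ₗ LinearMap.snd F _ _) with hΨ
  have hΨa : ∀ x, Ψ x = (L₁ x.1 + (x.2.2 : V₁), L₂ x.2.1 + ((θ x.2.2 : W₂) : V₂)) := fun x => rfl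
  have hQ1 : ∀ (c : Fin k₁ → F) (w : W₁), Q₁ (L₁ c + (w : V₁)) = Q₁ (w : V₁) := by
    intro c w
    have h3 : Q₁ (L₁ c + (w : V₁)) = Q₁ (L₁ c) + Q₁ (w : V₁) + polar Q₁ (L₁ c) (w : V₁) := by
      rw [polar]; ring
    rw [h3, hL₁a, Q_sum_e hw₁, polar_sum_e hw₁, zero_add]
    rw [Finset.sum_eq_zero, add_zero]
    intro i _
    rw [((hw₁.memW _).1 w.2 i).1, mul_zero]
  have hQ2 : ∀ (c : Fin k₂ → F) (w : W₂), Q₂ (L₂ c + (w : V₂)) = Q₂ (w : V₂) := by
    intro c w
    have h3 : Q₂ (L₂ c + (w : V₂)) = Q₂ (L₂ c) + Q₂ (w : V₂) + polar Q₂ (L₂ c) (w : V₂) := by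
      rw [polar]; ring
    rw [h3, hL₂a, Q_sum_e hw₂, polar_sum_e hw₂, zero_add]
    rw [Finset.sum_eq_zero, add_zero]
    intro i _
    rw [((hw₂.memW _).1 w.2 i).1, mul_zero]
  have hinj : Function.Injective Ψ := by
    rw [← LinearMap.ker_eq_bot, LinearMap.ker_eq_bot']
    intro x hx
    rw [hΨa] at hx
    have hx1 := congrArg Prod.fst hx
    have hx2 := congrArg Prod.snd hx
    simp only [Prod.fst_zero, Prod.snd_zero] at hx1 hx2
    have hw0 : x.2.2 = 0 := by
      apply Subtype.ext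
      apply hw₁.aniso _ x.2.2.2
      rw [← hQ1 x.1, hx1, QuadraticMap.map_zero]
    rw [hw0, map_zero, Submodule.coe_zero, add_zero] at hx2
    rw [hw0, Submodule.coe_zero, add_zero] at hx1
    rw [hL₁a] at hx1
    rw [hL₂a] at hx2
    have hc := Fintype.linearIndependent_iff.1 hw₁.linearIndependent_e x.1 hx1
    have hd := Fintype.linearIndependent_iff.1 hw₂.linearIndependent_e x.2.1 hx2
    apply Prod.ext
    · funext i; exact hc i
    · apply Prod.ext
      · funext i; exact hd i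
      · exact hw0
  refine ⟨LinearMap.range Ψ, ?_, ?_⟩
  · rintro _ ⟨x, rfl⟩
    rw [hΨa, prod_apply]
    simp only
    rw [hQ1, hQ2, hθ', add_neg_cancel]
  · rw [LinearMap.finrank_range_of_inj hinj, Module.finrank_prod, Module.finrank_prod,
      Module.finrank_prod, Module.finrank_fintype_fun_eq_card, Module.finrank_fintype_fun_eq_card,
      hc₁, hc₂]
    omega

theorem isPlus_prod_iff [Finite F] [FiniteDimensional F V₁] [FiniteDimensional F V₂]
    (hQ₁ : (polarBilin Q₁).Nondegenerate) (hQ₂ : (polarBilin Q₂).Nondegenerate)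
    (hev₁ : Even (finrank F V₁)) (hev₂ : Even (finrank F V₂)) :
    IsPlus (Q₁.prod Q₂) ↔ (IsPlus Q₁ ↔ IsPlus Q₂) := by
  by_cases h₁ : IsPlus Q₁
  · by_cases h₂ : IsPlus Q₂
    · exact iff_of_true (isPlus_prod Q₁ Q₂ h₁ h₂) (iff_of_true h₁ h₂)
    · refine iff_of_false ?_ (fun h => h₂ (h.1 h₁))
      intro h
      have h3 : IsPlus (Q₂.prod Q₁) :=
        isPlus_of_isometry (LinearEquiv.prodComm F V₁ V₂) (fun v => by
          rw [prod_apply, prod_apply]
          simp only [LinearEquiv.prodComm_apply, Prod.fst_swap, Prod.snd_swap]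
          ring) h
      exact not_isPlus_prod hQ₂ hQ₁ h₂ h₁ h3
  · by_cases h₂ : IsPlus Q₂
    · exact iff_of_false (not_isPlus_prod hQ₁ hQ₂ h₁ h₂) (fun h => h₁ (h.2 h₂))
    · exact iff_of_true (isPlus_prod_of_not hQ₁ hQ₂ hev₁ hev₂ h₁ h₂) (iff_of_false h₁ h₂)

end prod

end Cfsg.Agent.Lib.Helper5.OrthCls
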