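import Mathlib
import Cfsg.Prelude.Def_Classical

/-!
Totally singular subspaces of the standard plus- and minus-type quadratic forms
(`Cfsg.quadFormPlus`, `Cfsg.quadFormMinus`): existence of big ones and the upper bound on
their dimension (Witt index), by an elementary dot-product orthogonality count.
-/

set_option autoImplicit false

namespace Cfsg.Agent.Lib.Helper5

open Module

variable {F : Type*} [Field F]

/-- Two subspaces of `F^k` orthogonal for the dot product have dimensions adding up to at most `k`. -/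
theorem finrank_add_le_of_dot_orthogonal {k : ℕ} (A B : Submodule F (Fin k → F))
    (h : ∀ a ∈ A, ∀ b ∈ B, a ⬝ᵥ b = 0) : finrank F A + finrank F B ≤ k := by
  let Bil : LinearMap.BilinForm F (Fin k → F) := Matrix.toBilin' 1
  have hnd : Bil.Nondegenerate := LinearMap.BilinForm.nondegenerate_toBilin'_of_det_ne_zero' 1 (by simp)
  have hle : B ≤ Bil.orthogonal A := by
    intro b hb
    rw [LinearMap.BilinForm.mem_orthogonal_iff]
    intro a ha
    show Bil a b = 0
    simp [Bil, Matrix.toBilin'_apply', h a ha b hb]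
  have h1 := Submodule.finrank_mono hle
  rw [LinearMap.BilinForm.finrank_orthogonal hnd, finrank_fin_fun] at h1
  have h2 : finrank F A ≤ k := by simpa using Submodule.finrank_le A
  omega

/-- Abstract Witt-index bound: `U` a subspace of `V`, `px py : V → F^k` linear such that `px` is injective on
`U ∩ ker py` and `px u' ⬝ py u = 0` for `u, u' ∈ U` with `py u' = 0`. Then `dim U ≤ k`. -/
theorem finrank_le_of_isotropic_projections {V : Type*} [AddCommGroup V] [Module F V]
    [FiniteDimensional F V] {k : ℕ}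
    (px py : V →ₗ[F] (Fin k → F)) (U : Submodule F V)
    (hinj : ∀ u ∈ U, py u = 0 → px u = 0 → u = 0)
    (horth : ∀ u ∈ U, ∀ u' ∈ U, py u' = 0 → px u' ⬝ᵥ py u = 0) :
    finrank F U ≤ k := by
  set g : U →ₗ[F] (Fin k → F) := py.domRestrict U with hg
  set h : LinearMap.ker g →ₗ[F] (Fin k → F) := (px.domRestrict U).domRestrict (LinearMap.ker g) with hh
  have hhinj : Function.Injective h := by
    rw [← LinearMap.ker_eq_bot, LinearMap.ker_eq_bot']
    intro u hu
    have h1 : py (u : U) = 0 := u.2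
    have h2 : px (u : U) = 0 := hu
    have h3 := hinj _ (u : U).2 h1 h2
    apply Subtype.ext; apply Subtype.ext; exact h3
  have hA : finrank F (LinearMap.range h) = finrank F (LinearMap.ker g) :=
    LinearMap.finrank_range_of_inj hhinj
  have hB := LinearMap.finrank_range_add_finrank_ker g
  have hAB := finrank_add_le_of_dot_orthogonal (LinearMap.range h) (LinearMap.range g) (by
    rintro a ⟨u', rfl⟩ b ⟨u, rfl⟩
    exact horth _ u.2 _ (u' : U).2 u'.2)
  omega

section plus

/-- The projection to the `x`-coordinates of `F^m ⊕ F^m`. -/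
def plusX (m : ℕ) (F : Type*) [Field F] : (Fin m ⊕ Fin m → F) →ₗ[F] (Fin m → F) :=
  LinearMap.funLeft F F Sum.inl

/-- The projection to the `y`-coordinates of `F^m ⊕ F^m`. -/
def plusY (m : ℕ) (F : Type*) [Field F] : (Fin m ⊕ Fin m → F) →ₗ[F] (Fin m → F) :=
  LinearMap.funLeft F F Sum.inr

@[simp] theorem plusX_apply {m : ℕ} (v : Fin m ⊕ Fin m → F) (i : Fin m) :
    plusX m F v i = v (Sum.inl i) := rfl

@[simp] theorem plusY_apply {m : ℕ} (v : Fin m ⊕ Fin m → F) (i : Fin m) :
    plusY m F v i = v (Sum.inr i) := rfl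

theorem quadFormPlus_add {m : ℕ} (u v : Fin m ⊕ Fin m → F) :
    Cfsg.quadFormPlus m F (u + v) = Cfsg.quadFormPlus m F u + Cfsg.quadFormPlus m F v
      + (plusX m F u ⬝ᵥ plusY m F v + plusX m F v ⬝ᵥ plusY m F u) := by
  simp only [Cfsg.quadFormPlus, dotProduct, plusX_apply, plusY_apply, Pi.add_apply,
    ← Finset.sum_add_distrib]
  apply Finset.sum_congr rfl
  intro i _
  ring

/-- A totally singular subspace for the plus-type form in dimension `2m` has dimension at most `m`. -/
theorem finrank_le_of_totallySingular_plus {m : ℕ} (U : Submodule F (Fin m ⊕ Fin m → F))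
    (hU : ∀ u ∈ U, Cfsg.quadFormPlus m F u = 0) : finrank F U ≤ m := by
  apply finrank_le_of_isotropic_projections (plusX m F) (plusY m F) U
  · intro u _ hy hx
    funext i
    rcases i with i | i
    · exact congrFun hx i
    · exact congrFun hy i
  · intro u hu u' hu' hy'
    have h1 := quadFormPlus_add u u'
    rw [hU _ (U.add_mem hu hu'), hU _ hu, hU _ hu', hy'] at h1
    simpa using h1.symm

/-- The subspace `y = 0` of `F^m ⊕ F^m`. -/
theorem exists_totallySingular_plus (m : ℕ) (F : Type*) [Field F] :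
    ∃ U : Submodule F (Fin m ⊕ Fin m → F),
      (∀ u ∈ U, Cfsg.quadFormPlus m F u = 0) ∧ finrank F U = m := by
  let ι : (Fin m → F) →ₗ[F] (Fin m ⊕ Fin m → F) :=
    LinearMap.funLeft F F (Sum.elim (fun i => some i) (fun _ => none)) ∘ₗ
      (LinearMap.pi (fun o : Option (Fin m) => match o with
        | some i => LinearMap.proj i
        | none => 0))
  have hι_inl : ∀ x i, ι x (Sum.inl i) = x i := fun x i => rfl
  have hι_inr : ∀ x i, ι x (Sum.inr i) = 0 := fun x i => rfl
  refine ⟨LinearMap.range ι, ?_, ?_⟩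
  · rintro u ⟨x, rfl⟩
    simp [Cfsg.quadFormPlus, hι_inr]
  · have hinj : Function.Injective ι := by
      intro x y hxy
      funext i
      have := congrFun hxy (Sum.inl i)
      simpa [hι_inl] using this
    rw [LinearMap.finrank_range_of_inj hinj, finrank_fin_fun]

end plus

section minus

/-- The projection to the `x`-coordinates of `(F^k ⊕ F^k) ⊕ F^2`. -/
def minusX (k : ℕ) (F : Type*) [Field F] :
    ((Fin k ⊕ Fin k) ⊕ Fin 2 → F) →ₗ[F] (Fin k → F) :=
  LinearMap.funLeft F F (fun i => Sum.inl (Sum.inl i))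

/-- The projection to the `y`-coordinates of `(F^k ⊕ F^k) ⊕ F^2`. -/
def minusY (k : ℕ) (F : Type*) [Field F] :
    ((Fin k ⊕ Fin k) ⊕ Fin 2 → F) →ₗ[F] (Fin k → F) :=
  LinearMap.funLeft F F (fun i => Sum.inl (Sum.inr i))

@[simp] theorem minusX_apply {k : ℕ} (v : (Fin k ⊕ Fin k) ⊕ Fin 2 → F) (i : Fin k) :
    minusX k F v i = v (Sum.inl (Sum.inl i)) := rfl

@[simp] theorem minusY_apply {k : ℕ} (v : (Fin k ⊕ Fin k) ⊕ Fin 2 → F) (i : Fin k) :
    minusY k F v i = v (Sum.inl (Sum.inr i)) := rfl

/-- Anisotropy of the binary form `z₁² + z₁ z₂ + ζ z₂²` when `t² + t + ζ` has no root. -/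
theorem binary_anisotropic (ζ : F) (hζ : ∀ t : F, t ^ 2 + t + ζ ≠ 0) (z1 z2 : F)
    (h : z1 ^ 2 + 1 * z1 * z2 + ζ * z2 ^ 2 = 0) : z1 = 0 ∧ z2 = 0 := by
  by_cases h2 : z2 = 0
  · subst h2
    refine ⟨?_, rfl⟩
    have : z1 ^ 2 = 0 := by simpa using h
    exact pow_eq_zero_iff (two_ne_zero) |>.1 this
  · exfalso
    apply hζ (z1 / z2)
    have : (z1 / z2) ^ 2 + z1 / z2 + ζ = (z1 ^ 2 + 1 * z1 * z2 + ζ * z2 ^ 2) / z2 ^ 2 := by
      field_simp
    rw [this, h, zero_div]

/-- A totally singular subspace for the minus-type form `Σ xᵢ yᵢ + z₁² + z₁ z₂ + ζ z₂²` in dimension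
`2k+2` has dimension at most `k`. -/
theorem finrank_le_of_totallySingular_minus {k : ℕ} (ζ : F) (hζ : ∀ t : F, t ^ 2 + t + ζ ≠ 0)
    (U : Submodule F ((Fin k ⊕ Fin k) ⊕ Fin 2 → F))
    (hU : ∀ u ∈ U, Cfsg.quadFormMinus k F 1 ζ u = 0) : finrank F U ≤ k := by
  -- an element of `U` with zero `y`-part has zero `z`-part
  have hz : ∀ u ∈ U, minusY k F u = 0 → u (Sum.inr 0) = 0 ∧ u (Sum.inr 1) = 0 := by
    intro u hu hy
    have h1 := hU u hu
    have h2 : ∑ i : Fin k, u (Sum.inl (Sum.inl i)) * u (Sum.inl (Sum.inr i)) = 0 := by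
      apply Finset.sum_eq_zero
      intro i _
      have := congrFun hy i
      rw [minusY_apply] at this
      rw [this]; simp
    rw [Cfsg.quadFormMinus, h2, zero_add] at h1
    exact binary_anisotropic ζ hζ _ _ h1
  apply finrank_le_of_isotropic_projections (minusX k F) (minusY k F) U
  · intro u hu hy hx
    obtain ⟨h0, h1⟩ := hz u hu hy
    funext i
    rcases i with (i | i) | i
    · exact congrFun hx i
    · exact congrFun hy i
    · fin_cases i
      · exact h0
      · exact h1
  · intro u hu u' hu' hy'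
    obtain ⟨h0, h1⟩ := hz u' hu' hy'
    have e1 := hU _ (U.add_mem hu hu')
    have e2 := hU _ hu
    have e3 : ∀ i, u' (Sum.inl (Sum.inr i)) = 0 := fun i => congrFun hy' i
    simp only [Cfsg.quadFormMinus, Pi.add_apply, h0, h1, e3, add_zero] at e1 e2
    have e4 : ∑ i : Fin k, (u (Sum.inl (Sum.inl i)) + u' (Sum.inl (Sum.inl i))) * u (Sum.inl (Sum.inr i))
        = ∑ i : Fin k, u (Sum.inl (Sum.inl i)) * u (Sum.inl (Sum.inr i))
          + minusX k F u' ⬝ᵥ minusY k F u := by
      simp only [dotProduct, minusX_apply, minusY_apply, ← Finset.sum_add_distrib]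
      apply Finset.sum_congr rfl
      intro i _
      ring
    rw [e4] at e1
    have : minusX k F u' ⬝ᵥ minusY k F u = 0 := by
      have := e1
      rw [add_right_comm, e2, zero_add] at this
      exact this
    exact this

/-- The subspace `y = 0, z = 0` of `(F^k ⊕ F^k) ⊕ F^2` is totally singular of dimension `k`. -/
theorem exists_totallySingular_minus (k : ℕ) (F : Type*) [Field F] (a b : F) :
    ∃ U : Submodule F ((Fin k ⊕ Fin k) ⊕ Fin 2 → F),
      (∀ u ∈ U, Cfsg.quadFormMinus k F a b u = 0) ∧ finrank F U = k := by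
  let ι : (Fin k → F) →ₗ[F] ((Fin k ⊕ Fin k) ⊕ Fin 2 → F) :=
    LinearMap.funLeft F F (Sum.elim (Sum.elim (fun i => some i) (fun _ => none)) (fun _ => none)) ∘ₗ
      (LinearMap.pi (fun o : Option (Fin k) => match o with
        | some i => LinearMap.proj i
        | none => 0))
  have hι_x : ∀ x i, ι x (Sum.inl (Sum.inl i)) = x i := fun x i => rfl
  have hι_y : ∀ x i, ι x (Sum.inl (Sum.inr i)) = 0 := fun x i => rfl
  have hι_z : ∀ x i, ι x (Sum.inr i) = 0 := fun x i => rfl
  refine ⟨LinearMap.range ι, ?_, ?_⟩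
  · rintro u ⟨x, rfl⟩
    simp [Cfsg.quadFormMinus, hι_y, hι_z]
  · have hinj : Function.Injective ι := by
      intro x y hxy
      funext i
      have := congrFun hxy (Sum.inl (Sum.inl i))
      simpa [hι_x] using this
    rw [LinearMap.finrank_range_of_inj hinj, finrank_fin_fun]

end minus

end Cfsg.Agent.Lib.Helper5
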