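import Mathlib
import Cfsg.Agent.Lib.Helper5.OrthCls4
import Cfsg.Agent.Lib.Helper5.WittIndex
import Cfsg.Agent.Lib.Helper2.OrthCard1

set_option autoImplicit false

namespace Cfsg.Agent.Lib.Helper5.OrthCls

open QuadraticMap Module

universe u v w

variable {F : Type u} [Field F]

section coord

variable {V : Type v} [AddCommGroup V] [Module F V]
variable {Q : QuadraticForm F V} {ι : Type w} [Fintype ι] [DecidableEq ι] {e f : ι → V}
  {W : Submodule F V}

/-- the coordinate map of Witt data -/
noncomputable def WData.coord (_h : WData Q e f W) : ((ι → F) × (ι → F) × W) →ₗ[F] V :=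
  Fintype.linearCombination F e ∘ₗ LinearMap.fst F _ _ +
    Fintype.linearCombination F f ∘ₗ LinearMap.fst F _ _ ∘ₗ LinearMap.snd F _ _ +
    W.subtype ∘ₗ LinearMap.snd F _ _ ∘ₗ LinearMap.snd F _ _

theorem WData.coord_apply (h : WData Q e f W) (x : (ι → F) × (ι → F) × W) :
    h.coord x = ∑ i, x.1 i • e i + ∑ i, x.2.1 i • f i + (x.2.2 : V) := by
  simp only [WData.coord, LinearMap.add_apply, LinearMap.comp_apply, LinearMap.fst_apply,
    LinearMap.snd_apply, Fintype.linearCombination_apply, Submodule.subtype_apply]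

theorem WData.Q_coord (h : WData Q e f W) (x : (ι → F) × (ι → F) × W) :
    Q (h.coord x) = x.1 ⬝ᵥ x.2.1 + Q (x.2.2 : V) := by
  rw [h.coord_apply]
  set a : V := ∑ i, x.1 i • e i with ha
  set b : V := ∑ i, x.2.1 i • f i with hb
  have h1 : Q (a + b + (x.2.2 : V)) = Q a + Q b + Q (x.2.2 : V) + polar Q a b +
      polar Q a (x.2.2 : V) + polar Q b (x.2.2 : V) := by
    have e1 : polar Q (a + b) (x.2.2 : V) = polar Q a (x.2.2 : V) + polar Q b (x.2.2 : V) := by
      rw [polar_add_left]
    have e2 : Q (a + b + (x.2.2 : V)) = Q (a + b) + Q (x.2.2 : V) + polar Q (a + b) (x.2.2 : V) := by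
      rw [polar]; ring
    have e3 : Q (a + b) = Q a + Q b + polar Q a b := by
      rw [polar]; ring
    rw [e2, e3, e1]; ring
  have hW := (h.memW _).1 x.2.2.2
  have h2 : polar Q a (x.2.2 : V) = 0 := by
    rw [ha, polar_sum_e h]
    apply Finset.sum_eq_zero
    intro i _
    rw [(hW i).1, mul_zero]
  have h3 : polar Q b (x.2.2 : V) = 0 := by
    rw [hb, polar_sum_e h.swap]
    apply Finset.sum_eq_zero
    intro i _
    rw [(hW i).2, mul_zero]
  have h4 : polar Q a b = x.1 ⬝ᵥ x.2.1 := by
    rw [ha, polar_sum_e h, dotProduct]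
    apply Finset.sum_congr rfl
    intro i _
    congr 1
    rw [polar_comm, hb, polar_sum_e h.swap, Finset.sum_eq_single i]
    · rw [polar_comm Q (f i), h.ef, if_pos rfl, mul_one]
    · intro j _ hji
      rw [polar_comm Q (f j), h.ef, if_neg (Ne.symm hji), mul_zero]
    · intro hi
      exact absurd (Finset.mem_univ i) hi
  rw [h1, ha, Q_sum_e h, ← ha, hb, Q_sum_e h.swap, ← hb, h2, h3, h4]
  ring

theorem WData.coord_injective (h : WData Q e f W) : Function.Injective h.coord := by
  rw [← LinearMap.ker_eq_bot, LinearMap.ker_eq_bot']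
  intro x hx
  rw [h.coord_apply] at hx
  have hW := (h.memW _).1 x.2.2.2
  have hc : ∀ j, x.1 j = 0 := by
    intro j
    have h1 : polar Q (∑ i, x.1 i • e i + ∑ i, x.2.1 i • f i + (x.2.2 : V)) (f j) = 0 := by
      rw [hx, polar_zero_left]
    rw [polar_add_left, polar_add_left, polar_sum_e h, polar_sum_e h.swap,
      polar_comm Q (x.2.2 : V), (hW j).2, add_zero] at h1
    rw [Finset.sum_eq_single j, h.ef, if_pos rfl, mul_one, Finset.sum_eq_zero, add_zero] at h1
    · exact h1
    · intro i _
      rw [h.ff, mul_zero]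
    · intro i _ hij
      rw [h.ef, if_neg hij, mul_zero]
    · intro hj
      exact absurd (Finset.mem_univ j) hj
  have hd : ∀ j, x.2.1 j = 0 := by
    intro j
    have h1 : polar Q (∑ i, x.1 i • e i + ∑ i, x.2.1 i • f i + (x.2.2 : V)) (e j) = 0 := by
      rw [hx, polar_zero_left]
    rw [polar_add_left, polar_add_left, polar_sum_e h, polar_sum_e h.swap,
      polar_comm Q (x.2.2 : V), (hW j).1, add_zero] at h1
    rw [Finset.sum_eq_zero, zero_add, Finset.sum_eq_single j, polar_comm, h.ef, if_pos rfl,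
      mul_one] at h1
    · exact h1
    · intro i _ hij
      rw [polar_comm, h.ef, if_neg (Ne.symm hij), mul_zero]
    · intro hj
      exact absurd (Finset.mem_univ j) hj
    · intro i _
      rw [h.ee, mul_zero]
  have hw : (x.2.2 : V) = 0 := by
    rw [Finset.sum_eq_zero (fun i _ => by rw [hc i, zero_smul]),
      Finset.sum_eq_zero (fun i _ => by rw [hd i, zero_smul]), zero_add, zero_add] at hx
    exact hx
  apply Prod.ext
  · funext j; exact hc j
  · apply Prod.ext
    · funext j; exact hd j
    · exact Subtype.ext hw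

/-- the coordinate equivalence of Witt data -/
noncomputable def WData.coordEquiv [FiniteDimensional F V] (h : WData Q e f W)
    (hdim : finrank F W + 2 * Fintype.card ι = finrank F V) :
    ((ι → F) × (ι → F) × W) ≃ₗ[F] V :=
  LinearMap.linearEquivOfInjective h.coord h.coord_injective (by
    rw [Module.finrank_prod, Module.finrank_prod, Module.finrank_fintype_fun_eq_card]
    omega)

theorem WData.coordEquiv_apply [FiniteDimensional F V] (h : WData Q e f W)
    (hdim : finrank F W + 2 * Fintype.card ι = finrank F V) (x : (ι → F) × (ι → F) × W) :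
    h.coordEquiv hdim x = h.coord x := rfl

end coord

theorem iso_of_type [Finite F] {V : Type v} {V' : Type w} [AddCommGroup V] [Module F V]
    [FiniteDimensional F V] [AddCommGroup V'] [Module F V'] [FiniteDimensional F V']
    (Q : QuadraticForm F V) (Q' : QuadraticForm F V')
    (hQ : (polarBilin Q).Nondegenerate) (hQ' : (polarBilin Q').Nondegenerate)
    (hdim : finrank F V = finrank F V') (hev : Even (finrank F V))
    (htype : IsPlus Q ↔ IsPlus Q') : ∃ g : V ≃ₗ[F] V', ∀ v, Q' (g v) = Q v := by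
  classical
  obtain ⟨k, e, f, W, hw, hd, hle⟩ := exists_wdata Q hQ
  obtain ⟨k', e', f', W', hw', hd', hle'⟩ := exists_wdata Q' hQ'
  have hc : Fintype.card (Fin k) = k := Fintype.card_fin k
  have hc' : Fintype.card (Fin k') = k' := Fintype.card_fin k'
  have hp := hw.isPlus_iff (by rw [hc]; exact hd)
  have hp' := hw'.isPlus_iff (by rw [hc']; exact hd')
  have hWW : finrank F W = finrank F W' := by
    obtain ⟨c, hc2⟩ := hev
    by_cases h0 : finrank F W = 0
    · have := hp'.1 (htype.1 (hp.2 h0))
      rw [h0, this]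
    · have h0' : finrank F W' ≠ 0 := fun h => h0 (hp.1 (htype.2 (hp'.2 h)))
      omega
  have hkk : k = k' := by omega
  subst hkk
  have hθ : ∃ θ : W ≃ₗ[F] W', ∀ w : W, Q' ((θ w : W') : V') = Q (w : V) := by
    by_cases h0 : finrank F W = 0
    · refine ⟨LinearEquiv.ofFinrankEq W W' hWW, ?_⟩
      intro w
      haveI : Subsingleton W := Module.finrank_zero_iff.1 h0
      have hw0 : w = 0 := Subsingleton.elim _ _
      rw [hw0, map_zero, Submodule.coe_zero, Submodule.coe_zero, QuadraticMap.map_zero,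
        QuadraticMap.map_zero]
    · have h2 : finrank F W = 2 := by
        obtain ⟨c, hc2⟩ := hev
        omega
      have h2' : finrank F W' = 2 := by rw [← hWW]; exact h2
      obtain ⟨θ, hθ⟩ := aniso_plane_isometric h2 h2' (Q.comp W.subtype) (Q'.comp W'.subtype)
        (fun x hx => by
          rw [QuadraticMap.comp_apply] at hx
          exact Subtype.ext (hw.aniso x.1 x.2 hx))
        (fun x hx => by
          rw [QuadraticMap.comp_apply] at hx
          exact Subtype.ext (hw'.aniso x.1 x.2 hx))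
        (fun x hx0 => by
          obtain ⟨y, hyW, hy⟩ := hw.nondegW hQ x.1 x.2 (fun h => hx0 (Subtype.ext h))
          refine ⟨⟨y, hyW⟩, ?_⟩
          rw [polar_comp_subtype]
          exact hy)
        (fun x hx0 => by
          obtain ⟨y, hyW, hy⟩ := hw'.nondegW hQ' x.1 x.2 (fun h => hx0 (Subtype.ext h))
          refine ⟨⟨y, hyW⟩, ?_⟩
          rw [polar_comp_subtype]
          exact hy)
      exact ⟨θ, fun w => hθ w⟩
  obtain ⟨θ, hθ⟩ := hθ
  set E := hw.coordEquiv (by rw [hc]; exact hd) with hE
  set E' := hw'.coordEquiv (by rw [hc']; exact hd') with hE'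
  refine ⟨E.symm.trans ((LinearEquiv.prodCongr (LinearEquiv.refl F _)
    (LinearEquiv.prodCongr (LinearEquiv.refl F _) θ)).trans E'), ?_⟩
  intro v
  obtain ⟨x, rfl⟩ := E.surjective v
  rw [LinearEquiv.trans_apply, LinearEquiv.symm_apply_apply, LinearEquiv.trans_apply]
  rw [hE', hw'.coordEquiv_apply, hw'.Q_coord, hE, hw.coordEquiv_apply, hw.Q_coord]
  simp only [LinearEquiv.prodCongr_apply, LinearEquiv.refl_apply]
  rw [hθ]

section std

open Cfsg.Agent.Lib.Helper5.QuadGlue Cfsg.Agent.Lib.Helper2 Cfsg.Agent.Lib.Helper2.OrthCard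

theorem isPlus_QP (m : ℕ) : IsPlus (QP m F) := by
  obtain ⟨U, hU, hd⟩ := exists_totallySingular_plus m F
  refine ⟨U, fun u hu => ?_, ?_⟩
  · rw [QP_apply]
    exact hU u hu
  · rw [hd, Module.finrank_fintype_fun_eq_card, Fintype.card_sum, Fintype.card_fin]
    ring

/-- A totally singular subspace for the minus-type form in dimension `2k+2` has dimension at most
`k`. -/
theorem finrank_le_of_totallySingular_minus' {k : ℕ} (a c : F)
    (hac : ∀ z₁ z₂ : F, z₁ ^ 2 + a * z₁ * z₂ + c * z₂ ^ 2 = 0 → z₁ = 0 ∧ z₂ = 0)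
    (U : Submodule F ((Fin k ⊕ Fin k) ⊕ Fin 2 → F))
    (hU : ∀ u ∈ U, Cfsg.quadFormMinus k F a c u = 0) : finrank F U ≤ k := by
  have hz : ∀ u ∈ U, minusY k F u = 0 → u (Sum.inr 0) = 0 ∧ u (Sum.inr 1) = 0 := by
    intro u hu hy
    have h1 := hU u hu
    have h2 : ∑ i : Fin k, u (Sum.inl (Sum.inl i)) * u (Sum.inl (Sum.inr i)) = 0 := by
      apply Finset.sum_eq_zero
      intro i _
      have := congrFun hy i
      rw [minusY_apply] at this
      rw [this]; simp
    rw [Cfsg.quadFormMinus, h2, zero_add] at h1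
    exact hac _ _ h1
  apply finrank_le_of_isotropic_projections (minusX k F) (minusY k F) U
  · intro u hu hy hx
    obtain ⟨h0, h1⟩ := hz u hu hy
    funext i
    rcases i with (i | i) | i
    · exact congrFun hx i
    · exact congrFun hy i
    · fin_cases i
      · exact h0
      · exact h1
  · intro u hu u' hu' hy'
    obtain ⟨h0, h1⟩ := hz u' hu' hy'
    have e1 := hU _ (U.add_mem hu hu')
    have e2 := hU _ hu
    have e3 : ∀ i, u' (Sum.inl (Sum.inr i)) = 0 := fun i => congrFun hy' i
    simp only [Cfsg.quadFormMinus, Pi.add_apply, h0, h1, e3, add_zero] at e1 e2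
    have e4 : ∑ i : Fin k, (u (Sum.inl (Sum.inl i)) + u' (Sum.inl (Sum.inl i))) * u (Sum.inl (Sum.inr i))
        = ∑ i : Fin k, u (Sum.inl (Sum.inl i)) * u (Sum.inl (Sum.inr i))
          + minusX k F u' ⬝ᵥ minusY k F u := by
      simp only [dotProduct, minusX_apply, minusY_apply, ← Finset.sum_add_distrib]
      apply Finset.sum_congr rfl
      intro i _
      ring
    rw [e4] at e1
    have : minusX k F u' ⬝ᵥ minusY k F u = 0 := by
      have := e1
      rw [add_right_comm, e2, zero_add] at this
      exact this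
    exact this

theorem not_isPlus_QMn (k : ℕ) (a c : F)
    (hac : ∀ z₁ z₂ : F, z₁ ^ 2 + a * z₁ * z₂ + c * z₂ ^ 2 = 0 → z₁ = 0 ∧ z₂ = 0) :
    ¬ IsPlus (QMn k a c) := by
  rintro ⟨U, hU, hd⟩
  have h1 := finrank_le_of_totallySingular_minus' a c hac U (fun u hu => by
    rw [← QMn_coe]
    exact hU u hu)
  rw [Module.finrank_fintype_fun_eq_card, Fintype.card_sum, Fintype.card_sum, Fintype.card_fin,
    Fintype.card_fin] at hd
  omega

end std

end Cfsg.Agent.Lib.Helper5.OrthCls
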