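import Mathlib

set_option autoImplicit false

/-!
Self-reciprocal ("palindromic") polynomials over a field.
-/

namespace Cfsg.Agent.Lib.Helper5.Pal

open Polynomial

variable {F : Type*} [Field F]

/-- the normalised reciprocal polynomial -/
noncomputable def rc (h : F[X]) : F[X] := C (h.coeff 0)⁻¹ * h.reverse

theorem isUnit_C_inv {a : F} (ha : a ≠ 0) : IsUnit (C a⁻¹ : F[X]) :=
  Polynomial.isUnit_C.2 (IsUnit.mk0 _ (inv_ne_zero ha))

theorem rc_dvd_of_dvd {φ f : F[X]} (hφ0 : φ.coeff 0 ≠ 0) (hf : f.reverse = f) (h : φ ∣ f) :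
    rc φ ∣ f := by
  obtain ⟨g, rfl⟩ := h
  rw [reverse_mul_of_domain] at hf
  rw [rc, ← hf]
  exact ((isUnit_C_inv hφ0).mul_left_dvd).2 (dvd_mul_right _ _)

theorem rc_monic {φ : F[X]} (hφ0 : φ.coeff 0 ≠ 0) : (rc φ).Monic := by
  rw [Monic, rc, leadingCoeff_mul, leadingCoeff_C, reverse_leadingCoeff, trailingCoeff,
    natTrailingDegree_eq_zero.2 (Or.inr hφ0), inv_mul_cancel₀ hφ0]

theorem rc_natDegree_le (φ : F[X]) : (rc φ).natDegree ≤ φ.natDegree :=
  (natDegree_C_mul_le _ _).trans (reverse_natDegree_le φ)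

theorem isCoprime_rc {φ : F[X]} (hirr : Irreducible φ) (hm : φ.Monic) (hφ0 : φ.coeff 0 ≠ 0)
    (hne : rc φ ≠ φ) : IsCoprime φ (rc φ) := by
  rw [hirr.coprime_iff_not_dvd]
  intro hd
  exact hne (eq_of_monic_of_dvd_of_natDegree_le hm (rc_monic hφ0) hd (rc_natDegree_le φ))

theorem reverse_quot {f u g : F[X]} (hu0 : u ≠ 0) (hf : f.reverse = f) (hu : u.reverse = u)
    (hfug : f = u * g) : g.reverse = g := by
  have h1 : f.reverse = u.reverse * g.reverse := by rw [hfug, reverse_mul_of_domain]
  rw [hf, hu, hfug] at h1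
  exact (mul_left_cancel₀ hu0 h1).symm

/-- the palindromic polynomial of degree `2n` with lower coefficients `c 0, …, c n` -/
noncomputable def palOf (n : ℕ) (c : ℕ → F) : F[X] :=
  ∑ i ∈ Finset.range n, C (c i) * (X ^ i + X ^ (2 * n - i)) + C (c n) * X ^ n

theorem eq_palOf (f : F[X]) (n : ℕ) (hdeg : f.natDegree = 2 * n) (hrev : f.reverse = f) :
    f = palOf n f.coeff := by
  have hc : ∀ i, i ≤ 2 * n → f.coeff (2 * n - i) = f.coeff i := by
    intro i hi
    have := coeff_reverse f i
    rw [hrev, hdeg, revAt_le hi] at this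
    exact this.symm
  set m : ℕ → F[X] := fun k => monomial k (f.coeff k) with hm
  have h0 : f = ∑ k ∈ Finset.range (n + (n + 1)), m k := by
    conv_lhs => rw [f.as_sum_range' (n + (n + 1)) (by omega)]
  have h1 : ∑ x ∈ Finset.range (n + 1), m (n + x) =
      ∑ x ∈ Finset.range n, m (n + (x + 1)) + m (n + 0) := Finset.sum_range_succ' _ _
  have h2 : ∑ x ∈ Finset.range n, m (n + (x + 1)) =
      ∑ j ∈ Finset.range n, m (n + (n - 1 - j + 1)) :=
    (Finset.sum_range_reflect (fun x => m (n + (x + 1))) n).symm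
  refine h0.trans ?_
  rw [Finset.sum_range_add, h1, h2, palOf, ← add_assoc, ← Finset.sum_add_distrib, add_zero]
  congr 1
  · apply Finset.sum_congr rfl
    intro i hi
    have hi' : i < n := Finset.mem_range.1 hi
    have e1 : n + (n - 1 - i + 1) = 2 * n - i := by omega
    rw [e1, hm]
    simp only
    rw [hc i (by omega), mul_add, C_mul_X_pow_eq_monomial, C_mul_X_pow_eq_monomial]
  · rw [hm, C_mul_X_pow_eq_monomial]

theorem reflect_sum {ι : Type*} (N : ℕ) (s : Finset ι) (g : ι → F[X]) :
    reflect N (∑ i ∈ s, g i) = ∑ i ∈ s, reflect N (g i) := by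
  classical
  induction s using Finset.induction_on with
  | empty => simp
  | insert a s ha ih => rw [Finset.sum_insert ha, Finset.sum_insert ha, reflect_add, ih]

theorem reflect_palOf (n : ℕ) (c : ℕ → F) : reflect (2 * n) (palOf n c) = palOf n c := by
  rw [palOf, reflect_add, reflect_C_mul_X_pow, revAt_le (by omega)]
  have : 2 * n - n = n := by omega
  rw [this]
  congr 1
  rw [reflect_sum]
  apply Finset.sum_congr rfl
  intro i hi
  have hi' : i < n := Finset.mem_range.1 hi
  rw [mul_add, reflect_add, reflect_C_mul_X_pow, reflect_C_mul_X_pow, revAt_le (by omega),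
    revAt_le (by omega), add_comm]
  have : 2 * n - (2 * n - i) = i := by omega
  rw [this]

theorem coeff_palOf_le (n : ℕ) (c : ℕ → F) (k : ℕ) (hk : k ≤ n) : (palOf n c).coeff k = c k := by
  rw [palOf, coeff_add, finset_sum_coeff]
  have h1 : ∀ i ∈ Finset.range n, (C (c i) * (X ^ i + X ^ (2 * n - i))).coeff k =
      if i = k then c i else 0 := by
    intro i hi
    have hi' : i < n := Finset.mem_range.1 hi
    rw [coeff_C_mul, coeff_add, coeff_X_pow, coeff_X_pow]
    have h2 : k ≠ 2 * n - i := by omega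
    rw [if_neg h2, add_zero]
    by_cases hik : i = k
    · rw [if_pos hik, if_pos hik.symm, mul_one]
    · rw [if_neg hik, if_neg (Ne.symm hik), mul_zero]
  rw [Finset.sum_congr rfl h1, coeff_C_mul, coeff_X_pow]
  rcases Nat.lt_or_ge k n with hlt | hge
  · rw [Finset.sum_ite_eq' (Finset.range n) k c, if_pos (Finset.mem_range.2 hlt),
      if_neg (by omega), mul_zero, add_zero]
  · obtain rfl : k = n := by omega
    rw [Finset.sum_ite_eq' (Finset.range k) k c, if_neg (by simp), if_pos rfl, mul_one, zero_add]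

theorem natDegree_palOf_le (n : ℕ) (c : ℕ → F) : (palOf n c).natDegree ≤ 2 * n := by
  rw [palOf]
  apply (natDegree_add_le _ _).trans
  apply max_le
  · apply natDegree_sum_le_of_forall_le
    intro i hi
    have hi' : i < n := Finset.mem_range.1 hi
    apply (natDegree_C_mul_le _ _).trans
    apply (natDegree_add_le _ _).trans
    apply max_le
    · rw [natDegree_X_pow]; omega
    · rw [natDegree_X_pow]; omega
  · apply (natDegree_C_mul_le _ _).trans
    rw [natDegree_X_pow]; omega

theorem coeff_palOf_top (n : ℕ) (c : ℕ → F) : (palOf n c).coeff (2 * n) = c 0 := by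
  have h1 : (reflect (2 * n) (palOf n c)).coeff (2 * n) = (palOf n c).coeff 0 := by
    rw [coeff_reflect, revAt_le le_rfl, Nat.sub_self]
  rw [reflect_palOf, coeff_palOf_le n c 0 (Nat.zero_le _)] at h1
  exact h1

theorem palOf_facts (n : ℕ) (c : ℕ → F) (h0 : c 0 = 1) :
    (palOf n c).Monic ∧ (palOf n c).natDegree = 2 * n ∧ (palOf n c).reverse = palOf n c := by
  have htop : (palOf n c).coeff (2 * n) = 1 := by rw [coeff_palOf_top, h0]
  have hdeg : (palOf n c).natDegree = 2 * n := by
    apply le_antisymm (natDegree_palOf_le n c)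
    apply le_natDegree_of_ne_zero
    rw [htop]
    exact one_ne_zero
  refine ⟨?_, hdeg, ?_⟩
  · rw [Monic, leadingCoeff, hdeg, htop]
  · rw [reverse, hdeg, reflect_palOf]

theorem sq_dvd_of_root {f : F[X]} {n : ℕ} (hdeg : f.natDegree = 2 * n) (hrev : f.reverse = f)
    {c : F} (hc : c * c = 1) (hroot : f.eval c = 0) : (X - C c) ^ 2 ∣ f := by
  set s : F := ∑ i ∈ Finset.range n, 2 * f.coeff i * c ^ (n - i) + f.coeff n with hs
  have hterm : ∀ i ∈ Finset.range n, C (f.coeff i) * (X ^ i + X ^ (2 * n - i)) -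
      C (2 * f.coeff i * c ^ (n - i)) * X ^ n =
      C (f.coeff i) * (X ^ i * (X ^ (n - i) - C (c ^ (n - i))) ^ 2) := by
    intro i hi
    have hi' : i < n := Finset.mem_range.1 hi
    obtain ⟨k, rfl⟩ : ∃ k, n = i + k := ⟨n - i, by omega⟩
    have e1 : 2 * (i + k) - i = i + k + k := by omega
    have e2 : i + k - i = k := by omega
    have hd : (C (c ^ k) : F[X]) ^ 2 = 1 := by
      rw [← C_pow, ← pow_mul, mul_comm, pow_mul, pow_two, hc, one_pow, C_1]
    rw [e1, e2]
    simp only [pow_add, C_mul]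
    have h2 : (C (2 : F) : F[X]) = 2 := map_ofNat C 2
    rw [h2]
    linear_combination (-(C (f.coeff i) * X ^ i)) * hd
  have hf := eq_palOf f n hdeg hrev
  rw [palOf] at hf
  have key : (X - C c) ^ 2 ∣ f - C s * X ^ n := by
    have h1' : (∑ i ∈ Finset.range n, C (f.coeff i) * (X ^ i + X ^ (2 * n - i)) +
        C (f.coeff n) * X ^ n) - C s * X ^ n =
        ∑ i ∈ Finset.range n, C (f.coeff i) * (X ^ i * (X ^ (n - i) - C (c ^ (n - i))) ^ 2) := by
      rw [← Finset.sum_congr rfl hterm, Finset.sum_sub_distrib, ← Finset.sum_mul, hs, C_add,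
        map_sum]
      ring
    have h1 : f - C s * X ^ n =
        ∑ i ∈ Finset.range n, C (f.coeff i) * (X ^ i * (X ^ (n - i) - C (c ^ (n - i))) ^ 2) := by
      rw [← h1']
      congr 1
    rw [h1]
    apply Finset.dvd_sum
    intro i hi
    apply Dvd.dvd.mul_left
    apply Dvd.dvd.mul_left
    apply pow_dvd_pow_of_dvd
    rw [C_pow]
    exact sub_dvd_pow_sub_pow X (C c) (n - i)
  have h3 : (f - C s * X ^ n).eval c = 0 := by
    obtain ⟨G, hG⟩ := key
    rw [hG]
    simp
  rw [eval_sub, hroot, zero_sub, eval_mul, eval_C, eval_pow, eval_X, neg_eq_zero] at h3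
  have hcn : c ^ n ≠ 0 := by
    apply pow_ne_zero
    rintro rfl
    simp at hc
  have hs0 : s = 0 := by
    rcases mul_eq_zero.1 h3 with h | h
    · exact h
    · exact absurd h hcn
  rw [hs0, C_0, zero_mul, sub_zero] at key
  exact key

/-- the monic self-reciprocal polynomials of degree `2n` -/
def palSet (F : Type*) [Field F] (n : ℕ) : Set F[X] :=
  {f | f.Monic ∧ f.natDegree = 2 * n ∧ f.reverse = f}

/-- extend a vector of `n` coefficients to a coefficient function with `c 0 = 1` -/
noncomputable def extc (n : ℕ) (a : Fin n → F) (i : ℕ) : F :=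
  if i = 0 then 1 else if h : i - 1 < n then a ⟨i - 1, h⟩ else 0

theorem card_palSet [Fintype F] (n : ℕ) : Nat.card (palSet F n) = Fintype.card F ^ n := by
  classical
  have hbij : Function.Bijective (fun (f : palSet F n) (j : Fin n) => (f : F[X]).coeff (j + 1)) := by
    constructor
    · intro f g hfg
      apply Subtype.ext
      have hf := eq_palOf (f : F[X]) n f.2.2.1 f.2.2.2
      have hg := eq_palOf (g : F[X]) n g.2.2.1 g.2.2.2
      have h0 : ∀ h : palSet F n, (h : F[X]).coeff 0 = 1 := by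
        intro h
        have := coeff_palOf_top n (h : F[X]).coeff
        rw [← eq_palOf (h : F[X]) n h.2.2.1 h.2.2.2] at this
        rw [← this, ← h.2.2.1]
        exact h.2.1
      have hc : ∀ i, i ≤ n → (f : F[X]).coeff i = (g : F[X]).coeff i := by
        intro i hi
        rcases Nat.eq_zero_or_pos i with rfl | hpos
        · rw [h0 f, h0 g]
        · have := congrFun hfg ⟨i - 1, by omega⟩
          simp only at this
          rwa [show i - 1 + 1 = i by omega] at this
      rw [hf, hg, palOf, palOf, hc n le_rfl]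
      congr 1
      apply Finset.sum_congr rfl
      intro i hi
      rw [hc i (Finset.mem_range.1 hi).le]
    · intro a
      obtain ⟨h1, h2, h3⟩ := palOf_facts n (extc n a) (by simp [extc])
      refine ⟨⟨palOf n (extc n a), h1, h2, h3⟩, ?_⟩
      funext j
      show (palOf n (extc n a)).coeff (j + 1) = a j
      rw [coeff_palOf_le n _ _ (by omega), extc, if_neg (by omega), dif_pos (by simp)]
      simp
  rw [Nat.card_eq_of_bijective _ hbij, Nat.card_eq_fintype_card, Fintype.card_fun, Fintype.card_fin]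

theorem reverse_reverse {φ : F[X]} (h0 : φ.coeff 0 ≠ 0) : φ.reverse.reverse = φ := by
  have h1 : φ.reverse.natDegree = φ.natDegree := by
    rw [reverse_natDegree, natTrailingDegree_eq_zero.2 (Or.inr h0), Nat.sub_zero]
  rw [reverse, h1, reverse]
  ext k
  rw [coeff_reflect, coeff_reflect, revAt_invol]

theorem rc_natDegree {φ : F[X]} (h0 : φ.coeff 0 ≠ 0) : (rc φ).natDegree = φ.natDegree := by
  rw [rc, natDegree_C_mul (inv_ne_zero h0), reverse_natDegree,
    natTrailingDegree_eq_zero.2 (Or.inr h0), Nat.sub_zero]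

theorem reverse_mul_rc {φ : F[X]} (h0 : φ.coeff 0 ≠ 0) : (φ * rc φ).reverse = φ * rc φ := by
  rw [reverse_mul_of_domain, rc, reverse_mul_of_domain, reverse_C, reverse_reverse h0]
  ring

theorem coeff_zero_rc {φ : F[X]} (hm : φ.Monic) : (rc φ).coeff 0 = (φ.coeff 0)⁻¹ := by
  rw [rc, coeff_C_mul, coeff_zero_reverse, hm.leadingCoeff, mul_one]

theorem eval_one_reverse (f : F[X]) : f.reverse.eval 1 = f.eval 1 := by
  letI : Invertible (1 : F) := invertibleOne
  have h := eval₂_reverse_mul_pow (RingHom.id F) (1 : F) f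
  rw [invOf_one, one_pow, mul_one] at h
  exact h

theorem reverse_eq_of_rc_eq {φ : F[X]} (h0 : φ.coeff 0 ≠ 0) (hrc : rc φ = φ)
    (h1 : φ.eval 1 ≠ 0) : φ.reverse = φ := by
  have h2 : C (φ.coeff 0) * rc φ = φ.reverse := by
    rw [rc, ← mul_assoc, ← C_mul, mul_inv_cancel₀ h0, C_1, one_mul]
  rw [hrc] at h2
  have h3 := eval_one_reverse φ
  rw [← h2, eval_mul, eval_C] at h3
  have h4 : φ.coeff 0 = 1 := by
    have : (φ.coeff 0 - 1) * eval 1 φ = 0 := by rw [sub_mul, h3, one_mul, sub_self]
    rcases mul_eq_zero.1 this with h | h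
    · exact sub_eq_zero.1 h
    · exact absurd h h1
  rw [← h2, h4, C_1, one_mul]

end Cfsg.Agent.Lib.Helper5.Pal
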