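import Mathlib
import Cfsg.Agent.Lib.Helper5.OmegaCrit
import Cfsg.Agent.Lib.Helper2.QuadStd
import Cfsg.Agent.Lib.Helper1.SLn

set_option autoImplicit false

namespace Cfsg.Agent.Lib.Helper5.PlusLevi

open Cfsg.Agent.Lib.Helper2 Cfsg.Agent.Lib.Helper2.CDG Cfsg.Agent.Lib.Helper2.ReflGen Matrix
open Cfsg.Agent.Lib.Helper5.QuadGlue Cfsg.Agent.Lib.Helper2.QuadStd
open Cfsg.Agent.Lib.Helper5.SpinorDiag Cfsg.Agent.Lib.Helper5.OmegaCrit

section pairs
variable {F : Type*} [Field F] {ι : Type} [Fintype ι] [DecidableEq ι]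
variable {Q : QuadraticForm F (ι → F)} {J : Type} {a b : J → ι}

/-- the vector `e_a - d e_b` -/
def wvecd (a b : J → ι) (j : J) (d : F) : ι → F := Pi.single (a j) 1 - d • Pi.single (b j) 1

theorem Q_wvecd (h : IsHypPairs Q a b) (j : J) (d : F) : Q (wvecd (F := F) a b j d) = -d := by
  unfold wvecd
  rw [sub_eq_add_neg, QuadraticMap.map_add Q, QuadraticMap.map_neg, QuadraticMap.map_smul, h.qa,
    h.qb, h.pa, Pi.neg_apply, Pi.smul_apply, Pi.single_eq_same, smul_zero, zero_add, zero_add,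
    smul_eq_mul, mul_one]

theorem polar_wvecd (h : IsHypPairs Q a b) (j : J) (d : F) (x : ι → F) :
    QuadraticMap.polar (⇑Q) (wvecd a b j d) x = x (b j) - d * x (a j) := by
  unfold wvecd
  rw [QuadraticMap.polar_sub_left, QuadraticMap.polar_smul_left, h.pa, h.pb, smul_eq_mul]

theorem pair_mulVec_d (h : IsHypPairs Q a b) (j : J) (d : F) (hd : d ≠ 0) (x : ι → F) :
    Cfsg.reflectionMatrix (⇑Q) (wvec a b j) *ᵥ (Cfsg.reflectionMatrix (⇑Q) (wvecd a b j d) *ᵥ x) =
      fun k => if k = a j then d * x k else if k = b j then d⁻¹ * x k else x k := by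
  have hne := ne_ab h j
  rw [reflectionMatrix_mulVec, reflectionMatrix_mulVec, Q_wvecd h, Q_wvec h, polar_wvecd h,
    polar_wvec h]
  funext k
  simp only [Pi.sub_apply, Pi.smul_apply, smul_eq_mul, wvecd, wvec, Pi.single_apply]
  by_cases hka : k = a j
  · subst hka
    simp [hne, hne.symm]
    field_simp
    ring
  · by_cases hkb : k = b j
    · subst hkb
      simp [hne, hne.symm]
      field_simp
      ring
    · simp [hka, hkb]

end pairs

section levi
variable {F : Type*} [Field F] {m : ℕ}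

theorem QP_dot (w : Fin m ⊕ Fin m → F) : QP m F w = (w ∘ Sum.inl) ⬝ᵥ (w ∘ Sum.inr) := by
  rw [QP_apply]
  rfl

theorem blocks_mulVec (A B : Matrix (Fin m) (Fin m) F) (w : Fin m ⊕ Fin m → F) :
    Matrix.fromBlocks A 0 0 B *ᵥ w = Sum.elim (A *ᵥ (w ∘ Sum.inl)) (B *ᵥ (w ∘ Sum.inr)) := by
  conv_lhs => rw [← Sum.elim_comp_inl_inr w]
  rw [Matrix.fromBlocks_mulVec]
  simp

/-- the Levi embedding at the level of `GL` -/
noncomputable def leviGL (A : GL (Fin m) F) : GL (Fin m ⊕ Fin m) F :=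
  ⟨Matrix.fromBlocks (A : Matrix (Fin m) (Fin m) F) 0 0
      ((A⁻¹ : GL (Fin m) F) : Matrix (Fin m) (Fin m) F)ᵀ,
    Matrix.fromBlocks ((A⁻¹ : GL (Fin m) F) : Matrix (Fin m) (Fin m) F) 0 0
      (A : Matrix (Fin m) (Fin m) F)ᵀ,
    by
      rw [Matrix.fromBlocks_multiply]
      simp only [Matrix.mul_zero, Matrix.zero_mul, add_zero, zero_add, ← Matrix.transpose_mul]
      rw [← Units.val_mul, mul_inv_cancel, Units.val_one, Matrix.transpose_one,
        Matrix.fromBlocks_one],
    by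
      rw [Matrix.fromBlocks_multiply]
      simp only [Matrix.mul_zero, Matrix.zero_mul, add_zero, zero_add, ← Matrix.transpose_mul]
      rw [← Units.val_mul, inv_mul_cancel, Units.val_one, Matrix.transpose_one,
        Matrix.fromBlocks_one]⟩

theorem leviGL_coe (A : GL (Fin m) F) :
    ((leviGL A : GL (Fin m ⊕ Fin m) F) : Matrix (Fin m ⊕ Fin m) (Fin m ⊕ Fin m) F) =
      Matrix.fromBlocks (A : Matrix (Fin m) (Fin m) F) 0 0
        ((A⁻¹ : GL (Fin m) F) : Matrix (Fin m) (Fin m) F)ᵀ := rfl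

theorem leviGL_iso (A : GL (Fin m) F) (w : Fin m ⊕ Fin m → F) :
    QP m F (((leviGL A : GL (Fin m ⊕ Fin m) F) : Matrix (Fin m ⊕ Fin m) (Fin m ⊕ Fin m) F) *ᵥ w) =
      QP m F w := by
  rw [leviGL_coe, blocks_mulVec, QP_dot, QP_dot, Sum.elim_comp_inl, Sum.elim_comp_inr,
    Matrix.mulVec_transpose, dotProduct_comm, ← Matrix.dotProduct_mulVec, Matrix.mulVec_mulVec,
    ← Units.val_mul, inv_mul_cancel, Units.val_one, Matrix.one_mulVec, dotProduct_comm]

/-- the Levi embedding `GL_m → O⁺_{2m}` -/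
noncomputable def levi : GL (Fin m) F →* ↥(Cfsg.isometryGroup F ⇑(QP m F)) where
  toFun A := ⟨leviGL A, fun u _ => leviGL_iso A u⟩
  map_one' := by
    apply Subtype.ext
    apply Units.ext
    show Matrix.fromBlocks ((1 : GL (Fin m) F) : Matrix (Fin m) (Fin m) F) 0 0
        (((1 : GL (Fin m) F)⁻¹ : GL (Fin m) F) : Matrix (Fin m) (Fin m) F)ᵀ = 1
    rw [inv_one, Units.val_one, Matrix.transpose_one, Matrix.fromBlocks_one]
  map_mul' A B := by
    apply Subtype.ext
    apply Units.ext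
    show Matrix.fromBlocks ((A * B : GL (Fin m) F) : Matrix (Fin m) (Fin m) F) 0 0
        (((A * B)⁻¹ : GL (Fin m) F) : Matrix (Fin m) (Fin m) F)ᵀ =
      Matrix.fromBlocks (A : Matrix (Fin m) (Fin m) F) 0 0
        ((A⁻¹ : GL (Fin m) F) : Matrix (Fin m) (Fin m) F)ᵀ *
      Matrix.fromBlocks (B : Matrix (Fin m) (Fin m) F) 0 0
        ((B⁻¹ : GL (Fin m) F) : Matrix (Fin m) (Fin m) F)ᵀ
    rw [Matrix.fromBlocks_multiply]
    simp only [Matrix.mul_zero, Matrix.zero_mul, add_zero, zero_add, ← Matrix.transpose_mul]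
    rw [_root_.mul_inv_rev, Units.val_mul, Units.val_mul]

theorem levi_coe (A : GL (Fin m) F) :
    ((levi A : GL (Fin m ⊕ Fin m) F) : Matrix (Fin m ⊕ Fin m) (Fin m ⊕ Fin m) F) =
      Matrix.fromBlocks (A : Matrix (Fin m) (Fin m) F) 0 0
        ((A : Matrix (Fin m) (Fin m) F)⁻¹)ᵀ := by
  show Matrix.fromBlocks (A : Matrix (Fin m) (Fin m) F) 0 0
        ((A⁻¹ : GL (Fin m) F) : Matrix (Fin m) (Fin m) F)ᵀ = _
  rw [Matrix.coe_units_inv]

end levi

section odd
variable {F : Type*} [Field F] {m : ℕ}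

theorem hyp_plus (m : ℕ) : IsHypPairs (QP m F) (Sum.inl : Fin m → Fin m ⊕ Fin m) Sum.inr where
  inj := by
    intro x y hxy
    rcases x with x | x <;> rcases y with y | y <;> simpa using hxy
  qa := by
    intro j
    rw [QP_apply]
    unfold Cfsg.quadFormPlus
    apply Finset.sum_eq_zero
    intro i _
    simp
  qb := by
    intro j
    rw [QP_apply]
    unfold Cfsg.quadFormPlus
    apply Finset.sum_eq_zero
    intro i _
    simp
  pa := by
    intro j x
    rw [polar_plus]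
    rw [Finset.sum_eq_single j]
    · simp
    · intro i _ hij
      simp [hij]
    · intro h; exact absurd (Finset.mem_univ j) h
  pb := by
    intro j x
    rw [polar_plus]
    rw [Finset.sum_eq_single j]
    · simp
    · intro i _ hij
      simp [hij]
    · intro h; exact absurd (Finset.mem_univ j) h

theorem sl_transvection_add {i j : Fin m} (hij : i ≠ j) (a b : F) :
    Matrix.SpecialLinearGroup.transvection hij (a + b) =
      Matrix.SpecialLinearGroup.transvection hij a * Matrix.SpecialLinearGroup.transvection hij b := by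
  apply Subtype.ext
  show Matrix.transvection i j (a + b) = Matrix.transvection i j a * Matrix.transvection i j b
  rw [Matrix.transvection_mul_transvection_same i j hij]

variable [Fintype F]

theorem hex_of_odd (h2 : (2 : F) ≠ 0) (n : ℕ) : Fintype.card F ≠ 2 ∨ n ≠ 4 := by
  left
  intro h
  apply h2
  have := Nat.cast_card_eq_zero F
  rw [h] at this
  exact_mod_cast this

/-- the Levi image of `SL_m` lies in `Ω` in odd characteristic -/
theorem levi_SL_mem (h2 : (2 : F) ≠ 0) (hm : 1 ≤ m) (S : Matrix.SpecialLinearGroup (Fin m) F) :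
    levi (Matrix.SpecialLinearGroup.toGL S) ∈ commutator ↥(Cfsg.isometryGroup F ⇑(QP m F)) := by
  have hex := hex_of_odd h2 (Fintype.card (Fin m ⊕ Fin m))
  have hn : 2 ≤ Fintype.card (Fin m ⊕ Fin m) := by
    rw [Fintype.card_sum, Fintype.card_fin]; omega
  rcases Nat.lt_or_ge m 2 with hm2 | hm2
  · have hm1 : m = 1 := by omega
    subst hm1
    have : S = 1 := by
      apply Subtype.ext
      ext i j
      have hi : i = 0 := Subsingleton.elim _ _
      have hj : j = 0 := Subsingleton.elim _ _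
      have hdet := S.2
      rw [Matrix.det_fin_one] at hdet
      rw [hi, hj, hdet]
      rfl
    rw [this, map_one, map_one]
    exact Subgroup.one_mem _
  · haveI : Nontrivial (Fin m) := Fin.nontrivial_iff_two_le.2 hm2
    refine Cfsg.Agent.Lib.Helper1.transvection_induction_n
      (fun S => levi (Matrix.SpecialLinearGroup.toGL S) ∈
        commutator ↥(Cfsg.isometryGroup F ⇑(QP m F))) ?_ ?_ S
    · intro i j hij c
      have hc : c = c / 2 + c / 2 := by field_simp; ring
      show levi (Matrix.SpecialLinearGroup.toGL (Matrix.SpecialLinearGroup.transvection hij c)) ∈ _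
      rw [hc, sl_transvection_add, map_mul, map_mul]
      exact sq_mem_commutator (QP_nondeg m) hex hn _
    · intro A B hA hB
      show levi (Matrix.SpecialLinearGroup.toGL (A * B)) ∈ _
      rw [map_mul, map_mul]
      exact Subgroup.mul_mem _ hA hB

/-- the diagonal matrix `diag(d, 1, …, 1)` -/
noncomputable def Dgl (j₀ : Fin m) (d : Fˣ) : GL (Fin m) F :=
  ⟨Matrix.diagonal (Function.update (fun _ => (1 : F)) j₀ (d : F)),
    Matrix.diagonal (Function.update (fun _ => (1 : F)) j₀ ((d⁻¹ : Fˣ) : F)),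
    by
      rw [Matrix.diagonal_mul_diagonal, ← Matrix.diagonal_one]
      congr 1
      funext i
      by_cases hi : i = j₀
      · subst hi; simp
      · simp [Function.update_of_ne hi],
    by
      rw [Matrix.diagonal_mul_diagonal, ← Matrix.diagonal_one]
      congr 1
      funext i
      by_cases hi : i = j₀
      · subst hi; simp
      · simp [Function.update_of_ne hi]⟩

omit [Fintype F] in
theorem det_Dgl (j₀ : Fin m) (d : Fˣ) :
    ((Dgl j₀ d : GL (Fin m) F) : Matrix (Fin m) (Fin m) F).det = d := by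
  show (Matrix.diagonal (Function.update (fun _ => (1 : F)) j₀ (d : F))).det = d
  rw [Matrix.det_diagonal, Finset.prod_update_of_mem (Finset.mem_univ j₀)]
  simp

omit [Fintype F] in
theorem levi_Dgl_coe (j₀ : Fin m) (d : Fˣ) :
    ((levi (Dgl j₀ d) : GL (Fin m ⊕ Fin m) F) : Matrix (Fin m ⊕ Fin m) (Fin m ⊕ Fin m) F) =
      Cfsg.reflectionMatrix (⇑(QP m F)) (wvec Sum.inl Sum.inr j₀) *
        Cfsg.reflectionMatrix (⇑(QP m F)) (wvecd Sum.inl Sum.inr j₀ (d : F)) := by
  apply Matrix.mulVec_injective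
  funext w
  rw [← Matrix.mulVec_mulVec, pair_mulVec_d (hyp_plus m) j₀ (d : F) d.ne_zero]
  show Matrix.fromBlocks (Matrix.diagonal (Function.update (fun _ => (1 : F)) j₀ (d : F))) 0 0
      (Matrix.diagonal (Function.update (fun _ => (1 : F)) j₀ ((d⁻¹ : Fˣ) : F)))ᵀ *ᵥ w = _
  rw [blocks_mulVec, Matrix.diagonal_transpose]
  funext k
  rcases k with k | k
  · rw [Sum.elim_inl, Matrix.mulVec_diagonal]
    by_cases hk : k = j₀
    · subst hk; simp
    · simp [Function.update_of_ne hk, hk]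
  · rw [Sum.elim_inr, Matrix.mulVec_diagonal]
    by_cases hk : k = j₀
    · subst hk; simp
    · simp [Function.update_of_ne hk, hk]

/-- the Levi element of `A` lies in `Ω` iff `det A` is a square (odd characteristic) -/
theorem levi_mem_iff_odd (h2 : (2 : F) ≠ 0) (hm : 1 ≤ m) (A : GL (Fin m) F) :
    levi A ∈ commutator ↥(Cfsg.isometryGroup F ⇑(QP m F)) ↔
      IsSquare (A : Matrix (Fin m) (Fin m) F).det := by
  have hex := hex_of_odd h2 (Fintype.card (Fin m ⊕ Fin m))
  have hn : 2 ≤ Fintype.card (Fin m ⊕ Fin m) := by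
    rw [Fintype.card_sum, Fintype.card_fin]; omega
  set d : Fˣ := Matrix.GeneralLinearGroup.det A with hd
  have hdval : (d : F) = (A : Matrix (Fin m) (Fin m) F).det := rfl
  set j₀ : Fin m := ⟨0, hm⟩
  have hdetS : (((Dgl j₀ d)⁻¹ * A : GL (Fin m) F) : Matrix (Fin m) (Fin m) F).det = 1 := by
    have h1 : Matrix.GeneralLinearGroup.det ((Dgl j₀ d)⁻¹ * A) = 1 := by
      rw [map_mul, map_inv]
      have : Matrix.GeneralLinearGroup.det (Dgl j₀ d) = d := by
        apply Units.ext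
        exact det_Dgl j₀ d
      rw [this, ← hd, inv_mul_cancel]
    have := congrArg Units.val h1
    exact this
  set S : Matrix.SpecialLinearGroup (Fin m) F :=
    ⟨(((Dgl j₀ d)⁻¹ * A : GL (Fin m) F) : Matrix (Fin m) (Fin m) F), hdetS⟩ with hS
  have hSgl : Matrix.SpecialLinearGroup.toGL S = (Dgl j₀ d)⁻¹ * A := by
    apply Units.ext
    rfl
  have hA : A = Dgl j₀ d * Matrix.SpecialLinearGroup.toGL S := by
    rw [hSgl, mul_inv_cancel_left]
  have hSmem := levi_SL_mem h2 hm S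
  have hiff : levi A ∈ commutator ↥(Cfsg.isometryGroup F ⇑(QP m F)) ↔
      levi (Dgl j₀ d) ∈ commutator ↥(Cfsg.isometryGroup F ⇑(QP m F)) := by
    conv_lhs => rw [hA, map_mul]
    exact Subgroup.mul_mem_cancel_right _ hSmem
  rw [hiff, ← hdval]
  have hcrit := criterion_all (QP_nondeg m) hex hn (levi (Dgl j₀ d))
    [wvec Sum.inl Sum.inr j₀, wvecd Sum.inl Sum.inr j₀ (d : F)] (by
      intro v hv
      rw [List.mem_cons, List.mem_singleton] at hv
      rcases hv with rfl | rfl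
      · rw [Q_wvec (hyp_plus m)]; exact neg_ne_zero.2 one_ne_zero
      · rw [Q_wvecd (hyp_plus m)]; exact neg_ne_zero.2 d.ne_zero) (by
      rw [levi_Dgl_coe]
      simp)
  rw [hcrit]
  simp only [List.map_cons, List.map_nil, List.prod_cons, List.prod_nil, List.length_cons,
    List.length_nil, mul_one]
  rw [Q_wvec (hyp_plus m), Q_wvecd (hyp_plus m)]
  constructor
  · rintro ⟨-, h⟩
    have : (-1 : F) * -(d : F) = d := by ring
    rw [this] at h
    exact h
  · intro h
    refine ⟨⟨1, rfl⟩, ?_⟩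
    have : (-1 : F) * -(d : F) = d := by ring
    rw [this]
    exact h

end odd

section even
variable {F : Type*} [Field F] {m : ℕ}

open Cfsg.Agent.Lib.Helper2.Dickson

/-- the fixed space of a matrix -/
def fixL (M : Matrix (Fin m) (Fin m) F) : Submodule F (Fin m → F) :=
  LinearMap.ker (Matrix.mulVecLin (M - 1))

theorem mem_fixL (M : Matrix (Fin m) (Fin m) F) (x : Fin m → F) : x ∈ fixL M ↔ M *ᵥ x = x := by
  unfold fixL
  rw [LinearMap.mem_ker, Matrix.mulVecLin_apply, Matrix.sub_mulVec, Matrix.one_mulVec, sub_eq_zero]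

theorem finrank_fixL (M : Matrix (Fin m) (Fin m) F) :
    Module.finrank F (fixL M) + (M - 1).rank = m := by
  have := LinearMap.finrank_range_add_finrank_ker (Matrix.mulVecLin (M - 1))
  rw [Module.finrank_fintype_fun_eq_card, Fintype.card_fin] at this
  unfold fixL Matrix.rank
  omega

theorem rank_inv_transpose_sub_one (A : GL (Fin m) F) :
    (((A⁻¹ : GL (Fin m) F) : Matrix (Fin m) (Fin m) F)ᵀ - 1).rank =
      ((A : Matrix (Fin m) (Fin m) F) - 1).rank := by
  have h1 : ((A⁻¹ : GL (Fin m) F) : Matrix (Fin m) (Fin m) F)ᵀ - 1 =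
      (((A⁻¹ : GL (Fin m) F) : Matrix (Fin m) (Fin m) F) - 1)ᵀ := by
    rw [Matrix.transpose_sub, Matrix.transpose_one]
  have h3 : ((A⁻¹ : GL (Fin m) F) : Matrix (Fin m) (Fin m) F) - 1 =
      (-((A⁻¹ : GL (Fin m) F) : Matrix (Fin m) (Fin m) F)) * ((A : Matrix (Fin m) (Fin m) F) - 1) := by
    rw [Matrix.mul_sub, Matrix.mul_one, Matrix.neg_mul, ← Units.val_mul, inv_mul_cancel,
      Units.val_one]
    abel
  rw [h1, Matrix.rank_transpose, h3]
  apply Matrix.rank_mul_eq_right_of_isUnit_det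
  rw [Matrix.det_neg]
  apply IsUnit.mul
  · exact (isUnit_one.neg).pow _
  · have := (A⁻¹).isUnit
    exact (Matrix.isUnit_iff_isUnit_det _).1 this

theorem mem_Fix_levi (A : GL (Fin m) F) (w : Fin m ⊕ Fin m → F) :
    w ∈ Fix (levi A) ↔ (w ∘ Sum.inl) ∈ fixL (A : Matrix (Fin m) (Fin m) F) ∧
      (w ∘ Sum.inr) ∈ fixL ((A⁻¹ : GL (Fin m) F) : Matrix (Fin m) (Fin m) F)ᵀ := by
  rw [mem_Fix, mem_fixL, mem_fixL]
  show Matrix.fromBlocks (A : Matrix (Fin m) (Fin m) F) 0 0
        ((A⁻¹ : GL (Fin m) F) : Matrix (Fin m) (Fin m) F)ᵀ *ᵥ w = w ↔ _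
  rw [blocks_mulVec]
  constructor
  · intro h
    constructor
    · funext i
      exact congrFun h (Sum.inl i)
    · funext i
      exact congrFun h (Sum.inr i)
  · rintro ⟨h1, h3⟩
    rw [h1, h3, Sum.elim_comp_inl_inr]

/-- the fixed space of a Levi element splits -/
noncomputable def fixEquiv (A : GL (Fin m) F) :
    ↥(Fix (levi A)) ≃ₗ[F] ↥(fixL (A : Matrix (Fin m) (Fin m) F)) ×
      ↥(fixL ((A⁻¹ : GL (Fin m) F) : Matrix (Fin m) (Fin m) F)ᵀ) where
  toFun w := (⟨w.1 ∘ Sum.inl, ((mem_Fix_levi A w.1).1 w.2).1⟩,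
    ⟨w.1 ∘ Sum.inr, ((mem_Fix_levi A w.1).1 w.2).2⟩)
  map_add' w w' := rfl
  map_smul' c w := rfl
  invFun p := ⟨Sum.elim p.1.1 p.2.1, (mem_Fix_levi A _).2 (by
    rw [Sum.elim_comp_inl, Sum.elim_comp_inr]
    exact ⟨p.1.2, p.2.2⟩)⟩
  left_inv w := Subtype.ext (Sum.elim_comp_inl_inr w.1)
  right_inv p := by
    apply Prod.ext
    · exact Subtype.ext (Sum.elim_comp_inl p.1.1 p.2.1)
    · exact Subtype.ext (Sum.elim_comp_inr p.1.1 p.2.1)

theorem dfun_levi (A : GL (Fin m) F) : dfun (levi A) = 0 := by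
  unfold dfun
  rw [LinearEquiv.finrank_eq (fixEquiv A), Module.finrank_prod, Fintype.card_sum, Fintype.card_fin]
  have h1 := finrank_fixL (A : Matrix (Fin m) (Fin m) F)
  have h3 := finrank_fixL ((A⁻¹ : GL (Fin m) F) : Matrix (Fin m) (Fin m) F)ᵀ
  rw [rank_inv_transpose_sub_one] at h3
  have h4 : Module.finrank F ↥(fixL ((A⁻¹ : GL (Fin m) F) : Matrix (Fin m) (Fin m) F)ᵀ) =
      Module.finrank F ↥(fixL (A : Matrix (Fin m) (Fin m) F)) := by omega
  rw [h4]
  push_cast
  have hx : ∀ a b : ZMod 2, a + a + (b + b) = 0 := by decide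
  exact hx _ _

/-- in characteristic two every Levi element lies in `Ω` -/
theorem levi_mem_even [Fintype F] (h2 : (2 : F) = 0)
    (hex : Fintype.card F ≠ 2 ∨ Fintype.card (Fin m ⊕ Fin m) ≠ 4) (hm : 1 ≤ m)
    (A : GL (Fin m) F) : levi A ∈ commutator ↥(Cfsg.isometryGroup F ⇑(QP m F)) := by
  have hn : 2 ≤ Fintype.card (Fin m ⊕ Fin m) := by
    rw [Fintype.card_sum, Fintype.card_fin]; omega
  rw [mem_commutator_iff₂ h2 (QP_nondeg m) hex hn]
  exact dfun_levi A

end even

end Cfsg.Agent.Lib.Helper5.PlusLevi
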