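import Mathlib
import Cfsg.Agent.Lib.Helper5.PalPoly
import Cfsg.Agent.Lib.Helper5.SemisimpleConj

set_option autoImplicit false

/-!
Realising self-reciprocal polynomials as characteristic polynomials of semisimple isometries of
symplectic spaces.
-/

namespace Cfsg.Agent.Lib.Helper5.SpReal

open Polynomial Module Cfsg.Agent.Lib.Helper5.Pal

universe u

variable {F : Type u} [Field F]

/-- `f` is the characteristic polynomial of a semisimple isometry of a symplectic space -/
def Realizable (f : F[X]) : Prop :=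
  ∃ (V : Type u) (_ : AddCommGroup V) (_ : Module F V) (_ : FiniteDimensional F V)
    (ω : LinearMap.BilinForm F V) (A : Module.End F V) (k : ℕ),
    ω.IsAlt ∧ (∀ x, (∀ y, ω x y = 0) → x = 0) ∧ (∀ u v, ω (A u) (A v) = ω u v) ∧
    (k : F) ≠ 0 ∧ (∀ v, (A ^ k) v = v) ∧ A.charpoly = f

theorem realizable_one : Realizable (1 : F[X]) := by
  refine ⟨PUnit.{u + 1}, inferInstance, inferInstance, inferInstance, 0, 1, 1, ?_, ?_, ?_, ?_, ?_, ?_⟩
  · intro x; rfl
  · intro x _; exact Subsingleton.elim _ _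
  · intro u v; rfl
  · simp
  · intro v; exact Subsingleton.elim _ _
  · apply eq_one_of_monic_natDegree_zero (LinearMap.charpoly_monic _)
    rw [LinearMap.charpoly_natDegree, Module.finrank_zero_of_subsingleton]

theorem prodMap_pow_apply {V₁ V₂ : Type*} [AddCommGroup V₁] [Module F V₁] [AddCommGroup V₂]
    [Module F V₂] (A₁ : Module.End F V₁) (A₂ : Module.End F V₂) (j : ℕ) (v : V₁ × V₂) :
    ((A₁.prodMap A₂ : Module.End F (V₁ × V₂)) ^ j) v = ((A₁ ^ j) v.1, (A₂ ^ j) v.2) := by
  induction j generalizing v with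
  | zero => simp
  | succ j ih =>
    rw [pow_succ, Module.End.mul_apply, ih, pow_succ, pow_succ, Module.End.mul_apply,
      Module.End.mul_apply]
    rfl

theorem Realizable.mul {f g : F[X]} (hf : Realizable f) (hg : Realizable g) :
    Realizable (f * g) := by
  obtain ⟨V₁, iA₁, iM₁, iF₁, ω₁, A₁, k₁, h11, h12, h13, h14, h15, h16⟩ := hf
  obtain ⟨V₂, iA₂, iM₂, iF₂, ω₂, A₂, k₂, h21, h22, h23, h24, h25, h26⟩ := hg
  set ω : LinearMap.BilinForm F (V₁ × V₂) :=
    ω₁.compl₁₂ (LinearMap.fst F V₁ V₂) (LinearMap.fst F V₁ V₂) +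
      ω₂.compl₁₂ (LinearMap.snd F V₁ V₂) (LinearMap.snd F V₁ V₂) with hω
  have hωapp : ∀ x y : V₁ × V₂, ω x y = ω₁ x.1 y.1 + ω₂ x.2 y.2 := fun x y => rfl
  refine ⟨V₁ × V₂, inferInstance, inferInstance, inferInstance, ω, A₁.prodMap A₂, k₁ * k₂,
    ?_, ?_, ?_, ?_, ?_, ?_⟩
  · intro x
    rw [hωapp, h11 x.1, h21 x.2, add_zero]
  · intro x hx
    have hx1 : x.1 = 0 := by
      apply h12
      intro y
      have := hx (y, 0)
      rw [hωapp] at this
      simpa using this
    have hx2 : x.2 = 0 := by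
      apply h22
      intro y
      have := hx (0, y)
      rw [hωapp] at this
      simpa using this
    exact Prod.ext hx1 hx2
  · intro u v
    rw [hωapp, hωapp]
    show ω₁ (A₁ u.1) (A₁ v.1) + ω₂ (A₂ u.2) (A₂ v.2) = _
    rw [h13, h23]
  · rw [Nat.cast_mul]
    exact mul_ne_zero h14 h24
  · intro v
    rw [prodMap_pow_apply]
    have e1 : (A₁ ^ (k₁ * k₂)) v.1 = v.1 := by
      have : ∀ j : ℕ, ((A₁ ^ k₁) ^ j) v.1 = v.1 := by
        intro j
        induction j with
        | zero => simp
        | succ j ih => rw [pow_succ, Module.End.mul_apply, h15, ih]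
      rw [pow_mul]
      exact this k₂
    have e2 : (A₂ ^ (k₁ * k₂)) v.2 = v.2 := by
      have : ∀ j : ℕ, ((A₂ ^ k₂) ^ j) v.2 = v.2 := by
        intro j
        induction j with
        | zero => simp
        | succ j ih => rw [pow_succ, Module.End.mul_apply, h25, ih]
      rw [mul_comm, pow_mul]
      exact this k₁
    rw [e1, e2]
  · rw [LinearMap.charpoly_prodMap, h16, h26]

section fieldext

variable {K : Type u} [Field K] [Algebra F K]

theorem mulLeft_pow_apply (α : K) (j : ℕ) (v : K) :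
    ((LinearMap.mulLeft F α : Module.End F K) ^ j) v = α ^ j * v := by
  induction j generalizing v with
  | zero => simp
  | succ j ih =>
    rw [pow_succ, Module.End.mul_apply, ih, LinearMap.mulLeft_apply, pow_succ, mul_assoc]

theorem exists_order [Finite K] (α : K) (hα : α ≠ 0) : ∃ k : ℕ, (k : F) ≠ 0 ∧ α ^ k = 1 := by
  haveI := Fintype.ofFinite K
  refine ⟨Fintype.card K - 1, ?_, FiniteField.pow_card_sub_one_eq_one α hα⟩
  intro h0
  have h1 : ((Fintype.card K - 1 : ℕ) : K) = 0 := by
    have := congrArg (algebraMap F K) h0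
    rwa [map_natCast, map_zero] at this
  have h2 : ((Fintype.card K : ℕ) : K) = 0 := FiniteField.cast_card_eq_zero K
  have h3 : Fintype.card K = (Fintype.card K - 1) + 1 := by
    have := Fintype.card_pos (α := K)
    omega
  rw [h3, Nat.cast_add, h1, zero_add, Nat.cast_one] at h2
  exact one_ne_zero h2

theorem exists_functional [FiniteDimensional F K] (W : Submodule F K) (hW : W < ⊤) :
    ∃ (ℓ : K →ₗ[F] F) (t : K), ℓ t ≠ 0 ∧ ∀ x ∈ W, ℓ x = 0 := by
  obtain ⟨ℓ, hℓ0, hℓW⟩ := Submodule.exists_le_ker_of_lt_top W hW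
  have : ∃ t, ℓ t ≠ 0 := by
    by_contra hcon
    push Not at hcon
    exact hℓ0 (LinearMap.ext hcon)
  obtain ⟨t, ht⟩ := this
  exact ⟨ℓ, t, ht, fun x hx => hℓW hx⟩

theorem realizable_pair [FiniteDimensional F K] [Finite K] (α : K) (hα : α ≠ 0) :
    Realizable ((LinearMap.mulLeft F α).charpoly * (LinearMap.mulLeft F α⁻¹).charpoly) := by
  obtain ⟨ℓ, t, ht, -⟩ := exists_functional (F := F) (⊥ : Submodule F K) bot_lt_top
  obtain ⟨k, hk0, hk⟩ := exists_order (F := F) α hα
  set ω : LinearMap.BilinForm F (K × K) :=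
    LinearMap.mk₂ F (fun x y : K × K => ℓ (x.1 * y.2 - x.2 * y.1))
      (fun x x' y => by
        rw [← map_add]; congr 1; simp only [Prod.fst_add, Prod.snd_add]; ring)
      (fun c x y => by
        rw [← map_smul]; congr 1
        simp only [Prod.smul_fst, Prod.smul_snd, smul_mul_assoc, smul_sub])
      (fun x y y' => by
        rw [← map_add]; congr 1; simp only [Prod.fst_add, Prod.snd_add]; ring)
      (fun c x y => by
        rw [← map_smul]; congr 1
        simp only [Prod.smul_fst, Prod.smul_snd, mul_smul_comm, smul_sub]) with hω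
  have hωapp : ∀ x y : K × K, ω x y = ℓ (x.1 * y.2 - x.2 * y.1) := fun x y => rfl
  have hnd : ∀ a : K, (∀ d : K, ℓ (a * d) = 0) → a = 0 := by
    intro a ha
    by_contra ha0
    apply ht
    have := ha (a⁻¹ * t)
    rwa [← mul_assoc, mul_inv_cancel₀ ha0, one_mul] at this
  refine ⟨K × K, inferInstance, inferInstance, inferInstance, ω,
    (LinearMap.mulLeft F α).prodMap (LinearMap.mulLeft F α⁻¹), k, ?_, ?_, ?_, hk0, ?_, ?_⟩
  · intro x
    rw [hωapp, mul_comm x.1 x.2, sub_self, map_zero]
  · intro x hx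
    have hx1 : x.1 = 0 := by
      apply hnd
      intro d
      have := hx (0, d)
      rw [hωapp] at this
      simpa using this
    have hx2 : x.2 = 0 := by
      apply hnd
      intro d
      have := hx (-d, 0)
      rw [hωapp] at this
      simpa using this
    exact Prod.ext hx1 hx2
  · intro u v
    rw [hωapp, hωapp]
    congr 1
    show α * u.1 * (α⁻¹ * v.2) - α⁻¹ * u.2 * (α * v.1) = _
    field_simp
  · intro v
    rw [prodMap_pow_apply, mulLeft_pow_apply, mulLeft_pow_apply, inv_pow, hk, inv_one, one_mul,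
      one_mul]
  · rw [LinearMap.charpoly_prodMap]

theorem realizable_self [FiniteDimensional F K] [Finite K] (α : K) (hα : α ≠ 0) (σ : K →ₐ[F] K)
    (hσ2 : ∀ x, σ (σ x) = x) (hσα : σ α = α⁻¹) (hne : ∃ x, σ x ≠ x) :
    Realizable (LinearMap.mulLeft F α).charpoly := by
  set W : Submodule F K := LinearMap.eqLocus σ.toLinearMap LinearMap.id with hW
  have hWmem : ∀ x, x ∈ W ↔ σ x = x := fun x => Iff.rfl
  have hWlt : W < ⊤ := by
    rw [lt_top_iff_ne_top]
    intro h
    obtain ⟨x, hx⟩ := hne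
    apply hx
    rw [← hWmem, h]
    trivial
  obtain ⟨ℓ, t, ht, hℓW⟩ := exists_functional (F := F) W hWlt
  obtain ⟨k, hk0, hk⟩ := exists_order (F := F) α hα
  set ω : LinearMap.BilinForm F K :=
    LinearMap.mk₂ F (fun a b : K => ℓ (a * σ b))
      (fun x x' y => by rw [← map_add, add_mul])
      (fun c x y => by rw [← map_smul, smul_mul_assoc])
      (fun x y y' => by rw [← map_add, map_add, mul_add])
      (fun c x y => by rw [← map_smul, map_smul, mul_smul_comm]) with hω
  have hωapp : ∀ a b : K, ω a b = ℓ (a * σ b) := fun a b => rfl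
  refine ⟨K, inferInstance, inferInstance, inferInstance, ω, LinearMap.mulLeft F α, k,
    ?_, ?_, ?_, hk0, ?_, rfl⟩
  · intro a
    rw [hωapp]
    apply hℓW
    rw [hWmem, map_mul σ, hσ2, mul_comm]
  · intro a ha
    by_contra ha0
    apply ht
    have := ha (σ (a⁻¹ * t))
    rwa [hωapp, hσ2, ← mul_assoc, mul_inv_cancel₀ ha0, one_mul] at this
  · intro u v
    rw [hωapp, hωapp, LinearMap.mulLeft_apply, LinearMap.mulLeft_apply, map_mul σ, hσα]
    congr 1
    field_simp
  · intro v
    rw [mulLeft_pow_apply, hk, one_mul]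

end fieldext

end Cfsg.Agent.Lib.Helper5.SpReal
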