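import Mathlib
import Cfsg.Agent.Lib.Helper5.OrthCls5
import Cfsg.Agent.Lib.Helper5.PlusLevi
import Cfsg.Agent.Lib.Helper5.PalPoly
import Cfsg.Agent.Lib.Helper5.SpReal1

set_option autoImplicit false

namespace Cfsg.Agent.Lib.Helper5.OrthCls

open QuadraticMap Module Polynomial
open Cfsg.Agent.Lib.Helper5.Pal Cfsg.Agent.Lib.Helper5.SpReal

universe u

variable {F : Type u} [Field F]

/-- `f` is the characteristic polynomial of a semisimple isometry of odd order of a
nondegenerate quadratic space whose type is recorded by `plus` -/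
def OReal (f : F[X]) (plus : Prop) : Prop :=
  ∃ (V : Type u) (_ : AddCommGroup V) (_ : Module F V) (_ : FiniteDimensional F V)
    (Q : QuadraticForm F V) (A : V →ₗ[F] V) (k : ℕ),
    (polarBilin Q).Nondegenerate ∧ (∀ v, Q (A v) = Q v) ∧ (k : F) ≠ 0 ∧ Odd k ∧
    (∀ v, (A ^ k) v = v) ∧ A.charpoly = f ∧ (IsPlus Q ↔ plus)

theorem OReal.congr {f : F[X]} {P P' : Prop} (h : OReal f P) (hPP : P ↔ P') : OReal f P' := by
  obtain ⟨V, i1, i2, i3, Q, A, k, h1, h2, h3, h4, h5, h6, h7⟩ := h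
  exact ⟨V, i1, i2, i3, Q, A, k, h1, h2, h3, h4, h5, h6, h7.trans hPP⟩

theorem oreal_one : OReal (1 : F[X]) True := by
  refine ⟨PUnit.{u + 1}, inferInstance, inferInstance, inferInstance, 0, 0, 1,
    ?_, ?_, ?_, ?_, ?_, ?_, ?_⟩
  · exact ⟨fun x _ => Subsingleton.elim _ _, fun x _ => Subsingleton.elim _ _⟩
  · intro v; rfl
  · simp
  · exact odd_one
  · intro v; exact Subsingleton.elim _ _
  · apply eq_one_of_monic_natDegree_zero (LinearMap.charpoly_monic _)
    rw [LinearMap.charpoly_natDegree, Module.finrank_zero_of_subsingleton]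
  · refine iff_of_true ⟨⊥, fun u _ => rfl, ?_⟩ trivial
    rw [finrank_bot, Module.finrank_zero_of_subsingleton]

theorem OReal.mul [Finite F] {f g : F[X]} {P P' : Prop} (hf : OReal f P) (hg : OReal g P')
    (hef : Even f.natDegree) (heg : Even g.natDegree) : OReal (f * g) (P ↔ P') := by
  obtain ⟨V₁, iA₁, iM₁, iF₁, Q₁, A₁, k₁, h11, h12, h13, h14, h15, h16, h17⟩ := hf
  obtain ⟨V₂, iA₂, iM₂, iF₂, Q₂, A₂, k₂, h21, h22, h23, h24, h25, h26, h27⟩ := hg
  have hd1 : finrank F V₁ = f.natDegree := by rw [← h16, LinearMap.charpoly_natDegree]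
  have hd2 : finrank F V₂ = g.natDegree := by rw [← h26, LinearMap.charpoly_natDegree]
  refine ⟨V₁ × V₂, inferInstance, inferInstance, inferInstance, Q₁.prod Q₂, A₁.prodMap A₂,
    k₁ * k₂, prod_nondeg Q₁ Q₂ h11 h21, ?_, ?_, h14.mul h24, ?_, ?_, ?_⟩
  · intro v
    rw [prod_apply, prod_apply]
    show Q₁ (A₁ v.1) + Q₂ (A₂ v.2) = _
    rw [h12, h22]
  · rw [Nat.cast_mul]
    exact mul_ne_zero h13 h23
  · intro v
    rw [prodMap_pow_apply]
    have e1 : (A₁ ^ (k₁ * k₂)) v.1 = v.1 := by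
      have : ∀ j : ℕ, ((A₁ ^ k₁) ^ j) v.1 = v.1 := by
        intro j
        induction j with
        | zero => simp
        | succ j ih => rw [pow_succ, Module.End.mul_apply, h15, ih]
      rw [pow_mul]
      exact this k₂
    have e2 : (A₂ ^ (k₁ * k₂)) v.2 = v.2 := by
      have : ∀ j : ℕ, ((A₂ ^ k₂) ^ j) v.2 = v.2 := by
        intro j
        induction j with
        | zero => simp
        | succ j ih => rw [pow_succ, Module.End.mul_apply, h25, ih]
      rw [mul_comm, pow_mul]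
      exact this k₁
    rw [e1, e2]
  · rw [LinearMap.charpoly_prodMap, h16, h26]
  · rw [isPlus_prod_iff h11 h21 (by rw [hd1]; exact hef) (by rw [hd2]; exact heg), h17, h27]

theorem charpoly_inv_eq_rc_matrix' {n : Type*} [Fintype n] [DecidableEq n]
    (M N : Matrix n n F) (hMN : M * N = 1) :
    N.charpoly = rc M.charpoly := by
  have hNinv : N = M⁻¹ := (Matrix.inv_eq_right_inv hMN).symm
  have hMu : IsUnit M := ⟨⟨M, N, hMN, mul_eq_one_comm.1 hMN⟩, rfl⟩
  have hdet : M.det ≠ 0 := by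
    have := (Matrix.isUnit_iff_isUnit_det M).1 hMu
    exact this.ne_zero
  rw [hNinv, Matrix.charpoly_inv M hMu, rc, ← Matrix.reverse_charpoly]
  have h3 : M.charpoly.coeff 0 = (-1) ^ Fintype.card n * M.det := by
    rw [Matrix.det_eq_sign_charpoly_coeff M, ← mul_assoc, ← mul_pow]
    simp
  rw [h3, Ring.inverse_eq_inv', mul_inv, C_mul]
  congr 2
  rw [← inv_pow]
  simp

open Cfsg.Agent.Lib.Helper5.QuadGlue Cfsg.Agent.Lib.Helper5.PlusLevi in
theorem oreal_hyp {d : ℕ} (M : GL (Fin d) F) (k : ℕ) (hk : (k : F) ≠ 0) (hodd : Odd k)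
    (hMk : M ^ k = 1) :
    OReal ((M : Matrix (Fin d) (Fin d) F).charpoly * rc (M : Matrix (Fin d) (Fin d) F).charpoly)
      True := by
  refine ⟨(Fin d ⊕ Fin d → F), inferInstance, inferInstance, inferInstance, QP d F,
    Matrix.toLin' ((leviGL M : GL (Fin d ⊕ Fin d) F) : Matrix (Fin d ⊕ Fin d) (Fin d ⊕ Fin d) F),
    k, Cfsg.Agent.Lib.Helper2.QuadStd.QP_nondeg d, ?_, hk, hodd, ?_, ?_, ?_⟩
  · intro v
    rw [Matrix.toLin'_apply]
    exact leviGL_iso M v
  · intro v
    rw [← Matrix.toLin'_pow, ← Units.val_pow_eq_pow_val]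
    have h1 : (leviGL M) ^ k = 1 := by
      have h2 : ((levi M : ↥(Cfsg.isometryGroup F ⇑(QP d F))) : GL (Fin d ⊕ Fin d) F) =
        leviGL M := rfl
      rw [← h2, ← SubgroupClass.coe_pow, ← map_pow, hMk, map_one]
      rfl
    rw [h1, Units.val_one, Matrix.toLin'_one]
    rfl
  · rw [Matrix.charpoly_toLin', leviGL_coe, Matrix.charpoly_fromBlocks_zero₁₂,
      Matrix.charpoly_transpose]
    congr 1
    apply charpoly_inv_eq_rc_matrix'
    exact Units.mul_inv M
  · exact iff_of_true (isPlus_QP d) trivial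

/-- transporting an isometry of an abstract quadratic space to a matrix isometry of a standard
form, along a similarity -/
theorem transport {ι : Type} [Fintype ι] [DecidableEq ι] {V : Type u} [AddCommGroup V]
    [Module F V] [FiniteDimensional F V] (Q : QuadraticForm F V) (A : V →ₗ[F] V)
    (Q₀ : (ι → F) → F) (c : F) (g : V ≃ₗ[F] (ι → F)) (hg : ∀ v, Q₀ (g v) = c * Q v)
    (hQA : ∀ v, Q (A v) = Q v) (k : ℕ) (hk : 0 < k) (hAk : ∀ v, (A ^ k) v = v) :
    ∃ M : ↥(Cfsg.isometryGroup F Q₀), M ^ k = 1 ∧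
      ((M : GL ι F) : Matrix ι ι F).charpoly = A.charpoly := by
  set B : Module.End F (ι → F) := g.conj A with hB
  have hBa : ∀ w, B w = g (A (g.symm w)) := fun w => by
    rw [hB, LinearEquiv.conj_apply]
    rfl
  have hBpow : ∀ (j : ℕ) (w : ι → F), (B ^ j) w = g ((A ^ j) (g.symm w)) := by
    intro j
    induction j with
    | zero => intro w; simp
    | succ j ih =>
      intro w
      rw [pow_succ, Module.End.mul_apply, ih, hBa, LinearEquiv.symm_apply_apply, pow_succ,
        Module.End.mul_apply]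
  have hBk : B ^ k = 1 := by
    apply LinearMap.ext
    intro w
    rw [hBpow, hAk, LinearEquiv.apply_symm_apply]
    rfl
  set Mm : Matrix ι ι F := LinearMap.toMatrix' B with hMm
  have hMk : Mm ^ k = 1 := by
    apply Matrix.toLin'.injective
    rw [Matrix.toLin'_pow, hMm, Matrix.toLin'_toMatrix', hBk, Matrix.toLin'_one]
    rfl
  obtain ⟨k', rfl⟩ : ∃ k', k = k' + 1 := ⟨k - 1, by omega⟩
  set Mu : GL ι F := ⟨Mm, Mm ^ k', by rw [← pow_succ', hMk], by rw [← pow_succ, hMk]⟩ with hMu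
  have hmem : Mu ∈ Cfsg.isometryGroup F Q₀ := by
    intro u v
    show Q₀ (Matrix.mulVec Mm u) = Q₀ u
    rw [hMm, LinearMap.toMatrix'_mulVec, hBa, hg, hQA, ← hg, LinearEquiv.apply_symm_apply]
  refine ⟨⟨Mu, hmem⟩, ?_, ?_⟩
  · apply Subtype.ext
    apply Units.ext
    rw [SubgroupClass.coe_pow, Units.val_pow_eq_pow_val]
    exact hMk
  · show Mm.charpoly = A.charpoly
    rw [← LinearEquiv.charpoly_conj g A, ← Matrix.charpoly_toLin', hMm, Matrix.toLin'_toMatrix']

end Cfsg.Agent.Lib.Helper5.OrthCls
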