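import Mathlib

set_option autoImplicit false

/-!
Counting lemmas: stars and bars, and functions invariant under a fixed-point-free involution.
-/

namespace Cfsg.Agent.Lib.Helper5.SSOrder

open Finset

/-- stars and bars -/
theorem stars_bars (κ : Type*) [Fintype κ] (M : ℕ) :
    Nat.card {b : κ → ℕ // ∑ x, b x ≤ M} = (M + Fintype.card κ).choose (Fintype.card κ) := by
  classical
  have e : {b : κ → ℕ // ∑ x, b x ≤ M} ≃ {P : Option κ → ℕ // ∑ o, P o = M} :=
    { toFun := fun b => ⟨fun o => o.elim (M - ∑ x, b.1 x) b.1, by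
        rw [Fintype.sum_option]
        simp only [Option.elim]
        have := b.2
        omega⟩
      invFun := fun P => ⟨fun x => P.1 (some x), by
        show ∑ x, P.1 (some x) ≤ M
        have := P.2
        rw [Fintype.sum_option] at this
        omega⟩
      left_inv := fun b => by
        apply Subtype.ext
        funext x
        rfl
      right_inv := fun P => by
        apply Subtype.ext
        funext o
        rcases o with _ | x
        · simp only [Option.elim]
          have := P.2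
          rw [Fintype.sum_option] at this
          omega
        · rfl }
  rw [Nat.card_congr e, Nat.card_congr (Sym.equivNatSumOfFintype (Option κ) M).symm,
    Nat.card_eq_fintype_card, Sym.card_sym_eq_choose, Fintype.card_option]
  have : Fintype.card κ + 1 + M - 1 = Fintype.card κ + M := by omega
  rw [this, add_comm (Fintype.card κ) M, Nat.choose_symm_add]

/-- a fixed-point-free involution has a set of orbit representatives -/
theorem exists_reps {ι : Type*} [Fintype ι] [DecidableEq ι] (τ : ι → ι) (hτ : ∀ x, τ (τ x) = x)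
    (hfree : ∀ x, τ x ≠ x) :
    ∃ J : Finset ι, (∀ x, x ∈ J ↔ τ x ∉ J) := by
  set e := Fintype.equivFin ι with he
  refine ⟨Finset.univ.filter (fun x => e x < e (τ x)), ?_⟩
  intro x
  simp only [Finset.mem_filter, Finset.mem_univ, true_and, hτ, not_lt]
  have hne : e x ≠ e (τ x) := fun h => hfree x (e.injective h).symm
  constructor
  · intro h; exact h.le
  · intro h; exact lt_of_le_of_ne h hne

theorem sum_eq_two_mul {ι : Type*} [Fintype ι] [DecidableEq ι] (τ : ι → ι)
    (hτ : ∀ x, τ (τ x) = x) (J : Finset ι) (hJ : ∀ x, x ∈ J ↔ τ x ∉ J) (a : ι → ℕ)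
    (ha : ∀ x, a (τ x) = a x) : ∑ x, a x = 2 * ∑ x ∈ J, a x := by
  rw [← Finset.sum_add_sum_compl J a, two_mul]
  congr 1
  symm
  apply Finset.sum_bij (fun x _ => τ x)
  · intro x hx
    rw [Finset.mem_compl]
    exact (hJ x).1 hx
  · intro x _ y _ hxy
    have := congrArg τ hxy
    rwa [hτ, hτ] at this
  · intro y hy
    rw [Finset.mem_compl] at hy
    refine ⟨τ y, ?_, hτ y⟩
    rw [hJ, hτ]
    exact hy
  · intro x _
    exact (ha x).symm

/-- extension of a function on representatives to an invariant function -/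
def extFun {ι : Type*} [DecidableEq ι] (τ : ι → ι) (hτ : ∀ x, τ (τ x) = x) (J : Finset ι)
    (hJ : ∀ x, x ∈ J ↔ τ x ∉ J) (b : J → ℕ) : ι → ℕ :=
  fun x => if h : x ∈ J then b ⟨x, h⟩ else b ⟨τ x, by rw [hJ, hτ]; exact h⟩

theorem extFun_of_mem {ι : Type*} [DecidableEq ι] (τ : ι → ι) (hτ : ∀ x, τ (τ x) = x)
    (J : Finset ι) (hJ : ∀ x, x ∈ J ↔ τ x ∉ J) (b : J → ℕ) (x : ι) (hx : x ∈ J) :
    extFun τ hτ J hJ b x = b ⟨x, hx⟩ := by
  rw [extFun, dif_pos hx]

theorem extFun_of_not_mem {ι : Type*} [DecidableEq ι] (τ : ι → ι) (hτ : ∀ x, τ (τ x) = x)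
    (J : Finset ι) (hJ : ∀ x, x ∈ J ↔ τ x ∉ J) (b : J → ℕ) (x : ι) (hx : x ∉ J) :
    extFun τ hτ J hJ b x = b ⟨τ x, by rw [hJ, hτ]; exact hx⟩ := by
  rw [extFun, dif_neg hx]

theorem extFun_inv {ι : Type*} [DecidableEq ι] (τ : ι → ι) (hτ : ∀ x, τ (τ x) = x)
    (J : Finset ι) (hJ : ∀ x, x ∈ J ↔ τ x ∉ J) (b : J → ℕ) (x : ι) :
    extFun τ hτ J hJ b (τ x) = extFun τ hτ J hJ b x := by
  by_cases hx : x ∈ J
  · have hx' : τ x ∉ J := (hJ x).1 hx
    rw [extFun_of_mem τ hτ J hJ b x hx, extFun_of_not_mem τ hτ J hJ b (τ x) hx']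
    congr 1
    exact Subtype.ext (hτ x)
  · have hx' : τ x ∈ J := by rw [hJ, hτ]; exact hx
    rw [extFun_of_not_mem τ hτ J hJ b x hx, extFun_of_mem τ hτ J hJ b (τ x) hx']

/-- counting invariant functions for a fixed-point-free involution -/
theorem card_invariant_free {ι : Type*} [Fintype ι] [DecidableEq ι] (τ : ι → ι)
    (hτ : ∀ x, τ (τ x) = x) (hfree : ∀ x, τ x ≠ x) (L : ℕ) :
    Nat.card {a : ι → ℕ // (∀ x, a (τ x) = a x) ∧ ∑ x, a x ≤ L} =
      (L / 2 + Fintype.card ι / 2).choose (Fintype.card ι / 2) := by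
  obtain ⟨J, hJ⟩ := exists_reps τ hτ hfree
  have hcard : Fintype.card ι = 2 * J.card := by
    have := sum_eq_two_mul τ hτ J hJ (fun _ => 1) (fun _ => rfl)
    simpa using this
  have hsumJ : ∀ b : J → ℕ, ∑ x ∈ J, extFun τ hτ J hJ b x = ∑ x : J, b x := by
    intro b
    rw [← Finset.sum_coe_sort J]
    apply Finset.sum_congr rfl
    intro x _
    rw [extFun_of_mem τ hτ J hJ b x.1 x.2]
  have e : {a : ι → ℕ // (∀ x, a (τ x) = a x) ∧ ∑ x, a x ≤ L} ≃
      {b : J → ℕ // ∑ x, b x ≤ L / 2} :=
    { toFun := fun a => ⟨fun x => a.1 x.1, by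
        have h1 := sum_eq_two_mul τ hτ J hJ a.1 a.2.1
        have h2 := a.2.2
        rw [Finset.sum_coe_sort J a.1]
        omega⟩
      invFun := fun b => ⟨extFun τ hτ J hJ b.1, extFun_inv τ hτ J hJ b.1, by
        have h1 := sum_eq_two_mul τ hτ J hJ _ (extFun_inv τ hτ J hJ b.1)
        rw [h1, hsumJ]
        have := b.2
        omega⟩
      left_inv := fun a => by
        apply Subtype.ext
        funext x
        by_cases hx : x ∈ J
        · exact extFun_of_mem τ hτ J hJ _ x hx
        · show extFun τ hτ J hJ (fun x => a.1 x.1) x = a.1 x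
          rw [extFun_of_not_mem τ hτ J hJ _ x hx]
          exact a.2.1 x
      right_inv := fun b => by
        apply Subtype.ext
        funext x
        exact extFun_of_mem τ hτ J hJ b.1 x.1 x.2 }
  rw [Nat.card_congr e, stars_bars, Fintype.card_coe, hcard]
  have : 2 * J.card / 2 = J.card := by omega
  rw [this]

/-- counting all functions with bounded sum, phrased with a trivial invariance condition -/
theorem card_invariant_trivial {ι : Type*} [Fintype ι] (τ : ι → ι) (hτ : ∀ x, τ x = x) (L : ℕ) :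
    Nat.card {a : ι → ℕ // (∀ x, a (τ x) = a x) ∧ ∑ x, a x ≤ L} =
      (L + Fintype.card ι).choose (Fintype.card ι) := by
  rw [← stars_bars]
  apply Nat.card_congr
  exact Equiv.subtypeEquivRight (fun a => by
    constructor
    · intro h; exact h.2
    · intro h; exact ⟨fun x => by rw [hτ], h⟩)

end Cfsg.Agent.Lib.Helper5.SSOrder
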