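import Mathlib
import Cfsg.Agent.Lib.Helper5.SpReal1

set_option autoImplicit false

namespace Cfsg.Agent.Lib.Helper5.SpReal

open Polynomial Module Cfsg.Agent.Lib.Helper5.Pal

universe u

variable {F : Type u} [Field F]

theorem charpoly_inv_eq_rc {V : Type*} [AddCommGroup V] [Module F V] [FiniteDimensional F V]
    (T S : Module.End F V) (hTS : T * S = 1) : S.charpoly = rc T.charpoly := by
  classical
  set b := Module.finBasis F V with hb
  set M := LinearMap.toMatrix b b T with hM
  set N := LinearMap.toMatrix b b S with hN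
  have hMN : M * N = 1 := by
    rw [hM, hN, ← LinearMap.toMatrix_mul, hTS, Module.End.one_eq_id, LinearMap.toMatrix_id]
  have hNinv : N = M⁻¹ := (Matrix.inv_eq_right_inv hMN).symm
  have hMu : IsUnit M := ⟨⟨M, N, hMN, mul_eq_one_comm.1 hMN⟩, rfl⟩
  have hdet : M.det ≠ 0 := by
    have := (Matrix.isUnit_iff_isUnit_det M).1 hMu
    exact this.ne_zero
  have h1 : S.charpoly = N.charpoly := (LinearMap.charpoly_toMatrix S b).symm
  have h2 : T.charpoly = M.charpoly := (LinearMap.charpoly_toMatrix T b).symm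
  rw [h1, h2, hNinv, Matrix.charpoly_inv M hMu, rc, ← Matrix.reverse_charpoly]
  have h3 : M.charpoly.coeff 0 = (-1) ^ Fintype.card (Fin (finrank F V)) * M.det := by
    rw [Matrix.det_eq_sign_charpoly_coeff M, ← mul_assoc, ← mul_pow]
    simp
  rw [h3, Ring.inverse_eq_inv', mul_inv, C_mul]
  congr 2
  rw [← inv_pow]
  simp

section adjoin

variable [Finite F]

theorem root_ne_zero (φ : F[X]) (hm : φ.Monic) (hirr : Irreducible φ) (h0 : φ.coeff 0 ≠ 0) :
    AdjoinRoot.root φ ≠ 0 := by
  intro h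
  rw [← AdjoinRoot.mk_X, AdjoinRoot.mk_eq_zero] at h
  have h1 : Associated φ X := hirr.associated_of_dvd Polynomial.irreducible_X h
  have h2 : φ = X := eq_of_monic_of_associated hm monic_X h1
  rw [h2, coeff_X_zero] at h0
  exact h0 rfl

theorem realizable_mul_rc (φ : F[X]) (hm : φ.Monic) (hirr : Irreducible φ) (h0 : φ.coeff 0 ≠ 0) :
    Realizable (φ * rc φ) := by
  haveI : Fact (Irreducible φ) := ⟨hirr⟩
  have hφ0 : φ ≠ 0 := hirr.ne_zero
  haveI : Module.Finite F (AdjoinRoot φ) := (AdjoinRoot.powerBasis hφ0).finite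
  haveI : Finite (AdjoinRoot φ) := Module.finite_of_finite F
  have hr := root_ne_zero φ hm hirr h0
  have h1 := realizable_pair (F := F) (AdjoinRoot.root φ) hr
  have h2 : (LinearMap.mulLeft F (AdjoinRoot.root φ)).charpoly = φ := by
    rw [charpoly_mulRoot φ hφ0, hm.leadingCoeff, inv_one, C_1, mul_one]
  have h3 : (LinearMap.mulLeft F (AdjoinRoot.root φ)⁻¹).charpoly = rc φ := by
    rw [charpoly_inv_eq_rc (LinearMap.mulLeft F (AdjoinRoot.root φ))
      (LinearMap.mulLeft F (AdjoinRoot.root φ)⁻¹) ?_, h2]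
    apply LinearMap.ext
    intro v
    rw [Module.End.mul_apply, LinearMap.mulLeft_apply, LinearMap.mulLeft_apply, ← mul_assoc,
      mul_inv_cancel₀ hr, one_mul]
    rfl
  rw [h2, h3] at h1
  exact h1

theorem realizable_selfrc (φ : F[X]) (hm : φ.Monic) (hirr : Irreducible φ) (h0 : φ.coeff 0 ≠ 0)
    (hrc : rc φ = φ) (hdeg : 2 ≤ φ.natDegree) : Realizable φ := by
  haveI : Fact (Irreducible φ) := ⟨hirr⟩
  have hφ0 : φ ≠ 0 := hirr.ne_zero
  haveI : Module.Finite F (AdjoinRoot φ) := (AdjoinRoot.powerBasis hφ0).finite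
  haveI : Finite (AdjoinRoot φ) := Module.finite_of_finite F
  set α := AdjoinRoot.root φ with hα
  have hr : α ≠ 0 := root_ne_zero φ hm hirr h0
  have h2 : (LinearMap.mulLeft F α).charpoly = φ := by
    rw [hα, charpoly_mulRoot φ hφ0, hm.leadingCoeff, inv_one, C_1, mul_one]
  -- α⁻¹ is a root of φ
  have hrev : φ.reverse = C (φ.coeff 0) * φ := by
    have : C (φ.coeff 0) * rc φ = φ.reverse := by
      rw [rc, ← mul_assoc, ← C_mul, mul_inv_cancel₀ h0, C_1, one_mul]
    rw [hrc] at this
    exact this.symm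
  have hroot : aeval α⁻¹ φ = 0 := by
    letI : Invertible α := invertibleOfNonzero hr
    have h3 : eval₂ (algebraMap F (AdjoinRoot φ)) (⅟α) (reverse φ) = 0 := by
      rw [eval₂_reverse_eq_zero_iff]
      exact AdjoinRoot.eval₂_root φ
    rw [invOf_eq_inv, hrev, eval₂_mul, eval₂_C] at h3
    rcases mul_eq_zero.1 h3 with h4 | h4
    · exfalso
      rw [map_eq_zero] at h4
      exact h0 h4
    · exact h4
  set σ : AdjoinRoot φ →ₐ[F] AdjoinRoot φ := AdjoinRoot.liftAlgHom φ (Algebra.ofId F _) α⁻¹ hroot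
    with hσ
  have hσα : σ α = α⁻¹ := AdjoinRoot.liftAlgHom_root φ (Algebra.ofId F _) α⁻¹ hroot
  have hσ2 : ∀ x, σ (σ x) = x := by
    intro x
    have : σ.comp σ = AlgHom.id F (AdjoinRoot φ) := by
      apply AdjoinRoot.algHom_ext
      rw [AlgHom.comp_apply, ← hα, hσα, map_inv₀, hσα, inv_inv]
      rfl
    have h4 := congrArg (fun f : AdjoinRoot φ →ₐ[F] AdjoinRoot φ => f x) this
    exact h4
  have hne : ∃ x, σ x ≠ x := by
    refine ⟨α, ?_⟩
    rw [hσα]
    intro h
    have h5 : α * α - 1 = 0 := by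
      rw [sub_eq_zero]
      nth_rewrite 1 [← h]
      exact inv_mul_cancel₀ hr
    have h6 : AdjoinRoot.mk φ (X * X - 1) = 0 := by
      rw [map_sub, map_mul, AdjoinRoot.mk_X, map_one]
      exact h5
    rw [AdjoinRoot.mk_eq_zero] at h6
    have h7 : (X * X - 1 : F[X]) = (X - 1) * (X + 1) := by ring
    rw [h7] at h6
    have hprime : Prime φ := hirr.prime
    rcases hprime.dvd_or_dvd h6 with h8 | h8
    · have := natDegree_le_of_dvd h8 (X_sub_C_ne_zero (1 : F) |> fun h => by simpa using h)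
      have h9 : (X - 1 : F[X]).natDegree ≤ 1 := by
        have := natDegree_X_sub_C_le (1 : F)
        simpa using this
      omega
    · have := natDegree_le_of_dvd h8 (X_add_C_ne_zero (1 : F) |> fun h => by simpa using h)
      have h9 : (X + 1 : F[X]).natDegree ≤ 1 := by
        have := natDegree_X_add_C (1 : F)
        simp only [map_one] at this
        omega
      omega
  have := realizable_self (F := F) α hr σ hσ2 hσα hne
  rwa [h2] at this

end adjoin

end Cfsg.Agent.Lib.Helper5.SpReal
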