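import Mathlib
import Cfsg.Agent.Lib.Helper5.SpReal2
import Cfsg.Agent.Lib.Helper5.AltForm2

set_option autoImplicit false

namespace Cfsg.Agent.Lib.Helper5.SpReal

open Polynomial Module Cfsg.Agent.Lib.Helper5.Pal

universe u

variable {F : Type u} [Field F]

theorem Realizable.even_natDegree {f : F[X]} (hf : Realizable f) : Even f.natDegree := by
  obtain ⟨V, iA, iM, iF, ω, A, k, h1, h2, h3, h4, h5, h6⟩ := hf
  rw [← h6, LinearMap.charpoly_natDegree]
  exact AltForm.even_finrank_of_nondegenerate h1 h2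

theorem realizable_of_pal [Finite F] : ∀ (n : ℕ) (f : F[X]), f.Monic → f.natDegree = 2 * n →
    f.reverse = f → Realizable f := by
  intro n
  induction n using Nat.strong_induction_on with
  | _ n ih =>
  intro f hm hdeg hrev
  rcases Nat.eq_zero_or_pos n with rfl | hpos
  · have : f = 1 := eq_one_of_monic_natDegree_zero hm (by rw [hdeg])
    rw [this]
    exact realizable_one
  have hnu : ¬ IsUnit f := by
    intro h
    have := natDegree_eq_zero_of_isUnit h
    omega
  obtain ⟨φ, hφm, hφirr, hφd⟩ := exists_monic_irreducible_factor f hnu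
  have hf0 : f.coeff 0 = 1 := by
    have := coeff_zero_reverse f
    rw [hrev, hm.leadingCoeff] at this
    exact this
  have hφ0 : φ.coeff 0 ≠ 0 := by
    intro h
    have h1 : X ∣ φ := X_dvd_iff.2 h
    have h2 : X ∣ f := h1.trans hφd
    rw [X_dvd_iff, hf0] at h2
    exact one_ne_zero h2
  have hdφ : 1 ≤ φ.natDegree := hφirr.natDegree_pos
  have hfne : f ≠ 0 := hm.ne_zero
  by_cases hd : φ * rc φ ∣ f
  · obtain ⟨g, hg⟩ := hd
    have hu0 : φ * rc φ ≠ 0 := mul_ne_zero hφirr.ne_zero (rc_monic hφ0).ne_zero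
    have hgrev : g.reverse = g := reverse_quot hu0 hrev (reverse_mul_rc hφ0) hg
    have hum : (φ * rc φ).Monic := hφm.mul (rc_monic hφ0)
    have hgm : g.Monic := by
      rw [hg] at hm
      exact hum.of_mul_monic_left hm
    have hgdeg : g.natDegree = 2 * (n - φ.natDegree) := by
      have h1 : f.natDegree = (φ * rc φ).natDegree + g.natDegree := by
        rw [hg, natDegree_mul hu0 hgm.ne_zero]
      rw [natDegree_mul hφirr.ne_zero (rc_monic hφ0).ne_zero, rc_natDegree hφ0] at h1
      omega
    have hR := ih (n - φ.natDegree) (by omega) g hgm hgdeg hgrev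
    rw [hg]
    exact (realizable_mul_rc φ hφm hφirr hφ0).mul hR
  · have hrc : rc φ = φ := by
      by_contra hne
      apply hd
      exact (isCoprime_rc hφirr hφm hφ0 hne).mul_dvd hφd (rc_dvd_of_dvd hφ0 hrev hφd)
    have haa : φ.coeff 0 * φ.coeff 0 = 1 := by
      have := coeff_zero_rc hφm
      rw [hrc] at this
      nth_rewrite 1 [this]
      exact inv_mul_cancel₀ hφ0
    have h2 : 2 ≤ φ.natDegree := by
      by_contra hlt
      have h1 : φ.natDegree = 1 := by omega
      have hφeq := hφm.eq_X_add_C h1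
      apply hd
      set c : F := -φ.coeff 0 with hc
      have hcc : c * c = 1 := by rw [hc]; linear_combination haa
      have hφc : φ = X - C c := by
        rw [hc, C_neg, sub_neg_eq_add]
        exact hφeq
      have hroot : f.eval c = 0 := by
        obtain ⟨g, hg⟩ := hφd
        rw [hg, eval_mul, hφc, eval_sub, eval_X, eval_C, sub_self, zero_mul]
      have := sq_dvd_of_root hdeg hrev hcc hroot
      rw [hrc, hφc, ← pow_two]
      exact this
    have hφ1 : φ.eval 1 ≠ 0 := by
      intro h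
      have h1 : X - C (1 : F) ∣ φ := dvd_iff_isRoot.2 h
      have h3 : Associated (X - C (1 : F)) φ :=
        (irreducible_X_sub_C (1 : F)).associated_of_dvd hφirr h1
      have h4 := eq_of_monic_of_associated (monic_X_sub_C (1 : F)) hφm h3
      rw [← h4, natDegree_X_sub_C] at h2
      omega
    have hφrev : φ.reverse = φ := reverse_eq_of_rc_eq hφ0 hrc hφ1
    have hRφ := realizable_selfrc φ hφm hφirr hφ0 hrc h2
    obtain ⟨d, hd2⟩ := hRφ.even_natDegree
    obtain ⟨g, hg⟩ := hφd
    have hgrev : g.reverse = g := reverse_quot hφirr.ne_zero hrev hφrev hg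
    have hgm : g.Monic := by
      rw [hg] at hm
      exact hφm.of_mul_monic_left hm
    have hgdeg : g.natDegree = 2 * (n - d) := by
      have h1 : f.natDegree = φ.natDegree + g.natDegree := by
        rw [hg, natDegree_mul hφirr.ne_zero hgm.ne_zero]
      omega
    have hR := ih (n - d) (by omega) g hgm hgdeg hgrev
    rw [hg]
    exact hRφ.mul hR

theorem Realizable.exists_matrix {f : F[X]} (hf : Realizable f) (n : ℕ)
    (hn : f.natDegree = 2 * n) :
    ∃ (g : Matrix (Fin n ⊕ Fin n) (Fin n ⊕ Fin n) F) (k : ℕ),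
      g ∈ Matrix.symplecticGroup (Fin n) F ∧ g.charpoly = f ∧ (k : F) ≠ 0 ∧ g ^ k = 1 := by
  classical
  obtain ⟨V, iA, iM, iF, ω, A, k, h1, h2, h3, h4, h5, h6⟩ := hf
  have hfr : finrank F V = 2 * n := by
    rw [← hn, ← h6, LinearMap.charpoly_natDegree]
  obtain ⟨m, b, hm, hb⟩ := AltForm.exists_symplectic_basis h1 h2
  obtain rfl : m = n := by omega
  refine ⟨LinearMap.toMatrix b b A, k, ?_, ?_, h4, ?_⟩
  · rw [Cfsg.Agent.Lib.Helper1.SpCard.mem_symplectic_iff_form]
    intro x y
    have hx : x = b.repr (b.repr.symm (Finsupp.equivFunOnFinite.symm x)) := by simp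
    have hy : y = b.repr (b.repr.symm (Finsupp.equivFunOnFinite.symm y)) := by simp
    set u := b.repr.symm (Finsupp.equivFunOnFinite.symm x) with hu
    set v := b.repr.symm (Finsupp.equivFunOnFinite.symm y) with hv
    rw [hx, hy, LinearMap.toMatrix_mulVec_repr, LinearMap.toMatrix_mulVec_repr,
      ← AltForm.form_eq_sympForm ω b hb, ← AltForm.form_eq_sympForm ω b hb, h3]
  · rw [LinearMap.charpoly_toMatrix, h6]
  · rw [LinearMap.toMatrix_pow]
    have : A ^ k = 1 := LinearMap.ext h5
    rw [this, Module.End.one_eq_id, LinearMap.toMatrix_id]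

theorem reverse_charpoly_of_mem_symplectic {n : ℕ}
    (g : Matrix (Fin n ⊕ Fin n) (Fin n ⊕ Fin n) F) (hg : g ∈ Matrix.symplecticGroup (Fin n) F) :
    g.charpoly.reverse = g.charpoly := by
  classical
  have hdet : g.det = 1 := SymplecticGroup.det_eq_one hg
  have hu : IsUnit g := (Matrix.isUnit_iff_isUnit_det g).2 (by rw [hdet]; exact isUnit_one)
  have h1 := Matrix.charpoly_inv g hu
  rw [hdet, Ring.inverse_one, C_1, mul_one] at h1
  have hcard : Fintype.card (Fin n ⊕ Fin n) = 2 * n := by
    rw [Fintype.card_sum, Fintype.card_fin]; ring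
  rw [hcard, pow_mul, neg_one_sq, one_pow, one_mul] at h1
  rw [Matrix.reverse_charpoly, ← h1, SymplecticGroup.inv_eq_symplectic_inv g hg]
  -- charpoly (-J * gᵀ * J) = charpoly g
  have hJ : (Matrix.J (Fin n) F) * (-Matrix.J (Fin n) F) = 1 := by
    rw [mul_neg, Matrix.J_squared, neg_neg]
  have hJ' : (-Matrix.J (Fin n) F) * (Matrix.J (Fin n) F) = 1 := by
    rw [neg_mul, Matrix.J_squared, neg_neg]
  have h2 := Matrix.charpoly_units_conj
    (⟨-Matrix.J (Fin n) F, Matrix.J (Fin n) F, hJ', hJ⟩ :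
      (Matrix (Fin n ⊕ Fin n) (Fin n ⊕ Fin n) F)ˣ) g.transpose
  have hinv : (-Matrix.J (Fin n) F)⁻¹ = Matrix.J (Fin n) F := Matrix.inv_eq_right_inv hJ'
  rw [Matrix.charpoly_transpose] at h2
  simp only [hinv] at h2
  exact h2

end Cfsg.Agent.Lib.Helper5.SpReal
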