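import Mathlib
import Cfsg.Agent.Lib.Helper5.PalPoly
import Cfsg.Agent.Lib.Helper5.SpReal3

set_option autoImplicit false

namespace Cfsg.Agent.Lib.Helper5.SSOrder

open Polynomial UniqueFactorizationMonoid
open Cfsg.Agent.Lib.Helper5.Pal Cfsg.Agent.Lib.Helper5.SpReal

universe u

variable {F : Type u} [Field F]

open Classical in
/-- the monic irreducible factors of the `r`-th cyclotomic polynomial -/
noncomputable def cycFactors (r : ℕ) (F : Type u) [Field F] : Finset F[X] :=
  (normalizedFactors (cyclotomic r F)).toFinset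

theorem mem_cycFactors {r : ℕ} {φ : F[X]} :
    φ ∈ cycFactors r F ↔ φ.Monic ∧ Irreducible φ ∧ φ ∣ cyclotomic r F := by
  classical
  rw [cycFactors, Multiset.mem_toFinset, mem_normalizedFactors_iff' (cyclotomic_ne_zero r F)]
  constructor
  · rintro ⟨h1, h2, h3⟩
    refine ⟨?_, h1, h3⟩
    rw [← h2]
    exact Polynomial.monic_normalize h1.ne_zero
  · rintro ⟨h1, h2, h3⟩
    exact ⟨h2, h1.normalize_eq_self, h3⟩

theorem rc_rc {φ : F[X]} (hm : φ.Monic) (h0 : φ.coeff 0 ≠ 0) : rc (rc φ) = φ := by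
  have h1 : (rc φ).coeff 0 = (φ.coeff 0)⁻¹ := coeff_zero_rc hm
  rw [rc, h1, inv_inv]
  rw [rc, reverse_mul_of_domain, reverse_C, Pal.reverse_reverse h0, ← mul_assoc, ← C_mul,
    mul_inv_cancel₀ h0, C_1, one_mul]

theorem rc_mul {f g : F[X]} : rc (f * g) = rc f * rc g := by
  rw [rc, rc, rc, reverse_mul_of_domain, mul_coeff_zero, mul_inv, C_mul]
  ring

theorem rc_one : rc (1 : F[X]) = 1 := by
  rw [rc, ← C_1, reverse_C, coeff_C_zero, inv_one, C_1, one_mul]

theorem rc_pow (f : F[X]) (n : ℕ) : rc (f ^ n) = rc f ^ n := by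
  induction n with
  | zero => rw [pow_zero, pow_zero, rc_one]
  | succ n ih => rw [pow_succ, pow_succ, rc_mul, ih]

theorem rc_prod {ι : Type*} (s : Finset ι) (f : ι → F[X]) :
    rc (∏ x ∈ s, f x) = ∏ x ∈ s, rc (f x) := by
  classical
  induction s using Finset.induction_on with
  | empty => rw [Finset.prod_empty, Finset.prod_empty, rc_one]
  | insert a s ha ih => rw [Finset.prod_insert ha, Finset.prod_insert ha, rc_mul, ih]

theorem rc_X_sub_one : rc (X - 1 : F[X]) = X - 1 := by
  have h1 : (X - 1 : F[X]) = X + C (-1) := by rw [C_neg, C_1, sub_eq_add_neg]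
  have h2 : (X - 1 : F[X]).reverse = 1 - X := by
    have hX : (X : F[X]).reverse = 1 := by
      have := reverse_X_mul (1 : F[X])
      rw [mul_one] at this
      rw [this, ← C_1, reverse_C]
    rw [h1, reverse_add_C, hX, natDegree_X, C_neg, C_1]
    ring
  rw [rc, h2]
  have : (X - 1 : F[X]).coeff 0 = -1 := by
    rw [coeff_sub, coeff_X_zero, coeff_one_zero, zero_sub]
  rw [this, inv_neg, inv_one, C_neg, C_1]
  ring

theorem irreducible_rc {φ : F[X]} (hirr : Irreducible φ) (h0 : φ.coeff 0 ≠ 0) :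
    Irreducible (rc φ) := by
  have hφ0 : φ ≠ 0 := hirr.ne_zero
  have hψ0 : (rc φ).coeff 0 ≠ 0 := by
    rw [rc, coeff_C_mul, coeff_zero_reverse]
    exact mul_ne_zero (inv_ne_zero h0) (leadingCoeff_ne_zero.2 hφ0)
  have hψne : rc φ ≠ 0 := by
    intro h
    rw [h, coeff_zero] at hψ0
    exact hψ0 rfl
  have hdeg : (rc φ).natDegree = φ.natDegree := rc_natDegree h0
  have hrev : (rc φ).reverse = C (φ.coeff 0)⁻¹ * φ := by
    rw [rc, reverse_mul_of_domain, reverse_C, Pal.reverse_reverse h0]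
  have key : ∀ a b : F[X], rc φ = a * b → IsUnit (b.reverse) → IsUnit b := by
    intro a b hab hu
    have hb0 : b.coeff 0 ≠ 0 := by
      intro hb
      rw [hab, mul_coeff_zero, hb, mul_zero] at hψ0
      exact hψ0 rfl
    have hbne : b ≠ 0 := by
      intro h
      rw [h, coeff_zero] at hb0
      exact hb0 rfl
    have h1 : b.reverse.natDegree = 0 := natDegree_eq_zero_of_isUnit hu
    rw [reverse_natDegree, natTrailingDegree_eq_zero.2 (Or.inr hb0), Nat.sub_zero] at h1
    rw [eq_C_of_natDegree_eq_zero h1]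
    exact isUnit_C.2 (IsUnit.mk0 _ hb0)
  refine ⟨?_, ?_⟩
  · intro hu
    have h1 := natDegree_eq_zero_of_isUnit hu
    rw [hdeg] at h1
    apply hirr.not_isUnit
    rw [eq_C_of_natDegree_eq_zero h1]
    refine isUnit_C.2 (IsUnit.mk0 _ ?_)
    intro h
    apply hφ0
    rw [eq_C_of_natDegree_eq_zero h1, h, C_0]
  · intro a b hab
    have h1 : φ = (C (φ.coeff 0) * a.reverse) * b.reverse := by
      have h2 := congrArg reverse hab
      rw [hrev, reverse_mul_of_domain] at h2
      rw [mul_assoc, ← h2, ← mul_assoc, ← C_mul, mul_inv_cancel₀ h0, C_1, one_mul]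
    rcases hirr.isUnit_or_isUnit h1 with hu | hu
    · left
      have hu' : IsUnit a.reverse := by
        have := (isUnit_C.2 (IsUnit.mk0 _ h0) : IsUnit (C (φ.coeff 0)))
        exact (IsUnit.mul_iff.1 hu).2
      exact key b a (by rw [hab, mul_comm]) hu'
    · right
      exact key a b hab hu

section facts

variable [Fintype F] {p q : ℕ} [Fact p.Prime] [CharP F p] (hF : Fintype.card F = q)
  {r : ℕ} (hr : r.Prime) (hrp : r ≠ p)

include hF hr hrp

theorem coprime_q : q.Coprime r := by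
  obtain ⟨n, hp, hn⟩ := FiniteField.card F p
  rw [hF] at hn
  rw [hn]
  apply Nat.Coprime.pow_left
  exact (Nat.coprime_primes (Fact.out : p.Prime) hr).2 (Ne.symm hrp)

theorem natDegree_of_mem {φ : F[X]} (hφ : φ ∈ cycFactors r F) :
    φ.natDegree = orderOf (q : ZMod r) := by
  classical
  obtain ⟨n, hp, hn⟩ := FiniteField.card F p
  have hcop : p.Coprime r := (Nat.coprime_primes (Fact.out : p.Prime) hr).2 (Ne.symm hrp)
  obtain ⟨h1, h2, h3⟩ := mem_cycFactors.1 hφ
  rw [natDegree_of_dvd_cyclotomic_of_irreducible (f := n) hn hcop h3 h2, ← orderOf_units,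
    ZMod.coe_unitOfCoprime, ← hF, hn]

theorem card_cycFactors :
    (cycFactors r F).card = (r - 1) / orderOf (q : ZMod r) := by
  classical
  obtain ⟨n, hp, hn⟩ := FiniteField.card F p
  have hcop : p.Coprime r := (Nat.coprime_primes (Fact.out : p.Prime) hr).2 (Ne.symm hrp)
  rw [cycFactors]
  have := normalizedFactors_cyclotomic_card (K := F) (f := n) (n := r) hn hcop
  rw [Nat.totient_prime hr, ← orderOf_units, ZMod.coe_unitOfCoprime, ← hn, hF] at this
  convert this

theorem r_ne_zero : (r : F) ≠ 0 := by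
  intro h
  rw [CharP.cast_eq_zero_iff F p] at h
  exact hrp ((Nat.prime_dvd_prime_iff_eq (Fact.out : p.Prime) hr).1 h).symm

omit hF in
theorem eval_one_ne_zero {φ : F[X]} (hφ : φ ∈ cycFactors r F) : φ.eval 1 ≠ 0 := by
  obtain ⟨h1, h2, g, h3⟩ := mem_cycFactors.1 hφ
  haveI : Fact r.Prime := ⟨hr⟩
  intro h
  have h4 := congrArg (eval 1) h3
  rw [eval_one_cyclotomic_prime, eval_mul, h, zero_mul] at h4
  have : (r : F) ≠ 0 := by
    intro h
    rw [CharP.cast_eq_zero_iff F p] at h
    exact hrp ((Nat.prime_dvd_prime_iff_eq (Fact.out : p.Prime) hr).1 h).symm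
  exact this h4

omit hF hrp in
theorem dvd_X_pow_sub_one {φ : F[X]} (hφ : φ ∈ cycFactors r F) : φ ∣ X ^ r - 1 := by
  obtain ⟨h1, h2, h3⟩ := mem_cycFactors.1 hφ
  haveI : Fact r.Prime := ⟨hr⟩
  rw [← cyclotomic_prime_mul_X_sub_one F r]
  exact h3.mul_right _

omit hF hrp in
theorem coeff_zero_ne_zero {φ : F[X]} (hφ : φ ∈ cycFactors r F) : φ.coeff 0 ≠ 0 := by
  intro h
  have h1 : X ∣ φ := X_dvd_iff.2 h
  have h2 := h1.trans (dvd_X_pow_sub_one hr hφ)
  rw [X_dvd_iff, coeff_sub, coeff_X_pow, coeff_one_zero, if_neg (Ne.symm hr.ne_zero)] at h2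
  simp at h2

omit hF in
theorem rc_mem {φ : F[X]} (hφ : φ ∈ cycFactors r F) : rc φ ∈ cycFactors r F := by
  obtain ⟨h1, h2, h3⟩ := mem_cycFactors.1 hφ
  haveI : Fact r.Prime := ⟨hr⟩
  have h0 := coeff_zero_ne_zero hr hφ
  have hirr := irreducible_rc h2 h0
  refine mem_cycFactors.2 ⟨rc_monic h0, hirr, ?_⟩
  have h4 : rc φ ∣ X ^ r - 1 := by
    obtain ⟨g, hg⟩ := dvd_X_pow_sub_one hr hφ
    have h5 : (X ^ r - 1 : F[X]).reverse = -(X ^ r - 1) := by
      have e1 : (X ^ r - 1 : F[X]) = X ^ r + C (-1) := by rw [C_neg, C_1, sub_eq_add_neg]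
      have e2 : (X ^ r : F[X]).reverse = 1 := by
        have := reverse_X_pow_mul (1 : F[X]) r
        rw [mul_one] at this
        rw [this, ← C_1, reverse_C]
      rw [e1, reverse_add_C, e2, natDegree_X_pow, C_neg, C_1]
      ring
    have h6 := congrArg reverse hg
    rw [h5, reverse_mul_of_domain] at h6
    refine ⟨-(C (φ.coeff 0) * g.reverse), ?_⟩
    rw [rc, mul_neg, ← neg_eq_iff_eq_neg, h6, ← mul_assoc, mul_comm (C (φ.coeff 0)⁻¹),
      mul_assoc φ.reverse, ← C_mul, inv_mul_cancel₀ h0, C_1, mul_one]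
  rw [← cyclotomic_prime_mul_X_sub_one F r] at h4
  rcases hirr.prime.dvd_or_dvd h4 with h | h
  · exact h
  · exfalso
    obtain ⟨g, hg⟩ := h
    have h7 := congrArg (eval 1) hg
    rw [eval_sub, eval_X, eval_one, sub_self, eval_mul, rc, eval_mul, eval_C,
      eval_one_reverse] at h7
    have h8 := eval_one_ne_zero hr hrp hφ
    rcases mul_eq_zero.1 h7.symm with h9 | h9
    · rcases mul_eq_zero.1 h9 with h10 | h10
      · exact inv_ne_zero h0 h10
      · exact h8 h10
    · -- g(1) = 0, hence (X-1)^2 ∣ ... ; use degrees instead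
      have hd : (rc φ).natDegree ≤ 1 := by
        have := natDegree_le_of_dvd ⟨g, hg⟩ (X_sub_C_ne_zero (1 : F))
        rw [← C_1] at this
        rwa [natDegree_X_sub_C] at this
      have hgne : g ≠ 0 := by
        intro h
        rw [h, mul_zero] at hg
        exact X_sub_C_ne_zero (1 : F) (by rw [C_1]; exact hg)
      have hd2 : (X - 1 : F[X]).natDegree = (rc φ).natDegree + g.natDegree := by
        rw [hg, natDegree_mul hirr.ne_zero hgne]
      have hd3 : (X - 1 : F[X]).natDegree = 1 := by rw [← C_1, natDegree_X_sub_C]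
      have hd4 : 0 < (rc φ).natDegree := hirr.natDegree_pos
      have hg0 : g.natDegree = 0 := by omega
      rw [eq_C_of_natDegree_eq_zero hg0, eval_C] at h9
      apply hgne
      rw [eq_C_of_natDegree_eq_zero hg0, h9, C_0]

omit hr hrp in
theorem frob_root {K : Type*} [Field K] [Algebra F K] (f : F[X]) (x : K) (hx : aeval x f = 0)
    (j : ℕ) : aeval (x ^ (q ^ j)) f = 0 := by
  subst hF
  induction j with
  | zero => rwa [pow_zero, pow_one]
  | succ j ih =>
    rw [pow_succ, pow_mul, ← expand_aeval, FiniteField.expand_card, map_pow, ih,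
      zero_pow Fintype.card_ne_zero]

theorem rc_eq_self_of_even (hi : Even (orderOf (q : ZMod r))) {φ : F[X]}
    (hφ : φ ∈ cycFactors r F) : rc φ = φ := by
  obtain ⟨hm, hirr, h3⟩ := mem_cycFactors.1 hφ
  haveI : Fact r.Prime := ⟨hr⟩
  have h0 := coeff_zero_ne_zero hr hφ
  haveI : Fact (Irreducible φ) := ⟨hirr⟩
  set α := AdjoinRoot.root φ with hα
  have hα0 : α ≠ 0 := root_ne_zero φ hm hirr h0
  have hroot : aeval α φ = 0 := AdjoinRoot.eval₂_root φ
  have hαr : α ^ r = 1 := by
    obtain ⟨g, hg⟩ := dvd_X_pow_sub_one hr hφ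
    have := congrArg (aeval α) hg
    rw [map_mul, hroot, zero_mul, map_sub, map_pow, aeval_X, map_one, sub_eq_zero] at this
    exact this
  obtain ⟨j, hj⟩ := hi
  have hcop := coprime_q hF hr hrp
  have hord : 0 < orderOf (q : ZMod r) := by
    have : IsOfFinOrder (ZMod.unitOfCoprime q hcop) := isOfFinOrder_of_finite _
    rw [← orderOf_pos_iff, ← orderOf_units, ZMod.coe_unitOfCoprime] at this
    exact this
  have hj0 : j ≠ 0 := by omega
  have hjlt : j < orderOf (q : ZMod r) := by omega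
  have h4 : ((q : ZMod r) ^ j) ^ 2 = 1 := by
    rw [← pow_mul, show j * 2 = orderOf (q : ZMod r) by omega, pow_orderOf_eq_one]
  have h5 : (q : ZMod r) ^ j ≠ 1 := pow_ne_one_of_lt_orderOf hj0 hjlt
  have h6 : (q : ZMod r) ^ j = -1 := by
    rcases sq_eq_one_iff.1 h4 with h | h
    · exact absurd h h5
    · exact h
  have h7 : r ∣ q ^ j + 1 := by
    rw [← ZMod.natCast_eq_zero_iff, Nat.cast_add, Nat.cast_pow, h6, Nat.cast_one, neg_add_cancel]
  have h8 : α ^ (q ^ j) = α⁻¹ := by
    obtain ⟨c, hc⟩ := h7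
    have : α ^ (q ^ j + 1) = 1 := by rw [hc, pow_mul, hαr, one_pow]
    rw [pow_succ] at this
    exact eq_inv_of_mul_eq_one_left this
  have h9 : aeval α⁻¹ φ = 0 := by
    rw [← h8]
    exact frob_root hF φ α hroot j
  have h10 : aeval α (rc φ) = 0 := by
    letI : Invertible α⁻¹ := invertibleOfNonzero (inv_ne_zero hα0)
    have h11 : eval₂ (algebraMap F (AdjoinRoot φ)) (⅟α⁻¹) (reverse φ) = 0 := by
      rw [eval₂_reverse_eq_zero_iff]
      exact h9
    rw [invOf_eq_inv, inv_inv] at h11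
    rw [rc, map_mul, aeval_def, aeval_def, h11, mul_zero]
  have hd : φ ∣ rc φ := by
    rw [← AdjoinRoot.mk_eq_zero, ← AdjoinRoot.aeval_eq]
    exact h10
  exact eq_of_monic_of_dvd_of_natDegree_le hm (rc_monic h0) hd (rc_natDegree_le φ)

theorem rc_ne_self_of_odd (hr2 : r ≠ 2) (hi : Odd (orderOf (q : ZMod r))) {φ : F[X]}
    (hφ : φ ∈ cycFactors r F) : rc φ ≠ φ := by
  obtain ⟨hm, hirr, h3⟩ := mem_cycFactors.1 hφ
  have h0 := coeff_zero_ne_zero hr hφ
  have hdeg := natDegree_of_mem hF hr hrp hφ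
  intro hrc
  by_cases h2 : 2 ≤ φ.natDegree
  · have h4 := (realizable_selfrc φ hm hirr h0 hrc h2).even_natDegree
    rw [hdeg] at h4
    exact (Nat.not_even_iff_odd.2 hi) h4
  · have h4 : 0 < φ.natDegree := hirr.natDegree_pos
    have h5 : φ.natDegree = 1 := by omega
    have h6 : φ = X + C (φ.coeff 0) := hm.eq_X_add_C h5
    set c := φ.coeff 0 with hc
    have h7 : c = c⁻¹ := by
      have := coeff_zero_rc hm
      rw [hrc] at this
      exact this
    have h8 : c * c = 1 := by
      nth_rewrite 2 [h7]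
      exact mul_inv_cancel₀ h0
    have h9 : φ.eval 1 ≠ 0 := eval_one_ne_zero hr hrp hφ
    rw [h6, eval_add, eval_X, eval_C] at h9
    have h10 : (-c) ^ r = 1 := by
      obtain ⟨g, hg⟩ := dvd_X_pow_sub_one hr hφ
      have := congrArg (eval (-c)) hg
      rw [h6, eval_mul, eval_add, eval_X, eval_C, neg_add_cancel, zero_mul, eval_sub, eval_pow,
        eval_X, eval_one, sub_eq_zero] at this
      exact this
    have hodd : Odd r := hr.odd_of_ne_two hr2
    rw [hodd.neg_pow] at h10
    rcases mul_self_eq_one_iff.1 h8 with h | h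
    · rw [h, one_pow] at h10
      apply h9
      rw [h]
      nth_rewrite 2 [← h10]
      exact add_neg_cancel 1
    · apply h9
      rw [h]
      exact add_neg_cancel 1

end facts

end Cfsg.Agent.Lib.Helper5.SSOrder
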