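import Mathlib
import Cfsg.Agent.Lib.Helper5.SSOrder3

set_option autoImplicit false

namespace Cfsg.Agent.Lib.Helper5.SSOrder

open Polynomial
open Cfsg.Agent.Lib.Helper5.Pal

universe u

variable {F : Type u} [Field F]

/-- a finite family of monic irreducible polynomials, stable under the reciprocal map -/
structure FacSys (I : Finset F[X]) (d : ℕ) : Prop where
  monic : ∀ φ ∈ I, φ.Monic
  irr : ∀ φ ∈ I, Irreducible φ
  deg : ∀ φ ∈ I, φ.natDegree = d
  ev1 : ∀ φ ∈ I, φ.eval 1 ≠ 0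
  c0 : ∀ φ ∈ I, φ.coeff 0 ≠ 0
  rcmem : ∀ φ ∈ I, rc φ ∈ I

/-- the product of powers -/
noncomputable def Gp (I : Finset F[X]) (a : I → ℕ) : F[X] := ∏ x : I, (x : F[X]) ^ a x

variable {I : Finset F[X]} {d : ℕ} (hI : FacSys I d)

include hI

theorem Gp_monic (a : I → ℕ) : (Gp I a).Monic :=
  monic_prod_of_monic _ _ (fun x _ => (hI.monic x.1 x.2).pow _)

theorem natDegree_Gp (a : I → ℕ) : (Gp I a).natDegree = d * ∑ x, a x := by
  rw [Gp, natDegree_prod_of_monic _ _ (fun x _ => (hI.monic x.1 x.2).pow _), Finset.mul_sum]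
  apply Finset.sum_congr rfl
  intro x _
  rw [(hI.monic x.1 x.2).natDegree_pow, hI.deg x.1 x.2, mul_comm]

theorem eval_one_Gp (a : I → ℕ) : (Gp I a).eval 1 ≠ 0 := by
  rw [Gp, eval_prod, Finset.prod_ne_zero_iff]
  intro x _
  rw [eval_pow]
  exact pow_ne_zero _ (hI.ev1 x.1 x.2)

theorem coeff_zero_Gp (a : I → ℕ) : (Gp I a).coeff 0 ≠ 0 := by
  rw [coeff_zero_eq_eval_zero, Gp, eval_prod, Finset.prod_ne_zero_iff]
  intro x _
  rw [eval_pow, ← coeff_zero_eq_eval_zero]
  exact pow_ne_zero _ (hI.c0 x.1 x.2)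

/-- the reciprocal map on the index type -/
noncomputable def tauI : I → I := fun x => ⟨rc x.1, hI.rcmem x.1 x.2⟩

theorem tauI_tauI (x : I) : tauI hI (tauI hI x) = x := by
  apply Subtype.ext
  exact rc_rc (hI.monic x.1 x.2) (hI.c0 x.1 x.2)

theorem rc_Gp (a : I → ℕ) (ha : ∀ x, a (tauI hI x) = a x) : rc (Gp I a) = Gp I a := by
  rw [Gp, rc_prod]
  have h1 : ∀ x : I, rc ((x : F[X]) ^ a x) = ((tauI hI x : I) : F[X]) ^ a (tauI hI x) := by
    intro x
    rw [rc_pow, ha x]
    rfl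
  rw [Finset.prod_congr rfl (fun x _ => h1 x)]
  exact Equiv.prod_comp (Function.Involutive.toPerm (tauI hI) (tauI_tauI hI))
    (fun y : I => (y : F[X]) ^ a y)

omit hI in
theorem Gp_add_single [DecidableEq I] (a : I → ℕ) (x : I) :
    Gp I (a + Pi.single x 1) = (x : F[X]) * Gp I a := by
  rw [Gp, Gp]
  have h1 : ∀ y : I, (y : F[X]) ^ ((a + Pi.single x 1 : I → ℕ) y) =
      (y : F[X]) ^ a y * (y : F[X]) ^ (Pi.single x 1 : I → ℕ) y := by
    intro y
    rw [Pi.add_apply, pow_add]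
  rw [Finset.prod_congr rfl (fun y _ => h1 y), Finset.prod_mul_distrib, mul_comm]
  congr 1
  rw [Finset.prod_eq_single x]
  · rw [Pi.single_eq_same, pow_one]
  · intro y _ hy
    rw [Pi.single_eq_of_ne hy, pow_zero]
  · intro h
    exact absurd (Finset.mem_univ x) h

theorem isCoprime_X_sub_one (x : I) : IsCoprime (x : F[X]) (X - 1) := by
  rw [(hI.irr x.1 x.2).coprime_iff_not_dvd]
  rintro ⟨g, hg⟩
  have := congrArg (eval 1) hg
  rw [eval_sub, eval_X, eval_one, sub_self, eval_mul] at this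
  rcases mul_eq_zero.1 this.symm with h | h
  · exact hI.ev1 x.1 x.2 h
  · have hirr := hI.irr x.1 x.2
    have hgne : g ≠ 0 := by
      intro h'
      rw [h', mul_zero] at hg
      exact X_sub_C_ne_zero (1 : F) (by rw [C_1]; exact hg)
    have hd2 : (X - 1 : F[X]).natDegree = (x : F[X]).natDegree + g.natDegree := by
      rw [hg, natDegree_mul hirr.ne_zero hgne]
    have hd3 : (X - 1 : F[X]).natDegree = 1 := by rw [← C_1, natDegree_X_sub_C]
    have hd4 : 0 < (x : F[X]).natDegree := hirr.natDegree_pos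
    have hg0 : g.natDegree = 0 := by omega
    rw [eq_C_of_natDegree_eq_zero hg0, eval_C] at h
    apply hgne
    rw [eq_C_of_natDegree_eq_zero hg0, h, C_0]

theorem isCoprime_of_ne (x y : I) (hxy : x ≠ y) : IsCoprime (x : F[X]) (y : F[X]) := by
  rw [(hI.irr x.1 x.2).coprime_iff_not_dvd]
  intro hd
  apply hxy
  apply Subtype.ext
  have h1 : Associated (x : F[X]) (y : F[X]) :=
    (hI.irr x.1 x.2).associated_of_dvd (hI.irr y.1 y.2) hd
  exact eq_of_monic_of_associated (hI.monic x.1 x.2) (hI.monic y.1 y.2) h1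

theorem pow_dvd_iff [DecidableEq I] (x : I) (a : I → ℕ) (k n : ℕ) :
    (x : F[X]) ^ n ∣ (X - 1) ^ k * Gp I a ↔ n ≤ a x := by
  have hirr := hI.irr x.1 x.2
  set rest : F[X] := (X - 1) ^ k * ∏ y ∈ Finset.univ.erase x, (y : F[X]) ^ a y with hrest
  have h1 : (X - 1) ^ k * Gp I a = (x : F[X]) ^ a x * rest := by
    rw [Gp, ← Finset.mul_prod_erase Finset.univ _ (Finset.mem_univ x), hrest]
    ring
  have h2 : IsCoprime (x : F[X]) rest := by
    rw [hrest]
    apply IsCoprime.mul_right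
    · exact (isCoprime_X_sub_one hI x).pow_right
    · apply IsCoprime.prod_right
      intro y hy
      exact (isCoprime_of_ne hI x y (Finset.ne_of_mem_erase hy).symm).pow_right
  rw [h1]
  constructor
  · intro h
    have h3 : (x : F[X]) ^ n ∣ (x : F[X]) ^ a x := (h2.pow_left).dvd_of_dvd_mul_right h
    exact (pow_dvd_pow_iff hirr.ne_zero hirr.not_isUnit).1 h3
  · intro h
    exact (pow_dvd_pow _ h).trans (dvd_mul_right _ _)

theorem Gp_injective (a b : I → ℕ) (k k' : ℕ)
    (h : (X - 1) ^ k * Gp I a = (X - 1) ^ k' * Gp I b) : a = b := by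
  classical
  funext x
  apply le_antisymm
  · rw [← pow_dvd_iff hI x b k', ← h, pow_dvd_iff hI x a k]
  · rw [← pow_dvd_iff hI x a k, h, pow_dvd_iff hI x b k']

theorem exists_Gp_of_factors : ∀ (n : ℕ) (f : F[X]), f.Monic → f.natDegree = n →
    (∀ ψ : F[X], ψ.Monic → Irreducible ψ → ψ ∣ f → ψ = X - 1 ∨ ψ ∈ I) →
    ∃ (k : ℕ) (a : I → ℕ), f = (X - 1) ^ k * Gp I a := by
  classical
  intro n
  induction n using Nat.strong_induction_on with
  | _ n ih =>
    intro f hm hdeg hfac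
    by_cases hu : IsUnit f
    · have h1 : f = 1 := hm.eq_one_of_isUnit hu
      refine ⟨0, 0, ?_⟩
      rw [h1, pow_zero, one_mul, Gp]
      simp
    · obtain ⟨ψ, hψm, hψirr, g, hg⟩ := exists_monic_irreducible_factor f hu
      have hgm : g.Monic := by
        rw [hg] at hm
        exact hψm.of_mul_monic_left hm
      have hgd : g.natDegree < n := by
        rw [← hdeg, hg, hψm.natDegree_mul hgm]
        have := hψirr.natDegree_pos
        omega
      obtain ⟨k, a, hka⟩ := ih g.natDegree hgd g hgm rfl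
        (fun ψ' h1 h2 h3 => hfac ψ' h1 h2 (h3.trans ⟨ψ, by rw [hg, mul_comm]⟩))
      rcases hfac ψ hψm hψirr ⟨g, hg⟩ with h | h
      · refine ⟨k + 1, a, ?_⟩
        rw [hg, hka, h, pow_succ]
        ring
      · refine ⟨k, a + Pi.single ⟨ψ, h⟩ 1, ?_⟩
        rw [Gp_add_single, hg, hka]
        ring

theorem invariant_of_reverse (a : I → ℕ) (k : ℕ)
    (hrev : ((X - 1) ^ k * Gp I a).reverse = (X - 1) ^ k * Gp I a) :
    ∀ x, a (tauI hI x) = a x := by
  classical
  have key : ∀ x, a x ≤ a (tauI hI x) := by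
    intro x
    rw [← pow_dvd_iff hI (tauI hI x) a k]
    have h1 : (x : F[X]) ^ a x ∣ (X - 1) ^ k * Gp I a := (pow_dvd_iff hI x a k _).2 le_rfl
    have h0 : ((x : F[X]) ^ a x).coeff 0 ≠ 0 := by
      rw [coeff_zero_eq_eval_zero, eval_pow, ← coeff_zero_eq_eval_zero]
      exact pow_ne_zero _ (hI.c0 x.1 x.2)
    have h2 := rc_dvd_of_dvd h0 hrev h1
    rw [rc_pow] at h2
    exact h2
  intro x
  apply le_antisymm
  · have := key (tauI hI x)
    rwa [tauI_tauI] at this
  · exact key x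

theorem reverse_Gp (a : I → ℕ) (ha : ∀ x, a (tauI hI x) = a x) : (Gp I a).reverse = Gp I a :=
  reverse_eq_of_rc_eq (coeff_zero_Gp hI a) (rc_Gp hI a ha) (eval_one_Gp hI a)

omit hI in
theorem reverse_pow' (f : F[X]) (n : ℕ) : (f ^ n).reverse = f.reverse ^ n := by
  induction n with
  | zero => rw [pow_zero, pow_zero, ← C_1, reverse_C]
  | succ n ih => rw [pow_succ, pow_succ, reverse_mul_of_domain, ih]

omit hI in
theorem reverse_X_sub_one : (X - 1 : F[X]).reverse = -(X - 1) := by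
  have h1 : (X - 1 : F[X]) = X + C (-1) := by rw [C_neg, C_1, sub_eq_add_neg]
  have hX : (X : F[X]).reverse = 1 := by
    have := reverse_X_mul (1 : F[X])
    rw [mul_one] at this
    rw [this, ← C_1, reverse_C]
  rw [h1, reverse_add_C, hX, natDegree_X, C_neg, C_1]
  ring

theorem reverse_P (a : I → ℕ) (ha : ∀ x, a (tauI hI x) = a x) (k : ℕ) (hk : Even k) :
    ((X - 1) ^ k * Gp I a).reverse = (X - 1) ^ k * Gp I a := by
  rw [reverse_mul_of_domain, reverse_Gp hI a ha, reverse_pow', reverse_X_sub_one, hk.neg_pow]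

end Cfsg.Agent.Lib.Helper5.SSOrder
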