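import Mathlib
import Cfsg.Agent.Lib.Helper5.SSOrder2
import Cfsg.Agent.Lib.Helper5.SSOrder4

set_option autoImplicit false

namespace Cfsg.Agent.Lib.Helper5.SSOrder

open Polynomial
open Cfsg.Agent.Lib.Helper5.Pal

universe u

variable {F : Type u} [Field F]

section inst

variable [Fintype F] {p q : ℕ} [Fact p.Prime] [CharP F p] (hF : Fintype.card F = q)
  {r : ℕ} (hr : r.Prime) (hrp : r ≠ p)

include hF hr hrp

theorem cyc_facSys : FacSys (cycFactors r F) (orderOf (q : ZMod r)) where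
  monic := fun φ h => (mem_cycFactors.1 h).1
  irr := fun φ h => (mem_cycFactors.1 h).2.1
  deg := fun φ h => natDegree_of_mem hF hr hrp h
  ev1 := fun φ h => eval_one_ne_zero hr hrp h
  c0 := fun φ h => coeff_zero_ne_zero hr h
  rcmem := fun φ h => rc_mem hr hrp h

theorem orderOf_q_pos : 0 < orderOf (q : ZMod r) := by
  have hcop := coprime_q hF hr hrp
  have : IsOfFinOrder (ZMod.unitOfCoprime q hcop) := isOfFinOrder_of_finite _
  rw [← orderOf_pos_iff, ← orderOf_units, ZMod.coe_unitOfCoprime] at this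
  exact this

omit hF hrp in
theorem factor_cases (N : ℕ) (ψ : F[X]) (hm : ψ.Monic) (hirr : Irreducible ψ)
    (hd : ψ ∣ (X ^ r - 1) ^ N) : ψ = X - 1 ∨ ψ ∈ cycFactors r F := by
  haveI : Fact r.Prime := ⟨hr⟩
  have h1 : ψ ∣ X ^ r - 1 := hirr.prime.dvd_of_dvd_pow hd
  rw [← cyclotomic_prime_mul_X_sub_one F r] at h1
  rcases hirr.prime.dvd_or_dvd h1 with h | h
  · right
    exact mem_cycFactors.2 ⟨hm, hirr, h⟩
  · left
    have h2 : (X - 1 : F[X]) = X - C 1 := by rw [C_1]
    rw [h2] at h ⊢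
    refine (eq_of_monic_of_dvd_of_natDegree_le hm (monic_X_sub_C 1) h ?_).symm
    rw [natDegree_X_sub_C]
    exact hirr.natDegree_pos

theorem even_exponent (hr2 : r ≠ 2) (m : ℕ) (a : cycFactors r F → ℕ)
    (ha : ∀ x, a (tauI (cyc_facSys hF hr hrp) x) = a x) :
    Even (2 * m - orderOf (q : ZMod r) * ∑ x, a x) := by
  classical
  have key : Even (orderOf (q : ZMod r) * ∑ x, a x) := by
    rcases Nat.even_or_odd (orderOf (q : ZMod r)) with h | h
    · exact h.mul_right _
    · have hfree : ∀ x, tauI (cyc_facSys hF hr hrp) x ≠ x := by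
        intro x hx
        have := congrArg Subtype.val hx
        exact rc_ne_self_of_odd hF hr hrp hr2 h x.2 this
      obtain ⟨J, hJ⟩ := exists_reps _ (tauI_tauI (cyc_facSys hF hr hrp)) hfree
      rw [sum_eq_two_mul _ (tauI_tauI (cyc_facSys hF hr hrp)) J hJ a ha]
      exact (even_two_mul _).mul_left _
  by_cases hle : orderOf (q : ZMod r) * ∑ x, a x ≤ 2 * m
  · exact (Nat.even_sub hle).2 (iff_of_true (even_two_mul m) key)
  · rw [Nat.sub_eq_zero_of_le (by omega)]
    exact Even.zero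

theorem poly_of_tuple (hr2 : r ≠ 2) (m : ℕ) (a : cycFactors r F → ℕ)
    (ha : ∀ x, a (tauI (cyc_facSys hF hr hrp) x) = a x)
    (hb : orderOf (q : ZMod r) * ∑ x, a x ≤ 2 * m) :
    ((X - 1) ^ (2 * m - orderOf (q : ZMod r) * ∑ x, a x) * Gp (cycFactors r F) a).Monic ∧
    ((X - 1) ^ (2 * m - orderOf (q : ZMod r) * ∑ x, a x) * Gp (cycFactors r F) a).natDegree
      = 2 * m ∧
    ((X - 1) ^ (2 * m - orderOf (q : ZMod r) * ∑ x, a x) * Gp (cycFactors r F) a).reverse =
      (X - 1) ^ (2 * m - orderOf (q : ZMod r) * ∑ x, a x) * Gp (cycFactors r F) a ∧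
    ((X - 1) ^ (2 * m - orderOf (q : ZMod r) * ∑ x, a x) * Gp (cycFactors r F) a) ∣
      (X ^ r - 1 : F[X]) ^ (2 * m) := by
  classical
  have hI := cyc_facSys hF hr hrp
  have h2 : (X - 1 : F[X]) = X - C 1 := by rw [C_1]
  have hm1 : ((X - 1 : F[X]) ^ (2 * m - orderOf (q : ZMod r) * ∑ x, a x)).Monic := by
    rw [h2]
    exact (monic_X_sub_C 1).pow _
  refine ⟨hm1.mul (Gp_monic hI a), ?_, reverse_P hI a ha _ (even_exponent hF hr hrp hr2 m a ha), ?_⟩
  · rw [hm1.natDegree_mul (Gp_monic hI a), natDegree_Gp hI a, h2,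
      (monic_X_sub_C (1 : F)).natDegree_pow, natDegree_X_sub_C]
    omega
  · have hd1 : (X - 1 : F[X]) ∣ X ^ r - 1 := by
      have := sub_dvd_pow_sub_pow (X : F[X]) 1 r
      rwa [one_pow] at this
    have hpos := orderOf_q_pos hF hr hrp
    apply IsCoprime.mul_dvd
    · apply IsCoprime.pow_left
      rw [Gp]
      apply IsCoprime.prod_right
      intro x _
      exact (isCoprime_X_sub_one hI x).symm.pow_right
    · exact (pow_dvd_pow _ (Nat.sub_le _ _)).trans (pow_dvd_pow_of_dvd hd1 _)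
    · rw [Gp]
      apply Fintype.prod_dvd_of_coprime
      · intro x y hxy
        exact (isCoprime_of_ne hI x y hxy).pow
      · intro x
        have hax : a x ≤ 2 * m := by
          have h3 : a x ≤ ∑ y, a y := Finset.single_le_sum (fun _ _ => Nat.zero_le _)
            (Finset.mem_univ x)
          have h4 : ∑ y, a y ≤ orderOf (q : ZMod r) * ∑ y, a y := Nat.le_mul_of_pos_left _ hpos
          omega
        exact (pow_dvd_pow _ hax).trans (pow_dvd_pow_of_dvd (dvd_X_pow_sub_one hr x.2) _)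

theorem tuple_of_poly (m : ℕ) (f : F[X]) (hm : f.Monic) (hd : f.natDegree = 2 * m)
    (hrev : f.reverse = f) (N : ℕ) (hdvd : f ∣ (X ^ r - 1 : F[X]) ^ N) :
    ∃ a : cycFactors r F → ℕ, (∀ x, a (tauI (cyc_facSys hF hr hrp) x) = a x) ∧
      orderOf (q : ZMod r) * ∑ x, a x ≤ 2 * m ∧
      f = (X - 1) ^ (2 * m - orderOf (q : ZMod r) * ∑ x, a x) * Gp (cycFactors r F) a := by
  have hI := cyc_facSys hF hr hrp
  obtain ⟨k, a, hka⟩ := exists_Gp_of_factors hI f.natDegree f hm rfl
    (fun ψ h1 h2 h3 => factor_cases hr N ψ h1 h2 (h3.trans hdvd))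
  have h2 : (X - 1 : F[X]) = X - C 1 := by rw [C_1]
  have hm1 : ((X - 1 : F[X]) ^ k).Monic := by
    rw [h2]
    exact (monic_X_sub_C 1).pow _
  have hdeg : 2 * m = k + orderOf (q : ZMod r) * ∑ x, a x := by
    rw [← hd, hka, hm1.natDegree_mul (Gp_monic hI a), natDegree_Gp hI a, h2,
      (monic_X_sub_C (1 : F)).natDegree_pow, natDegree_X_sub_C, mul_one]
  refine ⟨a, ?_, by omega, ?_⟩
  · rw [hka] at hrev
    exact invariant_of_reverse hI a k hrev
  · rw [hka]
    congr 2
    omega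

theorem card_tuples (hr2 : r ≠ 2) (m t : ℕ) (ht : t * orderOf (q : ZMod r) = r - 1) :
    Nat.card {a : cycFactors r F → ℕ // (∀ x, a (tauI (cyc_facSys hF hr hrp) x) = a x) ∧
      orderOf (q : ZMod r) * ∑ x, a x ≤ 2 * m} =
    if Odd (orderOf (q : ZMod r)) then (m / orderOf (q : ZMod r) + t / 2).choose (t / 2)
    else (2 * m / orderOf (q : ZMod r) + t).choose t := by
  classical
  have hpos := orderOf_q_pos hF hr hrp
  have hcard : Fintype.card (cycFactors r F) = t := by
    rw [Fintype.card_coe, card_cycFactors hF hr hrp]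
    exact Nat.div_eq_of_eq_mul_left hpos ht.symm
  have e : {a : cycFactors r F → ℕ // (∀ x, a (tauI (cyc_facSys hF hr hrp) x) = a x) ∧
      orderOf (q : ZMod r) * ∑ x, a x ≤ 2 * m} ≃
      {a : cycFactors r F → ℕ // (∀ x, a (tauI (cyc_facSys hF hr hrp) x) = a x) ∧
      ∑ x, a x ≤ 2 * m / orderOf (q : ZMod r)} :=
    Equiv.subtypeEquivRight (fun a => by
      rw [Nat.le_div_iff_mul_le hpos, mul_comm])
  rw [Nat.card_congr e]
  split_ifs with hodd
  · have hfree : ∀ x, tauI (cyc_facSys hF hr hrp) x ≠ x := by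
      intro x hx
      have := congrArg Subtype.val hx
      exact rc_ne_self_of_odd hF hr hrp hr2 hodd x.2 this
    rw [card_invariant_free _ (tauI_tauI (cyc_facSys hF hr hrp)) hfree, hcard,
      Nat.div_div_eq_div_mul, mul_comm (orderOf (q : ZMod r)) 2,
      Nat.mul_div_mul_left _ _ (by norm_num : 0 < 2)]
  · have heven : Even (orderOf (q : ZMod r)) := Nat.not_odd_iff_even.1 hodd
    have htriv : ∀ x, tauI (cyc_facSys hF hr hrp) x = x := by
      intro x
      apply Subtype.ext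
      exact rc_eq_self_of_even hF hr hrp heven x.2
    rw [card_invariant_trivial _ htriv, hcard]

end inst

end Cfsg.Agent.Lib.Helper5.SSOrder
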