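import Mathlib
import Cfsg.Agent.Lib.Helper5.OrthCls6
import Cfsg.Agent.Lib.Helper5.SpReal2
import Cfsg.Agent.Lib.Helper5.SSOrder5
import Cfsg.Agent.S0287

set_option autoImplicit false

namespace Cfsg.Agent.Lib.Helper5.OrthCls

open QuadraticMap Module Polynomial
open Cfsg.Agent.Lib.Helper5.Pal Cfsg.Agent.Lib.Helper5.SpReal Cfsg.Agent.Lib.Helper5.SSOrder

universe u

variable {F : Type u} [Field F]

/-- the involution of `F[X]/φ` for a self-reciprocal irreducible `φ` -/
theorem exists_sigma [Finite F] (φ : F[X]) (hm : φ.Monic) (hirr : Irreducible φ)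
    (h0 : φ.coeff 0 ≠ 0) (hrc : rc φ = φ) (hdeg : 2 ≤ φ.natDegree) :
    haveI : Fact (Irreducible φ) := ⟨hirr⟩
    ∃ σ : AdjoinRoot φ →ₐ[F] AdjoinRoot φ, (∀ x, σ (σ x) = x) ∧
      σ (AdjoinRoot.root φ) = (AdjoinRoot.root φ)⁻¹ ∧ ∃ x, σ x ≠ x := by
  haveI : Fact (Irreducible φ) := ⟨hirr⟩
  have hφ0 : φ ≠ 0 := hirr.ne_zero
  set α := AdjoinRoot.root φ with hα
  have hr : α ≠ 0 := root_ne_zero φ hm hirr h0
  have hrev : φ.reverse = C (φ.coeff 0) * φ := by
    have : C (φ.coeff 0) * rc φ = φ.reverse := by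
      rw [rc, ← mul_assoc, ← C_mul, mul_inv_cancel₀ h0, C_1, one_mul]
    rw [hrc] at this
    exact this.symm
  have hroot : aeval α⁻¹ φ = 0 := by
    letI : Invertible α := invertibleOfNonzero hr
    have h3 : eval₂ (algebraMap F (AdjoinRoot φ)) (⅟α) (reverse φ) = 0 := by
      rw [eval₂_reverse_eq_zero_iff]
      exact AdjoinRoot.eval₂_root φ
    rw [invOf_eq_inv, hrev, eval₂_mul, eval₂_C] at h3
    rcases mul_eq_zero.1 h3 with h4 | h4
    · exfalso
      rw [map_eq_zero] at h4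
      exact h0 h4
    · exact h4
  set σ : AdjoinRoot φ →ₐ[F] AdjoinRoot φ := AdjoinRoot.liftAlgHom φ (Algebra.ofId F _) α⁻¹ hroot
    with hσ
  have hσα : σ α = α⁻¹ := AdjoinRoot.liftAlgHom_root φ (Algebra.ofId F _) α⁻¹ hroot
  have hσ2 : ∀ x, σ (σ x) = x := by
    intro x
    have : σ.comp σ = AlgHom.id F (AdjoinRoot φ) := by
      apply AdjoinRoot.algHom_ext
      rw [AlgHom.comp_apply, ← hα, hσα, map_inv₀, hσα, inv_inv]
      rfl
    have h4 := congrArg (fun f : AdjoinRoot φ →ₐ[F] AdjoinRoot φ => f x) this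
    exact h4
  refine ⟨σ, hσ2, hσα, α, ?_⟩
  rw [hσα]
  intro h
  have h5 : α * α - 1 = 0 := by
    rw [sub_eq_zero]
    nth_rewrite 1 [← h]
    exact inv_mul_cancel₀ hr
  have h6 : AdjoinRoot.mk φ (X * X - 1) = 0 := by
    rw [map_sub, map_mul, AdjoinRoot.mk_X, map_one]
    exact h5
  rw [AdjoinRoot.mk_eq_zero] at h6
  have h7 : (X * X - 1 : F[X]) = (X - 1) * (X + 1) := by ring
  rw [h7] at h6
  have hprime : Prime φ := hirr.prime
  rcases hprime.dvd_or_dvd h6 with h8 | h8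
  · have := natDegree_le_of_dvd h8 (X_sub_C_ne_zero (1 : F) |> fun h => by simpa using h)
    have h9 : (X - 1 : F[X]).natDegree ≤ 1 := by
      have := natDegree_X_sub_C_le (1 : F)
      simpa using this
    omega
  · have := natDegree_le_of_dvd h8 (X_add_C_ne_zero (1 : F) |> fun h => by simpa using h)
    have h9 : (X + 1 : F[X]).natDegree ≤ 1 := by
      have := natDegree_X_add_C (1 : F)
      simp only [map_one] at this
      omega
    omega

/-- an invariant nondegenerate quadratic form on a field with involution -/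
theorem exists_form_self {K : Type u} [Field K] [Algebra F K] [FiniteDimensional F K] (α : K)
    (hα : α ≠ 0) (σ : K →ₐ[F] K) (hσ2 : ∀ x, σ (σ x) = x) (hσα : σ α = α⁻¹)
    (hne : ∃ x, σ x ≠ x) :
    ∃ Q : QuadraticForm F K, (polarBilin Q).Nondegenerate ∧ ∀ x, Q (α * x) = Q x := by
  -- a nonzero element of the form `x + σ x`
  obtain ⟨x₀, hx₀⟩ : ∃ x₀ : K, x₀ + σ x₀ ≠ 0 := by
    by_cases h2 : (2 : K) = 0
    · obtain ⟨x, hx⟩ := hne
      refine ⟨x, fun h => hx ?_⟩
      have h3 : σ x = -x := eq_neg_of_add_eq_zero_right h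
      have h4 : -x = x := by
        have : x + x = 0 := by rw [← two_mul, h2, zero_mul]
        exact neg_eq_of_add_eq_zero_left this
      rw [h3, h4]
    · refine ⟨1, ?_⟩
      rw [map_one, one_add_one_eq_two]
      exact h2
  obtain ⟨ℓ, hℓ⟩ : ∃ ℓ : K →ₗ[F] F, ℓ (x₀ + σ x₀) ≠ 0 := by
    by_contra hcon
    push Not at hcon
    exact hx₀ ((Module.forall_dual_apply_eq_zero_iff F _).1 hcon)
  set B : LinearMap.BilinMap F K F :=
    LinearMap.compr₂ ((LinearMap.mul F K).compl₂ σ.toLinearMap) ℓ with hB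
  have hBa : ∀ x y, B x y = ℓ (x * σ y) := fun x y => rfl
  set Q : QuadraticForm F K := B.toQuadraticMap with hQ
  have hQa : ∀ x, Q x = ℓ (x * σ x) := fun x => by
    rw [hQ, LinearMap.BilinMap.toQuadraticMap_apply, hBa]
  have hpol : ∀ x y, polar Q x y = ℓ (x * σ y + σ (x * σ y)) := by
    intro x y
    rw [hQ, LinearMap.BilinMap.polar_toQuadraticMap, hBa, hBa, map_add, map_mul σ, hσ2, mul_comm y]
  refine ⟨Q, ?_, ?_⟩
  · have key : ∀ x : K, (∀ y, polar Q x y = 0) → x = 0 := by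
      intro x hx
      by_contra hx0
      have := hx (σ (x₀ / x))
      rw [hpol, hσ2, mul_div_cancel₀ _ hx0] at this
      exact hℓ this
    refine ⟨key, fun y hy => key y (fun x => ?_)⟩
    rw [polar_comm]
    exact hy x
  · intro x
    rw [hQa, hQa, map_mul σ, hσα]
    congr 1
    field_simp

section self

variable [Fintype F] {p q : ℕ} [Fact p.Prime] [CharP F p] (hF : Fintype.card F = q)
  {r : ℕ} (hr : r.Prime) (hrp : r ≠ p)

include hF hr hrp

theorem not_dvd_pow_sub_one (n : ℕ) (hn : 0 < n) (hlt : n < orderOf (q : ZMod r)) :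
    ¬ r ∣ q ^ n - 1 := by
  intro h
  have hq1 : 1 ≤ q ^ n := by
    apply Nat.one_le_pow
    rw [← hF]
    exact Fintype.card_pos
  rw [← ZMod.natCast_eq_zero_iff, Nat.cast_sub hq1, Nat.cast_pow, Nat.cast_one, sub_eq_zero] at h
  have := orderOf_le_of_pow_eq_one hn h
  omega

open Cfsg.Agent.Lib.Helper5.QuadGlue in
theorem oreal_self (hr2 : r ≠ 2) (heven : Even (orderOf (q : ZMod r))) {φ : F[X]}
    (hφ : φ ∈ cycFactors r F) : OReal φ False := by
  classical
  obtain ⟨hm, hirr, h3⟩ := mem_cycFactors.1 hφ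
  have h0 := coeff_zero_ne_zero hr hφ
  have hrc := rc_eq_self_of_even hF hr hrp heven hφ
  have hdegi := natDegree_of_mem hF hr hrp hφ
  have hipos := orderOf_q_pos hF hr hrp
  obtain ⟨j, hj⟩ := heven
  have hj1 : 1 ≤ j := by omega
  have hdeg2 : 2 ≤ φ.natDegree := by omega
  haveI : Fact (Irreducible φ) := ⟨hirr⟩
  have hφ0 : φ ≠ 0 := hirr.ne_zero
  haveI : Module.Finite F (AdjoinRoot φ) := (AdjoinRoot.powerBasis hφ0).finite
  obtain ⟨σ, hσ2, hσα, hne⟩ := exists_sigma φ hm hirr h0 hrc hdeg2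
  set α := AdjoinRoot.root φ with hα
  have hα0 : α ≠ 0 := root_ne_zero φ hm hirr h0
  obtain ⟨Q, hQnd, hQα⟩ := exists_form_self α hα0 σ hσ2 hσα hne
  have hroot : aeval α φ = 0 := AdjoinRoot.eval₂_root φ
  have hαr : α ^ r = 1 := by
    obtain ⟨g, hg⟩ := dvd_X_pow_sub_one hr hφ
    have := congrArg (aeval α) hg
    rw [map_mul, hroot, zero_mul, map_sub, map_pow, aeval_X, map_one, sub_eq_zero] at this
    exact this
  set A : AdjoinRoot φ →ₗ[F] AdjoinRoot φ := LinearMap.mulLeft F α with hA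
  have hQA : ∀ v, Q (A v) = Q v := fun v => hQα v
  have hAr : ∀ v, (A ^ r) v = v := by
    intro v
    rw [hA, mulLeft_pow_apply, hαr, one_mul]
  have hAc : A.charpoly = φ := by
    rw [hA, hα, charpoly_mulRoot φ hφ0, hm.leadingCoeff, inv_one, C_1, mul_one]
  have hfr : finrank F (AdjoinRoot φ) = 2 * j := by
    rw [← LinearMap.charpoly_natDegree A, hAc, hdegi, hj, two_mul]
  refine ⟨AdjoinRoot φ, inferInstance, inferInstance, inferInstance, Q, A, r, hQnd, hQA,
    r_ne_zero hF hr hrp, hr.odd_of_ne_two hr2, hAr, hAc, ?_⟩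
  refine iff_of_false ?_ (fun h => h)
  intro hplus
  have hfr' : finrank F (Fin j ⊕ Fin j → F) = 2 * j := by
    rw [Module.finrank_fintype_fun_eq_card, Fintype.card_sum, Fintype.card_fin]
    ring
  obtain ⟨g, hg⟩ := iso_of_type Q (QP j F) hQnd (Cfsg.Agent.Lib.Helper2.QuadStd.QP_nondeg j)
    (by rw [hfr, hfr']) (by rw [hfr]; exact even_two_mul j)
    (iff_of_true hplus (isPlus_QP j))
  obtain ⟨M, hMr, hMc⟩ := transport Q A (Cfsg.quadFormPlus j F) 1 g
    (fun v => by rw [← QP_apply, hg, one_mul]) hQA r hr.pos hAr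
  have hM1 : M ≠ 1 := by
    intro h
    rw [h, hAc] at hMc
    have h4 : ((1 : ↥(Cfsg.isometryGroup F (Cfsg.quadFormPlus j F))) : GL (Fin j ⊕ Fin j) F).val
        = 1 := rfl
    rw [h4, Matrix.charpoly_one] at hMc
    have h5 := eval_one_ne_zero hr hrp hφ
    apply h5
    rw [← hMc, eval_pow, eval_sub, eval_X, eval_one, sub_self, zero_pow]
    rw [Fintype.card_sum, Fintype.card_fin]
    omega
  haveI : Fact r.Prime := ⟨hr⟩
  have hord : orderOf M = r := orderOf_eq_prime hMr hM1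
  have hdvd : r ∣ Nat.card ↥(Cfsg.isometryGroup F (Cfsg.quadFormPlus j F)) := by
    rw [← hord]
    exact orderOf_dvd_natCard M
  rw [Cfsg.Agent.S0287.result hF j hj1] at hdvd
  rcases (Nat.Prime.dvd_mul hr).1 hdvd with h5 | h5
  · rcases (Nat.Prime.dvd_mul hr).1 h5 with h6 | h6
    · rcases (Nat.Prime.dvd_mul hr).1 h6 with h7 | h7
      · exact hr2 ((Nat.prime_dvd_prime_iff_eq hr Nat.prime_two).1 h7)
      · have h8 := hr.dvd_of_dvd_pow h7
        have h9 := coprime_q hF hr hrp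
        have h10 : r ∣ Nat.gcd q r := Nat.dvd_gcd h8 dvd_rfl
        rw [h9] at h10
        exact hr.one_lt.ne' (Nat.dvd_one.1 h10)
    · exact not_dvd_pow_sub_one hF hr hrp j (by omega) (by omega) h6
  · rw [Prime.dvd_finset_prod_iff hr.prime] at h5
    obtain ⟨l, hl, h6⟩ := h5
    rw [Finset.mem_range] at hl
    exact not_dvd_pow_sub_one hF hr hrp (2 * (l + 1)) (by omega) (by omega) h6

end self

end Cfsg.Agent.Lib.Helper5.OrthCls
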