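import Mathlib
import Cfsg.Agent.Lib.Helper5.SemisimpleConj

set_option autoImplicit false

namespace Cfsg.Agent.Lib.Helper5

open Polynomial Module

universe u

section exists_ss
variable {F : Type u} [Field F]

theorem piMap_pow_mulLeft {ι : Type*} (K : ι → Type*) [∀ i, Field (K i)] [∀ i, Algebra F (K i)]
    (a : ∀ i, K i) (k : ℕ) (y : ∀ i, K i) (i : ι) :
    ((piMap (fun i => LinearMap.mulLeft F (a i))) ^ k) y i = a i ^ k * y i := by
  induction k generalizing y with
  | zero => simp
  | succ k ih =>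
    rw [pow_succ', Module.End.mul_apply, piMap_apply, ih, LinearMap.mulLeft_apply, pow_succ']
    ring

theorem coprime_pred_of_dvd {p a : ℕ} (hp : p.Prime) (h : p ∣ a) (ha : 0 < a) :
    (a - 1).Coprime p := by
  apply Nat.Coprime.symm
  rw [Nat.Prime.coprime_iff_not_dvd hp]
  intro h2
  have h3 : p ∣ a - (a - 1) := Nat.dvd_sub h h2
  have h4 : a - (a - 1) = 1 := by omega
  rw [h4] at h3
  exact hp.one_lt.ne' (Nat.dvd_one.1 h3)

/-- Every monic polynomial of degree `n` with nonzero constant term over a finite field is the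
characteristic polynomial of a matrix of finite order prime to the characteristic. -/
theorem exists_semisimple_of_charpoly [Finite F] (p : ℕ) [Fact p.Prime] [CharP F p] {n : ℕ}
    (f : F[X]) (hf : f.Monic) (hdeg : f.natDegree = n) (h0 : f.coeff 0 ≠ 0) :
    ∃ (A : Matrix (Fin n) (Fin n) F) (k : ℕ), 0 < k ∧ k.Coprime p ∧ A ^ k = 1 ∧ A.charpoly = f := by
  classical
  have hf0 : f ≠ 0 := hf.ne_zero
  set M := UniqueFactorizationMonoid.normalizedFactors f with hM
  have hMirr : ∀ π ∈ M, Irreducible π := fun π hπ =>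
    UniqueFactorizationMonoid.irreducible_of_normalized_factor π hπ
  have hMmonic : ∀ π ∈ M, π.Monic := by
    intro π hπ
    have h1 : normalize π = π := UniqueFactorizationMonoid.normalize_normalized_factor π hπ
    rw [← h1]
    exact Polynomial.monic_normalize (hMirr π hπ).ne_zero
  have hMprod : M.prod = f := by
    apply Polynomial.eq_of_monic_of_associated _ hf
      (UniqueFactorizationMonoid.prod_normalizedFactors hf0)
    have := Polynomial.monic_multiset_prod_of_monic M id (fun π hπ => hMmonic π hπ)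
    rwa [Multiset.map_id] at this
  have hMdvd : ∀ π ∈ M, π ∣ f := fun π hπ =>
    UniqueFactorizationMonoid.dvd_of_mem_normalizedFactors hπ
  set L := M.toList with hL
  have hLmem : ∀ i : Fin L.length, L.get i ∈ M := fun i => by
    rw [← Multiset.mem_toList]; exact List.get_mem L i
  let π : Fin L.length → F[X] := fun i => L.get i
  have hπprod : ∏ i, π i = f := by
    rw [← hMprod, ← Multiset.prod_toList M]
    exact Fin.prod_univ_getElem L
  have hπirr : ∀ i, Fact (Irreducible (π i)) := fun i => ⟨hMirr _ (hLmem i)⟩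
  have hπmonic : ∀ i, (π i).Monic := fun i => hMmonic _ (hLmem i)
  have hπne : ∀ i, π i ≠ 0 := fun i => (hπmonic i).ne_zero
  have hfin : ∀ i, Module.Finite F (AdjoinRoot (π i)) := fun i =>
    (AdjoinRoot.powerBasis (hπne i)).finite
  have hFinite : ∀ i, Finite (AdjoinRoot (π i)) := fun i => Module.finite_of_finite F
  let hFt : ∀ i, Fintype (AdjoinRoot (π i)) := fun i => Fintype.ofFinite _
  have hchar : ∀ i, CharP (AdjoinRoot (π i)) p := fun i =>
    charP_of_injective_algebraMap (algebraMap F (AdjoinRoot (π i))).injective p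
  let T : (∀ i, AdjoinRoot (π i)) →ₗ[F] (∀ i, AdjoinRoot (π i)) :=
    piMap (fun i => LinearMap.mulLeft F (AdjoinRoot.root (π i)))
  have hTchar : T.charpoly = f := by
    rw [charpoly_piMap, ← hπprod]
    apply Finset.prod_congr rfl
    intro i _
    rw [charpoly_mulRoot _ (hπne i), (hπmonic i).leadingCoeff, inv_one, map_one, mul_one]
  have hrank : Module.finrank F (∀ i, AdjoinRoot (π i)) = n := by
    rw [← LinearMap.charpoly_natDegree T, hTchar, hdeg]
  let b : Basis (Fin n) F (∀ i, AdjoinRoot (π i)) := Module.finBasisOfFinrankEq F _ hrank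
  set k := ∏ i, (Fintype.card (AdjoinRoot (π i)) - 1) with hk
  have hroot : ∀ i, AdjoinRoot.root (π i) ≠ 0 := by
    intro i h
    have h1 : π i ∣ X := by
      rw [← AdjoinRoot.mk_eq_zero, AdjoinRoot.mk_X]; exact h
    have h2 : X ∣ π i := (hπirr i).out.dvd_symm Polynomial.irreducible_X h1
    have h3 : X ∣ f := dvd_trans h2 (hMdvd _ (hLmem i))
    exact h0 (Polynomial.X_dvd_iff.1 h3)
  have hrootpow : ∀ i, AdjoinRoot.root (π i) ^ k = 1 := by
    intro i
    have h1 : (Fintype.card (AdjoinRoot (π i)) - 1) ∣ k :=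
      Finset.dvd_prod_of_mem _ (Finset.mem_univ i)
    obtain ⟨m, hm⟩ := h1
    rw [hm, pow_mul, FiniteField.pow_card_sub_one_eq_one _ (hroot i), one_pow]
  have hTk : T ^ k = 1 := by
    apply LinearMap.ext
    intro y
    funext i
    rw [piMap_pow_mulLeft, hrootpow, one_mul]
    rfl
  refine ⟨LinearMap.toMatrix b b T, k, ?_, ?_, ?_, ?_⟩
  · apply Finset.prod_pos
    intro i _
    have := Fintype.one_lt_card (α := AdjoinRoot (π i))
    omega
  · apply Nat.Coprime.prod_left
    intro i _
    obtain ⟨m, hp, hm⟩ := FiniteField.card (AdjoinRoot (π i)) p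
    apply coprime_pred_of_dvd hp
    · rw [hm]; exact dvd_pow_self p m.ne_zero
    · exact Fintype.card_pos
  · rw [LinearMap.toMatrix_pow, hTk, LinearMap.toMatrix_one]
  · rw [LinearMap.charpoly_toMatrix, hTchar]

end exists_ss

section polyOf
variable {F : Type u} [Field F] {n : ℕ}

/-- The monic polynomial of degree `n` with prescribed lower coefficients. -/
noncomputable def polyOf (c : Fin n → F) : F[X] := X ^ n + ∑ i : Fin n, C (c i) * X ^ (i : ℕ)

theorem polyOf_monic (c : Fin n → F) : (polyOf c).Monic :=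
  Polynomial.monic_X_pow_add (Polynomial.degree_sum_fin_lt c)

theorem polyOf_natDegree (c : Fin n → F) : (polyOf c).natDegree = n := by
  rw [polyOf, natDegree_add_eq_left_of_degree_lt, natDegree_X_pow]
  rw [degree_X_pow]
  exact Polynomial.degree_sum_fin_lt c

theorem polyOf_coeff (c : Fin n → F) (i : Fin n) : (polyOf c).coeff i = c i := by
  classical
  rw [polyOf, coeff_add, coeff_X_pow, if_neg (by exact (Fin.is_lt i).ne), zero_add,
    finsetSum_coeff]
  rw [Finset.sum_eq_single i]
  · rw [coeff_C_mul_X_pow, if_pos rfl]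
  · intro j _ hj
    rw [coeff_C_mul_X_pow, if_neg]
    intro h
    exact hj (Fin.ext h.symm)
  · intro h; exact absurd (Finset.mem_univ _) h

theorem polyOf_injective : Function.Injective (polyOf : (Fin n → F) → F[X]) := by
  intro c c' h
  funext i
  rw [← polyOf_coeff c i, ← polyOf_coeff c' i, h]

theorem polyOf_coeff_eq (f : F[X]) (hf : f.Monic) (hdeg : f.natDegree = n) :
    polyOf (fun i : Fin n => f.coeff i) = f := by
  conv_rhs => rw [hf.as_sum]
  rw [polyOf, hdeg, Fin.sum_univ_eq_sum_range (fun i => C (f.coeff i) * X ^ i) n]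

theorem card_ne_zero_at [Fintype F] (i0 : Fin n) :
    Nat.card {c : Fin n → F // c i0 ≠ 0} = (Fintype.card F - 1) * Fintype.card F ^ (n - 1) := by
  classical
  have e1 : {c : Fin n → F // c i0 ≠ 0} ≃ {s : F × ({j // j ≠ i0} → F) // s.1 ≠ 0} :=
    Equiv.subtypeEquiv (Equiv.funSplitAt i0 F) (fun c => Iff.rfl)
  have e2 : {s : F × ({j // j ≠ i0} → F) // s.1 ≠ 0} ≃ {a : F // a ≠ 0} × ({j // j ≠ i0} → F) :=
    Equiv.prodSubtypeFstEquivSubtypeProd (p := fun a : F => a ≠ 0)
  rw [Nat.card_congr (e1.trans e2), Nat.card_prod, Nat.card_eq_fintype_card,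
    Nat.card_eq_fintype_card, Fintype.card_subtype_compl, Fintype.card_subtype_eq,
    Fintype.card_fun, Fintype.card_subtype_compl, Fintype.card_subtype_eq, Fintype.card_fin]

end polyOf


end Cfsg.Agent.Lib.Helper5
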