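import Mathlib
import Cfsg.Agent.Lib.Helper5.SemisimpleConj
import Cfsg.Agent.Lib.Helper5.SemisimpleExists
import Cfsg.Agent.S2388

set_option autoImplicit false

namespace Cfsg.Agent.Lib.Helper5

open Polynomial Module

universe u v

section
variable {F : Type u} [Field F] {V : Type v} [AddCommGroup V] [Module F V] [FiniteDimensional F V]

/-- The characteristic polynomial divides a power of any nonzero annihilating polynomial. -/
theorem charpoly_dvd_pow_of_aeval_eq_zero (φ : V →ₗ[F] V) (s : F[X]) (hφ : aeval φ s = 0) :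
    ∃ m, φ.charpoly ∣ s ^ m := by
  classical
  obtain ⟨ι, _, p, hp, e, Ψ, hΨ⟩ := exists_primary_decomp φ
  have hdvd : ∀ i, p i ^ e i ∣ s := by
    intro i
    have h1 := hΨ s (Ψ.symm (Pi.single i 1)) i
    rw [hφ, LinearMap.zero_apply, map_zero, Pi.zero_apply, LinearEquiv.apply_symm_apply,
      Pi.single_eq_same, mul_one] at h1
    exact Ideal.mem_span_singleton.1 (Ideal.Quotient.eq_zero_iff_mem.1 h1.symm)
  have hne : ∀ i, p i ^ e i ≠ 0 := fun i => pow_ne_zero _ (hp i).ne_zero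
  have fin : ∀ i, Module.Finite F (F[X] ⧸ F[X] ∙ p i ^ e i) := fun i =>
    (AdjoinRoot.powerBasis (hne i)).finite
  have hconj : Ψ.conj φ =
      piMap (fun i => LinearMap.mulLeft F (Ideal.Quotient.mk (F[X] ∙ p i ^ e i) X)) := by
    apply LinearMap.ext
    intro y
    rw [LinearEquiv.conj_apply_apply]
    funext i
    rw [primary_decomp_X φ Ψ hΨ, LinearEquiv.apply_symm_apply]
    rfl
  refine ⟨Fintype.card ι, ?_⟩
  rw [← LinearEquiv.charpoly_conj Ψ, hconj, charpoly_piMap]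
  have h2 : ∀ i, (LinearMap.mulLeft F (Ideal.Quotient.mk (F[X] ∙ p i ^ e i) X)).charpoly ∣ s := by
    intro i
    rw [charpoly_mulX _ (hne i)]
    exact ((nz_associated (hne i)).dvd_iff_dvd_left).2 (hdvd i)
  calc (∏ i, (LinearMap.mulLeft F (Ideal.Quotient.mk (F[X] ∙ p i ^ e i) X)).charpoly)
      ∣ ∏ _i : ι, s := Finset.prod_dvd_prod_of_dvd _ _ (fun i _ => h2 i)
    _ = s ^ Fintype.card ι := by rw [Finset.prod_const, Finset.card_univ]

end

section gl
variable {F : Type u} [Field F] {n : ℕ}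

theorem charpoly_dvd_of_pow_eq_one (g : Matrix.GeneralLinearGroup (Fin n) F) (r : ℕ)
    (hg : g ^ r = 1) : ∃ m, g.val.charpoly ∣ (X ^ r - 1 : F[X]) ^ m := by
  have hA : g.val ^ r = 1 := by
    rw [← Units.val_pow_eq_pow_val, hg, Units.val_one]
  have hφ : aeval (Matrix.toLin' g.val) (X ^ r - 1 : F[X]) = 0 := by
    rw [map_sub, map_pow, aeval_X, map_one, ← Matrix.toLin'_pow, hA, Matrix.toLin'_one]
    exact sub_self _
  obtain ⟨m, hm⟩ := charpoly_dvd_pow_of_aeval_eq_zero _ _ hφ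
  rw [Matrix.charpoly_toLin'] at hm
  exact ⟨m, hm⟩

theorem exists_gl_of_charpoly_dvd [Finite F] (p : ℕ) [Fact p.Prime] [CharP F p] (r : ℕ) (hr : r.Prime) (f : F[X]) (hf : f.Monic)
    (hdeg : f.natDegree = n) (m : ℕ) (hm : f ∣ (X ^ r - 1 : F[X]) ^ m) :
    ∃ g : Matrix.GeneralLinearGroup (Fin n) F, g ^ r = 1 ∧ g.val.charpoly = f := by
  have hr0 : r ≠ 0 := hr.ne_zero
  have hc0 : (X ^ r - 1 : F[X]).coeff 0 = -1 := by
    rw [coeff_sub, coeff_X_pow, coeff_one_zero, if_neg (Ne.symm hr0), zero_sub]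
  have h0 : f.coeff 0 ≠ 0 := by
    intro h
    have h1 : (X : F[X]) ∣ f := X_dvd_iff.2 h
    have h2 : (X : F[X]) ∣ X ^ r - 1 := prime_X.dvd_of_dvd_pow (dvd_trans h1 hm)
    have h3 := X_dvd_iff.1 h2
    rw [hc0] at h3
    exact one_ne_zero (neg_eq_zero.1 h3)
  obtain ⟨A, k, hk0, hkp, hAk, hAf⟩ := exists_semisimple_of_charpoly p f hf hdeg h0
  have hkF : (k : F) ≠ 0 := by
    intro h
    have h1 : p ∣ k := (CharP.cast_eq_zero_iff F p k).1 h
    have h2 : p ∣ Nat.gcd k p := Nat.dvd_gcd h1 dvd_rfl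
    rw [hkp] at h2
    exact (Fact.out : p.Prime).one_lt.ne' (Nat.dvd_one.1 h2)
  have hs : Squarefree (X ^ k - 1 : F[X]) := by
    have : (X ^ k - C (1 : F)).Separable := Polynomial.separable_X_pow_sub_C 1 hkF one_ne_zero
    rw [map_one] at this
    exact this.squarefree
  have h1 : minpoly F A ∣ (X ^ k - 1 : F[X]) := by
    apply minpoly.dvd
    rw [map_sub, map_pow, aeval_X, map_one, hAk, sub_self]
  have h2 : Squarefree (minpoly F A) := hs.squarefree_of_dvd h1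
  have h3 : minpoly F A ∣ (X ^ r - 1 : F[X]) ^ (m + 1) := by
    refine dvd_trans (Matrix.minpoly_dvd_charpoly A) ?_
    rw [hAf, pow_succ]
    exact dvd_mul_of_dvd_left hm _
  have h4 : minpoly F A ∣ (X ^ r - 1 : F[X]) := (h2.dvd_pow_iff_dvd (Nat.succ_ne_zero m)).1 h3
  have h5 : aeval A (X ^ r - 1 : F[X]) = 0 := by
    obtain ⟨c, hc⟩ := h4
    rw [hc, map_mul, minpoly.aeval, zero_mul]
  have hAr : A ^ r = 1 := by
    rw [map_sub, map_pow, aeval_X, map_one] at h5
    exact sub_eq_zero.1 h5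
  obtain ⟨r', rfl⟩ : ∃ r', r = r' + 1 := ⟨r - 1, by omega⟩
  refine ⟨⟨A, A ^ r', by rw [← pow_succ', hAr], by rw [← pow_succ, hAr]⟩, ?_, hAf⟩
  apply Units.ext
  rw [Units.val_pow_eq_pow_val, Units.val_one]
  exact hAr

theorem isConj_of_charpoly_eq (p : ℕ) [Fact p.Prime] [CharP F p] (r : ℕ) (hr : r.Prime) (hrp : r ≠ p)
    (g h : Matrix.GeneralLinearGroup (Fin n) F) (hg : g ^ r = 1) (hh : h ^ r = 1)
    (hc : g.val.charpoly = h.val.charpoly) : IsConj g h := by
  have hp : p.Prime := Fact.out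
  have hcop : r.Coprime p := (Nat.coprime_primes hr hp).2 hrp
  have hA : g.val ^ r = 1 := by
    rw [← Units.val_pow_eq_pow_val, hg, Units.val_one]
  have hB : h.val ^ r = 1 := by
    rw [← Units.val_pow_eq_pow_val, hh, Units.val_one]
  obtain ⟨P, hP, hPM⟩ := Cfsg.Agent.S2388.exists_gl_conj p g.val h.val r hcop hA hB hc
  have hPu : IsUnit P := (Matrix.isUnit_iff_isUnit_det P).2 hP
  obtain ⟨c, rfl⟩ := hPu
  rw [isConj_iff]
  refine ⟨c, ?_⟩
  have h1 : c * g = h * c := Units.ext (by rw [Units.val_mul, Units.val_mul, hPM])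
  rw [h1]; group

end gl

end Cfsg.Agent.Lib.Helper5
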