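import Mathlib
import Cfsg.Agent.Lib.Helper5.OrthCls7
import Cfsg.Agent.Lib.Helper5.PrimeOrderGL

set_option autoImplicit false

namespace Cfsg.Agent.Lib.Helper5.OrthCls

open QuadraticMap Module Polynomial
open Cfsg.Agent.Lib.Helper5.Pal Cfsg.Agent.Lib.Helper5.SpReal Cfsg.Agent.Lib.Helper5.SSOrder
  Cfsg.Agent.Lib.Helper5

universe u

variable {F : Type u} [Field F]

theorem exists_aniso [Finite F] :
    ∃ ζ : F, ∀ z₁ z₂ : F, z₁ ^ 2 + 1 * z₁ * z₂ + ζ * z₂ ^ 2 = 0 → z₁ = 0 ∧ z₂ = 0 := by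
  classical
  have hni : ¬ Function.Injective (fun t : F => t ^ 2 + t) := by
    intro h
    have h1 : (fun t : F => t ^ 2 + t) 0 = (fun t : F => t ^ 2 + t) (-1) := by
      show (0 : F) ^ 2 + 0 = (-1) ^ 2 + -1
      ring
    have h2 := h h1
    have : (1 : F) = 0 := by
      have := congrArg (fun x : F => -x) h2
      simpa using this.symm
    exact one_ne_zero this
  have hns : ¬ Function.Surjective (fun t : F => t ^ 2 + t) := fun h =>
    hni (Finite.injective_iff_surjective.2 h)
  rw [Function.Surjective] at hns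
  push Not at hns
  obtain ⟨c, hc⟩ := hns
  refine ⟨-c, ?_⟩
  intro z₁ z₂ h
  by_cases hz : z₂ = 0
  · subst hz
    refine ⟨?_, rfl⟩
    have : z₁ ^ 2 = 0 := by
      rw [← h]; ring
    exact pow_eq_zero_iff (two_ne_zero) |>.1 this
  · exfalso
    apply hc (z₁ / z₂)
    show (z₁ / z₂) ^ 2 + z₁ / z₂ = c
    have h3 : z₁ ^ 2 + z₁ * z₂ = c * z₂ ^ 2 := by
      have : z₁ ^ 2 + z₁ * z₂ - c * z₂ ^ 2 = 0 := by
        rw [← h]; ring
      exact sub_eq_zero.1 this
    field_simp
    linear_combination h3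

theorem oreal_id {V : Type u} [AddCommGroup V] [Module F V] [FiniteDimensional F V]
    (Q : QuadraticForm F V) (hQ : (polarBilin Q).Nondegenerate) :
    OReal ((X - 1 : F[X]) ^ finrank F V) (IsPlus Q) := by
  refine ⟨V, inferInstance, inferInstance, inferInstance, Q, 1, 1, hQ, fun v => rfl, ?_, odd_one,
    fun v => ?_, LinearMap.charpoly_one, Iff.rfl⟩
  · rw [Nat.cast_one]; exact one_ne_zero
  · rw [pow_one]; rfl

open Cfsg.Agent.Lib.Helper5.QuadGlue in
theorem oreal_id_plus (j : ℕ) : OReal ((X - 1 : F[X]) ^ (2 * j)) True := by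
  have h1 := oreal_id (QP j F) (Cfsg.Agent.Lib.Helper2.QuadStd.QP_nondeg j)
  rw [Module.finrank_fintype_fun_eq_card, Fintype.card_sum, Fintype.card_fin, ← two_mul] at h1
  exact h1.congr (iff_of_true (isPlus_QP j) trivial)

open Cfsg.Agent.Lib.Helper2.OrthCard in
theorem oreal_id_minus [Finite F] (j : ℕ) (hj : 1 ≤ j) :
    OReal ((X - 1 : F[X]) ^ (2 * j)) False := by
  obtain ⟨ζ, hζ⟩ := exists_aniso (F := F)
  have h1 := oreal_id (QMn (j - 1) 1 ζ) (QMn_nondeg (j - 1) 1 ζ hζ)
  rw [Module.finrank_fintype_fun_eq_card, Fintype.card_sum, Fintype.card_sum, Fintype.card_fin,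
    Fintype.card_fin, show j - 1 + (j - 1) + 2 = 2 * j by omega] at h1
  exact h1.congr (iff_of_false (not_isPlus_QMn (j - 1) 1 ζ hζ) (fun h => h))

section models

variable [Fintype F] {p q : ℕ} [Fact p.Prime] [CharP F p] (hF : Fintype.card F = q)
  {r : ℕ} (hr : r.Prime) (hrp : r ≠ p)

include hF hr hrp

/-- hyperbolic realisation of `f * rc f` for `f` dividing a power of `X ^ r - 1` -/
theorem oreal_hyp_poly (hr2 : r ≠ 2) (f : F[X]) (hf : f.Monic) (N : ℕ)
    (hN : f ∣ (X ^ r - 1 : F[X]) ^ N) : OReal (f * rc f) True := by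
  obtain ⟨M, hMr, hMc⟩ := exists_gl_of_charpoly_dvd (n := f.natDegree) p r hr f hf rfl N hN
  have := oreal_hyp M r (r_ne_zero hF hr hrp) (hr.odd_of_ne_two hr2) hMr
  rwa [hMc] at this

omit hF hrp in
theorem pow_dvd_pow_X (x : cycFactors r F) (n : ℕ) :
    (x : F[X]) ^ n ∣ (X ^ r - 1 : F[X]) ^ n :=
  pow_dvd_pow_of_dvd (dvd_X_pow_sub_one hr x.2) n

omit hF hrp in
theorem prod_dvd_pow_X (s : Finset (cycFactors r F)) (a : cycFactors r F → ℕ) :
    (∏ x ∈ s, (x : F[X]) ^ a x) ∣ (X ^ r - 1 : F[X]) ^ (∑ x ∈ s, a x) := by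
  rw [← Finset.prod_pow_eq_pow_sum]
  exact Finset.prod_dvd_prod_of_dvd _ _ (fun x _ => pow_dvd_pow_X hr x (a x))

theorem oreal_single (hr2 : r ≠ 2) (heven : Even (orderOf (q : ZMod r))) (x : cycFactors r F)
    (n : ℕ) : OReal ((x : F[X]) ^ n) (Even n) := by
  have hI := cyc_facSys hF hr hrp
  have hxm := hI.monic x.1 x.2
  have hrc : rc (x : F[X]) = x := rc_eq_self_of_even hF hr hrp heven x.2
  have key : ∀ m' : ℕ, OReal ((x : F[X]) ^ (2 * m')) True := by
    intro m'
    have h1 := oreal_hyp_poly hF hr hrp hr2 ((x : F[X]) ^ m') (hxm.pow m') m'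
      (pow_dvd_pow_X hr x m')
    rw [rc_pow, hrc, ← pow_add, ← two_mul] at h1
    exact h1
  rcases Nat.even_or_odd' n with ⟨m', hm' | hm'⟩
  · rw [hm']
    exact (key m').congr (iff_of_true trivial (even_two_mul m'))
  · rw [hm', pow_succ]
    have h2 := (key m').mul (oreal_self hF hr hrp hr2 heven x.2)
      (by
        rw [hxm.natDegree_pow]
        exact (even_two_mul m').mul_right _)
      (by rw [hI.deg x.1 x.2]; exact heven)
    refine h2.congr (iff_of_false (fun h => (h.1 trivial)) ?_)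
    rw [Nat.not_even_iff_odd]
    exact ⟨m', rfl⟩

theorem oreal_Gp_even (hr2 : r ≠ 2) (heven : Even (orderOf (q : ZMod r)))
    (a : cycFactors r F → ℕ) :
    OReal (Gp (cycFactors r F) a) (Even (∑ x, a x)) := by
  classical
  have hI := cyc_facSys hF hr hrp
  have key : ∀ s : Finset (cycFactors r F),
      OReal (∏ x ∈ s, (x : F[X]) ^ a x) (Even (∑ x ∈ s, a x)) := by
    intro s
    induction s using Finset.induction_on with
    | empty =>
      rw [Finset.prod_empty, Finset.sum_empty]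
      exact oreal_one.congr (iff_of_true trivial (by decide))
    | insert x s hx ih =>
      rw [Finset.prod_insert hx, Finset.sum_insert hx]
      have h1 := (oreal_single hF hr hrp hr2 heven x (a x)).mul ih
        (by
          rw [(hI.monic x.1 x.2).natDegree_pow, hI.deg x.1 x.2]
          exact heven.mul_left _)
        (by
          rw [natDegree_prod_of_monic _ _ (fun y _ => (hI.monic y.1 y.2).pow _)]
          apply Finset.even_sum
          intro y _
          rw [(hI.monic y.1 y.2).natDegree_pow, hI.deg y.1 y.2]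
          exact heven.mul_left _)
      exact h1.congr Nat.even_add.symm
  exact key Finset.univ

theorem oreal_Gp_odd (hr2 : r ≠ 2) (hodd : Odd (orderOf (q : ZMod r)))
    (a : cycFactors r F → ℕ) (ha : ∀ x, a (tauI (cyc_facSys hF hr hrp) x) = a x) :
    OReal (Gp (cycFactors r F) a) True := by
  classical
  have hI := cyc_facSys hF hr hrp
  have hfree : ∀ x, tauI hI x ≠ x := by
    intro x hx
    have := congrArg Subtype.val hx
    exact rc_ne_self_of_odd hF hr hrp hr2 hodd x.2 this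
  obtain ⟨J, hJ⟩ := exists_reps (tauI hI) (tauI_tauI hI) hfree
  set f : F[X] := ∏ x ∈ J, (x : F[X]) ^ a x with hf
  have hfm : f.Monic := monic_prod_of_monic _ _ (fun x _ => (hI.monic x.1 x.2).pow _)
  have hrcf : rc f = ∏ x ∈ Jᶜ, (x : F[X]) ^ a x := by
    rw [hf, rc_prod]
    apply Finset.prod_bij (fun x _ => tauI hI x)
    · intro x hx
      rw [Finset.mem_compl]
      exact (hJ x).1 hx
    · intro x _ y _ hxy
      have := congrArg (tauI hI) hxy
      rwa [tauI_tauI, tauI_tauI] at this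
    · intro y hy
      rw [Finset.mem_compl] at hy
      refine ⟨tauI hI y, ?_, tauI_tauI hI y⟩
      rw [hJ, tauI_tauI]
      exact hy
    · intro x _
      rw [rc_pow, ha x]
      rfl
  have h1 := oreal_hyp_poly hF hr hrp hr2 f hfm (∑ x ∈ J, a x) (prod_dvd_pow_X hr J a)
  rw [hrcf, Finset.prod_mul_prod_compl] at h1
  exact h1

theorem oreal_Gp (hr2 : r ≠ 2) (a : cycFactors r F → ℕ)
    (ha : ∀ x, a (tauI (cyc_facSys hF hr hrp) x) = a x) :
    OReal (Gp (cycFactors r F) a) (Odd (orderOf (q : ZMod r)) ∨ Even (∑ x, a x)) := by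
  rcases Nat.even_or_odd (orderOf (q : ZMod r)) with h | h
  · refine (oreal_Gp_even hF hr hrp hr2 h a).congr ?_
    constructor
    · intro h'; exact Or.inr h'
    · rintro (h' | h')
      · exact absurd h (Nat.not_even_iff_odd.2 h')
      · exact h'
  · exact (oreal_Gp_odd hF hr hrp hr2 h a ha).congr (iff_of_true trivial (Or.inl h))

end models

end Cfsg.Agent.Lib.Helper5.OrthCls
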