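import Mathlib
import Cfsg.Agent.Lib.Helper5.OrthCls8
import Cfsg.Agent.Lib.Helper5.OrthCls1

set_option autoImplicit false

namespace Cfsg.Agent.Lib.Helper5.OrthCls

open QuadraticMap Module Polynomial
open Cfsg.Agent.Lib.Helper5.Pal Cfsg.Agent.Lib.Helper5.SpReal Cfsg.Agent.Lib.Helper5.SSOrder
  Cfsg.Agent.Lib.Helper5 Cfsg.Agent.S2590

universe u

variable {F : Type u} [Field F]

theorem pow_mul_apply_eq {V : Type*} [AddCommGroup V] [Module F V] (A : Module.End F V) (k : ℕ)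
    (hAk : ∀ v, (A ^ k) v = v) (j : ℕ) (v : V) : (A ^ (k * j)) v = v := by
  have : ∀ j : ℕ, ((A ^ k) ^ j) v = v := by
    intro j
    induction j with
    | zero => simp
    | succ j ih => rw [pow_succ, Module.End.mul_apply, hAk, ih]
  rw [pow_mul]
  exact this j

theorem OReal.unique [Finite F] {f : F[X]} {P P' : Prop} (h : OReal f P) (h' : OReal f P')
    (hfpf : f.eval 1 ≠ 0) : P ↔ P' := by
  obtain ⟨V₁, iA₁, iM₁, iF₁, Q₁, A₁, k₁, h11, h12, h13, h14, h15, h16, h17⟩ := h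
  obtain ⟨V₂, iA₂, iM₂, iF₂, Q₂, A₂, k₂, h21, h22, h23, h24, h25, h26, h27⟩ := h'
  have hfp : ∀ v, A₁ v = v → v = 0 := by
    intro v hv
    by_contra hv0
    have h1 : Module.End.HasEigenvalue A₁ 1 :=
      Module.End.hasEigenvalue_of_hasEigenvector
        ⟨Module.End.mem_eigenspace_iff.2 (by rw [hv, one_smul]), hv0⟩
    rw [Module.End.hasEigenvalue_iff_isRoot_charpoly, h16] at h1
    exact hfpf h1
  obtain ⟨g, hg⟩ := fpf_isometric Q₁ Q₂ h11 h21 (k₁ * k₂)
    (by rw [Nat.cast_mul]; exact mul_ne_zero h13 h23) (h14.mul h24) A₁ A₂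
    (fun v => pow_mul_apply_eq A₁ k₁ h15 k₂ v)
    (fun v => by rw [mul_comm]; exact pow_mul_apply_eq A₂ k₂ h25 k₁ v)
    h12 h22 hfp (by rw [h16, h26])
  rw [← h17, ← h27]
  exact isPlus_iff_of_isometry g hg

section bridge

variable {ι : Type} [Fintype ι] [DecidableEq ι]

theorem coe_pow_eq_one (Q : (ι → F) → F) (g : ↥(Cfsg.isometryGroup F Q)) (k : ℕ)
    (hgk : g ^ k = 1) : ((g : GL ι F) : Matrix ι ι F) ^ k = 1 := by
  have h1 := congrArg (fun x : ↥(Cfsg.isometryGroup F Q) => ((x : GL ι F) : Matrix ι ι F)) hgk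
  simpa [SubgroupClass.coe_pow, Units.val_pow_eq_pow_val] using h1

theorem oreal_of_mem (Q : QuadraticForm F (ι → F)) (hQ : (polarBilin Q).Nondegenerate)
    (g : ↥(Cfsg.isometryGroup F ⇑Q)) (k : ℕ) (hk : (k : F) ≠ 0) (hodd : Odd k)
    (hgk : g ^ k = 1) :
    OReal ((g : GL ι F) : Matrix ι ι F).charpoly (IsPlus Q) := by
  refine ⟨(ι → F), inferInstance, inferInstance, inferInstance, Q,
    Matrix.toLin' ((g : GL ι F) : Matrix ι ι F), k, hQ, ?_, hk, hodd, ?_,
    Matrix.charpoly_toLin' _, Iff.rfl⟩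
  · intro v
    rw [Matrix.toLin'_apply]
    exact g.2 v v
  · intro v
    rw [← Matrix.toLin'_pow, coe_pow_eq_one _ g k hgk, Matrix.toLin'_one]
    rfl

theorem OReal.exists_matrix [Finite F] (Q : QuadraticForm F (ι → F))
    (hQ : (polarBilin Q).Nondegenerate) {f : F[X]} (h : OReal f (IsPlus Q))
    (hd : f.natDegree = Fintype.card ι) (hev : Even (Fintype.card ι)) :
    ∃ (M : ↥(Cfsg.isometryGroup F ⇑Q)) (k : ℕ), (k : F) ≠ 0 ∧ M ^ k = 1 ∧
      ((M : GL ι F) : Matrix ι ι F).charpoly = f := by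
  obtain ⟨V, iA, iM, iF, Q₁, A, k, h1, h2, h3, h4, h5, h6, h7⟩ := h
  have hdim : finrank F V = finrank F (ι → F) := by
    rw [Module.finrank_fintype_fun_eq_card, ← hd, ← h6, LinearMap.charpoly_natDegree]
  obtain ⟨g, hg⟩ := iso_of_type Q₁ Q h1 hQ hdim
    (by rw [hdim, Module.finrank_fintype_fun_eq_card]; exact hev) h7
  obtain ⟨M, hM, hMc⟩ := transport Q₁ A ⇑Q 1 g (fun v => by rw [one_mul]; exact hg v) h2 k
    h4.pos h5
  exact ⟨M, k, h3, hM, hMc.trans h6⟩

theorem rc_charpoly_of_mem (Q : QuadraticForm F (ι → F)) (hQ : (polarBilin Q).Nondegenerate)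
    (g : ↥(Cfsg.isometryGroup F ⇑Q)) :
    rc ((g : GL ι F) : Matrix ι ι F).charpoly = ((g : GL ι F) : Matrix ι ι F).charpoly := by
  set M : Matrix ι ι F := ((g : GL ι F) : Matrix ι ι F) with hM
  set B : Matrix ι ι F := LinearMap.BilinForm.toMatrix' (polarBilin Q) with hB
  have hQM : ∀ v, Q (Matrix.toLin' M v) = Q v := by
    intro v
    rw [Matrix.toLin'_apply]
    exact g.2 v v
  have hpres : ∀ u v, polarBilin Q (Matrix.toLin' M u) (Matrix.toLin' M v) = polarBilin Q u v := by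
    intro u v
    show polar Q _ _ = polar Q u v
    simp only [polar, ← map_add, hQM]
  have hcomp : LinearMap.BilinForm.comp (polarBilin Q) (Matrix.toLin' M) (Matrix.toLin' M) =
      polarBilin Q :=
    LinearMap.BilinForm.ext (fun u v => hpres u v)
  have h1 : M.transpose * B * M = B := by
    have h2 := LinearMap.BilinForm.toMatrix'_comp (polarBilin Q) (Matrix.toLin' M)
      (Matrix.toLin' M)
    rw [LinearMap.toMatrix'_toLin', hcomp] at h2
    exact h2.symm
  have hdet : B.det ≠ 0 := by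
    rw [← Matrix.nondegenerate_iff_det_ne_zero, hB,
      LinearMap.BilinForm.nondegenerate_toMatrix'_iff]
    exact hQ
  have hBu : IsUnit B.det := IsUnit.mk0 _ hdet
  set N : Matrix ι ι F := B⁻¹ * (M.transpose * B) with hN
  have hNM : N * M = 1 := by
    rw [hN, mul_assoc, h1, Matrix.nonsing_inv_mul _ hBu]
  have hMN : M * N = 1 := mul_eq_one_comm.1 hNM
  have h2 := charpoly_inv_eq_rc_matrix' M N hMN
  rw [← h2, hN, Matrix.charpoly_mul_comm, mul_assoc, Matrix.mul_nonsing_inv _ hBu, mul_one,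
    Matrix.charpoly_transpose]

end bridge

theorem orth_conj [Finite F] {V : Type u} [AddCommGroup V] [Module F V] [FiniteDimensional F V]
    (Q : QuadraticForm F V) (hQ : (polarBilin Q).Nondegenerate) (k : ℕ)
    (hk : (k : F) ≠ 0) (hodd : Odd k) (A B : Module.End F V)
    (hAk : ∀ v, (A ^ k) v = v) (hBk : ∀ v, (B ^ k) v = v)
    (hQA : ∀ v, Q (A v) = Q v) (hQB : ∀ v, Q (B v) = Q v) (hc : A.charpoly = B.charpoly) :
    ∃ g : V ≃ₗ[F] V, (∀ v, Q (g v) = Q v) ∧ ∀ v, g (A v) = B (g v) := by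
  have hs : Squarefree (X ^ k - 1 : F[X]) := by
    have : (X ^ k - C (1 : F)).Separable := Polynomial.separable_X_pow_sub_C 1 hk one_ne_zero
    rw [map_one] at this
    exact this.squarefree
  have hAs : aeval A (X ^ k - 1 : F[X]) = 0 := by
    rw [map_sub, map_pow, aeval_X, map_one, sub_eq_zero]
    exact LinearMap.ext hAk
  have hBs : aeval B (X ^ k - 1 : F[X]) = 0 := by
    rw [map_sub, map_pow, aeval_X, map_one, sub_eq_zero]
    exact LinearMap.ext hBk
  obtain ⟨E, hE⟩ := conj_of_charpoly_eq A B _ hs hAs hBs hc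
  exact orth_core Q hQ k hk hodd A B E hAk hQA hQB hE

section conj

variable {ι : Type} [Fintype ι] [DecidableEq ι]

theorem isConj_of_charpoly [Finite F] (Q : QuadraticForm F (ι → F))
    (hQ : (polarBilin Q).Nondegenerate) (A B : ↥(Cfsg.isometryGroup F ⇑Q)) (k : ℕ)
    (hk : (k : F) ≠ 0) (hodd : Odd k) (hA : A ^ k = 1) (hB : B ^ k = 1)
    (hc : ((A : GL ι F) : Matrix ι ι F).charpoly = ((B : GL ι F) : Matrix ι ι F).charpoly) :
    IsConj A B := by
  set AM : Matrix ι ι F := ((A : GL ι F) : Matrix ι ι F) with hAM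
  set BM : Matrix ι ι F := ((B : GL ι F) : Matrix ι ι F) with hBM
  have hAk : AM ^ k = 1 := coe_pow_eq_one _ A k hA
  have hBk : BM ^ k = 1 := coe_pow_eq_one _ B k hB
  have hQA : ∀ v, Q (Matrix.toLin' AM v) = Q v := by
    intro v
    rw [Matrix.toLin'_apply]
    exact A.2 v v
  have hQB : ∀ v, Q (Matrix.toLin' BM v) = Q v := by
    intro v
    rw [Matrix.toLin'_apply]
    exact B.2 v v
  obtain ⟨g, hg, hgA⟩ := orth_conj Q hQ k hk hodd (Matrix.toLin' AM) (Matrix.toLin' BM)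
    (fun v => by rw [← Matrix.toLin'_pow, hAk, Matrix.toLin'_one]; rfl)
    (fun v => by rw [← Matrix.toLin'_pow, hBk, Matrix.toLin'_one]; rfl) hQA hQB
    (by rw [Matrix.charpoly_toLin', Matrix.charpoly_toLin']; exact hc)
  set Z : Matrix ι ι F := LinearMap.toMatrix' g.toLinearMap with hZ
  set Z' : Matrix ι ι F := LinearMap.toMatrix' g.symm.toLinearMap with hZ'
  have hZZ' : Z * Z' = 1 := by
    rw [hZ, hZ', ← LinearMap.toMatrix'_comp]
    have : g.toLinearMap ∘ₗ g.symm.toLinearMap = LinearMap.id := by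
      ext v; simp
    rw [this, LinearMap.toMatrix'_id]
  have hZ'Z : Z' * Z = 1 := by
    rw [hZ, hZ', ← LinearMap.toMatrix'_comp]
    have : g.symm.toLinearMap ∘ₗ g.toLinearMap = LinearMap.id := by
      ext v; simp
    rw [this, LinearMap.toMatrix'_id]
  set Zu : GL ι F := ⟨Z, Z', hZZ', hZ'Z⟩ with hZu
  have hZmem : Zu ∈ Cfsg.isometryGroup F ⇑Q := by
    intro u v
    show Q (Matrix.mulVec Z u) = Q u
    rw [hZ, LinearMap.toMatrix'_mulVec]
    exact hg u
  rw [isConj_iff]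
  refine ⟨⟨Zu, hZmem⟩, ?_⟩
  have h3 : (⟨Zu, hZmem⟩ : ↥(Cfsg.isometryGroup F ⇑Q)) * A = B * ⟨Zu, hZmem⟩ := by
    apply Subtype.ext
    apply Units.ext
    show Z * AM = BM * Z
    apply Matrix.toLin'.injective
    apply LinearMap.ext
    intro v
    rw [Matrix.toLin'_mul_apply, Matrix.toLin'_mul_apply, hZ, Matrix.toLin'_toMatrix']
    exact hgA v
  rw [h3]; group

end conj

end Cfsg.Agent.Lib.Helper5.OrthCls
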