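import Mathlib

set_option autoImplicit false

/-!
Orders of semisimple matrices and their characteristic polynomials.
-/

namespace Cfsg.Agent.Lib.Helper5.SSOrder

open Polynomial

variable {F : Type*} [Field F] {ι : Type*} [Fintype ι] [DecidableEq ι]

/-- if `A ^ r = 1` then the characteristic polynomial of `A` divides a power of `X ^ r - 1` -/
theorem charpoly_dvd_pow_of_pow_eq_one (A : Matrix ι ι F) (r : ℕ) (hA : A ^ r = 1) :
    A.charpoly ∣ (X ^ r - 1 : F[X]) ^ Fintype.card ι := by
  set a : Matrix ι ι F[X] := Matrix.scalar ι (X : F[X]) with ha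
  set b : Matrix ι ι F[X] := (C : F →+* F[X]).mapMatrix A with hb
  have hcomm : Commute a b := by
    rw [ha]
    exact Matrix.scalar_commute (X : F[X]) (fun r' => Commute.all _ _) b
  have h1 := hcomm.mul_geom_sum₂ r
  have hbr : b ^ r = 1 := by
    rw [hb, ← map_pow, hA, map_one]
  have har : a ^ r = Matrix.scalar ι ((X : F[X]) ^ r) := by
    rw [ha, ← map_pow]
  rw [hbr, har] at h1
  have h2 : Matrix.scalar ι ((X : F[X]) ^ r) - 1 = Matrix.scalar ι ((X : F[X]) ^ r - 1) := by
    rw [map_sub, map_one]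
  rw [h2] at h1
  have h3 := congrArg Matrix.det h1
  rw [Matrix.det_mul] at h3
  have h4 : (Matrix.scalar ι ((X : F[X]) ^ r - 1)).det = (X ^ r - 1 : F[X]) ^ Fintype.card ι := by
    rw [Matrix.scalar_apply, Matrix.det_diagonal]
    simp
  rw [h4] at h3
  have h5 : (a - b).det = A.charpoly := rfl
  rw [h5] at h3
  exact ⟨_, h3.symm⟩

/-- a semisimple matrix whose characteristic polynomial divides a power of `X ^ r - 1` has
`r`-th power one -/
theorem pow_eq_one_of_charpoly_dvd (A : Matrix ι ι F) (k : ℕ) (hk : (k : F) ≠ 0) (hAk : A ^ k = 1)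
    (r N : ℕ) (h : A.charpoly ∣ (X ^ r - 1 : F[X]) ^ N) : A ^ r = 1 := by
  have hs : Squarefree (X ^ k - 1 : F[X]) := by
    have : (X ^ k - C (1 : F)).Separable := Polynomial.separable_X_pow_sub_C 1 hk one_ne_zero
    rw [map_one] at this
    exact this.squarefree
  have h1 : minpoly F A ∣ (X ^ k - 1 : F[X]) := by
    apply minpoly.dvd
    rw [map_sub, map_pow, aeval_X, map_one, hAk, sub_self]
  have h2 : Squarefree (minpoly F A) := hs.squarefree_of_dvd h1
  have h3 : minpoly F A ∣ (X ^ r - 1 : F[X]) ^ (N + 1) :=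
    ((Matrix.minpoly_dvd_charpoly A).trans h).trans (pow_dvd_pow _ (Nat.le_succ N))
  have h4 : minpoly F A ∣ (X ^ r - 1 : F[X]) := (h2.dvd_pow_iff_dvd (Nat.succ_ne_zero N)).1 h3
  obtain ⟨g, hg⟩ := h4
  have h5 := congrArg (aeval A) hg
  rw [map_mul, minpoly.aeval, zero_mul, map_sub, map_pow, aeval_X, map_one, sub_eq_zero] at h5
  exact h5

end Cfsg.Agent.Lib.Helper5.SSOrder
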