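import Mathlib
import Cfsg.Agent.Lib.Helper5.SSOrder5

set_option autoImplicit false

namespace Cfsg.Agent.Lib.Helper5.SSOrder

open Polynomial
open Cfsg.Agent.Lib.Helper5.Pal

universe u

variable {F : Type u} [Field F]

/-- a multiplicative involution of a family of polynomials -/
structure Invol (I : Finset F[X]) (ρ : F[X] → F[X]) : Prop where
  mem : ∀ φ ∈ I, ρ φ ∈ I
  invol : ∀ φ ∈ I, ρ (ρ φ) = φ
  mul : ∀ f g, ρ (f * g) = ρ f * ρ g
  one : ρ 1 = 1
  xsub : ρ (X - 1) = X - 1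

variable {I : Finset F[X]} {d : ℕ} (hI : FacSys I d) {ρ : F[X] → F[X]} (hρ : Invol I ρ)

include hρ

theorem Invol.pow (f : F[X]) (n : ℕ) : ρ (f ^ n) = ρ f ^ n := by
  induction n with
  | zero => rw [pow_zero, pow_zero, hρ.one]
  | succ n ih => rw [pow_succ, pow_succ, hρ.mul, ih]

theorem Invol.prod {ι : Type*} (s : Finset ι) (f : ι → F[X]) :
    ρ (∏ x ∈ s, f x) = ∏ x ∈ s, ρ (f x) := by
  classical
  induction s using Finset.induction_on with
  | empty => rw [Finset.prod_empty, Finset.prod_empty, hρ.one]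
  | insert a s ha ih => rw [Finset.prod_insert ha, Finset.prod_insert ha, hρ.mul, ih]

theorem Invol.dvd {f g : F[X]} (h : f ∣ g) : ρ f ∣ ρ g := by
  obtain ⟨c, rfl⟩ := h
  rw [hρ.mul]
  exact dvd_mul_right _ _

/-- the involution on the index type -/
def tauR : I → I := fun x => ⟨ρ x.1, hρ.mem x.1 x.2⟩

theorem tauR_tauR (x : I) : tauR hρ (tauR hρ x) = x := by
  apply Subtype.ext
  exact hρ.invol x.1 x.2

theorem rho_Gp (a : I → ℕ) (ha : ∀ x, a (tauR hρ x) = a x) : ρ (Gp I a) = Gp I a := by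
  rw [Gp, hρ.prod]
  have h1 : ∀ x : I, ρ ((x : F[X]) ^ a x) = ((tauR hρ x : I) : F[X]) ^ a (tauR hρ x) := by
    intro x
    rw [hρ.pow, ha x]
    rfl
  rw [Finset.prod_congr rfl (fun x _ => h1 x)]
  exact Equiv.prod_comp (Function.Involutive.toPerm (tauR hρ) (tauR_tauR hρ))
    (fun y : I => (y : F[X]) ^ a y)

theorem rho_P (a : I → ℕ) (ha : ∀ x, a (tauR hρ x) = a x) (k : ℕ) :
    ρ ((X - 1) ^ k * Gp I a) = (X - 1) ^ k * Gp I a := by
  rw [hρ.mul, hρ.pow, hρ.xsub, rho_Gp hρ a ha]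

include hI in
theorem invariant_of_rho (a : I → ℕ) (k : ℕ)
    (hinv : ρ ((X - 1) ^ k * Gp I a) = (X - 1) ^ k * Gp I a) :
    ∀ x, a (tauR hρ x) = a x := by
  classical
  have key : ∀ x, a x ≤ a (tauR hρ x) := by
    intro x
    rw [← pow_dvd_iff hI (tauR hρ x) a k]
    have h1 : (x : F[X]) ^ a x ∣ (X - 1) ^ k * Gp I a := (pow_dvd_iff hI x a k _).2 le_rfl
    have h2 := hρ.dvd h1
    rw [hinv, hρ.pow] at h2
    exact h2
  intro x
  apply le_antisymm
  · have := key (tauR hρ x)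
    rwa [tauR_tauR] at this
  · exact key x

include hI in
theorem tuple_of_poly_R (n : ℕ) (f : F[X]) (hm : f.Monic) (hd : f.natDegree = n)
    (hinv : ρ f = f)
    (hfac : ∀ ψ : F[X], ψ.Monic → Irreducible ψ → ψ ∣ f → ψ = X - 1 ∨ ψ ∈ I) :
    ∃ a : I → ℕ, (∀ x, a (tauR hρ x) = a x) ∧ d * ∑ x, a x ≤ n ∧
      f = (X - 1) ^ (n - d * ∑ x, a x) * Gp I a := by
  obtain ⟨k, a, hka⟩ := exists_Gp_of_factors hI f.natDegree f hm rfl hfac
  have h2 : (X - 1 : F[X]) = X - C 1 := by rw [C_1]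
  have hm1 : ((X - 1 : F[X]) ^ k).Monic := by
    rw [h2]
    exact (monic_X_sub_C 1).pow _
  have hdeg : n = k + d * ∑ x, a x := by
    rw [← hd, hka, hm1.natDegree_mul (Gp_monic hI a), natDegree_Gp hI a, h2,
      (monic_X_sub_C (1 : F)).natDegree_pow, natDegree_X_sub_C, mul_one]
  refine ⟨a, ?_, by omega, ?_⟩
  · rw [hka] at hinv
    exact invariant_of_rho hI hρ a k hinv
  · rw [hka]
    congr 2
    omega

include hI in
theorem poly_of_tuple_R (hd0 : 0 < d) (n : ℕ) (a : I → ℕ) (ha : ∀ x, a (tauR hρ x) = a x)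
    (hb : d * ∑ x, a x ≤ n) (Qp : F[X]) (hQ1 : (X - 1 : F[X]) ∣ Qp) (hQ : ∀ φ ∈ I, φ ∣ Qp) :
    ((X - 1) ^ (n - d * ∑ x, a x) * Gp I a).Monic ∧
    ((X - 1) ^ (n - d * ∑ x, a x) * Gp I a).natDegree = n ∧
    ρ ((X - 1) ^ (n - d * ∑ x, a x) * Gp I a) = (X - 1) ^ (n - d * ∑ x, a x) * Gp I a ∧
    ((X - 1) ^ (n - d * ∑ x, a x) * Gp I a) ∣ Qp ^ n := by
  classical
  have h2 : (X - 1 : F[X]) = X - C 1 := by rw [C_1]
  have hm1 : ((X - 1 : F[X]) ^ (n - d * ∑ x, a x)).Monic := by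
    rw [h2]
    exact (monic_X_sub_C 1).pow _
  refine ⟨hm1.mul (Gp_monic hI a), ?_, rho_P hρ a ha _, ?_⟩
  · rw [hm1.natDegree_mul (Gp_monic hI a), natDegree_Gp hI a, h2,
      (monic_X_sub_C (1 : F)).natDegree_pow, natDegree_X_sub_C]
    omega
  · apply IsCoprime.mul_dvd
    · apply IsCoprime.pow_left
      rw [Gp]
      apply IsCoprime.prod_right
      intro x _
      exact (isCoprime_X_sub_one hI x).symm.pow_right
    · exact (pow_dvd_pow _ (Nat.sub_le _ _)).trans (pow_dvd_pow_of_dvd hQ1 _)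
    · rw [Gp]
      apply Fintype.prod_dvd_of_coprime
      · intro x y hxy
        exact (isCoprime_of_ne hI x y hxy).pow
      · intro x
        have hax : a x ≤ n := by
          have h3 : a x ≤ ∑ y, a y := Finset.single_le_sum (fun _ _ => Nat.zero_le _)
            (Finset.mem_univ x)
          have h4 : ∑ y, a y ≤ d * ∑ y, a y := Nat.le_mul_of_pos_left _ hd0
          omega
        exact (pow_dvd_pow _ hax).trans (pow_dvd_pow_of_dvd (hQ x.1 x.2) _)

theorem card_tuples_free (hd0 : 0 < d) (n : ℕ) (hfree : ∀ x, tauR hρ x ≠ x) :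
    Nat.card {a : I → ℕ // (∀ x, a (tauR hρ x) = a x) ∧ d * ∑ x, a x ≤ n} =
      (n / (2 * d) + I.card / 2).choose (I.card / 2) := by
  classical
  have e : {a : I → ℕ // (∀ x, a (tauR hρ x) = a x) ∧ d * ∑ x, a x ≤ n} ≃
      {a : I → ℕ // (∀ x, a (tauR hρ x) = a x) ∧ ∑ x, a x ≤ n / d} :=
    Equiv.subtypeEquivRight (fun a => by
      rw [Nat.le_div_iff_mul_le hd0, mul_comm])
  rw [Nat.card_congr e, card_invariant_free _ (tauR_tauR hρ) hfree, Fintype.card_coe,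
    Nat.div_div_eq_div_mul, mul_comm d 2]

theorem card_tuples_triv (hd0 : 0 < d) (n : ℕ) (htriv : ∀ x, tauR hρ x = x) :
    Nat.card {a : I → ℕ // (∀ x, a (tauR hρ x) = a x) ∧ d * ∑ x, a x ≤ n} =
      (n / d + I.card).choose I.card := by
  classical
  have e : {a : I → ℕ // (∀ x, a (tauR hρ x) = a x) ∧ d * ∑ x, a x ≤ n} ≃
      {a : I → ℕ // (∀ x, a (tauR hρ x) = a x) ∧ ∑ x, a x ≤ n / d} :=
    Equiv.subtypeEquivRight (fun a => by
      rw [Nat.le_div_iff_mul_le hd0, mul_comm])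
  rw [Nat.card_congr e, card_invariant_trivial _ htriv, Fintype.card_coe]

end Cfsg.Agent.Lib.Helper5.SSOrder
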