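import Mathlib
import Cfsg.Agent.Lib.Helper5.OrthCls9
import Cfsg.Agent.Lib.Helper5.SSOrder6
import Cfsg.Agent.Lib.Helper5.SSOrder1

set_option autoImplicit false

namespace Cfsg.Agent.Lib.Helper5.OrthCls

open QuadraticMap Module Polynomial
open Cfsg.Agent.Lib.Helper5.Pal Cfsg.Agent.Lib.Helper5.SpReal Cfsg.Agent.Lib.Helper5.SSOrder
  Cfsg.Agent.Lib.Helper5

universe u

variable {F : Type u} [Field F]

section count

variable [Fintype F] {p q : ℕ} [Fact p.Prime] [CharP F p] (hF : Fintype.card F = q)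
  {r : ℕ} (hr : r.Prime) (hrp : r ≠ p)

include hF hr hrp

theorem rc_invol : Invol (cycFactors r F) rc where
  mem := fun φ h => rc_mem hr hrp h
  invol := fun φ h => rc_rc (mem_cycFactors.1 h).1 (coeff_zero_ne_zero hr h)
  mul := fun f g => rc_mul
  one := rc_one
  xsub := rc_X_sub_one

theorem tauR_eq_tauI (x : cycFactors r F) :
    tauR (rc_invol hF hr hrp) x = tauI (cyc_facSys hF hr hrp) x := rfl

variable {ι : Type} [Fintype ι] [DecidableEq ι]

theorem class_count (Q : QuadraticForm F (ι → F)) (hQ : (polarBilin Q).Nondegenerate)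
    (hr2 : r ≠ 2) (valid : (cycFactors r F → ℕ) → Prop)
    (hN : ∀ (g : ↥(Cfsg.isometryGroup F ⇑Q)) (a : cycFactors r F → ℕ), g ^ r = 1 →
      (∀ x, a (tauI (cyc_facSys hF hr hrp) x) = a x) →
      orderOf (q : ZMod r) * ∑ x, a x ≤ Fintype.card ι →
      ((g : GL ι F) : Matrix ι ι F).charpoly =
        (X - 1) ^ (Fintype.card ι - orderOf (q : ZMod r) * ∑ x, a x) * Gp (cycFactors r F) a →
      valid a)
    (hE : ∀ a : cycFactors r F → ℕ, (∀ x, a (tauI (cyc_facSys hF hr hrp) x) = a x) →
      orderOf (q : ZMod r) * ∑ x, a x ≤ Fintype.card ι → a ≠ 0 → valid a →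
      ∃ (M : ↥(Cfsg.isometryGroup F ⇑Q)) (k : ℕ), (k : F) ≠ 0 ∧ M ^ k = 1 ∧
        ((M : GL ι F) : Matrix ι ι F).charpoly =
        (X - 1) ^ (Fintype.card ι - orderOf (q : ZMod r) * ∑ x, a x) * Gp (cycFactors r F) a) :
    Nat.card {C : ConjClasses ↥(Cfsg.isometryGroup F ⇑Q) //
      ∃ g : ↥(Cfsg.isometryGroup F ⇑Q), ConjClasses.mk g = C ∧ orderOf g = r} =
    Nat.card {a : cycFactors r F → ℕ // ((∀ x, a (tauI (cyc_facSys hF hr hrp) x) = a x) ∧
      orderOf (q : ZMod r) * ∑ x, a x ≤ Fintype.card ι) ∧ a ≠ 0 ∧ valid a} := by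
  classical
  have hp : p.Prime := Fact.out
  have hI := cyc_facSys hF hr hrp
  have hρ := rc_invol hF hr hrp
  have hd0 : 0 < orderOf (q : ZMod r) := orderOf_q_pos hF hr hrp
  have hr0 : ((r : ℕ) : F) ≠ 0 := r_ne_zero hF hr hrp
  have hrodd : Odd r := hr.odd_of_ne_two hr2
  set n := Fintype.card ι with hn
  set T := {a : cycFactors r F → ℕ // ((∀ x, a (tauI (cyc_facSys hF hr hrp) x) = a x) ∧
      orderOf (q : ZMod r) * ∑ x, a x ≤ n) ∧ a ≠ 0 ∧ valid a} with hT
  set S := {C : ConjClasses ↥(Cfsg.isometryGroup F ⇑Q) //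
      ∃ g : ↥(Cfsg.isometryGroup F ⇑Q), ConjClasses.mk g = C ∧ orderOf g = r} with hS
  let P : (cycFactors r F → ℕ) → F[X] := fun a =>
    (X - 1) ^ (n - orderOf (q : ZMod r) * ∑ x, a x) * Gp (cycFactors r F) a
  have hPinj : ∀ a b : cycFactors r F → ℕ, P a = P b → a = b := by
    intro a b hab
    exact Gp_injective hI a b _ _ hab
  have hPz : P 0 = (X - 1) ^ n := by
    show (X - 1) ^ (n - orderOf (q : ZMod r) * ∑ x, (0 : cycFactors r F → ℕ) x) *
      Gp (cycFactors r F) 0 = _
    rw [Gp]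
    simp
  have hone : (((1 : ↥(Cfsg.isometryGroup F ⇑Q)) : GL ι F) : Matrix ι ι F).charpoly
      = (X - 1) ^ n := by
    show (1 : Matrix ι ι F).charpoly = _
    rw [Matrix.charpoly_one]
  have hpow : ∀ g : ↥(Cfsg.isometryGroup F ⇑Q), orderOf g = r → g ^ r = 1 := by
    intro g hg
    rw [← hg]
    exact pow_orderOf_eq_one g
  have hcp : ∀ g : ↥(Cfsg.isometryGroup F ⇑Q), orderOf g = r →
      ∃ a : T, ((g : GL ι F) : Matrix ι ι F).charpoly = P a.1 := by
    intro g hg
    have hgr := hpow g hg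
    have h1 := charpoly_dvd_pow_of_pow_eq_one _ r (coe_pow_eq_one _ g r hgr)
    have hdeg : ((g : GL ι F) : Matrix ι ι F).charpoly.natDegree = n :=
      Matrix.charpoly_natDegree_eq_dim _
    obtain ⟨a, ha1, ha2, ha3⟩ := tuple_of_poly_R hI hρ n _ (Matrix.charpoly_monic _) hdeg
      (rc_charpoly_of_mem Q hQ g)
      (fun ψ h2 h3 h4 => factor_cases hr _ ψ h2 h3 (h4.trans h1))
    have ha1' : ∀ x, a (tauI (cyc_facSys hF hr hrp) x) = a x := ha1
    refine ⟨⟨a, ⟨ha1', ha2⟩, ?_, hN g a hgr ha1' ha2 ha3⟩, ha3⟩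
    intro hz
    have h3 : ((g : GL ι F) : Matrix ι ι F).charpoly = P 0 := by
      rw [← hz]
      exact ha3
    rw [hPz, ← hone] at h3
    have h4 := isConj_of_charpoly Q hQ g 1 r hr0 hrodd hgr (one_pow r) h3
    rw [isConj_iff] at h4
    obtain ⟨c, hc⟩ := h4
    have h5 : g = 1 := by
      have : g = c⁻¹ * 1 * c := by rw [← hc]; group
      rw [this]; group
    rw [h5, orderOf_one] at hg
    exact hr.one_lt.ne hg
  let Φ : S → T := fun C =>
    Classical.choose (hcp (Classical.choose C.2) (Classical.choose_spec C.2).2)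
  have hΦ : ∀ C : S, (((Classical.choose C.2 : ↥(Cfsg.isometryGroup F ⇑Q)) : GL ι F) :
      Matrix ι ι F).charpoly = P (Φ C).1 := fun C =>
    Classical.choose_spec (hcp (Classical.choose C.2) (Classical.choose_spec C.2).2)
  have hconjcp : ∀ g h : ↥(Cfsg.isometryGroup F ⇑Q), IsConj g h →
      ((g : GL ι F) : Matrix ι ι F).charpoly = ((h : GL ι F) : Matrix ι ι F).charpoly := by
    intro g h hgh
    rw [isConj_iff] at hgh
    obtain ⟨c, rfl⟩ := hgh
    symm
    show ((c : GL ι F) * (g : GL ι F) * (c : GL ι F)⁻¹).val.charpoly = _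
    rw [Units.val_mul, Units.val_mul, Matrix.coe_units_inv, Matrix.charpoly_units_conj]
  have hbij : Function.Bijective Φ := by
    constructor
    · intro C C' hCC
      have h1 := Classical.choose_spec C.2
      have h2 := Classical.choose_spec C'.2
      have h3 : (((Classical.choose C.2 : ↥(Cfsg.isometryGroup F ⇑Q)) : GL ι F) :
          Matrix ι ι F).charpoly =
          (((Classical.choose C'.2 : ↥(Cfsg.isometryGroup F ⇑Q)) : GL ι F) :
          Matrix ι ι F).charpoly := by
        rw [hΦ C, hΦ C', hCC]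
      have h4 := isConj_of_charpoly Q hQ _ _ r hr0 hrodd (hpow _ h1.2) (hpow _ h2.2) h3
      apply Subtype.ext
      rw [← h1.1, ← h2.1]
      exact ConjClasses.mk_eq_mk_iff_isConj.2 h4
    · intro a
      have hd1 : (X - 1 : F[X]) ∣ X ^ r - 1 := by
        have := sub_dvd_pow_sub_pow (X : F[X]) 1 r
        rwa [one_pow] at this
      obtain ⟨hfm, hfd, hfr, hfdvd⟩ := poly_of_tuple_R hI hρ hd0 n a.1 a.2.1.1 a.2.1.2
        (X ^ r - 1) hd1 (fun φ hφ => dvd_X_pow_sub_one hr hφ)
      obtain ⟨g, k, hk0, hgk, hgc⟩ := hE a.1 a.2.1.1 a.2.1.2 a.2.2.1 a.2.2.2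
      have hgr : g ^ r = 1 := by
        apply Subtype.ext
        apply Units.ext
        rw [SubgroupClass.coe_pow, Units.val_pow_eq_pow_val]
        exact pow_eq_one_of_charpoly_dvd _ k hk0 (coe_pow_eq_one _ g k hgk) r n (by
          rw [hgc]; exact hfdvd)
      have hg1 : g ≠ 1 := by
        intro h
        have h1 : ((g : GL ι F) : Matrix ι ι F).charpoly = (X - 1) ^ n := by
          rw [← hone, ← h]
        rw [hgc, ← hPz] at h1
        exact a.2.2.1 (hPinj _ _ h1)
      haveI : Fact r.Prime := ⟨hr⟩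
      have hord : orderOf g = r := orderOf_eq_prime hgr hg1
      set C : S := ⟨ConjClasses.mk g, g, rfl, hord⟩ with hC
      refine ⟨C, ?_⟩
      apply Subtype.ext
      apply hPinj
      rw [← hΦ C]
      have h1 := Classical.choose_spec C.2
      have h2 : IsConj (Classical.choose C.2) g := ConjClasses.mk_eq_mk_iff_isConj.1 h1.1
      rw [hconjcp _ _ h2]
      exact hgc
  exact Nat.card_eq_of_bijective Φ hbij

theorem even_deg (hr2 : r ≠ 2) (a : cycFactors r F → ℕ)
    (ha : ∀ x, a (tauI (cyc_facSys hF hr hrp) x) = a x) :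
    Even (orderOf (q : ZMod r) * ∑ x, a x) := by
  have h1 := even_exponent hF hr hrp hr2 (orderOf (q : ZMod r) * ∑ x, a x) a ha
  have h2 : 2 * (orderOf (q : ZMod r) * ∑ x, a x) - orderOf (q : ZMod r) * ∑ x, a x =
      orderOf (q : ZMod r) * ∑ x, a x := by omega
  rwa [h2] at h1

theorem class_count_even (Q : QuadraticForm F (ι → F)) (hQ : (polarBilin Q).Nondegenerate)
    (hr2 : r ≠ 2) (hev : Even (Fintype.card ι)) :
    Nat.card {C : ConjClasses ↥(Cfsg.isometryGroup F ⇑Q) //
      ∃ g : ↥(Cfsg.isometryGroup F ⇑Q), ConjClasses.mk g = C ∧ orderOf g = r} =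
    Nat.card {a : cycFactors r F → ℕ // ((∀ x, a (tauI (cyc_facSys hF hr hrp) x) = a x) ∧
      orderOf (q : ZMod r) * ∑ x, a x ≤ Fintype.card ι) ∧ a ≠ 0 ∧
      (orderOf (q : ZMod r) * ∑ x, a x = Fintype.card ι →
        (IsPlus Q ↔ (Odd (orderOf (q : ZMod r)) ∨ Even (∑ x, a x))))} := by
  classical
  have hI := cyc_facSys hF hr hrp
  have hr0 : ((r : ℕ) : F) ≠ 0 := r_ne_zero hF hr hrp
  have hrodd : Odd r := hr.odd_of_ne_two hr2
  apply class_count hF hr hrp Q hQ hr2
  · intro g a hgr ha hb hc heq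
    rw [heq, Nat.sub_self, pow_zero, one_mul] at hc
    have h1 := oreal_of_mem Q hQ g r hr0 hrodd hgr
    rw [hc] at h1
    exact h1.unique (oreal_Gp hF hr hrp hr2 a ha) (eval_one_Gp hI a)
  · intro a ha hb ha0 hv
    have hs := even_deg hF hr hrp hr2 a ha
    have hG := oreal_Gp hF hr hrp hr2 a ha
    have hdG : (Gp (cycFactors r F) a).natDegree = orderOf (q : ZMod r) * ∑ x, a x :=
      natDegree_Gp hI a
    have key : OReal ((X - 1) ^ (Fintype.card ι - orderOf (q : ZMod r) * ∑ x, a x) *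
        Gp (cycFactors r F) a) (IsPlus Q) := by
      rcases Nat.eq_or_lt_of_le hb with heq | hlt
      · rw [heq, Nat.sub_self, pow_zero, one_mul]
        exact hG.congr (hv heq).symm
      · obtain ⟨j, hj⟩ : ∃ j, Fintype.card ι - orderOf (q : ZMod r) * ∑ x, a x = 2 * j := by
          have h1 : Even (Fintype.card ι - orderOf (q : ZMod r) * ∑ x, a x) :=
            (Nat.even_sub hb).2 (iff_of_true hev hs)
          obtain ⟨j, hj⟩ := h1
          exact ⟨j, by omega⟩
        have hj1 : 1 ≤ j := by omega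
        rw [hj]
        have hdX : ((X - 1 : F[X]) ^ (2 * j)).natDegree = 2 * j := by
          have h2 : (X - 1 : F[X]) = X - C 1 := by rw [C_1]
          rw [h2, natDegree_pow, natDegree_X_sub_C, mul_one]
        by_cases hc : (IsPlus Q ↔ (Odd (orderOf (q : ZMod r)) ∨ Even (∑ x, a x)))
        · refine ((oreal_id_plus j).mul hG (by rw [hdX]; exact even_two_mul j)
            (by rw [hdG]; exact hs)).congr ?_
          constructor
          · intro h; exact hc.2 (h.1 trivial)
          · intro h; exact iff_of_true trivial (hc.1 h)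
        · refine ((oreal_id_minus j hj1).mul hG (by rw [hdX]; exact even_two_mul j)
            (by rw [hdG]; exact hs)).congr ?_
          constructor
          · intro h
            by_contra hn
            apply hc
            constructor
            · intro h'; exact absurd h' hn
            · intro h'; exact (h.2 h').elim
          · intro h
            constructor
            · intro h'; exact h'.elim
            · intro h'
              apply hc
              exact iff_of_true h h'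
    have hdeg : ((X - 1) ^ (Fintype.card ι - orderOf (q : ZMod r) * ∑ x, a x) *
        Gp (cycFactors r F) a).natDegree = Fintype.card ι := by
      have h2 : (X - 1 : F[X]) = X - C 1 := by rw [C_1]
      have hm1 : ((X - 1 : F[X]) ^
          (Fintype.card ι - orderOf (q : ZMod r) * ∑ x, a x)).Monic := by
        rw [h2]; exact (monic_X_sub_C 1).pow _
      rw [hm1.natDegree_mul (Gp_monic hI a), hdG, h2, natDegree_pow, natDegree_X_sub_C, mul_one]
      omega
    exact key.exists_matrix Q hQ hdeg hev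

end count

end Cfsg.Agent.Lib.Helper5.OrthCls
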