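import Mathlib
import Cfsg.Agent.Lib.Helper5.SSOrder2
import Cfsg.Agent.Lib.Helper5.SSOrder5

set_option autoImplicit false

namespace Cfsg.Agent.Lib.Helper5.OrthCls

open Finset Cfsg.Agent.Lib.Helper5.SSOrder

theorem card_valid {α : Type*} [Finite α] (z : α) (E : α → Prop) (hz : ¬ E z) :
    Nat.card {x : α // x ≠ z ∧ ¬ E x} = Nat.card α - 1 - Nat.card {x : α // E x} := by
  classical
  haveI := Fintype.ofFinite α
  simp only [Nat.card_eq_fintype_card, Fintype.card_subtype]
  have h1 : (univ.filter (fun x : α => x ≠ z ∧ ¬ E x)) = ((univ.filter E)ᶜ).erase z := by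
    ext x
    simp only [mem_filter, mem_univ, true_and, mem_erase, mem_compl]
  have h2 : z ∈ (univ.filter E)ᶜ := by
    simp only [mem_compl, mem_filter, mem_univ, true_and]
    exact hz
  rw [h1, card_erase_of_mem h2, card_compl]
  have h3 : (univ.filter E).card = (univ.filter (fun x : α => E x)).card := by
    congr
  generalize (univ.filter E).card = c1 at *
  generalize (univ.filter (fun x : α => E x)).card = c2 at *
  omega

theorem card_exact (κ : Type*) [Fintype κ] (hκ : 0 < Fintype.card κ) (L : ℕ) :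
    Nat.card {b : κ → ℕ // ∑ x, b x = L} =
      (L + Fintype.card κ - 1).choose (Fintype.card κ - 1) := by
  classical
  rw [Nat.card_congr (Sym.equivNatSumOfFintype κ L).symm, Nat.card_eq_fintype_card,
    Sym.card_sym_eq_choose]
  have h1 : Fintype.card κ + L - 1 = L + (Fintype.card κ - 1) := by omega
  have h2 : L + Fintype.card κ - 1 = L + (Fintype.card κ - 1) := by omega
  rw [h1, h2, Nat.choose_symm_add]

theorem card_invariant_trivial_exact {ι : Type*} [Fintype ι] (τ : ι → ι) (hτ : ∀ x, τ x = x)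
    (hpos : 0 < Fintype.card ι) (L : ℕ) :
    Nat.card {a : ι → ℕ // (∀ x, a (τ x) = a x) ∧ ∑ x, a x = L} =
      (L + Fintype.card ι - 1).choose (Fintype.card ι - 1) := by
  rw [← card_exact ι hpos]
  apply Nat.card_congr
  exact Equiv.subtypeEquivRight (fun a => by
    constructor
    · intro h; exact h.2
    · intro h; exact ⟨fun x => by rw [hτ], h⟩)

theorem card_invariant_free_exact {ι : Type*} [Fintype ι] [DecidableEq ι] (τ : ι → ι)
    (hτ : ∀ x, τ (τ x) = x) (hfree : ∀ x, τ x ≠ x) (hpos : 0 < Fintype.card ι) (L : ℕ) :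
    Nat.card {a : ι → ℕ // (∀ x, a (τ x) = a x) ∧ ∑ x, a x = 2 * L} =
      (L + Fintype.card ι / 2 - 1).choose (Fintype.card ι / 2 - 1) := by
  obtain ⟨J, hJ⟩ := exists_reps τ hτ hfree
  have hcard : Fintype.card ι = 2 * J.card := by
    have := sum_eq_two_mul τ hτ J hJ (fun _ => 1) (fun _ => rfl)
    simpa using this
  have hsumJ : ∀ b : J → ℕ, ∑ x ∈ J, extFun τ hτ J hJ b x = ∑ x : J, b x := by
    intro b
    rw [← Finset.sum_coe_sort J]
    apply Finset.sum_congr rfl
    intro x _
    rw [extFun_of_mem τ hτ J hJ b x.1 x.2]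
  have e : {a : ι → ℕ // (∀ x, a (τ x) = a x) ∧ ∑ x, a x = 2 * L} ≃
      {b : J → ℕ // ∑ x, b x = L} :=
    { toFun := fun a => ⟨fun x => a.1 x.1, by
        have h1 := sum_eq_two_mul τ hτ J hJ a.1 a.2.1
        have h2 := a.2.2
        rw [Finset.sum_coe_sort J a.1]
        omega⟩
      invFun := fun b => ⟨extFun τ hτ J hJ b.1, extFun_inv τ hτ J hJ b.1, by
        have h1 := sum_eq_two_mul τ hτ J hJ _ (extFun_inv τ hτ J hJ b.1)
        rw [h1, hsumJ]
        have := b.2
        omega⟩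
      left_inv := fun a => by
        apply Subtype.ext
        funext x
        by_cases hx : x ∈ J
        · exact extFun_of_mem τ hτ J hJ _ x hx
        · show extFun τ hτ J hJ (fun x => a.1 x.1) x = a.1 x
          rw [extFun_of_not_mem τ hτ J hJ _ x hx]
          exact a.2.1 x
      right_inv := fun b => by
        apply Subtype.ext
        funext x
        exact extFun_of_mem τ hτ J hJ b.1 x.1 x.2 }
  have hJpos : 0 < Fintype.card J := by
    rw [Fintype.card_coe]; omega
  rw [Nat.card_congr e, card_exact J hJpos, Fintype.card_coe, hcard]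
  have : 2 * J.card / 2 = J.card := by omega
  rw [this]

theorem even_sum_of_free {ι : Type*} [Fintype ι] [DecidableEq ι] (τ : ι → ι)
    (hτ : ∀ x, τ (τ x) = x) (hfree : ∀ x, τ x ≠ x) (a : ι → ℕ) (ha : ∀ x, a (τ x) = a x) :
    Even (∑ x, a x) := by
  obtain ⟨J, hJ⟩ := exists_reps τ hτ hfree
  rw [sum_eq_two_mul τ hτ J hJ a ha]
  exact even_two_mul _

section inst

universe u

variable {F : Type u} [Field F] [Fintype F] {p q : ℕ} [Fact p.Prime] [CharP F p]
  (hF : Fintype.card F = q) {r : ℕ} (hr : r.Prime) (hrp : r ≠ p)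

include hF hr hrp

theorem card_index (t : ℕ) (ht : t * orderOf (q : ZMod r) = r - 1) :
    Fintype.card ↥(cycFactors r F) = t := by
  rw [Fintype.card_coe, card_cycFactors hF hr hrp]
  exact Nat.div_eq_of_eq_mul_left (orderOf_q_pos hF hr hrp) ht.symm

theorem t_pos (t : ℕ) (ht : t * orderOf (q : ZMod r) = r - 1) : 0 < t := by
  rcases Nat.eq_zero_or_pos t with h | h
  · rw [h, zero_mul] at ht
    have := hr.two_le
    omega
  · exact h

theorem count_valid (hr2 : r ≠ 2) (m t : ℕ) (hm : 1 ≤ m)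
    (ht : t * orderOf (q : ZMod r) = r - 1) (type : Prop) :
    Nat.card {a : cycFactors r F → ℕ // ((∀ x, a (tauI (cyc_facSys hF hr hrp) x) = a x) ∧
      orderOf (q : ZMod r) * ∑ x, a x ≤ 2 * m) ∧ a ≠ 0 ∧
      (orderOf (q : ZMod r) * ∑ x, a x = 2 * m →
        (type ↔ (Odd (orderOf (q : ZMod r)) ∨ Even (∑ x, a x))))} =
    (if Odd (orderOf (q : ZMod r)) then (m / orderOf (q : ZMod r) + t / 2).choose (t / 2)
      else (2 * m / orderOf (q : ZMod r) + t).choose t) - 1 -
    Nat.card {a : cycFactors r F → ℕ // (∀ x, a (tauI (cyc_facSys hF hr hrp) x) = a x) ∧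
      orderOf (q : ZMod r) * ∑ x, a x = 2 * m ∧
      ¬ (type ↔ (Odd (orderOf (q : ZMod r)) ∨ Even (∑ x, a x)))} := by
  classical
  set T := {a : cycFactors r F → ℕ // (∀ x, a (tauI (cyc_facSys hF hr hrp) x) = a x) ∧
      orderOf (q : ZMod r) * ∑ x, a x ≤ 2 * m} with hT
  have hTcard : Nat.card T = _ := card_tuples hF hr hrp hr2 m t ht
  have hpos : 0 < Nat.card T := by
    rw [hTcard]
    split_ifs
    · exact Nat.choose_pos (Nat.le_add_left _ _)
    · exact Nat.choose_pos (Nat.le_add_left _ _)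
  haveI : Finite T := Nat.finite_of_card_ne_zero (by omega)
  let z : T := ⟨0, fun _ => rfl, by simp⟩
  let E : T → Prop := fun x => orderOf (q : ZMod r) * ∑ y, x.1 y = 2 * m ∧
      ¬ (type ↔ (Odd (orderOf (q : ZMod r)) ∨ Even (∑ y, x.1 y)))
  have hz : ¬ E z := by
    rintro ⟨h1, _⟩
    have : orderOf (q : ZMod r) * ∑ y, (0 : cycFactors r F → ℕ) y = 2 * m := h1
    simp at this
    omega
  have h1 := card_valid z E hz
  rw [hTcard] at h1
  have e1 : {a : cycFactors r F → ℕ // ((∀ x, a (tauI (cyc_facSys hF hr hrp) x) = a x) ∧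
      orderOf (q : ZMod r) * ∑ x, a x ≤ 2 * m) ∧ a ≠ 0 ∧
      (orderOf (q : ZMod r) * ∑ x, a x = 2 * m →
        (type ↔ (Odd (orderOf (q : ZMod r)) ∨ Even (∑ x, a x))))} ≃
      {x : T // x ≠ z ∧ ¬ E x} :=
    { toFun := fun a => ⟨⟨a.1, a.2.1⟩, fun h => a.2.2.1 (congrArg Subtype.val h),
        fun hE => hE.2 (a.2.2.2 hE.1)⟩
      invFun := fun x => ⟨x.1.1, x.1.2, fun h => x.2.1 (Subtype.ext h),
        fun heq => by_contra (fun hn => x.2.2 ⟨heq, hn⟩)⟩
      left_inv := fun a => rfl
      right_inv := fun x => rfl }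
  have e2 : {x : T // E x} ≃
      {a : cycFactors r F → ℕ // (∀ x, a (tauI (cyc_facSys hF hr hrp) x) = a x) ∧
      orderOf (q : ZMod r) * ∑ x, a x = 2 * m ∧
      ¬ (type ↔ (Odd (orderOf (q : ZMod r)) ∨ Even (∑ x, a x)))} :=
    { toFun := fun x => ⟨x.1.1, x.1.2.1, x.2.1, x.2.2⟩
      invFun := fun a => ⟨⟨a.1, a.2.1, le_of_eq a.2.2.1⟩, a.2.2.1, a.2.2.2⟩
      left_inv := fun x => rfl
      right_inv := fun a => rfl }
  rw [Nat.card_congr e1, h1, Nat.card_congr e2]

theorem count_excl_plus (m t : ℕ) (ht : t * orderOf (q : ZMod r) = r - 1) :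
    Nat.card {a : cycFactors r F → ℕ // (∀ x, a (tauI (cyc_facSys hF hr hrp) x) = a x) ∧
      orderOf (q : ZMod r) * ∑ x, a x = 2 * m ∧
      ¬ (True ↔ (Odd (orderOf (q : ZMod r)) ∨ Even (∑ x, a x)))} =
    if Odd (orderOf (q : ZMod r)) then 0 else
      (if orderOf (q : ZMod r) ∣ 2 * m ∧ Odd (2 * m / orderOf (q : ZMod r)) then
        (2 * m / orderOf (q : ZMod r) + t - 1).choose (t - 1) else 0) := by
  classical
  have hd0 := orderOf_q_pos hF hr hrp
  have hcI := card_index hF hr hrp t ht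
  have htpos := t_pos hF hr hrp t ht
  split_ifs with hodd hc
  · haveI : IsEmpty {a : cycFactors r F → ℕ //
        (∀ x, a (tauI (cyc_facSys hF hr hrp) x) = a x) ∧
        orderOf (q : ZMod r) * ∑ x, a x = 2 * m ∧
        ¬ (True ↔ (Odd (orderOf (q : ZMod r)) ∨ Even (∑ x, a x)))} :=
      ⟨fun a => a.2.2.2 (iff_of_true trivial (Or.inl hodd))⟩
    exact Nat.card_of_isEmpty
  · have heven : Even (orderOf (q : ZMod r)) := Nat.not_odd_iff_even.1 hodd
    have htriv : ∀ x, tauI (cyc_facSys hF hr hrp) x = x := by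
      intro x
      apply Subtype.ext
      exact rc_eq_self_of_even hF hr hrp heven x.2
    have h1 := card_invariant_trivial_exact (tauI (cyc_facSys hF hr hrp)) htriv
      (by rw [hcI]; exact htpos) (2 * m / orderOf (q : ZMod r))
    rw [hcI] at h1
    rw [← h1]
    apply Nat.card_congr
    apply Equiv.subtypeEquivRight
    intro a
    constructor
    · rintro ⟨h2, h3, _⟩
      exact ⟨h2, (Nat.div_eq_of_eq_mul_right hd0 h3.symm).symm⟩
    · rintro ⟨h2, h3⟩
      refine ⟨h2, ?_, ?_⟩
      · rw [h3]; exact Nat.mul_div_cancel' hc.1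
      · intro h4
        rcases h4.1 trivial with h5 | h5
        · exact hodd h5
        · rw [h3] at h5
          exact (Nat.not_even_iff_odd.2 hc.2) h5
  · haveI : IsEmpty {a : cycFactors r F → ℕ //
        (∀ x, a (tauI (cyc_facSys hF hr hrp) x) = a x) ∧
        orderOf (q : ZMod r) * ∑ x, a x = 2 * m ∧
        ¬ (True ↔ (Odd (orderOf (q : ZMod r)) ∨ Even (∑ x, a x)))} := by
      refine ⟨fun a => hc ⟨⟨_, a.2.2.1.symm⟩, ?_⟩⟩
      have h3 : 2 * m / orderOf (q : ZMod r) = ∑ x, a.1 x :=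
        Nat.div_eq_of_eq_mul_right hd0 a.2.2.1.symm
      rw [h3, ← Nat.not_even_iff_odd]
      intro h5
      exact a.2.2.2 (iff_of_true trivial (Or.inr h5))
    exact Nat.card_of_isEmpty

theorem count_excl_minus (hr2 : r ≠ 2) (m t : ℕ) (ht : t * orderOf (q : ZMod r) = r - 1) :
    Nat.card {a : cycFactors r F → ℕ // (∀ x, a (tauI (cyc_facSys hF hr hrp) x) = a x) ∧
      orderOf (q : ZMod r) * ∑ x, a x = 2 * m ∧
      ¬ (False ↔ (Odd (orderOf (q : ZMod r)) ∨ Even (∑ x, a x)))} =
    if Odd (orderOf (q : ZMod r)) then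
      (if orderOf (q : ZMod r) ∣ m then
        (m / orderOf (q : ZMod r) + t / 2 - 1).choose (t / 2 - 1) else 0)
    else
      (if orderOf (q : ZMod r) ∣ 2 * m ∧ Even (2 * m / orderOf (q : ZMod r)) then
        (2 * m / orderOf (q : ZMod r) + t - 1).choose (t - 1) else 0) := by
  classical
  have hd0 := orderOf_q_pos hF hr hrp
  have hcI := card_index hF hr hrp t ht
  have htpos := t_pos hF hr hrp t ht
  split_ifs with hodd hc hc
  · have hfree : ∀ x, tauI (cyc_facSys hF hr hrp) x ≠ x := by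
      intro x hx
      have := congrArg Subtype.val hx
      exact rc_ne_self_of_odd hF hr hrp hr2 hodd x.2 this
    have h1 := card_invariant_free_exact (tauI (cyc_facSys hF hr hrp))
      (tauI_tauI (cyc_facSys hF hr hrp)) hfree
      (by rw [hcI]; exact htpos) (m / orderOf (q : ZMod r))
    rw [hcI] at h1
    rw [← h1]
    apply Nat.card_congr
    apply Equiv.subtypeEquivRight
    intro a
    obtain ⟨c, hc'⟩ := hc
    have hmd : m / orderOf (q : ZMod r) = c := by
      rw [hc', Nat.mul_div_cancel_left _ hd0]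
    constructor
    · rintro ⟨h2, h3, _⟩
      refine ⟨h2, ?_⟩
      rw [hmd]
      have h4 : orderOf (q : ZMod r) * ∑ x, a x = orderOf (q : ZMod r) * (2 * c) := by
        rw [h3, hc']; ring
      exact Nat.eq_of_mul_eq_mul_left hd0 h4
    · rintro ⟨h2, h3⟩
      refine ⟨h2, ?_, ?_⟩
      · rw [h3, hmd, hc']; ring
      · intro h4
        exact h4.2 (Or.inl hodd)
  · have hfree : ∀ x, tauI (cyc_facSys hF hr hrp) x ≠ x := by
      intro x hx
      have := congrArg Subtype.val hx
      exact rc_ne_self_of_odd hF hr hrp hr2 hodd x.2 this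
    haveI : IsEmpty {a : cycFactors r F → ℕ //
        (∀ x, a (tauI (cyc_facSys hF hr hrp) x) = a x) ∧
        orderOf (q : ZMod r) * ∑ x, a x = 2 * m ∧
        ¬ (False ↔ (Odd (orderOf (q : ZMod r)) ∨ Even (∑ x, a x)))} := by
      refine ⟨fun a => hc ?_⟩
      obtain ⟨c, hc'⟩ := even_sum_of_free _ (tauI_tauI (cyc_facSys hF hr hrp)) hfree a.1 a.2.1
      have h3 := a.2.2.1
      rw [hc'] at h3
      refine ⟨c, ?_⟩
      have : 2 * (orderOf (q : ZMod r) * c) = 2 * m := by rw [← h3]; ring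
      omega
    exact Nat.card_of_isEmpty
  · have heven : Even (orderOf (q : ZMod r)) := Nat.not_odd_iff_even.1 hodd
    have htriv : ∀ x, tauI (cyc_facSys hF hr hrp) x = x := by
      intro x
      apply Subtype.ext
      exact rc_eq_self_of_even hF hr hrp heven x.2
    have h1 := card_invariant_trivial_exact (tauI (cyc_facSys hF hr hrp)) htriv
      (by rw [hcI]; exact htpos) (2 * m / orderOf (q : ZMod r))
    rw [hcI] at h1
    rw [← h1]
    apply Nat.card_congr
    apply Equiv.subtypeEquivRight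
    intro a
    constructor
    · rintro ⟨h2, h3, _⟩
      exact ⟨h2, (Nat.div_eq_of_eq_mul_right hd0 h3.symm).symm⟩
    · rintro ⟨h2, h3⟩
      refine ⟨h2, ?_, ?_⟩
      · rw [h3]; exact Nat.mul_div_cancel' hc.1
      · intro h4
        apply h4.2
        right
        rw [h3]
        exact hc.2
  · haveI : IsEmpty {a : cycFactors r F → ℕ //
        (∀ x, a (tauI (cyc_facSys hF hr hrp) x) = a x) ∧
        orderOf (q : ZMod r) * ∑ x, a x = 2 * m ∧
        ¬ (False ↔ (Odd (orderOf (q : ZMod r)) ∨ Even (∑ x, a x)))} := by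
      refine ⟨fun a => hc ⟨⟨_, a.2.2.1.symm⟩, ?_⟩⟩
      have h3 : 2 * m / orderOf (q : ZMod r) = ∑ x, a.1 x :=
        Nat.div_eq_of_eq_mul_right hd0 a.2.2.1.symm
      rw [h3]
      by_contra h5
      apply a.2.2.2
      constructor
      · intro h; exact h.elim
      · rintro (h | h)
        · exact hodd h
        · exact h5 h
    exact Nat.card_of_isEmpty

end inst

end Cfsg.Agent.Lib.Helper5.OrthCls
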