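import Mathlib
import Cfsg.Agent.Lib.Helper5.OrthCls10
import Cfsg.Agent.S2618
import Cfsg.Agent.Lib.Helper5.OrthCls11

set_option autoImplicit false

namespace Cfsg.Agent.Lib.Helper5.OrthCls

open QuadraticMap Module Polynomial
open Cfsg.Agent.Lib.Helper5.Pal Cfsg.Agent.Lib.Helper5.SpReal Cfsg.Agent.Lib.Helper5.SSOrder
  Cfsg.Agent.Lib.Helper5

universe u v w

section sim

variable {F : Type u} [Field F] {V : Type v} [AddCommGroup V] [Module F V]
  {V' : Type w} [AddCommGroup V'] [Module F V']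

/-- two-space version of `exists_similarity_of_basis'` -/
theorem exists_similarity_of_basis2 [FiniteDimensional F V] [FiniteDimensional F V']
    {ι : Type*} [Fintype ι]
    (Q : QuadraticForm F V) (Q' : QuadraticForm F V') (hQ : (polarBilin Q).Nondegenerate)
    (hdim : finrank F V = finrank F V') (b : Basis ι F V) (c : F)
    (hc : c ≠ 0) (t : ι → V') (h1 : ∀ i, Q' (t i) = c * Q (b i))
    (h2 : ∀ i j, polar Q' (t i) (t j) = c * polar Q (b i) (b j)) :
    ∃ g : V ≃ₗ[F] V', ∀ v, Q' (g v) = c * Q v := by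
  classical
  let g₀ : V →ₗ[F] V' := b.constr F t
  have hg₀ : ∀ i, g₀ (b i) = t i := fun i => b.constr_basis F t i
  have hQg : ∀ v, Q' (g₀ v) = c * Q v := by
    intro v
    have := ext_basis (Q'.comp g₀) (c • Q) b (fun i => by
      rw [QuadraticMap.comp_apply, hg₀, h1]; rfl)
      (fun i j => by
        have e1 : polar (⇑(Q'.comp g₀)) (b i) (b j) = polar Q' (g₀ (b i)) (g₀ (b j)) := by
          simp [polar, QuadraticMap.comp_apply]
        have e2 : polar (⇑(c • Q)) (b i) (b j) = c * polar Q (b i) (b j) := by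
          simp only [polar, smul_apply, smul_eq_mul]; ring
        rw [e1, e2, hg₀, hg₀, h2]) v
    exact this
  have hinj : Function.Injective g₀ := by
    rw [← LinearMap.ker_eq_bot, LinearMap.ker_eq_bot']
    intro v hv
    apply hQ.1 v
    intro w
    show polar Q v w = 0
    have h3 : polar Q' (g₀ v) (g₀ w) = c * polar Q v w := by
      simp only [polar, ← map_add, hQg]; ring
    rw [hv] at h3
    have h4 : polar Q' 0 (g₀ w) = 0 := by simp [polar]
    rw [h4] at h3
    rcases mul_eq_zero.1 h3.symm with h | h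
    · exact absurd h hc
    · exact h
  refine ⟨LinearMap.linearEquivOfInjective g₀ hinj hdim, fun v => ?_⟩
  rw [LinearMap.linearEquivOfInjective_apply]
  exact hQg v

theorem exists_similarity_odd [Finite F] [FiniteDimensional F V] [FiniteDimensional F V']
    {m : ℕ} (hV : finrank F V = 2 * m + 1) (hV' : finrank F V' = 2 * m + 1)
    (Q : QuadraticForm F V) (Q' : QuadraticForm F V') (hQ : (polarBilin Q).Nondegenerate)
    (hQ' : (polarBilin Q').Nondegenerate) :
    ∃ (c : F) (g : V ≃ₗ[F] V'), c ≠ 0 ∧ ∀ v, Q' (g v) = c * Q v := by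
  classical
  obtain ⟨b, hb0, hb1, hb2, hb3, hb4⟩ := Cfsg.Agent.S2618.result hV Q hQ
  obtain ⟨b', hb0', hb1', hb2', hb3', hb4'⟩ := Cfsg.Agent.S2618.result hV' Q' hQ'
  set e := Q (b (Sum.inl ())) with he
  set e' := Q' (b' (Sum.inl ())) with he'
  set c : F := e' / e with hc
  have hc0 : c ≠ 0 := div_ne_zero hb0' hb0
  have hce : c * e = e' := div_mul_cancel₀ _ hb0
  let t : Unit ⊕ (Fin m ⊕ Fin m) → V' :=
    Sum.elim (fun _ => b' (Sum.inl ()))
      (Sum.elim (fun i => c • b' (Sum.inr (Sum.inl i))) (fun i => b' (Sum.inr (Sum.inr i))))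
  have ht0 : t (Sum.inl ()) = b' (Sum.inl ()) := rfl
  have htx : ∀ i, t (Sum.inr (Sum.inl i)) = c • b' (Sum.inr (Sum.inl i)) := fun i => rfl
  have hty : ∀ i, t (Sum.inr (Sum.inr i)) = b' (Sum.inr (Sum.inr i)) := fun i => rfl
  obtain ⟨g, hg⟩ := exists_similarity_of_basis2 Q Q' hQ (by rw [hV, hV']) b c hc0 t
    (by
      rintro (⟨⟩ | i | i)
      · rw [ht0, hce]
      · rw [htx, QuadraticMap.map_smul, (hb2' i).1, (hb2 i).1, smul_zero, mul_zero]
      · rw [hty, (hb2' i).2, (hb2 i).2, mul_zero])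
    (by
      rintro (⟨⟩ | i | i) (⟨⟩ | j | j)
      · rw [ht0, QuadraticMap.polar_self, QuadraticMap.polar_self, ← he, ← he', ← hce]
        simp only [nsmul_eq_mul, Nat.cast_ofNat]
        ring
      · rw [ht0, htx, polar_smul_right, (hb1' j).1, (hb1 j).1, smul_zero, mul_zero]
      · rw [ht0, hty, (hb1' j).2, (hb1 j).2, mul_zero]
      · rw [ht0, htx, polar_smul_left, polar_comm, (hb1' i).1, polar_comm _ (b _), (hb1 i).1,
          smul_zero, mul_zero]
      · rw [htx, htx, polar_smul_left, polar_smul_right, (hb4' i j).1, (hb4 i j).1, smul_zero,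
          smul_zero, mul_zero]
      · rw [htx, hty, polar_smul_left, hb3' i j, hb3 i j, smul_eq_mul]
      · rw [ht0, hty, polar_comm, (hb1' i).2, polar_comm _ (b _), (hb1 i).2, mul_zero]
      · rw [hty, htx, polar_smul_right, polar_comm, hb3' j i, polar_comm _ (b _), hb3 j i,
          smul_eq_mul]
      · rw [hty, hty, (hb4' i j).2, (hb4 i j).2, mul_zero])
  exact ⟨c, g, hc0, hg⟩

end sim

section odd

variable {F : Type u} [Field F]

open Cfsg.Agent.Lib.Helper2.OrthCard in
theorem OReal.exists_odd [Finite F] (h2 : (2 : F) ≠ 0) {f : F[X]} {P : Prop} (h : OReal f P)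
    (m : ℕ) (hd : f.natDegree = 2 * m) :
    ∃ (M : ↥(Cfsg.isometryGroup F ⇑(QOd m F))) (k : ℕ), (k : F) ≠ 0 ∧ M ^ k = 1 ∧
      ((M : GL (Unit ⊕ (Fin m ⊕ Fin m)) F) :
        Matrix (Unit ⊕ (Fin m ⊕ Fin m)) (Unit ⊕ (Fin m ⊕ Fin m)) F).charpoly = (X - 1) * f := by
  obtain ⟨V, iA, iM, iF, Q, A, k, h1, h3, h4, h5, h6, h7, _⟩ := h
  have hdimV : finrank F V = 2 * m := by
    rw [← hd, ← h7, LinearMap.charpoly_natDegree]
  set Q' : QuadraticForm F ((Unit → F) × V) :=
    (Cfsg.Agent.Lib.Helper2.OrthSum.sq F).prod Q with hQ'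
  set A' : Module.End F ((Unit → F) × V) := (1 : Module.End F (Unit → F)).prodMap A with hA'
  have hQ'nd : (polarBilin Q').Nondegenerate :=
    prod_nondeg _ _ (Cfsg.Agent.Lib.Helper2.OrthSum.sq_nondeg h2) h1
  have hdim1 : finrank F (Unit → F) = 1 := by
    rw [Module.finrank_fintype_fun_eq_card, Fintype.card_unit]
  have hdim : finrank F ((Unit → F) × V) = 2 * m + 1 := by
    rw [Module.finrank_prod, hdim1, hdimV]; ring
  have hdim0 : finrank F (Unit ⊕ (Fin m ⊕ Fin m) → F) = 2 * m + 1 := by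
    rw [Module.finrank_fintype_fun_eq_card, Fintype.card_sum, Fintype.card_sum, Fintype.card_fin,
      Fintype.card_unit]
    ring
  obtain ⟨c, g, hc0, hg⟩ := exists_similarity_odd hdim hdim0 Q' (QOd m F) hQ'nd
    (QOd_nondeg h2 m)
  have hQA : ∀ v, Q' (A' v) = Q' v := by
    intro v
    rw [hQ', prod_apply, prod_apply]
    show Cfsg.Agent.Lib.Helper2.OrthSum.sq F v.1 + Q (A v.2) = _
    rw [h3]
  have hAk : ∀ v, (A' ^ k) v = v := by
    intro v
    rw [hA', prodMap_pow_apply, one_pow, h6]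
    rfl
  obtain ⟨M, hM, hMc⟩ := transport Q' A' ⇑(QOd m F) c g hg hQA k h5.pos hAk
  refine ⟨M, k, h4, hM, ?_⟩
  rw [hMc, hA', LinearMap.charpoly_prodMap, h7, LinearMap.charpoly_one, hdim1, pow_one]

end odd

section countodd

variable {F : Type u} [Field F] [Fintype F] {p q : ℕ} [Fact p.Prime] [CharP F p]
  (hF : Fintype.card F = q) {r : ℕ} (hr : r.Prime) (hrp : r ≠ p)

include hF hr hrp

open Cfsg.Agent.Lib.Helper2.OrthCard in
theorem class_count_odd (h2 : (2 : F) ≠ 0) (hr2 : r ≠ 2) (m : ℕ) :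
    Nat.card {C : ConjClasses ↥(Cfsg.isometryGroup F ⇑(QOd m F)) //
      ∃ g : ↥(Cfsg.isometryGroup F ⇑(QOd m F)), ConjClasses.mk g = C ∧ orderOf g = r} =
    Nat.card {a : cycFactors r F → ℕ // ((∀ x, a (tauI (cyc_facSys hF hr hrp) x) = a x) ∧
      orderOf (q : ZMod r) * ∑ x, a x ≤ 2 * m + 1) ∧ a ≠ 0 ∧ True} := by
  classical
  have hI := cyc_facSys hF hr hrp
  have hcard : Fintype.card (Unit ⊕ (Fin m ⊕ Fin m)) = 2 * m + 1 := by
    rw [Fintype.card_sum, Fintype.card_sum, Fintype.card_fin, Fintype.card_unit]; ring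
  have h1 := class_count hF hr hrp (QOd m F) (QOd_nondeg h2 m) hr2 (fun _ => True)
    (fun _ _ _ _ _ _ => trivial)
    (by
      intro a ha hb _ _
      rw [hcard] at hb ⊢
      have hs := even_deg hF hr hrp hr2 a ha
      have hG := oreal_Gp hF hr hrp hr2 a ha
      have hdG : (Gp (cycFactors r F) a).natDegree = orderOf (q : ZMod r) * ∑ x, a x :=
        natDegree_Gp hI a
      obtain ⟨j, hj⟩ : ∃ j, 2 * m - orderOf (q : ZMod r) * ∑ x, a x = 2 * j := by
        obtain ⟨c, hc⟩ := hs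
        exact ⟨m - c, by omega⟩
      have hle : orderOf (q : ZMod r) * ∑ x, a x ≤ 2 * m := by
        obtain ⟨c, hc⟩ := hs
        omega
      have hdX : ((X - 1 : F[X]) ^ (2 * j)).natDegree = 2 * j := by
        have h2 : (X - 1 : F[X]) = X - C 1 := by rw [C_1]
        rw [h2, natDegree_pow, natDegree_X_sub_C, mul_one]
      have key := (oreal_id_plus (F := F) j).mul hG (by rw [hdX]; exact even_two_mul j)
        (by rw [hdG]; exact hs)
      have hdeg : ((X - 1 : F[X]) ^ (2 * j) * Gp (cycFactors r F) a).natDegree = 2 * m := by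
        have h2 : (X - 1 : F[X]) = X - C 1 := by rw [C_1]
        have hm1 : ((X - 1 : F[X]) ^ (2 * j)).Monic := by
          rw [h2]; exact (monic_X_sub_C 1).pow _
        rw [hm1.natDegree_mul (Gp_monic hI a), hdG, hdX]
        omega
      obtain ⟨M, k, hk0, hMk, hMc⟩ := key.exists_odd h2 m hdeg
      refine ⟨M, k, hk0, hMk, ?_⟩
      rw [hMc, ← mul_assoc, ← pow_succ']
      congr 2
      omega)
  rw [h1, hcard]

theorem card_tuples_rc (hr2 : r ≠ 2) (n t : ℕ) (ht : t * orderOf (q : ZMod r) = r - 1) :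
    Nat.card {a : cycFactors r F → ℕ // (∀ x, a (tauI (cyc_facSys hF hr hrp) x) = a x) ∧
      orderOf (q : ZMod r) * ∑ x, a x ≤ n} =
    if Odd (orderOf (q : ZMod r)) then
      (n / (2 * orderOf (q : ZMod r)) + t / 2).choose (t / 2)
    else (n / orderOf (q : ZMod r) + t).choose t := by
  classical
  have hd0 := orderOf_q_pos hF hr hrp
  have hρ := rc_invol hF hr hrp
  have hcI : (cycFactors r F).card = t := by
    rw [← Fintype.card_coe]
    exact card_index hF hr hrp t ht
  split_ifs with hodd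
  · have hfree : ∀ x, tauR hρ x ≠ x := by
      intro x hx
      have := congrArg Subtype.val hx
      exact rc_ne_self_of_odd hF hr hrp hr2 hodd x.2 this
    have h1 := card_tuples_free hρ hd0 n hfree
    rw [hcI] at h1
    exact h1
  · have heven : Even (orderOf (q : ZMod r)) := Nat.not_odd_iff_even.1 hodd
    have htriv : ∀ x, tauR hρ x = x := by
      intro x
      apply Subtype.ext
      exact rc_eq_self_of_even hF hr hrp heven x.2
    have h1 := card_tuples_triv hρ hd0 n htriv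
    rw [hcI] at h1
    exact h1

theorem count_odd (hr2 : r ≠ 2) (m t : ℕ) (ht : t * orderOf (q : ZMod r) = r - 1) :
    Nat.card {a : cycFactors r F → ℕ // ((∀ x, a (tauI (cyc_facSys hF hr hrp) x) = a x) ∧
      orderOf (q : ZMod r) * ∑ x, a x ≤ 2 * m + 1) ∧ a ≠ 0 ∧ True} =
    if Odd (orderOf (q : ZMod r)) then
      (m / orderOf (q : ZMod r) + t / 2).choose (t / 2) - 1
    else ((2 * m + 1) / orderOf (q : ZMod r) + t).choose t - 1 := by
  classical
  set T := {a : cycFactors r F → ℕ // (∀ x, a (tauI (cyc_facSys hF hr hrp) x) = a x) ∧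
      orderOf (q : ZMod r) * ∑ x, a x ≤ 2 * m + 1} with hT
  have hTcard : Nat.card T = _ := card_tuples_rc hF hr hrp hr2 (2 * m + 1) t ht
  have hpos : 0 < Nat.card T := by
    rw [hTcard]
    split_ifs
    · exact Nat.choose_pos (Nat.le_add_left _ _)
    · exact Nat.choose_pos (Nat.le_add_left _ _)
  haveI : Finite T := Nat.finite_of_card_ne_zero (by omega)
  let z : T := ⟨0, fun _ => rfl, by simp⟩
  have h1 := card_valid z (fun _ => False) (fun h => h)
  have e1 : {a : cycFactors r F → ℕ // ((∀ x, a (tauI (cyc_facSys hF hr hrp) x) = a x) ∧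
      orderOf (q : ZMod r) * ∑ x, a x ≤ 2 * m + 1) ∧ a ≠ 0 ∧ True} ≃
      {x : T // x ≠ z ∧ ¬ False} :=
    { toFun := fun a => ⟨⟨a.1, a.2.1⟩, fun h => a.2.2.1 (congrArg Subtype.val h), fun h => h⟩
      invFun := fun x => ⟨x.1.1, x.1.2, fun h => x.2.1 (Subtype.ext h), trivial⟩
      left_inv := fun a => rfl
      right_inv := fun x => rfl }
  haveI : IsEmpty {x : T // False} := ⟨fun x => x.2⟩
  have h0 : Nat.card {x : T // False} = 0 := Nat.card_of_isEmpty
  rw [Nat.card_congr e1, h1, h0, Nat.sub_zero, hTcard]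
  have h3 : (2 * m + 1) / (2 * orderOf (q : ZMod r)) = m / orderOf (q : ZMod r) := by
    rw [← Nat.div_div_eq_div_mul]
    congr 1
    omega
  rw [h3]
  split_ifs <;> rfl

end countodd

end Cfsg.Agent.Lib.Helper5.OrthCls
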