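import Mathlib
import Cfsg.Agent.Lib.Helper5.SSOrder6
import Cfsg.Agent.S0278

set_option autoImplicit false

namespace Cfsg.Agent.Lib.Helper5.SSOrder

open Polynomial
open Cfsg.Agent.Lib.Helper5.Pal Cfsg.Agent.Lib.Helper5.SpReal Cfsg.Agent.S0278

universe u

variable {K : Type u} [Field K] [Fintype K] {q : ℕ}

/-- the conjugate reciprocal polynomial -/
noncomputable def dag (hK : Fintype.card K = q ^ 2) (f : K[X]) : K[X] := rc (f.map (powQ hK))

theorem powQ_invol (hK : Fintype.card K = q ^ 2) (x : K) : powQ hK (powQ hK x) = x := by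
  show (x ^ q) ^ q = x
  rw [← pow_mul, ← sq, ← hK, FiniteField.pow_card]

theorem map_map_powQ (hK : Fintype.card K = q ^ 2) (f : K[X]) :
    (f.map (powQ hK)).map (powQ hK) = f := by
  rw [Polynomial.map_map]
  have : (powQ hK).comp (powQ hK) = RingHom.id K := by
    ext x
    exact powQ_invol hK x
  rw [this, Polynomial.map_id]

theorem reverse_map_powQ (hK : Fintype.card K = q ^ 2) (f : K[X]) :
    (f.map (powQ hK)).reverse = f.reverse.map (powQ hK) := by
  rw [reverse, reverse, natDegree_map, reflect_map]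

theorem rc_map_powQ (hK : Fintype.card K = q ^ 2) (f : K[X]) :
    rc (f.map (powQ hK)) = (rc f).map (powQ hK) := by
  rw [rc, rc, reverse_map_powQ, Polynomial.map_mul, map_C, coeff_map, map_inv₀ (powQ hK)]

theorem dag_mul (hK : Fintype.card K = q ^ 2) (f g : K[X]) :
    dag hK (f * g) = dag hK f * dag hK g := by
  rw [dag, dag, dag, Polynomial.map_mul, rc_mul]

theorem dag_one (hK : Fintype.card K = q ^ 2) : dag hK (1 : K[X]) = 1 := by
  rw [dag, Polynomial.map_one, rc_one]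

theorem dag_X_sub_one (hK : Fintype.card K = q ^ 2) : dag hK (X - 1 : K[X]) = X - 1 := by
  rw [dag, Polynomial.map_sub, map_X, Polynomial.map_one, rc_X_sub_one]

theorem dag_dag (hK : Fintype.card K = q ^ 2) {f : K[X]} (hm : f.Monic) (h0 : f.coeff 0 ≠ 0) :
    dag hK (dag hK f) = f := by
  rw [dag, dag, ← rc_map_powQ, map_map_powQ, rc_rc hm h0]

/-- `x ↦ x ^ q` as a ring automorphism -/
noncomputable def powQEquiv (hK : Fintype.card K = q ^ 2) : K ≃+* K :=
  RingEquiv.ofRingHom (powQ hK) (powQ hK) (by ext x; exact powQ_invol hK x)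
    (by ext x; exact powQ_invol hK x)

theorem irreducible_map_powQ (hK : Fintype.card K = q ^ 2) {f : K[X]} (hf : Irreducible f) :
    Irreducible (f.map (powQ hK)) := by
  have h1 : f.map (powQ hK) = Polynomial.mapEquiv (powQEquiv hK) f := rfl
  rw [h1]
  exact (MulEquiv.irreducible_iff (Polynomial.mapEquiv (powQEquiv hK)).toMulEquiv).2 hf

theorem map_powQ_mem (hK : Fintype.card K = q ^ 2) {r : ℕ} {φ : K[X]}
    (hφ : φ ∈ cycFactors r K) : φ.map (powQ hK) ∈ cycFactors r K := by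
  obtain ⟨h1, h2, h3⟩ := mem_cycFactors.1 hφ
  refine mem_cycFactors.2 ⟨h1.map _, irreducible_map_powQ hK h2, ?_⟩
  have := Polynomial.map_dvd (powQ hK) h3
  rwa [map_cyclotomic] at this

theorem exists_q_eq_pow (hK : Fintype.card K = q ^ 2) (p : ℕ) [Fact p.Prime] [CharP K p] : ∃ e : ℕ, q = p ^ e := by
  obtain ⟨n, hp, hn⟩ := FiniteField.card K p
  rw [hK] at hn
  have h1 : q ∣ p ^ (n : ℕ) := ⟨q, by rw [← hn, sq]⟩
  obtain ⟨j, _, hj⟩ := (Nat.dvd_prime_pow hp).1 h1
  exact ⟨j, hj⟩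

theorem frobQ (hK : Fintype.card K = q ^ 2) (p : ℕ) [Fact p.Prime] [CharP K p]
    {L : Type*} [Field L] [Algebra K L] (f : K[X]) (x : L) :
    aeval (x ^ q) (f.map (powQ hK)) = (aeval x f) ^ q := by
  obtain ⟨e, he⟩ := exists_q_eq_pow hK p
  haveI : CharP L p := charP_of_injective_algebraMap (algebraMap K L).injective p
  induction f using Polynomial.induction_on' with
  | add f g hf hg =>
    rw [Polynomial.map_add, map_add, map_add, hf, hg, he, add_pow_char_pow]
  | monomial n c =>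
    rw [map_monomial, aeval_monomial, aeval_monomial, mul_pow, ← pow_mul, ← pow_mul, mul_comm q n,
      ← map_pow]
    rfl

section facts

variable {p : ℕ} [Fact p.Prime] [CharP K p] (hK : Fintype.card K = q ^ 2)
  {r : ℕ} (hr : r.Prime) (hrp : r ≠ p)

include hr hrp

theorem dag_mem {φ : K[X]} (hφ : φ ∈ cycFactors r K) : dag hK φ ∈ cycFactors r K :=
  rc_mem hr hrp (map_powQ_mem hK hφ)

theorem dag_invol : Invol (cycFactors r K) (dag hK) where
  mem := fun φ h => dag_mem hK hr hrp h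
  invol := fun φ h => dag_dag hK (mem_cycFactors.1 h).1 (coeff_zero_ne_zero hr h)
  mul := dag_mul hK
  one := dag_one hK
  xsub := dag_X_sub_one hK

theorem dag_eq_self (hi : orderOf (q : ZMod r) % 4 = 2) {φ : K[X]}
    (hφ : φ ∈ cycFactors r K) : dag hK φ = φ := by
  obtain ⟨hm, hirr, h3⟩ := mem_cycFactors.1 hφ
  haveI : Fact r.Prime := ⟨hr⟩
  have h0 := coeff_zero_ne_zero hr hφ
  haveI : Fact (Irreducible φ) := ⟨hirr⟩
  set α := AdjoinRoot.root φ with hα
  have hα0 : α ≠ 0 := root_ne_zero φ hm hirr h0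
  have hroot : aeval α φ = 0 := AdjoinRoot.eval₂_root φ
  have hαr : α ^ r = 1 := by
    obtain ⟨g, hg⟩ := dvd_X_pow_sub_one hr hφ
    have := congrArg (aeval α) hg
    rw [map_mul, hroot, zero_mul, map_sub, map_pow, aeval_X, map_one, sub_eq_zero] at this
    exact this
  obtain ⟨j', hj'⟩ : ∃ j', orderOf (q : ZMod r) = 2 * (2 * j' + 1) :=
    ⟨orderOf (q : ZMod r) / 4, by omega⟩
  have h4 : ((q : ZMod r) ^ (2 * j' + 1)) ^ 2 = 1 := by
    rw [← pow_mul, show (2 * j' + 1) * 2 = orderOf (q : ZMod r) by omega, pow_orderOf_eq_one]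
  have h5 : (q : ZMod r) ^ (2 * j' + 1) ≠ 1 :=
    pow_ne_one_of_lt_orderOf (by omega) (by omega)
  have h6 : (q : ZMod r) ^ (2 * j' + 1) = -1 := by
    rcases sq_eq_one_iff.1 h4 with h | h
    · exact absurd h h5
    · exact h
  have h7 : r ∣ q ^ (2 * j' + 1) + 1 := by
    rw [← ZMod.natCast_eq_zero_iff, Nat.cast_add, Nat.cast_pow, h6, Nat.cast_one, neg_add_cancel]
  have h8 : α ^ (q ^ (2 * j' + 1)) = α⁻¹ := by
    obtain ⟨c, hc⟩ := h7
    have : α ^ (q ^ (2 * j' + 1) + 1) = 1 := by rw [hc, pow_mul, hαr, one_pow]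
    rw [pow_succ] at this
    exact eq_inv_of_mul_eq_one_left this
  have hβ : aeval (α ^ ((q ^ 2) ^ j')) φ = 0 := frob_root hK φ α hroot j'
  have hq0 : q ≠ 0 := by
    intro h
    rw [h] at hK
    simp at hK
  have h9 : aeval α⁻¹ (φ.map (powQ hK)) = 0 := by
    have := frobQ hK p φ (α ^ ((q ^ 2) ^ j'))
    rw [hβ, zero_pow hq0, ← pow_mul, show (q ^ 2) ^ j' * q = q ^ (2 * j' + 1) by ring, h8] at this
    exact this
  have h10 : aeval α (dag hK φ) = 0 := by
    letI : Invertible α⁻¹ := invertibleOfNonzero (inv_ne_zero hα0)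
    have h11 : eval₂ (algebraMap K (AdjoinRoot φ)) (⅟α⁻¹) (reverse (φ.map (powQ hK))) = 0 := by
      rw [eval₂_reverse_eq_zero_iff]
      exact h9
    rw [invOf_eq_inv, inv_inv] at h11
    rw [dag, rc, map_mul, aeval_def, aeval_def, h11, mul_zero]
  have hd : φ ∣ dag hK φ := by
    rw [← AdjoinRoot.mk_eq_zero, ← AdjoinRoot.aeval_eq]
    exact h10
  have hc0 : (φ.map (powQ hK)).coeff 0 ≠ 0 := by
    rw [coeff_map]
    exact (map_ne_zero (powQ hK)).2 h0
  refine eq_of_monic_of_dvd_of_natDegree_le hm (rc_monic hc0) hd ?_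
  refine (rc_natDegree_le _).trans ?_
  rw [natDegree_map]

theorem mod4_of_dag_eq_self (hr2 : r ≠ 2) {φ : K[X]} (hφ : φ ∈ cycFactors r K)
    (hdag : dag hK φ = φ) : orderOf (q : ZMod r) % 4 = 2 := by
  classical
  obtain ⟨hm, hirr, h3⟩ := mem_cycFactors.1 hφ
  haveI : Fact r.Prime := ⟨hr⟩
  have h0 := coeff_zero_ne_zero hr hφ
  haveI : Fact (Irreducible φ) := ⟨hirr⟩
  set α := AdjoinRoot.root φ with hα
  have hα0 : α ≠ 0 := root_ne_zero φ hm hirr h0
  have hroot : aeval α φ = 0 := AdjoinRoot.eval₂_root φ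
  have hαr : α ^ r = 1 := by
    obtain ⟨g, hg⟩ := dvd_X_pow_sub_one hr hφ
    have := congrArg (aeval α) hg
    rw [map_mul, hroot, zero_mul, map_sub, map_pow, aeval_X, map_one, sub_eq_zero] at this
    exact this
  have hα1 : α ≠ 1 := by
    intro h
    rw [h] at hroot
    have h1 := eval_one_ne_zero hr hrp hφ
    apply h1
    have h2 : aeval (1 : AdjoinRoot φ) φ = algebraMap K (AdjoinRoot φ) (φ.eval 1) := by
      rw [← aeval_algebraMap_apply_eq_algebraMap_eval, map_one]
    rw [h2] at hroot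
    exact (map_eq_zero _).1 hroot
  have hordα : orderOf α = r := orderOf_eq_prime hαr hα1
  have hq0 : q ≠ 0 := by
    intro h
    rw [h] at hK
    simp at hK
  -- a root `(α^q)⁻¹`
  have h1 : aeval (α ^ q) (φ.map (powQ hK)) = 0 := by
    rw [frobQ hK p, hroot, zero_pow hq0]
  have hγ : aeval (α ^ q)⁻¹ φ = 0 := by
    letI : Invertible (α ^ q) := invertibleOfNonzero (pow_ne_zero _ hα0)
    have h11 : eval₂ (algebraMap K (AdjoinRoot φ)) (⅟(α ^ q)) (reverse (φ.map (powQ hK))) = 0 := by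
      rw [eval₂_reverse_eq_zero_iff]
      exact h1
    rw [invOf_eq_inv] at h11
    have h12 : aeval (α ^ q)⁻¹ (dag hK φ) = 0 := by
      rw [dag, rc, map_mul, aeval_def, aeval_def, h11, mul_zero]
    rw [hdag] at h12
    exact h12
  -- the roots of φ
  set b := φ.natDegree with hb
  have hbord : b = orderOf ((q ^ 2 : ℕ) : ZMod r) := natDegree_of_mem hK hr hrp hφ
  set Sset : Finset (AdjoinRoot φ) :=
    Finset.image (fun j => α ^ ((q ^ 2) ^ j)) (Finset.range b) with hSset
  have hfin : IsOfFinOrder α := isOfFinOrder_iff_pow_eq_one.2 ⟨r, hr.pos, hαr⟩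
  have hcopQ : (q ^ 2).Coprime r := coprime_q hK hr hrp
  have hfinQ : IsOfFinOrder ((q ^ 2 : ℕ) : ZMod r) := by
    rw [← orderOf_pos_iff, ← hbord]
    exact hirr.natDegree_pos
  have hinj : Set.InjOn (fun j => α ^ ((q ^ 2) ^ j)) (Finset.range b : Set ℕ) := by
    intro j hj j' hj' hjj
    simp only at hjj
    rw [hfin.pow_eq_pow_iff_modEq, hordα, ← ZMod.natCast_eq_natCast_iff, Nat.cast_pow,
      Nat.cast_pow (q ^ 2) j', hfinQ.pow_eq_pow_iff_modEq, ← hbord] at hjj
    have hj1 : j < b := Finset.mem_range.1 hj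
    have hj2 : j' < b := Finset.mem_range.1 hj'
    exact Nat.ModEq.eq_of_lt_of_lt hjj hj1 hj2
  have hcardS : Sset.card = b := by
    rw [hSset, Finset.card_image_of_injOn hinj, Finset.card_range]
  have hsub : Sset ⊆ (φ.aroots (AdjoinRoot φ)).toFinset := by
    intro x hx
    rw [hSset, Finset.mem_image] at hx
    obtain ⟨j, _, rfl⟩ := hx
    rw [Multiset.mem_toFinset, mem_aroots]
    exact ⟨hirr.ne_zero, frob_root hK φ α hroot j⟩
  have hcardR : (φ.aroots (AdjoinRoot φ)).toFinset.card ≤ b := by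
    refine (Multiset.toFinset_card_le _).trans ?_
    refine (card_roots' _).trans ?_
    rw [natDegree_map]
  have hSeq : Sset = (φ.aroots (AdjoinRoot φ)).toFinset :=
    Finset.eq_of_subset_of_card_le hsub (by rw [hcardS]; exact hcardR)
  have hγmem : (α ^ q)⁻¹ ∈ Sset := by
    rw [hSeq, Multiset.mem_toFinset, mem_aroots]
    exact ⟨hirr.ne_zero, hγ⟩
  rw [hSset, Finset.mem_image] at hγmem
  obtain ⟨j, _, hj⟩ := hγmem
  have h2 : α ^ ((q ^ 2) ^ j + q) = 1 := by
    rw [pow_add, hj, inv_mul_cancel₀ (pow_ne_zero _ hα0)]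
  have h3' : r ∣ (q ^ 2) ^ j + q := by
    rw [← hordα]
    exact orderOf_dvd_of_pow_eq_one h2
  have h4 : (q : ZMod r) ^ (2 * j) = -(q : ZMod r) := by
    rw [← ZMod.natCast_eq_zero_iff, Nat.cast_add, Nat.cast_pow, Nat.cast_pow, ← pow_mul] at h3'
    exact eq_neg_of_add_eq_zero_left h3'
  set i := orderOf (q : ZMod r) with hi
  have hcop := coprime_q (q := q ^ 2) hK hr hrp
  have hipos : 0 < i := by
    have hcq : q.Coprime r := Nat.Coprime.coprime_dvd_left (dvd_pow_self q two_ne_zero) hcop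
    have : IsOfFinOrder (ZMod.unitOfCoprime q hcq) := isOfFinOrder_of_finite _
    rw [← orderOf_pos_iff, ← orderOf_units, ZMod.coe_unitOfCoprime] at this
    exact this
  have h5 : (q : ZMod r) ^ (2 * j + i - 1) = -1 := by
    have h6 : (q : ZMod r) ^ (2 * j + i - 1) * q = -1 * q := by
      rw [← pow_succ, show 2 * j + i - 1 + 1 = 2 * j + i by omega, pow_add, h4, hi,
        pow_orderOf_eq_one, mul_one, neg_one_mul]
    have hq0' : (q : ZMod r) ≠ 0 := by
      intro h
      rw [h, orderOf_zero] at hi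
      omega
    exact mul_right_cancel₀ hq0' h6
  have h6 : i ∣ 2 * (2 * j + i - 1) := by
    rw [hi, orderOf_dvd_iff_pow_eq_one, mul_comm, pow_mul, h5, neg_one_sq]
  have h7 : ¬ i ∣ (2 * j + i - 1) := by
    intro h
    rw [hi, orderOf_dvd_iff_pow_eq_one, h5] at h
    have h8 : (2 : ZMod r) = 0 := by
      have := congrArg (fun x => 1 - x) h
      simp only [sub_neg_eq_add, sub_self] at this
      rw [← this]
      norm_num
    have h9 : ((2 : ℕ) : ZMod r) = 0 := by exact_mod_cast h8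
    rw [ZMod.natCast_eq_zero_iff] at h9
    exact hr2 ((Nat.prime_dvd_prime_iff_eq hr Nat.prime_two).1 h9)
  rcases Nat.even_or_odd i with he | ho
  · obtain ⟨u, hu⟩ := he
    have h8 : u ∣ 2 * j + i - 1 := by
      have : 2 * u ∣ 2 * (2 * j + i - 1) := by rw [← two_mul] at hu; rwa [← hu]
      exact (Nat.mul_dvd_mul_iff_left (by norm_num)).1 this
    rcases Nat.even_or_odd u with hue | huo
    · exfalso
      obtain ⟨w, hw⟩ := hue
      have h10 : 2 ∣ u := ⟨w, by omega⟩
      have h9 : 2 ∣ 2 * j + i - 1 := h10.trans h8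
      omega
    · obtain ⟨w, hw⟩ := huo
      omega
  · exfalso
    apply h7
    exact (Nat.Coprime.dvd_of_dvd_mul_left (Nat.coprime_two_right.2 ho) h6)

end facts

end Cfsg.Agent.Lib.Helper5.SSOrder
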