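import Mathlib
import Cfsg.Agent.Lib.Helper5.PrimeGraph2

set_option autoImplicit false

namespace Cfsg.Agent.Lib.Helper5.PrimeGraph

open Polynomial

section star
variable {F : Type*} [Field F] [Fintype F] {l : Type*} [Fintype l] [DecidableEq l]

/-- stronger form of `exists_star`: the reciprocal factor divides the same `X^j - 1`. -/
theorem exists_star' (b : Matrix.symplecticGroup l F) (m : ℕ) (hm : 0 < m) (hb : b ^ m = 1)
    (g : F[X]) (hg : Irreducible g) (hgm : g.Monic)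
    (hgd : g ∣ minpoly F (b : Matrix (l ⊕ l) (l ⊕ l) F)) :
    ∃ g' : F[X], Irreducible g' ∧ g'.Monic ∧ g' ∣ minpoly F (b : Matrix (l ⊕ l) (l ⊕ l) F) ∧
      (∀ j : ℕ, g' ∣ X ^ j - C 1 ↔ g ∣ X ^ j - C 1) ∧
      (g' = g → ∃ i : ℕ, orderOf (AdjoinRoot.root g) ∣ Fintype.card F ^ i + 1) := by
  classical
  have := Fact.mk hg
  set B : Matrix (l ⊕ l) (l ⊕ l) F := (b : Matrix (l ⊕ l) (l ⊕ l) F) with hB
  set μ := minpoly F B with hμ
  set α := AdjoinRoot.root g with hα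
  have hBm : B ^ m = 1 := by
    have := congrArg (fun y : Matrix.symplecticGroup l F => (y : Matrix (l ⊕ l) (l ⊕ l) F)) hb
    simpa using this
  have hμdvd : μ ∣ X ^ m - C 1 := by
    apply minpoly.dvd
    rw [map_sub, map_pow, aeval_X, aeval_C, hBm, map_one, sub_self]
  have hαm : α ^ m = 1 := (dvd_X_pow_sub_one_iff g m).1 (hgd.trans hμdvd)
  have hα0 : α ≠ 0 := by
    intro h
    rw [h, zero_pow hm.ne'] at hαm
    exact zero_ne_one hαm
  have hf0 : g ≠ 0 := hg.ne_zero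
  have hfin : Module.Finite F (AdjoinRoot g) := (AdjoinRoot.powerBasis hf0).finite
  have hint : IsIntegral F α⁻¹ := Algebra.IsIntegral.isIntegral _
  have hinvB : aeval ((b⁻¹ : Matrix.symplecticGroup l F) : Matrix (l ⊕ l) (l ⊕ l) F) μ = 0 :=
    aeval_symplectic_inv b μ (minpoly.aeval F B)
  have hbinv : ((b⁻¹ : Matrix.symplecticGroup l F) : Matrix (l ⊕ l) (l ⊕ l) F) = B ^ (m - 1) := by
    have h1 : b⁻¹ = b ^ (m - 1) := by
      rw [inv_eq_iff_mul_eq_one, ← pow_succ', Nat.sub_add_cancel hm, hb]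
    rw [h1]
    simp [hB]
  have hcomp : aeval B (μ.comp (X ^ (m - 1))) = 0 := by
    rw [aeval_comp, map_pow, aeval_X, ← hbinv, hinvB]
  have hdvd2 : g ∣ μ.comp (X ^ (m - 1)) := hgd.trans (minpoly.dvd F B hcomp)
  have hαinv : α⁻¹ = α ^ (m - 1) := by
    apply inv_eq_of_mul_eq_one_right
    rw [← pow_succ', Nat.sub_add_cancel hm, hαm]
  have hμα : aeval α⁻¹ μ = 0 := by
    obtain ⟨c, hc⟩ := hdvd2
    have h1 : aeval α (μ.comp (X ^ (m - 1))) = 0 := by
      rw [hc, map_mul, AdjoinRoot.aeval_eq, AdjoinRoot.mk_self, zero_mul]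
    rwa [aeval_comp, map_pow, aeval_X, ← hαinv] at h1
  refine ⟨minpoly F α⁻¹, minpoly.irreducible hint, minpoly.monic hint, minpoly.dvd F _ hμα, ?_, ?_⟩
  · intro j
    rw [minpoly.dvd_iff, dvd_X_pow_sub_one_iff, map_sub, map_pow, aeval_X, aeval_C, map_one,
      sub_eq_zero, inv_pow, inv_eq_one]
  · intro h
    apply orderOf_root_dvd_pow_add_one g hα0
    have h1 := minpoly.aeval F α⁻¹
    rw [h] at h1
    exact h1

/-- orders of roots agree when the same `X^j - 1` are divisible. -/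
theorem orderOf_root_eq_of_dvd_iff (g g' : F[X])
    (h : ∀ j : ℕ, g' ∣ X ^ j - C 1 ↔ g ∣ X ^ j - C 1) :
    orderOf (AdjoinRoot.root g') = orderOf (AdjoinRoot.root g) := by
  rw [orderOf_eq_orderOf_iff]
  intro j
  rw [← dvd_X_pow_sub_one_iff, ← dvd_X_pow_sub_one_iff, h]

end star

end Cfsg.Agent.Lib.Helper5.PrimeGraph
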