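import Mathlib
import Cfsg.Prelude
import Cfsg.Agent.Lib.Helper5.PrimeGraph3
import Cfsg.Agent.Lib.Helper1.SUCenter

/-!
Unitary reciprocity: for a matrix preserving the Hermitian form, annihilating polynomials of the
inverse are Frobenius twists; conjugate-reciprocal irreducible factors.
-/

set_option autoImplicit false

namespace Cfsg.Agent.Lib.Helper5.UStar

open Polynomial Cfsg.Agent.Lib.Helper5.PrimeGraph Cfsg.Agent.S0278
open Cfsg.Agent.Lib.Helper2.Herm Cfsg.Agent.Lib.Helper1.HermCount Cfsg.Agent.Lib.Helper1.GUBasic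

variable {F : Type*} [Field F] [Fintype F] {q n : ℕ}

/-- a matrix preserving the Hermitian form satisfies `Mᵀ * M^σ = 1`. -/
theorem transpose_mul_map (hF : Fintype.card F = q ^ 2) (M : Matrix (Fin n) (Fin n) F)
    (hM : ∀ u v, Cfsg.hermForm n F q (M.mulVec u) (M.mulVec v) = Cfsg.hermForm n F q u v) :
    M.transpose * M.map (powQ hF) = 1 := by
  classical
  have hq := two_le_q hF
  ext i j
  have h2 := hM (Pi.single i 1) (Pi.single j 1)
  rw [herm_single_left, Matrix.mulVec_single_one, Matrix.mulVec_single_one] at h2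
  rw [Matrix.mul_apply, Matrix.one_apply]
  unfold Cfsg.hermForm at h2
  have h3 : ∑ k, M.transpose i k * M.map (powQ hF) k j = ∑ k, M.col i k * (M.col j k) ^ q := by
    apply Finset.sum_congr rfl
    intro k _
    rfl
  rw [h3, h2, Pi.single_apply]
  by_cases hij : i = j
  · rw [if_pos hij, one_pow]
  · rw [if_neg hij, zero_pow (by omega)]

theorem aeval_map_map (σ : F →+* F) (M : Matrix (Fin n) (Fin n) F) (P : F[X]) :
    aeval (M.map σ) (P.map σ) = (aeval M P).map σ := by
  have h1 : (P.map σ).natDegree < P.natDegree + 1 := Nat.lt_succ_of_le natDegree_map_le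
  rw [aeval_eq_sum_range' h1, aeval_eq_sum_range]
  have h2 : ∀ A : Matrix (Fin n) (Fin n) F, A.map σ = σ.mapMatrix A := fun A => rfl
  rw [h2 (∑ i ∈ Finset.range (P.natDegree + 1), P.coeff i • M ^ i), map_sum]
  refine Finset.sum_congr rfl fun i _ => ?_
  rw [coeff_map, h2 M, ← map_pow]
  ext a b
  simp [RingHom.mapMatrix_apply, Matrix.smul_apply]

/-- if `P(M) = 0` for a unitary `M` then `P^σ(M⁻¹) = 0`. -/
theorem aeval_unitary_inv (hF : Fintype.card F = q ^ 2) (M : Matrix (Fin n) (Fin n) F)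
    (hM : ∀ u v, Cfsg.hermForm n F q (M.mulVec u) (M.mulVec v) = Cfsg.hermForm n F q u v)
    (P : F[X]) (h : aeval M P = 0) : aeval M⁻¹ (P.map (powQ hF)) = 0 := by
  have h1 := transpose_mul_map hF M hM
  have h2 : M.map (powQ hF) = (M⁻¹).transpose := by
    rw [Matrix.transpose_nonsing_inv]
    exact (Matrix.inv_eq_right_inv h1).symm
  have h3 := aeval_map_map (powQ hF) M P
  rw [h, h2, aeval_transpose] at h3
  have h4 : (aeval M⁻¹ (P.map (powQ hF))).transpose = 0 := by
    rw [h3]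
    ext a b
    simp
  exact Matrix.transpose_eq_zero.1 h4

theorem exists_q_eq_pow (hF : Fintype.card F = q ^ 2) (p : ℕ) [CharP F p] : ∃ a : ℕ, q = p ^ a := by
  obtain ⟨n, hpp, hn⟩ := FiniteField.card F p
  have hq : q ∣ p ^ (n : ℕ) := by
    rw [← hn, hF]; exact dvd_pow_self q (by norm_num)
  obtain ⟨k, _, rfl⟩ := (Nat.dvd_prime_pow hpp).mp hq
  exact ⟨k, rfl⟩

/-- Frobenius twist of a polynomial evaluation in a commutative algebra of characteristic `p`. -/
theorem aeval_pow_char_pow {K : Type*} [Field K] [Algebra F K] (p a : ℕ) [hp : Fact p.Prime]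
    [CharP F p] (σ : F →+* F) (hσ : ∀ x, σ x = x ^ p ^ a) (R : F[X]) (y : K) :
    (aeval y R) ^ p ^ a = aeval (y ^ p ^ a) (R.map σ) := by
  have : CharP K p := charP_of_injective_algebraMap (algebraMap F K).injective p
  have h1 : (R.map σ).natDegree < R.natDegree + 1 := Nat.lt_succ_of_le natDegree_map_le
  rw [aeval_eq_sum_range, aeval_eq_sum_range' h1, sum_pow_char_pow]
  refine Finset.sum_congr rfl fun i _ => ?_
  rw [coeff_map, hσ, Algebra.smul_def, Algebra.smul_def, mul_pow, map_pow, ← pow_mul, ← pow_mul,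
    mul_comm i]

/-- the conjugate-reciprocal irreducible factor for a unitary matrix of finite order. -/
theorem exists_ustar (hF : Fintype.card F = q ^ 2) (M : Matrix (Fin n) (Fin n) F)
    (hM : ∀ u v, Cfsg.hermForm n F q (M.mulVec u) (M.mulVec v) = Cfsg.hermForm n F q u v)
    (m : ℕ) (hm : 0 < m) (hMm : M ^ m = 1)
    (g : F[X]) (hg : Irreducible g) (hgm : g.Monic) (hgd : g ∣ minpoly F M) :
    ∃ g' : F[X], Irreducible g' ∧ g'.Monic ∧ g' ∣ minpoly F M ∧
      (∀ j : ℕ, g' ∣ X ^ j - C 1 ↔ g ∣ X ^ j - C 1) ∧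
      (g' = g → ∃ i : ℕ, orderOf (AdjoinRoot.root g) ∣ (q ^ 2) ^ i + q) := by
  classical
  have := Fact.mk hg
  set μ := minpoly F M with hμ
  set α := AdjoinRoot.root g with hα
  have hμdvd : μ ∣ X ^ m - C 1 := by
    apply minpoly.dvd
    rw [map_sub, map_pow, aeval_X, aeval_C, hMm, map_one, sub_self]
  have hαm : α ^ m = 1 := (dvd_X_pow_sub_one_iff g m).1 (hgd.trans hμdvd)
  have hα0 : α ≠ 0 := by
    intro h
    rw [h, zero_pow hm.ne'] at hαm
    exact zero_ne_one hαm
  have hf0 : g ≠ 0 := hg.ne_zero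
  have hfin : Module.Finite F (AdjoinRoot g) := (AdjoinRoot.powerBasis hf0).finite
  have hMinv : M⁻¹ = M ^ (m - 1) := by
    apply Matrix.inv_eq_right_inv
    rw [← pow_succ', Nat.sub_add_cancel hm, hMm]
  have hinv : aeval M⁻¹ (μ.map (powQ hF)) = 0 := aeval_unitary_inv hF M hM μ (minpoly.aeval F M)
  have hcomp : aeval M ((μ.map (powQ hF)).comp (X ^ (m - 1))) = 0 := by
    rw [aeval_comp, map_pow, aeval_X, ← hMinv, hinv]
  have hdvd2 : g ∣ (μ.map (powQ hF)).comp (X ^ (m - 1)) := hgd.trans (minpoly.dvd F M hcomp)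
  have hαinv : α⁻¹ = α ^ (m - 1) := by
    apply inv_eq_of_mul_eq_one_right
    rw [← pow_succ', Nat.sub_add_cancel hm, hαm]
  have h1 : aeval α⁻¹ (μ.map (powQ hF)) = 0 := by
    obtain ⟨c, hc⟩ := hdvd2
    have h1 : aeval α ((μ.map (powQ hF)).comp (X ^ (m - 1))) = 0 := by
      rw [hc, map_mul, AdjoinRoot.aeval_eq, AdjoinRoot.mk_self, zero_mul]
    rwa [aeval_comp, map_pow, aeval_X, ← hαinv] at h1
  obtain ⟨p, hp⟩ := CharP.exists F
  have hpp : Fact p.Prime := ⟨CharP.char_is_prime F p⟩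
  obtain ⟨a, hqa⟩ := exists_q_eq_pow hF p
  have hσ : ∀ x, powQ hF x = x ^ p ^ a := by
    intro x
    show x ^ q = x ^ p ^ a
    rw [hqa]
  have hσσ : (powQ hF).comp (powQ hF) = RingHom.id F := by
    ext x
    show (x ^ q) ^ q = x
    exact pow_q_pow_q hF x
  set β := α⁻¹ ^ q with hβ
  have hβμ : aeval β μ = 0 := by
    have h2 := aeval_pow_char_pow (K := AdjoinRoot g) p a (powQ hF) hσ (μ.map (powQ hF)) α⁻¹
    rw [h1, zero_pow (pow_pos hpp.out.pos a).ne', Polynomial.map_map, hσσ, Polynomial.map_id,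
      ← hqa] at h2
    exact h2.symm
  have hint : IsIntegral F β := Algebra.IsIntegral.isIntegral _
  have : CharP (AdjoinRoot g) p := charP_of_injective_algebraMap (algebraMap F (AdjoinRoot g)).injective p
  have hinj : ∀ x : AdjoinRoot g, x ^ q = 1 ↔ x = 1 := by
    intro x
    constructor
    · intro h
      apply iterateFrobenius_inj (AdjoinRoot g) p a
      rw [iterateFrobenius_def, iterateFrobenius_def, one_pow, ← hqa, h]
    · rintro rfl
      exact one_pow q
  refine ⟨minpoly F β, minpoly.irreducible hint, minpoly.monic hint, minpoly.dvd F _ hβμ, ?_, ?_⟩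
  · intro j
    rw [minpoly.dvd_iff, dvd_X_pow_sub_one_iff, map_sub, map_pow, aeval_X, aeval_C, map_one,
      sub_eq_zero, hβ, ← pow_mul, mul_comm, pow_mul, hinj, inv_pow, inv_eq_one]
  · intro h
    have h2 := minpoly.aeval F β
    rw [h] at h2
    obtain ⟨i, hi⟩ := root_eq_pow g β h2
    refine ⟨i, orderOf_dvd_of_pow_eq_one ?_⟩
    rw [pow_add, ← hF, ← hi, hβ, ← mul_pow, inv_mul_cancel₀ hα0, one_pow]

end Cfsg.Agent.Lib.Helper5.UStar
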