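import Mathlib
import Cfsg.Agent.S2638

/-!
Field model of the centralizer of an irreducible element of `GL_n(F)`: the action on `F^n` becomes
multiplication in `AdjoinRoot π`, and determinants become norms. Also: the `(q-1)`-torsion of a
finite extension is the base field.
-/

set_option autoImplicit false

namespace Cfsg.Agent.Lib.Helper5.SingerModel

open Polynomial

section model
variable {F : Type*} [Field F]

/-- the centralizer of `x` acts through multiplication in `AdjoinRoot π`. -/
theorem centralizer_model' {n : ℕ} (π : F[X]) [Fact (Irreducible π)] (x : GL (Fin n) F)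
    (θ : (Fin n → F) ≃ₗ[F] AdjoinRoot π)
    (hθ : ∀ (g : F[X]) (u : Fin n → F),
      θ (aeval (Matrix.toLin' (x : Matrix (Fin n) (Fin n) F)) g u) = AdjoinRoot.mk π g * θ u) :
    ∃ κ : Subgroup.centralizer ({x} : Set (GL (Fin n) F)) →* AdjoinRoot π,
      Function.Injective κ ∧
      ∀ (c : Subgroup.centralizer ({x} : Set (GL (Fin n) F))) (v : Fin n → F),
        θ (Matrix.toLin' (c.1 : Matrix (Fin n) (Fin n) F) v) = κ c * θ v := by
  classical
  set φ := Matrix.toLin' (x : Matrix (Fin n) (Fin n) F) with hφdef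
  set u₁ := θ.symm 1 with hu₁
  have hθu₁ : θ u₁ = 1 := θ.apply_symm_apply 1
  let G : GL (Fin n) F → ((Fin n → F) →ₗ[F] (Fin n → F)) := fun g => Matrix.toLin' g.1
  have hGmul : ∀ g h : GL (Fin n) F, G (g * h) = G g ∘ₗ G h := by
    intro g h
    show Matrix.toLin' (g * h : GL (Fin n) F).1 = _
    rw [Units.val_mul, Matrix.toLin'_mul]
  have hcomm : ∀ g : GL (Fin n) F, g ∈ Subgroup.centralizer ({x} : Set (GL (Fin n) F)) →
      G g ∘ₗ φ = φ ∘ₗ G g := by
    intro g hg
    rw [Subgroup.mem_centralizer_singleton_iff] at hg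
    have : G (g * x) = G (x * g) := by rw [hg]
    rwa [hGmul, hGmul] at this
  have key2 : ∀ v, ∃ q : F[X], v = aeval φ q u₁ := by
    intro v
    obtain ⟨q, hq⟩ := AdjoinRoot.mk_surjective (g := π) (θ v)
    refine ⟨q, ?_⟩
    apply θ.injective
    rw [hθ, hθu₁, mul_one, hq]
  have key3 : ∀ g : GL (Fin n) F, g ∈ Subgroup.centralizer ({x} : Set (GL (Fin n) F)) →
      ∀ v, θ (G g v) = θ (G g u₁) * θ v := by
    intro g hg v
    obtain ⟨q, rfl⟩ := key2 v
    rw [Cfsg.Agent.S2638.commute_aeval (G g) φ (hcomm g hg), hθ, hθ, hθu₁, mul_one, mul_comm]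
  let κ : Subgroup.centralizer ({x} : Set (GL (Fin n) F)) →* AdjoinRoot π :=
    { toFun := fun g => θ (G g.1 u₁)
      map_one' := by
        show θ (Matrix.toLin' (1 : GL (Fin n) F).1 u₁) = 1
        rw [Units.val_one, Matrix.toLin'_one, LinearMap.id_apply, hθu₁]
      map_mul' := by
        intro g h
        show θ (G (g.1 * h.1) u₁) = _
        rw [hGmul, LinearMap.comp_apply, key3 g.1 g.2] }
  refine ⟨κ, ?_, fun c v => key3 c.1 c.2 v⟩
  intro g h hgh
  have h1 : θ (G g.1 u₁) = θ (G h.1 u₁) := hgh
  have h2 : G g.1 = G h.1 := by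
    apply LinearMap.ext
    intro v
    apply θ.injective
    rw [key3 g.1 g.2, key3 h.1 h.2, h1]
  apply Subtype.ext
  apply Units.ext
  exact Matrix.toLin'.injective h2

/-- determinant = norm in the field model. -/
theorem det_eq_norm {n : ℕ} (π : F[X]) [Fact (Irreducible π)]
    (θ : (Fin n → F) ≃ₗ[F] AdjoinRoot π) (M : Matrix (Fin n) (Fin n) F) (k : AdjoinRoot π)
    (h : ∀ v, θ (Matrix.toLin' M v) = k * θ v) : M.det = Algebra.norm F k := by
  have h1 : Matrix.toLin' M = θ.symm.toLinearMap ∘ₗ (LinearMap.mulLeft F k) ∘ₗ θ.toLinearMap := by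
    apply LinearMap.ext
    intro v
    apply θ.injective
    rw [h v]
    simp
  rw [← LinearMap.det_toLin', h1]
  have h2 : θ.symm.toLinearMap ∘ₗ (LinearMap.mulLeft F k) ∘ₗ θ.toLinearMap =
      (θ.symm : AdjoinRoot π ≃ₗ[F] (Fin n → F)).toLinearMap ∘ₗ (LinearMap.mulLeft F k) ∘ₗ
        ((θ.symm : AdjoinRoot π ≃ₗ[F] (Fin n → F)).symm).toLinearMap := by
    rw [LinearEquiv.symm_symm]
  rw [h2, LinearMap.det_conj]
  rfl

end model

section torsion
variable {F : Type*} [Field F] [Fintype F] {K : Type*} [Field K] [Algebra F K]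

/-- the `(q-1)`-torsion of an extension of the field with `q` elements is the base field. -/
theorem mem_range_of_pow_eq_one (k : K) (hk : k ^ (Fintype.card F - 1) = 1) :
    ∃ c : F, algebraMap F K c = k := by
  classical
  by_contra hcon
  push Not at hcon
  set q := Fintype.card F with hq
  have hq1 : 1 < q := Fintype.one_lt_card
  set P : K[X] := X ^ q - X with hP
  have hP0 : P ≠ 0 := FiniteField.X_pow_card_sub_X_ne_zero K hq1
  have hdeg : P.natDegree = q := FiniteField.X_pow_card_sub_X_natDegree_eq K hq1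
  have hkq : k ^ q = k := by
    have : q = (q - 1) + 1 := by omega
    rw [this, pow_succ, hk, one_mul]
  let S : Finset K := insert k (Finset.univ.image (algebraMap F K))
  have hS : S.val ⊆ P.roots := by
    intro y hy
    rw [Finset.mem_val] at hy
    rw [mem_roots hP0, IsRoot, hP, eval_sub, eval_pow, eval_X, sub_eq_zero]
    rcases Finset.mem_insert.1 hy with rfl | hy
    · exact hkq
    · obtain ⟨c, -, rfl⟩ := Finset.mem_image.1 hy
      rw [← map_pow, hq, FiniteField.pow_card]
  have h1 := Polynomial.card_le_degree_of_subset_roots hS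
  have h2 : S.card = q + 1 := by
    rw [Finset.card_insert_of_notMem, Finset.card_image_of_injective _ (algebraMap F K).injective,
      Finset.card_univ]
    intro h
    obtain ⟨c, -, hc⟩ := Finset.mem_image.1 h
    exact hcon c hc
  omega

end torsion

end Cfsg.Agent.Lib.Helper5.SingerModel
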