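import Mathlib
import Cfsg.Agent.Lib.Helper5.SingerModel
import Cfsg.Agent.Lib.Helper5.PrimeGraph2
import Cfsg.Agent.Lib.Helper5.PrimeOrderGL

set_option autoImplicit false

namespace Cfsg.Agent.Lib.Helper5.Cubic

open Polynomial

section general
variable {F : Type*} [Field F]

/-- Cayley–Hamilton: if the characteristic polynomial divides `X^k - c` then `M^k = c`. -/
theorem pow_eq_smul_of_charpoly_dvd {n : ℕ} (M : Matrix (Fin n) (Fin n) F) (k : ℕ) (c : F)
    (h : M.charpoly ∣ X ^ k - C c) : M ^ k = c • 1 := by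
  obtain ⟨r, hr⟩ := h
  have h1 := Matrix.aeval_self_charpoly M
  have h2 : aeval M (X ^ k - C c) = 0 := by rw [hr, map_mul, h1, zero_mul]
  rw [map_sub, map_pow, aeval_X, aeval_C, sub_eq_zero] at h2
  rw [h2, Algebra.algebraMap_eq_smul_one]

/-- splitting off a root of a monic polynomial. -/
theorem exists_eq_mul_of_isRoot (χ : F[X]) (hm : χ.Monic) {n : ℕ} (hd : χ.natDegree = n + 1) (a : F)
    (ha : χ.IsRoot a) : ∃ h : F[X], h.Monic ∧ h.natDegree = n ∧ χ = (X - C a) * h := by
  have h1 : (X - C a) * (χ /ₘ (X - C a)) = χ := mul_divByMonic_eq_iff_isRoot.2 ha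
  have hm2 : (χ /ₘ (X - C a)).Monic := by
    apply Monic.of_mul_monic_left (monic_X_sub_C a)
    rw [h1]; exact hm
  refine ⟨χ /ₘ (X - C a), hm2, ?_, h1.symm⟩
  have h2 := congrArg natDegree h1
  rw [Monic.natDegree_mul (monic_X_sub_C a) hm2, natDegree_X_sub_C, hd] at h2
  omega

/-- the factorisation types of a monic cubic. -/
theorem cubic_cases (χ : F[X]) (hm : χ.Monic) (hd : χ.natDegree = 3) :
    Irreducible χ ∨
    (∃ (a : F) (h : F[X]), h.Monic ∧ h.natDegree = 2 ∧ Irreducible h ∧ χ = (X - C a) * h) ∨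
    (∃ a b c : F, χ = (X - C a) * ((X - C b) * (X - C c))) := by
  classical
  by_cases h0 : χ.roots = 0
  · left
    exact (Monic.irreducible_iff_roots_eq_zero_of_degree_le_three hm (by omega) (by omega)).2 h0
  right
  obtain ⟨a, ha⟩ := Multiset.exists_mem_of_ne_zero h0
  obtain ⟨h, hhm, hhd, hχ⟩ := exists_eq_mul_of_isRoot χ hm hd a (isRoot_of_mem_roots ha)
  by_cases h1 : h.roots = 0
  · left
    exact ⟨a, h, hhm, hhd,
      (Monic.irreducible_iff_roots_eq_zero_of_degree_le_three hhm (by omega) (by omega)).2 h1, hχ⟩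
  right
  obtain ⟨b, hb⟩ := Multiset.exists_mem_of_ne_zero h1
  obtain ⟨h', hhm', hhd', hχ'⟩ := exists_eq_mul_of_isRoot h hhm hhd b (isRoot_of_mem_roots hb)
  refine ⟨a, b, -h'.coeff 0, ?_⟩
  rw [hχ, hχ']
  congr 2
  rw [map_neg, sub_neg_eq_add]
  exact hhm'.eq_X_add_C hhd'

end general

section finite
variable {F : Type*} [Field F] [Fintype F]

/-- for an irreducible `f`, divisibility of `X^j - c` is a statement about the root. -/
theorem dvd_X_pow_sub_C_iff (f : F[X]) (j : ℕ) (c : F) :
    f ∣ X ^ j - C c ↔ (AdjoinRoot.root f) ^ j = AdjoinRoot.of f c := by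
  rw [← AdjoinRoot.mk_eq_zero]
  simp [sub_eq_zero]

/-- the norm of the canonical root, as a power. -/
theorem root_pow_sum (f : F[X]) [hf : Fact (Irreducible f)] (hm : f.Monic) :
    (AdjoinRoot.root f) ^ (∑ i ∈ Finset.range f.natDegree, Fintype.card F ^ i) =
      AdjoinRoot.of f ((-1) ^ f.natDegree * f.coeff 0) := by
  classical
  have hf0 : f ≠ 0 := hf.out.ne_zero
  have hfin : Module.Finite F (AdjoinRoot f) := (AdjoinRoot.powerBasis hf0).finite
  have : Finite (AdjoinRoot f) := Module.finite_of_finite F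
  have h1 := FiniteField.algebraMap_norm_eq_pow_sum (K := F) (L := AdjoinRoot f)
    (x := AdjoinRoot.root f)
  have h2 := Algebra.PowerBasis.norm_gen_eq_coeff_zero_minpoly (AdjoinRoot.powerBasis hf0)
  rw [AdjoinRoot.powerBasis_gen, AdjoinRoot.powerBasis_dim, AdjoinRoot.minpoly_root hf0,
    hm.leadingCoeff, inv_one, map_one, mul_one] at h2
  rw [(AdjoinRoot.powerBasis hf0).finrank, AdjoinRoot.powerBasis_dim, Nat.card_eq_fintype_card,
    h2] at h1
  exact h1.symm

/-- the root is fixed by the `q^deg`-Frobenius. -/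
theorem root_pow_card_pow (f : F[X]) [hf : Fact (Irreducible f)] :
    (AdjoinRoot.root f) ^ (Fintype.card F ^ f.natDegree) = AdjoinRoot.root f := by
  classical
  have hf0 : f ≠ 0 := hf.out.ne_zero
  have hfin : Module.Finite F (AdjoinRoot f) := (AdjoinRoot.powerBasis hf0).finite
  have : Finite (AdjoinRoot f) := Module.finite_of_finite F
  have : Fintype (AdjoinRoot f) := Fintype.ofFinite _
  have hcard : Fintype.card (AdjoinRoot f) = Fintype.card F ^ f.natDegree := by
    rw [Module.card_eq_pow_finrank (K := F) (V := AdjoinRoot f),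
      (AdjoinRoot.powerBasis hf0).finrank, AdjoinRoot.powerBasis_dim]
  rw [← hcard]
  exact FiniteField.pow_card _

/-- an element of `AdjoinRoot f` whose `(q-1)`-th power is one lies in the base field. -/
theorem exists_of_eq (f : F[X]) [hf : Fact (Irreducible f)] (k : AdjoinRoot f)
    (hk : k ^ (Fintype.card F - 1) = 1) : ∃ c : F, AdjoinRoot.of f c = k :=
  SingerModel.mem_range_of_pow_eq_one (F := F) k hk

end finite

end Cfsg.Agent.Lib.Helper5.Cubic
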