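import Mathlib

/-!
Fitting decomposition of matrices over a field, in counting form: the matrices whose characteristic
polynomial has trailing degree `|α|` are the conjugates of the block diagonal matrices with a nilpotent
`α`-block and an invertible `β`-block, and the transporter of that set is the block diagonal subgroup.
-/

set_option autoImplicit false

namespace Cfsg.Agent.Lib.Helper5.NilCount


section abstract
variable {G X : Type*} [Group G] (act : G → X → X)
  (act_one : ∀ x, act 1 x = x) (act_mul : ∀ g h x, act (g * h) x = act g (act h x))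

include act_one act_mul in
/-- Counting the saturation of a set `S` whose transporter is a fixed subgroup `H`. -/
theorem card_saturation [Finite G] [Finite X] (S : Set X) (H : Subgroup G)
    (hH : ∀ s ∈ S, ∀ g, act g s ∈ S ↔ g ∈ H) :
    Nat.card {x : X // ∃ g, ∃ s ∈ S, act g s = x} * Nat.card H = Nat.card G * Nat.card S := by
  classical
  have hinv : ∀ g x, act g⁻¹ (act g x) = x := by
    intro g x
    rw [← act_mul, inv_mul_cancel, act_one]
  let E := {x : X // ∃ g, ∃ s ∈ S, act g s = x}
  have : Fintype E := Fintype.ofFinite E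
  let f : G × S → E := fun p => ⟨act p.1 p.2.1, p.1, p.2.1, p.2.2, rfl⟩
  have hfib : ∀ y : E, Nat.card {p : G × S // f p = y} = Nat.card H := by
    rintro ⟨x, hx⟩
    obtain ⟨g₀, s₀, hs₀, hgs⟩ := id hx
    apply Nat.card_congr
    have key : ∀ p : G × S, f p = ⟨x, hx⟩ ↔ act p.1 p.2.1 = act g₀ s₀ := by
      intro p
      rw [hgs]
      exact Subtype.ext_iff
    exact
      { toFun := fun p => ⟨p.1.1⁻¹ * g₀, by
          have h1 := (key p.1).1 p.2
          have h2 : act (p.1.1⁻¹ * g₀) s₀ = p.1.2.1 := by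
            rw [act_mul, ← h1, hinv]
          rw [← hH s₀ hs₀, h2]
          exact p.1.2.2⟩
        invFun := fun h => ⟨(g₀ * h.1⁻¹, ⟨act h.1 s₀, (hH s₀ hs₀ _).2 h.2⟩), by
          rw [key]
          show act (g₀ * h.1⁻¹) (act h.1 s₀) = act g₀ s₀
          rw [← act_mul]
          congr 1
          group⟩
        left_inv := by
          rintro ⟨⟨g, s, hs⟩, hp⟩
          have h1 : act g s = act g₀ s₀ := (key _).1 hp
          apply Subtype.ext
          apply Prod.ext
          · show g₀ * (g⁻¹ * g₀)⁻¹ = g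
            group
          · apply Subtype.ext
            show act (g⁻¹ * g₀) s₀ = s
            rw [act_mul, ← h1, hinv]
        right_inv := by
          rintro ⟨h, hh⟩
          apply Subtype.ext
          show (g₀ * h⁻¹)⁻¹ * g₀ = h
          group }
  have h1 : Nat.card (G × S) = Nat.card G * Nat.card S := Nat.card_prod _ _
  have h2 : Nat.card (Σ y : E, {p : G × S // f p = y}) = Nat.card E * Nat.card H := by
    rw [Nat.card_sigma]
    simp only [hfib]
    rw [Finset.sum_const, Finset.card_univ, smul_eq_mul, Nat.card_eq_fintype_card (α := E)]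
  rw [← h2, ← h1]
  exact Nat.card_congr (Equiv.sigmaFiberEquiv f)

end abstract


open Matrix Polynomial Module LinearMap



section blocks
variable {K : Type*} [Field K] {α β : Type*} [Fintype α] [Fintype β] [DecidableEq α] [DecidableEq β]

/-- block diagonal matrices with nilpotent first block and invertible second block. -/
def nilUnitSet (K : Type*) [Field K] (α β : Type*) [Fintype α] [Fintype β] [DecidableEq α] [DecidableEq β] :
    Set (Matrix (α ⊕ β) (α ⊕ β) K) :=
  {T | ∃ (N : Matrix α α K) (A : Matrix β β K), IsNilpotent N ∧ IsUnit A ∧ T = fromBlocks N 0 0 A}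

theorem charpoly_of_isNilpotent {N : Matrix α α K} (hN : IsNilpotent N) :
    N.charpoly = X ^ Fintype.card α := by
  have h := Matrix.isNilpotent_charpoly_sub_pow_of_isNilpotent hN
  have := h.eq_zero
  exact sub_eq_zero.1 this

theorem coeff_zero_charpoly_ne_zero {A : Matrix β β K} (hA : IsUnit A) : A.charpoly.coeff 0 ≠ 0 := by
  intro h
  have hdet : IsUnit A.det := (Matrix.isUnit_iff_isUnit_det A).1 hA
  rw [Matrix.det_eq_sign_charpoly_coeff, h, mul_zero] at hdet
  exact not_isUnit_zero hdet

theorem natTrailingDegree_of_mem {T : Matrix (α ⊕ β) (α ⊕ β) K} (hT : T ∈ nilUnitSet K α β) :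
    T.charpoly.natTrailingDegree = Fintype.card α := by
  obtain ⟨N, A, hN, hA, rfl⟩ := hT
  rw [Matrix.charpoly_fromBlocks_zero₁₂, charpoly_of_isNilpotent hN]
  rw [Polynomial.natTrailingDegree_mul (pow_ne_zero _ X_ne_zero) (Matrix.charpoly_monic A).ne_zero]
  rw [Polynomial.natTrailingDegree_X_pow]
  have : A.charpoly.natTrailingDegree = 0 := by
    apply Polynomial.natTrailingDegree_eq_zero_of_constantCoeff_ne_zero
    exact coeff_zero_charpoly_ne_zero hA
  rw [this, add_zero]

/-- the block-diagonal embedding of `GL α × GL β`. -/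
def blockHom (K : Type*) [Field K] (α β : Type*) [Fintype α] [Fintype β] [DecidableEq α] [DecidableEq β] :
    GL α K × GL β K →* GL (α ⊕ β) K where
  toFun p := ⟨fromBlocks p.1.val 0 0 p.2.val, fromBlocks (p.1⁻¹).val 0 0 (p.2⁻¹).val, by
    rw [fromBlocks_multiply]; simp [fromBlocks_one], by
    rw [fromBlocks_multiply]; simp [fromBlocks_one]⟩
  map_one' := by
    apply Units.ext
    simp [fromBlocks_one]
  map_mul' p q := by
    apply Units.ext
    simp [fromBlocks_multiply]

theorem blockHom_val (p : GL α K × GL β K) :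
    (blockHom K α β p).val = fromBlocks p.1.val 0 0 p.2.val := rfl

theorem blockHom_injective : Function.Injective (blockHom K α β) := by
  intro p q h
  have h' := congrArg Units.val h
  rw [blockHom_val, blockHom_val, fromBlocks_inj] at h'
  exact Prod.ext (Units.ext h'.1) (Units.ext h'.2.2.2)

theorem mem_range_blockHom (h : GL (α ⊕ β) K) (h12 : h.val.toBlocks₁₂ = 0) (h21 : h.val.toBlocks₂₁ = 0) :
    h ∈ (blockHom K α β).range := by
  have e : h.val = fromBlocks h.val.toBlocks₁₁ 0 0 h.val.toBlocks₂₂ := by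
    conv_lhs => rw [← fromBlocks_toBlocks h.val, h12, h21]
  have hdet : IsUnit h.val.det := (Matrix.isUnit_iff_isUnit_det _).1 h.isUnit
  rw [e, det_fromBlocks_zero₁₂, IsUnit.mul_iff] at hdet
  let a : GL α K := ((Matrix.isUnit_iff_isUnit_det _).2 hdet.1).unit
  let b : GL β K := ((Matrix.isUnit_iff_isUnit_det _).2 hdet.2).unit
  refine ⟨(a, b), ?_⟩
  apply Units.ext
  rw [blockHom_val, e]
  rfl

/-- key block computation: a matrix intertwining two elements of `nilUnitSet` is block diagonal. -/
theorem blocks_zero_of_intertwine {D D' : Matrix (α ⊕ β) (α ⊕ β) K} (hD : D ∈ nilUnitSet K α β)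
    (hD' : D' ∈ nilUnitSet K α β) (h : Matrix (α ⊕ β) (α ⊕ β) K) (hh : D * h = h * D') :
    h.toBlocks₁₂ = 0 ∧ h.toBlocks₂₁ = 0 := by
  obtain ⟨N, A, ⟨m, hN⟩, hA, rfl⟩ := hD
  obtain ⟨N', A', ⟨m', hN'⟩, hA', rfl⟩ := hD'
  have hpow : ∀ k : ℕ, (fromBlocks N 0 0 A) ^ k * h = h * (fromBlocks N' 0 0 A') ^ k := by
    intro k
    induction k with
    | zero => simp
    | succ k ih => rw [pow_succ, mul_assoc, hh, ← mul_assoc, ih, mul_assoc, ← pow_succ]
  have h1 := hpow (m + m')
  rw [fromBlocks_diagonal_pow, fromBlocks_diagonal_pow] at h1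
  have e1 : N ^ (m + m') = 0 := by rw [pow_add, hN, zero_mul]
  have e2 : N' ^ (m + m') = 0 := by rw [pow_add, hN', mul_zero]
  rw [e1, e2] at h1
  conv at h1 => rw [← fromBlocks_toBlocks h]
  rw [fromBlocks_multiply, fromBlocks_multiply, fromBlocks_inj] at h1
  obtain ⟨-, h12, h21, -⟩ := h1
  simp only [Matrix.zero_mul, Matrix.mul_zero, zero_add, add_zero] at h12 h21
  have hAk : IsUnit (A ^ (m + m')) := hA.pow _
  have hA'k : IsUnit (A' ^ (m + m')) := hA'.pow _
  have hdA : IsUnit (A ^ (m + m')).det := (Matrix.isUnit_iff_isUnit_det _).1 hAk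
  have hdA' : IsUnit (A' ^ (m + m')).det := (Matrix.isUnit_iff_isUnit_det _).1 hA'k
  constructor
  · have h3 : h.toBlocks₁₂ * (A' ^ (m + m') * (A' ^ (m + m'))⁻¹) = 0 := by
      rw [← Matrix.mul_assoc, ← h12, Matrix.zero_mul]
    rwa [Matrix.mul_nonsing_inv _ hdA', Matrix.mul_one] at h3
  · have h3 : ((A ^ (m + m'))⁻¹ * A ^ (m + m')) * h.toBlocks₂₁ = 0 := by
      rw [Matrix.mul_assoc, h21, Matrix.mul_zero]
    rwa [Matrix.nonsing_inv_mul _ hdA, Matrix.one_mul] at h3

theorem conj_mem_nilUnitSet_iff {s : Matrix (α ⊕ β) (α ⊕ β) K} (hs : s ∈ nilUnitSet K α β)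
    (g : GL (α ⊕ β) K) :
    g.val * s * (g⁻¹).val ∈ nilUnitSet K α β ↔ g ∈ (blockHom K α β).range := by
  constructor
  · intro h
    have hh : (g.val * s * (g⁻¹).val) * g.val = g.val * s := by
      rw [mul_assoc, ← Units.val_mul, inv_mul_cancel, Units.val_one, mul_one]
    obtain ⟨h12, h21⟩ := blocks_zero_of_intertwine h hs g.val hh
    exact mem_range_blockHom g h12 h21
  · rintro ⟨⟨a, b⟩, rfl⟩
    obtain ⟨N, A, ⟨m, hN⟩, hA, rfl⟩ := hs
    rw [← map_inv, blockHom_val, blockHom_val]
    refine ⟨a.val * N * (a⁻¹).val, b.val * A * (b⁻¹).val, ⟨m, ?_⟩, ?_, ?_⟩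
    · rw [Units.conj_pow, hN, mul_zero, zero_mul]
    · exact (b.isUnit.mul hA).mul (b⁻¹).isUnit
    · simp only [Prod.inv_mk, fromBlocks_multiply]
      simp

theorem card_range_blockHom [Finite K] :
    Nat.card (blockHom K α β).range = Nat.card (GL α K) * Nat.card (GL β K) := by
  rw [← Nat.card_prod]
  exact (Nat.card_congr (MonoidHom.ofInjective blockHom_injective).toEquiv).symm

theorem card_nilUnitSet [Finite K] :
    Nat.card (nilUnitSet K α β) =
      Nat.card {N : Matrix α α K // IsNilpotent N} * Nat.card (GL β K) := by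
  rw [← Nat.card_prod]
  symm
  apply Nat.card_congr
  refine Equiv.ofBijective (fun p => ⟨fromBlocks p.1.1 0 0 p.2.val, p.1.1, p.2.val, p.1.2, p.2.isUnit, rfl⟩) ⟨?_, ?_⟩
  · rintro ⟨⟨N, hN⟩, A⟩ ⟨⟨N', hN'⟩, A'⟩ h
    have h' := congrArg Subtype.val h
    simp only [fromBlocks_inj] at h'
    exact Prod.ext (Subtype.ext h'.1) (Units.ext h'.2.2.2)
  · rintro ⟨T, N, A, hN, hA, rfl⟩
    exact ⟨(⟨N, hN⟩, hA.unit), rfl⟩

end blocks




section fitting
variable {K : Type*} [Field K] {α β : Type*} [Fintype α] [Fintype β] [DecidableEq α] [DecidableEq β]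

theorem exists_fitting_basis (T : Matrix (α ⊕ β) (α ⊕ β) K)
    (hT : T.charpoly.natTrailingDegree = Fintype.card α) :
    ∃ (b : Basis (α ⊕ β) K (α ⊕ β → K)) (N : Matrix α α K) (A : Matrix β β K),
      IsNilpotent N ∧ IsUnit A ∧ LinearMap.toMatrix b b (Matrix.toLin' T) = fromBlocks N 0 0 A := by
  classical
  set φ : Module.End K (α ⊕ β → K) := Matrix.toLin' T with hφ
  set V := φ.maxGenEigenspace 0 with hVdef
  have hV : V = ⨆ (n : ℕ), ker (φ ^ n) := by
    simp [V, ← Module.End.iSup_genEigenspace_eq, Module.End.genEigenspace_nat]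
  set W := ⨅ (n : ℕ), LinearMap.range (φ ^ n) with hWdef
  have hVW : IsCompl V W := by
    rw [hV]
    exact LinearMap.isCompl_iSup_ker_pow_iInf_range_pow φ
  have hφV : ∀ x ∈ V, φ x ∈ V := by
    simp only [V, Module.End.mem_maxGenEigenspace, zero_smul, sub_zero,
      forall_exists_index]
    intro x n hx
    use n
    rw [← Module.End.mul_apply, ← pow_succ, pow_succ', Module.End.mul_apply, hx, map_zero]
  have hφW : ∀ x ∈ W, φ x ∈ W := by
    simp only [W, Submodule.mem_iInf, mem_range]
    intro x H n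
    obtain ⟨y, rfl⟩ := H n
    use φ y
    rw [← Module.End.mul_apply, ← pow_succ, pow_succ', Module.End.mul_apply]
  have hfV : finrank K V = Fintype.card α := by
    rw [hVdef, LinearMap.finrank_maxGenEigenspace_zero_eq, hφ, Matrix.charpoly_toLin', hT]
  have hfW : finrank K W = Fintype.card β := by
    have h1 := Submodule.finrank_add_eq_of_isCompl hVW
    rw [hfV, Module.finrank_pi, Fintype.card_sum] at h1
    omega
  let F := φ.restrict hφV
  let G := φ.restrict hφW
  let ψ := F.prodMap G
  let e := Submodule.prodEquivOfIsCompl V W hVW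
  let bV : Basis α K V := (finBasisOfFinrankEq K V hfV).reindex (Fintype.equivFin α).symm
  let bW : Basis β K W := (finBasisOfFinrankEq K W hfW).reindex (Fintype.equivFin β).symm
  let b := bV.prod bW
  have hψ : ψ = e.symm.conj φ := by
    apply b.ext
    simp only [Basis.prod_apply, coe_inl, coe_inr, prodMap_apply, LinearEquiv.conj_apply,
      LinearEquiv.symm_symm, Submodule.coe_prodEquivOfIsCompl, coe_comp, LinearEquiv.coe_coe,
      Function.comp_apply, coprod_apply, Submodule.coe_subtype, map_add, Sum.forall, Sum.elim_inl,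
      map_zero, ZeroMemClass.coe_zero, add_zero, LinearEquiv.eq_symm_apply, and_self,
      Submodule.coe_prodEquivOfIsCompl', coe_restrict_apply, implies_true, Sum.elim_inr, zero_add,
      e, V, W, ψ, F, G, b]
  have hFnil : IsNilpotent F := by
    apply ((charpoly_nilpotent_tfae F).out 2 0).mp
    simp only [Subtype.forall, Module.End.mem_maxGenEigenspace, zero_smul, sub_zero, V, F]
    rintro x ⟨n, hx⟩
    use n
    apply Subtype.ext
    rw [ZeroMemClass.coe_zero]
    refine .trans ?_ hx
    rw [Module.End.pow_restrict]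
    rfl
  have hGunit : IsUnit G := by
    rw [LinearMap.isUnit_iff_ker_eq_bot]
    rw [LinearMap.ker_eq_bot']
    intro x hx
    apply Subtype.ext
    suffices x.1 ∈ V ⊓ W by rwa [hVW.inf_eq_bot, Submodule.mem_bot] at this
    suffices x.1 ∈ V from ⟨this, x.2⟩
    simp only [Module.End.mem_maxGenEigenspace, zero_smul, sub_zero, V]
    use 1
    rw [pow_one]
    rwa [Subtype.ext_iff] at hx
  refine ⟨b.map e, LinearMap.toMatrix bV bV F, LinearMap.toMatrix bW bW G, ?_, ?_, ?_⟩
  · exact hFnil.map (LinearMap.toMatrixAlgEquiv bV)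
  · exact hGunit.map (LinearMap.toMatrixAlgEquiv bW)
  · rw [← LinearMap.toMatrix_prodMap bV bW F G]
    show _ = LinearMap.toMatrix b b ψ
    rw [hψ]
    ext i j
    simp [LinearMap.toMatrix_apply, LinearEquiv.conj_apply]

theorem exists_conj_of_natTrailingDegree (T : Matrix (α ⊕ β) (α ⊕ β) K)
    (hT : T.charpoly.natTrailingDegree = Fintype.card α) :
    ∃ (g : GL (α ⊕ β) K) (N : Matrix α α K) (A : Matrix β β K),
      IsNilpotent N ∧ IsUnit A ∧ g.val * fromBlocks N 0 0 A * (g⁻¹).val = T := by
  classical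
  obtain ⟨b, N, A, hN, hA, hb⟩ := exists_fitting_basis T hT
  set std := Pi.basisFun K (α ⊕ β) with hstd
  let g : GL (α ⊕ β) K := ⟨std.toMatrix b, b.toMatrix std, Basis.toMatrix_mul_toMatrix_flip _ _,
    Basis.toMatrix_mul_toMatrix_flip _ _⟩
  refine ⟨g, N, A, hN, hA, ?_⟩
  show std.toMatrix b * fromBlocks N 0 0 A * b.toMatrix std = T
  rw [← hb, basis_toMatrix_mul_linearMap_toMatrix_mul_basis_toMatrix, hstd,
    LinearMap.toMatrix_eq_toMatrix', LinearMap.toMatrix'_toLin']

end fitting


end Cfsg.Agent.Lib.Helper5.NilCount
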