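import Mathlib
import Cfsg.Agent.Lib.Helper5.SemisimpleConj

set_option autoImplicit false

namespace Cfsg.Agent.Lib.Helper5

open Polynomial Module

universe u v w

section linalg
variable {F : Type u} [Field F] {V : Type v} [AddCommGroup V] [Module F V] [FiniteDimensional F V]

theorem jt_finrank_ker_comp_le (f g : V →ₗ[F] V) :
    finrank F (LinearMap.ker (g ∘ₗ f)) ≤ finrank F (LinearMap.ker f) + finrank F (LinearMap.ker g) := by
  let h : LinearMap.ker (g ∘ₗ f) →ₗ[F] LinearMap.ker g :=
    LinearMap.codRestrict (LinearMap.ker g) (f ∘ₗ (LinearMap.ker (g ∘ₗ f)).subtype)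
      (fun v => by
        have := v.2
        rw [LinearMap.mem_ker] at this ⊢
        exact this)
  have h1 := LinearMap.finrank_range_add_finrank_ker h
  have h2 : finrank F (LinearMap.range h) ≤ finrank F (LinearMap.ker g) := Submodule.finrank_le _
  have h3 : finrank F (LinearMap.ker h) ≤ finrank F (LinearMap.ker f) := by
    let j : LinearMap.ker h →ₗ[F] LinearMap.ker f :=
      LinearMap.codRestrict (LinearMap.ker f)
        ((LinearMap.ker (g ∘ₗ f)).subtype ∘ₗ (LinearMap.ker h).subtype)
        (fun v => by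
          have := v.2
          rw [LinearMap.mem_ker] at this ⊢
          exact congrArg Subtype.val this)
    apply LinearMap.finrank_le_finrank_of_injective (f := j)
    intro a b hab
    have : (a : LinearMap.ker (g ∘ₗ f)).1 = (b : LinearMap.ker (g ∘ₗ f)).1 :=
      congrArg (fun z : LinearMap.ker f => (z : V)) hab
    exact Subtype.ext (Subtype.ext this)
  omega

theorem jt_finrank_ker_pow_le (f : V →ₗ[F] V) (hf : finrank F (LinearMap.ker f) ≤ 1) (k : ℕ) :
    finrank F (LinearMap.ker (f ^ k)) ≤ k := by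
  induction k with
  | zero =>
    rw [pow_zero]
    have : LinearMap.ker (1 : V →ₗ[F] V) = ⊥ := LinearMap.ker_id
    rw [this, finrank_bot]
  | succ k ih =>
    rw [pow_succ]
    have := jt_finrank_ker_comp_le f (f ^ k)
    have h2 : f ^ k * f = (f ^ k) ∘ₗ f := rfl
    rw [h2]
    omega

/-- Kernel dimensions of the powers of a cyclic nilpotent endomorphism. -/
theorem finrank_ker_pow_of_cyclic (N : V →ₗ[F] V) (e : ℕ) (hV : finrank F V = e) (hN : N ^ e = 0)
    (hk1 : finrank F (LinearMap.ker N) ≤ 1) (k : ℕ) :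
    finrank F (LinearMap.ker (N ^ k)) = min e k := by
  rcases Nat.lt_or_ge k e with hke | hke
  · have h1 := jt_finrank_ker_pow_le N hk1 k
    have h2 := jt_finrank_ker_pow_le N hk1 (e - k)
    have h3 := jt_finrank_ker_comp_le (N ^ k) (N ^ (e - k))
    have h4 : (N ^ (e - k)) ∘ₗ (N ^ k) = N ^ e := by
      rw [← Module.End.mul_eq_comp, ← pow_add]
      congr 1
      omega
    rw [h4, hN, LinearMap.ker_zero, finrank_top, hV] at h3
    rw [min_eq_right hke.le]
    omega
  · have h0 : N ^ k = 0 := by
      obtain ⟨j, rfl⟩ := Nat.exists_eq_add_of_le hke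
      rw [pow_add, hN, zero_mul]
    rw [h0, LinearMap.ker_zero, finrank_top, hV, min_eq_left hke]

end linalg

section block
variable {F : Type u} [Field F]

/-- The nilpotent Jordan block of size `e`, as a quotient of the polynomial ring. -/
abbrev JB (F : Type u) [Field F] (e : ℕ) : Type u := F[X] ⧸ F[X] ∙ (X : F[X]) ^ e

instance JB_finite (e : ℕ) : Module.Finite F (JB F e) :=
  (AdjoinRoot.powerBasis (pow_ne_zero e (X_ne_zero : (X : F[X]) ≠ 0))).finite

theorem finrank_JB (e : ℕ) : finrank F (JB F e) = e := by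
  have h := finrank_quotient_span_eq_natDegree (K := F) (f := (X : F[X]) ^ e)
  rw [natDegree_X_pow] at h
  exact h

/-- Multiplication by `X` on the block. -/
noncomputable def JBmul (F : Type u) [Field F] (e : ℕ) : JB F e →ₗ[F] JB F e :=
  LinearMap.mulLeft F (Ideal.Quotient.mk (F[X] ∙ (X : F[X]) ^ e) X)

theorem JBmul_pow_self (e : ℕ) : JBmul F e ^ e = 0 := by
  unfold JBmul
  rw [LinearMap.pow_mulLeft, ← map_pow]
  have : Ideal.Quotient.mk (F[X] ∙ (X : F[X]) ^ e) (X ^ e) = 0 :=
    Ideal.Quotient.eq_zero_iff_mem.2 (Ideal.mem_span_singleton_self _)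
  rw [this]
  exact LinearMap.mulLeft_zero_eq_zero _ _

theorem finrank_ker_JBmul_le (e : ℕ) : finrank F (LinearMap.ker (JBmul F e)) ≤ 1 := by
  rcases Nat.eq_zero_or_pos e with he | he
  · have h1 : finrank F (JB F e) = 0 := by rw [finrank_JB, he]
    have h2 := Submodule.finrank_le (LinearMap.ker (JBmul F e))
    omega
  · obtain ⟨e', rfl⟩ := Nat.exists_eq_add_one_of_ne_zero he.ne'
    set I : Ideal F[X] := F[X] ∙ (X : F[X]) ^ (e' + 1) with hI
    have hsub : LinearMap.ker (JBmul F (e' + 1)) ≤
        Submodule.span F {Ideal.Quotient.mk I (X ^ e')} := by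
      intro v hv
      obtain ⟨q, rfl⟩ := Ideal.Quotient.mk_surjective v
      rw [LinearMap.mem_ker] at hv
      have h1 : Ideal.Quotient.mk I (X * q) = 0 := by
        rw [map_mul]; exact hv
      have h2 : (X : F[X]) ^ (e' + 1) ∣ X * q :=
        Ideal.mem_span_singleton.1 (Ideal.Quotient.eq_zero_iff_mem.1 h1)
      rw [pow_succ', mul_dvd_mul_iff_left (X_ne_zero)] at h2
      obtain ⟨r, rfl⟩ := h2
      rw [Submodule.mem_span_singleton]
      refine ⟨r.coeff 0, ?_⟩
      have h3 : r = divX r * X + C (r.coeff 0) := (divX_mul_X_add r).symm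
      have h4 : Ideal.Quotient.mk I (X ^ e' * (divX r * X)) = 0 := by
        apply Ideal.Quotient.eq_zero_iff_mem.2
        apply Ideal.mem_span_singleton.2
        refine ⟨divX r, ?_⟩
        ring
      conv_rhs => rw [h3, mul_add, map_add, h4, zero_add]
      rw [mul_comm, ← smul_eq_C_mul]
      rfl
    have h5 := Submodule.finrank_mono hsub
    have h6 : finrank F (Submodule.span F {Ideal.Quotient.mk I ((X : F[X]) ^ e')}) ≤ 1 := by
      have := finrank_span_le_card (R := F) ({Ideal.Quotient.mk I ((X : F[X]) ^ e')} : Set (JB F (e'+1)))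
      simpa using this
    exact h5.trans h6

theorem finrank_ker_JBmul_pow (e k : ℕ) : finrank F (LinearMap.ker (JBmul F e ^ k)) = min e k :=
  finrank_ker_pow_of_cyclic (JBmul F e) e (finrank_JB e) (JBmul_pow_self e) (finrank_ker_JBmul_le e) k

end block

end Cfsg.Agent.Lib.Helper5
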