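import Mathlib
import Cfsg.Agent.Lib.Helper5.SemisimpleConj
import Cfsg.Agent.Lib.Helper5.JordanBlock

set_option autoImplicit false

namespace Cfsg.Agent.Lib.Helper5

open Polynomial Module

universe u v w x

section multiset

theorem sum_min_succ (s : Multiset ℕ) (k : ℕ) :
    (s.map (fun a => min a (k + 1))).sum = (s.map (fun a => min a k)).sum +
      s.countP (fun a => k < a) := by
  induction s using Multiset.induction_on with
  | empty => simp
  | cons a s ih =>
    rw [Multiset.map_cons, Multiset.sum_cons, Multiset.map_cons, Multiset.sum_cons, ih,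
      Multiset.countP_cons]
    by_cases h : k < a
    · rw [if_pos h]; omega
    · rw [if_neg h]; omega

theorem countP_pred_lt (s : Multiset ℕ) (a : ℕ) (ha : 1 ≤ a) :
    s.countP (fun b => a - 1 < b) = s.count a + s.countP (fun b => a < b) := by
  induction s using Multiset.induction_on with
  | empty => simp
  | cons b s ih =>
    rw [Multiset.countP_cons, Multiset.countP_cons, Multiset.count_cons, ih]
    by_cases h1 : a = b
    · subst h1
      rw [if_pos (by omega), if_pos rfl, if_neg (lt_irrefl _)]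
      omega
    · rw [if_neg h1]
      by_cases h2 : a < b
      · rw [if_pos h2, if_pos (by omega)]; omega
      · rw [if_neg h2, if_neg (by omega)]; omega

/-- A multiset of positive integers is determined by its truncated sums. -/
theorem multiset_eq_of_sum_min_eq (s t : Multiset ℕ) (hs : ∀ a ∈ s, 0 < a) (ht : ∀ a ∈ t, 0 < a)
    (h : ∀ k, (s.map (fun a => min a k)).sum = (t.map (fun a => min a k)).sum) : s = t := by
  have hc : ∀ k, s.countP (fun a => k < a) = t.countP (fun a => k < a) := by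
    intro k
    have h1 := sum_min_succ s k
    have h2 := sum_min_succ t k
    have h3 := h k
    have h4 := h (k + 1)
    omega
  apply Multiset.ext.2
  intro a
  rcases Nat.eq_zero_or_pos a with ha | ha
  · subst ha
    rw [Multiset.count_eq_zero_of_notMem (fun h0 => lt_irrefl _ (hs 0 h0)),
      Multiset.count_eq_zero_of_notMem (fun h0 => lt_irrefl _ (ht 0 h0))]
  · have h1 := countP_pred_lt s a ha
    have h2 := countP_pred_lt t a ha
    have h3 := hc (a - 1)
    have h4 := hc a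
    omega

/-- Truncation at `k` does not change the sum exactly when all members are at most `k`. -/
theorem sum_min_eq_sum_iff (s : Multiset ℕ) (k : ℕ) :
    (s.map (fun a => min a k)).sum = s.sum ↔ ∀ a ∈ s, a ≤ k := by
  induction s using Multiset.induction_on with
  | empty => simp
  | cons a s ih =>
    have hle : (s.map (fun a => min a k)).sum ≤ s.sum := by
      apply Multiset.sum_map_le_sum
      intro b _
      exact min_le_left _ _
    rw [Multiset.map_cons, Multiset.sum_cons, Multiset.sum_cons]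
    constructor
    · intro h b hb
      have h1 : min a k ≤ a := min_le_left _ _
      rcases Multiset.mem_cons.1 hb with rfl | hb
      · have : min b k = b := by omega
        exact this ▸ min_le_right _ _
      · exact ih.1 (by omega) b hb
    · intro h
      rw [ih.2 (fun b hb => h b (Multiset.mem_cons_of_mem hb)),
        min_eq_left (h a (Multiset.mem_cons_self a s))]

end multiset

section intertwine
variable {F : Type u} [Field F] {V : Type v} [AddCommGroup V] [Module F V]
  {W : Type w} [AddCommGroup W] [Module F W]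

theorem intertwine_pow (Ψ : V ≃ₗ[F] W) (N : V →ₗ[F] V) (P : W →ₗ[F] W)
    (h : ∀ u, Ψ (N u) = P (Ψ u)) (k : ℕ) (u : V) : Ψ ((N ^ k) u) = (P ^ k) (Ψ u) := by
  induction k generalizing u with
  | zero => simp
  | succ k ih =>
    rw [pow_succ, pow_succ, Module.End.mul_apply, Module.End.mul_apply, ih, h]

theorem finrank_ker_pow_eq_of_intertwine (Ψ : V ≃ₗ[F] W) (N : V →ₗ[F] V) (P : W →ₗ[F] W)
    (h : ∀ u, Ψ (N u) = P (Ψ u)) (k : ℕ) :
    finrank F (LinearMap.ker (N ^ k)) = finrank F (LinearMap.ker (P ^ k)) := by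
  have hk := intertwine_pow Ψ N P h k
  have hmap : Submodule.map (Ψ : V →ₗ[F] W) (LinearMap.ker (N ^ k)) = LinearMap.ker (P ^ k) := by
    ext w
    constructor
    · rintro ⟨u, hu, rfl⟩
      rw [SetLike.mem_coe, LinearMap.mem_ker] at hu
      rw [LinearMap.mem_ker]
      show (P ^ k) (Ψ u) = 0
      rw [← hk, hu, map_zero]
    · intro hw
      rw [LinearMap.mem_ker] at hw
      refine ⟨Ψ.symm w, ?_, ?_⟩
      · rw [SetLike.mem_coe, LinearMap.mem_ker]
        apply Ψ.injective
        rw [hk, LinearEquiv.apply_symm_apply, hw, map_zero]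
      · exact Ψ.apply_symm_apply w
  rw [← hmap]
  exact (LinearEquiv.finrank_map_eq Ψ _).symm

end intertwine

section pimap
variable {F : Type u} [Field F]

theorem piMap_pow_apply {ι : Type v} {Q : ι → Type w}
    [∀ j, AddCommGroup (Q j)] [∀ j, Module F (Q j)] (f : ∀ i, Q i →ₗ[F] Q i) (k : ℕ)
    (y : ∀ j, Q j) (i : ι) : ((piMap f) ^ k) y i = ((f i) ^ k) (y i) := by
  induction k generalizing y with
  | zero => simp
  | succ k ih =>
    rw [pow_succ, pow_succ, Module.End.mul_apply, Module.End.mul_apply, ih, piMap_apply]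

/-- The kernel of a componentwise map is the product of the kernels. -/
def kerPiEquiv {ι : Type v} {Q : ι → Type w}
    [∀ j, AddCommGroup (Q j)] [∀ j, Module F (Q j)] (f : ∀ i, Q i →ₗ[F] Q i) :
    LinearMap.ker (piMap f) ≃ₗ[F] (∀ i, LinearMap.ker (f i)) where
  toFun y i := ⟨y.1 i, by
    have := y.2
    rw [LinearMap.mem_ker] at this ⊢
    have h2 := congrFun this i
    rwa [piMap_apply] at h2⟩
  invFun z := ⟨fun i => (z i).1, by
    rw [LinearMap.mem_ker]
    funext i
    rw [piMap_apply]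
    exact (z i).2⟩
  map_add' _ _ := rfl
  map_smul' _ _ := rfl
  left_inv _ := rfl
  right_inv _ := rfl

theorem finrank_ker_piMap {ι : Type v} [Fintype ι] {Q : ι → Type w}
    [∀ j, AddCommGroup (Q j)] [∀ j, Module F (Q j)] [∀ j, Module.Finite F (Q j)]
    (f : ∀ i, Q i →ₗ[F] Q i) :
    finrank F (LinearMap.ker (piMap f)) = ∑ i, finrank F (LinearMap.ker (f i)) := by
  rw [(kerPiEquiv f).finrank_eq, Module.finrank_pi_fintype]

theorem finrank_ker_piMap_pow {ι : Type v} [Fintype ι] {Q : ι → Type w}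
    [∀ j, AddCommGroup (Q j)] [∀ j, Module F (Q j)] [∀ j, Module.Finite F (Q j)]
    (f : ∀ i, Q i →ₗ[F] Q i) (k : ℕ) :
    finrank F (LinearMap.ker ((piMap f) ^ k)) = ∑ i, finrank F (LinearMap.ker ((f i) ^ k)) := by
  have : (piMap f) ^ k = piMap (fun i => (f i) ^ k) := by
    apply LinearMap.ext
    intro y
    funext i
    rw [piMap_pow_apply, piMap_apply]
  rw [this, finrank_ker_piMap]

end pimap

section decomp
variable {F : Type u} [Field F] {V : Type v} [AddCommGroup V] [Module F V]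
  {W : Type w} [AddCommGroup W] [Module F W]

/-- `N` decomposes into nilpotent Jordan blocks of sizes `e i`. -/
def IsJordanDecomp (N : V →ₗ[F] V) {ι : Type x} (e : ι → ℕ) : Prop :=
  ∃ Ψ : V ≃ₗ[F] (∀ i, JB F (e i)),
    ∀ u i, Ψ (N u) i = Ideal.Quotient.mk (F[X] ∙ (X : F[X]) ^ e i) X * Ψ u i

theorem IsJordanDecomp.sum_eq {N : V →ₗ[F] V} {ι : Type x} [Fintype ι] {e : ι → ℕ}
    (h : IsJordanDecomp N e) : ∑ i, e i = finrank F V := by
  obtain ⟨Ψ, -⟩ := h
  rw [Ψ.finrank_eq, Module.finrank_pi_fintype]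
  apply Finset.sum_congr rfl
  intro i _
  exact (finrank_JB (e i)).symm

theorem IsJordanDecomp.finrank_ker_pow {N : V →ₗ[F] V} {ι : Type x} [Fintype ι] {e : ι → ℕ}
    (h : IsJordanDecomp N e) (k : ℕ) :
    finrank F (LinearMap.ker (N ^ k)) = ∑ i, min (e i) k := by
  obtain ⟨Ψ, hΨ⟩ := h
  rw [finrank_ker_pow_eq_of_intertwine Ψ N (piMap (fun i => JBmul F (e i)))
    (fun u => funext (fun i => hΨ u i)) k, finrank_ker_piMap_pow]
  apply Finset.sum_congr rfl
  intro i _
  exact finrank_ker_JBmul_pow (e i) k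

theorem IsJordanDecomp.finrank_ker_pow' {N : V →ₗ[F] V} {ι : Type x} [Fintype ι] {e : ι → ℕ}
    (h : IsJordanDecomp N e) (k : ℕ) :
    finrank F (LinearMap.ker (N ^ k)) =
      (((Finset.univ : Finset ι).val.map e).map (fun a => min a k)).sum := by
  rw [h.finrank_ker_pow k, Multiset.map_map]
  rfl

theorem exists_jordanDecomp [FiniteDimensional F V] (N : V →ₗ[F] V) (m : ℕ) (hN : N ^ m = 0) :
    ∃ (ι : Type u) (_ : Fintype ι) (e : ι → ℕ), (∀ i, 0 < e i) ∧ IsJordanDecomp N e := by
  classical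
  obtain ⟨ι, _, p, hp, e, Ψ, hΨ⟩ := exists_primary_decomp N
  have hdvd : ∀ i, p i ^ e i ∣ X ^ m := by
    intro i
    have h1 := hΨ (X ^ m) (Ψ.symm (Pi.single i 1)) i
    rw [map_pow, aeval_X, hN, LinearMap.zero_apply, map_zero, Pi.zero_apply,
      LinearEquiv.apply_symm_apply, Pi.single_eq_same, mul_one] at h1
    exact Ideal.mem_span_singleton.1 (Ideal.Quotient.eq_zero_iff_mem.1 h1.symm)
  have hass : ∀ i, Associated (p i ^ e i) ((X : F[X]) ^ e i) := by
    intro i
    rcases Nat.eq_zero_or_pos (e i) with h0 | hpos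
    · rw [h0, pow_zero, pow_zero]
    · have h1 : p i ∣ X ^ m := dvd_trans (dvd_pow_self _ hpos.ne') (hdvd i)
      have h2 : p i ∣ X := (hp i).prime.dvd_of_dvd_pow h1
      exact ((hp i).associated_of_dvd irreducible_X h2).pow_pow
  have hI : ∀ i, (F[X] ∙ p i ^ e i) = (F[X] ∙ (X : F[X]) ^ e i) := fun i =>
    Ideal.span_singleton_eq_span_singleton.2 (hass i)
  let E₁ : (∀ i, F[X] ⧸ F[X] ∙ p i ^ e i) ≃ₗ[F[X]] (∀ i, JB F (e i)) :=
    LinearEquiv.piCongrRight (fun i => Submodule.quotEquivOfEq _ _ (hI i))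
  have hsub : ∀ i, ¬ (e i ≠ 0) → Subsingleton (JB F (e i)) := by
    intro i hk
    push Not at hk
    rw [hk]
    apply Ideal.Quotient.subsingleton_iff.2
    rw [pow_zero]
    exact Ideal.span_singleton_one
  let E₂ : (∀ i, JB F (e i)) ≃ₗ[F[X]] (∀ i : {i // e i ≠ 0}, JB F (e i.1)) :=
    piDrop (fun i => JB F (e i)) (fun i => e i ≠ 0) hsub
  refine ⟨{i // e i ≠ 0}, inferInstance, fun i => e i.1, fun i => Nat.pos_of_ne_zero i.2,
    Ψ ≪≫ₗ (E₁ ≪≫ₗ E₂).restrictScalars F, ?_⟩
  intro u i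
  have h1 : Ψ (N u) = (X : F[X]) • Ψ u := by
    funext i
    rw [primary_decomp_X N Ψ hΨ]
    rfl
  simp only [LinearEquiv.trans_apply, LinearEquiv.restrictScalars_apply]
  rw [h1, map_smul, map_smul]
  rfl

/-- Two nilpotent endomorphisms with the same (positive) block sizes are conjugate. -/
theorem IsJordanDecomp.exists_equiv {N : V →ₗ[F] V} {M : W →ₗ[F] W}
    {ι : Type x} {κ : Type x} [Fintype ι] [Fintype κ] {e : ι → ℕ} {f : κ → ℕ}
    (hN : IsJordanDecomp N e) (hM : IsJordanDecomp M f)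
    (h : (Finset.univ : Finset ι).val.map e = (Finset.univ : Finset κ).val.map f) :
    ∃ E : V ≃ₗ[F] W, ∀ v, E (N v) = M (E v) := by
  classical
  obtain ⟨Ψ, hΨ⟩ := hN
  obtain ⟨Ω, hΩ⟩ := hM
  obtain ⟨σ, hσ⟩ := exists_equiv_of_map_eq e f h
  have hI : ∀ i, (F[X] ∙ (X : F[X]) ^ e i) = (F[X] ∙ (X : F[X]) ^ f (σ i)) := by
    intro i
    rw [hσ i]
  let E₂ : (∀ i, JB F (e i)) ≃ₗ[F[X]] (∀ i, JB F (f (σ i))) :=
    LinearEquiv.piCongrRight (fun i => Submodule.quotEquivOfEq _ _ (hI i))
  let E₃ : (∀ i, JB F (f (σ i))) ≃ₗ[F[X]] (∀ j, JB F (f j)) :=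
    LinearEquiv.piCongrLeft F[X] (fun j => JB F (f j)) σ
  let E : (∀ i, JB F (e i)) ≃ₗ[F[X]] (∀ j, JB F (f j)) := E₂ ≪≫ₗ E₃
  refine ⟨Ψ ≪≫ₗ E.restrictScalars F ≪≫ₗ Ω.symm, ?_⟩
  intro v
  have h1 : Ψ (N v) = (X : F[X]) • Ψ v := by
    funext i
    rw [hΨ]
    rfl
  have h2 : ∀ w, Ω (M w) = (X : F[X]) • Ω w := by
    intro w
    funext j
    rw [hΩ]
    rfl
  apply Ω.injective
  rw [h2]
  simp only [LinearEquiv.trans_apply, LinearEquiv.apply_symm_apply, LinearEquiv.restrictScalars_apply]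
  rw [h1, map_smul]

/-- Nilpotent endomorphisms with the same kernel dimensions of all powers are conjugate. -/
theorem exists_equiv_of_finrank_ker_pow_eq [FiniteDimensional F V] [FiniteDimensional F W]
    (N : V →ₗ[F] V) (M : W →ₗ[F] W) (m m' : ℕ) (hN : N ^ m = 0) (hM : M ^ m' = 0)
    (h : ∀ k, finrank F (LinearMap.ker (N ^ k)) = finrank F (LinearMap.ker (M ^ k))) :
    ∃ E : V ≃ₗ[F] W, ∀ v, E (N v) = M (E v) := by
  obtain ⟨ι, _, e, he, hd⟩ := exists_jordanDecomp N m hN
  obtain ⟨κ, _, f, hf, hd'⟩ := exists_jordanDecomp M m' hM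
  apply hd.exists_equiv hd'
  apply multiset_eq_of_sum_min_eq
  · intro a ha
    obtain ⟨i, _, rfl⟩ := Multiset.mem_map.1 ha
    exact he i
  · intro a ha
    obtain ⟨j, _, rfl⟩ := Multiset.mem_map.1 ha
    exact hf j
  · intro k
    rw [← hd.finrank_ker_pow', ← hd'.finrank_ker_pow', h k]

/-- Existence of a nilpotent endomorphism with prescribed block sizes. -/
theorem exists_isJordanDecomp {ι : Type x} [Fintype ι] (e : ι → ℕ) (n : ℕ) (hn : ∑ i, e i = n) :
    ∃ N : (Fin n → F) →ₗ[F] (Fin n → F), IsJordanDecomp N e := by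
  have hfr : finrank F (Fin n → F) = finrank F (∀ i, JB F (e i)) := by
    rw [Module.finrank_fin_fun, Module.finrank_pi_fintype, ← hn]
    apply Finset.sum_congr rfl
    intro i _
    exact (finrank_JB (e i)).symm
  let Ψ : (Fin n → F) ≃ₗ[F] (∀ i, JB F (e i)) := LinearEquiv.ofFinrankEq _ _ hfr
  refine ⟨Ψ.symm.toLinearMap ∘ₗ piMap (fun i => JBmul F (e i)) ∘ₗ Ψ.toLinearMap, Ψ, ?_⟩
  intro u i
  simp only [LinearMap.comp_apply, LinearEquiv.coe_coe, LinearEquiv.apply_symm_apply]
  rfl

end decomp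

end Cfsg.Agent.Lib.Helper5
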