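import Mathlib
import Cfsg.Agent.Lib.Helper5.JordanType

set_option autoImplicit false

namespace Cfsg.Agent.Lib.Helper5

open Polynomial Module

universe u

section gl
variable {F : Type u} [Field F] {n : ℕ}

/-- Kernel dimension of the `k`-th power of a matrix. -/
noncomputable def kdM (M : Matrix (Fin n) (Fin n) F) (k : ℕ) : ℕ :=
  finrank F (LinearMap.ker ((Matrix.toLin' M) ^ k))

theorem kdM_eq_iff (M : Matrix (Fin n) (Fin n) F) (k : ℕ) : kdM M k = n ↔ M ^ k = 0 := by
  unfold kdM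
  constructor
  · intro h
    have h1 : LinearMap.ker ((Matrix.toLin' M) ^ k) = ⊤ := by
      apply Submodule.eq_top_of_finrank_eq
      rw [h, Module.finrank_fin_fun]
    rw [LinearMap.ker_eq_top, ← Matrix.toLin'_pow] at h1
    have h2 : Matrix.toLin' (M ^ k) = Matrix.toLin' (0 : Matrix (Fin n) (Fin n) F) := by
      rw [h1, map_zero]
    exact Matrix.toLin'.injective h2
  · intro h
    rw [← Matrix.toLin'_pow, h, map_zero, LinearMap.ker_zero, finrank_top, Module.finrank_fin_fun]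

/-- The partition `μ` is the Jordan type of the nilpotent matrix `M`. -/
def HasJType (M : Matrix (Fin n) (Fin n) F) (μ : Nat.Partition n) : Prop :=
  ∀ k, kdM M k = (μ.parts.map (fun a => min a k)).sum

theorem HasJType.unique {M : Matrix (Fin n) (Fin n) F} {μ ν : Nat.Partition n}
    (h1 : HasJType M μ) (h2 : HasJType M ν) : μ = ν := by
  apply Nat.Partition.ext
  apply multiset_eq_of_sum_min_eq
  · intro a ha; exact μ.parts_pos ha
  · intro a ha; exact ν.parts_pos ha
  · intro k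
    rw [← h1 k, ← h2 k]

theorem HasJType.pow_eq_zero_iff {M : Matrix (Fin n) (Fin n) F} {μ : Nat.Partition n}
    (h : HasJType M μ) (k : ℕ) : M ^ k = 0 ↔ ∀ a ∈ μ.parts, a ≤ k := by
  rw [← kdM_eq_iff, h k, ← sum_min_eq_sum_iff, μ.parts_sum]

theorem exists_hasJType (M : Matrix (Fin n) (Fin n) F) (m : ℕ) (hM : M ^ m = 0) :
    ∃ μ : Nat.Partition n, HasJType M μ := by
  have hN : (Matrix.toLin' M) ^ m = 0 := by
    rw [← Matrix.toLin'_pow, hM, map_zero]
  obtain ⟨ι, _, e, he, hd⟩ := exists_jordanDecomp (Matrix.toLin' M) m hN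
  refine ⟨⟨(Finset.univ : Finset ι).val.map e, ?_, ?_⟩, ?_⟩
  · intro a ha
    obtain ⟨i, _, rfl⟩ := Multiset.mem_map.1 ha
    exact he i
  · have := hd.sum_eq
    rw [Module.finrank_fin_fun] at this
    exact this
  · intro k
    exact hd.finrank_ker_pow' k

theorem exists_matrix_of_partition (μ : Nat.Partition n) :
    ∃ M : Matrix (Fin n) (Fin n) F, M ^ n = 0 ∧ HasJType M μ := by
  obtain ⟨l, hl⟩ := Quot.exists_rep μ.parts
  have hl' : (l : Multiset ℕ) = μ.parts := hl
  have hmap : (Finset.univ : Finset (Fin l.length)).val.map (fun i => l.get i) = μ.parts := by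
    rw [Fin.univ_val_map, List.ofFn_get, hl']
  have hsum : ∑ i : Fin l.length, l.get i = n := by
    have : ∑ i : Fin l.length, l.get i =
        ((Finset.univ : Finset (Fin l.length)).val.map (fun i => l.get i)).sum := rfl
    rw [this, hmap, μ.parts_sum]
  obtain ⟨N, hN⟩ := exists_isJordanDecomp (F := F) (fun i : Fin l.length => l.get i) n hsum
  have hT : HasJType (LinearMap.toMatrix' N) μ := by
    intro k
    unfold kdM
    rw [Matrix.toLin'_toMatrix', hN.finrank_ker_pow' k, hmap]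
  refine ⟨LinearMap.toMatrix' N, ?_, hT⟩
  rw [hT.pow_eq_zero_iff]
  intro a ha
  exact Nat.Partition.le_of_mem_parts ha

theorem kdM_conj (M M' P : Matrix (Fin n) (Fin n) F) (hP : IsUnit P.det) (h : P * M = M' * P)
    (k : ℕ) : kdM M k = kdM M' k := by
  obtain ⟨Q, hPQ, hQP⟩ : ∃ Q : Matrix (Fin n) (Fin n) F, P * Q = 1 ∧ Q * P = 1 := by
    have := (Matrix.isUnit_iff_isUnit_det P).2 hP
    obtain ⟨u, rfl⟩ := this
    exact ⟨(u⁻¹ : (Matrix (Fin n) (Fin n) F)ˣ).val, u.mul_inv, u.inv_mul⟩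
  unfold kdM
  apply finrank_ker_pow_eq_of_intertwine (Matrix.toLin'OfInv hQP hPQ)
  intro u
  show Matrix.toLin' P (Matrix.toLin' M u) = Matrix.toLin' M' (Matrix.toLin' P u)
  rw [← Matrix.toLin'_mul_apply, ← Matrix.toLin'_mul_apply, h]

theorem exists_conj_of_kdM_eq (M M' : Matrix (Fin n) (Fin n) F) (m m' : ℕ) (hM : M ^ m = 0)
    (hM' : M' ^ m' = 0) (h : ∀ k, kdM M k = kdM M' k) :
    ∃ P : Matrix (Fin n) (Fin n) F, IsUnit P.det ∧ P * M = M' * P := by
  have hN : (Matrix.toLin' M) ^ m = 0 := by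
    rw [← Matrix.toLin'_pow, hM, map_zero]
  have hN' : (Matrix.toLin' M') ^ m' = 0 := by
    rw [← Matrix.toLin'_pow, hM', map_zero]
  obtain ⟨E, hE⟩ := exists_equiv_of_finrank_ker_pow_eq (Matrix.toLin' M) (Matrix.toLin' M') m m'
    hN hN' h
  refine ⟨LinearMap.toMatrix' E.toLinearMap, ?_, ?_⟩
  · have h1 : LinearMap.toMatrix' E.toLinearMap * LinearMap.toMatrix' E.symm.toLinearMap = 1 := by
      rw [← LinearMap.toMatrix'_comp]
      have : E.toLinearMap ∘ₗ E.symm.toLinearMap = LinearMap.id := by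
        ext v; simp
      rw [this, LinearMap.toMatrix'_id]
    exact IsUnit.of_mul_eq_one _ (by rw [← Matrix.det_mul, h1, Matrix.det_one])
  · have h2 : E.toLinearMap ∘ₗ Matrix.toLin' M = Matrix.toLin' M' ∘ₗ E.toLinearMap := by
      apply LinearMap.ext
      intro v
      exact hE v
    have h3 := congrArg LinearMap.toMatrix' h2
    rwa [LinearMap.toMatrix'_comp, LinearMap.toMatrix'_comp, LinearMap.toMatrix'_toLin',
      LinearMap.toMatrix'_toLin'] at h3

/-- Conjugate elements of `GL` have the same kernel dimensions for `g - 1`. -/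
theorem kdM_eq_of_isConj {g h : Matrix.GeneralLinearGroup (Fin n) F} (hc : IsConj g h) (k : ℕ) :
    kdM (g.val - 1) k = kdM (h.val - 1) k := by
  obtain ⟨c, hc⟩ := isConj_iff.1 hc
  apply kdM_conj _ _ c.val
  · exact (Matrix.isUnit_iff_isUnit_det _).1 c.isUnit
  · have h1 : c * g = h * c := by rw [← hc]; group
    have h2 : c.val * g.val = h.val * c.val := by
      rw [← Units.val_mul, ← Units.val_mul, h1]
    rw [mul_sub, sub_mul, h2, mul_one, one_mul]

theorem isConj_of_kdM_eq (g h : Matrix.GeneralLinearGroup (Fin n) F) (m m' : ℕ)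
    (hg : (g.val - 1) ^ m = 0) (hh : (h.val - 1) ^ m' = 0)
    (hk : ∀ k, kdM (g.val - 1) k = kdM (h.val - 1) k) : IsConj g h := by
  obtain ⟨P, hP, hPM⟩ := exists_conj_of_kdM_eq _ _ m m' hg hh hk
  have hPu : IsUnit P := (Matrix.isUnit_iff_isUnit_det P).2 hP
  obtain ⟨c, rfl⟩ := hPu
  rw [isConj_iff]
  refine ⟨c, ?_⟩
  have h2 : c.val * g.val = h.val * c.val := by
    rw [mul_sub, sub_mul, mul_one, one_mul] at hPM
    exact sub_left_injective hPM
  have h1 : c * g = h * c := Units.ext (by rw [Units.val_mul, Units.val_mul, h2])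
  rw [h1]; group

end gl

section unip
variable {F : Type u} [Field F] (p : ℕ) [Fact p.Prime] [CharP F p] {n : ℕ}

theorem sub_one_pow_char_pow (A : Matrix (Fin n) (Fin n) F) (j : ℕ) :
    (A - 1) ^ (p ^ j) = A ^ (p ^ j) - 1 := by
  rcases Nat.eq_zero_or_pos n with hn | hn
  · subst hn
    exact Subsingleton.elim _ _
  · have : Nonempty (Fin n) := ⟨⟨0, hn⟩⟩
    rw [sub_pow_char_pow_of_commute p j (Commute.one_right _), one_pow]

theorem nilpotent_of_orderOf (g : Matrix.GeneralLinearGroup (Fin n) F) (j : ℕ)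
    (hj : orderOf g = p ^ j) : (g.val - 1) ^ (p ^ j) = 0 := by
  rw [sub_one_pow_char_pow, ← Units.val_pow_eq_pow_val, ← hj, pow_orderOf_eq_one, Units.val_one,
    sub_self]

theorem exists_unipotent_of_nilpotent (N : Matrix (Fin n) (Fin n) F) (m : ℕ) (hN : N ^ m = 0) :
    ∃ g : Matrix.GeneralLinearGroup (Fin n) F, g.val - 1 = N ∧ ∃ j, orderOf g = p ^ j := by
  have hp : p.Prime := Fact.out
  have hnil : IsNilpotent N := ⟨m, hN⟩
  set g : Matrix.GeneralLinearGroup (Fin n) F := (hnil.isUnit_one_add).unit with hg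
  have hgcoe : (g : Matrix (Fin n) (Fin n) F) = 1 + N := IsUnit.unit_spec _
  have hsub : (g : Matrix (Fin n) (Fin n) F) - 1 = N := by rw [hgcoe]; abel
  refine ⟨g, hsub, ?_⟩
  have hpow : g ^ (p ^ m) = 1 := by
    apply Units.ext
    have h1 := sub_one_pow_char_pow p g.val m
    rw [hsub] at h1
    have h2 : N ^ (p ^ m) = 0 := by
      have hle : m ≤ p ^ m := (Nat.lt_pow_self hp.one_lt).le
      obtain ⟨t, ht⟩ := Nat.exists_eq_add_of_le hle
      rw [ht, pow_add, hN, zero_mul]
    rw [h2] at h1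
    rw [Units.val_pow_eq_pow_val, Units.val_one]
    exact (sub_eq_zero.1 h1.symm)
  obtain ⟨j, _, hj⟩ := (Nat.dvd_prime_pow hp).1 (orderOf_dvd_of_pow_eq_one hpow)
  exact ⟨j, hj⟩

end unip

end Cfsg.Agent.Lib.Helper5
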