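import Mathlib
import Cfsg.Prelude
import Cfsg.Agent.Lib.Helper5.Wall2
import Cfsg.Agent.S2366

set_option autoImplicit false

namespace Cfsg.Agent.Lib.Helper5.Wall

open Cfsg.Agent.S0278 Cfsg.Agent.Lib.Helper1.HermCount Cfsg.Agent.Lib.Helper1.GUBasic

variable {K : Type*} [Field K] [Fintype K] {q n : ℕ}

theorem powQ_apply (hK : Fintype.card K = q ^ 2) (x : K) : powQ hK x = x ^ q := rfl

theorem powQ_powQ (hK : Fintype.card K = q ^ 2) (x : K) : powQ hK (powQ hK x) = x := by
  rw [powQ_apply, powQ_apply, ← pow_mul, ← sq, ← hK, FiniteField.pow_card]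

/-- the conjugate transpose with respect to `x ↦ x ^ q`. -/
def ct (hK : Fintype.card K = q ^ 2) (X : Matrix (Fin n) (Fin n) K) : Matrix (Fin n) (Fin n) K :=
  (X.map (powQ hK)).transpose

theorem ct_add (hK : Fintype.card K = q ^ 2) (X Y : Matrix (Fin n) (Fin n) K) :
    ct hK (X + Y) = ct hK X + ct hK Y := by
  unfold ct
  rw [Matrix.map_add _ (map_add (powQ hK)), Matrix.transpose_add]

theorem ct_mul (hK : Fintype.card K = q ^ 2) (X Y : Matrix (Fin n) (Fin n) K) :
    ct hK (X * Y) = ct hK Y * ct hK X := by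
  unfold ct
  rw [Matrix.map_mul, Matrix.transpose_mul]

theorem ct_one (hK : Fintype.card K = q ^ 2) : ct hK (1 : Matrix (Fin n) (Fin n) K) = 1 := by
  unfold ct
  rw [Matrix.map_one _ (map_zero _) (map_one _), Matrix.transpose_one]

theorem ct_ct (hK : Fintype.card K = q ^ 2) (X : Matrix (Fin n) (Fin n) K) :
    ct hK (ct hK X) = X := by
  ext i j
  simp only [ct, Matrix.transpose_apply, Matrix.map_apply]
  exact powQ_powQ hK _

theorem ct_smul (hK : Fintype.card K = q ^ 2) (c : K) (X : Matrix (Fin n) (Fin n) K) :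
    ct hK (c • X) = (c ^ q) • ct hK X := by
  ext i j
  simp only [ct, Matrix.transpose_apply, Matrix.map_apply, Matrix.smul_apply, smul_eq_mul, map_mul]
  rfl

theorem ct_transpose_map (hK : Fintype.card K = q ^ 2) (X : Matrix (Fin n) (Fin n) K) :
    ct hK (X.map (powQ hK)) = X.transpose := by
  ext i j
  simp only [ct, Matrix.transpose_apply, Matrix.map_apply]
  exact powQ_powQ hK _

theorem ct_mul_self_iff (hK : Fintype.card K = q ^ 2) (X : Matrix (Fin n) (Fin n) K) :
    ct hK X * X = 1 ↔ X.transpose * X.map (powQ hK) = 1 := by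
  constructor
  · intro h
    have := congrArg (fun Y => Y.map (powQ hK)) h
    simp only [Matrix.map_mul] at this
    rw [Matrix.map_one _ (map_zero _) (map_one _)] at this
    have h2 : (ct hK X).map (powQ hK) = X.transpose := by
      ext i j
      simp only [ct, Matrix.transpose_apply, Matrix.map_apply]
      exact powQ_powQ hK _
    rwa [h2] at this
  · intro h
    have := congrArg (fun Y => Y.map (powQ hK)) h
    simp only [Matrix.map_mul] at this
    rw [Matrix.map_one _ (map_zero _) (map_one _)] at this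
    have h2 : (X.map (powQ hK)).map (powQ hK) = X := by
      ext i j
      simp only [Matrix.map_apply]
      exact powQ_powQ hK _
    rw [h2] at this
    exact this

theorem mem_GU_iff (hK : Fintype.card K = q ^ 2) (g : GL (Fin n) K) :
    g ∈ Cfsg.GU n K q ↔ ct hK (g : Matrix (Fin n) (Fin n) K) * g = 1 := by
  rw [ct_mul_self_iff]
  constructor
  · intro h
    exact Cfsg.Agent.Lib.Helper5.UStar.transpose_mul_map hK _ (fun u v => h u v)
  · intro h u v
    exact Cfsg.Agent.S2366.preserves_of_transpose_mul_map hK _ h u v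

theorem exists_pow_ne (hK : Fintype.card K = q ^ 2) : ∃ θ : K, θ ^ q ≠ θ := by
  classical
  have hq := two_le_q hK
  by_contra hcon
  push Not at hcon
  have hsub : (Finset.univ.filter (fun c : K => c ≠ 0)) ⊆ fixedUnits K q := by
    intro c hc
    simp only [Finset.mem_filter, Finset.mem_univ, true_and] at hc
    simp only [fixedUnits, Finset.mem_filter, Finset.mem_univ, true_and]
    exact ⟨hc, hcon c⟩
  have h2 := Finset.card_le_card hsub
  rw [card_fixedUnits hK, Finset.filter_ne' Finset.univ (0 : K),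
    Finset.card_erase_of_mem (Finset.mem_univ _), Finset.card_univ, hK] at h2
  have h4 : 2 * q ≤ q * q := Nat.mul_le_mul_right q hq
  have h3 : q ^ 2 = q * q := sq q
  omega

/-- the anti-involution setup for the set `{A, a}` where `A` is unitary and `a` is Hermitian commuting
with `A`. -/
theorem setup_pair (hK : Fintype.card K = q ^ 2) (A A' a : Matrix (Fin n) (Fin n) K)
    (hAA' : A * A' = 1) (hA : ct hK A = A') (ha : ct hK a = a) (hcomm : A * a = a * A) :
    Setup (ct hK) ({A, a} : Set (Matrix (Fin n) (Fin n) K)) where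
  add := ct_add hK
  mul := ct_mul hK
  one := ct_one hK
  inv := fun x _ => ct_ct hK x
  comm := by
    intro x hx y hy
    rcases hx with rfl | rfl <;> rcases hy with rfl | rfl
    · rfl
    · exact hcomm
    · exact hcomm.symm
    · rfl
  stable := by
    intro x hx t ht
    have hxA : A * x = x * A := hx A (Set.mem_insert _ _)
    have hxa : a * x = x * a := hx a (Set.mem_insert_of_mem _ rfl)
    have hA'A : A' * A = 1 := mul_eq_one_comm.1 hAA'
    rcases ht with rfl | rfl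
    · -- A' commutes with x
      have h1 : A' * x = x * A' := by
        calc A' * x = A' * x * (t * A') := by rw [hAA', mul_one]
          _ = A' * (x * t) * A' := by simp only [mul_assoc]
          _ = A' * (t * x) * A' := by rw [hxA]
          _ = (A' * t) * x * A' := by simp only [mul_assoc]
          _ = x * A' := by rw [hA'A, one_mul]
      have h2 := congrArg (ct hK) h1
      rw [ct_mul, ct_mul, ← hA, ct_ct] at h2
      exact h2.symm
    · have h2 := congrArg (ct hK) hxa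
      rw [ct_mul, ct_mul, ha] at h2
      exact h2.symm

theorem scalar_mem_bic (c : K) (s : Set (Matrix (Fin n) (Fin n) K)) :
    (c • (1 : Matrix (Fin n) (Fin n) K)) ∈ bic s := by
  rw [mem_bic]
  intro u _
  rw [Matrix.mul_smul, Matrix.smul_mul, mul_one, one_mul]

theorem isUnit_scalar_sub (hK : Fintype.card K = q ^ 2) (θ : K) (hθ : θ ^ q ≠ θ) :
    IsUnit (θ • (1 : Matrix (Fin n) (Fin n) K) - ct hK (θ • (1 : Matrix (Fin n) (Fin n) K))) := by
  rw [ct_smul, ct_one, ← sub_smul]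
  have hne : θ - θ ^ q ≠ 0 := sub_ne_zero.2 (Ne.symm hθ)
  refine ⟨⟨(θ - θ ^ q) • 1, (θ - θ ^ q)⁻¹ • 1, ?_, ?_⟩, rfl⟩
  · rw [Matrix.smul_mul, Matrix.mul_smul, mul_one, smul_smul, mul_inv_cancel₀ hne, one_smul]
  · rw [Matrix.smul_mul, Matrix.mul_smul, mul_one, smul_smul, inv_mul_cancel₀ hne, one_smul]

/-- Wall: unitary matrices conjugate by an invertible matrix are conjugate by a unitary matrix. -/
theorem exists_unitary_conj (hK : Fintype.card K = q ^ 2) (A B X : Matrix (Fin n) (Fin n) K)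
    (hA : ct hK A * A = 1) (hB : ct hK B * B = 1) (hX : IsUnit X) (hXA : X * A = B * X) :
    ∃ Z : Matrix (Fin n) (Fin n) K, ct hK Z * Z = 1 ∧ Z * A = B * Z := by
  classical
  set a := ct hK X * X with ha
  have hAA' : A * ct hK A = 1 := mul_eq_one_comm.1 hA
  have hasym : ct hK a = a := by rw [ha, ct_mul, ct_ct]
  obtain ⟨Xu, hXu⟩ := hX
  have hau : IsUnit a := by
    refine ⟨⟨a, ((Xu⁻¹ : (Matrix (Fin n) (Fin n) K)ˣ) : Matrix (Fin n) (Fin n) K) *
      ct hK ((Xu⁻¹ : (Matrix (Fin n) (Fin n) K)ˣ) : Matrix (Fin n) (Fin n) K), ?_, ?_⟩, rfl⟩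
    · rw [ha, ← hXu]
      calc ct hK (Xu : Matrix (Fin n) (Fin n) K) * Xu * (((Xu⁻¹ : (Matrix (Fin n) (Fin n) K)ˣ) : Matrix (Fin n) (Fin n) K) * ct hK ((Xu⁻¹ : (Matrix (Fin n) (Fin n) K)ˣ) : Matrix (Fin n) (Fin n) K))
          = ct hK (Xu : Matrix (Fin n) (Fin n) K) * ((Xu : Matrix (Fin n) (Fin n) K) * ((Xu⁻¹ : (Matrix (Fin n) (Fin n) K)ˣ) : Matrix (Fin n) (Fin n) K)) * ct hK ((Xu⁻¹ : (Matrix (Fin n) (Fin n) K)ˣ) : Matrix (Fin n) (Fin n) K) := by
            simp only [mul_assoc]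
        _ = 1 := by rw [Units.mul_inv, mul_one, ← ct_mul, Units.inv_mul, ct_one]
    · rw [ha, ← hXu]
      calc ((Xu⁻¹ : (Matrix (Fin n) (Fin n) K)ˣ) : Matrix (Fin n) (Fin n) K) * ct hK ((Xu⁻¹ : (Matrix (Fin n) (Fin n) K)ˣ) : Matrix (Fin n) (Fin n) K) * (ct hK (Xu : Matrix (Fin n) (Fin n) K) * Xu)
          = ((Xu⁻¹ : (Matrix (Fin n) (Fin n) K)ˣ) : Matrix (Fin n) (Fin n) K) * (ct hK ((Xu⁻¹ : (Matrix (Fin n) (Fin n) K)ˣ) : Matrix (Fin n) (Fin n) K) * ct hK (Xu : Matrix (Fin n) (Fin n) K)) * Xu := by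
            simp only [mul_assoc]
        _ = 1 := by rw [← ct_mul, Units.mul_inv, ct_one, mul_one, Units.inv_mul]
  have hcomm : A * a = a * A := by
    have h1 : ct hK A * a * A = a := by
      calc ct hK A * a * A = ct hK (X * A) * (X * A) := by rw [ha, ct_mul]; simp only [mul_assoc]
        _ = ct hK X * (ct hK B * B) * X := by rw [hXA, ct_mul]; simp only [mul_assoc]
        _ = a := by rw [hB, mul_one]
    calc A * a = A * (ct hK A * a * A) := by rw [h1]
      _ = (A * ct hK A) * a * A := by simp only [mul_assoc]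
      _ = a * A := by rw [hAA', one_mul]
  have hS := setup_pair hK A (ct hK A) a hAA' rfl hasym hcomm
  obtain ⟨θ, hθ⟩ := exists_pow_ne hK
  obtain ⟨y, hyu, hymem, hy⟩ := hS.norm (θ • 1) (scalar_mem_bic θ _) (isUnit_scalar_sub hK θ hθ) a
    (subset_bic _ (Set.mem_insert_of_mem _ rfl)) hau hasym
  obtain ⟨yu, rfl⟩ := hyu
  have hyA : (yu : Matrix (Fin n) (Fin n) K) * A = A * yu :=
    bic_comm hS.comm hymem (subset_bic _ (Set.mem_insert _ _))
  have hyA' : ((yu⁻¹ : (Matrix (Fin n) (Fin n) K)ˣ) : Matrix (Fin n) (Fin n) K) * A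
      = A * ((yu⁻¹ : (Matrix (Fin n) (Fin n) K)ˣ) : Matrix (Fin n) (Fin n) K) := by
    calc ((yu⁻¹ : (Matrix (Fin n) (Fin n) K)ˣ) : Matrix (Fin n) (Fin n) K) * A
        = ((yu⁻¹ : (Matrix (Fin n) (Fin n) K)ˣ) : Matrix (Fin n) (Fin n) K) * (A * yu) * ((yu⁻¹ : (Matrix (Fin n) (Fin n) K)ˣ) : Matrix (Fin n) (Fin n) K) := by
          rw [mul_assoc, mul_assoc, Units.mul_inv, mul_one]
      _ = A * ((yu⁻¹ : (Matrix (Fin n) (Fin n) K)ˣ) : Matrix (Fin n) (Fin n) K) := by
          rw [← hyA, ← mul_assoc, Units.inv_mul, one_mul]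
  refine ⟨X * ((yu⁻¹ : (Matrix (Fin n) (Fin n) K)ˣ) : Matrix (Fin n) (Fin n) K), ?_, ?_⟩
  · rw [ct_mul]
    have h1 : ct hK ((yu⁻¹ : (Matrix (Fin n) (Fin n) K)ˣ) : Matrix (Fin n) (Fin n) K) * ct hK (yu : Matrix (Fin n) (Fin n) K) = 1 := by
      rw [← ct_mul, Units.mul_inv, ct_one]
    calc ct hK ((yu⁻¹ : (Matrix (Fin n) (Fin n) K)ˣ) : Matrix (Fin n) (Fin n) K) * ct hK X * (X * ((yu⁻¹ : (Matrix (Fin n) (Fin n) K)ˣ) : Matrix (Fin n) (Fin n) K))
        = ct hK ((yu⁻¹ : (Matrix (Fin n) (Fin n) K)ˣ) : Matrix (Fin n) (Fin n) K) * a * ((yu⁻¹ : (Matrix (Fin n) (Fin n) K)ˣ) : Matrix (Fin n) (Fin n) K) := by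
          rw [ha]; simp only [mul_assoc]
      _ = (ct hK ((yu⁻¹ : (Matrix (Fin n) (Fin n) K)ˣ) : Matrix (Fin n) (Fin n) K) * ct hK (yu : Matrix (Fin n) (Fin n) K)) * ((yu : Matrix (Fin n) (Fin n) K) * ((yu⁻¹ : (Matrix (Fin n) (Fin n) K)ˣ) : Matrix (Fin n) (Fin n) K)) := by
          rw [← hy]; simp only [mul_assoc]
      _ = 1 := by rw [h1, Units.mul_inv, one_mul]
  · rw [mul_assoc, hyA', ← mul_assoc, hXA, mul_assoc]

end Cfsg.Agent.Lib.Helper5.Wall
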