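import Mathlib
import Cfsg.Agent.Lib.Helper5.Wall3
import Cfsg.Agent.Lib.Helper5.UStar
import Cfsg.Agent.Lib.Helper2.Herm
import Cfsg.Agent.Lib.Helper1.GUBasic

set_option autoImplicit false

namespace Cfsg.Agent.Lib.Helper5.SUConj

open Polynomial
open Cfsg.Agent.S0278 Cfsg.Agent.Lib.Helper5.Wall Cfsg.Agent.Lib.Helper2.Herm
  Cfsg.Agent.Lib.Helper1.GUBasic Cfsg.Agent.Lib.Helper1.HermCount

variable {K : Type*} [Field K] [Fintype K] {q n : ℕ}

theorem ct_apply (hK : Fintype.card K = q ^ 2) (M : Matrix (Fin n) (Fin n) K) (i j : Fin n) :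
    ct hK M i j = (M j i) ^ q := rfl

/-- the conjugate transpose is the adjoint for the standard Hermitian form -/
theorem herm_adj (hK : Fintype.card K = q ^ 2) (M : Matrix (Fin n) (Fin n) K)
    (u v : Fin n → K) :
    Cfsg.hermForm n K q (M.mulVec u) v = Cfsg.hermForm n K q u ((ct hK M).mulVec v) := by
  unfold Cfsg.hermForm
  simp only [Matrix.mulVec, dotProduct]
  have h1 : ∀ j, (∑ i, ct hK M j i * v i) ^ q = ∑ i, M i j * (v i) ^ q := by
    intro j
    rw [sum_pow_q hK]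
    apply Finset.sum_congr rfl
    intro i _
    rw [mul_pow, ct_apply, pow_q_pow_q hK]
  simp only [h1, Finset.sum_mul, Finset.mul_sum]
  rw [Finset.sum_comm]
  apply Finset.sum_congr rfl
  intro j _
  apply Finset.sum_congr rfl
  intro i _
  ring

theorem ct_eq_of_adj (hK : Fintype.card K = q ^ 2) (M M' : Matrix (Fin n) (Fin n) K)
    (h : ∀ x y, Cfsg.hermForm n K q (M.mulVec x) y = Cfsg.hermForm n K q x (M'.mulVec y)) :
    ct hK M = M' := by
  apply Matrix.toLin'.injective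
  apply LinearMap.ext
  intro y
  rw [Matrix.toLin'_apply, Matrix.toLin'_apply]
  have h1 : (ct hK M).mulVec y - M'.mulVec y = 0 := by
    apply eq_zero_of_forall_herm hK
    intro x
    have h2 : Cfsg.hermForm n K q x ((ct hK M).mulVec y - M'.mulVec y) =
        Cfsg.hermForm n K q x ((ct hK M).mulVec y) - Cfsg.hermForm n K q x (M'.mulVec y) := by
      have h3 := herm_add_right hK x ((ct hK M).mulVec y - M'.mulVec y) (M'.mulVec y)
      rw [sub_add_cancel] at h3
      rw [h3]; ring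
    rw [h2, ← herm_adj, h, sub_self]
  exact sub_eq_zero.1 h1

theorem det_ct (hK : Fintype.card K = q ^ 2) (M : Matrix (Fin n) (Fin n) K) :
    (ct hK M).det = M.det ^ q := by
  unfold ct
  rw [Matrix.det_transpose]
  have h1 : M.map (powQ hK) = (powQ hK).mapMatrix M := rfl
  rw [h1, ← RingHom.map_det]
  rfl

theorem ct_sub (hK : Fintype.card K = q ^ 2) (X Y : Matrix (Fin n) (Fin n) K) :
    ct hK (X - Y) = ct hK X - ct hK Y := by
  have h1 := ct_add hK (X - Y) Y
  rw [sub_add_cancel] at h1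
  rw [h1, add_sub_cancel_right]

theorem ct_aeval (hK : Fintype.card K = q ^ 2) (M : Matrix (Fin n) (Fin n) K) (p : K[X]) :
    ct hK (aeval M p) = aeval (ct hK M) (p.map (powQ hK)) := by
  unfold ct
  rw [← Cfsg.Agent.Lib.Helper5.UStar.aeval_map_map,
    Cfsg.Agent.Lib.Helper5.PrimeGraph.aeval_transpose]

/-- Hilbert 90 for the quadratic extension -/
theorem exists_ratio (hK : Fintype.card K = q ^ 2) (δ : K) (hδ : δ ^ (q + 1) = 1) :
    ∃ y : K, y ≠ 0 ∧ δ * y ^ q = y := by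
  obtain ⟨θ, hθ⟩ := exists_pow_ne hK
  have hu : IsUnit (θ - powQ hK θ) := by
    rw [powQ_apply]
    exact IsUnit.mk0 _ (sub_ne_zero.2 (Ne.symm hθ))
  obtain ⟨z, hz, hyz⟩ := hilbert90 (powQ hK) (powQ_powQ hK) θ hu δ (by
    rw [powQ_apply, ← pow_succ']; exact hδ)
  exact ⟨z, hz.ne_zero, hyz⟩

/-- a normal invertible matrix commuting with a unitary one gives a unitary matrix commuting
with it, whose determinant is `y / y ^ q` -/
theorem unitary_of_normal (hK : Fintype.card K = q ^ 2) (g b : Matrix (Fin n) (Fin n) K)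
    (hg : ct hK g * g = 1) (hbg : b * g = g * b) (hn : b * ct hK b = ct hK b * b)
    (hdet : b.det ≠ 0) :
    ∃ c : Matrix (Fin n) (Fin n) K, ct hK c * c = 1 ∧ c * g = g * c ∧
      c.det * b.det ^ q = b.det := by
  have hu : IsUnit b.det := IsUnit.mk0 _ hdet
  have h1 : b * b⁻¹ = 1 := Matrix.mul_nonsing_inv b hu
  have h2 : b⁻¹ * b = 1 := Matrix.nonsing_inv_mul b hu
  have h3 : ct hK b⁻¹ * ct hK b = 1 := by rw [← ct_mul, h1, ct_one]
  have h4 : ct hK b * ct hK b⁻¹ = 1 := by rw [← ct_mul, h2, ct_one]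
  have hgg : g * ct hK g = 1 := mul_eq_one_comm.1 hg
  refine ⟨b * ct hK b⁻¹, ?_, ?_, ?_⟩
  · rw [ct_mul, ct_ct]
    calc b⁻¹ * ct hK b * (b * ct hK b⁻¹) = b⁻¹ * (ct hK b * b) * ct hK b⁻¹ := by
          simp only [mul_assoc]
      _ = b⁻¹ * (b * ct hK b) * ct hK b⁻¹ := by rw [hn]
      _ = (b⁻¹ * b) * (ct hK b * ct hK b⁻¹) := by simp only [mul_assoc]
      _ = 1 := by rw [h2, h4, one_mul]
  · -- b⁻¹ commutes with g
    have h5 : b⁻¹ * g = g * b⁻¹ := by
      calc b⁻¹ * g = b⁻¹ * g * (b * b⁻¹) := by rw [h1, mul_one]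
        _ = b⁻¹ * (g * b) * b⁻¹ := by simp only [mul_assoc]
        _ = b⁻¹ * (b * g) * b⁻¹ := by rw [hbg]
        _ = (b⁻¹ * b) * g * b⁻¹ := by simp only [mul_assoc]
        _ = g * b⁻¹ := by rw [h2, one_mul]
    have h6 : ct hK g * ct hK b⁻¹ = ct hK b⁻¹ * ct hK g := by
      rw [← ct_mul, ← ct_mul, h5]
    have h7 : ct hK b⁻¹ * g = g * ct hK b⁻¹ := by
      calc ct hK b⁻¹ * g = (g * ct hK g) * ct hK b⁻¹ * g := by rw [hgg, one_mul]
        _ = g * (ct hK g * ct hK b⁻¹) * g := by simp only [mul_assoc]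
        _ = g * (ct hK b⁻¹ * ct hK g) * g := by rw [h6]
        _ = g * ct hK b⁻¹ * (ct hK g * g) := by simp only [mul_assoc]
        _ = g * ct hK b⁻¹ := by rw [hg, mul_one]
    rw [mul_assoc, h7, ← mul_assoc, hbg, mul_assoc]
  · rw [Matrix.det_mul, det_ct, Matrix.det_nonsing_inv, Ring.inverse_eq_inv', inv_pow, mul_assoc,
      inv_mul_cancel₀ (pow_ne_zero _ hdet), mul_one]

end Cfsg.Agent.Lib.Helper5.SUConj
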