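import Mathlib
import Cfsg.Agent.Lib.Helper5.Wall3
import Cfsg.Agent.Lib.Helper5.SUConj1
import Cfsg.Agent.S2569

set_option autoImplicit false

namespace Cfsg.Agent.Lib.Helper5.SUConj

open Polynomial Module

section linalg

variable {K : Type*} [Field K] {V : Type*} [AddCommGroup V] [Module K V]

theorem commute_aeval {A : Type*} [Ring A] [Algebra K A] (c a : A) (h : Commute c a) (p : K[X]) :
    Commute c (aeval a p) :=
  Algebra.commute_of_mem_adjoin_singleton_of_commute (aeval_mem_adjoin_singleton K a) h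

/-- inside a nonzero invariant subspace there is an irreducible invariant subspace -/
theorem exists_irreducible_le [FiniteDimensional K V] (A : Module.End K V) :
    ∀ (d : ℕ) (M : Submodule K V), finrank K M = d → M ∈ Module.End.invtSubmodule A → M ≠ ⊥ →
    ∃ U ∈ Module.End.invtSubmodule A, U ≤ M ∧ U ≠ ⊥ ∧
      ∀ W ∈ Module.End.invtSubmodule A, W ≤ U → W = ⊥ ∨ W = U := by
  intro d
  induction d using Nat.strong_induction_on with
  | _ d ih =>
    intro M hd hM hM0
    by_cases hirr : ∀ W ∈ Module.End.invtSubmodule A, W ≤ M → W = ⊥ ∨ W = M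
    · exact ⟨M, hM, le_rfl, hM0, hirr⟩
    · push Not at hirr
      obtain ⟨W, hW, hWM, hW0, hWne⟩ := hirr
      have hlt : finrank K W < d := by
        rw [← hd]
        exact Submodule.finrank_lt_finrank_of_lt (lt_of_le_of_ne hWM hWne)
      obtain ⟨U, hU, hUW, hU0, hUirr⟩ := ih _ hlt W rfl hW hW0
      exact ⟨U, hU, hUW.trans hWM, hU0, hUirr⟩

/-- an endomorphism commuting with an irreducible one is a polynomial in it -/
theorem commute_eq_aeval [FiniteDimensional K V] [Nontrivial V] (a c : Module.End K V)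
    (hirr : ∀ W ∈ Module.End.invtSubmodule a, W = ⊥ ∨ W = ⊤) (hc : Commute c a) :
    ∃ p : K[X], c = aeval a p := by
  obtain ⟨v, hv⟩ := exists_ne (0 : V)
  set ev : K[X] →ₗ[K] V := (LinearMap.applyₗ v) ∘ₗ (aeval a).toLinearMap with hev
  have hevp : ∀ p : K[X], ev p = (aeval a p) v := fun p => rfl
  set R := LinearMap.range ev with hR
  have hRinv : R ∈ Module.End.invtSubmodule a := by
    rw [Module.End.mem_invtSubmodule]
    rintro _ ⟨p, rfl⟩
    rw [Submodule.mem_comap]
    refine ⟨X * p, ?_⟩
    rw [hevp, hevp, map_mul, aeval_X, Module.End.mul_apply]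
  have hvR : v ∈ R := ⟨1, by rw [hevp, map_one, Module.End.one_apply]⟩
  have hRtop : R = ⊤ := by
    rcases hirr R hRinv with h | h
    · rw [h, Submodule.mem_bot] at hvR
      exact absurd hvR hv
    · exact h
  have hcv : c v ∈ R := by rw [hRtop]; exact Submodule.mem_top
  obtain ⟨p, hp⟩ := hcv
  refine ⟨p, ?_⟩
  apply LinearMap.ext
  intro u
  have hu : u ∈ R := by rw [hRtop]; exact Submodule.mem_top
  obtain ⟨r, rfl⟩ := hu
  rw [hevp]
  have h1 : Commute c (aeval a r) := commute_aeval c a hc r
  have h2 : c ((aeval a r) v) = (aeval a r) (c v) := by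
    have := congrArg (fun f : Module.End K V => f v) h1.eq
    exact this
  rw [h2, ← hp, hevp, ← Module.End.mul_apply, ← Module.End.mul_apply, ← map_mul, ← map_mul,
    mul_comm]

/-- the determinant of a map acting as `c'` on `U` and trivially on a complement -/
theorem det_of_split [FiniteDimensional K V] (U W : Submodule K V) (hUW : IsCompl U W)
    (c' : Module.End K U) (b : Module.End K V) (hbU : ∀ u : U, b (u : V) = (c' u : V))
    (hbW : ∀ w ∈ W, b w = w) : LinearMap.det b = LinearMap.det c' := by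
  set e := Submodule.prodEquivOfIsCompl U W hUW with he
  have h1 : b = e.toLinearMap ∘ₗ (c'.prodMap (LinearMap.id : W →ₗ[K] W)) ∘ₗ e.symm.toLinearMap := by
    apply LinearMap.ext
    intro x
    obtain ⟨⟨u, w⟩, rfl⟩ := e.surjective x
    simp only [LinearMap.comp_apply, LinearEquiv.coe_coe, LinearEquiv.symm_apply_apply,
      LinearMap.prodMap_apply, LinearMap.id_apply]
    rw [he, Submodule.coe_prodEquivOfIsCompl', Submodule.coe_prodEquivOfIsCompl', map_add,
      hbU, hbW _ w.2]
  rw [h1, LinearMap.det_conj, LinearMap.det_prodMap, LinearMap.det_id, mul_one]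

end linalg

section geom

open Cfsg.Agent.S0278 Cfsg.Agent.Lib.Helper5.Wall Cfsg.Agent.Lib.Helper2.Herm
  Cfsg.Agent.Lib.Helper1.GUBasic Cfsg.Agent.Lib.Helper1.HermCount

variable {K : Type*} [Field K] [Fintype K] {q n : ℕ}

/-- the left orthogonal of a subspace for the standard Hermitian form -/
def orthL (q : ℕ) (U : Submodule K (Fin n → K)) : Submodule K (Fin n → K) where
  carrier := {x | ∀ w ∈ U, Cfsg.hermForm n K q x w = 0}
  add_mem' := by
    intro a b ha hb w hw
    rw [herm_add_left, ha w hw, hb w hw, add_zero]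
  zero_mem' := by
    intro w _
    exact herm_zero_left w
  smul_mem' := by
    intro c x hx w hw
    show Cfsg.hermForm n K q (c • x) w = 0
    rw [herm_smul_left, hx w hw, mul_zero]

theorem mem_orthL {U : Submodule K (Fin n → K)} {x : Fin n → K} :
    x ∈ orthL q U ↔ ∀ w ∈ U, Cfsg.hermForm n K q x w = 0 := Iff.rfl

theorem mem_orthL_symm (hK : Fintype.card K = q ^ 2) {U : Submodule K (Fin n → K)}
    {x : Fin n → K} : x ∈ orthL q U ↔ ∀ w ∈ U, Cfsg.hermForm n K q w x = 0 := by
  have hq := two_le_q hK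
  constructor
  · intro h w hw
    rw [← herm_conj hK, h w hw, zero_pow (by omega)]
  · intro h w hw
    rw [← herm_conj hK, h w hw, zero_pow (by omega)]

theorem le_finrank_orthL_add (hK : Fintype.card K = q ^ 2) (U : Submodule K (Fin n → K)) :
    n ≤ finrank K (orthL q U) + finrank K U := by
  classical
  set b := Module.finBasis K U with hb
  let Φ : (Fin n → K) →ₗ[K] (Fin (finrank K U) → K) :=
    { toFun := fun x i => Cfsg.hermForm n K q x (b i : Fin n → K)
      map_add' := fun x y => by
        funext i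
        exact herm_add_left x y _
      map_smul' := fun c x => by
        funext i
        exact herm_smul_left c x _ }
  have hker : LinearMap.ker Φ = orthL q U := by
    ext x
    rw [LinearMap.mem_ker, mem_orthL]
    constructor
    · intro hx w hw
      have h1 : w = ∑ i, (b.repr ⟨w, hw⟩ i) • (b i : Fin n → K) := by
        have h2 := b.sum_repr ⟨w, hw⟩
        have h3 := congrArg (Submodule.subtype U) h2
        rw [map_sum] at h3
        simp only [map_smul, Submodule.subtype_apply] at h3
        exact h3.symm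
      rw [h1, herm_sum_right hK]
      apply Finset.sum_eq_zero
      intro i _
      have h4 : Cfsg.hermForm n K q x (b i : Fin n → K) = 0 := congrFun hx i
      rw [h4, mul_zero]
    · intro hx
      funext i
      exact hx _ (b i).2
  have h1 := LinearMap.finrank_range_add_finrank_ker Φ
  rw [hker, Module.finrank_fintype_fun_eq_card, Fintype.card_fin] at h1
  have h2 : finrank K (LinearMap.range Φ) ≤ finrank K U := by
    have := Submodule.finrank_le (LinearMap.range Φ)
    rwa [Module.finrank_fintype_fun_eq_card, Fintype.card_fin] at this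
  omega

theorem isCompl_orthL (hK : Fintype.card K = q ^ 2) (U : Submodule K (Fin n → K))
    (h : U ⊓ orthL q U = ⊥) : IsCompl U (orthL q U) := by
  refine ⟨disjoint_iff.2 h, codisjoint_iff.2 ?_⟩
  apply Submodule.eq_top_of_finrank_eq
  have h1 := Submodule.finrank_sup_add_finrank_inf_eq U (orthL q U)
  rw [h, finrank_bot, add_zero] at h1
  have h2 := le_finrank_orthL_add hK U
  have h3 := Submodule.finrank_le (U ⊔ orthL q U)
  rw [Module.finrank_fintype_fun_eq_card, Fintype.card_fin] at h3 ⊢
  omega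

theorem pow_mem_of_invt {V : Type*} [AddCommGroup V] [Module K V] (A : Module.End K V)
    (U : Submodule K V) (hU : U ∈ Module.End.invtSubmodule A) (j : ℕ) (w : V) (hw : w ∈ U) :
    (A ^ j) w ∈ U := by
  induction j with
  | zero => simpa using hw
  | succ j ih =>
    rw [pow_succ', Module.End.mul_apply]
    exact (Module.End.mem_invtSubmodule A).1 hU ih

theorem ct_eq_pow (hK : Fintype.card K = q ^ 2) (g : Matrix (Fin n) (Fin n) K)
    (hg : ct hK g * g = 1) (k : ℕ) (hgk : g ^ (k + 1) = 1) : ct hK g = g ^ k := by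
  calc ct hK g = ct hK g * g ^ (k + 1) := by rw [hgk, mul_one]
    _ = (ct hK g * g) * g ^ k := by rw [pow_succ', mul_assoc]
    _ = g ^ k := by rw [hg, one_mul]

theorem orthL_invt (hK : Fintype.card K = q ^ 2) (g : Matrix (Fin n) (Fin n) K)
    (hg : ct hK g * g = 1) (k : ℕ) (hgk : g ^ (k + 1) = 1) (U : Submodule K (Fin n → K))
    (hU : U ∈ Module.End.invtSubmodule (Matrix.toLin' g)) :
    orthL q U ∈ Module.End.invtSubmodule (Matrix.toLin' g) := by
  rw [Module.End.mem_invtSubmodule]
  intro x hx
  rw [Submodule.mem_comap, mem_orthL]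
  intro w hw
  rw [Matrix.toLin'_apply, herm_adj hK, ct_eq_pow hK g hg k hgk]
  apply hx
  have := pow_mem_of_invt (Matrix.toLin' g) U hU k w hw
  rwa [← Matrix.toLin'_pow, Matrix.toLin'_apply] at this

/-- the common construction: act by `c'` on an invariant summand `U`, trivially on an invariant
complement `W` -/
theorem build (g : Matrix (Fin n) (Fin n) K) (U W : Submodule K (Fin n → K))
    (hU : ∀ x ∈ U, Matrix.toLin' g x ∈ U) (hW : ∀ x ∈ W, Matrix.toLin' g x ∈ W)
    (hUW : IsCompl U W) (c' : Module.End K U)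
    (hc' : Commute c' ((Matrix.toLin' g).restrict hU)) :
    ∃ P D : Matrix (Fin n) (Fin n) K, P * P = P ∧ P * D = D ∧ D * P = D ∧ D * g = g * D ∧
      P * g = g * P ∧ (1 + D).det = LinearMap.det c' ∧ (∀ x, P.mulVec x ∈ U) ∧
      (∀ x ∈ W, P.mulVec x = 0) ∧ (∀ u ∈ U, P.mulVec u = u) ∧
      (∀ u : U, D.mulVec (u : Fin n → K) = (c' u : Fin n → K) - u) := by
  classical
  set A := Matrix.toLin' g with hA
  set a := A.restrict hU with ha
  set πU := Submodule.projectionOnto U W hUW with hπU
  set πL : Module.End K (Fin n → K) := U.subtype ∘ₗ πU with hπL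
  set DL : Module.End K (Fin n → K) := U.subtype ∘ₗ (c' - 1) ∘ₗ πU with hDL
  have hπl : ∀ u : U, πU (u : Fin n → K) = u := fun u =>
    Submodule.projectionOnto_apply_left hUW u
  have hπr : ∀ w ∈ W, πU w = 0 := fun w hw =>
    Submodule.projectionOnto_apply_of_mem_right hUW hw
  have hsub : ∀ x, x - (πU x : Fin n → K) ∈ W := by
    intro x
    have h1 : πU (x - (πU x : Fin n → K)) = 0 := by rw [map_sub, hπl, sub_self]
    exact (Submodule.projectionOnto_apply_eq_zero_iff hUW).1 h1
  have hπA : ∀ x, πU (A x) = a (πU x) := by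
    intro x
    have h1 : A x = A (πU x : Fin n → K) + A (x - (πU x : Fin n → K)) := by
      rw [← map_add, add_sub_cancel]
    rw [h1, map_add, hπr _ (hW _ (hsub x)), add_zero]
    exact hπl ⟨A (πU x : Fin n → K), hU _ (πU x).2⟩
  have haval : ∀ u : U, ((a u : U) : Fin n → K) = A (u : Fin n → K) := fun u => rfl
  have hcomm : ∀ u : U, c' (a u) = a (c' u) := by
    intro u
    have := congrArg (fun f : Module.End K U => f u) hc'.eq
    exact this
  have hπLπL : πL ∘ₗ πL = πL := by
    apply LinearMap.ext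
    intro x
    simp only [hπL, LinearMap.comp_apply, Submodule.subtype_apply, hπl]
  have hπLDL : πL ∘ₗ DL = DL := by
    apply LinearMap.ext
    intro x
    simp only [hπL, hDL, LinearMap.comp_apply, Submodule.subtype_apply, hπl]
  have hDLπL : DL ∘ₗ πL = DL := by
    apply LinearMap.ext
    intro x
    simp only [hπL, hDL, LinearMap.comp_apply, Submodule.subtype_apply, hπl]
  have hDLA : DL ∘ₗ A = A ∘ₗ DL := by
    apply LinearMap.ext
    intro x
    simp only [hDL, LinearMap.comp_apply, Submodule.subtype_apply, hπA]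
    rw [← haval]
    congr 1
    simp only [LinearMap.sub_apply, Module.End.one_apply, map_sub, hcomm]
  have hπLA : πL ∘ₗ A = A ∘ₗ πL := by
    apply LinearMap.ext
    intro x
    simp only [hπL, LinearMap.comp_apply, Submodule.subtype_apply, hπA]
    rfl
  have hgM : LinearMap.toMatrix' A = g := by rw [hA, LinearMap.toMatrix'_toLin']
  refine ⟨LinearMap.toMatrix' πL, LinearMap.toMatrix' DL, ?_, ?_, ?_, ?_, ?_, ?_, ?_, ?_, ?_, ?_⟩
  · rw [← LinearMap.toMatrix'_comp, hπLπL]
  · rw [← LinearMap.toMatrix'_comp, hπLDL]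
  · rw [← LinearMap.toMatrix'_comp, hDLπL]
  · rw [← hgM, ← LinearMap.toMatrix'_comp, ← LinearMap.toMatrix'_comp, hDLA]
  · rw [← hgM, ← LinearMap.toMatrix'_comp, ← LinearMap.toMatrix'_comp, hπLA]
  · have h1 : (1 + LinearMap.toMatrix' DL : Matrix (Fin n) (Fin n) K) =
        LinearMap.toMatrix' (1 + DL) := by
      rw [map_add]
      congr 1
      exact (LinearMap.toMatrix'_id).symm
    rw [h1, ← LinearMap.det_toLin', Matrix.toLin'_toMatrix']
    apply det_of_split U W hUW c' (1 + DL)
    · intro u
      simp only [hDL, LinearMap.add_apply, Module.End.one_apply, LinearMap.comp_apply,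
        Submodule.subtype_apply, hπl, LinearMap.sub_apply]
      rw [Submodule.coe_sub]
      abel
    · intro w hw
      simp only [hDL, LinearMap.add_apply, Module.End.one_apply, LinearMap.comp_apply,
        Submodule.subtype_apply, hπr w hw, map_zero, Submodule.coe_zero, add_zero]
  · intro x
    rw [LinearMap.toMatrix'_mulVec]
    exact (πU x).2
  · intro x hx
    rw [LinearMap.toMatrix'_mulVec]
    simp only [hπL, LinearMap.comp_apply, Submodule.subtype_apply, hπr x hx, Submodule.coe_zero]
  · intro u hu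
    rw [LinearMap.toMatrix'_mulVec]
    simp only [hπL, LinearMap.comp_apply, Submodule.subtype_apply]
    rw [hπl ⟨u, hu⟩]
  · intro u
    rw [LinearMap.toMatrix'_mulVec]
    simp only [hDL, LinearMap.comp_apply, Submodule.subtype_apply, hπl, LinearMap.sub_apply,
      Module.End.one_apply]
    rw [Submodule.coe_sub]

theorem aeval_restrict {V : Type*} [AddCommGroup V] [Module K V] (A : Module.End K V)
    (U : Submodule K V) (hU : ∀ x ∈ U, A x ∈ U) (p₀ : K[X]) (u : U) :
    ((aeval (A.restrict hU) p₀) u : V) = (aeval A p₀) (u : V) := by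
  induction p₀ using Polynomial.induction_on' generalizing u with
  | add p₁ p₂ h1 h2 =>
    rw [map_add, map_add, LinearMap.add_apply, LinearMap.add_apply, Submodule.coe_add, h1, h2]
  | monomial j c =>
    rw [aeval_monomial, aeval_monomial]
    simp only [Module.algebraMap_end_eq_smul_id, Module.End.mul_apply, LinearMap.smul_apply,
      LinearMap.id_apply, Submodule.coe_smul]
    congr 1
    induction j generalizing u with
    | zero => simp
    | succ j ih =>
      rw [pow_succ, pow_succ, Module.End.mul_apply, Module.End.mul_apply, ih]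
      rfl

theorem toLin'_aeval (g : Matrix (Fin n) (Fin n) K) (p₀ : K[X]) :
    aeval (Matrix.toLin' g) p₀ = Matrix.toLin' (aeval g p₀) :=
  Polynomial.aeval_algHom_apply (Matrix.toLinAlgEquiv' (R := K) (n := Fin n)).toAlgHom g p₀

section main

variable (hK : Fintype.card K = q ^ 2) (p : ℕ) [Fact p.Prime] [CharP K p]

include hK

/-- case of a non-degenerate irreducible invariant subspace -/
theorem caseA (g : Matrix (Fin n) (Fin n) K) (hg : ct hK g * g = 1) (k : ℕ)
    (hkp : (k + 1).Coprime p) (hgk : g ^ (k + 1) = 1) (y : K)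
    (U : Submodule K (Fin n → K)) (hU : U ∈ Module.End.invtSubmodule (Matrix.toLin' g))
    (hU0 : U ≠ ⊥)
    (hirr : ∀ W ∈ Module.End.invtSubmodule (Matrix.toLin' g), W ≤ U → W = ⊥ ∨ W = U)
    (hnd : U ⊓ orthL q U = ⊥) :
    ∃ b : Matrix (Fin n) (Fin n) K, b * g = g * b ∧ b * ct hK b = ct hK b * b ∧ b.det = y := by
  classical
  set A := Matrix.toLin' g with hA
  have hUW := isCompl_orthL hK U hnd
  have hW := orthL_invt hK g hg k hgk U hU
  haveI : Nontrivial U := Submodule.nontrivial_iff_ne_bot.2 hU0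
  set a := A.restrict hU with ha
  have hak : a ^ (k + 1) = 1 := by
    apply LinearMap.ext
    intro u
    apply Subtype.ext
    have h1 := aeval_restrict A U hU (X ^ (k + 1)) u
    rw [map_pow, map_pow, aeval_X, aeval_X] at h1
    rw [h1, hA, ← Matrix.toLin'_pow, hgk, Matrix.toLin'_one]
    rfl
  obtain ⟨c', hc'det, hc'a⟩ := Cfsg.Agent.S2569.exists_commuting_det (p := p) a (k + 1) hkp hak y
  have hc'comm : Commute c' a := hc'a
  -- c' is a polynomial in a
  have hirr' : ∀ W ∈ Module.End.invtSubmodule a, W = ⊥ ∨ W = ⊤ := by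
    intro W hW'
    have h1 : W.map U.subtype ∈ Module.End.invtSubmodule A := by
      rintro _ ⟨w, hw, rfl⟩
      exact ⟨a w, hW' hw, rfl⟩
    rcases hirr _ h1 (Submodule.map_subtype_le U W) with h | h
    · left
      rw [eq_bot_iff]
      intro w hw
      have h2 : (w : Fin n → K) ∈ W.map U.subtype := ⟨w, hw, rfl⟩
      rw [h, Submodule.mem_bot] at h2
      rw [Submodule.mem_bot]
      exact Subtype.ext h2
    · right
      rw [eq_top_iff]
      intro u _
      have hu : (u : Fin n → K) ∈ W.map U.subtype := by rw [h]; exact u.2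
      obtain ⟨w, hw, hwu⟩ := hu
      have : w = u := Subtype.ext hwu
      rwa [← this]
  obtain ⟨p₀, hp₀⟩ := commute_eq_aeval a c' hirr' hc'comm
  obtain ⟨P, D, hPP, hPD, hDP, hDg, hPg, hdet, hPU, hPW, hPu, hDu⟩ :=
    build g U (orthL q U) hU hW hUW c' hc'comm
  -- ct P = P
  have hctP : ct hK P = P := by
    apply ct_eq_of_adj
    intro x z
    have hx1 : x - P.mulVec x ∈ orthL q U := by
      have h1 : x - P.mulVec x = (x - P.mulVec x) - P.mulVec (x - P.mulVec x) := by
        rw [Matrix.mulVec_sub, Matrix.mulVec_mulVec, hPP, sub_self, sub_zero]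
      obtain ⟨u, hu, w, hw, huw⟩ := Submodule.mem_sup.1
        (show x ∈ U ⊔ orthL q U by rw [hUW.sup_eq_top]; exact Submodule.mem_top)
      rw [← huw, Matrix.mulVec_add, hPu u hu, hPW w hw, add_zero, add_sub_cancel_left]
      exact hw
    have hz1 : z - P.mulVec z ∈ orthL q U := by
      obtain ⟨u, hu, w, hw, huw⟩ := Submodule.mem_sup.1
        (show z ∈ U ⊔ orthL q U by rw [hUW.sup_eq_top]; exact Submodule.mem_top)
      rw [← huw, Matrix.mulVec_add, hPu u hu, hPW w hw, add_zero, add_sub_cancel_left]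
      exact hw
    have e1 : Cfsg.hermForm n K q (P.mulVec x) z =
        Cfsg.hermForm n K q (P.mulVec x) (P.mulVec z) := by
      have h1 : z = P.mulVec z + (z - P.mulVec z) := by abel
      rw [h1, herm_add_right hK, (mem_orthL_symm hK).1 hz1 _ (hPU x), add_zero, ← h1]
    have e2 : Cfsg.hermForm n K q x (P.mulVec z) =
        Cfsg.hermForm n K q (P.mulVec x) (P.mulVec z) := by
      have h1 : x = P.mulVec x + (x - P.mulVec x) := by abel
      rw [h1, herm_add_left, mem_orthL.1 hx1 _ (hPU z), add_zero, ← h1]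
    rw [e1, e2]
  -- D = (aeval g p₀ - 1) * P
  have hDform : D = (aeval g p₀ - 1) * P := by
    apply Matrix.toLin'.injective
    apply LinearMap.ext
    intro x
    rw [Matrix.toLin'_apply, Matrix.toLin'_apply, ← Matrix.mulVec_mulVec]
    have h1 : D.mulVec x = D.mulVec (P.mulVec x) := by rw [Matrix.mulVec_mulVec, hDP]
    rw [h1]
    have h2 := hDu ⟨P.mulVec x, hPU x⟩
    simp only at h2
    rw [h2, hp₀, aeval_restrict A U hU p₀ ⟨P.mulVec x, hPU x⟩, Matrix.sub_mulVec,
      Matrix.one_mulVec]
    congr 1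
    show (aeval (Matrix.toLin' g) p₀) (P.mulVec x) = _
    rw [toLin'_aeval, Matrix.toLin'_apply]
  have hgg : g * ct hK g = 1 := mul_eq_one_comm.1 hg
  have hcg : Commute g (ct hK g) := by
    show g * ct hK g = ct hK g * g
    rw [hg, hgg]
  have hPg' : Commute P g := hPg
  have hPcg : Commute P (ct hK g) := by
    have h1 := congrArg (ct hK) hPg
    rw [ct_mul, ct_mul, hctP] at h1
    exact h1.symm
  set G := aeval g p₀ - 1 with hG
  set G' := aeval (ct hK g) (p₀.map (powQ hK)) - 1 with hG'
  have hctG : ct hK G = G' := by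
    rw [hG, ct_sub, ct_aeval, ct_one]
  have hPG : Commute P G := (commute_aeval P g hPg' p₀).sub_right (Commute.one_right P)
  have hPG' : Commute P G' :=
    (commute_aeval P (ct hK g) hPcg _).sub_right (Commute.one_right P)
  have hGG' : Commute G G' := by
    have h1 : Commute (aeval g p₀) (aeval (ct hK g) (p₀.map (powQ hK))) := by
      apply commute_aeval
      exact (commute_aeval (ct hK g) g hcg.symm p₀).symm
    exact ((h1.sub_right (Commute.one_right _)).sub_left (Commute.one_left _))
  have hctD : ct hK D = P * G' := by rw [hDform, ct_mul, hctP, hctG]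
  refine ⟨1 + D, ?_, ?_, ?_⟩
  · rw [add_mul, mul_add, one_mul, mul_one, hDg]
  · rw [ct_add, ct_one, hctD, hDform]
    have e1 : G * P * (P * G') = P * G' * (G * P) := by
      have l1 : G * P * (P * G') = P * (G' * G) := by
        calc G * P * (P * G') = G * (P * P) * G' := by simp only [mul_assoc]
          _ = G * P * G' := by rw [hPP]
          _ = P * (G * G') := by rw [← hPG.eq, mul_assoc]
          _ = P * (G' * G) := by rw [hGG'.eq]
      have l2 : P * G' * (G * P) = P * (G' * G) := by
        calc P * G' * (G * P) = P * G' * (P * G) := by rw [hPG.eq]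
          _ = P * (G' * P) * G := by simp only [mul_assoc]
          _ = P * (P * G') * G := by rw [hPG'.eq]
          _ = (P * P) * (G' * G) := by simp only [mul_assoc]
          _ = P * (G' * G) := by rw [hPP]
      rw [l1, l2]
    have e2 : (1 + G * P) * (1 + P * G') = 1 + G * P + P * G' + G * P * (P * G') := by
      rw [add_mul, mul_add, mul_add, one_mul, one_mul, mul_one]
      abel
    have e3 : (1 + P * G') * (1 + G * P) = 1 + G * P + P * G' + P * G' * (G * P) := by
      rw [add_mul, mul_add, mul_add, one_mul, one_mul, mul_one]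
      abel
    rw [e2, e3, e1]
  · rw [hdet, hc'det]

/-- case where every irreducible invariant subspace is totally isotropic -/
theorem caseB (hn : 0 < n) (g : Matrix (Fin n) (Fin n) K) (hg : ct hK g * g = 1) (k : ℕ)
    (hkp : (k + 1).Coprime p) (hgk : g ^ (k + 1) = 1) (y : K)
    (hB : ∀ U ∈ Module.End.invtSubmodule (Matrix.toLin' g), U ≠ ⊥ →
      (∀ W ∈ Module.End.invtSubmodule (Matrix.toLin' g), W ≤ U → W = ⊥ ∨ W = U) →
      U ≤ orthL q U) :
    ∃ b : Matrix (Fin n) (Fin n) K, b * g = g * b ∧ b * ct hK b = ct hK b * b ∧ b.det = y := by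
  classical
  set A := Matrix.toLin' g with hA
  have hk0 : ((k + 1 : ℕ) : K) ≠ 0 := by
    intro h
    rw [CharP.cast_eq_zero_iff K p] at h
    have := Nat.Coprime.eq_one_of_dvd hkp.symm h
    exact (Fact.out : p.Prime).one_lt.ne' this
  have hAk : A ^ (k + 1) = 1 := by
    rw [hA, ← Matrix.toLin'_pow, hgk, Matrix.toLin'_one]
    rfl
  have hss : Module.End.IsSemisimple A := by
    apply Module.End.isSemisimple_of_squarefree_aeval_eq_zero (p := X ^ (k + 1) - 1)
    · have : (X ^ (k + 1) - C (1 : K)).Separable :=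
        Polynomial.separable_X_pow_sub_C 1 hk0 one_ne_zero
      rw [map_one] at this
      exact this.squarefree
    · rw [map_sub, map_pow, aeval_X, map_one, hAk, sub_self]
  have hcompl := Module.End.isSemisimple_iff.1 hss
  have htop : (⊤ : Submodule K (Fin n → K)) ∈ Module.End.invtSubmodule A := fun _ _ => trivial
  haveI : Nonempty (Fin n) := ⟨⟨0, hn⟩⟩
  have htop0 : (⊤ : Submodule K (Fin n → K)) ≠ ⊥ := by
    intro h
    have h1 : (fun _ => 1 : Fin n → K) ∈ (⊥ : Submodule K (Fin n → K)) := by
      rw [← h]; exact Submodule.mem_top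
    rw [Submodule.mem_bot] at h1
    have := congrFun h1 ⟨0, hn⟩
    exact one_ne_zero this
  obtain ⟨U, hU, -, hU0, hUirr⟩ := exists_irreducible_le A _ ⊤ rfl htop htop0
  have hUt : U ≤ orthL q U := hB U hU hU0 hUirr
  set M := orthL q U with hM
  have hMinv : M ∈ Module.End.invtSubmodule A := orthL_invt hK g hg k hgk U hU
  have hMtop : M ≠ ⊤ := by
    intro h
    apply hU0
    rw [eq_bot_iff]
    intro u hu
    rw [Submodule.mem_bot]
    apply eq_zero_of_forall_herm hK
    intro x
    have hx : x ∈ M := by rw [h]; exact Submodule.mem_top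
    exact hx u hu
  obtain ⟨M', hM'inv, hMM'⟩ := hcompl M hMinv
  have hM'0 : M' ≠ ⊥ := by
    intro h
    apply hMtop
    have := hMM'.sup_eq_top
    rwa [h, sup_bot_eq] at this
  obtain ⟨U', hU', hU'M', hU'0, hU'irr⟩ := exists_irreducible_le A _ M' rfl hM'inv hM'0
  have hU't : U' ≤ orthL q U' := hB U' hU' hU'0 hU'irr
  have hMM'bot : M ⊓ M' = ⊥ := hMM'.inf_eq_bot
  have hU'M : ∀ x, x ∈ U' → x ∈ M → x = 0 := by
    intro x h1 h2
    have : x ∈ M ⊓ M' := ⟨h2, hU'M' h1⟩
    rwa [hMM'bot, Submodule.mem_bot] at this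
  have hUU' : ∀ x, x ∈ U → x ∈ U' → x = 0 := fun x h1 h2 => hU'M x h2 (hUt h1)
  set N := U ⊔ U' with hN
  have hNinv : N ∈ Module.End.invtSubmodule A := (Module.End.invtSubmodule A).supClosed' hU hU'
  have hUN : U ≤ N := le_sup_left
  have hU'N : U' ≤ N := le_sup_right
  have hoU'inv : orthL q U' ∈ Module.End.invtSubmodule A := orthL_invt hK g hg k hgk U' hU'
  have hNnd : N ⊓ orthL q N = ⊥ := by
    rw [eq_bot_iff]
    rintro x ⟨hxN, hxo⟩
    rw [Submodule.mem_bot]
    obtain ⟨u, hu, u', hu', rfl⟩ := Submodule.mem_sup.1 hxN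
    have h1 : u' ∈ M := by
      intro w hw
      have h2 := hxo w (hUN hw)
      rw [herm_add_left, hUt hu w hw, zero_add] at h2
      exact h2
    have h3 : u' = 0 := hU'M u' hu' h1
    subst h3
    rw [add_zero] at hxo ⊢
    have hT : U ⊓ orthL q U' ∈ Module.End.invtSubmodule A :=
      (Module.End.invtSubmodule A).infClosed' hU hoU'inv
    rcases hUirr _ hT inf_le_left with h | h
    · have : u ∈ U ⊓ orthL q U' := ⟨hu, fun w hw => hxo w (hU'N hw)⟩
      rwa [h, Submodule.mem_bot] at this
    · exfalso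
      apply hU'0
      rw [eq_bot_iff]
      intro w hw
      rw [Submodule.mem_bot]
      apply hU'M w hw
      rw [hM, mem_orthL_symm hK]
      intro v hv
      have hv' : v ∈ U ⊓ orthL q U' := by rw [h]; exact hv
      exact hv'.2 w hw
  have hNc := isCompl_orthL hK N hNnd
  have hoNinv : orthL q N ∈ Module.End.invtSubmodule A := orthL_invt hK g hg k hgk N hNinv
  set W := U' ⊔ orthL q N with hW
  set W' := U ⊔ orthL q N with hW'
  have hWinv : W ∈ Module.End.invtSubmodule A :=
    (Module.End.invtSubmodule A).supClosed' hU' hoNinv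
  have hW'inv : W' ∈ Module.End.invtSubmodule A :=
    (Module.End.invtSubmodule A).supClosed' hU hoNinv
  have hNo0 : ∀ x, x ∈ N → x ∈ orthL q N → x = 0 := by
    intro x h1 h2
    have : x ∈ N ⊓ orthL q N := ⟨h1, h2⟩
    rwa [hNnd, Submodule.mem_bot] at this
  have hUW : IsCompl U W := by
    constructor
    · rw [disjoint_iff, eq_bot_iff]
      rintro x ⟨hxU, hxW⟩
      rw [Submodule.mem_bot]
      obtain ⟨u', hu', m, hm, rfl⟩ := Submodule.mem_sup.1 hxW
      have hm0 : m = 0 := by
        apply hNo0 m _ hm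
        have : m = (u' + m) - u' := by abel
        rw [this]
        exact N.sub_mem (hUN hxU) (hU'N hu')
      subst hm0
      rw [add_zero] at hxU ⊢
      exact hUU' u' hxU hu'
    · rw [codisjoint_iff, hW, ← sup_assoc]
      exact hNc.sup_eq_top
  have hU'W' : IsCompl U' W' := by
    constructor
    · rw [disjoint_iff, eq_bot_iff]
      rintro x ⟨hxU', hxW'⟩
      rw [Submodule.mem_bot]
      obtain ⟨u, hu, m, hm, rfl⟩ := Submodule.mem_sup.1 hxW'
      have hm0 : m = 0 := by
        apply hNo0 m _ hm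
        have : m = (u + m) - u := by abel
        rw [this]
        exact N.sub_mem (hU'N hxU') (hUN hu)
      subst hm0
      rw [add_zero] at hxU' ⊢
      exact hUU' u hu hxU'
    · rw [codisjoint_iff, hW', ← sup_assoc, sup_comm U' U]
      exact hNc.sup_eq_top
  haveI : Nontrivial U := Submodule.nontrivial_iff_ne_bot.2 hU0
  set a := A.restrict hU with ha
  have hak : a ^ (k + 1) = 1 := by
    apply LinearMap.ext
    intro u
    apply Subtype.ext
    have h1 := aeval_restrict A U hU (X ^ (k + 1)) u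
    rw [map_pow, map_pow, aeval_X, aeval_X] at h1
    rw [h1, hAk]
    rfl
  obtain ⟨c', hc'det, hc'a⟩ := Cfsg.Agent.S2569.exists_commuting_det (p := p) a (k + 1) hkp hak y
  have hc'comm : Commute c' a := hc'a
  obtain ⟨P, D, hPP, hPD, hDP, hDg, hPg, hdet, hPU, hPW, hPu, hDu⟩ :=
    build g U W hU hWinv hUW c' hc'comm
  obtain ⟨P', D', hP'P', -, -, -, -, -, hP'U, hP'W, hP'u, -⟩ :=
    build g U' W' hU' hW'inv hU'W' 1 (Commute.one_left _)
  -- decomposition
  have hdec : ∀ x : Fin n → K, ∃ u ∈ U, ∃ u' ∈ U', ∃ m ∈ orthL q N, x = u + u' + m := by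
    intro x
    obtain ⟨z, hz, m, hm, hzm⟩ := Submodule.mem_sup.1
      (show x ∈ N ⊔ orthL q N by rw [hNc.sup_eq_top]; exact Submodule.mem_top)
    obtain ⟨u, hu, u', hu', huu'⟩ := Submodule.mem_sup.1 hz
    exact ⟨u, hu, u', hu', m, hm, by rw [huu', hzm]⟩
  have hPx : ∀ u ∈ U, ∀ u' ∈ U', ∀ m ∈ orthL q N, P.mulVec (u + u' + m) = u := by
    intro u hu u' hu' m hm
    rw [Matrix.mulVec_add, Matrix.mulVec_add, hPu u hu,
      hPW u' (Submodule.mem_sup_left hu'), hPW m (Submodule.mem_sup_right hm), add_zero, add_zero]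
  have hP'x : ∀ u ∈ U, ∀ u' ∈ U', ∀ m ∈ orthL q N, P'.mulVec (u + u' + m) = u' := by
    intro u hu u' hu' m hm
    rw [Matrix.mulVec_add, Matrix.mulVec_add, hP'u u' hu',
      hP'W u (Submodule.mem_sup_left hu), hP'W m (Submodule.mem_sup_right hm), add_zero, zero_add]
  have hctP : ct hK P = P' := by
    apply ct_eq_of_adj
    intro x z
    obtain ⟨u, hu, u', hu', m, hm, rfl⟩ := hdec x
    obtain ⟨v, hv, v', hv', l, hl, rfl⟩ := hdec z
    rw [hPx u hu u' hu' m hm, hP'x v hv v' hv' l hl]
    rw [herm_add_right hK, herm_add_right hK, hUt hu v hv,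
      (mem_orthL_symm hK).1 hl u (hUN hu), herm_add_left, herm_add_left, hU't hu' v' hv',
      hm v' (hU'N hv')]
    ring
  have hPP' : P * P' = 0 := by
    apply Matrix.toLin'.injective
    apply LinearMap.ext
    intro x
    rw [Matrix.toLin'_apply, ← Matrix.mulVec_mulVec, hPW _ (Submodule.mem_sup_left (hP'U x))]
    simp
  have hP'P : P' * P = 0 := by
    apply Matrix.toLin'.injective
    apply LinearMap.ext
    intro x
    rw [Matrix.toLin'_apply, ← Matrix.mulVec_mulVec, hP'W _ (Submodule.mem_sup_left (hPU x))]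
    simp
  have hctD1 : ct hK D = ct hK D * P' := by
    conv_lhs => rw [← hPD]
    rw [ct_mul, hctP]
  have hctD2 : ct hK D = P' * ct hK D := by
    conv_lhs => rw [← hDP]
    rw [ct_mul, hctP]
  have hD1 : D * ct hK D = 0 := by
    calc D * ct hK D = (D * P) * (P' * ct hK D) := by rw [hDP, ← hctD2]
      _ = D * (P * P') * ct hK D := by simp only [mul_assoc]
      _ = 0 := by rw [hPP', mul_zero, zero_mul]
  have hD2 : ct hK D * D = 0 := by
    calc ct hK D * D = (ct hK D * P') * (P * D) := by rw [hPD, ← hctD1]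
      _ = ct hK D * (P' * P) * D := by simp only [mul_assoc]
      _ = 0 := by rw [hP'P, mul_zero, zero_mul]
  refine ⟨1 + D, ?_, ?_, ?_⟩
  · rw [add_mul, mul_add, one_mul, mul_one, hDg]
  · rw [ct_add, ct_one, add_mul, mul_add, mul_add, add_mul, mul_add, mul_add, hD1, hD2]
    simp only [one_mul, mul_one]
    abel
  · rw [hdet, hc'det]

/-- a normal invertible matrix of any prescribed determinant commuting with a semisimple unitary
matrix -/
theorem exists_normal_commuting (hn : 0 < n) (g : Matrix (Fin n) (Fin n) K)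
    (hg : ct hK g * g = 1) (k : ℕ) (hkp : (k + 1).Coprime p) (hgk : g ^ (k + 1) = 1) (y : K) :
    ∃ b : Matrix (Fin n) (Fin n) K, b * g = g * b ∧ b * ct hK b = ct hK b * b ∧ b.det = y := by
  by_cases hA : ∃ U ∈ Module.End.invtSubmodule (Matrix.toLin' g), U ≠ ⊥ ∧
      (∀ W ∈ Module.End.invtSubmodule (Matrix.toLin' g), W ≤ U → W = ⊥ ∨ W = U) ∧
      U ⊓ orthL q U = ⊥
  · obtain ⟨U, hU, hU0, hirr, hnd⟩ := hA
    exact caseA hK p g hg k hkp hgk y U hU hU0 hirr hnd
  · apply caseB hK p hn g hg k hkp hgk y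
    intro U hU hU0 hirr
    have hT : U ⊓ orthL q U ∈ Module.End.invtSubmodule (Matrix.toLin' g) :=
      (Module.End.invtSubmodule (Matrix.toLin' g)).infClosed' hU
        (orthL_invt hK g hg k hgk U hU)
    rcases hirr _ hT (inf_le_left : U ⊓ orthL q U ≤ U) with h | h
    · exact absurd ⟨U, hU, hU0, hirr, h⟩ hA
    · intro x hx
      have hx' : x ∈ U ⊓ orthL q U := by rw [h]; exact hx
      exact hx'.2

/-- a unitary matrix of any prescribed determinant of norm one commuting with a semisimple unitary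
matrix -/
theorem exists_unitary_commuting_det (hn : 0 < n) (g : Matrix (Fin n) (Fin n) K)
    (hg : ct hK g * g = 1) (k : ℕ) (hkp : (k + 1).Coprime p) (hgk : g ^ (k + 1) = 1) (δ : K)
    (hδ : δ ^ (q + 1) = 1) :
    ∃ c : Matrix (Fin n) (Fin n) K, ct hK c * c = 1 ∧ c * g = g * c ∧ c.det = δ := by
  obtain ⟨y, hy0, hy⟩ := exists_ratio hK δ hδ
  obtain ⟨b, hbg, hbn, hbdet⟩ := exists_normal_commuting hK p hn g hg k hkp hgk y
  obtain ⟨c, hc1, hc2, hc3⟩ := unitary_of_normal hK g b hg hbg hbn (by rw [hbdet]; exact hy0)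
  refine ⟨c, hc1, hc2, ?_⟩
  rw [hbdet] at hc3
  have hyq : y ^ q ≠ 0 := pow_ne_zero _ hy0
  apply mul_right_cancel₀ hyq
  rw [hc3, hy]

end main

end geom

end Cfsg.Agent.Lib.Helper5.SUConj
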