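import Cfsg.Agent.Lib.Helper5.Srch2

set_option autoImplicit false

/-! # Checks cut into pieces: straight line programs, inverse letters -/

namespace Cfsg.Agent.Lib.Helper5.Srch

open Cfsg.Agent.Lib.Helper6.TC Cfsg.Agent.Lib.Helper6.PM Cfsg.Agent.Lib.Helper2.PMS
open Cfsg.Agent.Lib.Helper2.PMC Cfsg.Agent.Lib.Helper5.Chain

theorem chkRange_append (f : ℕ → Bool) : ∀ (k1 a k2 : ℕ), chkRange f a k1 = true →
    chkRange f (a + k1) k2 = true → chkRange f a (k1 + k2) = true
  | 0, a, k2, _, h2 => by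
    rw [Nat.zero_add]
    rwa [Nat.add_zero] at h2
  | k1 + 1, a, k2, h1, h2 => by
    unfold chkRange at h1
    rw [Bool.and_eq_true] at h1
    have e : k1 + 1 + k2 = (k1 + k2) + 1 := by omega
    rw [e]
    unfold chkRange
    rw [Bool.and_eq_true]
    refine ⟨h1.1, chkRange_append f k1 (a + 1) k2 h1.2 ?_⟩
    have e2 : a + 1 + k1 = a + (k1 + 1) := by omega
    rw [e2]
    exact h2

theorem chkRange_all (f : ℕ → Bool) (n : ℕ) (h : chkRange f 0 n = true) : ∀ i < n, f i = true :=
  fun i hi => chkRange_spec f n 0 h i (Nat.zero_le i) (by omega)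

/-- the check of the table of an old letter -/
noncomputable def chkOld (px : ℕ → ℕ → ℕ) (n : ℕ) (pm : ℕ → ℕ → ℕ) (c : ℕ) : Bool :=
  chkRange (fun q => Nat.beq (pm c q) (px c q)) 0 n

/-- the check of the table of a new letter -/
noncomputable def chkNew (n nl : ℕ) (ds : List (List ℕ)) (pm : ℕ → ℕ → ℕ) (k : ℕ) : Bool :=
  ((ds.getD k []).all fun c => Nat.blt c (nl + k)) &&
    chkRange (fun q => Nat.beq (wappS pm (ds.getD k []) q) (pm (nl + k) q)) 0 n

theorem chkSLP_of_pieces (px : ℕ → ℕ → ℕ) (n nl : ℕ) (ds : List (List ℕ)) (pm : ℕ → ℕ → ℕ)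
    (hold : chkRange (chkOld px n pm) 0 nl = true)
    (hnew : chkRange (chkNew n nl ds pm) 0 ds.length = true) : chkSLP px n nl ds pm = true := by
  unfold chkSLP
  simp only [Bool.and_eq_true, List.all_eq_true, List.mem_range, beq_iff_eq, decide_eq_true_eq]
  constructor
  · intro c hc q hq
    have h1 := chkRange_all _ _ hold c hc
    unfold chkOld at h1
    have h2 := chkRange_all _ _ h1 q hq
    exact Nat.eq_of_beq_eq_true h2
  · intro k hk
    have h1 := chkRange_all _ _ hnew k hk
    unfold chkNew at h1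
    rw [Bool.and_eq_true, List.all_eq_true] at h1
    constructor
    · intro c hc
      have := h1.1 c hc
      rwa [Nat.blt_eq] at this
    · intro q hq
      exact Nat.eq_of_beq_eq_true (chkRange_all _ _ h1.2 q hq)

/-- the check of the inverse of a letter -/
noncomputable def chkInv1 (M : PModel) (iv : ℕ → ℕ) (c : ℕ) : Bool :=
  Nat.blt (iv c) M.nl && chkRange (fun q => Nat.beq (M.px (iv c) (M.px c q)) q) 0 M.n

theorem invMap_of_pieces (M : PModel) (iv : ℕ → ℕ)
    (h : chkRange (chkInv1 M iv) 0 M.nl = true) : InvMap M iv := by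
  intro c hc
  have h1 := chkRange_all _ _ h c hc
  unfold chkInv1 at h1
  rw [Bool.and_eq_true, Nat.blt_eq] at h1
  exact ⟨h1.1, fun q hq => Nat.eq_of_beq_eq_true (chkRange_all _ _ h1.2 q hq)⟩

end Cfsg.Agent.Lib.Helper5.Srch
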