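import Mathlib
import Cfsg.Agent.Lib.Helper2.CubD0

/-!
# S4415 PC1, sub-package K9 (`k9_eq_one`).  Paper: notes/S4415_PC1_helper9.md
-/

set_option autoImplicit false

namespace Cfsg.Agent.Lib.Helper2.Cub

/-- In a `ZMod 3`-module, `r • u = 0` with `r` prime to `3` forces `u = 0`. -/
theorem k9_nsmul_eq_zero {V : Type*} [AddCommGroup V] [Module (ZMod 3) V]
    (r : ℕ) (hr : Nat.Coprime r 3) (u : V) (h : r • u = 0) : u = 0 := by
  have h3 : (3 : ℕ) • u = 0 := by
    have : ((3 : ℕ) : ZMod 3) • u = 0 := by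
      have h0 : ((3 : ℕ) : ZMod 3) = 0 := by decide
      rw [h0, zero_smul]
    rwa [Nat.cast_smul_eq_nsmul] at this
  have hg : (Nat.gcd r 3 : ℤ) • u = 0 := by
    rw [Nat.gcd_eq_gcd_ab, add_smul, mul_smul, mul_smul]
    have e1 : ((r : ℕ) : ℤ) • (Nat.gcdA r 3 • u) = Nat.gcdA r 3 • ((r : ℤ) • u) := smul_comm _ _ _
    have e2 : ((3 : ℕ) : ℤ) • (Nat.gcdB r 3 • u) = Nat.gcdB r 3 • (((3 : ℕ) : ℤ) • u) :=
      smul_comm _ _ _
    rw [e1, e2, natCast_zsmul, natCast_zsmul, h, h3, smul_zero, smul_zero, add_zero]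
  rw [hr] at hg
  simpa using hg

/-- The prime case of K9. -/
theorem k9_prime {V : Type*} [AddCommGroup V] [Module (ZMod 3) V] [Finite V]
    (g : V →ₗ[ZMod 3] V) (r : ℕ) (hr : r.Prime) (hr5 : 5 ≤ r) (hg : g ^ r = 1)
    (hU : Nat.card (LinearMap.range (g - 1)) ≤ 9) : g = 1 := by
  classical
  haveI : Fact r.Prime := ⟨hr⟩
  haveI : Fintype (LinearMap.range (g - 1)) := Fintype.ofFinite _
  -- g maps U into U
  have hmaps : ∀ u ∈ LinearMap.range (g - 1), g u ∈ LinearMap.range (g - 1) := by
    rintro u ⟨v, rfl⟩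
    refine ⟨g v, ?_⟩
    simp [LinearMap.sub_apply, map_sub]
  let σ : Function.End (LinearMap.range (g - 1)) := fun u => ⟨g u.1, hmaps u.1 u.2⟩
  have hσpow : ∀ k : ℕ, ∀ u : LinearMap.range (g - 1), ((σ ^ k) u).1 = (g ^ k) u.1 := by
    intro k
    induction k with
    | zero => intro u; rfl
    | succ k ih =>
      intro u
      rw [pow_succ', pow_succ']
      show g ((σ ^ k) u).1 = (g * g ^ k) u.1
      rw [ih u]; rfl
  have hσr : σ ^ r ^ 1 = 1 := by
    rw [pow_one]
    funext u
    apply Subtype.ext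
    rw [hσpow r u, hg]; rfl
  have hmod := Equiv.Perm.card_fixedPoints_modEq (f := σ) (p := r) (n := 1) hσr
  -- geometric sum
  have hgeom : (∑ i ∈ Finset.range r, g ^ i) * (g - 1) = 0 := by
    rw [geom_sum_mul, hg, sub_self]
  -- fixed points are zero
  have hfix : ∀ u : LinearMap.range (g - 1), u ∈ Function.fixedPoints σ → u = 0 := by
    intro u hu
    have hgu : g u.1 = u.1 := by
      have := congrArg Subtype.val hu
      exact this
    have hpow : ∀ i : ℕ, (g ^ i) u.1 = u.1 := by
      intro i
      induction i with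
      | zero => rfl
      | succ i ih => rw [pow_succ]; show (g ^ i) (g u.1) = u.1; rw [hgu, ih]
    obtain ⟨v, hv⟩ := u.2
    have h1 : (∑ i ∈ Finset.range r, g ^ i) u.1 = r • u.1 := by
      rw [LinearMap.sum_apply]
      simp [hpow]
    have h2 : (∑ i ∈ Finset.range r, g ^ i) u.1 = 0 := by
      rw [← hv]
      have := congrArg (fun φ : V →ₗ[ZMod 3] V => φ v) hgeom
      simpa using this
    have h3 : r • u.1 = 0 := by rw [← h1, h2]
    have hcop : Nat.Coprime r 3 := by
      rw [Nat.coprime_primes hr Nat.prime_three]; omega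
    apply Subtype.ext
    exact k9_nsmul_eq_zero r hcop u.1 h3
  have hfixcard : Fintype.card (Function.fixedPoints σ) = 1 := by
    rw [Fintype.card_eq_one_iff]
    refine ⟨⟨0, ?_⟩, ?_⟩
    · show σ 0 = 0
      apply Subtype.ext
      show g 0 = 0
      exact map_zero g
    · rintro ⟨u, hu⟩
      apply Subtype.ext
      exact hfix u hu
  rw [hfixcard] at hmod
  -- card U is a power of 3
  have hcardpow : Nat.card (LinearMap.range (g - 1)) =
      3 ^ Module.finrank (ZMod 3) (LinearMap.range (g - 1)) := by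
    rw [Module.natCard_eq_pow_finrank (K := ZMod 3) (V := LinearMap.range (g - 1))]
    simp
  have hcard1 : Nat.card (LinearMap.range (g - 1)) = 1 := by
    rw [Nat.card_eq_fintype_card] at hU hcardpow ⊢
    set d := Module.finrank (ZMod 3) (LinearMap.range (g - 1)) with hd
    set c := Fintype.card (LinearMap.range (g - 1)) with hc
    have hd2 : d ≤ 2 := by
      by_contra hcon
      have h3 : 3 ≤ d := by omega
      have : 3 ^ 3 ≤ 3 ^ d := Nat.pow_le_pow_right (by norm_num) h3
      omega
    have hdvd : r ∣ c - 1 := by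
      have hc1 : 1 ≤ c := by rw [hcardpow]; exact Nat.one_le_pow _ _ (by norm_num)
      exact (Nat.modEq_iff_dvd' hc1).mp hmod.symm
    interval_cases d
    · simpa using hcardpow
    · exfalso
      rw [hcardpow] at hdvd
      have : r ≤ 2 := Nat.le_of_dvd (by norm_num) (by simpa using hdvd)
      omega
    · exfalso
      rw [hcardpow] at hdvd
      have h8 : r ∣ 2 ^ 3 := by simpa using hdvd
      have := (Nat.prime_dvd_prime_iff_eq hr Nat.prime_two).mp (hr.dvd_of_dvd_pow h8)
      omega
  -- so U = ⊥ and g = 1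
  have hbot : ∀ v : V, (g - 1) v = 0 := by
    intro v
    have hsub : Subsingleton (LinearMap.range (g - 1)) := by
      rw [← Finite.card_le_one_iff_subsingleton]; omega
    have := congrArg Subtype.val
      (Subsingleton.elim (⟨(g - 1) v, ⟨v, rfl⟩⟩ : LinearMap.range (g - 1)) 0)
    exact this
  apply LinearMap.ext
  intro v
  have := hbot v
  rw [LinearMap.sub_apply, sub_eq_zero] at this
  exact this

/-- K9 = Lemma (K) in the form used: an `F_3`-linear map of order prime to 6 whose `f - 1` has at most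
nine values is the identity. -/
theorem k9_eq_one {V : Type*} [AddCommGroup V] [Module (ZMod 3) V] [Finite V]
    (f : V →ₗ[ZMod 3] V) (m : ℕ) (hm : Nat.Coprime m 6) (hf : f ^ m = 1)
    (hU : Nat.card (LinearMap.range (f - 1)) ≤ 9) : f = 1 := by
  induction m using Nat.strong_induction_on with
  | _ m ih =>
    by_cases hm1 : m = 1
    · subst hm1; simpa using hf
    · obtain ⟨r, hr, hrm⟩ := Nat.exists_prime_and_dvd hm1
      obtain ⟨m', rfl⟩ := hrm
      have hr6 : Nat.Coprime r 6 := Nat.Coprime.coprime_dvd_left (Dvd.intro _ rfl) hm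
      have hm'6 : Nat.Coprime m' 6 := Nat.Coprime.coprime_dvd_left (Dvd.intro_left _ rfl) hm
      have hr5 : 5 ≤ r := by
        have h2 : r ≠ 2 := by rintro rfl; revert hr6; decide
        have h3 : r ≠ 3 := by rintro rfl; revert hr6; decide
        have h4 : r ≠ 4 := by rintro rfl; revert hr6; decide
        have := hr.two_le
        omega
      have hm'pos : 0 < m' := by
        rcases Nat.eq_zero_or_pos m' with h | h
        · subst h; revert hm'6; decide
        · exact h
      have hlt : m' < r * m' := by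
        have : 2 * m' ≤ r * m' := Nat.mul_le_mul_right _ hr.two_le
        omega
      -- g := f ^ m'
      have hgr : (f ^ m') ^ r = 1 := by rw [← pow_mul, mul_comm]; exact hf
      have hrange : LinearMap.range (f ^ m' - 1) ≤ LinearMap.range (f - 1) := by
        have : f ^ m' - 1 = (f - 1) * ∑ i ∈ Finset.range m', f ^ i := (mul_geom_sum f m').symm
        rw [this]
        exact LinearMap.range_comp_le_range _ _
      have hcard : Nat.card (LinearMap.range (f ^ m' - 1)) ≤ 9 :=
        le_trans (Nat.card_le_card_of_injective (Submodule.inclusion hrange)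
          (Submodule.inclusion_injective hrange)) hU
      have hg1 : f ^ m' = 1 := k9_prime (f ^ m') r hr hr5 hgr hcard
      exact ih m' hlt hm'6 hg1

end Cfsg.Agent.Lib.Helper2.Cub
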