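import Mathlib
import Cfsg.Agent.Lib.Helper5.JordanType

set_option autoImplicit false

/-!
Jordan types of nilpotent endomorphisms through the dimensions of the kernels of their powers.
-/

open Module

namespace Cfsg.Agent.Lib.Helper5.UniO

universe u v w

section jt
variable {F : Type u} [Field F] {V : Type v} [AddCommGroup V] [Module F V]
  {V' : Type w} [AddCommGroup V'] [Module F V']

/-- `μ` is the multiset of Jordan block sizes of the nilpotent endomorphism `N`. -/
def HasJT (N : Module.End F V) (μ : Multiset ℕ) : Prop :=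
  (∀ a ∈ μ, 0 < a) ∧ ∀ k, finrank F (LinearMap.ker (N ^ k)) = (μ.map (fun a => min a k)).sum

theorem HasJT.unique {N : Module.End F V} {μ ν : Multiset ℕ} (h : HasJT N μ) (h' : HasJT N ν) :
    μ = ν :=
  multiset_eq_of_sum_min_eq μ ν h.1 h'.1 (fun k => by rw [← h.2 k, ← h'.2 k])

theorem exists_hasJT [FiniteDimensional F V] (N : Module.End F V) (hN : IsNilpotent N) :
    ∃ μ, HasJT N μ := by
  obtain ⟨m, hm⟩ := hN
  obtain ⟨ι, _, e, he, hd⟩ := exists_jordanDecomp N m hm
  refine ⟨(Finset.univ : Finset ι).val.map e, ?_, fun k => hd.finrank_ker_pow' k⟩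
  intro a ha
  obtain ⟨i, _, rfl⟩ := Multiset.mem_map.1 ha
  exact he i

theorem sum_min_of_le (μ : Multiset ℕ) (k : ℕ) (hk : ∀ a ∈ μ, a ≤ k) :
    (μ.map (fun a => min a k)).sum = μ.sum :=
  (sum_min_eq_sum_iff μ k).2 hk

theorem HasJT.sum_eq [FiniteDimensional F V] {N : Module.End F V} {μ : Multiset ℕ}
    (h : HasJT N μ) (hN : IsNilpotent N) : μ.sum = finrank F V := by
  obtain ⟨m, hm⟩ := hN
  have h0 : N ^ (m + μ.sum) = 0 := by rw [pow_add, hm, zero_mul]
  have h1 := h.2 (m + μ.sum)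
  rw [h0, LinearMap.ker_zero, finrank_top, sum_min_of_le] at h1
  · exact h1.symm
  · intro a ha
    have := Multiset.le_sum_of_mem ha
    omega

theorem HasJT.pow_eq_zero [FiniteDimensional F V] {N : Module.End F V} {μ : Multiset ℕ}
    (h : HasJT N μ) (hs : μ.sum = finrank F V) {k : ℕ} (hk : ∀ a ∈ μ, a ≤ k) : N ^ k = 0 := by
  have h1 := h.2 k
  rw [sum_min_of_le μ k hk, hs] at h1
  exact LinearMap.ker_eq_top.1 (Submodule.eq_top_of_finrank_eq h1)

theorem HasJT.isNilpotent [FiniteDimensional F V] {N : Module.End F V} {μ : Multiset ℕ}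
    (h : HasJT N μ) (hs : μ.sum = finrank F V) : IsNilpotent N :=
  ⟨μ.sum, h.pow_eq_zero hs (fun _ ha => Multiset.le_sum_of_mem ha)⟩

theorem HasJT.le_of_pow_eq_zero [FiniteDimensional F V] {N : Module.End F V} {μ : Multiset ℕ}
    (h : HasJT N μ) {k : ℕ} (hk : N ^ k = 0) : ∀ a ∈ μ, a ≤ k := by
  have hs := h.sum_eq ⟨k, hk⟩
  have h1 := h.2 k
  rw [hk, LinearMap.ker_zero, finrank_top, ← hs] at h1
  exact (sum_min_eq_sum_iff μ k).1 h1.symm

theorem HasJT.card_eq {N : Module.End F V} {μ : Multiset ℕ} (h : HasJT N μ) :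
    μ.card = finrank F (LinearMap.ker N) := by
  have h1 := h.2 1
  rw [pow_one] at h1
  rw [h1]
  have h2 : μ.map (fun a => min a 1) = μ.map (fun _ => 1) := by
    apply Multiset.map_congr rfl
    intro a ha
    have := h.1 a ha
    omega
  rw [h2, Multiset.map_const', Multiset.sum_replicate, smul_eq_mul, mul_one]

theorem HasJT.count_add {N : Module.End F V} {μ : Multiset ℕ} (h : HasJT N μ) (e : ℕ)
    (he : 0 < e) :
    μ.count e + finrank F (LinearMap.ker (N ^ (e - 1))) + finrank F (LinearMap.ker (N ^ (e + 1)))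
      = 2 * finrank F (LinearMap.ker (N ^ e)) := by
  have h1 := sum_min_succ μ e
  have h2 := sum_min_succ μ (e - 1)
  have h3 := countP_pred_lt μ e he
  have h4 : e - 1 + 1 = e := by omega
  rw [h4] at h2
  rw [h.2 (e - 1), h.2 (e + 1), h.2 e]
  omega

theorem HasJT.of_intertwine (Ψ : V ≃ₗ[F] V') {N : Module.End F V} {P : Module.End F V'}
    (hΨ : ∀ u, Ψ (N u) = P (Ψ u)) {μ : Multiset ℕ} (h : HasJT N μ) : HasJT P μ :=
  ⟨h.1, fun k => by rw [← finrank_ker_pow_eq_of_intertwine Ψ N P hΨ k, h.2 k]⟩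

theorem HasJT.conj (e : V ≃ₗ[F] V') {N : Module.End F V} {μ : Multiset ℕ} (h : HasJT N μ) :
    HasJT (e.conj N) μ := by
  apply h.of_intertwine e
  intro u
  rw [LinearEquiv.conj_apply_apply, LinearEquiv.symm_apply_apply]

theorem HasJT.of_ker_eq {N N' : Module.End F V} {μ : Multiset ℕ} (h : HasJT N μ)
    (hk : ∀ k, LinearMap.ker (N' ^ k) = LinearMap.ker (N ^ k)) : HasJT N' μ :=
  ⟨h.1, fun k => by rw [hk k, h.2 k]⟩

theorem prodMap_pow (N : Module.End F V) (N' : Module.End F V') (k : ℕ) :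
    (N.prodMap N') ^ k = (N ^ k).prodMap (N' ^ k) := by
  induction k with
  | zero => simp
  | succ k ih => rw [pow_succ, pow_succ, pow_succ, ih, LinearMap.prodMap_mul]

/-- the product of two submodules as a product type -/
def prodSubEquiv (p : Submodule F V) (q : Submodule F V') : ↥(p.prod q) ≃ₗ[F] (↥p × ↥q) where
  toFun x := (⟨x.1.1, x.2.1⟩, ⟨x.1.2, x.2.2⟩)
  invFun y := ⟨(y.1.1, y.2.1), ⟨y.1.2, y.2.2⟩⟩
  map_add' _ _ := rfl
  map_smul' _ _ := rfl
  left_inv _ := rfl
  right_inv _ := rfl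

theorem finrank_prodSub [FiniteDimensional F V] [FiniteDimensional F V'] (p : Submodule F V)
    (q : Submodule F V') : finrank F ↥(p.prod q) = finrank F ↥p + finrank F ↥q := by
  rw [(prodSubEquiv p q).finrank_eq, Module.finrank_prod]

theorem HasJT.prodMap [FiniteDimensional F V] [FiniteDimensional F V'] {N : Module.End F V}
    {N' : Module.End F V'} {μ μ' : Multiset ℕ}
    (h : HasJT N μ) (h' : HasJT N' μ') : HasJT (N.prodMap N') (μ + μ') := by
  refine ⟨?_, fun k => ?_⟩
  · intro a ha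
    rcases Multiset.mem_add.1 ha with ha | ha
    · exact h.1 a ha
    · exact h'.1 a ha
  · rw [prodMap_pow, LinearMap.ker_prodMap, finrank_prodSub, h.2 k, h'.2 k, Multiset.map_add,
      Multiset.sum_add]

theorem HasJT.of_isCompl [FiniteDimensional F V] {N : Module.End F V} {W W' : Submodule F V}
    (hc : IsCompl W W')
    (hW : ∀ v ∈ W, N v ∈ W) (hW' : ∀ v ∈ W', N v ∈ W') {ν ν' : Multiset ℕ}
    (h : HasJT (N.restrict hW) ν) (h' : HasJT (N.restrict hW') ν') : HasJT N (ν + ν') := by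
  apply (h.prodMap h').of_intertwine (Submodule.prodEquivOfIsCompl W W' hc)
  rintro ⟨a, b⟩
  rw [LinearMap.prodMap_apply, Submodule.coe_prodEquivOfIsCompl', Submodule.coe_prodEquivOfIsCompl',
    map_add]
  rfl

theorem hasJT_JBmul (e : ℕ) (he : 0 < e) : HasJT (JBmul F e) {e} := by
  refine ⟨?_, fun k => ?_⟩
  · intro a ha
    rw [Multiset.mem_singleton.1 ha]
    exact he
  · rw [finrank_ker_JBmul_pow, Multiset.map_singleton, Multiset.sum_singleton]

theorem hasJT_of_subsingleton [Subsingleton V] (N : Module.End F V) : HasJT N 0 := by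
  refine ⟨fun a ha => absurd ha (Multiset.notMem_zero a), fun k => ?_⟩
  rw [Multiset.map_zero, Multiset.sum_zero]
  exact Module.finrank_zero_of_subsingleton

end jt

end Cfsg.Agent.Lib.Helper5.UniO
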