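import Mathlib
import Cfsg.Prelude.Def_Classical
import Cfsg.Prelude.Def_GeometricClasses
import Cfsg.Agent.Lib.Helper5.UniO1
import Cfsg.Agent.Lib.Helper2.Spinor6

set_option autoImplicit false

/-!
Isometries of odd order lie in Ω; unipotent elements with small blocks have order `p`.
-/

open Module

namespace Cfsg.Agent.Lib.Helper5.UniO

universe u

section omega
variable {F : Type u} [Field F] [Fintype F] {ι : Type} [Fintype ι] [DecidableEq ι]

theorem mem_omegaGL_of_pow_eq_one (h2 : (2 : F) ≠ 0) (Q : QuadraticForm F (ι → F))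
    (hQ : (QuadraticMap.polarBilin Q).Nondegenerate) (hn : 2 ≤ Fintype.card ι) (x : GL ι F)
    (hx : x ∈ Cfsg.isometryGroup F ⇑Q) (n : ℕ) (hodd : Odd n) (hxn : x ^ n = 1) :
    x ∈ Cfsg.Geo.omegaGL ⇑Q := by
  classical
  obtain ⟨f, hsurj, -, hsq⟩ := Cfsg.Agent.Lib.Helper2.Spinor.exists_ab_structure h2 hQ hn
  let g : ↥(Cfsg.isometryGroup F ⇑Q) := ⟨x, hx⟩
  have hsq' : ∀ a : Abelianization ↥(Cfsg.isometryGroup F ⇑Q), a * a = 1 := by
    intro a
    obtain ⟨p, rfl⟩ := hsurj a
    exact hsq p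
  have hgn : g ^ n = 1 := by
    apply Subtype.ext
    rw [Subgroup.coe_pow, Subgroup.coe_one]
    exact hxn
  have h1 : (Abelianization.of g) ^ n = 1 := by rw [← map_pow, hgn, map_one]
  obtain ⟨r, rfl⟩ := hodd
  have h3 : Abelianization.of g = 1 := by
    rw [pow_succ, pow_mul, pow_two, hsq', one_pow, one_mul] at h1
    exact h1
  have hg : g ∈ commutator ↥(Cfsg.isometryGroup F ⇑Q) := by
    rw [← Abelianization.ker_of]
    exact h3
  exact ⟨g, hg, rfl⟩

end omega

section pow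
variable {F : Type u} [Field F] {ι : Type} [Fintype ι] [DecidableEq ι]

theorem toLin'_sub_one (x : GL ι F) :
    (Matrix.toLin' (x : Matrix ι ι F) - 1 : Module.End F (ι → F))
      = Matrix.toLin' ((x : Matrix ι ι F) - 1) := by
  rw [map_sub, Matrix.toLin'_one]
  rfl

theorem toLin'_pow' (M : Matrix ι ι F) (k : ℕ) :
    (Matrix.toLin' M : Module.End F (ι → F)) ^ k = Matrix.toLin' (M ^ k) := by
  induction k with
  | zero =>
    rw [pow_zero, pow_zero, Matrix.toLin'_one]
    rfl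
  | succ k ih => rw [pow_succ, pow_succ, Matrix.toLin'_mul, ih, Module.End.mul_eq_comp]

theorem pow_char_eq_one (p : ℕ) [Fact p.Prime] [CharP F p] (x : GL ι F) {μ : Multiset ℕ}
    (hμ : HasJT (Matrix.toLin' (x : Matrix ι ι F) - 1 : Module.End F (ι → F)) μ)
    (hs : μ.sum = Fintype.card ι)
    (hp : ∀ a ∈ μ, a ≤ p) : x ^ p = 1 := by
  rcases isEmpty_or_nonempty ι with hι | hι
  · exact Subsingleton.elim _ _
  · have h0 := hμ.pow_eq_zero (by rw [hs, Module.finrank_fintype_fun_eq_card]) hp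
    rw [toLin'_sub_one, toLin'_pow'] at h0
    have h1 : ((x : Matrix ι ι F) - 1) ^ p = 0 := by
      apply Matrix.toLin'.injective
      rw [h0, map_zero]
    rw [sub_pow_char_of_commute p (Commute.one_right _), one_pow, sub_eq_zero] at h1
    apply Units.ext
    rw [Units.val_pow_eq_pow_val, h1, Units.val_one]

theorem not_scalar_of_hasJT (x : GL ι F) {μ : Multiset ℕ}
    (hμ : HasJT (Matrix.toLin' (x : Matrix ι ι F) - 1 : Module.End F (ι → F)) μ)
    (hs : μ.sum = Fintype.card ι)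
    (h1 : ∃ a ∈ μ, 2 ≤ a) (z : F) : (x : Matrix ι ι F) ≠ z • (1 : Matrix ι ι F) := by
  intro hz
  obtain ⟨a, ha, ha2⟩ := h1
  have hfr : μ.sum = finrank F (ι → F) := by rw [hs, Module.finrank_fintype_fun_eq_card]
  have hN : (Matrix.toLin' (x : Matrix ι ι F) - 1 : Module.End F (ι → F)) = (z - 1) • 1 := by
    rw [hz, map_smul, Matrix.toLin'_one]
    show z • (1 : Module.End F (ι → F)) - 1 = (z - 1) • (1 : Module.End F (ι → F))
    rw [sub_smul z (1 : F) (1 : Module.End F (ι → F)), one_smul]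
  obtain ⟨m, hm⟩ := hμ.isNilpotent hfr
  rw [hN, smul_pow, one_pow] at hm
  have hpos : 0 < Fintype.card ι := by
    have := Multiset.le_sum_of_mem ha
    omega
  obtain ⟨i⟩ := Fintype.card_pos_iff.1 hpos
  have hz1 : (z - 1) ^ m = 0 := by
    have := congrFun (LinearMap.congr_fun hm (Pi.single i 1)) i
    simpa using this
  have hz0 : z - 1 = 0 := pow_eq_zero_iff (n := m) (by
    rintro rfl
    simp at hz1) |>.1 hz1
  have hN0 : (Matrix.toLin' (x : Matrix ι ι F) - 1 : Module.End F (ι → F)) ^ 1 = 0 := by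
    rw [pow_one, hN, hz0, zero_smul]
  have := hμ.le_of_pow_eq_zero hN0 a ha
  omega

end pow

end Cfsg.Agent.Lib.Helper5.UniO
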