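import Mathlib

/-!
# S3816 (Flavell: fixed points of `[H,P]`) — definitions for the internal formulation

`G` a finite group, `P H : Subgroup G`, `P` of odd prime order `p` normalising the solvable
`p'`-group `H`.  `cmE P g = [g,P]`, `KK P H = ⟨C_{[g,P]}(P) : g ∈ H⟩`,
`Goal P H : C_{[H,P]}(P) ≤ KK P H`.  Paper proof: `notes/S3816_proof_helper5.md`.
-/

set_option autoImplicit false

namespace Cfsg.Agent.Lib.Helper5.FlvDefs

open scoped Pointwise commutatorElement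

universe u

section
variable {G : Type u} [Group G]

/-- `[g, P]` : the subgroup generated by the `g⁻¹ * (a⁻¹ * g * a)`, `a ∈ P`. -/
def cmE (P : Subgroup G) (g : G) : Subgroup G :=
  Subgroup.closure {c : G | ∃ a ∈ P, c = g⁻¹ * (a⁻¹ * g * a)}

/-- `K(H) = ⟨C_{[g,P]}(P) : g ∈ H⟩`. -/
def KK (P H : Subgroup G) : Subgroup G :=
  ⨆ g ∈ H, cmE P g ⊓ Subgroup.centralizer (P : Set G)

/-- `N` is normalised by `H` and by `P`. -/
def NormBy (P H N : Subgroup G) : Prop :=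
  H ≤ Subgroup.normalizer (N : Set G) ∧ P ≤ Subgroup.normalizer (N : Set G)

/-- `N` is a minimal normal subgroup of `HP` contained in `H`. -/
def MinNormal (P H N : Subgroup G) : Prop :=
  N ≤ H ∧ N ≠ ⊥ ∧ NormBy P H N ∧
    ∀ N' : Subgroup G, N' ≤ N → N' ≠ ⊥ → NormBy P H N' → N' = N

/-- the standing hypotheses -/
structure Ctx (p : ℕ) (P H : Subgroup G) : Prop where
  hp : p.Prime
  hp2 : p ≠ 2
  cardP : Nat.card P = p
  norm : P ≤ Subgroup.normalizer (H : Set G)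
  solv : Group.IsSolvable H
  cop : (Nat.card H).Coprime p

/-- the conclusion `C_{[H,P]}(P) ≤ K(H)` -/
def Goal (P H : Subgroup G) : Prop :=
  ⁅H, P⁆ ⊓ Subgroup.centralizer (P : Set G) ≤ KK P H

end

section
variable {G : Type u} [Group G]

/-- non-central case: `H = V ⋊ A`, `A = [a,P]` -/
structure NCSplit (P H V A : Subgroup G) : Prop where
  AH : A ≤ H
  PA : P ≤ Subgroup.normalizer (A : Set G)
  disj : A ⊓ V = ⊥
  sup : V ⊔ A = H
  gen : ∃ a ∈ A, cmE P a = A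

/-- non-central case: `A` is an `r`-group with a unique maximal proper `P`-invariant subgroup `B₁` -/
structure NCMax (P A B₁ : Subgroup G) (r : ℕ) : Prop where
  r_prime : r.Prime
  pA : IsPGroup r A
  lt : B₁ < A
  PB : P ≤ Subgroup.normalizer (B₁ : Set G)
  AB : A ≤ Subgroup.normalizer (B₁ : Set G)
  max : ∀ B : Subgroup G, B ≤ A → B ≠ A → P ≤ Subgroup.normalizer (B : Set G) → B ≤ B₁

/-- central case: `⟨z⟩` is the unique minimal normal subgroup, central, not in `K` -/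
structure CData (P H : Subgroup G) (z : G) (q : ℕ) : Prop where
  hq : q.Prime
  zH : z ∈ H
  zord : orderOf z = q
  zcentH : z ∈ Subgroup.centralizer (H : Set G)
  zP : z ∈ Subgroup.centralizer (P : Set G)
  znotK : z ∉ KK P H
  zmin : ∀ N : Subgroup G, N ≤ H → N ≠ ⊥ → NormBy P H N → z ∈ N

/-- `Z₁ = C_{Z(H)}(P)` -/
def Z1 (P H : Subgroup G) : Subgroup G :=
  H ⊓ Subgroup.centralizer (H : Set G) ⊓ Subgroup.centralizer (P : Set G)

/-- central case: a chief factor `M/Z₁` of exponent `s`, `M/Z₁` abelian -/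
structure CChief (P H Z₁ M : Subgroup G) (s : ℕ) : Prop where
  s_prime : s.Prime
  ZM : Z₁ ≤ M
  ne : M ≠ Z₁
  MH : M ≤ H
  nM : NormBy P H M
  chief : ∀ X : Subgroup G, Z₁ ≤ X → X ≤ M → NormBy P H X → X = Z₁ ∨ X = M
  comm_le : ⁅M, M⁆ ≤ Z₁
  exp : ∀ m ∈ M, m ^ s ∈ Z₁

/-- central case: elementary abelian normal `M > ⟨z⟩`, `M/⟨z⟩` chief, `[M,P] ≠ 1` -/
structure CMData (P H : Subgroup G) (z : G) (q : ℕ) (M : Subgroup G) : Prop where
  MH : M ≤ H
  nM : NormBy P H M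
  zM : z ∈ M
  comm : ∀ a ∈ M, ∀ b ∈ M, a * b = b * a
  exp : ∀ m ∈ M, m ^ q = 1
  chief : ∀ X : Subgroup G, X ≤ M → z ∈ X → NormBy P H X → X = Subgroup.zpowers z ∨ X = M
  notP : ¬ M ≤ Subgroup.centralizer (P : Set G)

/-- central case: `[M,H] ≤ ⟨z⟩`, `C_M(P) = ⟨z⟩`, `n ∉ C_H(M)`, all `[nm,P]` are complements of `M` -/
structure CNData (P H : Subgroup G) (z : G) (M : Subgroup G) (n : G) : Prop where
  nH : n ∈ H
  comm_le : ⁅M, H⁆ ≤ Subgroup.zpowers z
  fixM : M ⊓ Subgroup.centralizer (P : Set G) = Subgroup.zpowers z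
  n_not : n ∉ Subgroup.centralizer (M : Set G)
  compl : ∀ m ∈ M, cmE P (n * m) ⊓ M = ⊥ ∧ M ⊔ cmE P (n * m) = H

end

/-- a minimal counterexample -/
structure MinCE (p : ℕ) {G : Type u} [Group G] [Finite G] (P H : Subgroup G) : Prop where
  ctx : Ctx p P H
  bad : ¬ Goal P H
  ih : ∀ (G' : Type u) [Group G'] [Finite G'] (P' H' : Subgroup G'), Ctx p P' H' →
        Nat.card H' < Nat.card H → Goal P' H'

end Cfsg.Agent.Lib.Helper5.FlvDefs
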