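import Mathlib
import Cfsg.Agent.Lib.Helper5.FlvDefs
import Cfsg.Agent.Lib.Lead.CoprimeAction2
import Cfsg.Agent.Lib.Lead.Coprime

/-!
# S3816, package F: basic facts on `cmE P g = [g,P]` and `KK P H`
-/

set_option autoImplicit false

namespace Cfsg.Agent.Lib.Helper5.FlvF

open scoped Pointwise commutatorElement
open Cfsg.Agent.Lib.Helper5.FlvDefs
open Cfsg.Agent.Lib.Lead

universe u

section
variable {G : Type u} [Group G] {P H : Subgroup G}

theorem gen_mem_cmE (P : Subgroup G) (g : G) {a : G} (ha : a ∈ P) :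
    g⁻¹ * (a⁻¹ * g * a) ∈ cmE P g :=
  Subgroup.subset_closure ⟨a, ha, rfl⟩

theorem cmE_le_of {K : Subgroup G} {g : G} (h : ∀ a ∈ P, g⁻¹ * (a⁻¹ * g * a) ∈ K) :
    cmE P g ≤ K := by
  unfold cmE
  rw [Subgroup.closure_le]
  rintro c ⟨a, ha, rfl⟩
  exact h a ha

theorem cmE_le (hn : P ≤ Subgroup.normalizer (H : Set G)) {g : G} (hg : g ∈ H) :
    cmE P g ≤ H := by
  apply cmE_le_of
  intro a ha
  have h1 : a⁻¹ * g * a⁻¹⁻¹ ∈ H :=
    (Subgroup.mem_normalizer_iff.mp (hn (P.inv_mem ha)) g).mp hg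
  rw [inv_inv] at h1
  exact H.mul_mem (H.inv_mem hg) h1

theorem cmE_le_comm {X : Subgroup G} {g : G} (hg : g ∈ X) : cmE P g ≤ ⁅X, P⁆ := by
  apply cmE_le_of
  intro a ha
  have h1 : g⁻¹ * (a⁻¹ * g * a) = ⁅g⁻¹, a⁻¹⁆ := by
    simp only [commutatorElement_def]; group
  rw [h1]
  exact Subgroup.commutator_mem_commutator (X.inv_mem hg) (P.inv_mem ha)

theorem comm_eq_iSup (X : Subgroup G) : ⁅X, P⁆ = ⨆ g ∈ X, cmE P g := by
  apply le_antisymm
  · rw [Subgroup.commutator_le]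
    intro x hx a ha
    have h1 : ⁅x, a⁆ = (x⁻¹)⁻¹ * ((a⁻¹)⁻¹ * x⁻¹ * a⁻¹) := by
      simp only [commutatorElement_def]; group
    rw [h1]
    have h2 : cmE P x⁻¹ ≤ ⨆ g ∈ X, cmE P g :=
      le_iSup₂_of_le x⁻¹ (X.inv_mem hx) le_rfl
    exact h2 (gen_mem_cmE P x⁻¹ (P.inv_mem ha))
  · exact iSup₂_le fun g hg => cmE_le_comm hg

/-- a subgroup `P` normalises `closure S` if it maps `S` into `closure S` -/
theorem le_normalizer_closure {S : Set G}
    (h : ∀ b ∈ P, ∀ s ∈ S, b * s * b⁻¹ ∈ Subgroup.closure S) :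
    P ≤ Subgroup.normalizer ((Subgroup.closure S : Subgroup G) : Set G) := by
  have key : ∀ b ∈ P, ∀ x ∈ Subgroup.closure S, b * x * b⁻¹ ∈ Subgroup.closure S := by
    intro b hb x hx
    have hle : Subgroup.closure S ≤ (Subgroup.closure S).comap (MulAut.conj b).toMonoidHom := by
      rw [Subgroup.closure_le]
      intro s hs
      exact h b hb s hs
    exact hle hx
  intro b hb
  rw [Subgroup.mem_normalizer_iff]
  intro x
  constructor
  · exact key b hb x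
  · intro hx
    have := key b⁻¹ (P.inv_mem hb) _ hx
    simpa [mul_assoc] using this

theorem cmE_norm (g : G) : P ≤ Subgroup.normalizer (cmE P g : Set G) := by
  unfold cmE
  apply le_normalizer_closure
  rintro b hb s ⟨a, ha, rfl⟩
  have h1 : b * (g⁻¹ * (a⁻¹ * g * a)) * b⁻¹ =
      (g⁻¹ * ((b⁻¹)⁻¹ * g * b⁻¹))⁻¹ * (g⁻¹ * ((a * b⁻¹)⁻¹ * g * (a * b⁻¹))) := by group
  rw [h1]
  exact Subgroup.mul_mem _ (Subgroup.inv_mem _ (gen_mem_cmE P g (P.inv_mem hb)))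
    (gen_mem_cmE P g (P.mul_mem ha (P.inv_mem hb)))

/-- (F2) -/
theorem cmE_conj {c : G} (hc : c ∈ Subgroup.centralizer (P : Set G)) (g : G) :
    MulAut.conj c • cmE P g = cmE P (c * g * c⁻¹) := by
  have hcomm : ∀ a ∈ P, a * c = c * a := fun a ha => Subgroup.mem_centralizer_iff.mp hc a ha
  unfold cmE
  rw [Subgroup.smul_closure]
  congr 1
  ext x
  constructor
  · rintro ⟨s, ⟨a, ha, rfl⟩, rfl⟩
    refine ⟨a, ha, ?_⟩
    have h1 : a * c = c * a := hcomm a ha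
    have h2 : a⁻¹ * c = c * a⁻¹ := hcomm a⁻¹ (P.inv_mem ha)
    show c * (g⁻¹ * (a⁻¹ * g * a)) * c⁻¹ = (c * g * c⁻¹)⁻¹ * (a⁻¹ * (c * g * c⁻¹) * a)
    calc c * (g⁻¹ * (a⁻¹ * g * a)) * c⁻¹
        = c * g⁻¹ * (a⁻¹ * g) * (c⁻¹ * (c * a) * c⁻¹) := by group
      _ = c * g⁻¹ * (a⁻¹ * g) * (c⁻¹ * (a * c) * c⁻¹) := by rw [h1]
      _ = c * g⁻¹ * c⁻¹ * ((c * a⁻¹) * g * c⁻¹ * a) := by group
      _ = c * g⁻¹ * c⁻¹ * ((a⁻¹ * c) * g * c⁻¹ * a) := by rw [h2]
      _ = (c * g * c⁻¹)⁻¹ * (a⁻¹ * (c * g * c⁻¹) * a) := by group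
  · rintro ⟨a, ha, rfl⟩
    refine ⟨g⁻¹ * (a⁻¹ * g * a), ⟨a, ha, rfl⟩, ?_⟩
    have h1 : a * c = c * a := hcomm a ha
    have h2 : a⁻¹ * c = c * a⁻¹ := hcomm a⁻¹ (P.inv_mem ha)
    show c * (g⁻¹ * (a⁻¹ * g * a)) * c⁻¹ = (c * g * c⁻¹)⁻¹ * (a⁻¹ * (c * g * c⁻¹) * a)
    calc c * (g⁻¹ * (a⁻¹ * g * a)) * c⁻¹
        = c * g⁻¹ * (a⁻¹ * g) * (c⁻¹ * (c * a) * c⁻¹) := by group
      _ = c * g⁻¹ * (a⁻¹ * g) * (c⁻¹ * (a * c) * c⁻¹) := by rw [h1]
      _ = c * g⁻¹ * c⁻¹ * ((c * a⁻¹) * g * c⁻¹ * a) := by group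
      _ = c * g⁻¹ * c⁻¹ * ((a⁻¹ * c) * g * c⁻¹ * a) := by rw [h2]
      _ = (c * g * c⁻¹)⁻¹ * (a⁻¹ * (c * g * c⁻¹) * a) := by group

theorem KK_le (hn : P ≤ Subgroup.normalizer (H : Set G)) :
    KK P H ≤ ⁅H, P⁆ ⊓ Subgroup.centralizer (P : Set G) := by
  unfold KK
  exact iSup₂_le fun g hg => inf_le_inf_right _ (cmE_le_comm hg)

theorem KK_mono {H₁ : Subgroup G} (h : H₁ ≤ H) : KK P H₁ ≤ KK P H := by
  unfold KK
  exact iSup₂_le fun g hg => le_iSup₂_of_le g (h hg) le_rfl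

theorem cmE_inf_le_KK {g : G} (hg : g ∈ H) :
    cmE P g ⊓ Subgroup.centralizer (P : Set G) ≤ KK P H := by
  unfold KK
  exact le_iSup₂_of_le g hg le_rfl

theorem conj_smul_centralizer {c : G} (hc : c ∈ Subgroup.centralizer (P : Set G)) :
    MulAut.conj c • Subgroup.centralizer (P : Set G) ≤ Subgroup.centralizer (P : Set G) := by
  rintro x ⟨s, hs, rfl⟩
  exact Subgroup.mul_mem _ (Subgroup.mul_mem _ hc hs) (Subgroup.inv_mem _ hc)

/-- (F2) `K(H)` is normalised by `C_H(P)` -/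
theorem KK_norm :
    H ⊓ Subgroup.centralizer (P : Set G) ≤ Subgroup.normalizer (KK P H : Set G) := by
  have key : ∀ c ∈ H ⊓ Subgroup.centralizer (P : Set G), ∀ x ∈ KK P H,
      c * x * c⁻¹ ∈ KK P H := by
    rintro c ⟨hcH, hcC⟩ x hx
    have hle : KK P H ≤ (KK P H).comap (MulAut.conj c).toMonoidHom := by
      unfold KK
      apply iSup₂_le
      intro g hg y hy
      rw [Subgroup.mem_comap]
      show c * y * c⁻¹ ∈ _
      have h1 : c * y * c⁻¹ ∈ cmE P (c * g * c⁻¹) := by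
        rw [← cmE_conj hcC g]
        exact ⟨y, hy.1, rfl⟩
      have h2 : c * y * c⁻¹ ∈ Subgroup.centralizer (P : Set G) :=
        Subgroup.mul_mem _ (Subgroup.mul_mem _ hcC hy.2) (Subgroup.inv_mem _ hcC)
      exact (le_iSup₂_of_le (f := fun g (_ : g ∈ H) =>
        cmE P g ⊓ Subgroup.centralizer (P : Set G)) (c * g * c⁻¹)
        (H.mul_mem (H.mul_mem hcH hg) (H.inv_mem hcH)) le_rfl) ⟨h1, h2⟩
    exact hle hx
  intro c hc
  rw [Subgroup.mem_normalizer_iff]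
  intro x
  constructor
  · exact key c hc x
  · intro hx
    have := key c⁻¹ (Subgroup.inv_mem _ hc) _ hx
    simpa [mul_assoc] using this

/-- (F5) -/
theorem cmE_mul_sup {V : Subgroup G} (hPV : P ≤ Subgroup.normalizer (V : Set G)) {v a : G}
    (hv : v ∈ V) (ha : a ∈ Subgroup.normalizer (V : Set G)) :
    cmE P (v * a) ⊔ V = cmE P a ⊔ V ∧ cmE P (a * v) ⊔ V = cmE P a ⊔ V := by
  -- conjugates of `v`
  have hbv : ∀ b ∈ P, b⁻¹ * v * b ∈ V := by
    intro b hb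
    have := (Subgroup.mem_normalizer_iff.mp (hPV (P.inv_mem hb)) v).mp hv
    simpa using this
  have hainv : ∀ w ∈ V, a⁻¹ * w * a ∈ V := by
    intro w hw
    have := (Subgroup.mem_normalizer_iff.mp (Subgroup.inv_mem _ ha) w).mp hw
    simpa using this
  refine ⟨?_, ?_⟩
  · apply le_antisymm
    · apply sup_le _ le_sup_right
      apply cmE_le_of
      intro b hb
      have h1 : (v * a)⁻¹ * (b⁻¹ * (v * a) * b) =
          (a⁻¹ * (v⁻¹ * (b⁻¹ * v * b)) * a) * (a⁻¹ * (b⁻¹ * a * b)) := by group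
      rw [h1]
      exact Subgroup.mul_mem _
        (Subgroup.mem_sup_right (hainv _ (V.mul_mem (V.inv_mem hv) (hbv b hb))))
        (Subgroup.mem_sup_left (gen_mem_cmE P a hb))
    · apply sup_le _ le_sup_right
      apply cmE_le_of
      intro b hb
      have h1 : a⁻¹ * (b⁻¹ * a * b) =
          (a⁻¹ * (v⁻¹ * (b⁻¹ * v * b)) * a)⁻¹ * ((v * a)⁻¹ * (b⁻¹ * (v * a) * b)) := by group
      rw [h1]
      exact Subgroup.mul_mem _
        (Subgroup.mem_sup_right (V.inv_mem (hainv _ (V.mul_mem (V.inv_mem hv) (hbv b hb)))))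
        (Subgroup.mem_sup_left (gen_mem_cmE P (v * a) hb))
  · apply le_antisymm
    · apply sup_le _ le_sup_right
      apply cmE_le_of
      intro b hb
      have h1 : (a * v)⁻¹ * (b⁻¹ * (a * v) * b) =
          v⁻¹ * (a⁻¹ * (b⁻¹ * a * b)) * (b⁻¹ * v * b) := by group
      rw [h1]
      exact Subgroup.mul_mem _ (Subgroup.mul_mem _ (Subgroup.mem_sup_right (V.inv_mem hv))
        (Subgroup.mem_sup_left (gen_mem_cmE P a hb))) (Subgroup.mem_sup_right (hbv b hb))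
    · apply sup_le _ le_sup_right
      apply cmE_le_of
      intro b hb
      have h1 : a⁻¹ * (b⁻¹ * a * b) =
          v * ((a * v)⁻¹ * (b⁻¹ * (a * v) * b)) * (b⁻¹ * v * b)⁻¹ := by group
      rw [h1]
      exact Subgroup.mul_mem _ (Subgroup.mul_mem _ (Subgroup.mem_sup_right hv)
        (Subgroup.mem_sup_left (gen_mem_cmE P (a * v) hb)))
        (Subgroup.mem_sup_right (V.inv_mem (hbv b hb)))

end

section
variable {G : Type u} [Group G] [Finite G] {p : ℕ} {P H : Subgroup G}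

theorem isSolvable_of_card_prime (hp : p.Prime) (hP : Nat.card P = p) : Group.IsSolvable P := by
  haveI : Fact p.Prime := ⟨hp⟩
  haveI : IsCyclic P := isCyclic_of_prime_card hP
  letI := IsCyclic.commGroup (α := P)
  exact isSolvable_of_comm (fun a b => mul_comm a b)

theorem pow_card_eq_one_of_mem (hP : Nat.card P = p) {a : G} (ha : a ∈ P) : a ^ p = 1 := by
  have h1 : (⟨a, ha⟩ : P) ^ Nat.card P = 1 := pow_card_eq_one'
  rw [hP] at h1
  exact congrArg Subtype.val h1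

/-- (F1) `[[g,P],P] = [g,P]` -/
theorem cmE_comm (hc : Ctx p P H) {g : G} (hg : g ∈ H) : ⁅cmE P g, P⁆ = cmE P g := by
  apply le_antisymm (commutator_le_left_of_le_normalizer (cmE P g) P (cmE_norm g))
  apply cmE_le_of
  intro a ha
  set N : Subgroup G := ⁅cmE P g, P⁆ with hN
  -- the cocycle `c x = g⁻¹ * (x⁻¹ * g * x)`
  have hstep : ∀ k : ℕ, ∃ n ∈ N, g⁻¹ * ((a ^ k)⁻¹ * g * a ^ k) = (g⁻¹ * (a⁻¹ * g * a)) ^ k * n := by
    intro k
    induction k with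
    | zero => exact ⟨1, N.one_mem, by simp⟩
    | succ k ih =>
      obtain ⟨n, hn, hk⟩ := ih
      set x : G := g⁻¹ * ((a ^ k)⁻¹ * g * a ^ k) with hx
      have hxB : x ∈ cmE P g := gen_mem_cmE P g (P.pow_mem ha k)
      have hn1 : ⁅x⁻¹, a⁻¹⁆ ∈ N :=
        Subgroup.commutator_mem_commutator (Subgroup.inv_mem _ hxB) (P.inv_mem ha)
      refine ⟨n * ⁅x⁻¹, a⁻¹⁆, N.mul_mem hn hn1, ?_⟩
      have h1 : g⁻¹ * ((a ^ (k + 1))⁻¹ * g * a ^ (k + 1)) =
          (g⁻¹ * (a⁻¹ * g * a)) * (x * ⁅x⁻¹, a⁻¹⁆) := by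
        rw [hx, pow_succ, commutatorElement_def]; group
      rw [h1, hk, pow_succ']
      group
  obtain ⟨n, hn, hk⟩ := hstep p
  rw [pow_card_eq_one_of_mem hc.cardP ha] at hk
  have hpow : (g⁻¹ * (a⁻¹ * g * a)) ^ p ∈ N := by
    have h2 : (g⁻¹ * (a⁻¹ * g * a)) ^ p = n⁻¹ := by
      have h3 : (g⁻¹ * (a⁻¹ * g * a)) ^ p * n = 1 := by rw [← hk]; group
      exact eq_inv_of_mul_eq_one_left h3
    rw [h2]; exact N.inv_mem hn
  have hmemH : g⁻¹ * (a⁻¹ * g * a) ∈ H := cmE_le hc.norm hg (gen_mem_cmE P g ha)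
  have hcop : p.Coprime (orderOf (g⁻¹ * (a⁻¹ * g * a))) :=
    (Nat.Coprime.coprime_dvd_left (Subgroup.orderOf_dvd_natCard H hmemH) hc.cop).symm
  obtain ⟨m, hm⟩ := exists_pow_eq_self_of_coprime hcop
  rw [← hm]
  exact N.pow_mem hpow m

/-- (F3) product lemma -/
theorem fix_mul (hp : p.Prime) (hP : Nat.card P = p) {A B : Subgroup G}
    (hA : P ≤ Subgroup.normalizer (A : Set G)) (hB : P ≤ Subgroup.normalizer (B : Set G))
    (hcop : (Nat.card A).Coprime p) {g a b : G} (hg : g ∈ Subgroup.centralizer (P : Set G))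
    (ha : a ∈ A) (hb : b ∈ B) (hgab : g = a * b) :
    ∃ a' ∈ A ⊓ Subgroup.centralizer (P : Set G), ∃ b' ∈ B ⊓ Subgroup.centralizer (P : Set G),
      g = a' * b' := by
  set D : Subgroup G := A ⊓ B with hD
  have hPD : P ≤ Subgroup.normalizer (D : Set G) := by
    intro y hy
    rw [Subgroup.mem_normalizer_iff]
    intro x
    constructor
    · rintro ⟨h1, h2⟩
      exact ⟨(Subgroup.mem_normalizer_iff.mp (hA hy) x).mp h1,
        (Subgroup.mem_normalizer_iff.mp (hB hy) x).mp h2⟩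
    · rintro ⟨h1, h2⟩
      exact ⟨(Subgroup.mem_normalizer_iff.mp (hA hy) x).mpr h1,
        (Subgroup.mem_normalizer_iff.mp (hB hy) x).mpr h2⟩
  have hcopPA : (Nat.card P).Coprime (Nat.card A) := by rw [hP]; exact hcop.symm
  have hcopPD : (Nat.card P).Coprime (Nat.card D) :=
    Nat.Coprime.coprime_dvd_right (Subgroup.card_dvd_of_le inf_le_left) hcopPA
  have hsolv : Group.IsSolvable P := isSolvable_of_card_prime hp hP
  -- `a⁻¹ P a ≤ P ⊔ D`
  have hsub : MulAut.conj a⁻¹ • P ≤ P ⊔ D := by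
    rintro x ⟨y, hy, rfl⟩
    show a⁻¹ * y * a⁻¹⁻¹ ∈ P ⊔ D
    rw [inv_inv]
    have hyA : y⁻¹ * a⁻¹ * y ∈ A := by
      have := (Subgroup.mem_normalizer_iff.mp (hA (P.inv_mem hy)) a⁻¹).mp (A.inv_mem ha)
      simpa using this
    have hyB : y⁻¹ * b * y ∈ B := by
      have := (Subgroup.mem_normalizer_iff.mp (hB (P.inv_mem hy)) b).mp hb
      simpa using this
    have hgy : y * g = g * y := Subgroup.mem_centralizer_iff.mp hg y hy
    have h1 : y⁻¹ * a⁻¹ * y * a ∈ A := A.mul_mem hyA ha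
    have h2 : y⁻¹ * a⁻¹ * y * a = (y⁻¹ * b * y) * b⁻¹ := by
      have h3 : y⁻¹ * (a * b) * y = a * b := by
        rw [← hgab, mul_assoc, ← hgy]; group
      have h4 : y⁻¹ * a⁻¹ * y * a = (y⁻¹ * b * y) * (y⁻¹ * (a * b) * y)⁻¹ * a := by group
      rw [h4, h3]; group
    have h5 : y⁻¹ * a⁻¹ * y * a ∈ D := ⟨h1, by rw [h2]; exact B.mul_mem hyB (B.inv_mem hb)⟩
    have h6 : a⁻¹ * y * a = y * (y⁻¹ * a⁻¹ * y * a) := by group
    rw [h6]
    exact Subgroup.mul_mem _ (Subgroup.mem_sup_left hy) (Subgroup.mem_sup_right h5)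
  obtain ⟨x, hxD, hx⟩ := coprime_conj_complement P D hPD hcopPD (Or.inl hsolv)
    (MulAut.conj a⁻¹ • P) hsub (card_conj_smul a⁻¹ P)
  have hdisj : P ⊓ A = ⊥ := (Subgroup.disjoint_of_coprime_natCard hcopPA).eq_bot
  have haxA : a * x ∈ A := A.mul_mem ha hxD.1
  have hnorm : ∀ y ∈ P, a * x * y * (a * x)⁻¹ ∈ P := by
    intro y hy
    have h1 : x * y * x⁻¹ ∈ MulAut.conj a⁻¹ • P := by
      rw [← hx]; exact ⟨y, hy, rfl⟩
    obtain ⟨y', hy', hyy⟩ := h1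
    have h2 : x * y * x⁻¹ = a⁻¹ * y' * a := by
      rw [← hyy]; simp [MulAut.conj_apply]
    have h3 : a * x * y * (a * x)⁻¹ = a * (x * y * x⁻¹) * a⁻¹ := by group
    rw [h3, h2]
    have : a * (a⁻¹ * y' * a) * a⁻¹ = y' := by group
    rw [this]; exact hy'
  have haxC : a * x ∈ Subgroup.centralizer (P : Set G) :=
    mem_centralizer_of_mem_normalizer P A hA hdisj (a * x) haxA hnorm
  refine ⟨a * x, ⟨haxA, haxC⟩, x⁻¹ * b, ⟨B.mul_mem (B.inv_mem hxD.2) hb, ?_⟩, ?_⟩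
  · have h1 : x⁻¹ * b = (a * x)⁻¹ * g := by rw [hgab]; group
    rw [h1]
    exact Subgroup.mul_mem _ (Subgroup.inv_mem _ haxC) hg
  · rw [hgab]; group

/-- (F7) three subgroups -/
theorem three_sub {M : Subgroup G} (hM : M ≤ H) (hn : NormBy P H M)
    (hMP : M ≤ Subgroup.centralizer (P : Set G)) (hHP : ⁅H, P⁆ = H) :
    M ≤ Subgroup.centralizer (H : Set G) := by
  have h1 : ⁅P, M⁆ = ⊥ := by
    rw [Subgroup.commutator_comm, Subgroup.commutator_eq_bot_iff_le_centralizer]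
    exact hMP
  have h2 : ⁅⁅P, M⁆, H⁆ = ⊥ := by rw [h1, Subgroup.commutator_bot_left]
  have h3 : ⁅M, H⁆ ≤ M := commutator_le_left_of_le_normalizer M H hn.1
  have h4 : ⁅⁅M, H⁆, P⁆ = ⊥ := by
    rw [eq_bot_iff]
    calc ⁅⁅M, H⁆, P⁆ ≤ ⁅M, P⁆ := Subgroup.commutator_mono h3 le_rfl
      _ = ⊥ := by rw [Subgroup.commutator_comm]; exact h1
  have h5 : ⁅⁅H, P⁆, M⁆ = ⊥ := Subgroup.commutator_commutator_eq_bot_of_rotate h2 h4
  rw [hHP] at h5
  rw [← Subgroup.commutator_eq_bot_iff_le_centralizer, Subgroup.commutator_comm]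
  exact h5

/-- (F9a) -/
theorem comm_iSup_le {V : Subgroup G} (_hVc : ∀ a ∈ V, ∀ b ∈ V, a * b = b * a) {ι : Type*}
    (A : ι → Subgroup G) (hA : ∀ i, A i ≤ Subgroup.normalizer (V : Set G)) :
    ⁅V, ⨆ i, A i⁆ ≤ ⨆ i, ⁅V, A i⁆ := by
  set W : Subgroup G := ⨆ i, ⁅V, A i⁆ with hW
  rw [Subgroup.commutator_le]
  intro v hv g hg
  have key : ∀ g ∈ ⨆ i, A i, g ∈ Subgroup.normalizer (V : Set G) ∧ ∀ v ∈ V, ⁅v, g⁆ ∈ W := by
    intro g hg
    refine Subgroup.iSup_induction A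
      (C := fun g => g ∈ Subgroup.normalizer (V : Set G) ∧ ∀ v ∈ V, ⁅v, g⁆ ∈ W) hg ?_ ?_ ?_
    · intro i x hx
      refine ⟨hA i hx, ?_⟩
      intro v hv
      exact (le_iSup (fun i => ⁅V, A i⁆) i) (Subgroup.commutator_mem_commutator hv hx)
    · refine ⟨Subgroup.one_mem _, ?_⟩
      intro v _
      simp [commutatorElement_def, W.one_mem]
    · rintro g₁ g₂ ⟨hn₁, h₁⟩ ⟨hn₂, h₂⟩
      refine ⟨Subgroup.mul_mem _ hn₁ hn₂, ?_⟩
      intro v hv
      -- `⁅v, g₁ g₂⁆ = ⁅v, g₁⁆ * (⁅w, g₁⁆⁻¹ * w)`, `w = ⁅v, g₂⁆`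
      have hwV : ⁅v, g₂⁆ ∈ V := by
        rw [commutatorElement_def, mul_assoc, mul_assoc]
        apply V.mul_mem hv
        have := (Subgroup.mem_normalizer_iff.mp hn₂ v⁻¹).mp (V.inv_mem hv)
        simpa [mul_assoc] using this
      have h3 : ⁅v, g₁ * g₂⁆ = ⁅v, g₁⁆ * ((⁅⁅v, g₂⁆, g₁⁆)⁻¹ * ⁅v, g₂⁆) := by
        simp only [commutatorElement_def]; group
      rw [h3]
      exact W.mul_mem (h₁ v hv) (W.mul_mem (W.inv_mem (h₁ _ hwV)) (h₂ v hv))
  exact (key g hg).2 v hv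

theorem le_normalizer_iSup {ι : Type*} (W : ι → Subgroup G)
    (hPW : ∀ i, P ≤ Subgroup.normalizer (W i : Set G)) :
    P ≤ Subgroup.normalizer ((⨆ i, W i : Subgroup G) : Set G) := by
  have key : ∀ b ∈ P, ∀ x ∈ ⨆ i, W i, b * x * b⁻¹ ∈ ⨆ i, W i := by
    intro b hb x hx
    have hle : (⨆ i, W i) ≤ (⨆ i, W i).comap (MulAut.conj b).toMonoidHom := by
      apply iSup_le
      intro i y hy
      rw [Subgroup.mem_comap]
      show b * y * b⁻¹ ∈ _
      exact (le_iSup W i) ((Subgroup.mem_normalizer_iff.mp (hPW i hb) y).mp hy)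
    exact hle hx
  intro b hb
  rw [Subgroup.mem_normalizer_iff]
  intro x
  constructor
  · exact key b hb x
  · intro hx
    have := key b⁻¹ (P.inv_mem hb) _ hx
    simpa [mul_assoc] using this

/-- (F9b) -/
theorem fix_iSup_le (hp : p.Prime) (hP : Nat.card P = p) {V : Subgroup G}
    (hVc : ∀ a ∈ V, ∀ b ∈ V, a * b = b * a) (hcop : (Nat.card V).Coprime p) {ι : Type*}
    (W : ι → Subgroup G) (hW : ∀ i, W i ≤ V) (hPW : ∀ i, P ≤ Subgroup.normalizer (W i : Set G)) :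
    (⨆ i, W i) ⊓ Subgroup.centralizer (P : Set G) ≤
      ⨆ i, (W i ⊓ Subgroup.centralizer (P : Set G)) := by
  have _ := hp
  set S : Subgroup G := ⨆ i, W i with hS
  set T : Subgroup G := ⨆ i, (W i ⊓ Subgroup.centralizer (P : Set G)) with hT
  set U : Subgroup G := ⨆ i, ⁅W i, P⁆ with hU
  have hSV : S ≤ V := iSup_le hW
  have hPS : P ≤ Subgroup.normalizer (S : Set G) := le_normalizer_iSup W hPW
  have hcopW : ∀ X : Subgroup G, X ≤ V → (Nat.card P).Coprime (Nat.card X) := by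
    intro X hX
    rw [hP]
    exact (Nat.Coprime.coprime_dvd_left (Subgroup.card_dvd_of_le hX) hcop).symm
  have hcommOf : ∀ X : Subgroup G, X ≤ V → IsMulCommutative X := fun X hX =>
    ⟨⟨fun a b => Subtype.ext (hVc a (hX a.2) b (hX b.2))⟩⟩
  have hTS : T ≤ S := iSup_le fun i => inf_le_left.trans (le_iSup W i)
  have hUS : U ≤ S := iSup_le fun i =>
    (commutator_le_left_of_le_normalizer (W i) P (hPW i)).trans (le_iSup W i)
  have hTC : T ≤ Subgroup.centralizer (P : Set G) := iSup_le fun i => inf_le_right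
  have hUc : U ≤ ⁅S, P⁆ := iSup_le fun i => Subgroup.commutator_mono (le_iSup W i) le_rfl
  have hSle : S ≤ T ⊔ U := by
    apply iSup_le
    intro i
    haveI := hcommOf (W i) (hW i)
    have h1 := (coprime_abelian_decomp P (W i) (hPW i) (hcopW (W i) (hW i))).2
    rw [← h1]
    exact sup_le_sup (le_iSup (fun i => W i ⊓ Subgroup.centralizer (P : Set G)) i)
      (le_iSup (fun i => ⁅W i, P⁆) i)
  have hUT : U ≤ Subgroup.normalizer (T : Set G) := by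
    intro u hu
    rw [Subgroup.mem_normalizer_iff]
    intro x
    have huV : u ∈ V := hSV (hUS hu)
    constructor
    · intro hx
      have : u * x * u⁻¹ = x := by
        rw [hVc u huV x (hSV (hTS hx))]; group
      rw [this]; exact hx
    · intro hx
      have hxV : u * x * u⁻¹ ∈ V := hSV (hTS hx)
      have h2 : x = u⁻¹ * (u * x * u⁻¹) * u := by group
      have h3 : u⁻¹ * (u * x * u⁻¹) * u = u * x * u⁻¹ := by
        rw [hVc u⁻¹ (V.inv_mem huV) _ hxV]; group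
      rw [h2, h3]; exact hx
  rintro x ⟨hxS, hxC⟩
  have hx1 : x ∈ ((T ⊔ U : Subgroup G) : Set G) := hSle hxS
  rw [Subgroup.coe_mul_of_right_le_normalizer_left T U hUT] at hx1
  obtain ⟨t, ht, u, hu, rfl⟩ := hx1
  have huC : u ∈ Subgroup.centralizer (P : Set G) := by
    have : u = t⁻¹ * (t * u) := by group
    rw [this]
    exact Subgroup.mul_mem _ (Subgroup.inv_mem _ (hTC ht)) hxC
  haveI := hcommOf S hSV
  have h4 := (coprime_abelian_decomp P S hPS (hcopW S hSV)).1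
  have h5 : u ∈ (S ⊓ Subgroup.centralizer (P : Set G)) ⊓ ⁅S, P⁆ := ⟨⟨hUS hu, huC⟩, hUc hu⟩
  rw [h4, Subgroup.mem_bot] at h5
  subst h5
  show t * 1 ∈ T
  rw [mul_one]
  exact ht

end

end Cfsg.Agent.Lib.Helper5.FlvF
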