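import Mathlib
import Cfsg.Agent.Lib.Helper5.FlvDefs
import Cfsg.Agent.Lib.Helper5.FlvF
import Cfsg.Agent.Lib.Lead.CoprimeAction3

/-!
# S3816, package M: minimal `(H,P)`-normal subgroups
-/

set_option autoImplicit false

namespace Cfsg.Agent.Lib.Helper5.FlvM

open scoped Pointwise commutatorElement
open Cfsg.Agent.Lib.Helper5.FlvDefs
open Cfsg.Agent.Lib.Lead

universe u

section
variable {G : Type u} [Group G] [Finite G] {p : ℕ} {P H : Subgroup G}

theorem exists_minNormal_le {N : Subgroup G} (hN : N ≤ H) (hne : N ≠ ⊥) (hn : NormBy P H N) :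
    ∃ V, MinNormal P H V ∧ V ≤ N := by
  classical
  let S : Set (Subgroup G) := {X | X ≤ N ∧ X ≠ ⊥ ∧ NormBy P H X}
  obtain ⟨V, hV, hmin⟩ := Set.exists_min_image S (fun X => Nat.card X) (Set.toFinite S)
    ⟨N, le_rfl, hne, hn⟩
  obtain ⟨hVN, hV1, hVn⟩ := hV
  refine ⟨V, ⟨hVN.trans hN, hV1, hVn, ?_⟩, hVN⟩
  intro N' hN' hN'1 hN'n
  exact Subgroup.eq_of_le_of_card_ge hN' (hmin N' ⟨hN'.trans hVN, hN'1, hN'n⟩)

/-- a subgroup of `V` that is invariant under every conjugation normalising `V`-like data -/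
theorem normBy_of_conj_invariant {V X : Subgroup G} (hV : NormBy P H V)
    (hX : ∀ g : G, g ∈ Subgroup.normalizer (V : Set G) → ∀ x ∈ X, g * x * g⁻¹ ∈ X) :
    NormBy P H X := by
  have key : ∀ g : G, g ∈ Subgroup.normalizer (V : Set G) → g ∈ Subgroup.normalizer (X : Set G) := by
    intro g hg
    rw [Subgroup.mem_normalizer_iff]
    intro x
    constructor
    · exact hX g hg x
    · intro hx
      have := hX g⁻¹ (Subgroup.inv_mem _ hg) _ hx
      simpa [mul_assoc] using this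
  exact ⟨fun g hg => key g (hV.1 hg), fun g hg => key g (hV.2 hg)⟩

theorem minNormal_elem (hc : Ctx p P H) {V : Subgroup G} (hV : MinNormal P H V) :
    ∃ q : ℕ, q.Prime ∧ q ≠ p ∧ IsPGroup q V ∧ (∀ a ∈ V, ∀ b ∈ V, a * b = b * a) ∧
      ∀ v ∈ V, v ^ q = 1 := by
  obtain ⟨hVH, hV1, hVn, hVmin⟩ := hV
  -- `V` is abelian
  haveI : Group.IsSolvable H := hc.solv
  have hVsolv : Group.IsSolvable V := isSolvable_of_le hVH
  have hcomm : ⁅V, V⁆ = ⊥ := by
    by_contra hne
    have hnb : NormBy P H ⁅V, V⁆ := by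
      refine ⟨fun g hg => ?_, fun g hg => ?_⟩
      · exact normalizer_inf_le_normalizer_commutator V V ⟨hVn.1 hg, hVn.1 hg⟩
      · exact normalizer_inf_le_normalizer_commutator V V ⟨hVn.2 hg, hVn.2 hg⟩
    have h1 : ⁅V, V⁆ = V := hVmin _ (Subgroup.commutator_le_self V) hne hnb
    haveI : Nontrivial V := (Subgroup.nontrivial_iff_ne_bot V).mpr hV1
    have h2 : commutator V < ⊤ := IsSolvable.commutator_lt_top_of_nontrivial V
    apply h2.ne
    apply Subgroup.map_injective V.subtype_injective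
    rw [commutator_def, Subgroup.map_commutator, ← MonoidHom.range_eq_map, Subgroup.range_subtype]
    exact h1
  have hab : ∀ a ∈ V, ∀ b ∈ V, a * b = b * a := by
    intro a ha b hb
    have h1 : ⁅a, b⁆ ∈ ⁅V, V⁆ := Subgroup.commutator_mem_commutator ha hb
    rw [hcomm, Subgroup.mem_bot, commutatorElement_eq_one_iff_mul_comm] at h1
    exact h1
  -- a prime divisor of `|V|`
  have hcard : Nat.card V ≠ 1 := by
    intro h
    exact hV1 ((Subgroup.card_eq_one).mp h)
  obtain ⟨q, hq, hqdvd⟩ := Nat.exists_prime_and_dvd hcard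
  haveI : Fact q.Prime := ⟨hq⟩
  -- `Ω = {v ∈ V | v ^ q = 1}`
  let Ω : Subgroup G :=
    { carrier := {v | v ∈ V ∧ v ^ q = 1}
      one_mem' := ⟨V.one_mem, one_pow q⟩
      mul_mem' := by
        rintro a b ⟨ha, ha1⟩ ⟨hb, hb1⟩
        refine ⟨V.mul_mem ha hb, ?_⟩
        rw [(Commute.mul_pow (hab a ha b hb) q), ha1, hb1, one_mul]
      inv_mem' := by
        rintro a ⟨ha, ha1⟩
        exact ⟨V.inv_mem ha, by rw [inv_pow, ha1, inv_one]⟩ }
  have hΩV : Ω ≤ V := fun v hv => hv.1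
  have hΩn : NormBy P H Ω := by
    apply normBy_of_conj_invariant hVn
    rintro g hg x ⟨hxV, hx1⟩
    refine ⟨(Subgroup.mem_normalizer_iff.mp hg x).mp hxV, ?_⟩
    rw [conj_pow, hx1, mul_one, mul_inv_cancel]
  have hΩ1 : Ω ≠ ⊥ := by
    obtain ⟨v, hv⟩ := exists_prime_orderOf_dvd_card' q hqdvd
    intro h
    have hvΩ : (v : G) ∈ Ω := by
      refine ⟨v.2, ?_⟩
      have : v ^ q = 1 := by rw [← hv]; exact pow_orderOf_eq_one v
      exact congrArg Subtype.val this
    rw [h, Subgroup.mem_bot] at hvΩ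
    have : v = 1 := Subtype.ext hvΩ
    rw [this, orderOf_one] at hv
    exact hq.one_lt.ne hv
  have hΩeq : Ω = V := hVmin Ω hΩV hΩ1 hΩn
  have hexp : ∀ v ∈ V, v ^ q = 1 := by
    intro v hv
    have : v ∈ Ω := by rw [hΩeq]; exact hv
    exact this.2
  refine ⟨q, hq, ?_, ?_, hab, hexp⟩
  · rintro rfl
    have h1 : q ∣ Nat.card H := hqdvd.trans (Subgroup.card_dvd_of_le hVH)
    have h2 := Nat.Coprime.eq_one_of_dvd hc.cop.symm h1
    exact hq.one_lt.ne' h2
  · intro v
    refine ⟨1, ?_⟩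
    rw [pow_one]
    exact Subtype.ext (hexp v v.2)

end

end Cfsg.Agent.Lib.Helper5.FlvM
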