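import Mathlib
import Cfsg.Agent.Lib.Helper5.FlvDefs
import Cfsg.Agent.Lib.Helper5.FlvF
import Cfsg.Agent.Lib.Helper4.FlvR2

/-!
# S3816, package R1: `R1`, `R3`, `R3q` (on top of `R2`)
-/

set_option autoImplicit false

namespace Cfsg.Agent.Lib.Helper5.FlvR1

open scoped Pointwise commutatorElement
open Cfsg.Agent.Lib.Helper5.FlvDefs
open Cfsg.Agent.Lib.Helper5.FlvF
open Cfsg.Agent.Lib.Helper4.FlvR2
open Cfsg.Agent.Lib.Lead

universe u

section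
variable {G : Type u} [Group G] [Finite G] {p : ℕ} {P H : Subgroup G}

theorem ctx_of_le (hc : Ctx p P H) {H₁ : Subgroup G} (h1 : H₁ ≤ H)
    (hn : P ≤ Subgroup.normalizer (H₁ : Set G)) : Ctx p P H₁ := by
  haveI : Group.IsSolvable H := hc.solv
  exact ⟨hc.hp, hc.hp2, hc.cardP, hn, isSolvable_of_le h1,
    Nat.Coprime.coprime_dvd_left (Subgroup.card_dvd_of_le h1) hc.cop⟩

theorem R1 (h : MinCE p P H) {H₁ : Subgroup G} (h1 : H₁ ≤ H) (hne : H₁ ≠ H)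
    (hn : P ≤ Subgroup.normalizer (H₁ : Set G)) :
    ⁅H₁, P⁆ ⊓ Subgroup.centralizer (P : Set G) ≤ KK P H := by
  have hlt : Nat.card H₁ < Nat.card H := by
    by_contra hge
    exact hne (Subgroup.eq_of_le_of_card_ge h1 (not_lt.mp hge))
  have hg : Goal P H₁ := h.ih G P H₁ (ctx_of_le h.ctx h1 hn) hlt
  exact hg.trans (KK_mono h1)

theorem R3 (h : MinCE p P H) {N : Subgroup G} (hN : N ≤ H) (hne : N ≠ ⊥) (hn : NormBy P H N) :
    ¬ (N ⊓ Subgroup.centralizer (P : Set G) ≤ KK P H) := by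
  intro hle
  apply h.bad
  have h2 := R2 h hN hne hn
  have h3 : KK P H ⊔ (N ⊓ Subgroup.centralizer (P : Set G)) = KK P H := sup_eq_left.mpr hle
  rw [h3] at h2
  have h4 : ⁅H, P⁆ ≤ H := commutator_le_left_of_le_normalizer H P h.ctx.norm
  exact (inf_le_inf_right _ h4).trans h2

/-- powers of `k * x` modulo a subgroup `K` normalised by `x` -/
theorem mul_pow_mem_mul {K : Subgroup G} {k x : G} (hk : k ∈ K)
    (hx : x ∈ Subgroup.normalizer (K : Set G)) (m : ℕ) : ∃ k' ∈ K, (k * x) ^ m = k' * x ^ m := by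
  induction m with
  | zero => exact ⟨1, K.one_mem, by simp⟩
  | succ m ih =>
    obtain ⟨k', hk', hm⟩ := ih
    have hxm : x ^ m ∈ Subgroup.normalizer (K : Set G) := Subgroup.pow_mem _ hx m
    refine ⟨k' * (x ^ m * k * (x ^ m)⁻¹), K.mul_mem hk'
      ((Subgroup.mem_normalizer_iff.mp hxm k).mp hk), ?_⟩
    rw [pow_succ, hm, pow_succ]; group

theorem R3q (h : MinCE p P H) {N₁ N₂ : Subgroup G} {q₁ q₂ : ℕ}
    (h1 : MinNormal P H N₁) (h2 : MinNormal P H N₂) (hq1 : q₁.Prime) (hq2 : q₂.Prime)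
    (hp1 : IsPGroup q₁ N₁) (hp2 : IsPGroup q₂ N₂) : q₁ = q₂ := by
  by_contra hne
  haveI : Fact q₁.Prime := ⟨hq1⟩
  haveI : Fact q₂.Prime := ⟨hq2⟩
  apply R3 h h1.1 h1.2.1 h1.2.2.1
  -- every `x ∈ N₁ ∩ C(P)` lies in `K`
  rintro x ⟨hxN, hxC⟩
  have hxH : x ∈ H ⊓ Subgroup.centralizer (P : Set G) := ⟨h1.1 hxN, hxC⟩
  have hx2 := R2 h h2.1 h2.2.1 h2.2.2.1 hxH
  have hnorm : (N₂ ⊓ Subgroup.centralizer (P : Set G)) ≤ Subgroup.normalizer (KK P H : Set G) :=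
    (inf_le_inf_right _ h2.1).trans KK_norm
  have hx3 : x ∈ ((KK P H ⊔ (N₂ ⊓ Subgroup.centralizer (P : Set G)) : Subgroup G) : Set G) := hx2
  rw [Subgroup.coe_mul_of_right_le_normalizer_left _ _ hnorm] at hx3
  obtain ⟨k, hk, x₂, hx₂, rfl⟩ := hx3
  -- order of `x = k * x₂` is a power of `q₁`
  obtain ⟨a, ha⟩ := (IsPGroup.iff_orderOf.mp hp1) ⟨k * x₂, hxN⟩
  obtain ⟨b, hb⟩ := (IsPGroup.iff_orderOf.mp hp2) ⟨x₂, hx₂.1⟩
  rw [Subgroup.orderOf_mk] at ha hb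
  obtain ⟨k', hk', hm⟩ := mul_pow_mem_mul hk (hnorm hx₂) (q₁ ^ a)
  have hone : (k * x₂) ^ (q₁ ^ a) = 1 := by rw [← ha]; exact pow_orderOf_eq_one _
  have hx₂pow : x₂ ^ (q₁ ^ a) ∈ KK P H := by
    have : x₂ ^ (q₁ ^ a) = k'⁻¹ := by
      have h3 : k' * x₂ ^ (q₁ ^ a) = 1 := by rw [← hm]; exact hone
      exact eq_inv_of_mul_eq_one_right h3
    rw [this]; exact Subgroup.inv_mem _ hk'
  have hcop : (q₁ ^ a).Coprime (orderOf x₂) := by
    rw [hb]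
    exact Nat.Coprime.pow _ _ ((Nat.coprime_primes hq1 hq2).mpr hne)
  obtain ⟨m, hm'⟩ := exists_pow_eq_self_of_coprime hcop
  have hx₂K : x₂ ∈ KK P H := by
    rw [← hm']; exact Subgroup.pow_mem _ hx₂pow m
  exact Subgroup.mul_mem _ hk hx₂K

end

end Cfsg.Agent.Lib.Helper5.FlvR1
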