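import Mathlib
import Cfsg.Agent.Lib.Helper8.GlAutDefs
import Cfsg.Agent.Lib.Helper8.GlAutBasic

/-!
# Theorem G (Glauberman 1966), package PT: transports of the induction hypothesis

`IH.sub` (subgroup `normalizer K` as ambient type), `IH.quot` (quotient `Γ ⧸ M`), `step1` (`O(K) ≠ 1`).
-/

set_option autoImplicit false
open scoped commutatorElement

namespace Cfsg.Agent.Lib.Helper5.GlAutT

universe u

variable {Γ : Type u} [Group Γ]

theorem card_comap_mk'_eq [Finite Γ] (W : Subgroup Γ) [W.Normal] (N : Subgroup (Γ ⧸ W)) :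
    Nat.card ↥(N.comap (QuotientGroup.mk' W)) = Nat.card ↥W * Nat.card ↥N := by
  have h1 := Subgroup.card_mul_index (N.comap (QuotientGroup.mk' W))
  rw [Subgroup.index_comap_of_surjective N (QuotientGroup.mk'_surjective W)] at h1
  have h2 := Subgroup.card_mul_index N
  have h3 := Subgroup.card_eq_card_quotient_mul_card_subgroup W
  have hidx : N.index ≠ 0 := Subgroup.index_ne_zero_of_finite
  have : Nat.card ↥(N.comap (QuotientGroup.mk' W)) * N.index
      = (Nat.card ↥W * Nat.card ↥N) * N.index := by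
    rw [h1, h3, ← h2]; ring
  exact Nat.eq_of_mul_eq_mul_right (Nat.pos_of_ne_zero hidx) this

theorem comap_map_mk'_of_le (K M : Subgroup Γ) [M.Normal] (hMK : M ≤ K) :
    (K.map (QuotientGroup.mk' M)).comap (QuotientGroup.mk' M) = K := by
  rw [Subgroup.comap_map_eq, QuotientGroup.ker_mk']
  exact sup_eq_left.mpr hMK

theorem card_map_mk'_of_le [Finite Γ] (K M : Subgroup Γ) [M.Normal] (hMK : M ≤ K) :
    Nat.card ↥K = Nat.card ↥M * Nat.card ↥(K.map (QuotientGroup.mk' M)) := by
  rw [← card_comap_mk'_eq M (K.map (QuotientGroup.mk' M)), comap_map_mk'_of_le K M hMK]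

theorem relIndex_mul_card_of_le {H K : Subgroup Γ} (h : H ≤ K) :
    H.relIndex K * Nat.card ↥H = Nat.card ↥K := by
  have h1 := Subgroup.relIndex_mul_relIndex (⊥ : Subgroup Γ) H K bot_le h
  rw [Subgroup.relIndex_bot_left, Subgroup.relIndex_bot_left] at h1
  rw [mul_comm]; exact h1

end Cfsg.Agent.Lib.Helper5.GlAutT

namespace Cfsg.Agent.Lib.Helper8.GlAut

open Cfsg.Agent.Lib.Helper5.GlAutT

universe u

variable {Γ : Type u} [Group Γ]

/-- IH for subgroups that are only normalized by `Q` and `x` -/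
theorem IH.sub {n : ℕ} (ih : IH.{u} n) [Finite Γ] {K S Q : Subgroup Γ} {x : Γ}
    (hQK : Q ≤ Subgroup.normalizer (K : Set Γ)) (hxK : x ∈ Subgroup.normalizer (K : Set Γ))
    (hlt : Nat.card ↥K < n) (hyp : Hyp K S Q x) : Concl K Q x := by
  have hKN : K ≤ Subgroup.normalizer (K : Set Γ) := Subgroup.le_normalizer
  have hSN : S ≤ Subgroup.normalizer (K : Set Γ) := hyp.syl.1.trans hKN
  have hcard : Nat.card ↥(K.subgroupOf (Subgroup.normalizer (K : Set Γ))) = Nat.card ↥K :=
    Nat.card_congr (Subgroup.subgroupOfEquivOfLe hKN).toEquiv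
  have hyp' : Hyp (K.subgroupOf (Subgroup.normalizer (K : Set Γ)))
      (S.subgroupOf (Subgroup.normalizer (K : Set Γ)))
      (Q.subgroupOf (Subgroup.normalizer (K : Set Γ)))
      (⟨x, hxK⟩ : ↥(Subgroup.normalizer (K : Set Γ))) := by
    refine ⟨⟨?_, ?_, ?_⟩, ?_, ?_, ?_, ?_, ?_⟩
    · intro y hy
      exact Subgroup.mem_subgroupOf.mpr (hyp.syl.1 (Subgroup.mem_subgroupOf.mp hy))
    · exact hyp.syl.2.1.comap_subtype
    · intro P' hP' hSP' hP'K
      have hmap : P'.map (Subgroup.normalizer (K : Set Γ)).subtype = S := by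
        apply hyp.syl.2.2 _ (hP'.map _)
        · intro s hs
          exact ⟨⟨s, hSN hs⟩, hSP' (Subgroup.mem_subgroupOf.mpr hs), rfl⟩
        · rintro _ ⟨p', hp', rfl⟩
          exact Subgroup.mem_subgroupOf.mp (hP'K hp')
      ext y
      rw [Subgroup.mem_subgroupOf, ← hmap]
      constructor
      · intro hy
        exact ⟨y, hy, rfl⟩
      · rintro ⟨z, hz, hzy⟩
        have : z = y := Subtype.ext hzy
        rwa [← this]
    · exact hyp.hQ2.comap_subtype
    · intro q' hq'
      rw [Subgroup.mem_centralizer_iff]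
      intro s' hs'
      apply Subtype.ext
      have := Subgroup.mem_centralizer_iff.mp (hyp.hQS (Subgroup.mem_subgroupOf.mp hq')) (s' : Γ)
        (Subgroup.mem_subgroupOf.mp hs')
      simpa using this
    · rw [Subgroup.orderOf_mk]; exact hyp.hx
    · rw [Subgroup.mem_centralizer_iff]
      intro s' hs'
      apply Subtype.ext
      have := Subgroup.mem_centralizer_iff.mp hyp.hxS (s' : Γ) (Subgroup.mem_subgroupOf.mp hs')
      simpa using this
    · rw [Subgroup.mem_normalizer_iff]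
      intro q'
      have := Subgroup.mem_normalizer_iff.mp hyp.hxQ (q' : Γ)
      simp only [Subgroup.mem_subgroupOf]
      simpa using this
  have hconcl := ih ↥(Subgroup.normalizer (K : Set Γ))
    (K.subgroupOf (Subgroup.normalizer (K : Set Γ)))
    (S.subgroupOf (Subgroup.normalizer (K : Set Γ)))
    (Q.subgroupOf (Subgroup.normalizer (K : Set Γ))) ⟨x, hxK⟩ (hcard ▸ hlt) hyp'
  -- transport of `oc`
  have hoc : (oc (K.subgroupOf (Subgroup.normalizer (K : Set Γ)))).map
      (Subgroup.normalizer (K : Set Γ)).subtype ≤ oc K := by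
    apply le_oc
    · rintro _ ⟨y, hy, rfl⟩
      exact Subgroup.mem_subgroupOf.mp (oc_le _ hy)
    · intro k hk
      rw [Subgroup.mem_normalizer_iff]
      intro a
      have hn := (oc_normal (K.subgroupOf (Subgroup.normalizer (K : Set Γ))))
      constructor
      · rintro ⟨y, hy, rfl⟩
        exact ⟨⟨k, hKN hk⟩ * y * (⟨k, hKN hk⟩)⁻¹, hn.conj_mem y hy _, rfl⟩
      · rintro ⟨y, hy, hya⟩
        refine ⟨(⟨k, hKN hk⟩)⁻¹ * y * (⟨k, hKN hk⟩ : ↥(Subgroup.normalizer (K : Set Γ))), ?_, ?_⟩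
        · have := hn.conj_mem y hy (⟨k, hKN hk⟩)⁻¹
          simpa using this
        · have : (y : Γ) = k * a * k⁻¹ := hya
          simp [this, mul_assoc]
    · have hodd := odd_card_oc (K.subgroupOf (Subgroup.normalizer (K : Set Γ)))
      rwa [Nat.card_congr ((oc (K.subgroupOf (Subgroup.normalizer (K : Set Γ)))).equivMapOfInjective
        _ (Subgroup.subtype_injective _)).toEquiv] at hodd
  intro q hq k hk
  have := hconcl ⟨q, hQK hq⟩ (Subgroup.mem_subgroupOf.mpr hq) ⟨k, hKN hk⟩ (Subgroup.mem_subgroupOf.mpr hk)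
  exact hoc ⟨_, this, rfl⟩

/-- IH in the quotient `Γ ⧸ M`: `M₁ / M = O(K / M)` -/
theorem IH.quot {n : ℕ} (ih : IH.{u} n) [Finite Γ] {K : Subgroup Γ} [K.Normal] {S Q : Subgroup Γ} {x : Γ}
    (hn : Nat.card ↥K = n) (hyp : Hyp K S Q x) (M : Subgroup Γ) [M.Normal] (hMK : M ≤ K) (hM : M ≠ ⊥) :
    ∃ M₁ : Subgroup Γ, M₁.Normal ∧ M ≤ M₁ ∧ M₁ ≤ K ∧ Odd (M.relIndex M₁) ∧
      ∀ q ∈ Q, ∀ k ∈ K, ⁅⁅q, x⁆, k⁆ ∈ M₁ := by
  haveI hKbar : (K.map (QuotientGroup.mk' M)).Normal :=
    Subgroup.Normal.map inferInstance _ (QuotientGroup.mk'_surjective M)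
  have hcardK := card_map_mk'_of_le K M hMK
  have hMcard : 1 < Nat.card ↥M := by
    rcases Nat.lt_or_ge 1 (Nat.card ↥M) with h | h
    · exact h
    · exfalso
      have h1 : Nat.card ↥M = 1 := le_antisymm h Nat.card_pos
      exact hM (Subgroup.card_eq_one.mp h1)
  have hlt : Nat.card ↥(K.map (QuotientGroup.mk' M)) < n := by
    rw [← hn, hcardK]
    have hpos : 0 < Nat.card ↥(K.map (QuotientGroup.mk' M)) := Nat.card_pos
    nlinarith
  have hconcl := ih (Γ ⧸ M) (K.map (QuotientGroup.mk' M)) (S.map (QuotientGroup.mk' M))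
    (Q.map (QuotientGroup.mk' M)) (QuotientGroup.mk' M x) hlt (hyp.map (QuotientGroup.mk' M))
  refine ⟨(oc (K.map (QuotientGroup.mk' M))).comap (QuotientGroup.mk' M),
    Subgroup.Normal.comap inferInstance _, ?_, ?_, ?_, ?_⟩
  · intro m hm
    rw [Subgroup.mem_comap]
    have : QuotientGroup.mk' M m = 1 := by
      rw [QuotientGroup.mk'_apply, QuotientGroup.eq_one_iff]; exact hm
    rw [this]; exact Subgroup.one_mem _
  · calc (oc (K.map (QuotientGroup.mk' M))).comap (QuotientGroup.mk' M)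
        ≤ (K.map (QuotientGroup.mk' M)).comap (QuotientGroup.mk' M) :=
          Subgroup.comap_mono (oc_le _)
      _ = K := comap_map_mk'_of_le K M hMK
  · have hle : M ≤ (oc (K.map (QuotientGroup.mk' M))).comap (QuotientGroup.mk' M) := by
      intro m hm
      rw [Subgroup.mem_comap]
      have : QuotientGroup.mk' M m = 1 := by
        rw [QuotientGroup.mk'_apply, QuotientGroup.eq_one_iff]; exact hm
      rw [this]; exact Subgroup.one_mem _
    have h1 := relIndex_mul_card_of_le hle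
    rw [card_comap_mk'_eq] at h1
    have hMpos : 0 < Nat.card ↥M := Nat.card_pos
    have h2 : M.relIndex ((oc (K.map (QuotientGroup.mk' M))).comap (QuotientGroup.mk' M))
        = Nat.card ↥(oc (K.map (QuotientGroup.mk' M))) := by
      have : M.relIndex ((oc (K.map (QuotientGroup.mk' M))).comap (QuotientGroup.mk' M)) * Nat.card ↥M
          = Nat.card ↥(oc (K.map (QuotientGroup.mk' M))) * Nat.card ↥M := by
        rw [h1]; ring
      exact Nat.eq_of_mul_eq_mul_right hMpos this
    rw [h2]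
    exact odd_card_oc _
  · intro q hq k hk
    rw [Subgroup.mem_comap]
    have := hconcl (QuotientGroup.mk' M q) (Subgroup.mem_map_of_mem _ hq)
      (QuotientGroup.mk' M k) (Subgroup.mem_map_of_mem _ hk)
    simpa [map_commutatorElement] using this

/-- Step 1: `O(K) ≠ 1` (from `IH.quot` with `M = oc K` and `le_oc`) -/
theorem step1 {n : ℕ} (ih : IH.{u} n) [Finite Γ] {K : Subgroup Γ} [K.Normal] {S Q : Subgroup Γ} {x : Γ}
    (hn : Nat.card ↥K = n) (hyp : Hyp K S Q x) (h1 : oc K ≠ ⊥) : Concl K Q x := by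
  obtain ⟨M₁, hM₁n, hle, hM₁K, hodd, hc⟩ := IH.quot ih hn hyp (oc K) (oc_le K) h1
  have hcard := relIndex_mul_card_of_le hle
  have hodd1 : Odd (Nat.card ↥M₁) := by
    rw [← hcard]
    exact hodd.mul (odd_card_oc K)
  have hM₁ : M₁ ≤ oc K := by
    apply le_oc hM₁K _ hodd1
    intro k _
    exact (Subgroup.normalizer_eq_top_iff.mpr hM₁n) ▸ Subgroup.mem_top k
  intro q hq k hk
  exact hM₁ (hc q hq k hk)

end Cfsg.Agent.Lib.Helper8.GlAut
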