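import Mathlib
import Cfsg.Agent.Lib.Helper8.GlAutDefs
import Cfsg.Agent.Lib.Helper8.GlAutBasic
import Cfsg.Agent.Lib.Helper6.GlAutU

/-!
# Theorem G (Glauberman 1966), package P3: Step 3 (pass to `Γ ⧸ C_Γ(K)`, then `step5`)
-/

set_option autoImplicit false
open scoped commutatorElement

namespace Cfsg.Agent.Lib.Helper5.GlAut3

universe u

variable {Γ : Type u} [Group Γ]

/-- a subgroup meeting the kernel trivially has the same order as its image -/
theorem card_map_of_inf_ker_eq_bot {Γ' : Type*} [Group Γ'] (φ : Γ →* Γ') (W : Subgroup Γ)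
    (h : φ.ker ⊓ W = ⊥) : Nat.card ↥(W.map φ) = Nat.card ↥W := by
  rw [← Subgroup.relIndex_ker, ← Subgroup.inf_relIndex_right, h, Subgroup.relIndex_bot_left]

theorem comm_mem_of_normal {K : Subgroup Γ} [hK : K.Normal] (g : Γ) {k : Γ} (hk : k ∈ K) :
    ⁅g, k⁆ ∈ K := by
  rw [commutatorElement_def]
  exact K.mul_mem (hK.conj_mem k hk g) (K.inv_mem hk)

end Cfsg.Agent.Lib.Helper5.GlAut3

namespace Cfsg.Agent.Lib.Helper8.GlAut

open Cfsg.Agent.Lib.Helper5.GlAut3

universe u

variable {Γ : Type u} [Group Γ]

/-- Step 3, with Step 5 (the faithful case, for all ambient groups of the universe) as a hypothesis. -/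
theorem step3_of_step5 {n : ℕ}
    (step5 : ∀ (Γ' : Type u) [Group Γ'] [Finite Γ'] (K' : Subgroup Γ') [K'.Normal] (S' Q' : Subgroup Γ')
      (x' : Γ'), Nat.card ↥K' = n → Hyp K' S' Q' x' → oc K' = ⊥ →
      (∀ E : Subgroup Γ', E ≤ K' → K' ≤ Subgroup.normalizer (E : Set Γ') → E = ⊥ ∨ E = K') →
      Subgroup.centralizer (K' : Set Γ') = ⊥ → Concl K' Q' x')
    [Finite Γ] {K : Subgroup Γ} [K.Normal] {S Q : Subgroup Γ} {x : Γ}
    (hn : Nat.card ↥K = n) (hyp : Hyp K S Q x) (h1 : oc K = ⊥)
    (hs : ∀ E : Subgroup Γ, E ≤ K → K ≤ Subgroup.normalizer (E : Set Γ) → E = ⊥ ∨ E = K) :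
    Concl K Q x := by
  have hZn : K ≤ Subgroup.normalizer ((K ⊓ Subgroup.centralizer (K : Set Γ) : Subgroup Γ) : Set Γ) := by
    intro k _
    have : (K ⊓ Subgroup.centralizer (K : Set Γ)).Normal := inferInstance
    exact (Subgroup.normalizer_eq_top_iff.mpr this) ▸ Subgroup.mem_top k
  rcases hs (K ⊓ Subgroup.centralizer (K : Set Γ)) inf_le_left hZn with hZ | hZ
  · -- `K ∩ C_Γ(K) = 1`: pass to the quotient
    have hker : (QuotientGroup.mk' (Subgroup.centralizer (K : Set Γ))).ker
        = Subgroup.centralizer (K : Set Γ) := QuotientGroup.ker_mk' _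
    have hmk1 : ∀ g : Γ, QuotientGroup.mk' (Subgroup.centralizer (K : Set Γ)) g = 1 ↔
        g ∈ Subgroup.centralizer (K : Set Γ) := by
      intro g
      rw [QuotientGroup.mk'_apply, QuotientGroup.eq_one_iff]
    have hKC1 : ∀ g : Γ, g ∈ K → g ∈ Subgroup.centralizer (K : Set Γ) → g = 1 := by
      intro g hgK hgC
      have : g ∈ K ⊓ Subgroup.centralizer (K : Set Γ) := ⟨hgK, hgC⟩
      rw [hZ] at this
      exact Subgroup.mem_bot.mp this
    haveI hKbar : (K.map (QuotientGroup.mk' (Subgroup.centralizer (K : Set Γ)))).Normal :=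
      Subgroup.Normal.map inferInstance _ (QuotientGroup.mk'_surjective _)
    -- cardinality
    have hcard : Nat.card ↥(K.map (QuotientGroup.mk' (Subgroup.centralizer (K : Set Γ)))) = n := by
      rw [← hn]
      apply card_map_of_inf_ker_eq_bot
      rw [hker, inf_comm]; exact hZ
    have hyp' := hyp.map (QuotientGroup.mk' (Subgroup.centralizer (K : Set Γ)))
    -- `O(K̄) = 1`
    have h1' : oc (K.map (QuotientGroup.mk' (Subgroup.centralizer (K : Set Γ)))) = ⊥ := by
      have hWn : ((oc (K.map (QuotientGroup.mk' (Subgroup.centralizer (K : Set Γ))))).comap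
          (QuotientGroup.mk' (Subgroup.centralizer (K : Set Γ))) ⊓ K).Normal := by
        haveI : ((oc (K.map (QuotientGroup.mk' (Subgroup.centralizer (K : Set Γ))))).comap
          (QuotientGroup.mk' (Subgroup.centralizer (K : Set Γ)))).Normal :=
          Subgroup.Normal.comap inferInstance _
        infer_instance
      have hWle : (oc (K.map (QuotientGroup.mk' (Subgroup.centralizer (K : Set Γ))))).comap
          (QuotientGroup.mk' (Subgroup.centralizer (K : Set Γ))) ⊓ K ≤ oc K := by
        apply le_oc inf_le_right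
        · intro k _
          exact (Subgroup.normalizer_eq_top_iff.mpr hWn) ▸ Subgroup.mem_top k
        · have hc := card_map_of_inf_ker_eq_bot
            (QuotientGroup.mk' (Subgroup.centralizer (K : Set Γ)))
            ((oc (K.map (QuotientGroup.mk' (Subgroup.centralizer (K : Set Γ))))).comap
              (QuotientGroup.mk' (Subgroup.centralizer (K : Set Γ))) ⊓ K) (by
              rw [hker, eq_bot_iff]
              intro g hg
              exact Subgroup.mem_bot.mpr (hKC1 g hg.2.2 hg.1))
          rw [← hc]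
          have hle : ((oc (K.map (QuotientGroup.mk' (Subgroup.centralizer (K : Set Γ))))).comap
              (QuotientGroup.mk' (Subgroup.centralizer (K : Set Γ))) ⊓ K).map
              (QuotientGroup.mk' (Subgroup.centralizer (K : Set Γ)))
              ≤ oc (K.map (QuotientGroup.mk' (Subgroup.centralizer (K : Set Γ)))) := by
            rintro _ ⟨g, hg, rfl⟩
            exact hg.1
          exact Odd.of_dvd_nat (odd_card_oc _) (Subgroup.card_dvd_of_le hle)
      rw [eq_bot_iff]
      intro y hy
      obtain ⟨k, hk, rfl⟩ := oc_le _ hy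
      have hk1 : k ∈ oc K := hWle ⟨hy, hk⟩
      rw [h1] at hk1
      rw [Subgroup.mem_bot.mp hk1, map_one]
      exact Subgroup.one_mem _
    -- minimality passes to the image
    have hs' : ∀ E : Subgroup (Γ ⧸ Subgroup.centralizer (K : Set Γ)),
        E ≤ K.map (QuotientGroup.mk' (Subgroup.centralizer (K : Set Γ))) →
        K.map (QuotientGroup.mk' (Subgroup.centralizer (K : Set Γ))) ≤
          Subgroup.normalizer (E : Set (Γ ⧸ Subgroup.centralizer (K : Set Γ))) →
        E = ⊥ ∨ E = K.map (QuotientGroup.mk' (Subgroup.centralizer (K : Set Γ))) := by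
      intro E hEK hEn
      have hE0n : K ≤ Subgroup.normalizer
          ((E.comap (QuotientGroup.mk' (Subgroup.centralizer (K : Set Γ))) ⊓ K : Subgroup Γ) : Set Γ) := by
        intro k hk
        have hkn := hEn (Subgroup.mem_map_of_mem _ hk)
        rw [Subgroup.mem_normalizer_iff] at hkn ⊢
        intro a
        constructor
        · rintro ⟨ha1, ha2⟩
          refine ⟨?_, K.mul_mem (K.mul_mem hk ha2) (K.inv_mem hk)⟩
          show QuotientGroup.mk' (Subgroup.centralizer (K : Set Γ)) (k * a * k⁻¹) ∈ E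
          rw [map_mul, map_mul, map_inv]
          exact (hkn _).mp ha1
        · rintro ⟨ha1, ha2⟩
          refine ⟨?_, ?_⟩
          · have ha1' : QuotientGroup.mk' (Subgroup.centralizer (K : Set Γ)) (k * a * k⁻¹) ∈ E := ha1
            rw [map_mul, map_mul, map_inv] at ha1'
            show QuotientGroup.mk' (Subgroup.centralizer (K : Set Γ)) a ∈ E
            exact (hkn _).mpr ha1'
          · have := K.mul_mem (K.mul_mem (K.inv_mem hk) ha2) hk
            simpa [mul_assoc] using this
      rcases hs _ inf_le_right hE0n with h | h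
      · left
        rw [eq_bot_iff]
        intro y hy
        obtain ⟨k, hk, rfl⟩ := hEK hy
        have : k ∈ E.comap (QuotientGroup.mk' (Subgroup.centralizer (K : Set Γ))) ⊓ K := ⟨hy, hk⟩
        rw [h] at this
        rw [Subgroup.mem_bot.mp this, map_one]
        exact Subgroup.one_mem _
      · right
        apply le_antisymm hEK
        rintro _ ⟨k, hk, rfl⟩
        have : k ∈ E.comap (QuotientGroup.mk' (Subgroup.centralizer (K : Set Γ))) ⊓ K := by
          rw [h]; exact hk
        exact this.1
    -- faithfulness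
    have hC' : Subgroup.centralizer
        ((K.map (QuotientGroup.mk' (Subgroup.centralizer (K : Set Γ))) :
          Subgroup (Γ ⧸ Subgroup.centralizer (K : Set Γ))) :
          Set (Γ ⧸ Subgroup.centralizer (K : Set Γ))) = ⊥ := by
      rw [eq_bot_iff]
      intro y hy
      obtain ⟨g, rfl⟩ := QuotientGroup.mk'_surjective _ y
      rw [Subgroup.mem_bot, hmk1, Subgroup.mem_centralizer_iff]
      intro k hk
      have hcomm := Subgroup.mem_centralizer_iff.mp hy _ (Subgroup.mem_map_of_mem _ hk)
      have h2 : QuotientGroup.mk' (Subgroup.centralizer (K : Set Γ)) ⁅g, k⁆ = 1 := by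
        rw [map_commutatorElement, commutatorElement_eq_one_iff_commute]
        exact hcomm.symm
      have h3 : ⁅g, k⁆ = 1 := hKC1 _ (comm_mem_of_normal g hk) ((hmk1 _).mp h2)
      exact ((commutatorElement_eq_one_iff_commute.mp h3).eq).symm
    have hconcl := step5 _ _ _ _ _ hcard hyp' h1' hs' hC'
    intro q hq k hk
    have h2 := hconcl _ (Subgroup.mem_map_of_mem _ hq) _ (Subgroup.mem_map_of_mem _ hk)
    rw [h1', Subgroup.mem_bot, ← map_commutatorElement, ← map_commutatorElement, hmk1] at h2
    rw [hKC1 _ (comm_mem_of_normal _ hk) h2]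
    exact Subgroup.one_mem _
  · -- `K` abelian: `K = S`
    have hKC : K ≤ Subgroup.centralizer (K : Set Γ) := by
      intro k hk
      have : k ∈ K ⊓ Subgroup.centralizer (K : Set Γ) := by rw [hZ]; exact hk
      exact this.2
    have hKS : K = S := eq_of_le_centralizer_sylMax hyp.syl h1
      (hKC.trans (Subgroup.centralizer_le hyp.syl.1))
    intro q hq k hk
    have hqx : ⁅q, x⁆ ∈ Subgroup.centralizer (S : Set Γ) := by
      rw [commutatorElement_def]
      exact Subgroup.mul_mem _ (Subgroup.mul_mem _ (Subgroup.mul_mem _ (hyp.hQS hq) hyp.hxS)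
        (Subgroup.inv_mem _ (hyp.hQS hq))) (Subgroup.inv_mem _ hyp.hxS)
    have hkS : k ∈ S := hKS ▸ hk
    have hcomm : k * ⁅q, x⁆ = ⁅q, x⁆ * k := Subgroup.mem_centralizer_iff.mp hqx k hkS
    have : ⁅⁅q, x⁆, k⁆ = 1 := by
      rw [commutatorElement_eq_one_iff_commute]
      exact hcomm.symm
    rw [this]
    exact Subgroup.one_mem _

end Cfsg.Agent.Lib.Helper8.GlAut
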