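import Mathlib
import Cfsg.Agent.Lib.Helper1.LW.Defs

/-!
# S0746 swarm, package PRIME (`prime_degree_bound`)

A permutation group `L` of order `p q` (`p` prime, `p ∤ q`, Sylow number forced to be one) acting
faithfully on an invariant set of `p` points has `q ∣ p - 1`: the Sylow `p`-subgroup `⟨σ⟩` is
normal and self-centralising (σ is regular on the `p` points), so `L / ⟨σ⟩` embeds in `Aut ⟨σ⟩`.
-/

set_option autoImplicit false
set_option linter.style.haveILetI false

namespace Cfsg.Agent.Lib.Helper1.LW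

/-- abstract part: a group of order `p q` with a self-centralising Sylow `p`-subgroup of order `p`
whose Sylow number is forced to be one has `q ∣ p - 1`. -/
theorem prime_aut_bound {G : Type*} [Group G] [Finite G] (p q : ℕ) [hp : Fact p.Prime]
    (hG : Nat.card G = p * q) (hpq : ¬ p ∣ q) (hsyl : ∀ d, d ∣ q → d % p = 1 → d = 1)
    (P : Sylow p G)
    (hC : Nat.card P = p → ∀ g : G, (∀ h ∈ P, g * h = h * g) → g ∈ P) : q ∣ p - 1 := by
  have hp' := hp.out
  have hq0 : q ≠ 0 := by rintro rfl; exact hpq (dvd_zero p)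
  have hPcard : Nat.card P = p := by
    rw [Sylow.card_eq_multiplicity, hG, Nat.factorization_mul hp'.ne_zero hq0]
    simp [hp'.factorization_self, Nat.factorization_eq_zero_of_not_dvd hpq]
  have hidx : (P : Subgroup G).index = q := by
    have h := Subgroup.card_mul_index (P : Subgroup G)
    rw [hG] at h
    have hPc : Nat.card (P : Subgroup G) = p := hPcard
    rw [hPc] at h
    exact Nat.eq_of_mul_eq_mul_left hp'.pos h
  have hn : Nat.card (Sylow p G) = 1 := by
    refine hsyl _ (hidx ▸ Sylow.card_dvd_index P) ?_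
    have h1 := card_sylow_modEq_one p G
    have : 1 % p = 1 := Nat.mod_eq_of_lt hp'.one_lt
    rw [Nat.ModEq, this] at h1
    exact h1
  haveI : Subsingleton (Sylow p G) := (Nat.card_eq_one_iff_unique.mp hn).1
  haveI : (P : Subgroup G).Normal := Sylow.normal_of_subsingleton P
  let φ : G →* MulAut (P : Subgroup G) := MulAut.conjNormal
  have hker : φ.ker ≤ (P : Subgroup G) := by
    intro g hg
    apply hC hPcard
    intro h hh
    have h1 : φ g ⟨h, hh⟩ = ⟨h, hh⟩ := by
      rw [MonoidHom.mem_ker] at hg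
      rw [hg]; rfl
    have h2 := congrArg Subtype.val h1
    rw [MulAut.conjNormal_apply] at h2
    calc g * h = g * h * g⁻¹ * g := by group
      _ = h * g := by rw [h2]
  haveI : Fact (Nat.card (P : Subgroup G)).Prime := ⟨by rw [show Nat.card (P : Subgroup G) = p from hPcard]; exact hp'⟩
  haveI : IsCyclic (P : Subgroup G) := isCyclic_of_prime_card rfl
  have hAut : Nat.card (MulAut (P : Subgroup G)) = p - 1 := by
    rw [IsCyclic.card_mulAut, show Nat.card (P : Subgroup G) = p from hPcard, Nat.totient_prime hp']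
  have h1 : Nat.card φ.ker * Nat.card φ.range = p * q := by
    rw [← hG, ← Subgroup.index_ker]; exact Subgroup.card_mul_index _
  have h2 : Nat.card φ.range ∣ p - 1 := hAut ▸ Subgroup.card_subgroup_dvd_card _
  have h3 : Nat.card φ.ker ∣ p := by
    have := Subgroup.card_dvd_of_le hker
    rwa [show Nat.card (P : Subgroup G) = p from hPcard] at this
  rcases (Nat.dvd_prime hp').mp h3 with hk | hk
  · rw [hk, one_mul] at h1
    exfalso
    have : p ∣ p - 1 := (Dvd.intro _ h1.symm).trans h2
    have hpos : 0 < p - 1 := Nat.sub_pos_of_lt hp'.one_lt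
    have := Nat.le_of_dvd hpos this
    omega
  · rw [hk] at h1
    have : Nat.card φ.range = q := Nat.eq_of_mul_eq_mul_left hp'.pos h1
    rw [← this]; exact h2

variable {α : Type*} [Fintype α] [DecidableEq α]

omit [Fintype α] in
/-- a permutation of prime order `p` stabilising a `p`-set and moving one of its points is regular
on it; every permutation stabilising the set and commuting with it agrees with a power of it there -/
theorem prime_cycle_centralizer (σ g : Equiv.Perm α) (X : Finset α) (p : ℕ) (hp : p.Prime)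
    (hX : X.card = p) (hσp : σ ^ p = 1) (hσX : ∀ x ∈ X, σ x ∈ X) (x₁ : α) (hx₁ : x₁ ∈ X)
    (hmove : σ x₁ ≠ x₁) (hgX : ∀ x ∈ X, g x ∈ X) (hcomm : g * σ = σ * g) :
    ∃ j : ℕ, ∀ x ∈ X, g x = (σ ^ j) x := by
  classical
  -- powers of σ stabilise X
  have hpowX : ∀ (j : ℕ) (x : α), x ∈ X → (σ ^ j) x ∈ X := by
    intro j
    induction j with
    | zero => intro x hx; simpa using hx
    | succ j ih => intro x hx; rw [pow_succ', Equiv.Perm.mul_apply]; exact hσX _ (ih x hx)
  -- a power `σ ^ d`, `0 < d < p`, fixing `x₁` forces `σ x₁ = x₁`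
  have hfix : ∀ d : ℕ, 0 < d → d < p → (σ ^ d) x₁ = x₁ → False := by
    intro d hd0 hdp hd
    have hcop : Nat.Coprime d p := (Nat.coprime_of_lt_prime (by omega) hdp hp).symm
    obtain ⟨m, -, hm⟩ := Nat.exists_mul_mod_eq_one_of_coprime hcop hp.one_lt
    -- σ = (σ^d)^m
    have hσ : σ = (σ ^ d) ^ m := by
      rw [← pow_mul]
      have : d * m = p * (d * m / p) + 1 := by
        have := Nat.div_add_mod (d * m) p
        omega
      rw [this, pow_add, pow_mul, hσp, one_pow, one_mul, pow_one]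
    have hfixm : ∀ m : ℕ, ((σ ^ d) ^ m) x₁ = x₁ := by
      intro m
      induction m with
      | zero => simp
      | succ m ih => rw [pow_succ', Equiv.Perm.mul_apply, ih, hd]
    apply hmove
    conv_lhs => rw [hσ]
    exact hfixm m
  -- the orbit map is injective on `range p`
  have hinj : Set.InjOn (fun j : ℕ => (σ ^ j) x₁) (Finset.range p : Set ℕ) := by
    intro i hi j hj hij
    simp only [Finset.coe_range, Set.mem_Iio] at hi hj
    by_contra hne
    rcases Nat.lt_or_gt_of_ne hne with hlt | hlt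
    · apply hfix (j - i) (by omega) (by omega)
      have : σ ^ j = σ ^ i * σ ^ (j - i) := by rw [← pow_add]; congr 1; omega
      have h2 : (σ ^ i) ((σ ^ (j - i)) x₁) = (σ ^ i) x₁ := by
        rw [← Equiv.Perm.mul_apply, ← this]; exact hij.symm
      exact (σ ^ i).injective h2
    · apply hfix (i - j) (by omega) (by omega)
      have : σ ^ i = σ ^ j * σ ^ (i - j) := by rw [← pow_add]; congr 1; omega
      have h2 : (σ ^ j) ((σ ^ (i - j)) x₁) = (σ ^ j) x₁ := by
        rw [← Equiv.Perm.mul_apply, ← this]; exact hij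
      exact (σ ^ j).injective h2
  have himg : (Finset.range p).image (fun j : ℕ => (σ ^ j) x₁) = X := by
    apply Finset.eq_of_subset_of_card_le
    · intro y hy
      obtain ⟨j, _, rfl⟩ := Finset.mem_image.mp hy
      exact hpowX j x₁ hx₁
    · rw [Finset.card_image_of_injOn hinj, Finset.card_range, hX]
  have hrep : ∀ x ∈ X, ∃ i : ℕ, x = (σ ^ i) x₁ := by
    intro x hx
    rw [← himg] at hx
    obtain ⟨i, _, rfl⟩ := Finset.mem_image.mp hx
    exact ⟨i, rfl⟩
  obtain ⟨j, hj⟩ := hrep (g x₁) (hgX x₁ hx₁)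
  refine ⟨j, fun x hx => ?_⟩
  obtain ⟨i, rfl⟩ := hrep x hx
  have hci : ∀ i : ℕ, g * σ ^ i = σ ^ i * g := by
    intro i
    induction i with
    | zero => simp
    | succ i ih => rw [pow_succ, ← mul_assoc, ih, mul_assoc, hcomm, ← mul_assoc]
  calc g ((σ ^ i) x₁) = (g * σ ^ i) x₁ := rfl
    _ = (σ ^ i * g) x₁ := by rw [hci]
    _ = (σ ^ i) ((σ ^ j) x₁) := by rw [Equiv.Perm.mul_apply, hj]
    _ = (σ ^ j) ((σ ^ i) x₁) := by
        rw [← Equiv.Perm.mul_apply, ← Equiv.Perm.mul_apply, ← pow_add, ← pow_add, add_comm]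

/-- Package PRIME. -/
theorem prime_degree_bound (L : Subgroup (Equiv.Perm α)) (X : Finset α) (p q : ℕ) (hp : p.Prime)
    (hX : X.card = p) (hinv : ∀ g ∈ L, ∀ x ∈ X, g x ∈ X)
    (hfaith : ∀ g ∈ L, (∀ x ∈ X, g x = x) → g = 1)
    (hL : Nat.card L = p * q) (hpq : ¬ p ∣ q)
    (hsyl : ∀ d, d ∣ q → d % p = 1 → d = 1) : q ∣ p - 1 := by
  classical
  haveI : Fact p.Prime := ⟨hp⟩
  obtain ⟨P⟩ := (inferInstance : Nonempty (Sylow p L))
  refine prime_aut_bound p q hL hpq hsyl P (fun hPcard g hg => ?_)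
  -- a generator of `P`
  have hPcard' : Nat.card (P : Subgroup L) = p := hPcard
  have hne : (P : Subgroup L) ≠ ⊥ := by
    intro h
    rw [h, Subgroup.card_bot] at hPcard'
    exact hp.one_lt.ne hPcard'
  obtain ⟨⟨σ, hσP⟩, hσ1⟩ := Subgroup.ne_bot_iff_exists_ne_one.mp hne
  have hσ1' : σ ≠ 1 := fun h => hσ1 (Subtype.ext h)
  -- `σ ^ p = 1`
  have hσp : σ ^ p = 1 := by
    have h := pow_card_eq_one' (G := (P : Subgroup L)) (x := ⟨σ, hσP⟩)
    rw [hPcard'] at h
    have := congrArg Subtype.val h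
    simpa using this
  have hσp' : (σ : Equiv.Perm α) ^ p = 1 := by
    have := congrArg Subtype.val hσp
    simpa using this
  have hσ1'' : (σ : Equiv.Perm α) ≠ 1 := fun h => hσ1' (Subtype.ext h)
  -- σ moves a point of `X`
  have hmove : ∃ x₁ ∈ X, (σ : Equiv.Perm α) x₁ ≠ x₁ := by
    by_contra hcon
    simp only [not_exists, not_and, not_not] at hcon
    exact hσ1'' (hfaith σ σ.2 hcon)
  obtain ⟨x₁, hx₁, hmv⟩ := hmove
  have hcomm : (g : Equiv.Perm α) * (σ : Equiv.Perm α) = (σ : Equiv.Perm α) * (g : Equiv.Perm α) := by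
    have := congrArg Subtype.val (hg σ hσP)
    simpa using this
  obtain ⟨j, hj⟩ := prime_cycle_centralizer (σ : Equiv.Perm α) (g : Equiv.Perm α) X p hp hX hσp'
    (hinv σ σ.2) x₁ hx₁ hmv (hinv g g.2) hcomm
  have hmem : ((σ : Equiv.Perm α) ^ j)⁻¹ * (g : Equiv.Perm α) ∈ L :=
    L.mul_mem (L.inv_mem (L.pow_mem σ.2 j)) g.2
  have hone : ((σ : Equiv.Perm α) ^ j)⁻¹ * (g : Equiv.Perm α) = 1 := by
    apply hfaith _ hmem
    intro x hx
    rw [Equiv.Perm.mul_apply, hj x hx]
    simp
  have hgσ : g = σ ^ j := by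
    apply Subtype.ext
    have : (g : Equiv.Perm α) = (σ : Equiv.Perm α) ^ j := by
      have := congrArg (fun t => (σ : Equiv.Perm α) ^ j * t) hone
      simpa using this
    simpa using this
  rw [hgσ]
  exact (P : Subgroup L).pow_mem hσP j

end Cfsg.Agent.Lib.Helper1.LW
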