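import Mathlib
import Cfsg.Agent.Lib.Helper1.LW.Basic
import Cfsg.Agent.Lib.Helper5.LW_prime
import Cfsg.Agent.Lib.Helper2.LW_N

/-!
# S0746 swarm, package SMALL (`false_of_le_five`)

`k ≤ 5`: the numerical constraints of `NK` leave `(k, r, s, n) ∈ {(4,3,3,11), (5,3,3,12), (5,3,7,24)}`,
and each is killed by `prime_degree_bound` (applied to `G` resp. to a point stabiliser).
-/

set_option autoImplicit false
set_option linter.style.haveILetI false

namespace Cfsg.Agent.Lib.Helper1.LW

/-- the arithmetic of the small cases -/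
theorem small_arith (k n r s : ℕ) (hk3 : 3 ≤ k) (hk5 : k ≤ 5) (hkn : 2 * k ≤ n)
    (hrs : s * r + k = n + 2) (hr : 2 ≤ r) (hr1 : r ∣ (k - 1).factorial)
    (hr2 : r * (n + 1 - k) ∣ k.factorial) (hodd : k = 5 → Odd s) :
    (k = 4 ∧ r = 3 ∧ s = 3 ∧ n = 11) ∨ (k = 5 ∧ r = 3 ∧ s = 3 ∧ n = 12) ∨
      (k = 5 ∧ r = 3 ∧ s = 7 ∧ n = 24) := by
  -- m := n + 1 - k
  obtain ⟨m, hm⟩ : ∃ m, n + 1 = m + k := ⟨n + 1 - k, by omega⟩
  have hm' : n + 1 - k = m := by omega
  rw [hm'] at hr2
  interval_cases k
  · -- k = 3
    have h2 : r ∣ 2 := by simpa [Nat.factorial] using hr1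
    have h6 : r * m ∣ 6 := by simpa [Nat.factorial] using hr2
    have hr' : r ≤ 2 := Nat.le_of_dvd (by norm_num) h2
    have hr2' : r = 2 := by omega
    subst hr2'
    have : 2 * m ≤ 6 := Nat.le_of_dvd (by norm_num) h6
    omega
  · -- k = 4
    have h6 : r ∣ 6 := by simpa [Nat.factorial] using hr1
    have h24 : r * m ∣ 24 := by simpa [Nat.factorial] using hr2
    have hr' : r ≤ 6 := Nat.le_of_dvd (by norm_num) h6
    have hmle : r * m ≤ 24 := Nat.le_of_dvd (by norm_num) h24
    have hm5 : 5 ≤ m := by omega
    interval_cases r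
    · -- r = 2
      have : m ≤ 12 := by omega
      interval_cases m <;> omega
    · have : m ≤ 8 := by omega
      interval_cases m <;> omega
    · exfalso; revert h6; decide
    · exfalso; revert h6; decide
    · omega
  · -- k = 5
    have h24 : r ∣ 24 := by simpa [Nat.factorial] using hr1
    have h120 : r * m ∣ 120 := by simpa [Nat.factorial] using hr2
    obtain ⟨j, hj⟩ := hodd rfl
    have hr' : r ≤ 24 := Nat.le_of_dvd (by norm_num) h24
    have hmle : r * m ≤ 120 := Nat.le_of_dvd (by norm_num) h120
    have hm6 : 6 ≤ m := by omega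
    have hrm : r * 6 ≤ 120 := le_trans (Nat.mul_le_mul_left r hm6) hmle
    have hr20 : r ≤ 20 := by omega
    interval_cases r
    all_goals first
      | (exfalso; revert h24; decide)
      | (have hmb : m ≤ 60 := by omega
         interval_cases m <;> omega)

variable {α : Type*} [Fintype α] [DecidableEq α] {G : Subgroup (Equiv.Perm α)} {k : ℕ}

/-- a point stabiliser as a subgroup of `Perm α`, with its order and its action on the other points -/
theorem small_point_stab (h : Cfg G k) (x : α) :
    ∃ L : Subgroup (Equiv.Perm α), Nat.card L * Fintype.card α = Nat.card G ∧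
      (∀ g ∈ L, ∀ y ∈ (Finset.univ : Finset α).erase x, g y ∈ (Finset.univ : Finset α).erase x) ∧
      (∀ g ∈ L, (∀ y ∈ (Finset.univ : Finset α).erase x, g y = y) → g = 1) := by
  classical
  have hk := h.hk
  have hkn := h.hkn
  haveI := h.trans
  have h1 : MulAction.IsMultiplyPretransitive G α 1 :=
    MulAction.isMultiplyPretransitive_of_le (n := k - 2) (by omega)
      (by rw [Nat.card_eq_fintype_card]; omega)
  haveI : MulAction.IsPretransitive G α := MulAction.is_one_pretransitive_iff.mp h1
  refine ⟨(MulAction.stabilizer G x).map G.subtype, ?_, ?_, ?_⟩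
  · rw [Subgroup.card_map_of_injective G.subtype_injective, ← Nat.card_eq_fintype_card,
      ← MulAction.index_stabilizer_of_transitive G x]
    exact Subgroup.card_mul_index _
  · rintro g ⟨g', hg', rfl⟩ y hy
    rw [Finset.mem_erase] at hy ⊢
    refine ⟨fun hyx => hy.1 ?_, Finset.mem_univ _⟩
    have hx : (G.subtype g') x = x := MulAction.mem_stabilizer_iff.mp hg'
    exact (G.subtype g').injective (hyx.trans hx.symm)
  · rintro g ⟨g', hg', rfl⟩ hfix
    have hx : (G.subtype g') x = x := MulAction.mem_stabilizer_iff.mp hg'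
    ext y
    by_cases hy : y = x
    · rw [hy, hx]; rfl
    · rw [hfix y (Finset.mem_erase.mpr ⟨hy, Finset.mem_univ _⟩)]; rfl

/-- Package SMALL. -/
theorem false_of_le_five {r s : ℕ} (h : Cfg G k) (w : WK G k) (sk : SK G k) (nk : NK G k r s)
    (hk5 : k ≤ 5) : False := by
  classical
  have hodd := odd_s h sk nk
  have hG := nk.hG
  rcases small_arith k (Fintype.card α) r s h.hk hk5 h.hkn nk.hrs nk.hr nk.hr1 nk.hr2
    (fun _ => hodd) with ⟨rfl, rfl, rfl, hn⟩ | ⟨rfl, rfl, rfl, hn⟩ | ⟨rfl, rfl, rfl, hn⟩
  · -- `(k, r, s, n) = (4, 3, 3, 11)`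
    rw [hn] at hG
    have hGc : Nat.card G = 330 := by
      have : Nat.card G * Nat.factorial 9 = 330 * Nat.factorial 9 := by
        rw [show (11 + 2 - 4 : ℕ) = 9 from rfl] at hG
        rw [hG]; norm_num [Nat.factorial]
      exact Nat.eq_of_mul_eq_mul_right (Nat.factorial_pos 9) this
    have hdvd := prime_degree_bound G Finset.univ 11 30 (by norm_num)
      (by rw [Finset.card_univ, hn]) (fun _ _ x _ => Finset.mem_univ _)
      (fun g _ hg => Equiv.ext (fun x => hg x (Finset.mem_univ x))) (by rw [hGc]) (by norm_num)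
      (by
        intro d hd hd1
        have := Nat.le_of_dvd (by norm_num) hd
        interval_cases d <;> omega)
    omega
  · -- `(k, r, s, n) = (5, 3, 3, 12)`
    rw [hn] at hG
    have hGc : Nat.card G = 3960 := by
      have : Nat.card G * Nat.factorial 9 = 3960 * Nat.factorial 9 := by
        rw [show (12 + 2 - 5 : ℕ) = 9 from rfl] at hG
        rw [hG]; norm_num [Nat.factorial]
      exact Nat.eq_of_mul_eq_mul_right (Nat.factorial_pos 9) this
    haveI : Nonempty α := Fintype.card_pos_iff.mp (by omega)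
    obtain ⟨x⟩ := ‹Nonempty α›
    obtain ⟨L, hL, hinv, hfaith⟩ := small_point_stab h x
    rw [hn, hGc] at hL
    have hLc : Nat.card L = 11 * 30 := by omega
    have hdvd := prime_degree_bound L ((Finset.univ : Finset α).erase x) 11 30 (by norm_num)
      (by rw [Finset.card_erase_of_mem (Finset.mem_univ x), Finset.card_univ, hn]) hinv hfaith hLc
      (by norm_num)
      (by
        intro d hd hd1
        have := Nat.le_of_dvd (by norm_num) hd
        interval_cases d <;> omega)
    omega
  · -- `(k, r, s, n) = (5, 3, 7, 24)`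
    rw [hn] at hG
    have hGc : Nat.card G = 85008 := by
      have : Nat.card G * Nat.factorial 21 = 85008 * Nat.factorial 21 := by
        rw [show (24 + 2 - 5 : ℕ) = 21 from rfl] at hG
        rw [hG]; norm_num [Nat.factorial]
      exact Nat.eq_of_mul_eq_mul_right (Nat.factorial_pos 21) this
    haveI : Nonempty α := Fintype.card_pos_iff.mp (by omega)
    obtain ⟨x⟩ := ‹Nonempty α›
    obtain ⟨L, hL, hinv, hfaith⟩ := small_point_stab h x
    rw [hn, hGc] at hL
    have hLc : Nat.card L = 23 * 154 := by omega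
    have hdvd := prime_degree_bound L ((Finset.univ : Finset α).erase x) 23 154 (by norm_num)
      (by rw [Finset.card_erase_of_mem (Finset.mem_univ x), Finset.card_univ, hn]) hinv hfaith hLc
      (by norm_num)
      (by
        intro d hd hd1
        have := Nat.le_of_dvd (by norm_num) hd
        interval_cases d <;> omega)
    omega

end Cfsg.Agent.Lib.Helper1.LW
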