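import Mathlib
import Cfsg.Agent.Lib.Lead.MixCfg
import Cfsg.Agent.Lib.Lead.MixIto
import Cfsg.Agent.Lib.Helper7.MixP2a

set_option autoImplicit false
set_option linter.style.haveILetI false
set_option linter.unusedSectionVars false
set_option linter.unusedVariables false
set_option maxHeartbeats 800000

/-! S4017, package P2 (1.4): the normalizer of `Q` is a maximal subgroup. -/

namespace Cfsg.Agent.Lib.Helper5.Mix

open Cfsg.Agent.Lib.Lead.Mix Cfsg.Agent.Lib.Helper7.Mix
open scoped commutatorElement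

universe u

variable {G : Type u} [Group G]

/-- a subgroup all of whose elements conjugate `H` into itself normalizes `H` -/
theorem le_normalizer_of_forall_conj_mem {H X : Subgroup G}
    (hX : ∀ g ∈ X, ∀ h ∈ H, g * h * g⁻¹ ∈ H) : X ≤ Subgroup.normalizer (H : Set G) := by
  intro g hg
  rw [Subgroup.mem_normalizer_iff]
  intro h
  constructor
  · exact hX g hg h
  · intro hh
    have := hX g⁻¹ (X.inv_mem hg) _ hh
    have e : g⁻¹ * (g * h * g⁻¹) * g⁻¹⁻¹ = h := by group
    rwa [e] at this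

variable [Finite G] {p a : ℕ} {Q : Subgroup G} {w : G}

theorem cfg_w_pow_conj (h : Cfg G p a Q w) (n : ℕ) : ∀ x ∈ Q, w ^ n * x * (w ^ n)⁻¹ ∈ Q := by
  induction n with
  | zero => intro x hx; simpa using hx
  | succ n ih =>
    intro x hx
    have h1 := h.wQ _ (ih x hx)
    have e : w ^ (n + 1) * x * (w ^ (n + 1))⁻¹ = w * (w ^ n * x * (w ^ n)⁻¹) * w⁻¹ := by
      rw [pow_succ']; group
    rw [e]; exact h1

/-- `w` normalizes `Q` -/
theorem cfg_w_mem_normalizer (h : Cfg G p a Q w) : w ∈ Subgroup.normalizer (Q : Set G) := by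
  have hX : Subgroup.zpowers w ≤ Subgroup.normalizer (Q : Set G) := by
    apply le_normalizer_of_forall_conj_mem
    intro g hg x hx
    obtain ⟨n, rfl⟩ := (Submonoid.mem_powers_iff g w).mp (mem_powers_iff_mem_zpowers.mpr hg)
    exact cfg_w_pow_conj h n x hx
  exact hX (Subgroup.mem_zpowers w)

/-- `w` fixes no nonidentity element of `Q` -/
theorem cfg_w_fix (h : Cfg G p a Q w) {u : G} (hu : u ∈ Q) (hwu : w * u * w⁻¹ = u) : u = 1 := by
  by_contra hu1
  have hpow : ∀ n : ℕ, w ^ n * u * (w ^ n)⁻¹ = u := by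
    intro n
    induction n with
    | zero => simp
    | succ n ih =>
      have e : w ^ (n + 1) * u * (w ^ (n + 1))⁻¹ = w * (w ^ n * u * (w ^ n)⁻¹) * w⁻¹ := by
        rw [pow_succ']; group
      rw [e, ih, hwu]
  obtain ⟨x, hx, y, hy, hx1, hy1, hxy⟩ := cfg_exists_two h
  obtain ⟨i, hi⟩ := h.wtr u hu hu1 x hx hx1
  obtain ⟨j, hj⟩ := h.wtr u hu hu1 y hy hy1
  rw [hpow] at hi hj
  exact hxy (hi.symm.trans hj)

/-- every element of `Q` is a commutator `[w, x]` with `x ∈ Q` -/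
theorem cfg_Q_comm (h : Cfg G p a Q w) {q0 : G} (hq0 : q0 ∈ Q) :
    ∃ x ∈ Q, q0 = w * x * w⁻¹ * x⁻¹ := by
  let f : Q → Q := fun x => ⟨w * x * w⁻¹ * (x : G)⁻¹, Q.mul_mem (h.wQ x x.2) (Q.inv_mem x.2)⟩
  have hinj : Function.Injective f := by
    intro x y hxy
    have h1 : w * (x : G) * w⁻¹ * (x : G)⁻¹ = w * (y : G) * w⁻¹ * (y : G)⁻¹ :=
      congrArg Subtype.val hxy
    have hu : (y : G)⁻¹ * (x : G) ∈ Q := Q.mul_mem (Q.inv_mem y.2) x.2
    have h2 : w * ((y : G)⁻¹ * (x : G)) * w⁻¹ = (y : G)⁻¹ * (x : G) := by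
      have h3 : w * (x : G) * w⁻¹ = w * (y : G) * w⁻¹ * (y : G)⁻¹ * (x : G) := by
        rw [← h1]; group
      calc w * ((y : G)⁻¹ * (x : G)) * w⁻¹ = (w * (y : G) * w⁻¹)⁻¹ * (w * (x : G) * w⁻¹) := by
            group
        _ = (w * (y : G) * w⁻¹)⁻¹ * (w * (y : G) * w⁻¹ * (y : G)⁻¹ * (x : G)) := by rw [h3]
        _ = (y : G)⁻¹ * (x : G) := by group
    have h4 := cfg_w_fix h hu h2
    apply Subtype.ext
    have : (x : G) = (y : G) * ((y : G)⁻¹ * (x : G)) := by group
    rw [this, h4, mul_one]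
  have hsurj : Function.Surjective f := Finite.injective_iff_surjective.mp hinj
  obtain ⟨x, hx⟩ := hsurj ⟨q0, hq0⟩
  exact ⟨x, x.2, (congrArg Subtype.val hx).symm⟩

/-- (1.4) `N_G(Q)` is a maximal subgroup -/
theorem cfg_norm_max (h : Cfg G p a Q w) : ∀ X : Subgroup G,
    Subgroup.normalizer (Q : Set G) ≤ X → X ≠ ⊤ → X = Subgroup.normalizer (Q : Set G) := by
  intro X hMX hXtop
  have hp := h.hp
  haveI : Fact p.Prime := ⟨hp⟩
  have hp2 : p ≠ 2 := by
    intro hp2
    have h1 := h.hpa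
    rw [hp2] at h1
    have h2 : 4 ≤ 2 ^ a := by
      calc 4 = 2 ^ 2 := by norm_num
        _ ≤ 2 ^ a := Nat.pow_le_pow_right (by norm_num) h.ha
    omega
  have hQX : Q ≤ X := Subgroup.le_normalizer.trans hMX
  have hwX : w ∈ X := hMX (cfg_w_mem_normalizer h)
  apply le_antisymm _ hMX
  -- the order of `X`
  have hQdvd : 2 ^ a ∣ Nat.card X := by rw [← h.Qcard]; exact Subgroup.card_dvd_of_le hQX
  have h2X : 2 ∣ Nat.card X := (dvd_pow_self 2 (by have := h.ha; omega)).trans hQdvd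
  have hprop := h.prop X hXtop h2X
  have hXpos : Nat.card X ≠ 0 := Nat.card_pos.ne'
  obtain ⟨e, m, hm2, hXe⟩ := Nat.exists_eq_pow_mul_and_not_dvd hXpos 2 (by norm_num)
  have hmpos : m ≠ 0 := by rintro rfl; simp at hXe; exact hXpos hXe
  obtain ⟨k, m', hm'p, hmk⟩ := Nat.exists_eq_pow_mul_and_not_dvd hmpos p hp.ne_one
  have hm'1 : m' = 1 := by
    rw [Nat.eq_one_iff_not_exists_prime_dvd]
    intro r hr hrm'
    have hrm : r ∣ m := by rw [hmk]; exact hrm'.trans (Dvd.intro_left _ rfl)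
    have hrX : r ∣ Nat.card X := by rw [hXe]; exact hrm.trans (Dvd.intro_left _ rfl)
    rcases hprop r hr hrX with rfl | rfl
    · exact hm2 hrm
    · exact hm'p hrm'
  rw [hm'1, mul_one] at hmk
  rw [hmk] at hXe
  have hcop2p : Nat.Coprime 2 p := (Nat.coprime_primes Nat.prime_two hp).mpr (Ne.symm hp2)
  have hea : e = a := by
    apply le_antisymm
    · by_contra hlt
      push Not at hlt
      have h1 : 2 ^ (a + 1) ∣ Nat.card X := by
        rw [hXe]
        exact (Nat.pow_dvd_pow 2 hlt).trans (Dvd.intro _ rfl)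
      exact h.Gcard (h1.trans (Subgroup.card_subgroup_dvd_card X))
    · have h1 : 2 ^ a ∣ 2 ^ e * p ^ k := by rw [← hXe]; exact hQdvd
      have h2 : 2 ^ a ∣ 2 ^ e :=
        (Nat.Coprime.pow a k hcop2p).dvd_of_dvd_mul_right h1
      exact (Nat.pow_dvd_pow_iff_le_right (by norm_num)).mp h2
  rw [hea] at hXe
  -- work inside `X`
  have hpkX : p ^ k ∣ Nat.card X := by rw [hXe]; exact Dvd.intro_left _ rfl
  obtain ⟨A, hA⟩ := Sylow.exists_subgroup_card_pow_prime p hpkX
  set B : Subgroup X := Q.subgroupOf X with hB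
  have hBcard : Nat.card B = 2 ^ a := by
    rw [hB, Nat.card_congr (Subgroup.subgroupOfEquivOfLe hQX).toEquiv, h.Qcard]
  have hcompl : Subgroup.IsComplement' A B := by
    apply Subgroup.isComplement'_of_coprime
    · rw [hA, hBcard, hXe, mul_comm]
    · rw [hA, hBcard]
      exact (Nat.Coprime.pow a k hcop2p).symm
  have hAB : ∀ g : X, ∃ x ∈ A, ∃ y ∈ B, g = x * y := by
    intro g
    obtain ⟨xy, hxy, -⟩ := (Subgroup.isComplement'_def.mp hcompl).existsUnique g
    exact ⟨xy.1.1, xy.1.2, xy.2.1, xy.2.2, hxy.symm⟩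
  have hAp : IsPGroup p (A.map X.subtype) := (IsPGroup.of_card hA).map X.subtype
  have hAab : ∀ x ∈ A, ∀ y ∈ A, x * y = y * x := by
    intro x hx y hy
    apply Subtype.ext
    exact h.pab (A.map X.subtype) hAp (x : G) ⟨x, hx, rfl⟩ (y : G) ⟨y, hy, rfl⟩
  have hBab : ∀ x ∈ B, ∀ y ∈ B, x * y = y * x := by
    intro x hx y hy
    apply Subtype.ext
    exact h.Qab (x : G) (Subgroup.mem_subgroupOf.mp hx) (y : G) (Subgroup.mem_subgroupOf.mp hy)
  have hito := ito A B hAab hBab hAB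
  -- `B ≤ X'`
  have hBX' : B ≤ commutator X := by
    intro y hy
    have hyQ : (y : G) ∈ Q := Subgroup.mem_subgroupOf.mp hy
    obtain ⟨x, hx, hyx⟩ := cfg_Q_comm h hyQ
    have h1 : y = ⁅(⟨w, hwX⟩ : X), (⟨x, hQX hx⟩ : X)⁆ := by
      apply Subtype.ext
      rw [hyx]
      simp [commutatorElement_def]
    rw [h1, commutator_def]
    exact Subgroup.commutator_mem_commutator (Subgroup.mem_top _) (Subgroup.mem_top _)
  -- the elements of order dividing `2` in `X'`
  let T : Subgroup X :=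
    { carrier := {y | y ∈ commutator X ∧ y ^ 2 = 1}
      one_mem' := ⟨Subgroup.one_mem _, one_pow 2⟩
      mul_mem' := by
        rintro x y ⟨hx, hx2⟩ ⟨hy, hy2⟩
        refine ⟨Subgroup.mul_mem _ hx hy, ?_⟩
        have hc : Commute x y := hito x hx y hy
        rw [hc.mul_pow, hx2, hy2, one_mul]
      inv_mem' := by
        rintro x ⟨hx, hx2⟩
        exact ⟨Subgroup.inv_mem _ hx, by rw [inv_pow, hx2, inv_one]⟩ }
  have hBT : B ≤ T := by
    intro y hy
    refine ⟨hBX' hy, ?_⟩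
    apply Subtype.ext
    have := h.Qexp (y : G) (Subgroup.mem_subgroupOf.mp hy)
    simpa using this
  have hT2 : IsPGroup 2 T := by
    intro y
    refine ⟨1, ?_⟩
    apply Subtype.ext
    have := y.2.2
    simpa using this
  obtain ⟨j, hj⟩ := IsPGroup.iff_card.mp hT2
  have hja : j ≤ a := by
    by_contra hlt
    push Not at hlt
    have h1 : 2 ^ (a + 1) ∣ Nat.card T := by rw [hj]; exact Nat.pow_dvd_pow 2 hlt
    have h2 : Nat.card T ∣ Nat.card X := Subgroup.card_subgroup_dvd_card T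
    exact h.Gcard ((h1.trans h2).trans (Subgroup.card_subgroup_dvd_card X))
  have hTB : B = T := by
    apply Subgroup.eq_of_le_of_card_ge hBT
    rw [hBcard, hj]
    exact Nat.pow_le_pow_right (by norm_num) hja
  -- conclusion
  apply le_normalizer_of_forall_conj_mem
  intro g hg x hx
  have hxB : (⟨x, hQX hx⟩ : X) ∈ B := Subgroup.mem_subgroupOf.mpr hx
  have hconj : (⟨g, hg⟩ : X) * ⟨x, hQX hx⟩ * (⟨g, hg⟩ : X)⁻¹ ∈ T := by
    refine ⟨?_, ?_⟩
    · haveI : (commutator X).Normal := by rw [commutator_def]; infer_instance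
      exact Subgroup.Normal.conj_mem inferInstance _ (hBX' hxB) _
    · rw [conj_pow]
      have : (⟨x, hQX hx⟩ : X) ^ 2 = 1 := by
        apply Subtype.ext
        have := h.Qexp x hx
        simpa using this
      rw [this]; group
  rw [← hTB] at hconj
  have := Subgroup.mem_subgroupOf.mp hconj
  simpa using this

end Cfsg.Agent.Lib.Helper5.Mix
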