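import Mathlib
import Cfsg.Agent.Lib.Helper5.UniO1
import Cfsg.Agent.Lib.Helper5.AltForm

set_option autoImplicit false

/-!
Even Jordan blocks of a unipotent isometry of a nondegenerate symmetric bilinear form
(characteristic not two) come in pairs.
-/

open Module

namespace Cfsg.Agent.Lib.Helper5.UniO

universe u v

section par
variable {F : Type u} [Field F] {V : Type v} [AddCommGroup V] [Module F V]

/-- `x - x⁻¹` is skew-adjoint for an isometry `x`. -/
theorem skew_sub_symm (B : LinearMap.BilinForm F V) (x : V ≃ₗ[F] V)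
    (hx : ∀ u v, B (x u) (x v) = B u v) (u v : V) :
    B ((x.toLinearMap - x.symm.toLinearMap) u) v
      = - B u ((x.toLinearMap - x.symm.toLinearMap) v) := by
  have h1 : B (x u) v = B u (x.symm v) := by
    conv_lhs => rw [← x.apply_symm_apply v]
    exact hx _ _
  have h2 : B (x.symm u) v = B u (x v) := by
    conv_rhs => rw [← x.apply_symm_apply u]
    exact (hx _ _).symm
  simp only [LinearMap.sub_apply, LinearEquiv.coe_coe, map_sub, h1, h2]
  ring

theorem skew_pow (B : LinearMap.BilinForm F V) (S : Module.End F V)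
    (hS : ∀ u v, B (S u) v = - B u (S v)) (k : ℕ) (u v : V) :
    B ((S ^ k) u) v = (-1) ^ k * B u ((S ^ k) v) := by
  induction k generalizing u v with
  | zero => simp
  | succ k ih =>
    have e1 : (S ^ (k + 1)) u = (S ^ k) (S u) := by rw [pow_succ, Module.End.mul_apply]
    have e2 : (S ^ (k + 1)) v = S ((S ^ k) v) := by rw [pow_succ', Module.End.mul_apply]
    rw [e1, e2, ih, hS, pow_succ]
    ring

theorem ker_pow_sub_symm (h2 : (2 : F) ≠ 0) (x : V ≃ₗ[F] V)
    (hnil : IsNilpotent (x.toLinearMap - 1)) (k : ℕ) :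
    LinearMap.ker ((x.toLinearMap - x.symm.toLinearMap) ^ k)
      = LinearMap.ker ((x.toLinearMap - 1) ^ k) := by
  set N : Module.End F V := x.toLinearMap - 1 with hN
  set U : Module.End F V := 1 + x.symm.toLinearMap with hU
  have hsx : (x.symm.toLinearMap : Module.End F V) * x.toLinearMap = 1 := by
    ext v
    simp
  have hxs : (x.toLinearMap : Module.End F V) * x.symm.toLinearMap = 1 := by
    ext v
    simp
  have hS : (x.toLinearMap - x.symm.toLinearMap : Module.End F V) = U * N := by
    rw [hU, hN, add_mul, mul_sub, mul_sub, hsx]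
    simp only [one_mul, mul_one]
    abel
  have hcomm : Commute U N := by
    unfold Commute SemiconjBy
    rw [hU, hN, add_mul, mul_sub, mul_sub, mul_add, sub_mul, sub_mul, hsx, hxs]
    simp only [one_mul, mul_one]
  have hUinj : LinearMap.ker U = ⊥ := by
    rw [LinearMap.ker_eq_bot']
    intro v hv
    rw [hU, LinearMap.add_apply, Module.End.one_apply, LinearEquiv.coe_coe] at hv
    have h3 : x.symm v = -v := by
      rw [eq_neg_iff_add_eq_zero, add_comm]
      exact hv
    have h4 : x v = -v := by
      have := congrArg x h3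
      rw [LinearEquiv.apply_symm_apply, map_neg] at this
      rw [eq_neg_iff_add_eq_zero, add_comm, ← eq_neg_iff_add_eq_zero]
      exact this
    have h5 : N v = (-2 : F) • v := by
      rw [hN, LinearMap.sub_apply, Module.End.one_apply, LinearEquiv.coe_coe, h4, neg_smul,
        two_smul]
      abel
    have h6 : ∀ j : ℕ, (N ^ j) v = ((-2 : F) ^ j) • v := by
      intro j
      induction j with
      | zero => simp
      | succ j ih => rw [pow_succ', Module.End.mul_apply, ih, map_smul, h5, smul_smul, pow_succ]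
    obtain ⟨m, hm⟩ := hnil
    have h7 := h6 m
    rw [hm, LinearMap.zero_apply] at h7
    rcases smul_eq_zero.1 h7.symm with h | h
    · exact absurd h (pow_ne_zero m (neg_ne_zero.2 h2))
    · exact h
  have hUk : LinearMap.ker (U ^ k) = ⊥ := by
    induction k with
    | zero =>
      rw [pow_zero]
      exact LinearMap.ker_id
    | succ k ih =>
      rw [pow_succ, Module.End.mul_eq_comp, LinearMap.ker_comp_of_ker_eq_bot _ ih]
      exact hUinj
  rw [hS, hcomm.mul_pow, Module.End.mul_eq_comp, LinearMap.ker_comp_of_ker_eq_bot _ hUk]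

theorem even_finrank_sub_ker_pow [FiniteDimensional F V] (h2 : (2 : F) ≠ 0)
    (B : LinearMap.BilinForm F V) (hs : B.IsSymm) (hnd : B.Nondegenerate)
    (x : V ≃ₗ[F] V) (hx : ∀ u v, B (x u) (x v) = B u v)
    (hnil : IsNilpotent (x.toLinearMap - 1)) (k : ℕ) (hk : Odd k) :
    Even (finrank F V - finrank F (LinearMap.ker ((x.toLinearMap - 1) ^ k))) := by
  set S : Module.End F V := x.toLinearMap - x.symm.toLinearMap with hS
  let γ : LinearMap.BilinForm F V := (B : V →ₗ[F] V →ₗ[F] F) ∘ₗ (S ^ k)
  have hγ : ∀ u v, γ u v = B ((S ^ k) u) v := fun u v => rfl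
  have halt : γ.IsAlt := by
    intro u
    have h1 := skew_pow B S (skew_sub_symm B x hx) k u u
    rw [hk.neg_one_pow, neg_one_mul, hs.eq u ((S ^ k) u)] at h1
    have h3 : (2 : F) * B ((S ^ k) u) u = 0 := by
      rw [two_mul]
      nth_rewrite 1 [h1]
      exact neg_add_cancel _
    rw [hγ]
    rcases mul_eq_zero.1 h3 with h | h
    · exact absurd h h2
    · exact h
  have hker : LinearMap.ker γ = LinearMap.ker ((x.toLinearMap - 1) ^ k) := by
    have hB : LinearMap.ker B = ⊥ := LinearMap.separatingLeft_iff_ker_eq_bot.1 hnd.1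
    show LinearMap.ker (B ∘ₗ (S ^ k)) = _
    rw [LinearMap.ker_comp_of_ker_eq_bot _ hB, hS, ker_pow_sub_symm h2 x hnil k]
  have := AltForm.even_finrank_sub_ker halt
  rwa [hker] at this

theorem HasJT.even_count_of_isometry [FiniteDimensional F V] (h2 : (2 : F) ≠ 0)
    (B : LinearMap.BilinForm F V) (hs : B.IsSymm) (hnd : B.Nondegenerate)
    (x : V ≃ₗ[F] V) (hx : ∀ u v, B (x u) (x v) = B u v)
    (hnil : IsNilpotent (x.toLinearMap - 1)) {μ : Multiset ℕ} (h : HasJT (x.toLinearMap - 1) μ) :
    ∀ e, Even e → Even (μ.count e) := by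
  intro e he
  rcases Nat.eq_zero_or_pos e with rfl | hpos
  · have : Multiset.count 0 μ = 0 := by
      rw [Multiset.count_eq_zero]
      intro h0
      exact absurd (h.1 0 h0) (lt_irrefl 0)
    rw [this]
    exact Even.zero
  · have h1 := h.count_add e hpos
    have hodd1 : Odd (e - 1) := by
      obtain ⟨r, hr⟩ := he
      exact ⟨r - 1, by omega⟩
    have hodd2 : Odd (e + 1) := he.add_one
    have h3 := even_finrank_sub_ker_pow h2 B hs hnd x hx hnil (e - 1) hodd1
    have h4 := even_finrank_sub_ker_pow h2 B hs hnd x hx hnil (e + 1) hodd2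
    have h5 : finrank F (LinearMap.ker ((x.toLinearMap - 1 : Module.End F V) ^ (e - 1))) ≤ finrank F V :=
      Submodule.finrank_le _
    have h6 : finrank F (LinearMap.ker ((x.toLinearMap - 1 : Module.End F V) ^ (e + 1))) ≤ finrank F V :=
      Submodule.finrank_le _
    rw [Nat.even_iff] at h3 h4 ⊢
    omega

end par

end Cfsg.Agent.Lib.Helper5.UniO
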