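import Mathlib
import Cfsg.Prelude.Def_Classical
import Cfsg.Prelude.Def_GeometricClasses
import Cfsg.Agent.Lib.Helper5.UniO2

set_option autoImplicit false

/-!
A nondegenerate subspace invariant under a unipotent isometry: its Jordan type is a
sub-multiset of the Jordan type of the whole space, with even blocks in pairs.
-/

open Module

namespace Cfsg.Agent.Lib.Helper5.UniO

universe u v w

section lin
variable {F : Type u} [Field F] {V : Type v} [AddCommGroup V] [Module F V]
  {V' : Type w} [AddCommGroup V'] [Module F V']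

theorem finrank_ker_domRestrict (N : V →ₗ[F] V') (W : Submodule F V) :
    finrank F (LinearMap.ker (N.domRestrict W)) = finrank F ↥(W ⊓ LinearMap.ker N) := by
  rw [LinearMap.ker_domRestrict]
  have h1 : Submodule.comap W.subtype (LinearMap.ker N)
      = Submodule.comap W.subtype (W ⊓ LinearMap.ker N) := by
    rw [Submodule.comap_inf, Submodule.comap_subtype_self, top_inf_eq]
  rw [h1]
  exact (Submodule.comapSubtypeEquivOfLe (inf_le_left : W ⊓ LinearMap.ker N ≤ W)).finrank_eq

theorem finrank_ker_restrict (N : Module.End F V) (W : Submodule F V) (hW : ∀ v ∈ W, N v ∈ W) :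
    finrank F (LinearMap.ker (N.restrict hW)) = finrank F ↥(W ⊓ LinearMap.ker N) := by
  rw [LinearMap.ker_restrict, ← LinearMap.ker_domRestrict]
  exact finrank_ker_domRestrict N W

theorem isNilpotent_restrict (N : Module.End F V) (W : Submodule F V) (hW : ∀ v ∈ W, N v ∈ W)
    (hN : IsNilpotent N) : IsNilpotent (N.restrict hW) := by
  obtain ⟨n, hn⟩ := hN
  refine ⟨n, ?_⟩
  rw [Module.End.pow_restrict n hW]
  ext ⟨v, hv⟩
  rw [LinearMap.restrict_apply]
  simp [hn]

theorem finrank_map_add [FiniteDimensional F V] (N : V →ₗ[F] V') (W : Submodule F V) :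
    finrank F ↥(W.map N) + finrank F ↥(W ⊓ LinearMap.ker N) = finrank F ↥W := by
  have h := LinearMap.finrank_range_add_finrank_ker (N.domRestrict W)
  rw [LinearMap.range_domRestrict, finrank_ker_domRestrict] at h
  exact h

end lin

section sub
variable {F : Type u} [Field F] {ι : Type} [Fintype ι] [DecidableEq ι]

theorem isometry_apply (Q : (ι → F) → F) (x : GL ι F) (hx : x ∈ Cfsg.isometryGroup F Q)
    (v : ι → F) : Q (Matrix.toLin' (x : Matrix ι ι F) v) = Q v := by
  rw [Matrix.toLin'_apply]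
  exact hx v v

theorem polar_isometry (Q : (ι → F) → F) (x : GL ι F) (hx : x ∈ Cfsg.isometryGroup F Q)
    (u v : ι → F) :
    QuadraticMap.polar Q (Matrix.toLin' (x : Matrix ι ι F) u) (Matrix.toLin' (x : Matrix ι ι F) v)
      = QuadraticMap.polar Q u v := by
  unfold QuadraticMap.polar
  rw [← map_add, isometry_apply Q x hx, isometry_apply Q x hx, isometry_apply Q x hx]

theorem toLin'_injective (x : GL ι F) : Function.Injective (Matrix.toLin' (x : Matrix ι ι F)) := by
  intro u v h
  have := congrArg (Matrix.toLin' ((x⁻¹ : GL ι F) : Matrix ι ι F)) h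
  simp only [Matrix.toLin'_apply, Matrix.mulVec_mulVec] at this
  rw [← Units.val_mul, inv_mul_cancel, Units.val_one, Matrix.one_mulVec, Matrix.one_mulVec] at this
  exact this

theorem map_eq_of_map_le [FiniteDimensional F (ι → F)] (x : GL ι F) (W : Submodule F (ι → F))
    (hxW : W.map (Matrix.toLin' (x : Matrix ι ι F)) ≤ W) :
    W.map (Matrix.toLin' (x : Matrix ι ι F)) = W := by
  apply Submodule.eq_of_le_of_finrank_eq hxW
  exact (LinearEquiv.finrank_eq (Submodule.equivMapOfInjective _ (toLin'_injective x) W)).symm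

theorem sub_partition (h2 : (2 : F) ≠ 0) (Q : QuadraticForm F (ι → F)) (x : GL ι F)
    (hx : x ∈ Cfsg.isometryGroup F ⇑Q)
    (hnil : IsNilpotent (Matrix.toLin' (x : Matrix ι ι F) - 1)) {μ : Multiset ℕ}
    (hμ : HasJT (Matrix.toLin' (x : Matrix ι ι F) - 1) μ) (W : Submodule F (ι → F))
    (hW : Cfsg.Geo.IsNondegenerateOn (QuadraticMap.polar ⇑Q) W)
    (hxW : W.map (Matrix.toLin' (x : Matrix ι ι F)) ≤ W) :
    ∃ ν : Multiset ℕ, ν ≤ μ ∧ ν.sum = finrank F W ∧ (∀ e, Even e → Even (ν.count e)) ∧
      ν.card = finrank F ↥(W ⊓ LinearMap.ker (Matrix.toLin' (x : Matrix ι ι F) - 1)) := by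
  classical
  set X : Module.End F (ι → F) := Matrix.toLin' (x : Matrix ι ι F) with hX
  set N : Module.End F (ι → F) := X - 1 with hN
  set B : LinearMap.BilinForm F (ι → F) := QuadraticMap.polarBilin Q with hB
  have hBapp : ∀ u v, B u v = QuadraticMap.polar (⇑Q) u v := fun u v => rfl
  have hBX : ∀ u v, B (X u) (X v) = B u v := fun u v => polar_isometry (⇑Q) x hx u v
  have hBsymm : ∀ u v, B u v = B v u := fun u v => QuadraticMap.polar_comm _ _ _
  have hXW : ∀ v ∈ W, X v ∈ W := fun v hv => hxW (Submodule.mem_map_of_mem hv)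
  have hmapeq := map_eq_of_map_le x W hxW
  have hNW : ∀ v ∈ W, N v ∈ W := by
    intro v hv
    rw [hN, LinearMap.sub_apply, Module.End.one_apply]
    exact W.sub_mem (hXW v hv) hv
  -- the orthogonal complement
  have hrefl : B.IsRefl := fun u v h => by rw [hBsymm, h]
  have hres : (B.restrict W).Nondegenerate := by
    constructor
    · rintro ⟨w, hw⟩ h
      by_contra hne
      have hw0 : w ≠ 0 := fun h0 => hne (Subtype.ext h0)
      obtain ⟨-, y, hy, hy0⟩ := hW w hw hw0
      exact hy0 (h ⟨y, hy⟩)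
    · rintro ⟨w, hw⟩ h
      by_contra hne
      have hw0 : w ≠ 0 := fun h0 => hne (Subtype.ext h0)
      obtain ⟨⟨y, hy, hy0⟩, -⟩ := hW w hw hw0
      exact hy0 (h ⟨y, hy⟩)
  have hc : IsCompl W (B.orthogonal W) :=
    LinearMap.BilinForm.isCompl_orthogonal_of_restrict_nondegenerate hrefl hres
  have hXW' : ∀ v ∈ B.orthogonal W, X v ∈ B.orthogonal W := by
    intro v hv
    rw [LinearMap.BilinForm.mem_orthogonal_iff] at hv ⊢
    intro w hw
    rw [← hmapeq] at hw
    obtain ⟨w', hw', rfl⟩ := hw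
    show B (X w') (X v) = 0
    rw [hBX]
    exact hv w' hw'
  have hNW' : ∀ v ∈ B.orthogonal W, N v ∈ B.orthogonal W := by
    intro v hv
    rw [hN, LinearMap.sub_apply, Module.End.one_apply]
    exact (B.orthogonal W).sub_mem (hXW' v hv) hv
  obtain ⟨ν, hν⟩ := exists_hasJT (N.restrict hNW) (isNilpotent_restrict N W hNW hnil)
  obtain ⟨ν', hν'⟩ := exists_hasJT (N.restrict hNW') (isNilpotent_restrict N _ hNW' hnil)
  have hsum := hν.of_isCompl hc hNW hNW' hν'
  have hμeq : μ = ν + ν' := hμ.unique hsum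
  refine ⟨ν, ?_, hν.sum_eq (isNilpotent_restrict N W hNW hnil), ?_, ?_⟩
  · rw [hμeq]
    exact Multiset.le_add_right ν ν'
  · -- parity on `W`
    have hinjW : Function.Injective (X.restrict hXW) := by
      rintro ⟨a, ha⟩ ⟨b, hb⟩ h
      apply Subtype.ext
      apply toLin'_injective x
      exact congrArg Subtype.val h
    let xW : ↥W ≃ₗ[F] ↥W := LinearEquiv.ofInjectiveEndo (X.restrict hXW) hinjW
    have hxW1 : xW.toLinearMap - 1 = N.restrict hNW := by
      ext ⟨a, ha⟩ : 2
      simp only [LinearMap.sub_apply, LinearEquiv.coe_coe, Module.End.one_apply,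
        LinearMap.restrict_apply, xW, LinearEquiv.coe_ofInjectiveEndo, hN]
      rfl
    have hsymmW : (B.restrict W).IsSymm := ⟨fun a b => hBsymm a b⟩
    have hisoW : ∀ a b, B.restrict W (xW a) (xW b) = B.restrict W a b := by
      rintro ⟨a, ha⟩ ⟨b, hb⟩
      exact hBX a b
    have hnilW : IsNilpotent (xW.toLinearMap - 1) := by
      rw [hxW1]
      exact isNilpotent_restrict N W hNW hnil
    have hjtW : HasJT (xW.toLinearMap - 1) ν := by
      rw [hxW1]
      exact hν
    exact hjtW.even_count_of_isometry h2 (B.restrict W) hsymmW hres xW hisoW hnilW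
  · rw [hν.card_eq, finrank_ker_restrict]

theorem plusType_of_sq_zero (h2 : (2 : F) ≠ 0) (Q : QuadraticForm F (ι → F)) (x : GL ι F)
    (hx : x ∈ Cfsg.isometryGroup F ⇑Q)
    (hsq : (Matrix.toLin' (x : Matrix ι ι F) - 1) ^ 2 = 0) (W : Submodule F (ι → F))
    (hxW : W.map (Matrix.toLin' (x : Matrix ι ι F)) ≤ W)
    (hker : 2 * finrank F ↥(W ⊓ LinearMap.ker (Matrix.toLin' (x : Matrix ι ι F) - 1)) = finrank F W) :
    Cfsg.Geo.IsPlusTypeOn ⇑Q W := by
  classical
  set X : Module.End F (ι → F) := Matrix.toLin' (x : Matrix ι ι F) with hX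
  set N : Module.End F (ι → F) := X - 1 with hN
  have hBX : ∀ u v, QuadraticMap.polar (⇑Q) (X u) (X v) = QuadraticMap.polar (⇑Q) u v :=
    fun u v => polar_isometry (⇑Q) x hx u v
  have hXW : ∀ v ∈ W, X v ∈ W := fun v hv => hxW (Submodule.mem_map_of_mem hv)
  -- `X (2 - X) = 1`
  have hXY : ∀ u, X ((2 : F) • u - X u) = u := by
    intro u
    have h1 : (N ^ 2) u = 0 := by rw [hsq, LinearMap.zero_apply]
    rw [pow_two, Module.End.mul_apply, hN, LinearMap.sub_apply, LinearMap.sub_apply,
      Module.End.one_apply, Module.End.one_apply, map_sub] at h1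
    rw [map_sub, map_smul, two_smul]
    have : X u + X u - X (X u) - u = -(X (X u) - X u - (X u - u)) := by abel
    rw [← sub_eq_zero, this, h1, neg_zero]
  have hNN : ∀ u v, QuadraticMap.polar (⇑Q) (N u) (N v) = 0 := by
    intro u v
    have h3 : QuadraticMap.polar (⇑Q) u (X v)
        = 2 * QuadraticMap.polar (⇑Q) u v - QuadraticMap.polar (⇑Q) (X u) v := by
      conv_lhs => rw [← hXY u]
      rw [hBX, QuadraticMap.polar_sub_left, QuadraticMap.polar_smul_left, smul_eq_mul]
    rw [hN, LinearMap.sub_apply, LinearMap.sub_apply, Module.End.one_apply, Module.End.one_apply,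
      QuadraticMap.polar_sub_left, QuadraticMap.polar_sub_right, QuadraticMap.polar_sub_right,
      hBX, h3]
    ring
  refine ⟨W.map N, ?_, ?_, ?_⟩
  · rintro _ ⟨w, hw, rfl⟩
    rw [hN, LinearMap.sub_apply, Module.End.one_apply]
    exact W.sub_mem (hXW w hw) hw
  · rintro _ ⟨w, hw, rfl⟩
    have h4 := hNN w w
    rw [QuadraticMap.polar_self, two_nsmul, ← two_mul] at h4
    rcases mul_eq_zero.1 h4 with h | h
    · exact absurd h h2
    · exact h
  · have := finrank_map_add N W
    omega

end sub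

end Cfsg.Agent.Lib.Helper5.UniO
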