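import Mathlib
import Cfsg.Agent.Lib.Helper5.UniO1
import Cfsg.Agent.Lib.Helper5.JordanBlock

set_option autoImplicit false

/-!
A single Jordan block of odd size inside an orthogonal group: the shift operator is skew-adjoint
for the anti-diagonal form with alternating signs; its Cayley transform is an isometry.
-/

open Module

namespace Cfsg.Agent.Lib.Helper5.UniO

universe u v

section cayley
variable {F : Type u} [Field F] {V : Type v} [AddCommGroup V] [Module F V]

theorem ker_pow_eq_bot (U : Module.End F V) (hU : LinearMap.ker U = ⊥) (k : ℕ) :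
    LinearMap.ker (U ^ k) = ⊥ := by
  induction k with
  | zero =>
    rw [pow_zero]
    exact LinearMap.ker_id
  | succ k ih =>
    rw [pow_succ, Module.End.mul_eq_comp, LinearMap.ker_comp_of_ker_eq_bot _ ih]
    exact hU

theorem ker_mul_pow_of_commute (U N : Module.End F V) (hc : Commute U N)
    (hU : LinearMap.ker U = ⊥) (k : ℕ) :
    LinearMap.ker ((U * N) ^ k) = LinearMap.ker (N ^ k) := by
  rw [hc.mul_pow, Module.End.mul_eq_comp, LinearMap.ker_comp_of_ker_eq_bot _ (ker_pow_eq_bot U hU k)]

/-- The Cayley transform of a nilpotent skew-adjoint endomorphism. -/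
theorem exists_cayley (h2 : (2 : F) ≠ 0) (B : LinearMap.BilinForm F V) (N : Module.End F V)
    (hN : IsNilpotent N) (hskew : ∀ u v, B (N u) v = - B u (N v)) :
    ∃ x : V ≃ₗ[F] V, (∀ u v, B (x u) (x v) = B u v) ∧
      ∀ k, LinearMap.ker ((x.toLinearMap - 1 : Module.End F V) ^ k) = LinearMap.ker (N ^ k) := by
  let a : (Module.End F V)ˣ := hN.isUnit_one_sub.unit
  let b : (Module.End F V)ˣ := hN.isUnit_one_add.unit
  have ha : (a : Module.End F V) = 1 - N := rfl
  have hb : (b : Module.End F V) = 1 + N := rfl
  let y : (Module.End F V)ˣ := b * a⁻¹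
  let x : V ≃ₗ[F] V := LinearMap.GeneralLinearGroup.toLinearEquiv y
  have hxv : ∀ v, x v = (b : Module.End F V) (((a⁻¹ : (Module.End F V)ˣ) : Module.End F V) v) :=
    fun v => rfl
  have haa : ∀ v, (a : Module.End F V) (((a⁻¹ : (Module.End F V)ˣ) : Module.End F V) v) = v := by
    intro v
    rw [← Module.End.mul_apply, ← Units.val_mul, mul_inv_cancel, Units.val_one,
      Module.End.one_apply]
  refine ⟨x, ?_, ?_⟩
  · intro u v
    set u' := ((a⁻¹ : (Module.End F V)ˣ) : Module.End F V) u with hu'
    set v' := ((a⁻¹ : (Module.End F V)ˣ) : Module.End F V) v with hv'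
    have hu : u = u' - N u' := by
      have := haa u
      rw [ha, LinearMap.sub_apply, Module.End.one_apply] at this
      exact this.symm
    have hv : v = v' - N v' := by
      have := haa v
      rw [ha, LinearMap.sub_apply, Module.End.one_apply] at this
      exact this.symm
    rw [hxv, hxv, hb, LinearMap.add_apply, LinearMap.add_apply, Module.End.one_apply,
      Module.End.one_apply]
    conv_rhs => rw [hu, hv]
    simp only [map_add, map_sub, LinearMap.add_apply, LinearMap.sub_apply, hskew]
    ring
  · intro k
    have hcomm : Commute ((a⁻¹ : (Module.End F V)ˣ) : Module.End F V) N := by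
      have h1 : Commute (a : Module.End F V) N := by
        rw [ha]
        exact (Commute.one_left N).sub_left (Commute.refl N)
      exact h1.units_inv_left
    set c : Module.End F V := (2 : F) • ((a⁻¹ : (Module.End F V)ˣ) : Module.End F V) with hc
    have hcN : Commute c N := by
      rw [hc]
      exact hcomm.smul_left 2
    have hx1 : (x.toLinearMap - 1 : Module.End F V) = c * N := by
      have h3 : (x.toLinearMap : Module.End F V)
          = (b : Module.End F V) * ((a⁻¹ : (Module.End F V)ˣ) : Module.End F V) := rfl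
      have h4 : (1 : Module.End F V)
          = (a : Module.End F V) * ((a⁻¹ : (Module.End F V)ˣ) : Module.End F V) := by
        rw [← Units.val_mul, mul_inv_cancel, Units.val_one]
      rw [h3]
      nth_rewrite 1 [h4]
      rw [← sub_mul, ha, hb, hc, smul_mul_assoc, hcomm.eq]
      have h5 : (1 + N - (1 - N) : Module.End F V) = (2 : F) • N := by
        rw [two_smul]
        abel
      rw [h5, smul_mul_assoc]
    have hcinj : LinearMap.ker c = ⊥ := by
      rw [LinearMap.ker_eq_bot']
      intro v hv
      rw [hc, LinearMap.smul_apply] at hv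
      rcases smul_eq_zero.1 hv with h | h
      · exact absurd h h2
      · have := congrArg (a : Module.End F V) h
        rw [haa, map_zero] at this
        exact this
    rw [hx1]
    exact ker_mul_pow_of_commute c N hcN hcinj k

end cayley

section shift
variable {F : Type u} [Field F]

/-- the shift `e_j ↦ e_(j+1)` on `F^(n+1)` -/
def shift (F : Type u) [Field F] (n : ℕ) : Module.End F (Fin (n + 1) → F) where
  toFun v := Fin.cases 0 (fun j => v j.castSucc)
  map_add' u v := by
    funext i
    refine Fin.cases ?_ (fun j => ?_) i <;> simp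
  map_smul' c v := by
    funext i
    refine Fin.cases ?_ (fun j => ?_) i <;> simp

@[simp] theorem shift_zero (n : ℕ) (v : Fin (n + 1) → F) : shift F n v 0 = 0 := rfl

@[simp] theorem shift_succ (n : ℕ) (v : Fin (n + 1) → F) (j : Fin n) :
    shift F n v j.succ = v j.castSucc := rfl

theorem shift_pow_apply_of_lt (n k : ℕ) (v : Fin (n + 1) → F) (i : Fin (n + 1))
    (hi : (i : ℕ) < k) : ((shift F n) ^ k) v i = 0 := by
  induction k generalizing i with
  | zero => exact absurd hi (Nat.not_lt_zero _)
  | succ k ih =>
    rw [pow_succ', Module.End.mul_apply]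
    refine Fin.cases ?_ (fun j hj => ?_) i hi
    · intro _
      rfl
    · rw [shift_succ]
      apply ih
      rw [Fin.val_succ] at hj
      rw [Fin.val_castSucc]
      omega

theorem shift_pow_eq_zero (n : ℕ) : (shift F n) ^ (n + 1) = 0 := by
  ext v i
  exact shift_pow_apply_of_lt n (n + 1) _ i i.isLt

theorem finrank_ker_shift_le (n : ℕ) : finrank F (LinearMap.ker (shift F n)) ≤ 1 := by
  classical
  have hle : LinearMap.ker (shift F n) ≤ Submodule.span F {(Pi.single (Fin.last n) 1 : Fin (n + 1) → F)} := by
    intro v hv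
    rw [LinearMap.mem_ker] at hv
    rw [Submodule.mem_span_singleton]
    refine ⟨v (Fin.last n), ?_⟩
    funext i
    rw [Pi.smul_apply, Pi.single_apply, smul_eq_mul]
    by_cases hi : i = Fin.last n
    · rw [if_pos hi, mul_one, hi]
    · rw [if_neg hi, mul_zero]
      obtain ⟨j, rfl⟩ := Fin.exists_castSucc_eq.2 hi
      have := congrFun hv j.succ
      rw [shift_succ] at this
      exact this.symm
  calc finrank F (LinearMap.ker (shift F n))
      ≤ finrank F (Submodule.span F {(Pi.single (Fin.last n) 1 : Fin (n + 1) → F)}) :=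
        Submodule.finrank_mono hle
    _ ≤ 1 := by
        rw [finrank_span_singleton]
        intro h0
        have := congrFun h0 (Fin.last n)
        rw [Pi.single_eq_same] at this
        exact one_ne_zero this

theorem hasJT_shift (n : ℕ) : HasJT (shift F n) {n + 1} := by
  refine ⟨?_, fun k => ?_⟩
  · intro a ha
    rw [Multiset.mem_singleton.1 ha]
    exact Nat.succ_pos n
  · rw [finrank_ker_pow_of_cyclic (shift F n) (n + 1) (by simp) (shift_pow_eq_zero n)
      (finrank_ker_shift_le n) k, Multiset.map_singleton, Multiset.sum_singleton]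

/-- the anti-diagonal form with alternating signs -/
def antiB (F : Type u) [Field F] (n : ℕ) : LinearMap.BilinForm F (Fin (n + 1) → F) :=
  LinearMap.mk₂ F (fun u v => ∑ i : Fin (n + 1), (-1 : F) ^ (i : ℕ) * (u i * v (Fin.rev i)))
    (fun u u' v => by
      simp only [Pi.add_apply, add_mul, mul_add]
      exact Finset.sum_add_distrib)
    (fun c u v => by
      simp only [Pi.smul_apply, smul_eq_mul, Finset.mul_sum]
      exact Finset.sum_congr rfl fun i _ => by ring)
    (fun u v v' => by
      simp only [Pi.add_apply, mul_add]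
      exact Finset.sum_add_distrib)
    (fun c u v => by
      simp only [Pi.smul_apply, smul_eq_mul, Finset.mul_sum]
      exact Finset.sum_congr rfl fun i _ => by ring)

theorem antiB_apply (n : ℕ) (u v : Fin (n + 1) → F) :
    antiB F n u v = ∑ i : Fin (n + 1), (-1 : F) ^ (i : ℕ) * (u i * v (Fin.rev i)) := rfl

theorem antiB_skew (n : ℕ) (u v : Fin (n + 1) → F) :
    antiB F n (shift F n u) v = - antiB F n u (shift F n v) := by
  rw [antiB_apply, antiB_apply, Fin.sum_univ_succ, Fin.sum_univ_castSucc (n := n)]
  simp only [shift_zero, zero_mul, mul_zero, zero_add, shift_succ, Fin.rev_last, add_zero,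
    Fin.rev_castSucc, Fin.rev_succ, Fin.val_succ, Fin.val_castSucc, pow_succ]
  rw [← Finset.sum_neg_distrib]
  exact Finset.sum_congr rfl fun i _ => by ring

theorem antiB_symm (n : ℕ) (hn : Even n) (u v : Fin (n + 1) → F) :
    antiB F n u v = antiB F n v u := by
  rw [antiB_apply, antiB_apply, ← Equiv.sum_comp Fin.revPerm]
  apply Finset.sum_congr rfl
  intro i _
  rw [Fin.revPerm_apply, Fin.rev_rev, Fin.val_rev]
  have hs : (-1 : F) ^ (n + 1 - ((i : ℕ) + 1)) = (-1 : F) ^ (i : ℕ) := by
    have hi : (i : ℕ) ≤ n := Nat.lt_succ_iff.1 i.isLt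
    have h1 : (-1 : F) ^ (n + 1 - ((i : ℕ) + 1)) * (-1 : F) ^ (i : ℕ) = 1 := by
      rw [← pow_add]
      have : n + 1 - ((i : ℕ) + 1) + (i : ℕ) = n := by omega
      rw [this]
      exact hn.neg_one_pow
    have h3 : (-1 : F) ^ (i : ℕ) * (-1 : F) ^ (i : ℕ) = 1 := by
      rw [← pow_add]
      exact (Even.add_self _).neg_one_pow
    calc (-1 : F) ^ (n + 1 - ((i : ℕ) + 1))
        = (-1 : F) ^ (n + 1 - ((i : ℕ) + 1)) * ((-1 : F) ^ (i : ℕ) * (-1 : F) ^ (i : ℕ)) := by
          rw [h3, mul_one]
      _ = (-1 : F) ^ (i : ℕ) := by rw [← mul_assoc, h1, one_mul]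
  rw [hs]
  ring

theorem antiB_left_zero (n : ℕ) (u : Fin (n + 1) → F) (h : ∀ v, antiB F n u v = 0) : u = 0 := by
  classical
  funext i
  have := h (Pi.single (Fin.rev i) 1)
  rw [antiB_apply, Finset.sum_eq_single i] at this
  · rw [Pi.single_eq_same, mul_one] at this
    rcases mul_eq_zero.1 this with h' | h'
    · exact absurd h' (pow_ne_zero _ (neg_ne_zero.2 one_ne_zero))
    · exact h'
  · intro j _ hji
    rw [Pi.single_apply, if_neg, mul_zero, mul_zero]
    intro hh
    exact hji (Fin.rev_injective hh)
  · intro hh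
    exact absurd (Finset.mem_univ i) hh

end shift

section single
variable {F : Type u} [Field F]

/-- a single odd Jordan block inside an orthogonal group -/
theorem exists_single (h2 : (2 : F) ≠ 0) (e : ℕ) (he : Odd e) :
    ∃ (Q : QuadraticForm F (Fin e → F)) (x : (Fin e → F) ≃ₗ[F] (Fin e → F)),
      (QuadraticMap.polarBilin Q).Nondegenerate ∧ (∀ v, Q (x v) = Q v) ∧
      HasJT (x.toLinearMap - 1 : Module.End F (Fin e → F)) {e} := by
  obtain ⟨r, rfl⟩ := he
  have hn : Even (2 * r) := ⟨r, two_mul r⟩
  set n := 2 * r with hn_def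
  obtain ⟨x, hx, hker⟩ := exists_cayley h2 (antiB F n) (shift F n) ⟨n + 1, shift_pow_eq_zero n⟩
    (antiB_skew n)
  refine ⟨(antiB F n).toQuadraticMap, x, ?_, ?_, ?_⟩
  · have hpol : ∀ u v, QuadraticMap.polarBilin (antiB F n).toQuadraticMap u v
        = 2 * antiB F n u v := by
      intro u v
      rw [LinearMap.BilinMap.polarBilin_toQuadraticMap, LinearMap.add_apply, LinearMap.add_apply,
        LinearMap.flip_apply, ← antiB_symm n hn u v, two_mul]
    have hleft : ∀ u, (∀ v, QuadraticMap.polarBilin (antiB F n).toQuadraticMap u v = 0) → u = 0 := by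
      intro u hu
      apply antiB_left_zero n u
      intro v
      have := hu v
      rw [hpol] at this
      rcases mul_eq_zero.1 this with h | h
      · exact absurd h h2
      · exact h
    constructor
    · exact hleft
    · intro v hv
      apply hleft v
      intro u
      rw [hpol, antiB_symm n hn, ← hpol]
      exact hv u
  · intro v
    rw [LinearMap.BilinMap.toQuadraticMap_apply, LinearMap.BilinMap.toQuadraticMap_apply]
    exact hx v v
  · exact (hasJT_shift n).of_ker_eq hker

end single

end Cfsg.Agent.Lib.Helper5.UniO
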