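import Mathlib

set_option autoImplicit false

namespace Cfsg.Agent.Lib.Helper5.AltTwoMax

open Subgroup
open scoped Pointwise

/-- `R` lies in exactly one maximal subgroup -/
def UniqMax {G : Type*} [Group G] (R : Subgroup G) : Prop :=
  ∃! M : Subgroup G, IsCoatom M ∧ R ≤ M

theorem uniqMax_map {G H : Type*} [Group G] [Group H] (e : G ≃* H) (R : Subgroup G)
    (h : UniqMax R) : UniqMax (R.map e.toMonoidHom) := by
  obtain ⟨M, ⟨hM, hRM⟩, huniq⟩ := h
  have hmapcomap : ∀ K : Subgroup H, (K.comap e.toMonoidHom).map e.toMonoidHom = K :=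
    fun K => Subgroup.map_comap_eq_self_of_surjective e.surjective K
  have hcomapmap : ∀ K : Subgroup G, (K.map e.toMonoidHom).comap e.toMonoidHom = K :=
    fun K => Subgroup.comap_map_eq_self_of_injective e.injective K
  refine ⟨M.map e.toMonoidHom, ⟨?_, Subgroup.map_mono hRM⟩, ?_⟩
  · exact ((MulEquiv.mapSubgroup e).isCoatom_iff (a := M)).mpr hM
  · intro K ⟨hK, hRK⟩
    have hK' : IsCoatom (K.comap e.toMonoidHom) := by
      have := (MulEquiv.mapSubgroup e).isCoatom_iff (a := K.comap e.toMonoidHom)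
      rw [← this]
      show IsCoatom ((K.comap e.toMonoidHom).map e.toMonoidHom)
      rw [hmapcomap]
      exact hK
    have h2 : R ≤ K.comap e.toMonoidHom := by
      rw [← hcomapmap R]
      exact Subgroup.comap_mono hRK
    have := huniq _ ⟨hK', h2⟩
    rw [← this, hmapcomap]

theorem uniqMax_map_iff {G H : Type*} [Group G] [Group H] (e : G ≃* H) (R : Subgroup G) :
    UniqMax (R.map e.toMonoidHom) ↔ UniqMax R := by
  constructor
  · intro h
    have := uniqMax_map e.symm _ h
    have e1 : (R.map e.toMonoidHom).map e.symm.toMonoidHom = R := by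
      rw [Subgroup.map_map]
      have : e.symm.toMonoidHom.comp e.toMonoidHom = MonoidHom.id G := by
        ext x; simp
      rw [this, Subgroup.map_id]
    rwa [e1] at this
  · exact uniqMax_map e R

/-- the unique maximal subgroup contains every proper overgroup -/
theorem exists_max_of_uniqMax {G : Type*} [Group G] [Finite G] {R : Subgroup G}
    (h : UniqMax R) :
    ∃ M : Subgroup G, M ≠ ⊤ ∧ R ≤ M ∧ ∀ H : Subgroup G, H ≠ ⊤ → R ≤ H → H ≤ M := by
  obtain ⟨M, ⟨hM, hRM⟩, huniq⟩ := h
  refine ⟨M, hM.1, hRM, ?_⟩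
  intro H hH hRH
  rcases eq_top_or_exists_le_coatom H with h | ⟨K, hK, hHK⟩
  · exact absurd h hH
  · have := huniq K ⟨hK, hRH.trans hHK⟩
    rw [← this]
    exact hHK

/-- a criterion for uniqueness -/
theorem uniqMax_of_forall {G : Type*} [Group G] [Finite G] {R M₀ : Subgroup G} (h0 : M₀ ≠ ⊤)
    (hR : R ≤ M₀) (h : ∀ M : Subgroup G, IsCoatom M → R ≤ M → M = M₀) : UniqMax R := by
  rcases eq_top_or_exists_le_coatom M₀ with h1 | ⟨K, hK, hMK⟩
  · exact absurd h1 h0
  have hKM : K = M₀ := h K hK (hR.trans hMK)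
  refine ⟨M₀, ⟨hKM ▸ hK, hR⟩, ?_⟩
  intro M ⟨hM, hRM⟩
  exact h M hM hRM

/-- conjugate subgroups -/
theorem uniqMax_conj {G : Type*} [Group G] (g : G) (R : Subgroup G) :
    UniqMax (R.map (MulAut.conj g).toMonoidHom) ↔ UniqMax R :=
  uniqMax_map_iff (MulAut.conj g) R

theorem uniqMax_sylow {G : Type*} [Group G] [Finite G] {p : ℕ} [Fact p.Prime] (P Q : Sylow p G) :
    UniqMax (P : Subgroup G) ↔ UniqMax (Q : Subgroup G) := by
  obtain ⟨g, hg⟩ := MulAction.exists_smul_eq G P Q
  have e1 : (Q : Subgroup G) = (P : Subgroup G).map (MulAut.conj g).toMonoidHom := by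
    rw [← hg]
    rfl
  rw [e1, uniqMax_conj]

/-- the intersection of a Sylow subgroup with a normal subgroup is a Sylow subgroup of it -/
theorem exists_sylow_inf_normal {G : Type*} [Group G] [Finite G] {p : ℕ} [Fact p.Prime]
    (P : Sylow p G) (N : Subgroup G) [N.Normal] :
    ∃ Q : Sylow p N, (Q : Subgroup N) = ((P : Subgroup G) ⊓ N).subgroupOf N := by
  have h1 : IsPGroup p (((P : Subgroup G) ⊓ N).subgroupOf N) :=
    (P.isPGroup'.to_le inf_le_left).comap_of_injective _ (Subgroup.subtype_injective _)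
  obtain ⟨Q, hQ⟩ := h1.exists_le_sylow
  refine ⟨Q, ?_⟩
  -- the image of `Q` lies in a conjugate of `P`
  have hQ' : IsPGroup p ((Q : Subgroup N).map N.subtype) := Q.isPGroup'.map _
  obtain ⟨P', hP'⟩ := hQ'.exists_le_sylow
  obtain ⟨g, hg⟩ := MulAction.exists_smul_eq G P P'
  have e1 : (P' : Subgroup G) = (P : Subgroup G).map (MulAut.conj g).toMonoidHom := by
    rw [← hg]
    rfl
  -- cardinalities
  have hle1 : (P : Subgroup G) ⊓ N ≤ (Q : Subgroup N).map N.subtype := by
    intro x hx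
    have : (⟨x, hx.2⟩ : N) ∈ ((P : Subgroup G) ⊓ N).subgroupOf N := by
      rw [Subgroup.mem_subgroupOf]
      exact hx
    exact ⟨⟨x, hx.2⟩, hQ this, rfl⟩
  have hle2 : (Q : Subgroup N).map N.subtype ≤
      ((P : Subgroup G) ⊓ N).map (MulAut.conj g).toMonoidHom := by
    intro x hx
    have hxP' := hP' hx
    rw [e1] at hxP'
    obtain ⟨y, hy, hyx⟩ := hxP'
    refine ⟨y, ⟨hy, ?_⟩, hyx⟩
    have hxN : x ∈ N := Subgroup.map_subtype_le _ hx
    have : y = g⁻¹ * x * g := by
      rw [← hyx]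
      simp [MulAut.conj_apply]
      group
    rw [this]
    have := (inferInstance : N.Normal).conj_mem x hxN g⁻¹
    rwa [inv_inv] at this
  have hcard : Nat.card (((P : Subgroup G) ⊓ N).map (MulAut.conj g).toMonoidHom : Subgroup G) =
      Nat.card ((P : Subgroup G) ⊓ N : Subgroup G) :=
    Subgroup.card_map_of_injective (MulAut.conj g).injective
  have heq : (P : Subgroup G) ⊓ N = (Q : Subgroup N).map N.subtype := by
    apply Subgroup.eq_of_le_of_card_ge hle1
    rw [← hcard]
    exact Subgroup.card_le_of_le hle2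
  rw [heq]
  show (Q : Subgroup N) = ((Q : Subgroup N).map N.subtype).comap N.subtype
  rw [Subgroup.comap_map_eq_self_of_injective (Subgroup.subtype_injective _)]

end Cfsg.Agent.Lib.Helper5.AltTwoMax
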