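import Mathlib
import Cfsg.Agent.Lib.Helper2.OrthElA

set_option autoImplicit false

/-!
Base definitions for the cluster S5988 to S5991 (orthogonal groups of even dimension acting on
nondegenerate subspaces): isometric subspaces and the block dimension.
-/

namespace Cfsg.Agent.Lib.Helper5.OPar

open Module QuadraticMap
open Cfsg.Agent.Lib.Helper2.MaxTS2
open Cfsg.Agent.Lib.Helper2.OrthEl

/-- block dimension `c = lcm(2, i)` -/
def blockDim (i : ℕ) : ℕ := if Even i then i else 2 * i

theorem blockDim_even (i : ℕ) : Even (blockDim i) := by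
  unfold blockDim
  split_ifs with h
  · exact h
  · exact even_two_mul i

theorem blockDim_pos {i : ℕ} (hi : 0 < i) : 0 < blockDim i := by
  unfold blockDim
  split_ifs <;> omega

theorem dvd_blockDim (i : ℕ) : i ∣ blockDim i := by
  unfold blockDim
  split_ifs
  · exact dvd_rfl
  · exact Dvd.intro_left 2 rfl

section emb
variable {F : Type*} [Field F] {V : Type*} [AddCommGroup V] [Module F V]

/-- isometric subspaces (abstract twin of `Cfsg.Geo.AreIsometricFor`) -/
def Isom (Q : QuadraticForm F V) (M M' : Submodule F V) : Prop :=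
  ∃ e : M ≃ₗ[F] M', ∀ w : M, Q ((e w : M') : V) = Q (w : V)

end emb

end Cfsg.Agent.Lib.Helper5.OPar
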