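import Mathlib
import Cfsg.Agent.Lib.Helper1.SLn

set_option autoImplicit false

/-!
Generation of `SL_{n+1}(K)` by the root subgroup `x₀₁(K)` and the monomial Coxeter element.
-/

namespace Cfsg.Agent.Lib.Helper5

open Matrix Matrix.SpecialLinearGroup
open scoped commutatorElement
open Cfsg.Agent.Lib.Helper1

section
variable {K : Type*} [Field K] {n : ℕ}

/-- The cyclic successor on `Fin (n + 1)`. -/
def cyc (i : Fin (n + 1)) : Fin (n + 1) :=
  if h : i.val = n then ⟨0, by omega⟩ else ⟨i.val + 1, by have := i.2; omega⟩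

theorem cyc_val (i : Fin (n + 1)) : (cyc i).val = if i.val = n then 0 else i.val + 1 := by
  unfold cyc
  split_ifs <;> rfl

theorem cyc_injective : Function.Injective (cyc (n := n)) := by
  intro a b h
  have h1 := congrArg Fin.val h
  rw [cyc_val, cyc_val] at h1
  apply Fin.ext
  split_ifs at h1 <;> omega

/-- The monomial matrix of the Coxeter element. -/
def Wmat (K : Type*) [Field K] (n : ℕ) : Matrix (Fin (n + 1)) (Fin (n + 1)) K :=
  Matrix.of (fun i j => if j.val = i.val + 1 then 1
    else if i.val = n ∧ j.val = 0 then (-1) ^ n else 0)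

/-- The sign attached to a row of the monomial matrix. -/
def eps (K : Type*) [Field K] (n : ℕ) (i : Fin (n + 1)) : K :=
  if i.val = n then (-1) ^ n else 1

theorem eps_mul_self (i : Fin (n + 1)) : eps K n i * eps K n i = 1 := by
  unfold eps
  split_ifs
  · rw [← mul_pow]
    simp
  · rw [mul_one]

theorem Wmat_apply (i j : Fin (n + 1)) :
    Wmat K n i j = if j = cyc i then eps K n i else 0 := by
  unfold Wmat eps
  rw [Matrix.of_apply]
  have hi := i.2
  have hj := j.2
  by_cases h : j = cyc i
  · rw [if_pos h]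
    have h1 := congrArg Fin.val h
    rw [cyc_val] at h1
    by_cases hin : i.val = n
    · rw [if_pos hin] at h1
      rw [if_neg (by omega), if_pos ⟨hin, h1⟩, if_pos hin]
    · rw [if_neg hin] at h1
      rw [if_pos h1, if_neg hin]
  · rw [if_neg h]
    have h1 : j.val ≠ (cyc i).val := fun e => h (Fin.ext e)
    rw [cyc_val] at h1
    by_cases hin : i.val = n
    · rw [if_pos hin] at h1
      rw [if_neg (by omega), if_neg (fun h' => h1 h'.2)]
    · rw [if_neg hin] at h1
      rw [if_neg h1, if_neg (fun h' => hin h'.1)]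

theorem Wmat_mul_single (a b : Fin (n + 1)) (c : K) :
    Wmat K n * Matrix.single (cyc a) b c = Matrix.single a b (eps K n a * c) := by
  ext i j
  by_cases hj : j = b
  · subst hj
    rw [Matrix.mul_single_apply_same, Wmat_apply]
    by_cases hi : i = a
    · subst hi
      rw [if_pos rfl, Matrix.single_apply_same]
    · rw [if_neg (fun h => hi (cyc_injective h).symm),
        Matrix.single_apply_of_row_ne (Ne.symm hi), zero_mul]
  · rw [Matrix.mul_single_apply_of_ne (hbj := hj),
      Matrix.single_apply_of_col_ne _ _ (Ne.symm hj)]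

theorem single_mul_Wmat (a b : Fin (n + 1)) (c : K) :
    Matrix.single a b c * Wmat K n = Matrix.single a (cyc b) (c * eps K n b) := by
  ext i j
  by_cases hi : i = a
  · subst hi
    rw [Matrix.single_mul_apply_same, Wmat_apply]
    by_cases hj : j = cyc b
    · subst hj
      rw [if_pos rfl, Matrix.single_apply_same]
    · rw [if_neg hj, Matrix.single_apply_of_col_ne _ _ (Ne.symm hj), mul_zero]
  · rw [Matrix.single_mul_apply_of_ne (h := hi),
      Matrix.single_apply_of_row_ne (Ne.symm hi)]

/-- Conjugation by the Coxeter element shifts the root subgroups. -/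
theorem coxeter_semiconj (w : SpecialLinearGroup (Fin (n + 1)) K)
    (hw : (w : Matrix (Fin (n + 1)) (Fin (n + 1)) K) = Wmat K n) {a b : Fin (n + 1)}
    (hab : a ≠ b) (c : K) :
    w * transvection (fun h => hab (cyc_injective h)) c
      = transvection hab (eps K n a * c * eps K n b) * w := by
  apply Subtype.ext
  rw [coe_mul, coe_mul, transvection_coe, transvection_coe, hw, mul_add, add_mul, mul_one,
    one_mul, Wmat_mul_single, single_mul_Wmat, mul_assoc (eps K n a * c), eps_mul_self, mul_one]

end

section gen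
variable {K : Type*} [Field K] {n : ℕ}

/-- The subgroup contains the root subgroup with the given indices. -/
def RootIn (H : Subgroup (SpecialLinearGroup (Fin (n + 1)) K)) (a b : Fin (n + 1)) : Prop :=
  ∀ (hab : a ≠ b) (c : K), transvection hab c ∈ H

/-- The same, with natural number indices. -/
def RootNat (H : Subgroup (SpecialLinearGroup (Fin (n + 1)) K)) (i j : ℕ) : Prop :=
  ∀ (hi : i < n + 1) (hj : j < n + 1), RootIn H ⟨i, hi⟩ ⟨j, hj⟩

theorem RootIn.shift {H : Subgroup (SpecialLinearGroup (Fin (n + 1)) K)}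
    {w : SpecialLinearGroup (Fin (n + 1)) K}
    (hw : (w : Matrix (Fin (n + 1)) (Fin (n + 1)) K) = Wmat K n) (hwH : w ∈ H)
    {a b : Fin (n + 1)} (h : RootIn H a b) : RootIn H (cyc a) (cyc b) := by
  intro hab' c
  have hab : a ≠ b := fun e => hab' (by rw [e])
  have key := coxeter_semiconj w hw hab c
  have h1 : transvection hab' c = w⁻¹ * transvection hab (eps K n a * c * eps K n b) * w := by
    rw [mul_assoc, ← key, inv_mul_cancel_left]
  rw [h1]
  exact H.mul_mem (H.mul_mem (H.inv_mem hwH) (h hab _)) hwH

theorem RootIn.comm {H : Subgroup (SpecialLinearGroup (Fin (n + 1)) K)}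
    {a b d : Fin (n + 1)} (h1 : RootIn H a b) (h2 : RootIn H b d) (hab : a ≠ b) (hbd : b ≠ d) :
    RootIn H a d := by
  intro had c
  rw [transvection_eq_commutator had hab hbd c, commutatorElement_def]
  exact H.mul_mem (H.mul_mem (H.mul_mem (h1 hab c) (h2 hbd 1)) (H.inv_mem (h1 hab c)))
    (H.inv_mem (h2 hbd 1))

theorem RootNat.shift {H : Subgroup (SpecialLinearGroup (Fin (n + 1)) K)}
    {w : SpecialLinearGroup (Fin (n + 1)) K}
    (hw : (w : Matrix (Fin (n + 1)) (Fin (n + 1)) K) = Wmat K n) (hwH : w ∈ H)
    {i j : ℕ} (h : RootNat H i j) (hi : i < n) (hj : j < n) : RootNat H (i + 1) (j + 1) := by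
  intro hi' hj'
  have h1 := (h (by omega) (by omega)).shift hw hwH
  have e1 : cyc (⟨i, by omega⟩ : Fin (n + 1)) = ⟨i + 1, hi'⟩ := by
    apply Fin.ext
    rw [cyc_val, if_neg (by show i ≠ n; omega)]
  have e2 : cyc (⟨j, by omega⟩ : Fin (n + 1)) = ⟨j + 1, hj'⟩ := by
    apply Fin.ext
    rw [cyc_val, if_neg (by show j ≠ n; omega)]
  rw [e1, e2] at h1
  exact h1

theorem RootNat.shift_wrap {H : Subgroup (SpecialLinearGroup (Fin (n + 1)) K)}
    {w : SpecialLinearGroup (Fin (n + 1)) K}
    (hw : (w : Matrix (Fin (n + 1)) (Fin (n + 1)) K) = Wmat K n) (hwH : w ∈ H)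
    {i : ℕ} (h : RootNat H i n) (hi : i < n) : RootNat H (i + 1) 0 := by
  intro hi' hj'
  have h1 := (h (by omega) (by omega)).shift hw hwH
  have e1 : cyc (⟨i, by omega⟩ : Fin (n + 1)) = ⟨i + 1, hi'⟩ := by
    apply Fin.ext
    rw [cyc_val, if_neg (by show i ≠ n; omega)]
  have e2 : cyc (⟨n, by omega⟩ : Fin (n + 1)) = ⟨0, hj'⟩ := by
    apply Fin.ext
    rw [cyc_val, if_pos rfl]
  rw [e1, e2] at h1
  exact h1

theorem RootNat.comm {H : Subgroup (SpecialLinearGroup (Fin (n + 1)) K)}
    {i j k : ℕ} (h1 : RootNat H i j) (h2 : RootNat H j k) (hij : i ≠ j) (hjk : j ≠ k)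
    (hj : j < n + 1) : RootNat H i k := by
  intro hi hk
  exact (h1 hi hj).comm (h2 hj hk) (fun e => hij (congrArg Fin.val e))
    (fun e => hjk (congrArg Fin.val e))

/-- A subgroup of `SL_{n+1}(K)` containing the Coxeter element and the first root subgroup is
everything. -/
theorem eq_top_of_coxeter_root (hn : 1 ≤ n) (H : Subgroup (SpecialLinearGroup (Fin (n + 1)) K))
    (w : SpecialLinearGroup (Fin (n + 1)) K)
    (hw : (w : Matrix (Fin (n + 1)) (Fin (n + 1)) K) = Wmat K n) (hwH : w ∈ H)
    (h01 : RootNat H 0 1) : H = ⊤ := by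
  -- adjacent pairs
  have hA : ∀ k : ℕ, k + 1 ≤ n → RootNat H k (k + 1) := by
    intro k
    induction k with
    | zero => intro _; exact h01
    | succ k ih =>
      intro hk
      exact (ih (by omega)).shift hw hwH (by omega) (by omega)
  -- the wrapping pair
  have hB : RootNat H n 0 := by
    have h1 := hA (n - 1) (by omega)
    have e : n - 1 + 1 = n := by omega
    rw [e] at h1
    have h2 := h1.shift_wrap hw hwH (by omega)
    rw [e] at h2
    exact h2
  -- upper pairs
  have hC : ∀ d i : ℕ, i + d + 1 ≤ n → RootNat H i (i + d + 1) := by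
    intro d
    induction d with
    | zero => intro i hi; exact hA i hi
    | succ d ih =>
      intro i hi
      have h1 := ih i (by omega)
      have h2 := hA (i + d + 1) (by omega)
      exact h1.comm h2 (by omega) (by omega) (by omega)
  have hup : ∀ i j : ℕ, i < j → j ≤ n → RootNat H i j := by
    intro i j hij hj
    have h1 := hC (j - i - 1) i (by omega)
    have e : i + (j - i - 1) + 1 = j := by omega
    rw [e] at h1
    exact h1
  -- pairs starting at the last index
  have hlast : ∀ j : ℕ, j < n → RootNat H n j := by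
    intro j hj
    by_cases hj0 : j = 0
    · subst hj0; exact hB
    · exact hB.comm (hup 0 j (by omega) (by omega)) (by omega) (by omega) (by omega)
  have hall : ∀ i j : ℕ, i ≠ j → i ≤ n → j ≤ n → RootNat H i j := by
    intro i j hij hi hj
    by_cases hlt : i < j
    · exact hup i j hlt hj
    · by_cases hin : i = n
      · subst hin
        exact hlast j (by omega)
      · exact (hup i n (by omega) le_rfl).comm (hlast j (by omega)) (by omega) (by omega)
          (by omega)
  have : Nontrivial (Fin (n + 1)) := Fin.nontrivial_iff_two_le.2 (by omega)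
  apply eq_top_of_transvection_mem
  intro i j hij c
  have hi := i.2
  have hj := j.2
  exact hall i.val j.val (fun e => hij (Fin.ext e)) (by omega) (by omega) i.2 j.2 hij c

end gen

end Cfsg.Agent.Lib.Helper5
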