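import Mathlib
import Cfsg.Prelude.Def_LieExceptional

set_option autoImplicit false

/-!
Pushing a `(B, N)`-pair forward along a surjective homomorphism whose kernel lies in `B`.
-/

namespace Cfsg.Agent.Lib.Helper5.BNMap

open DoubleCoset

section
variable {G G' : Type*} [Group G] [Group G']

theorem mem_of_map_mem (f : G →* G') {H : Subgroup G} (hker : f.ker ≤ H) {x : G}
    (hx : f x ∈ H.map f) : x ∈ H := by
  have h : x ∈ (H.map f).comap f := hx
  rw [Subgroup.comap_map_eq, sup_eq_left.2 hker] at h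
  exact h

theorem map_mem_iff (f : G →* G') {H : Subgroup G} (hker : f.ker ≤ H) {x : G} :
    f x ∈ H.map f ↔ x ∈ H :=
  ⟨mem_of_map_mem f hker, fun h => Subgroup.mem_map_of_mem f h⟩

theorem map_inf_of_ker_le (f : G →* G') {H K : Subgroup G} (hker : f.ker ≤ H) :
    (H ⊓ K).map f = H.map f ⊓ K.map f := by
  apply le_antisymm (Subgroup.map_inf_le H K f)
  rintro _ ⟨hx, ⟨k, hk, rfl⟩⟩
  exact ⟨k, ⟨mem_of_map_mem f hker hx, hk⟩, rfl⟩

theorem map_doubleCoset (f : G →* G') (B : Subgroup G) (a x : G)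
    (hx : x ∈ doubleCoset a (B : Set G) B) :
    f x ∈ doubleCoset (f a) ((B.map f : Subgroup G') : Set G') (B.map f) := by
  rw [mem_doubleCoset] at hx ⊢
  obtain ⟨b, hb, b', hb', rfl⟩ := hx
  exact ⟨f b, Subgroup.mem_map_of_mem f hb, f b', Subgroup.mem_map_of_mem f hb', by
    rw [map_mul, map_mul]⟩

/-- The image of a `(B, N)`-pair under a surjective homomorphism with kernel inside `B`. -/
def mapBN (P : Cfsg.BNPair G) (f : G →* G') (hf : Function.Surjective f) (hker : f.ker ≤ P.B) :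
    Cfsg.BNPair G' where
  B := P.B.map f
  N := P.N.map f
  S := f '' P.S
  sup_eq_top := by
    rw [← Subgroup.map_sup, P.sup_eq_top, ← MonoidHom.range_eq_map, MonoidHom.range_eq_top.2 hf]
  conj_mem := by
    rintro _ ⟨n, hn, rfl⟩ t ht
    rw [← map_inf_of_ker_le f hker] at ht
    obtain ⟨t₀, ht₀, rfl⟩ := ht
    rw [← map_inv, ← map_mul, ← map_mul]
    exact Subgroup.mem_map_of_mem f (P.conj_mem n hn t₀ ht₀)
  subset := by
    rintro _ ⟨s, hs, rfl⟩
    exact Subgroup.mem_map_of_mem f (P.subset hs)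
  sq_mem := by
    rintro _ ⟨s, hs, rfl⟩
    rw [← map_mul]
    exact Subgroup.mem_map_of_mem f (P.sq_mem s hs)
  inj := by
    rintro _ ⟨s, hs, rfl⟩ _ ⟨s', hs', rfl⟩ h
    rw [← map_inv, ← map_mul] at h
    rw [P.inj s hs s' hs' (mem_of_map_mem f hker h)]
  closure_sup := by
    rw [← MonoidHom.map_closure, ← map_inf_of_ker_le f hker, ← Subgroup.map_sup, P.closure_sup]
  mul_mem_union := by
    rintro _ ⟨s, hs, rfl⟩ _ ⟨n, hn, rfl⟩ _ ⟨b, hb, rfl⟩
    rcases P.mul_mem_union s hs n hn b hb with h | h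
    · left
      have := map_doubleCoset f P.B _ _ h
      rw [map_mul, map_mul, map_mul] at this
      exact this
    · right
      have := map_doubleCoset f P.B _ _ h
      rw [map_mul, map_mul] at this
      exact this
  conj_ne := by
    rintro _ ⟨s, hs, rfl⟩ h
    apply P.conj_ne s hs
    apply Set.Subset.antisymm
    · rintro _ ⟨b, hb, rfl⟩
      have h1 : f (s * b * s) ∈ (P.B.map f : Set G') := by
        rw [← h]
        exact ⟨f b, Subgroup.mem_map_of_mem f hb, by rw [map_mul, map_mul]⟩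
      exact mem_of_map_mem f hker h1
    · intro b hb
      have h1 : f b ∈ (fun b : G' => f s * b * f s) '' (P.B.map f : Set G') := by
        rw [h]
        exact Subgroup.mem_map_of_mem f hb
      obtain ⟨_, ⟨b₁, hb₁, rfl⟩, h2⟩ := h1
      -- `b = s b₁ s z` with `z` in the kernel
      have h3 : f (s⁻¹ * b * s⁻¹) = f b₁ := by
        rw [map_mul, map_mul, ← h2, map_inv]
        group
      have h4 : b₁⁻¹ * (s⁻¹ * b * s⁻¹) ∈ f.ker := by
        rw [MonoidHom.mem_ker, map_mul, h3, map_inv, inv_mul_cancel]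
      have h5 : s⁻¹ * b * s⁻¹ ∈ P.B := by
        have := P.B.mul_mem hb₁ (hker h4)
        rwa [mul_inv_cancel_left] at this
      exact ⟨s⁻¹ * b * s⁻¹, h5, by
        change s * (s⁻¹ * b * s⁻¹) * s = b
        group⟩

theorem mapBN_B (P : Cfsg.BNPair G) (f : G →* G') (hf : Function.Surjective f)
    (hker : f.ker ≤ P.B) : (mapBN P f hf hker).B = P.B.map f := rfl

theorem mapBN_N (P : Cfsg.BNPair G) (f : G →* G') (hf : Function.Surjective f)
    (hker : f.ker ≤ P.B) : (mapBN P f hf hker).N = P.N.map f := rfl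

theorem mapBN_S (P : Cfsg.BNPair G) (f : G →* G') (hf : Function.Surjective f)
    (hker : f.ker ≤ P.B) : (mapBN P f hf hker).S = f '' P.S := rfl

end

end Cfsg.Agent.Lib.Helper5.BNMap
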