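import Mathlib

set_option autoImplicit false

/-!
Automorphisms of `SL_n(F)` and `PSL_n(F)`: conjugation by `GL_n(F)`, field automorphisms and the
inverse transpose, for an arbitrary finite index type.
-/

namespace Cfsg.Agent.Lib.Helper5.SLnAut

open Matrix Matrix.SpecialLinearGroup

section
variable {ι : Type*} [Fintype ι] [DecidableEq ι] {F : Type*} [Field F]

/-- The projection `SL_n(F) → PSL_n(F)`. -/
def piN : SpecialLinearGroup ι F →* ProjectiveSpecialLinearGroup ι F :=
  QuotientGroup.mk' _

theorem piN_surjective : Function.Surjective (piN (ι := ι) (F := F)) :=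
  QuotientGroup.mk'_surjective _

theorem piN_eq_mk (x : SpecialLinearGroup ι F) :
    piN x = (QuotientGroup.mk x : ProjectiveSpecialLinearGroup ι F) := rfl

theorem ker_piN : (piN (ι := ι) (F := F)).ker = Subgroup.center (SpecialLinearGroup ι F) :=
  QuotientGroup.ker_mk' _

theorem piN_eq_iff (x y : SpecialLinearGroup ι F) :
    piN x = piN y ↔ x⁻¹ * y ∈ Subgroup.center (SpecialLinearGroup ι F) := by
  unfold piN
  exact QuotientGroup.eq

theorem piN_eq_one_iff (x : SpecialLinearGroup ι F) :
    piN x = 1 ↔ x ∈ Subgroup.center (SpecialLinearGroup ι F) := by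
  unfold piN
  exact QuotientGroup.eq_one_iff x

/-- An automorphism of `SL_n(F)` induces an automorphism of `PSL_n(F)`. -/
def quotAutFun (θ : MulAut (SpecialLinearGroup ι F)) :
    MulAut (ProjectiveSpecialLinearGroup ι F) :=
  QuotientGroup.congr (Subgroup.center (SpecialLinearGroup ι F))
    (Subgroup.center (SpecialLinearGroup ι F)) θ
    (Subgroup.characteristic_iff_map_eq.1 inferInstance θ)

theorem quotAutFun_pi (θ : MulAut (SpecialLinearGroup ι F))
    (x : SpecialLinearGroup ι F) : quotAutFun θ (piN x) = piN (θ x) := rfl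

/-- The homomorphism `Aut(SL_n(F)) → Aut(PSL_n(F))`. -/
def quotAut : MulAut (SpecialLinearGroup ι F) →*
    MulAut (ProjectiveSpecialLinearGroup ι F) where
  toFun := quotAutFun
  map_one' := by
    apply MulEquiv.ext
    intro q
    obtain ⟨x, rfl⟩ := piN_surjective q
    rw [quotAutFun_pi]
    rfl
  map_mul' θ₁ θ₂ := by
    apply MulEquiv.ext
    intro q
    obtain ⟨x, rfl⟩ := piN_surjective q
    rfl

theorem quotAut_pi (θ : MulAut (SpecialLinearGroup ι F))
    (x : SpecialLinearGroup ι F) : quotAut θ (piN x) = piN (θ x) := rfl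

theorem quotAut_conj (g : SpecialLinearGroup ι F) :
    quotAut (MulAut.conj g) = MulAut.conj (piN g) := by
  apply MulEquiv.ext
  intro q
  obtain ⟨x, rfl⟩ := piN_surjective q
  rw [quotAut_pi, MulAut.conj_apply, MulAut.conj_apply, map_mul, map_mul, map_inv]

/-- Conjugation by an element of `GL_n(F)` on `SL_n(F)`, as a function. -/
def glConjFun (g : GL ι F) (x : SpecialLinearGroup ι F) :
    SpecialLinearGroup ι F :=
  ⟨(g : Matrix ι ι F) * (x : Matrix ι ι F) *
      ((g⁻¹ : GL ι F) : Matrix ι ι F), by
    rw [Matrix.det_mul, Matrix.det_mul, x.2, mul_one, ← Matrix.det_mul, ← Units.val_mul,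
      mul_inv_cancel, Units.val_one, Matrix.det_one]⟩

theorem glConjFun_coe (g : GL ι F) (x : SpecialLinearGroup ι F) :
    ((glConjFun g x : SpecialLinearGroup ι F) : Matrix ι ι F)
      = (g : Matrix ι ι F) * (x : Matrix ι ι F) *
      ((g⁻¹ : GL ι F) : Matrix ι ι F) := rfl

theorem glConjFun_mul (g g' : GL ι F) (x : SpecialLinearGroup ι F) :
    glConjFun (g * g') x = glConjFun g (glConjFun g' x) := by
  apply Subtype.ext
  rw [glConjFun_coe, glConjFun_coe, glConjFun_coe, _root_.mul_inv_rev, Units.val_mul,
    Units.val_mul]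
  simp only [Matrix.mul_assoc]

theorem glConjFun_one (x : SpecialLinearGroup ι F) : glConjFun 1 x = x := by
  apply Subtype.ext
  rw [glConjFun_coe, inv_one, Units.val_one, Matrix.one_mul, Matrix.mul_one]

theorem glConjFun_map_mul (g : GL ι F) (x y : SpecialLinearGroup ι F) :
    glConjFun g (x * y) = glConjFun g x * glConjFun g y := by
  apply Subtype.ext
  rw [Matrix.SpecialLinearGroup.coe_mul, glConjFun_coe, glConjFun_coe, glConjFun_coe,
    Matrix.SpecialLinearGroup.coe_mul]
  have h : ((g⁻¹ : GL ι F) : Matrix ι ι F) * (g : Matrix ι ι F)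
      = 1 := by rw [← Units.val_mul, inv_mul_cancel, Units.val_one]
  calc (g : Matrix ι ι F) * ((x : Matrix ι ι F) *
        (y : Matrix ι ι F)) * ((g⁻¹ : GL ι F) : Matrix ι ι F)
      = (g : Matrix ι ι F) * (x : Matrix ι ι F) * 1 *
        (y : Matrix ι ι F) * ((g⁻¹ : GL ι F) : Matrix ι ι F) := by
        rw [Matrix.mul_one]; simp only [Matrix.mul_assoc]
    _ = _ := by rw [← h]; simp only [Matrix.mul_assoc]

/-- Conjugation by an element of `GL_n(F)` as an automorphism of `SL_n(F)`. -/
def glConj : GL ι F →* MulAut (SpecialLinearGroup ι F) where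
  toFun g :=
    { toFun := glConjFun g
      invFun := glConjFun g⁻¹
      left_inv := fun x => by rw [← glConjFun_mul, inv_mul_cancel, glConjFun_one]
      right_inv := fun x => by rw [← glConjFun_mul, mul_inv_cancel, glConjFun_one]
      map_mul' := glConjFun_map_mul g }
  map_one' := by
    apply MulEquiv.ext
    intro x
    exact glConjFun_one x
  map_mul' g g' := by
    apply MulEquiv.ext
    intro x
    exact glConjFun_mul g g' x

theorem glConj_apply (g : GL ι F) (x : SpecialLinearGroup ι F) :
    glConj g x = glConjFun g x := rfl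

theorem glConj_coe (g : GL ι F) (x : SpecialLinearGroup ι F) :
    ((glConj g x : SpecialLinearGroup ι F) : Matrix ι ι F)
      = (g : Matrix ι ι F) * (x : Matrix ι ι F) * ((g⁻¹ : GL ι F) : Matrix ι ι F) := rfl

theorem glConj_toGL (m x : SpecialLinearGroup ι F) :
    glConj (Matrix.SpecialLinearGroup.toGL m) x = m * x * m⁻¹ := by
  apply Subtype.ext
  rw [glConj_coe, Matrix.SpecialLinearGroup.coe_mul, Matrix.SpecialLinearGroup.coe_mul,
    ← map_inv]
  rfl

/-- A field automorphism as an automorphism of `SL_n(F)`. -/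
def fieldAut : (F ≃+* F) →* MulAut (SpecialLinearGroup ι F) where
  toFun σ :=
    { toFun := Matrix.SpecialLinearGroup.map (σ : F →+* F)
      invFun := Matrix.SpecialLinearGroup.map (σ.symm : F →+* F)
      left_inv := fun x => by
        apply Subtype.ext
        ext i j
        simp
      right_inv := fun x => by
        apply Subtype.ext
        ext i j
        simp
      map_mul' := map_mul _ }
  map_one' := by
    apply MulEquiv.ext
    intro x
    apply Subtype.ext
    ext i j
    rfl
  map_mul' σ τ := by
    apply MulEquiv.ext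
    intro x
    apply Subtype.ext
    ext i j
    rfl

theorem fieldAut_apply_coe (σ : F ≃+* F) (x : SpecialLinearGroup ι F) (i j : ι) :
    (fieldAut σ x : Matrix ι ι F) i j = σ ((x : Matrix ι ι F) i j) := rfl

theorem fieldAut_coe (σ : F ≃+* F) (x : SpecialLinearGroup ι F) :
    (fieldAut σ x : Matrix ι ι F) = (x : Matrix ι ι F).map σ := rfl

/-- The inverse transpose, as an automorphism of `SL_n(F)`. -/
def tauAut : MulAut (SpecialLinearGroup ι F) where
  toFun x := (x⁻¹).transpose
  invFun x := (x⁻¹).transpose
  left_inv x := by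
    apply Subtype.ext
    rw [coe_transpose, coe_inv, coe_transpose, coe_inv, Matrix.adjugate_transpose,
      Matrix.transpose_transpose, ← coe_inv, ← coe_inv, inv_inv]
  right_inv x := by
    apply Subtype.ext
    rw [coe_transpose, coe_inv, coe_transpose, coe_inv, Matrix.adjugate_transpose,
      Matrix.transpose_transpose, ← coe_inv, ← coe_inv, inv_inv]
  map_mul' x y := by
    apply Subtype.ext
    rw [_root_.mul_inv_rev, coe_transpose, Matrix.SpecialLinearGroup.coe_mul,
      Matrix.transpose_mul, Matrix.SpecialLinearGroup.coe_mul, coe_transpose, coe_transpose]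

theorem tauAut_apply (x : SpecialLinearGroup ι F) : tauAut x = (x⁻¹).transpose := rfl

theorem tauAut_coe (x : SpecialLinearGroup ι F) :
    (tauAut x : Matrix ι ι F) = ((x⁻¹ : SpecialLinearGroup ι F) : Matrix ι ι F).transpose := rfl

theorem tauAut_tauAut (x : SpecialLinearGroup ι F) : tauAut (tauAut x) = x :=
  tauAut.left_inv x

theorem tauAut_mul_self : (tauAut : MulAut (SpecialLinearGroup ι F)) * tauAut = 1 := by
  apply MulEquiv.ext
  intro x
  exact tauAut_tauAut x

theorem tauAut_inv : (tauAut : MulAut (SpecialLinearGroup ι F))⁻¹ = tauAut :=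
  inv_eq_of_mul_eq_one_left tauAut_mul_self

/-- Transpose of the inverse is the inverse of the transpose. -/
theorem transpose_inv (x : SpecialLinearGroup ι F) : (x⁻¹).transpose = (x.transpose)⁻¹ := by
  apply Subtype.ext
  rw [coe_transpose, coe_inv, coe_inv, coe_transpose, Matrix.adjugate_transpose]

/-- The automorphism `x ↦ g σ(x) g⁻¹` of `PSL_n(F)`. -/
def semi (g : GL ι F) (σ : F ≃+* F) : MulAut (ProjectiveSpecialLinearGroup ι F) :=
  quotAut (glConj g * fieldAut σ)

theorem semi_pi (g : GL ι F) (σ : F ≃+* F) (x : SpecialLinearGroup ι F) :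
    semi g σ (piN x) = piN (glConj g (fieldAut σ x)) := rfl

theorem semi_one_one : semi (1 : GL ι F) (1 : F ≃+* F) = 1 := by
  unfold semi
  rw [map_one, map_one, mul_one, map_one]

/-- The inverse transpose automorphism of `PSL_n(F)`. -/
def tauBar : MulAut (ProjectiveSpecialLinearGroup ι F) := quotAut tauAut

theorem tauBar_pi (x : SpecialLinearGroup ι F) : tauBar (piN x) = piN (tauAut x) := rfl

theorem tauBar_mul_self : (tauBar : MulAut (ProjectiveSpecialLinearGroup ι F)) * tauBar = 1 := by
  unfold tauBar
  rw [← map_mul, tauAut_mul_self, map_one]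

theorem tauBar_tauBar (q : ProjectiveSpecialLinearGroup ι F) : tauBar (tauBar q) = q := by
  have := DFunLike.congr_fun (tauBar_mul_self (ι := ι) (F := F)) q
  exact this

end

end Cfsg.Agent.Lib.Helper5.SLnAut
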