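import Mathlib
import Cfsg.Agent.Lib.Helper5.PSL2Aut1

set_option autoImplicit false

/-!
The block embedding `SL₂(F) → SL(ι, F)` attached to a pair of distinct indices.
-/

namespace Cfsg.Agent.Lib.Helper5.SLnBN

open Matrix Cfsg.Agent.Lib.Helper5.PSL2Aut

section
variable {ι : Type*} [DecidableEq ι] {F : Type*} [Field F]

/-- The equivalence splitting off a pair of distinct indices. -/
def pairEquiv (a b : ι) (hab : a ≠ b) : Fin 2 ⊕ {k : ι // k ≠ a ∧ k ≠ b} ≃ ι where
  toFun x := Sum.elim (fun i : Fin 2 => if i = 0 then a else b) (fun k => k.1) x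
  invFun k := if ha : k = a then Sum.inl 0 else if hb : k = b then Sum.inl 1
    else Sum.inr ⟨k, ha, hb⟩
  left_inv x := by
    rcases x with i | k
    · fin_cases i
      · simp
      · simp [hab.symm]
    · simp [k.2.1, k.2.2]
  right_inv k := by
    by_cases ha : k = a
    · simp [ha]
    · by_cases hb : k = b
      · simp [hb, hab.symm]
      · simp [ha, hb]

theorem pairEquiv_symm_left (a b : ι) (hab : a ≠ b) : (pairEquiv a b hab).symm a = Sum.inl 0 := by
  simp [pairEquiv]

theorem pairEquiv_symm_right (a b : ι) (hab : a ≠ b) :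
    (pairEquiv a b hab).symm b = Sum.inl 1 := by
  simp [pairEquiv, hab.symm]

theorem pairEquiv_symm_other (a b : ι) (hab : a ≠ b) (k : ι) (ha : k ≠ a) (hb : k ≠ b) :
    (pairEquiv a b hab).symm k = Sum.inr ⟨k, ha, hb⟩ := by
  simp [pairEquiv, ha, hb]

/-- The block matrix: `M` in the rows and columns `a`, `b`, the identity elsewhere. -/
def blockMat (a b : ι) (hab : a ≠ b) (M : Matrix (Fin 2) (Fin 2) F) : Matrix ι ι F :=
  (Matrix.fromBlocks M 0 0 (1 : Matrix {k : ι // k ≠ a ∧ k ≠ b} {k : ι // k ≠ a ∧ k ≠ b} F)).submatrix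
    (pairEquiv a b hab).symm (pairEquiv a b hab).symm

theorem blockMat_mul [Fintype ι] (a b : ι) (hab : a ≠ b) (M M' : Matrix (Fin 2) (Fin 2) F) :
    blockMat a b hab M * blockMat a b hab M' = blockMat a b hab (M * M') := by
  unfold blockMat
  rw [Matrix.submatrix_mul_equiv, Matrix.fromBlocks_multiply]
  simp

theorem blockMat_one (a b : ι) (hab : a ≠ b) :
    blockMat a b hab (1 : Matrix (Fin 2) (Fin 2) F) = 1 := by
  unfold blockMat
  rw [Matrix.fromBlocks_one, Matrix.submatrix_one_equiv]

theorem det_blockMat [Fintype ι] (a b : ι) (hab : a ≠ b) (M : Matrix (Fin 2) (Fin 2) F) :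
    (blockMat a b hab M).det = M.det := by
  unfold blockMat
  rw [Matrix.det_submatrix_equiv_self, Matrix.det_fromBlocks_zero₂₁, Matrix.det_one, mul_one]

theorem blockMat_apply_aa (a b : ι) (hab : a ≠ b) (M : Matrix (Fin 2) (Fin 2) F) :
    blockMat a b hab M a a = M 0 0 := by
  unfold blockMat
  rw [Matrix.submatrix_apply, pairEquiv_symm_left, Matrix.fromBlocks_apply₁₁]

theorem blockMat_apply_ab (a b : ι) (hab : a ≠ b) (M : Matrix (Fin 2) (Fin 2) F) :
    blockMat a b hab M a b = M 0 1 := by
  unfold blockMat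
  rw [Matrix.submatrix_apply, pairEquiv_symm_left, pairEquiv_symm_right,
    Matrix.fromBlocks_apply₁₁]

theorem blockMat_apply_ba (a b : ι) (hab : a ≠ b) (M : Matrix (Fin 2) (Fin 2) F) :
    blockMat a b hab M b a = M 1 0 := by
  unfold blockMat
  rw [Matrix.submatrix_apply, pairEquiv_symm_left, pairEquiv_symm_right,
    Matrix.fromBlocks_apply₁₁]

theorem blockMat_apply_bb (a b : ι) (hab : a ≠ b) (M : Matrix (Fin 2) (Fin 2) F) :
    blockMat a b hab M b b = M 1 1 := by
  unfold blockMat
  rw [Matrix.submatrix_apply, pairEquiv_symm_right, Matrix.fromBlocks_apply₁₁]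

theorem blockMat_apply_other_left (a b : ι) (hab : a ≠ b) (M : Matrix (Fin 2) (Fin 2) F)
    (k l : ι) (ha : k ≠ a) (hb : k ≠ b) :
    blockMat a b hab M k l = if k = l then 1 else 0 := by
  unfold blockMat
  rw [Matrix.submatrix_apply, pairEquiv_symm_other a b hab k ha hb]
  by_cases hla : l = a
  · rw [hla, pairEquiv_symm_left, Matrix.fromBlocks_apply₂₁, if_neg ha]
    rfl
  · by_cases hlb : l = b
    · rw [hlb, pairEquiv_symm_right, Matrix.fromBlocks_apply₂₁, if_neg hb]
      rfl
    · rw [pairEquiv_symm_other a b hab l hla hlb, Matrix.fromBlocks_apply₂₂, Matrix.one_apply]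
      simp only [Subtype.mk.injEq]

theorem blockMat_apply_other_right (a b : ι) (hab : a ≠ b) (M : Matrix (Fin 2) (Fin 2) F)
    (k l : ι) (ha : l ≠ a) (hb : l ≠ b) :
    blockMat a b hab M k l = if k = l then 1 else 0 := by
  unfold blockMat
  rw [Matrix.submatrix_apply, pairEquiv_symm_other a b hab l ha hb]
  by_cases hka : k = a
  · rw [hka, pairEquiv_symm_left, Matrix.fromBlocks_apply₁₂, if_neg (Ne.symm ha)]
    rfl
  · by_cases hkb : k = b
    · rw [hkb, pairEquiv_symm_right, Matrix.fromBlocks_apply₁₂, if_neg (Ne.symm hb)]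
      rfl
    · rw [pairEquiv_symm_other a b hab k hka hkb, Matrix.fromBlocks_apply₂₂, Matrix.one_apply]
      simp only [Subtype.mk.injEq]

/-- The block embedding as a function. -/
def blockEmbFun [Fintype ι] (a b : ι) (hab : a ≠ b) (M : SpecialLinearGroup (Fin 2) F) :
    SpecialLinearGroup ι F :=
  ⟨blockMat a b hab (M : Matrix (Fin 2) (Fin 2) F), by rw [det_blockMat]; exact M.2⟩

theorem blockEmbFun_coe [Fintype ι] (a b : ι) (hab : a ≠ b) (M : SpecialLinearGroup (Fin 2) F) :
    ((blockEmbFun a b hab M : SpecialLinearGroup ι F) : Matrix ι ι F)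
      = blockMat a b hab (M : Matrix (Fin 2) (Fin 2) F) := rfl

/-- The block embedding `SL₂(F) → SL(ι, F)`. -/
def blockEmb [Fintype ι] (a b : ι) (hab : a ≠ b) :
    SpecialLinearGroup (Fin 2) F →* SpecialLinearGroup ι F where
  toFun := blockEmbFun a b hab
  map_one' := Subtype.ext (by
    rw [blockEmbFun_coe, Matrix.SpecialLinearGroup.coe_one, Matrix.SpecialLinearGroup.coe_one,
      blockMat_one])
  map_mul' M M' := Subtype.ext (by
    rw [Matrix.SpecialLinearGroup.coe_mul, blockEmbFun_coe, blockEmbFun_coe, blockEmbFun_coe,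
      Matrix.SpecialLinearGroup.coe_mul, blockMat_mul])

theorem blockEmb_coe [Fintype ι] (a b : ι) (hab : a ≠ b) (M : SpecialLinearGroup (Fin 2) F) :
    ((blockEmb a b hab M : SpecialLinearGroup ι F) : Matrix ι ι F)
      = blockMat a b hab (M : Matrix (Fin 2) (Fin 2) F) := rfl

/-- Extensionality for comparing a matrix with a block matrix. -/
theorem eq_blockMat_iff (a b : ι) (hab : a ≠ b) (M : Matrix (Fin 2) (Fin 2) F)
    (X : Matrix ι ι F) :
    X = blockMat a b hab M ↔ X a a = M 0 0 ∧ X a b = M 0 1 ∧ X b a = M 1 0 ∧ X b b = M 1 1 ∧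
      (∀ k l, k ≠ a → k ≠ b → X k l = if k = l then 1 else 0) ∧
      (∀ k l, l ≠ a → l ≠ b → X k l = if k = l then 1 else 0) := by
  constructor
  · rintro rfl
    exact ⟨blockMat_apply_aa a b hab M, blockMat_apply_ab a b hab M, blockMat_apply_ba a b hab M,
      blockMat_apply_bb a b hab M, fun k l h1 h2 => blockMat_apply_other_left a b hab M k l h1 h2,
      fun k l h1 h2 => blockMat_apply_other_right a b hab M k l h1 h2⟩
  · rintro ⟨h1, h2, h3, h4, h5, h6⟩
    ext i j
    by_cases hia : i = a
    · by_cases hja : j = a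
      · rw [hia, hja, h1, blockMat_apply_aa]
      · by_cases hjb : j = b
        · rw [hia, hjb, h2, blockMat_apply_ab]
        · rw [h6 i j hja hjb, blockMat_apply_other_right a b hab M i j hja hjb]
    · by_cases hib : i = b
      · by_cases hja : j = a
        · rw [hib, hja, h3, blockMat_apply_ba]
        · by_cases hjb : j = b
          · rw [hib, hjb, h4, blockMat_apply_bb]
          · rw [h6 i j hja hjb, blockMat_apply_other_right a b hab M i j hja hjb]
      · rw [h5 i j hia hib, blockMat_apply_other_left a b hab M i j hia hib]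

theorem blockMat_upper (a b : ι) (hab : a ≠ b) (t : F) :
    blockMat a b hab !![1, t; 0, 1] = Matrix.transvection a b t := by
  symm
  rw [eq_blockMat_iff]
  unfold Matrix.transvection
  refine ⟨?_, ?_, ?_, ?_, ?_, ?_⟩
  · simp [hab.symm]
  · simp [hab]
  · simp [hab.symm]
  · simp [hab]
  · intro k l h1 h2
    simp [Matrix.one_apply, Ne.symm h1]
  · intro k l h1 h2
    simp [Matrix.one_apply, Ne.symm h2]

theorem blockMat_lower (a b : ι) (hab : a ≠ b) (t : F) :
    blockMat a b hab !![1, 0; t, 1] = Matrix.transvection b a t := by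
  symm
  rw [eq_blockMat_iff]
  unfold Matrix.transvection
  refine ⟨?_, ?_, ?_, ?_, ?_, ?_⟩
  · simp [hab.symm]
  · simp [hab]
  · simp [hab.symm]
  · simp [hab]
  · intro k l h1 h2
    simp [Matrix.one_apply, Ne.symm h2]
  · intro k l h1 h2
    simp [Matrix.one_apply, Ne.symm h1]

theorem blockEmb_xm [Fintype ι] (a b : ι) (hab : a ≠ b) (t : F) :
    blockEmb a b hab (xm t) = Matrix.SpecialLinearGroup.transvection hab t := by
  apply Subtype.ext
  rw [blockEmb_coe, Matrix.SpecialLinearGroup.transvection_coe]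
  unfold xm
  rw [mk2_coe, blockMat_upper]
  rfl

theorem blockEmb_ym [Fintype ι] (a b : ι) (hab : a ≠ b) (t : F) :
    blockEmb a b hab (ym t) = Matrix.SpecialLinearGroup.transvection hab.symm t := by
  apply Subtype.ext
  rw [blockEmb_coe, Matrix.SpecialLinearGroup.transvection_coe]
  unfold ym
  rw [mk2_coe, blockMat_lower]
  rfl

theorem blockEmb_injective [Fintype ι] (a b : ι) (hab : a ≠ b) :
    Function.Injective (blockEmb (F := F) a b hab) := by
  intro M M' h
  have h' := congrArg (fun g : SpecialLinearGroup ι F => (g : Matrix ι ι F)) h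
  simp only [blockEmb_coe] at h'
  apply Subtype.ext
  ext i j
  fin_cases i <;> fin_cases j
  · have := congrFun (congrFun h' a) a
    rwa [blockMat_apply_aa, blockMat_apply_aa] at this
  · have := congrFun (congrFun h' a) b
    rwa [blockMat_apply_ab, blockMat_apply_ab] at this
  · have := congrFun (congrFun h' b) a
    rwa [blockMat_apply_ba, blockMat_apply_ba] at this
  · have := congrFun (congrFun h' b) b
    rwa [blockMat_apply_bb, blockMat_apply_bb] at this

end

end Cfsg.Agent.Lib.Helper5.SLnBN
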