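import Mathlib

set_option autoImplicit false

/-!
Monomial matrices.
-/

namespace Cfsg.Agent.Lib.Helper5.SLnBN

open Matrix

section
variable {ι : Type*} [Fintype ι] [DecidableEq ι] {F : Type*} [Field F]

/-- `g` is monomial with permutation `σ`: the only possibly nonzero entry of column `j` is in
row `σ j`. -/
def IsMono (g : Matrix ι ι F) (σ : Equiv.Perm ι) : Prop := ∀ i j, i ≠ σ j → g i j = 0

omit [Fintype ι] in
theorem IsMono.one : IsMono (1 : Matrix ι ι F) 1 := by
  intro i j h
  rw [Matrix.one_apply, if_neg]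
  exact h

theorem IsMono.mul {g h : Matrix ι ι F} {σ τ : Equiv.Perm ι} (hg : IsMono g σ) (hh : IsMono h τ) :
    IsMono (g * h) (σ * τ) := by
  intro i j hij
  rw [Matrix.mul_apply]
  apply Finset.sum_eq_zero
  intro k _
  by_cases hk : k = τ j
  · rw [hk, hg i (τ j) hij, zero_mul]
  · rw [hh k j hk, mul_zero]

theorem IsMono.apply_ne_zero {g : SpecialLinearGroup ι F} {σ : Equiv.Perm ι}
    (hg : IsMono (g : Matrix ι ι F) σ) (j : ι) : (g : Matrix ι ι F) (σ j) j ≠ 0 := by
  intro h0
  have hcol : ∀ i, (g : Matrix ι ι F) i j = 0 := by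
    intro i
    by_cases hi : i = σ j
    · rw [hi, h0]
    · exact hg i j hi
  have := Matrix.det_eq_zero_of_column_eq_zero j hcol
  rw [g.2] at this
  exact one_ne_zero this

theorem IsMono.inv {g : SpecialLinearGroup ι F} {σ : Equiv.Perm ι}
    (hg : IsMono (g : Matrix ι ι F) σ) :
    IsMono ((g⁻¹ : SpecialLinearGroup ι F) : Matrix ι ι F) σ⁻¹ := by
  intro i k hik
  obtain ⟨j, rfl⟩ : ∃ j, σ j = k := ⟨σ⁻¹ k, by simp⟩
  have hij : i ≠ j := by
    intro e
    apply hik
    rw [e]
    simp
  have h1 : ((g⁻¹ : SpecialLinearGroup ι F) : Matrix ι ι F) * (g : Matrix ι ι F) = 1 := by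
    rw [← Matrix.SpecialLinearGroup.coe_mul, inv_mul_cancel, Matrix.SpecialLinearGroup.coe_one]
  have h2 := congrFun (congrFun h1 i) j
  rw [Matrix.mul_apply, Matrix.one_apply, if_neg hij, Finset.sum_eq_single (σ j)] at h2
  · rcases mul_eq_zero.1 h2 with h | h
    · exact h
    · exact absurd h (hg.apply_ne_zero j)
  · intro l _ hl
    rw [hg l j hl, mul_zero]
  · intro h
    exact absurd (Finset.mem_univ _) h

theorem IsMono.perm_unique {g : SpecialLinearGroup ι F} {σ τ : Equiv.Perm ι}
    (hg : IsMono (g : Matrix ι ι F) σ) (hg' : IsMono (g : Matrix ι ι F) τ) : σ = τ := by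
  ext j
  by_contra h
  exact hg.apply_ne_zero j (hg' (σ j) j h)

/-- Conjugation by a monomial matrix permutes the entries. -/
theorem IsMono.conj_apply {n n' : Matrix ι ι F} {σ : Equiv.Perm ι} (hn : IsMono n σ)
    (hn' : IsMono n' σ⁻¹) (b : Matrix ι ι F) (k l : ι) :
    (n * b * n') (σ k) (σ l) = n (σ k) k * b k l * n' l (σ l) := by
  rw [Matrix.mul_apply, Finset.sum_eq_single l]
  · rw [Matrix.mul_apply, Finset.sum_eq_single k]
    · intro a _ ha
      rw [hn (σ k) a (fun e => ha (σ.injective e).symm), zero_mul]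
    · intro h
      exact absurd (Finset.mem_univ _) h
  · intro c _ hc
    rw [hn' c (σ l) (by
      intro e
      apply hc
      rw [e]
      simp), mul_zero]
  · intro h
    exact absurd (Finset.mem_univ _) h

/-- The product of the two nonzero entries of a monomial matrix and its inverse. -/
theorem IsMono.apply_mul_inv_apply {g : SpecialLinearGroup ι F} {σ : Equiv.Perm ι}
    (hg : IsMono (g : Matrix ι ι F) σ) (j : ι) :
    (g : Matrix ι ι F) (σ j) j * ((g⁻¹ : SpecialLinearGroup ι F) : Matrix ι ι F) j (σ j) = 1 := by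
  have h1 : ((g⁻¹ : SpecialLinearGroup ι F) : Matrix ι ι F) * (g : Matrix ι ι F) = 1 := by
    rw [← Matrix.SpecialLinearGroup.coe_mul, inv_mul_cancel, Matrix.SpecialLinearGroup.coe_one]
  have h2 := congrFun (congrFun h1 j) j
  rw [Matrix.mul_apply, Matrix.one_apply, if_pos rfl, Finset.sum_eq_single (σ j)] at h2
  · rw [mul_comm]
    exact h2
  · intro l _ hl
    rw [hg l j hl, mul_zero]
  · intro h
    exact absurd (Finset.mem_univ _) h

end

section fin
variable {n : ℕ} {F : Type*} [Field F]

theorem perm_eq_one_of_le (σ : Equiv.Perm (Fin n)) (h : ∀ j, σ j ≤ j) : σ = 1 := by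
  ext j
  have key : ∀ m : ℕ, ∀ j : Fin n, j.val = m → σ j = j := by
    intro m
    induction m using Nat.strong_induction_on with
    | _ m ih =>
      intro j hj
      rcases (h j).lt_or_eq with hlt | heq
      · exfalso
        have h1 : σ (σ j) = σ j := ih (σ j).val (by rw [← hj]; exact hlt) (σ j) rfl
        have h2 := σ.injective h1
        rw [h2] at hlt
        exact lt_irrefl _ hlt
      · exact heq
  rw [key j.val j rfl]
  rfl

/-- An upper triangular monomial matrix of determinant one has trivial permutation. -/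
theorem IsMono.eq_one_of_upper {g : SpecialLinearGroup (Fin n) F} {σ : Equiv.Perm (Fin n)}
    (hg : IsMono (g : Matrix (Fin n) (Fin n) F) σ)
    (hup : ∀ i j : Fin n, j < i → (g : Matrix (Fin n) (Fin n) F) i j = 0) : σ = 1 := by
  apply perm_eq_one_of_le
  intro j
  by_contra hlt
  exact hg.apply_ne_zero j (hup (σ j) j (not_le.1 hlt))

end fin

end Cfsg.Agent.Lib.Helper5.SLnBN
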