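import Mathlib
import Cfsg.Agent.Lib.Helper5.SLnBN1
import Cfsg.Agent.Lib.Helper5.SLnBN2

set_option autoImplicit false

/-!
The Borel subgroup, the monomial subgroup and the simple reflections of `SL_n(F)`.
-/

namespace Cfsg.Agent.Lib.Helper5.SLnBN

open Matrix Cfsg.Agent.Lib.Helper5.PSL2Aut

section
variable {n : ℕ} {F : Type*} [Field F]

theorem coe_inv_eq_inv (g : SpecialLinearGroup (Fin n) F) :
    ((g⁻¹ : SpecialLinearGroup (Fin n) F) : Matrix (Fin n) (Fin n) F)
      = (g : Matrix (Fin n) (Fin n) F)⁻¹ := by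
  symm
  apply Matrix.inv_eq_right_inv
  rw [← Matrix.SpecialLinearGroup.coe_mul, mul_inv_cancel, Matrix.SpecialLinearGroup.coe_one]

/-- The upper triangular subgroup of `SL_n(F)`. -/
def borel (n : ℕ) (F : Type*) [Field F] : Subgroup (SpecialLinearGroup (Fin n) F) where
  carrier := {g | ∀ i j : Fin n, j < i → (g : Matrix (Fin n) (Fin n) F) i j = 0}
  mul_mem' := by
    intro g h hg hh
    have hg' : Matrix.BlockTriangular (g : Matrix (Fin n) (Fin n) F) id := fun i j hij => hg i j hij
    have hh' : Matrix.BlockTriangular (h : Matrix (Fin n) (Fin n) F) id := fun i j hij => hh i j hij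
    intro i j hij
    rw [Matrix.SpecialLinearGroup.coe_mul]
    exact (hg'.mul hh') hij
  one_mem' := by
    intro i j hij
    rw [Matrix.SpecialLinearGroup.coe_one, Matrix.one_apply, if_neg (ne_of_gt hij)]
  inv_mem' := by
    intro g hg
    have hg' : Matrix.BlockTriangular (g : Matrix (Fin n) (Fin n) F) id := fun i j hij => hg i j hij
    have : Invertible (g : Matrix (Fin n) (Fin n) F) :=
      invertibleOfRightInverse _ ((g⁻¹ : SpecialLinearGroup (Fin n) F) :
        Matrix (Fin n) (Fin n) F) (by
        rw [← Matrix.SpecialLinearGroup.coe_mul, mul_inv_cancel, Matrix.SpecialLinearGroup.coe_one])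
    intro i j hij
    rw [coe_inv_eq_inv]
    exact (Matrix.blockTriangular_inv_of_blockTriangular hg') hij

theorem mem_borel (g : SpecialLinearGroup (Fin n) F) :
    g ∈ borel n F ↔ ∀ i j : Fin n, j < i → (g : Matrix (Fin n) (Fin n) F) i j = 0 := Iff.rfl

/-- The monomial subgroup of `SL_n(F)`. -/
def monoSub (n : ℕ) (F : Type*) [Field F] : Subgroup (SpecialLinearGroup (Fin n) F) where
  carrier := {g | ∃ σ : Equiv.Perm (Fin n), IsMono (g : Matrix (Fin n) (Fin n) F) σ}
  mul_mem' := by
    rintro g h ⟨σ, hσ⟩ ⟨τ, hτ⟩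
    exact ⟨σ * τ, by rw [Matrix.SpecialLinearGroup.coe_mul]; exact hσ.mul hτ⟩
  one_mem' := ⟨1, by rw [Matrix.SpecialLinearGroup.coe_one]; exact IsMono.one⟩
  inv_mem' := by
    rintro g ⟨σ, hσ⟩
    exact ⟨σ⁻¹, hσ.inv⟩

theorem mem_monoSub (g : SpecialLinearGroup (Fin n) F) :
    g ∈ monoSub n F ↔ ∃ σ : Equiv.Perm (Fin n), IsMono (g : Matrix (Fin n) (Fin n) F) σ :=
  Iff.rfl

/-- An element of the intersection of the Borel subgroup and the monomial subgroup is diagonal. -/
theorem isMono_one_of_mem_inf {g : SpecialLinearGroup (Fin n) F}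
    (hg : g ∈ borel n F ⊓ monoSub n F) : IsMono (g : Matrix (Fin n) (Fin n) F) 1 := by
  obtain ⟨hB, σ, hσ⟩ := hg
  have := hσ.eq_one_of_upper hB
  rw [this] at hσ
  exact hσ

theorem mem_borel_of_isMono_one {g : SpecialLinearGroup (Fin n) F}
    (hg : IsMono (g : Matrix (Fin n) (Fin n) F) 1) : g ∈ borel n F := by
  intro i j hij
  exact hg i j (by rw [Equiv.Perm.one_apply]; exact ne_of_gt hij)

/-- Conjugation by a monomial element preserves the diagonal subgroup. -/
theorem conj_mem_borel {g t : SpecialLinearGroup (Fin n) F} (hg : g ∈ monoSub n F)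
    (ht : t ∈ borel n F ⊓ monoSub n F) : g * t * g⁻¹ ∈ borel n F := by
  obtain ⟨σ, hσ⟩ := hg
  have h1 := isMono_one_of_mem_inf ht
  apply mem_borel_of_isMono_one
  rw [Matrix.SpecialLinearGroup.coe_mul, Matrix.SpecialLinearGroup.coe_mul]
  have := (hσ.mul h1).mul hσ.inv
  rw [mul_one, mul_inv_cancel] at this
  exact this

/-- Antidiagonal block matrices are monomial. -/
theorem isMono_blockMat_anti (a b : Fin n) (hab : a ≠ b) (p q : F) :
    IsMono (blockMat a b hab !![0, p; q, 0]) (Equiv.swap a b) := by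
  intro k l hkl
  by_cases hla : l = a
  · rw [hla, Equiv.swap_apply_left] at hkl
    rw [hla]
    by_cases hka : k = a
    · rw [hka, blockMat_apply_aa]
      rfl
    · rw [blockMat_apply_other_left a b hab _ k a hka hkl, if_neg hka]
  · by_cases hlb : l = b
    · rw [hlb, Equiv.swap_apply_right] at hkl
      rw [hlb]
      by_cases hkb : k = b
      · rw [hkb, blockMat_apply_bb]
        rfl
      · rw [blockMat_apply_other_left a b hab _ k b hkl hkb, if_neg hkb]
    · rw [Equiv.swap_apply_of_ne_of_ne hla hlb] at hkl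
      rw [blockMat_apply_other_right a b hab _ k l hla hlb, if_neg hkl]

/-- Upper triangular block matrices are upper triangular. -/
theorem blockMat_upper_triangular (a b : Fin n) (hab : a < b) (p q r : F) (i j : Fin n)
    (hij : j < i) : blockMat a b (ne_of_lt hab) !![p, q; 0, r] i j = 0 := by
  by_cases hia : i = a
  · by_cases hja : j = a
    · rw [hia, hja] at hij
      exact absurd hij (lt_irrefl _)
    · by_cases hjb : j = b
      · rw [hia, hjb] at hij
        exact absurd hij (not_lt.2 hab.le)
      · rw [blockMat_apply_other_right _ _ _ _ i j hja hjb, if_neg (ne_of_gt hij)]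
  · by_cases hib : i = b
    · by_cases hja : j = a
      · rw [hib, hja, blockMat_apply_ba]
        rfl
      · by_cases hjb : j = b
        · rw [hib, hjb] at hij
          exact absurd hij (lt_irrefl _)
        · rw [blockMat_apply_other_right _ _ _ _ i j hja hjb, if_neg (ne_of_gt hij)]
    · rw [blockMat_apply_other_left _ _ _ _ i j hia hib, if_neg (ne_of_gt hij)]

end

section
variable {m : ℕ} {F : Type*} [Field F]

theorem castSucc_ne_succ (i : Fin m) : i.castSucc ≠ i.succ := ne_of_lt Fin.castSucc_lt_succ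

/-- The simple reflections. -/
def sRef (i : Fin m) : SpecialLinearGroup (Fin (m + 1)) F :=
  blockEmb i.castSucc i.succ (castSucc_ne_succ i) (wm 1)

theorem sRef_isMono (i : Fin m) :
    IsMono ((sRef i : SpecialLinearGroup (Fin (m + 1)) F) : Matrix (Fin (m + 1)) (Fin (m + 1)) F)
      (Equiv.swap i.castSucc i.succ) := by
  unfold sRef wm
  rw [blockEmb_coe, mk2_coe]
  exact isMono_blockMat_anti _ _ _ _ _

theorem sRef_mem_monoSub (i : Fin m) :
    (sRef i : SpecialLinearGroup (Fin (m + 1)) F) ∈ monoSub (m + 1) F := ⟨_, sRef_isMono i⟩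

theorem wm_one_sq : wm (1 : Fˣ) * wm (1 : Fˣ) = mk2 (-1) 0 0 (-1) (by ring) := by
  unfold wm
  rw [mk2_mul]
  apply mk2_congr <;> simp

theorem sRef_sq_mem_borel (i : Fin m) :
    (sRef i : SpecialLinearGroup (Fin (m + 1)) F) * sRef i ∈ borel (m + 1) F := by
  unfold sRef
  rw [← map_mul, wm_one_sq]
  intro k l hkl
  rw [blockEmb_coe, mk2_coe]
  exact blockMat_upper_triangular _ _ Fin.castSucc_lt_succ _ _ _ k l hkl

theorem swap_adjacent_injective (i j : Fin m)
    (h : Equiv.swap i.castSucc i.succ = Equiv.swap j.castSucc j.succ) : i = j := by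
  have h1 := congrArg (fun σ : Equiv.Perm (Fin (m + 1)) => σ i.castSucc) h
  simp only [Equiv.swap_apply_left] at h1
  by_cases e1 : i.castSucc = j.castSucc
  · exact Fin.castSucc_injective _ e1
  · by_cases e2 : i.castSucc = j.succ
    · rw [e2, Equiv.swap_apply_right] at h1
      have v1 := congrArg Fin.val e2
      have v2 := congrArg Fin.val h1
      simp at v1 v2
      omega
    · rw [Equiv.swap_apply_of_ne_of_ne e1 e2] at h1
      exact absurd h1.symm (castSucc_ne_succ i)

theorem sRef_inj (i j : Fin m)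
    (h : (sRef i : SpecialLinearGroup (Fin (m + 1)) F)⁻¹ * sRef j ∈ borel (m + 1) F) : i = j := by
  have h1 : IsMono (((sRef i : SpecialLinearGroup (Fin (m + 1)) F)⁻¹ * sRef j :
      SpecialLinearGroup (Fin (m + 1)) F) : Matrix (Fin (m + 1)) (Fin (m + 1)) F)
      ((Equiv.swap i.castSucc i.succ)⁻¹ * Equiv.swap j.castSucc j.succ) := by
    rw [Matrix.SpecialLinearGroup.coe_mul]
    exact (sRef_isMono i).inv.mul (sRef_isMono j)
  have h2 := h1.eq_one_of_upper h
  apply swap_adjacent_injective
  rw [inv_mul_eq_one] at h2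
  exact h2

/-- The monomial subgroup is generated by the simple reflections and the diagonal subgroup. -/
theorem closure_sRef_sup :
    Subgroup.closure (Set.range (sRef (m := m) (F := F))) ⊔ (borel (m + 1) F ⊓ monoSub (m + 1) F)
      = monoSub (m + 1) F := by
  apply le_antisymm
  · apply sup_le
    · rw [Subgroup.closure_le]
      rintro _ ⟨i, rfl⟩
      exact sRef_mem_monoSub i
    · exact inf_le_right
  · rintro g ⟨σ, hσ⟩
    have key : ∀ σ : Equiv.Perm (Fin (m + 1)), ∀ g : SpecialLinearGroup (Fin (m + 1)) F,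
        IsMono (g : Matrix (Fin (m + 1)) (Fin (m + 1)) F) σ →
        g ∈ Subgroup.closure (Set.range (sRef (m := m) (F := F))) ⊔
          (borel (m + 1) F ⊓ monoSub (m + 1) F) := by
      intro σ
      induction σ using Submonoid.induction_of_closure_eq_top_left
        (Equiv.Perm.mclosure_swap_castSucc_succ m) with
      | one =>
        intro g hg
        apply Subgroup.mem_sup_right
        exact ⟨mem_borel_of_isMono_one hg, 1, hg⟩
      | mul_left x hx y ih =>
        intro g hg
        obtain ⟨i, rfl⟩ := hx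
        have h1 : IsMono (((sRef i : SpecialLinearGroup (Fin (m + 1)) F)⁻¹ * g :
            SpecialLinearGroup (Fin (m + 1)) F) : Matrix (Fin (m + 1)) (Fin (m + 1)) F) y := by
          have := (sRef_isMono (F := F) i).inv.mul hg
          rw [← mul_assoc, Equiv.swap_inv, Equiv.swap_mul_self, one_mul] at this
          rw [Matrix.SpecialLinearGroup.coe_mul]
          exact this
        have h2 := ih _ h1
        have h3 : g = sRef i * ((sRef i)⁻¹ * g) := by group
        rw [h3]
        exact Subgroup.mul_mem _ (Subgroup.mem_sup_left (Subgroup.subset_closure ⟨i, rfl⟩)) h2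
    exact key σ g hσ

end

end Cfsg.Agent.Lib.Helper5.SLnBN
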