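import Mathlib
import Cfsg.Agent.Lib.Helper1.SLn
import Cfsg.Agent.Lib.Helper5.SLnBN3

set_option autoImplicit false

/-!
Transvections versus the Borel and monomial subgroups.
-/

namespace Cfsg.Agent.Lib.Helper5.SLnBN

open Matrix Cfsg.Agent.Lib.Helper5.PSL2Aut Matrix.SpecialLinearGroup

section
variable {n : ℕ} {F : Type*} [Field F]

theorem transvection_apply {i j : Fin n} (hij : i ≠ j) (t : F) (k l : Fin n) :
    ((transvection hij t : SpecialLinearGroup (Fin n) F) : Matrix (Fin n) (Fin n) F) k l
      = (if k = l then 1 else 0) + (if i = k ∧ j = l then t else 0) := by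
  rw [transvection_coe, Matrix.add_apply, Matrix.one_apply, Matrix.single_apply]

theorem transvection_mem_borel {i j : Fin n} (hij : i < j) (t : F) :
    (transvection (ne_of_lt hij) t : SpecialLinearGroup (Fin n) F) ∈ borel n F := by
  intro k l hlk
  rw [transvection_apply, if_neg (ne_of_gt hlk), if_neg, add_zero]
  rintro ⟨rfl, rfl⟩
  exact lt_asymm hij hlk

/-- Conjugating a transvection by a monomial element. -/
theorem mono_mul_transvection {g : SpecialLinearGroup (Fin n) F} {σ : Equiv.Perm (Fin n)}
    (hg : IsMono (g : Matrix (Fin n) (Fin n) F) σ) {k l a b : Fin n} (hkl : k ≠ l) (hab : a ≠ b)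
    (ha : σ k = a) (hb : σ l = b) (t : F) :
    g * transvection hkl t = transvection hab
      (t * (g : Matrix (Fin n) (Fin n) F) a k *
        ((g⁻¹ : SpecialLinearGroup (Fin n) F) : Matrix (Fin n) (Fin n) F) l b) * g := by
  subst ha hb
  have key : g * transvection hkl t * g⁻¹ = transvection hab
      (t * (g : Matrix (Fin n) (Fin n) F) (σ k) k *
        ((g⁻¹ : SpecialLinearGroup (Fin n) F) : Matrix (Fin n) (Fin n) F) l (σ l)) := by
    apply Subtype.ext
    rw [Matrix.SpecialLinearGroup.coe_mul, Matrix.SpecialLinearGroup.coe_mul]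
    ext i j
    obtain ⟨k', rfl⟩ : ∃ k', σ k' = i := ⟨σ⁻¹ i, by simp⟩
    obtain ⟨l', rfl⟩ : ∃ l', σ l' = j := ⟨σ⁻¹ j, by simp⟩
    rw [hg.conj_apply hg.inv, transvection_apply, transvection_apply]
    by_cases hkl' : k' = l'
    · subst hkl'
      rw [if_pos rfl, if_pos rfl, if_neg, if_neg, add_zero, mul_one,
        hg.apply_mul_inv_apply]
      · rintro ⟨h1, h2⟩
        exact hab (h1.trans h2.symm)
      · rintro ⟨h1, h2⟩
        exact hkl (h1.trans h2.symm)
    · rw [if_neg hkl', if_neg (fun e => hkl' (σ.injective e)), zero_add, zero_add]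
      by_cases h : k = k' ∧ l = l'
      · obtain ⟨rfl, rfl⟩ := h
        rw [if_pos ⟨rfl, rfl⟩, if_pos ⟨rfl, rfl⟩]
        ring
      · rw [if_neg h, if_neg, mul_zero, zero_mul]
        rintro ⟨h1, h2⟩
        exact h ⟨σ.injective h1, σ.injective h2⟩
  rw [← key]
  group

theorem diag_ne_zero_of_mem_borel {g : SpecialLinearGroup (Fin n) F} (hg : g ∈ borel n F)
    (i : Fin n) : (g : Matrix (Fin n) (Fin n) F) i i ≠ 0 := by
  have h1 : (g : Matrix (Fin n) (Fin n) F).IsUpperTriangular := fun i j hij => hg i j hij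
  have h2 := Matrix.det_of_isUpperTriangular h1
  rw [g.2] at h2
  intro h0
  have : ∏ i : Fin n, (g : Matrix (Fin n) (Fin n) F) i i = 0 :=
    Finset.prod_eq_zero (Finset.mem_univ i) h0
  rw [this] at h2
  exact one_ne_zero h2

/-- Splitting off a root element from an element of the Borel subgroup. -/
theorem exists_borel_split {g : SpecialLinearGroup (Fin n) F} (hg : g ∈ borel n F)
    {a b : Fin n} (hab : a < b) :
    ∃ (c : F) (g' : SpecialLinearGroup (Fin n) F), g' ∈ borel n F ∧
      (g' : Matrix (Fin n) (Fin n) F) a b = 0 ∧ g = g' * transvection (ne_of_lt hab) c := by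
  have hne := diag_ne_zero_of_mem_borel hg a
  refine ⟨(g : Matrix (Fin n) (Fin n) F) a b / (g : Matrix (Fin n) (Fin n) F) a a,
    g * transvection (ne_of_lt hab)
      (-((g : Matrix (Fin n) (Fin n) F) a b / (g : Matrix (Fin n) (Fin n) F) a a)),
    (borel n F).mul_mem hg (transvection_mem_borel hab _), ?_, ?_⟩
  · rw [Matrix.SpecialLinearGroup.coe_mul, transvection_coe, Matrix.mul_add, Matrix.mul_one,
      Matrix.add_apply, Matrix.mul_apply, Finset.sum_eq_single a]
    · rw [Matrix.single_apply_same]
      field_simp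
      ring
    · intro k _ hk
      rw [Matrix.single_apply_of_row_ne (Ne.symm hk), mul_zero]
    · intro h
      exact absurd (Finset.mem_univ _) h
  · rw [mul_assoc, ← transvection_add, neg_add_cancel, transvection_coeff_zero, mul_one]

end

section
variable {m : ℕ} {F : Type*} [Field F]

theorem swap_adjacent_reverse (i : Fin m) (k l : Fin (m + 1)) (hkl : k < l)
    (h : Equiv.swap i.castSucc i.succ l < Equiv.swap i.castSucc i.succ k) :
    k = i.castSucc ∧ l = i.succ := by
  rw [Equiv.swap_apply_def, Equiv.swap_apply_def] at h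
  have hv1 : (i.castSucc : Fin (m + 1)).val = i.val := rfl
  have hv2 : (i.succ : Fin (m + 1)).val = i.val + 1 := rfl
  have hkl' : k.val < l.val := hkl
  split_ifs at h with h1 h2 h3 h4 h5 h6 h7 h8
  all_goals
    first
    | (constructor <;> (apply Fin.ext; simp_all <;> omega))
    | (exfalso
       have h' : ∀ x y : Fin (m + 1), x < y → x.val < y.val := fun x y hxy => hxy
       have := h' _ _ h
       simp_all
       omega)

end

end Cfsg.Agent.Lib.Helper5.SLnBN
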