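import Mathlib
import Cfsg.Prelude.Def_LieExceptional
import Cfsg.Agent.Lib.Helper5.SLnBN4

set_option autoImplicit false

/-!
The `(B, N)`-pair of `SL_{m+1}(F)`.
-/

namespace Cfsg.Agent.Lib.Helper5.SLnBN

open Matrix Cfsg.Agent.Lib.Helper5.PSL2Aut Matrix.SpecialLinearGroup DoubleCoset

section
variable {F : Type*} [Field F]

theorem wm_one_mul_xm_mul_inv (t : F) : wm (1 : Fˣ) * xm t * (wm (1 : Fˣ))⁻¹ = ym (-t) := by
  unfold wm xm ym
  rw [mk2_inv, mk2_mul, mk2_mul]
  apply mk2_congr <;> simp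

/-- An upper triangular element of `SL₂`. -/
def bmat (c : F) (hc : c ≠ 0) : SpecialLinearGroup (Fin 2) F :=
  mk2 (-c⁻¹) 1 0 (-c) (by rw [neg_mul_neg, inv_mul_cancel₀ hc, mul_zero, sub_zero])

theorem wm_one_mul_xm (c : F) (hc : c ≠ 0) :
    wm (1 : Fˣ) * xm c = bmat c hc * ym c⁻¹ := by
  unfold wm xm ym bmat
  rw [mk2_mul, mk2_mul]
  apply mk2_congr
  · simp
  · simp
  · field_simp
    simp
  · simp

end

section
variable {G : Type*} [Group G]

theorem grp_aux1 (s b g t t' : G) (h : g * t' = t * g) :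
    s * (b * t) * g = s * b * s⁻¹ * (s * g) * t' := by
  have : s * b * s⁻¹ * (s * g) * t' = s * b * (g * t') := by group
  rw [this, h]
  group

theorem grp_aux2 (s b g t β y y' : G) (h3 : s * t = β * y) (h1 : g * y' = y * g) :
    s * (b * t) * g = s * b * s⁻¹ * β * g * y' := by
  have e : s * b * s⁻¹ * β * g * y' = s * b * s⁻¹ * β * (g * y') := by group
  have e' : s * (b * t) * g = s * b * s⁻¹ * (s * t) * g := by group
  rw [e, h1, e', h3]
  group

end

section
variable {m : ℕ} {F : Type*} [Field F]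

/-- Every transvection lies in the join of the Borel and the monomial subgroup. -/
theorem transvection_mem_sup {i j : Fin (m + 1)} (hij : i ≠ j) (t : F) :
    (transvection hij t : SpecialLinearGroup (Fin (m + 1)) F)
      ∈ borel (m + 1) F ⊔ monoSub (m + 1) F := by
  rcases lt_or_gt_of_ne hij with h | h
  · exact Subgroup.mem_sup_left (transvection_mem_borel h t)
  · have e : (transvection hij t : SpecialLinearGroup (Fin (m + 1)) F)
        = blockEmb j i hij.symm (wm 1) * transvection hij.symm (-t) *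
          (blockEmb j i hij.symm (wm 1))⁻¹ := by
      have e0 : (transvection hij.symm (-t) : SpecialLinearGroup (Fin (m + 1)) F)
          = blockEmb j i hij.symm (xm (-t)) := (blockEmb_xm j i hij.symm (-t)).symm
      rw [e0, ← map_inv, ← map_mul, ← map_mul, wm_one_mul_xm_mul_inv, neg_neg,
        blockEmb_ym]
    rw [e]
    have hN : blockEmb (F := F) j i hij.symm (wm 1) ∈ monoSub (m + 1) F := by
      refine ⟨Equiv.swap j i, ?_⟩
      unfold wm
      rw [blockEmb_coe, mk2_coe]
      exact isMono_blockMat_anti _ _ _ _ _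
    exact Subgroup.mul_mem _ (Subgroup.mul_mem _ (Subgroup.mem_sup_right hN)
      (Subgroup.mem_sup_left (transvection_mem_borel h _)))
      (Subgroup.inv_mem _ (Subgroup.mem_sup_right hN))

theorem borel_sup_monoSub (hm : 1 ≤ m) : borel (m + 1) F ⊔ monoSub (m + 1) F = ⊤ := by
  have : Nontrivial (Fin (m + 1)) := Fin.nontrivial_iff_two_le.2 (by omega)
  apply Cfsg.Agent.Lib.Helper1.eq_top_of_transvection_mem
  intro i j hij c
  exact transvection_mem_sup hij c

/-- Conjugation by a simple reflection preserves the elements of the Borel subgroup with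
vanishing entry at the corresponding simple root. -/
theorem sRef_conj_mem_borel (i : Fin m) {g : SpecialLinearGroup (Fin (m + 1)) F}
    (hg : g ∈ borel (m + 1) F)
    (h0 : (g : Matrix (Fin (m + 1)) (Fin (m + 1)) F) i.castSucc i.succ = 0) :
    sRef i * g * (sRef i)⁻¹ ∈ borel (m + 1) F := by
  intro k' l' hlk
  obtain ⟨k, rfl⟩ : ∃ k, Equiv.swap i.castSucc i.succ k = k' :=
    ⟨(Equiv.swap i.castSucc i.succ)⁻¹ k', by simp⟩
  obtain ⟨l, rfl⟩ : ∃ l, Equiv.swap i.castSucc i.succ l = l' :=
    ⟨(Equiv.swap i.castSucc i.succ)⁻¹ l', by simp⟩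
  rw [Matrix.SpecialLinearGroup.coe_mul, Matrix.SpecialLinearGroup.coe_mul,
    (sRef_isMono i).conj_apply (sRef_isMono i).inv]
  have hz : (g : Matrix (Fin (m + 1)) (Fin (m + 1)) F) k l = 0 := by
    rcases lt_trichotomy l k with h | h | h
    · exact hg k l h
    · rw [h] at hlk
      exact absurd hlk (lt_irrefl _)
    · obtain ⟨rfl, rfl⟩ := swap_adjacent_reverse i k l h hlk
      exact h0
  rw [hz, mul_zero, zero_mul]

/-- The double coset condition. -/
theorem sRef_mul_mem_union (i : Fin m) {g b : SpecialLinearGroup (Fin (m + 1)) F}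
    (hg : g ∈ monoSub (m + 1) F) (hb : b ∈ borel (m + 1) F) :
    sRef i * b * g ∈ doubleCoset (sRef i * g) (borel (m + 1) F : Set _) (borel (m + 1) F)
      ∪ doubleCoset g (borel (m + 1) F : Set _) (borel (m + 1) F) := by
  obtain ⟨σ, hσ⟩ := hg
  obtain ⟨c, b', hb', hb'0, rfl⟩ := exists_borel_split hb (Fin.castSucc_lt_succ (i := i))
  have h4 := sRef_conj_mem_borel i hb' hb'0
  obtain ⟨k, hk⟩ : ∃ k, σ k = i.castSucc := ⟨σ⁻¹ i.castSucc, by simp⟩
  obtain ⟨l, hl⟩ : ∃ l, σ l = i.succ := ⟨σ⁻¹ i.succ, by simp⟩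
  have hkl : k ≠ l := by
    intro e
    rw [e, hl] at hk
    exact (castSucc_ne_succ i) hk.symm
  have hne1 : (g : Matrix (Fin (m + 1)) (Fin (m + 1)) F) i.castSucc k ≠ 0 := by
    rw [← hk]; exact hσ.apply_ne_zero k
  have hne2 : (g : Matrix (Fin (m + 1)) (Fin (m + 1)) F) i.succ l ≠ 0 := by
    rw [← hl]; exact hσ.apply_ne_zero l
  have hne3 : ((g⁻¹ : SpecialLinearGroup (Fin (m + 1)) F) :
      Matrix (Fin (m + 1)) (Fin (m + 1)) F) l i.succ ≠ 0 := by
    have := hσ.inv.apply_ne_zero i.succ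
    rw [← hl] at this ⊢
    simpa using this
  have hne4 : ((g⁻¹ : SpecialLinearGroup (Fin (m + 1)) F) :
      Matrix (Fin (m + 1)) (Fin (m + 1)) F) k i.castSucc ≠ 0 := by
    have := hσ.inv.apply_ne_zero i.castSucc
    rw [← hk] at this ⊢
    simpa using this
  rcases lt_or_gt_of_ne hkl with hlt | hgt
  · -- the root stays positive
    left
    have e1 := mono_mul_transvection hσ hkl (castSucc_ne_succ i) hk hl
      (c * ((g : Matrix (Fin (m + 1)) (Fin (m + 1)) F) i.castSucc k)⁻¹ *
        (((g⁻¹ : SpecialLinearGroup (Fin (m + 1)) F) :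
          Matrix (Fin (m + 1)) (Fin (m + 1)) F) l i.succ)⁻¹)
    have e2 : c * ((g : Matrix (Fin (m + 1)) (Fin (m + 1)) F) i.castSucc k)⁻¹ *
        (((g⁻¹ : SpecialLinearGroup (Fin (m + 1)) F) :
          Matrix (Fin (m + 1)) (Fin (m + 1)) F) l i.succ)⁻¹ *
        (g : Matrix (Fin (m + 1)) (Fin (m + 1)) F) i.castSucc k *
        ((g⁻¹ : SpecialLinearGroup (Fin (m + 1)) F) :
          Matrix (Fin (m + 1)) (Fin (m + 1)) F) l i.succ = c := by
      field_simp
    rw [e2] at e1
    rw [mem_doubleCoset]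
    refine ⟨sRef i * b' * (sRef i)⁻¹, h4, transvection hkl
      (c * ((g : Matrix (Fin (m + 1)) (Fin (m + 1)) F) i.castSucc k)⁻¹ *
        (((g⁻¹ : SpecialLinearGroup (Fin (m + 1)) F) :
          Matrix (Fin (m + 1)) (Fin (m + 1)) F) l i.succ)⁻¹), transvection_mem_borel hlt _, ?_⟩
    exact grp_aux1 _ _ _ _ _ e1
  · by_cases hc : c = 0
    · left
      rw [hc, transvection_coeff_zero, mul_one, mem_doubleCoset]
      refine ⟨sRef i * b' * (sRef i)⁻¹, h4, 1, Subgroup.one_mem _, ?_⟩
      group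
    · right
      have e1 := mono_mul_transvection hσ hkl.symm (castSucc_ne_succ i).symm hl hk
        (c⁻¹ * ((g : Matrix (Fin (m + 1)) (Fin (m + 1)) F) i.succ l)⁻¹ *
          (((g⁻¹ : SpecialLinearGroup (Fin (m + 1)) F) :
            Matrix (Fin (m + 1)) (Fin (m + 1)) F) k i.castSucc)⁻¹)
      have e2 : c⁻¹ * ((g : Matrix (Fin (m + 1)) (Fin (m + 1)) F) i.succ l)⁻¹ *
          (((g⁻¹ : SpecialLinearGroup (Fin (m + 1)) F) :
            Matrix (Fin (m + 1)) (Fin (m + 1)) F) k i.castSucc)⁻¹ *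
          (g : Matrix (Fin (m + 1)) (Fin (m + 1)) F) i.succ l *
          ((g⁻¹ : SpecialLinearGroup (Fin (m + 1)) F) :
            Matrix (Fin (m + 1)) (Fin (m + 1)) F) k i.castSucc = c⁻¹ := by
        field_simp
      rw [e2] at e1
      have e3 : sRef i * transvection (castSucc_ne_succ i) c
          = blockEmb i.castSucc i.succ (castSucc_ne_succ i) (bmat c hc)
            * transvection (castSucc_ne_succ i).symm c⁻¹ := by
        unfold sRef
        have e0 : (transvection (castSucc_ne_succ i) c : SpecialLinearGroup (Fin (m + 1)) F)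
            = blockEmb i.castSucc i.succ (castSucc_ne_succ i) (xm c) :=
          (blockEmb_xm _ _ (castSucc_ne_succ i) c).symm
        have e0' : (transvection (castSucc_ne_succ i).symm c⁻¹ :
            SpecialLinearGroup (Fin (m + 1)) F)
            = blockEmb i.castSucc i.succ (castSucc_ne_succ i) (ym c⁻¹) :=
          (blockEmb_ym _ _ (castSucc_ne_succ i) c⁻¹).symm
        rw [e0, e0', ← map_mul, ← map_mul, wm_one_mul_xm c hc]
      have hβ : blockEmb (F := F) i.castSucc i.succ (castSucc_ne_succ i)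
          (bmat c hc) ∈ borel (m + 1) F := by
        intro k' l' hlk
        unfold bmat
        rw [blockEmb_coe, mk2_coe]
        exact blockMat_upper_triangular _ _ Fin.castSucc_lt_succ _ _ _ k' l' hlk
      rw [mem_doubleCoset]
      refine ⟨sRef i * b' * (sRef i)⁻¹ * blockEmb i.castSucc i.succ (castSucc_ne_succ i)
        (bmat c hc), Subgroup.mul_mem _ h4 hβ, transvection hkl.symm
        (c⁻¹ * ((g : Matrix (Fin (m + 1)) (Fin (m + 1)) F) i.succ l)⁻¹ *
          (((g⁻¹ : SpecialLinearGroup (Fin (m + 1)) F) :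
            Matrix (Fin (m + 1)) (Fin (m + 1)) F) k i.castSucc)⁻¹),
        transvection_mem_borel hgt _, ?_⟩
      exact grp_aux2 _ _ _ _ _ _ _ e3 e1

/-- A simple reflection does not normalize the Borel subgroup. -/
theorem sRef_conj_ne (i : Fin m) :
    (fun b : SpecialLinearGroup (Fin (m + 1)) F => sRef i * b * sRef i) ''
      (borel (m + 1) F : Set (SpecialLinearGroup (Fin (m + 1)) F))
      ≠ (borel (m + 1) F : Set (SpecialLinearGroup (Fin (m + 1)) F)) := by
  intro h
  have h1 : sRef i * transvection (castSucc_ne_succ i) (1 : F) * sRef i ∈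
      (borel (m + 1) F : Set (SpecialLinearGroup (Fin (m + 1)) F)) := by
    rw [← h]
    exact ⟨_, transvection_mem_borel (Fin.castSucc_lt_succ (i := i)) 1, rfl⟩
  have h2 : sRef i * transvection (castSucc_ne_succ i) (1 : F) * (sRef i)⁻¹ ∈ borel (m + 1) F := by
    have e : sRef i * transvection (castSucc_ne_succ i) (1 : F) * (sRef i)⁻¹
        = sRef i * transvection (castSucc_ne_succ i) (1 : F) * sRef i * (sRef i * sRef i)⁻¹ := by
      group
    rw [e]
    exact Subgroup.mul_mem _ h1 (Subgroup.inv_mem _ (sRef_sq_mem_borel i))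
  have e : sRef i * transvection (castSucc_ne_succ i) (1 : F) * (sRef i)⁻¹
      = transvection (castSucc_ne_succ i).symm (-1 : F) := by
    unfold sRef
    rw [← blockEmb_xm, ← map_inv, ← map_mul, ← map_mul, wm_one_mul_xm_mul_inv, blockEmb_ym]
  rw [e] at h2
  have h3 := h2 i.succ i.castSucc Fin.castSucc_lt_succ
  rw [transvection_apply, if_neg (castSucc_ne_succ i).symm, if_pos ⟨rfl, rfl⟩, zero_add] at h3
  exact one_ne_zero (neg_eq_zero.1 h3)

/-- The `(B, N)`-pair of `SL_{m+1}(F)`. -/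
def bnPair (m : ℕ) (F : Type*) [Field F] (hm : 1 ≤ m) :
    Cfsg.BNPair (SpecialLinearGroup (Fin (m + 1)) F) where
  B := borel (m + 1) F
  N := monoSub (m + 1) F
  S := Set.range (sRef (m := m) (F := F))
  sup_eq_top := borel_sup_monoSub hm
  conj_mem := fun n hn t ht => conj_mem_borel hn ht
  subset := by
    rintro _ ⟨i, rfl⟩
    exact sRef_mem_monoSub i
  sq_mem := by
    rintro _ ⟨i, rfl⟩
    exact sRef_sq_mem_borel i
  inj := by
    rintro _ ⟨i, rfl⟩ _ ⟨j, rfl⟩ h
    rw [sRef_inj i j h]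
  closure_sup := closure_sRef_sup
  mul_mem_union := by
    rintro _ ⟨i, rfl⟩ n hn b hb
    exact sRef_mul_mem_union i hn hb
  conj_ne := by
    rintro _ ⟨i, rfl⟩
    exact sRef_conj_ne i

end

end Cfsg.Agent.Lib.Helper5.SLnBN
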