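import Mathlib
import Cfsg.Agent.Lib.Helper5.SLnBN5
import Cfsg.Agent.Lib.Helper5.SLnAut1

set_option autoImplicit false

/-!
The upper unitriangular subgroup of `SL_n(F)`.
-/

namespace Cfsg.Agent.Lib.Helper5.SLnBN

open Matrix Matrix.SpecialLinearGroup Cfsg.Agent.Lib.Helper5.SLnAut

section
variable {n : ℕ} {F : Type*} [Field F]

/-- Diagonal entries are multiplicative on the Borel subgroup. -/
theorem borel_mul_diag {g h : SpecialLinearGroup (Fin n) F} (hg : g ∈ borel n F)
    (hh : h ∈ borel n F) (i : Fin n) :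
    ((g * h : SpecialLinearGroup (Fin n) F) : Matrix (Fin n) (Fin n) F) i i
      = (g : Matrix (Fin n) (Fin n) F) i i * (h : Matrix (Fin n) (Fin n) F) i i := by
  rw [Matrix.SpecialLinearGroup.coe_mul, Matrix.mul_apply, Finset.sum_eq_single i]
  · intro j _ hj
    rcases lt_or_gt_of_ne hj with hlt | hgt
    · rw [hg i j hlt, zero_mul]
    · rw [hh j i hgt, mul_zero]
  · intro h
    exact absurd (Finset.mem_univ _) h

/-- The upper unitriangular subgroup. -/
def unip (n : ℕ) (F : Type*) [Field F] : Subgroup (SpecialLinearGroup (Fin n) F) where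
  carrier := {g | g ∈ borel n F ∧ ∀ i, (g : Matrix (Fin n) (Fin n) F) i i = 1}
  mul_mem' := by
    rintro g h ⟨hg, hg1⟩ ⟨hh, hh1⟩
    refine ⟨(borel n F).mul_mem hg hh, fun i => ?_⟩
    rw [borel_mul_diag hg hh, hg1, hh1, mul_one]
  one_mem' := ⟨(borel n F).one_mem, fun i => by
    rw [Matrix.SpecialLinearGroup.coe_one, Matrix.one_apply_eq]⟩
  inv_mem' := by
    rintro g ⟨hg, hg1⟩
    refine ⟨(borel n F).inv_mem hg, fun i => ?_⟩
    have h := borel_mul_diag hg ((borel n F).inv_mem hg) i
    rw [mul_inv_cancel, Matrix.SpecialLinearGroup.coe_one, Matrix.one_apply_eq, hg1, one_mul] at h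
    exact h.symm

theorem mem_unip (g : SpecialLinearGroup (Fin n) F) :
    g ∈ unip n F ↔ g ∈ borel n F ∧ ∀ i, (g : Matrix (Fin n) (Fin n) F) i i = 1 := Iff.rfl

theorem unip_le_borel : unip n F ≤ borel n F := fun _ h => h.1

/-- The Borel subgroup normalizes the unitriangular subgroup. -/
theorem conj_mem_unip {b u : SpecialLinearGroup (Fin n) F} (hb : b ∈ borel n F)
    (hu : u ∈ unip n F) : b * u * b⁻¹ ∈ unip n F := by
  have hb' := (borel n F).inv_mem hb
  refine ⟨(borel n F).mul_mem ((borel n F).mul_mem hb hu.1) hb', fun i => ?_⟩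
  rw [borel_mul_diag ((borel n F).mul_mem hb hu.1) hb', borel_mul_diag hb hu.1, hu.2, mul_one,
    ← borel_mul_diag hb hb', mul_inv_cancel, Matrix.SpecialLinearGroup.coe_one,
    Matrix.one_apply_eq]

theorem conj_mem_unip' {b u : SpecialLinearGroup (Fin n) F} (hb : b ∈ borel n F)
    (hu : u ∈ unip n F) : b⁻¹ * u * b ∈ unip n F := by
  have := conj_mem_unip ((borel n F).inv_mem hb) hu
  rwa [inv_inv] at this

theorem transvection_mem_unip {i j : Fin n} (hij : i < j) (t : F) :
    (transvection (ne_of_lt hij) t : SpecialLinearGroup (Fin n) F) ∈ unip n F := by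
  refine ⟨transvection_mem_borel hij t, fun k => ?_⟩
  rw [transvection_apply, if_pos rfl, if_neg, add_zero]
  rintro ⟨rfl, h⟩
  exact (ne_of_lt hij) h.symm

theorem center_le_borel : Subgroup.center (SpecialLinearGroup (Fin n) F) ≤ borel n F := by
  intro z hz
  rw [Matrix.SpecialLinearGroup.mem_center_iff] at hz
  obtain ⟨r, _, hr⟩ := hz
  intro i j hij
  rw [← hr, Matrix.scalar_apply, Matrix.diagonal_apply_ne _ (ne_of_gt hij)]

theorem eq_one_of_mem_unip_of_mem_center {u : SpecialLinearGroup (Fin n) F} (hu : u ∈ unip n F)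
    (hz : u ∈ Subgroup.center (SpecialLinearGroup (Fin n) F)) : u = 1 := by
  rw [Matrix.SpecialLinearGroup.mem_center_iff] at hz
  obtain ⟨r, _, hr⟩ := hz
  apply Subtype.ext
  rw [Matrix.SpecialLinearGroup.coe_one]
  ext i j
  by_cases hij : i = j
  · subst hij
    rw [hu.2, Matrix.one_apply_eq]
  · rw [← hr, Matrix.scalar_apply, Matrix.diagonal_apply_ne _ hij, Matrix.one_apply_ne hij]

/-- A unitriangular element times a central element is unitriangular only if the central element
is trivial. -/
theorem eq_of_mul_center_mem_unip {u u' z : SpecialLinearGroup (Fin n) F} (hu : u ∈ unip n F)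
    (hu' : u' ∈ unip n F) (hz : z ∈ Subgroup.center (SpecialLinearGroup (Fin n) F))
    (h : u' = u * z) : z = 1 := by
  apply eq_one_of_mem_unip_of_mem_center _ hz
  have : z = u⁻¹ * u' := by rw [h]; group
  rw [this]
  exact (unip n F).mul_mem ((unip n F).inv_mem hu) hu'

/-- Transvections with nonzero parameter are nontrivial modulo the center. -/
theorem transvection_not_mem_center {i j : Fin n} (hij : i ≠ j) {t : F} (ht : t ≠ 0) :
    (transvection hij t : SpecialLinearGroup (Fin n) F)
      ∉ Subgroup.center (SpecialLinearGroup (Fin n) F) := by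
  intro hz
  rw [Matrix.SpecialLinearGroup.mem_center_iff] at hz
  obtain ⟨r, _, hr⟩ := hz
  have h1 := congrFun (congrFun hr i) j
  rw [Matrix.scalar_apply, Matrix.diagonal_apply_ne _ hij] at h1
  have h2 := transvection_apply hij t i j
  rw [if_neg hij, if_pos ⟨rfl, rfl⟩, zero_add] at h2
  apply ht
  rw [← h2]
  exact h1.symm

end

end Cfsg.Agent.Lib.Helper5.SLnBN
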