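import Mathlib
import Cfsg.Agent.Lib.Helper1.BNInst
import Cfsg.Agent.Lib.Helper5.SLnUni1

set_option autoImplicit false

/-!
Consequences of the Bruhat decomposition of `SL_n(F)`: the normalizer of the unitriangular
subgroup and the conjugates of it that are opposite to it.
-/

namespace Cfsg.Agent.Lib.Helper5.SLnBN

open Matrix Matrix.SpecialLinearGroup Cfsg.Agent.Lib.Helper5.SLnAut DoubleCoset

section
variable {n : ℕ} {F : Type*} [Field F]

/-- Conjugating a transvection by a monomial element. -/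
theorem mono_conj_transvection {w : SpecialLinearGroup (Fin n) F} {σ : Equiv.Perm (Fin n)}
    (hw : IsMono (w : Matrix (Fin n) (Fin n) F) σ) {k l : Fin n} (hkl : k ≠ l) (t : F) :
    w * transvection hkl t * w⁻¹ = transvection (fun e => hkl (σ.injective e))
      (t * (w : Matrix (Fin n) (Fin n) F) (σ k) k *
        ((w⁻¹ : SpecialLinearGroup (Fin n) F) : Matrix (Fin n) (Fin n) F) l (σ l)) := by
  rw [mono_mul_transvection hw hkl (fun e => hkl (σ.injective e)) rfl rfl t]
  group

theorem mono_conj_coeff_ne_zero {w : SpecialLinearGroup (Fin n) F} {σ : Equiv.Perm (Fin n)}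
    (hw : IsMono (w : Matrix (Fin n) (Fin n) F) σ) (k l : Fin n) {t : F} (ht : t ≠ 0) :
    t * (w : Matrix (Fin n) (Fin n) F) (σ k) k *
        ((w⁻¹ : SpecialLinearGroup (Fin n) F) : Matrix (Fin n) (Fin n) F) l (σ l) ≠ 0 := by
  have h1 := hw.apply_ne_zero k
  have h2 := hw.inv.apply_ne_zero (σ l)
  have e : σ⁻¹ (σ l) = l := by simp
  rw [e] at h2
  exact mul_ne_zero (mul_ne_zero ht h1) h2

theorem transvection_not_mem_borel {i j : Fin n} (hij : i ≠ j) (hji : j < i) {t : F}
    (ht : t ≠ 0) : (transvection hij t : SpecialLinearGroup (Fin n) F) ∉ borel n F := by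
  intro h
  have h1 := h i j hji
  rw [transvection_apply, if_neg hij, if_pos ⟨rfl, rfl⟩, zero_add] at h1
  exact ht h1

theorem transvection_ne_one {i j : Fin n} (hij : i ≠ j) {t : F} (ht : t ≠ 0) :
    (transvection hij t : SpecialLinearGroup (Fin n) F) ≠ 1 := by
  intro h
  have h1 := transvection_apply hij t i j
  rw [h, Matrix.SpecialLinearGroup.coe_one, Matrix.one_apply_ne hij, if_neg hij,
    if_pos ⟨rfl, rfl⟩, zero_add] at h1
  exact ht h1.symm

/-- A monomial element conjugating every positive root element into the Borel subgroup lies in the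
Borel subgroup. -/
theorem mono_mem_borel_of_conj {w : SpecialLinearGroup (Fin n) F} {σ : Equiv.Perm (Fin n)}
    (hw : IsMono (w : Matrix (Fin n) (Fin n) F) σ)
    (h : ∀ (k l : Fin n) (hkl : k < l),
      w * transvection (ne_of_lt hkl) (1 : F) * w⁻¹ ∈ borel n F) : w ∈ borel n F := by
  have hmono : StrictMono σ := by
    intro k l hkl
    have h1 := h k l hkl
    rw [mono_conj_transvection hw (ne_of_lt hkl)] at h1
    by_contra hnot
    have hlt : σ l < σ k := lt_of_le_of_ne (not_lt.1 hnot)
      (fun e => (ne_of_lt hkl) (σ.injective e).symm)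
    exact transvection_not_mem_borel _ hlt (mono_conj_coeff_ne_zero hw k l one_ne_zero) h1
  have h1 : σ = 1 := perm_eq_one_of_le σ (fun j => hmono.apply_le)
  rw [h1] at hw
  exact mem_borel_of_isMono_one hw

/-- A monomial element with order reversing permutation conjugates unitriangular elements to lower
unitriangular elements. -/
theorem mono_conj_unip_transpose {w : SpecialLinearGroup (Fin n) F} {σ : Equiv.Perm (Fin n)}
    (hw : IsMono (w : Matrix (Fin n) (Fin n) F) σ) (hσ : ∀ k l : Fin n, k < l → σ l < σ k)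
    {u : SpecialLinearGroup (Fin n) F} (hu : u ∈ unip n F) :
    (w * u * w⁻¹).transpose ∈ unip n F := by
  have key : ∀ k l : Fin n, ((w * u * w⁻¹ : SpecialLinearGroup (Fin n) F) :
      Matrix (Fin n) (Fin n) F) (σ k) (σ l) = (w : Matrix (Fin n) (Fin n) F) (σ k) k *
        (u : Matrix (Fin n) (Fin n) F) k l *
        ((w⁻¹ : SpecialLinearGroup (Fin n) F) : Matrix (Fin n) (Fin n) F) l (σ l) := by
    intro k l
    rw [Matrix.SpecialLinearGroup.coe_mul, Matrix.SpecialLinearGroup.coe_mul,
      hw.conj_apply hw.inv]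
  constructor
  · intro a b hba
    obtain ⟨l, rfl⟩ : ∃ l, σ l = a := ⟨σ⁻¹ a, by simp⟩
    obtain ⟨k, rfl⟩ : ∃ k, σ k = b := ⟨σ⁻¹ b, by simp⟩
    rw [coe_transpose, Matrix.transpose_apply, key]
    have hlk : l < k := by
      by_contra hnot
      rcases (not_lt.1 hnot).lt_or_eq with h | h
      · exact lt_asymm hba (hσ k l h)
      · rw [h] at hba
        exact lt_irrefl _ hba
    rw [hu.1 k l hlk, mul_zero, zero_mul]
  · intro a
    obtain ⟨k, rfl⟩ : ∃ k, σ k = a := ⟨σ⁻¹ a, by simp⟩
    rw [coe_transpose, Matrix.transpose_apply, key, hu.2, mul_one, hw.apply_mul_inv_apply]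

end

section
variable {m : ℕ} {F : Type*} [Field F]

/-- The Bruhat decomposition of `SL_{m+1}(F)`. -/
theorem exists_bruhat (hm : 1 ≤ m) (g : SpecialLinearGroup (Fin (m + 1)) F) :
    ∃ b ∈ borel (m + 1) F, ∃ w ∈ monoSub (m + 1) F, ∃ b' ∈ borel (m + 1) F, g = b * w * b' := by
  obtain ⟨w, hw⟩ := Cfsg.Agent.Lib.Helper1.bruhat_exists (bnPair m F hm) g
  rw [mem_doubleCoset] at hw
  obtain ⟨b, hb, b', hb', h⟩ := hw
  exact ⟨b, hb, w.1, w.2, b', hb', h⟩

/-- An element conjugating the unitriangular subgroup into the Borel subgroup lies in the Borel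
subgroup. -/
theorem mem_borel_of_conj_unip (hm : 1 ≤ m) {g : SpecialLinearGroup (Fin (m + 1)) F}
    (h : ∀ u ∈ unip (m + 1) F, g * u * g⁻¹ ∈ borel (m + 1) F) : g ∈ borel (m + 1) F := by
  obtain ⟨b, hb, w, ⟨σ, hσ⟩, b', hb', rfl⟩ := exists_bruhat hm g
  have hw : w ∈ borel (m + 1) F := by
    apply mono_mem_borel_of_conj hσ
    intro k l hkl
    have h1 := h _ (conj_mem_unip' hb' (transvection_mem_unip hkl (1 : F)))
    have e : w * transvection (ne_of_lt hkl) (1 : F) * w⁻¹
        = b⁻¹ * (b * w * b' * (b'⁻¹ * transvection (ne_of_lt hkl) (1 : F) * b') *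
          (b * w * b')⁻¹) * b := by group
    rw [e]
    exact (borel (m + 1) F).mul_mem ((borel (m + 1) F).mul_mem ((borel (m + 1) F).inv_mem hb) h1) hb
  exact (borel (m + 1) F).mul_mem ((borel (m + 1) F).mul_mem hb hw) hb'

/-- If a conjugate of the unitriangular subgroup meets it trivially, then it is conjugate by an
element of the Borel subgroup to the lower unitriangular subgroup. -/
theorem exists_borel_conj_transpose (hm : 1 ≤ m) {g : SpecialLinearGroup (Fin (m + 1)) F}
    (h : ∀ u ∈ unip (m + 1) F, g * u * g⁻¹ ∈ unip (m + 1) F → u = 1) :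
    ∃ b ∈ borel (m + 1) F, ∀ u ∈ unip (m + 1) F,
      (b⁻¹ * (g * u * g⁻¹) * b).transpose ∈ unip (m + 1) F := by
  obtain ⟨b, hb, w, ⟨σ, hσ⟩, b', hb', rfl⟩ := exists_bruhat hm g
  have hrev : ∀ k l : Fin (m + 1), k < l → σ l < σ k := by
    intro k l hkl
    by_contra hnot
    have hlt : σ k < σ l := lt_of_le_of_ne (not_lt.1 hnot)
      (fun e => (ne_of_lt hkl) (σ.injective e))
    have hu := conj_mem_unip' hb' (transvection_mem_unip hkl (1 : F))
    have e : b * w * b' * (b'⁻¹ * transvection (ne_of_lt hkl) (1 : F) * b') * (b * w * b')⁻¹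
        = b * (w * transvection (ne_of_lt hkl) (1 : F) * w⁻¹) * b⁻¹ := by group
    have h1 := h _ hu
    rw [e, mono_conj_transvection hσ (ne_of_lt hkl)] at h1
    have h2 := h1 (conj_mem_unip hb (transvection_mem_unip hlt _))
    have h3 : transvection (ne_of_lt hkl) (1 : F) = 1 := by
      have : transvection (ne_of_lt hkl) (1 : F)
          = b' * (b'⁻¹ * transvection (ne_of_lt hkl) (1 : F) * b') * b'⁻¹ := by group
      rw [this, h2]
      group
    exact transvection_ne_one (ne_of_lt hkl) one_ne_zero h3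
  refine ⟨b, hb, fun u hu => ?_⟩
  have e : b⁻¹ * (b * w * b' * u * (b * w * b')⁻¹) * b = w * (b' * u * b'⁻¹) * w⁻¹ := by group
  rw [e]
  exact mono_conj_unip_transpose hσ hrev (conj_mem_unip hb' hu)

end

end Cfsg.Agent.Lib.Helper5.SLnBN
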