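import Mathlib
import Cfsg.Agent.Lib.Helper1.SLCard
import Cfsg.Agent.Lib.Helper1.GLSylow
import Cfsg.Agent.Lib.Helper5.SLnUni1

set_option autoImplicit false

/-!
The order of the unitriangular subgroup; it maps onto a Sylow subgroup of `PSL_n(F)`.
-/

namespace Cfsg.Agent.Lib.Helper5.SLnBN

open Matrix Matrix.SpecialLinearGroup Cfsg.Agent.Lib.Helper5.SLnAut

theorem card_pairs (n : ℕ) : Fintype.card {p : Fin n × Fin n // p.1 < p.2} = n * (n - 1) / 2 := by
  rw [Fintype.card_subtype]
  have h1 : (Finset.univ.filter (fun p : Fin n × Fin n => p.1 < p.2)).card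
      = ∑ i : Fin n, (n - 1 - i.val) := by
    rw [Finset.card_filter, ← Finset.univ_product_univ, Finset.sum_product]
    apply Finset.sum_congr rfl
    intro i _
    rw [← Finset.card_filter]
    have : Finset.univ.filter (fun j : Fin n => i < j) = Finset.Ioi i := by
      ext j
      simp
    rw [this, Fin.card_Ioi]
  rw [h1, Fin.sum_univ_eq_sum_range (fun i => n - 1 - i) n, Finset.sum_range_reflect (fun i => i) n,
    Finset.sum_range_id]

section
variable {n : ℕ} {F : Type*} [Field F]

/-- The unitriangular matrix with prescribed entries above the diagonal. -/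
def unipMat (f : {p : Fin n × Fin n // p.1 < p.2} → F) : Matrix (Fin n) (Fin n) F :=
  Matrix.of fun i j => if i = j then 1 else if h : i < j then f ⟨(i, j), h⟩ else 0

theorem unipMat_apply (f : {p : Fin n × Fin n // p.1 < p.2} → F) (i j : Fin n) :
    unipMat f i j = if i = j then 1 else if h : i < j then f ⟨(i, j), h⟩ else 0 := rfl

theorem unipMat_lower (f : {p : Fin n × Fin n // p.1 < p.2} → F) (i j : Fin n) (h : j < i) :
    unipMat f i j = 0 := by
  rw [unipMat_apply, if_neg (ne_of_gt h), dif_neg (not_lt.2 h.le)]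

theorem det_unipMat (f : {p : Fin n × Fin n // p.1 < p.2} → F) : (unipMat f).det = 1 := by
  have h1 : (unipMat f).IsUpperTriangular := fun i j hij => unipMat_lower f i j hij
  rw [Matrix.det_of_isUpperTriangular h1]
  apply Finset.prod_eq_one
  intro i _
  rw [unipMat_apply, if_pos rfl]

theorem unipMat_entries {g : SpecialLinearGroup (Fin n) F} (hg : g ∈ unip n F) :
    unipMat (fun p : {p : Fin n × Fin n // p.1 < p.2} =>
      (g : Matrix (Fin n) (Fin n) F) p.1.1 p.1.2) = (g : Matrix (Fin n) (Fin n) F) := by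
  ext i j
  rw [unipMat_apply]
  by_cases hij : i = j
  · rw [if_pos hij, ← hij, hg.2]
  · rw [if_neg hij]
    by_cases hlt : i < j
    · rw [dif_pos hlt]
    · rw [dif_neg hlt]
      exact (hg.1 i j (lt_of_le_of_ne (not_lt.1 hlt) (Ne.symm hij))).symm

/-- The unitriangular subgroup is in bijection with the families of entries above the diagonal. -/
def unipEquiv : unip n F ≃ ({p : Fin n × Fin n // p.1 < p.2} → F) where
  toFun g := fun p => ((g : SpecialLinearGroup (Fin n) F) : Matrix (Fin n) (Fin n) F) p.1.1 p.1.2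
  invFun f := ⟨(⟨unipMat f, det_unipMat f⟩ : SpecialLinearGroup (Fin n) F),
    ⟨fun i j hij => unipMat_lower f i j hij, fun i => by
      change unipMat f i i = 1
      rw [unipMat_apply, if_pos rfl]⟩⟩
  left_inv := by
    rintro ⟨g, hg⟩
    apply Subtype.ext
    apply Subtype.ext
    exact unipMat_entries hg
  right_inv := by
    intro f
    funext p
    change unipMat f p.1.1 p.1.2 = _
    rw [unipMat_apply, if_neg (ne_of_lt p.2), dif_pos p.2]

end

section
variable {n : ℕ} {F : Type*} [Field F] [Fintype F]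

theorem card_unip : Nat.card (unip n F) = Fintype.card F ^ (n * (n - 1) / 2) := by
  rw [Nat.card_congr (unipEquiv (n := n) (F := F)), Nat.card_fun, Nat.card_eq_fintype_card,
    Nat.card_eq_fintype_card, card_pairs]

/-- The image of the unitriangular subgroup in `PSL_n(F)`. -/
def unipBar (n : ℕ) (F : Type*) [Field F] : Subgroup (ProjectiveSpecialLinearGroup (Fin n) F) :=
  (unip n F).map piN

theorem card_unipBar : Nat.card (unipBar n F) = Fintype.card F ^ (n * (n - 1) / 2) := by
  rw [← card_unip]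
  unfold unipBar
  symm
  apply Nat.card_congr
  refine Equiv.ofBijective (fun u => ⟨piN (u : SpecialLinearGroup (Fin n) F),
    Subgroup.mem_map_of_mem _ u.2⟩) ⟨?_, ?_⟩
  · intro u u' h
    have h1 : piN (u : SpecialLinearGroup (Fin n) F) = piN (u' : SpecialLinearGroup (Fin n) F) :=
      congrArg Subtype.val h
    rw [piN_eq_iff] at h1
    have h2 := eq_one_of_mem_unip_of_mem_center
      ((unip n F).mul_mem ((unip n F).inv_mem u.2) u'.2) h1
    apply Subtype.ext
    exact inv_mul_eq_one.1 h2
  · rintro ⟨_, u, hu, rfl⟩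
    exact ⟨⟨u, hu⟩, rfl⟩

theorem isPGroup_unipBar {p f : ℕ} [Fact p.Prime] (hF : Fintype.card F = p ^ f) :
    IsPGroup p (unipBar n F) :=
  IsPGroup.of_card (n := f * (n * (n - 1) / 2)) (by rw [card_unipBar, hF, pow_mul])

theorem not_dvd_index_unipBar {p f : ℕ} [Fact p.Prime] (hf : 1 ≤ f)
    (hF : Fintype.card F = p ^ f) (hn : 1 ≤ n) : ¬ p ∣ (unipBar n F).index := by
  intro hdvd
  have hp : p.Prime := Fact.out
  have h1 := (unipBar n F).card_mul_index
  rw [card_unipBar] at h1
  have h2 := Cfsg.Agent.Lib.Helper1.card_PSL_field (F := F) n hn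
  rw [Cfsg.Agent.Lib.Helper1.prod_GL_factor, ← h1] at h2
  have hq : 0 < Fintype.card F ^ (n * (n - 1) / 2) := pow_pos Fintype.card_pos _
  have h3 : Nat.gcd n (Fintype.card F - 1) * ((Fintype.card F - 1) * (unipBar n F).index)
      = ∏ i : Fin n, (Fintype.card F ^ (n - (i : ℕ)) - 1) := by
    apply Nat.eq_of_mul_eq_mul_left hq
    rw [← h2]
    ring
  have h4 : p ∣ ∏ i : Fin n, (Fintype.card F ^ (n - (i : ℕ)) - 1) := by
    rw [← h3]
    exact dvd_mul_of_dvd_right (dvd_mul_of_dvd_right hdvd _) _
  have h5 := Cfsg.Agent.Lib.Helper1.coprime_prod_GL p f n hp (by omega)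
  rw [← hF] at h5
  exact hp.one_lt.ne' (Nat.eq_one_of_dvd_coprimes h5 (dvd_refl p) h4)

instance finite_PSL : Finite (ProjectiveSpecialLinearGroup (Fin n) F) := by
  unfold ProjectiveSpecialLinearGroup
  infer_instance

/-- Every `p`-subgroup of `PSL_n(F)` is contained in a conjugate of the image of the unitriangular
subgroup. -/
theorem exists_conj_of_isPGroup {p f : ℕ} [Fact p.Prime] (hf : 1 ≤ f)
    (hF : Fintype.card F = p ^ f) (hn : 1 ≤ n)
    (K : Subgroup (ProjectiveSpecialLinearGroup (Fin n) F)) (hK : IsPGroup p K) :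
    ∃ g : ProjectiveSpecialLinearGroup (Fin n) F, ∀ k ∈ K, g⁻¹ * k * g ∈ unipBar n F := by
  obtain ⟨Q, hQ⟩ := hK.exists_le_sylow
  let SU : Sylow p (ProjectiveSpecialLinearGroup (Fin n) F) :=
    (isPGroup_unipBar hF).toSylow (not_dvd_index_unipBar hf hF hn)
  obtain ⟨g, hg⟩ := MulAction.exists_smul_eq (ProjectiveSpecialLinearGroup (Fin n) F) SU Q
  refine ⟨g, fun k hk => ?_⟩
  have h1 : k ∈ (Q : Subgroup (ProjectiveSpecialLinearGroup (Fin n) F)) := hQ hk
  rw [← hg, Sylow.coe_subgroup_smul, Subgroup.mem_pointwise_smul_iff_inv_smul_mem] at h1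
  have := h1
  rw [MulAut.smul_def, ← map_inv, MulAut.conj_apply, inv_inv] at this
  exact this

end

end Cfsg.Agent.Lib.Helper5.SLnBN
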