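import Mathlib
import Cfsg.Agent.Lib.Helper5.BNMap
import Cfsg.Agent.Lib.Helper5.SLnOpp
import Cfsg.Agent.Lib.Helper5.SLnUni2

set_option autoImplicit false

/-!
The images in `PSL_n(F)` of the Borel and unitriangular subgroups: normalizer and opposite
conjugates.
-/

namespace Cfsg.Agent.Lib.Helper5.SLnBN

open Matrix Matrix.SpecialLinearGroup Cfsg.Agent.Lib.Helper5.SLnAut

section
variable {n : ℕ} {F : Type*} [Field F]

/-- The image of the Borel subgroup in `PSL_n(F)`. -/
def borelBar (n : ℕ) (F : Type*) [Field F] : Subgroup (ProjectiveSpecialLinearGroup (Fin n) F) :=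
  (borel n F).map piN

/-- The image of the lower unitriangular subgroup in `PSL_n(F)`. -/
def unipBarNeg (n : ℕ) (F : Type*) [Field F] :
    Subgroup (ProjectiveSpecialLinearGroup (Fin n) F) :=
  (unipBar n F).map (tauBar : ProjectiveSpecialLinearGroup (Fin n) F ≃* _).toMonoidHom

theorem ker_piN_le_borel : (piN (ι := Fin n) (F := F)).ker ≤ borel n F := by
  rw [ker_piN]
  exact center_le_borel

theorem piN_mem_borelBar {g : SpecialLinearGroup (Fin n) F} :
    piN g ∈ borelBar n F ↔ g ∈ borel n F :=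
  Cfsg.Agent.Lib.Helper5.BNMap.map_mem_iff piN ker_piN_le_borel

theorem piN_mem_unipBar {g : SpecialLinearGroup (Fin n) F} (hg : g ∈ unip n F) :
    piN g ∈ unipBar n F := Subgroup.mem_map_of_mem _ hg

theorem exists_of_piN_mem_unipBar {g : SpecialLinearGroup (Fin n) F} (hg : piN g ∈ unipBar n F) :
    ∃ u ∈ unip n F, ∃ z ∈ Subgroup.center (SpecialLinearGroup (Fin n) F), g = u * z := by
  obtain ⟨u, hu, h⟩ := hg
  rw [piN_eq_iff] at h
  exact ⟨u, hu, _, h, by group⟩

theorem mem_borel_of_piN_mem_unipBar {g : SpecialLinearGroup (Fin n) F}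
    (hg : piN g ∈ unipBar n F) : g ∈ borel n F := by
  obtain ⟨u, hu, z, hz, rfl⟩ := exists_of_piN_mem_unipBar hg
  exact (borel n F).mul_mem hu.1 (center_le_borel hz)

theorem unipBar_le_borelBar : unipBar n F ≤ borelBar n F :=
  Subgroup.map_mono unip_le_borel

theorem tauAut_mem_unip_iff {v : SpecialLinearGroup (Fin n) F} :
    tauAut v ∈ unip n F ↔ v.transpose ∈ unip n F := by
  rw [tauAut_apply, transpose_inv]
  exact (unip n F).inv_mem_iff

theorem piN_mem_unipBarNeg {v : SpecialLinearGroup (Fin n) F} (hv : v.transpose ∈ unip n F) :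
    piN v ∈ unipBarNeg n F := by
  refine ⟨piN (tauAut v), piN_mem_unipBar (tauAut_mem_unip_iff.2 hv), ?_⟩
  change tauBar (piN (tauAut v)) = piN v
  rw [tauBar_pi, tauAut_tauAut]

theorem eq_one_of_mem_borel_of_transpose_mem_unip {v : SpecialLinearGroup (Fin n) F}
    (hv : v ∈ borel n F) (hv' : v.transpose ∈ unip n F) : v = 1 := by
  apply Subtype.ext
  rw [Matrix.SpecialLinearGroup.coe_one]
  ext i j
  rcases lt_trichotomy i j with h | h | h
  · have := hv'.1 j i h
    rw [coe_transpose, Matrix.transpose_apply] at this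
    rw [this, Matrix.one_apply_ne (ne_of_lt h)]
  · subst h
    have := hv'.2 i
    rw [coe_transpose, Matrix.transpose_apply] at this
    rw [this, Matrix.one_apply_eq]
  · rw [hv i j h, Matrix.one_apply_ne (ne_of_gt h)]

theorem unipBar_inf_unipBarNeg : unipBar n F ⊓ unipBarNeg n F = ⊥ := by
  rw [eq_bot_iff]
  rintro q ⟨hq, ⟨_, ⟨u', hu', rfl⟩, h⟩⟩
  change tauBar (piN u') = q at h
  rw [tauBar_pi] at h
  rw [← h] at hq ⊢
  have h1 := mem_borel_of_piN_mem_unipBar hq
  have h2 : (tauAut u').transpose ∈ unip n F := by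
    rw [← tauAut_mem_unip_iff, tauAut_tauAut]
    exact hu'
  rw [eq_one_of_mem_borel_of_transpose_mem_unip h1 h2, map_one]
  exact Subgroup.mem_bot.2 rfl

theorem borelBar_le_normalizer : borelBar n F ≤ Subgroup.normalizer (unipBar n F : Set _) := by
  rintro _ ⟨b, hb, rfl⟩
  rw [Subgroup.mem_normalizer_iff]
  intro q
  constructor
  · rintro ⟨u, hu, rfl⟩
    rw [← map_inv, ← map_mul, ← map_mul]
    exact piN_mem_unipBar (conj_mem_unip hb hu)
  · intro h
    obtain ⟨g, rfl⟩ := piN_surjective q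
    rw [← map_inv, ← map_mul, ← map_mul] at h
    obtain ⟨u, hu, z, hz, e⟩ := exists_of_piN_mem_unipBar h
    have e' : g = (b⁻¹ * u * b) * z := by
      have : g = b⁻¹ * (b * g * b⁻¹) * b := by group
      rw [this, e]
      have hz' := Subgroup.mem_center_iff.1 hz b
      calc b⁻¹ * (u * z) * b = b⁻¹ * u * (z * b) := by group
        _ = b⁻¹ * u * (b * z) := by rw [hz']
        _ = b⁻¹ * u * b * z := by group
    rw [e', map_mul, (piN_eq_one_iff z).2 hz, mul_one]
    exact piN_mem_unipBar (conj_mem_unip' hb hu)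

end

section
variable {m : ℕ} {F : Type*} [Field F]

theorem normalizer_unipBar (hm : 1 ≤ m) :
    Subgroup.normalizer (unipBar (m + 1) F : Set _) = borelBar (m + 1) F := by
  apply le_antisymm _ borelBar_le_normalizer
  intro q hq
  obtain ⟨g, rfl⟩ := piN_surjective q
  rw [piN_mem_borelBar]
  apply mem_borel_of_conj_unip hm
  intro u hu
  have h1 := (Subgroup.mem_normalizer_iff.1 hq (piN u)).1 (piN_mem_unipBar hu)
  rw [← map_inv, ← map_mul, ← map_mul] at h1
  exact mem_borel_of_piN_mem_unipBar h1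

/-- A conjugate of the image of the unitriangular subgroup meeting it trivially is conjugate to
the image of the lower unitriangular subgroup under the image of the Borel subgroup. -/
theorem exists_borelBar_conj (hm : 1 ≤ m) (q : ProjectiveSpecialLinearGroup (Fin (m + 1)) F)
    (h : ∀ x ∈ unipBar (m + 1) F, q * x * q⁻¹ ∈ unipBar (m + 1) F → x = 1) :
    ∃ c ∈ borelBar (m + 1) F, ∀ x ∈ unipBar (m + 1) F,
      c⁻¹ * (q * x * q⁻¹) * c ∈ unipBarNeg (m + 1) F := by
  obtain ⟨g, rfl⟩ := piN_surjective q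
  have h' : ∀ u ∈ unip (m + 1) F, g * u * g⁻¹ ∈ unip (m + 1) F → u = 1 := by
    intro u hu hgu
    have h1 := h (piN u) (piN_mem_unipBar hu) (by
      rw [← map_inv, ← map_mul, ← map_mul]
      exact piN_mem_unipBar hgu)
    exact eq_one_of_mem_unip_of_mem_center hu ((piN_eq_one_iff u).1 h1)
  obtain ⟨b, hb, hbu⟩ := exists_borel_conj_transpose hm h'
  refine ⟨piN b, piN_mem_borelBar.2 hb, ?_⟩
  rintro _ ⟨u, hu, rfl⟩
  rw [← map_inv, ← map_inv, ← map_mul, ← map_mul, ← map_mul, ← map_mul]
  exact piN_mem_unipBarNeg (hbu u hu)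

end

end Cfsg.Agent.Lib.Helper5.SLnBN
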