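import Mathlib
import Cfsg.Agent.Lib.Helper5.SLnNorm

set_option autoImplicit false

/-!
Minimal parabolic subgroups of `SL_{m+1}(F)` and the negative simple root subgroups.
-/

namespace Cfsg.Agent.Lib.Helper5.SLnBN

open Matrix Matrix.SpecialLinearGroup Cfsg.Agent.Lib.Helper5.SLnAut
  Cfsg.Agent.Lib.Helper5.PSL2Aut

section
variable {n : ℕ} {F : Type*} [Field F]

/-- The subgroup of block triangular matrices for a given block function. -/
def btSub (F : Type*) [Field F] (b : Fin n → ℕ) : Subgroup (SpecialLinearGroup (Fin n) F) where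
  carrier := {g | Matrix.BlockTriangular (g : Matrix (Fin n) (Fin n) F) b}
  mul_mem' := by
    intro g h hg hh
    change Matrix.BlockTriangular ((g * h : SpecialLinearGroup (Fin n) F) :
      Matrix (Fin n) (Fin n) F) b
    rw [Matrix.SpecialLinearGroup.coe_mul]
    exact Matrix.BlockTriangular.mul hg hh
  one_mem' := by
    change Matrix.BlockTriangular ((1 : SpecialLinearGroup (Fin n) F) :
      Matrix (Fin n) (Fin n) F) b
    rw [Matrix.SpecialLinearGroup.coe_one]
    exact Matrix.blockTriangular_one
  inv_mem' := by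
    intro g hg
    have : Invertible (g : Matrix (Fin n) (Fin n) F) :=
      invertibleOfRightInverse _ ((g⁻¹ : SpecialLinearGroup (Fin n) F) :
        Matrix (Fin n) (Fin n) F) (by
        rw [← Matrix.SpecialLinearGroup.coe_mul, mul_inv_cancel, Matrix.SpecialLinearGroup.coe_one])
    change Matrix.BlockTriangular ((g⁻¹ : SpecialLinearGroup (Fin n) F) :
      Matrix (Fin n) (Fin n) F) b
    rw [coe_inv_eq_inv]
    exact Matrix.blockTriangular_inv_of_blockTriangular hg

theorem mem_btSub (b : Fin n → ℕ) (g : SpecialLinearGroup (Fin n) F) :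
    g ∈ btSub F b ↔ ∀ k l : Fin n, b l < b k → (g : Matrix (Fin n) (Fin n) F) k l = 0 :=
  ⟨fun h k l hkl => h hkl, fun h k l hkl => h k l hkl⟩

end

section
variable {m : ℕ} {F : Type*} [Field F]

/-- The block function of the `i`-th minimal parabolic subgroup. -/
def blk (i : Fin m) (k : Fin (m + 1)) : ℕ := if k.val ≤ i.val then k.val else k.val - 1

theorem lt_of_blk_lt (i : Fin m) (k l : Fin (m + 1)) (h : blk i l < blk i k) : l < k := by
  unfold blk at h
  rw [Fin.lt_def]
  split_ifs at h <;> omega

theorem blk_lt_of_lt (i : Fin m) (k l : Fin (m + 1)) (h : l < k)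
    (hne : ¬ (k = i.succ ∧ l = i.castSucc)) : blk i l < blk i k := by
  unfold blk
  rw [Fin.lt_def] at h
  have hne' : ¬ (k.val = i.val + 1 ∧ l.val = i.val) := by
    rintro ⟨h1, h2⟩
    exact hne ⟨Fin.ext h1, Fin.ext h2⟩
  split_ifs <;> omega

theorem borel_le_btSub (i : Fin m) : borel (m + 1) F ≤ btSub F (blk i) := by
  intro g hg
  rw [mem_btSub]
  intro k l hkl
  exact hg k l (lt_of_blk_lt i k l hkl)

theorem sRef_mem_btSub (i : Fin m) : (sRef i : SpecialLinearGroup (Fin (m + 1)) F)
    ∈ btSub F (blk i) := by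
  rw [mem_btSub]
  intro k l hkl
  have hlt := lt_of_blk_lt i k l hkl
  unfold sRef wm
  rw [blockEmb_coe, mk2_coe]
  by_cases hka : k = i.castSucc
  · by_cases hla : l = i.castSucc
    · rw [hka, hla] at hlt
      exact absurd hlt (lt_irrefl _)
    · by_cases hlb : l = i.succ
      · rw [hka, hlb] at hlt
        exact absurd hlt (lt_asymm Fin.castSucc_lt_succ)
      · rw [blockMat_apply_other_right _ _ _ _ k l hla hlb, if_neg (ne_of_gt hlt)]
  · by_cases hkb : k = i.succ
    · by_cases hla : l = i.castSucc
      · exfalso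
        rw [hkb, hla] at hkl
        unfold blk at hkl
        simp at hkl
      · by_cases hlb : l = i.succ
        · rw [hkb, hlb] at hlt
          exact absurd hlt (lt_irrefl _)
        · rw [blockMat_apply_other_right _ _ _ _ k l hla hlb, if_neg (ne_of_gt hlt)]
    · rw [blockMat_apply_other_left _ _ _ _ k l hka hkb, if_neg (ne_of_gt hlt)]

theorem parabolic_le_btSub (hm : 1 ≤ m) (i : Fin m) :
    (bnPair m F hm).parabolic {sRef i} ≤ btSub F (blk i) := by
  unfold Cfsg.BNPair.parabolic
  apply sup_le
  · exact borel_le_btSub i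
  · rw [Subgroup.closure_le]
    intro s hs
    rw [Set.mem_singleton_iff] at hs
    rw [hs]
    exact sRef_mem_btSub i

/-- A lower unitriangular element of the block triangular subgroup is a root element. -/
theorem eq_transvection_of_mem_btSub (i : Fin m) {v : SpecialLinearGroup (Fin (m + 1)) F}
    (hv : v ∈ btSub F (blk i)) (hv' : v.transpose ∈ unip (m + 1) F) :
    v = transvection (castSucc_ne_succ i).symm
      ((v : Matrix (Fin (m + 1)) (Fin (m + 1)) F) i.succ i.castSucc) := by
  apply Subtype.ext
  ext k l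
  rw [transvection_apply]
  rcases lt_trichotomy k l with h | h | h
  · have h1 := hv'.1 l k h
    rw [coe_transpose, Matrix.transpose_apply] at h1
    rw [h1, if_neg (ne_of_lt h), if_neg, add_zero]
    rintro ⟨rfl, rfl⟩
    exact lt_asymm h Fin.castSucc_lt_succ
  · subst h
    have h1 := hv'.2 k
    rw [coe_transpose, Matrix.transpose_apply] at h1
    rw [h1, if_pos rfl, if_neg, add_zero]
    rintro ⟨h2, h3⟩
    exact (castSucc_ne_succ i) (h3.trans h2.symm)
  · by_cases hkl : k = i.succ ∧ l = i.castSucc
    · obtain ⟨rfl, rfl⟩ := hkl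
      rw [if_neg (castSucc_ne_succ i).symm, if_pos ⟨rfl, rfl⟩, zero_add]
    · rw [(mem_btSub _ _).1 hv k l (blk_lt_of_lt i k l h hkl), if_neg (ne_of_gt h), if_neg,
        add_zero]
      rintro ⟨rfl, rfl⟩
      exact hkl ⟨rfl, rfl⟩

theorem transvection_transpose_mem_unip {k l : Fin (m + 1)} (hlk : l < k) (t : F) :
    (transvection (ne_of_gt hlk) t : SpecialLinearGroup (Fin (m + 1)) F).transpose
      ∈ unip (m + 1) F := by
  have : (transvection (ne_of_gt hlk) t : SpecialLinearGroup (Fin (m + 1)) F).transpose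
      = transvection (ne_of_lt hlk) t := by
    apply Subtype.ext
    rw [coe_transpose, transvection_coe, transvection_coe, Matrix.transpose_add,
      Matrix.transpose_one, Matrix.transpose_single]
  rw [this]
  exact transvection_mem_unip hlk t

theorem sRef_conj_transvection (i : Fin m) (t : F) :
    sRef i * transvection (castSucc_ne_succ i) t * (sRef i)⁻¹
      = (transvection (castSucc_ne_succ i).symm (-t) : SpecialLinearGroup (Fin (m + 1)) F) := by
  unfold sRef
  have e0 : (transvection (castSucc_ne_succ i) t : SpecialLinearGroup (Fin (m + 1)) F)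
      = blockEmb i.castSucc i.succ (castSucc_ne_succ i) (xm t) :=
    (blockEmb_xm _ _ (castSucc_ne_succ i) t).symm
  rw [e0, ← map_inv, ← map_mul, ← map_mul, wm_one_mul_xm_mul_inv, blockEmb_ym]

theorem neg_transvection_mem_parabolic (hm : 1 ≤ m) (i : Fin m) (t : F) :
    (transvection (castSucc_ne_succ i).symm t : SpecialLinearGroup (Fin (m + 1)) F)
      ∈ (bnPair m F hm).parabolic {sRef i} := by
  have h1 : (sRef i : SpecialLinearGroup (Fin (m + 1)) F) ∈ (bnPair m F hm).parabolic {sRef i} :=
    (le_sup_right : Subgroup.closure {sRef i} ≤ _)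
      (Subgroup.subset_closure (Set.mem_singleton _))
  have h2 : (transvection (castSucc_ne_succ i) (-t) : SpecialLinearGroup (Fin (m + 1)) F)
      ∈ (bnPair m F hm).parabolic {sRef i} :=
    (le_sup_left : (bnPair m F hm).B ≤ _) (transvection_mem_borel Fin.castSucc_lt_succ _)
  have := Subgroup.mul_mem _ (Subgroup.mul_mem _ h1 h2) (Subgroup.inv_mem _ h1)
  rw [sRef_conj_transvection, neg_neg] at this
  exact this

end

end Cfsg.Agent.Lib.Helper5.SLnBN
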