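import Mathlib
import Cfsg.Agent.Lib.Helper1.BNPar
import Cfsg.Agent.Lib.Helper5.SLnPar1

set_option autoImplicit false

/-!
The `(B, N)`-pair of `PSL_{m+1}(F)`, its minimal parabolic subgroups and the negative simple root
subgroups.
-/

namespace Cfsg.Agent.Lib.Helper5.SLnBN

open Matrix Matrix.SpecialLinearGroup Cfsg.Agent.Lib.Helper5.SLnAut
  Cfsg.Agent.Lib.Helper5.PSL2Aut

section
variable {m : ℕ} {F : Type*} [Field F]

/-- The `(B, N)`-pair of `PSL_{m+1}(F)`. -/
def bnBar (m : ℕ) (F : Type*) [Field F] (hm : 1 ≤ m) :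
    Cfsg.BNPair (ProjectiveSpecialLinearGroup (Fin (m + 1)) F) :=
  Cfsg.Agent.Lib.Helper5.BNMap.mapBN (bnPair m F hm) piN piN_surjective ker_piN_le_borel

theorem bnBar_B (hm : 1 ≤ m) : (bnBar m F hm).B = borelBar (m + 1) F := rfl

/-- The images of the simple reflections. -/
def sBar (i : Fin m) : ProjectiveSpecialLinearGroup (Fin (m + 1)) F := piN (sRef i)

theorem sBar_mem_S (hm : 1 ≤ m) (i : Fin m) : (sBar i : _) ∈ (bnBar m F hm).S :=
  ⟨sRef i, ⟨i, rfl⟩, rfl⟩

theorem exists_of_mem_S (hm : 1 ≤ m) {s : ProjectiveSpecialLinearGroup (Fin (m + 1)) F}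
    (hs : s ∈ (bnBar m F hm).S) : ∃ i : Fin m, s = sBar i := by
  obtain ⟨_, ⟨i, rfl⟩, rfl⟩ := hs
  exact ⟨i, rfl⟩

theorem sBar_injective : Function.Injective (sBar (m := m) (F := F)) := by
  intro i j h
  unfold sBar at h
  rw [piN_eq_iff] at h
  exact sRef_inj i j (center_le_borel h)

theorem sBar_not_mem_borelBar (i : Fin m) :
    (sBar i : ProjectiveSpecialLinearGroup (Fin (m + 1)) F) ∉ borelBar (m + 1) F := by
  intro h
  unfold sBar at h
  rw [piN_mem_borelBar] at h
  have h1 := h i.succ i.castSucc Fin.castSucc_lt_succ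
  unfold sRef wm at h1
  rw [blockEmb_coe, mk2_coe, blockMat_apply_ba] at h1
  simp at h1

/-- The minimal parabolic subgroups of `PSL_{m+1}(F)`. -/
def Pbar (hm : 1 ≤ m) (i : Fin m) : Subgroup (ProjectiveSpecialLinearGroup (Fin (m + 1)) F) :=
  (bnBar m F hm).parabolic {sBar i}

theorem Pbar_eq_map (hm : 1 ≤ m) (i : Fin m) :
    Pbar (F := F) hm i = ((bnPair m F hm).parabolic {sRef i}).map piN := by
  unfold Pbar Cfsg.BNPair.parabolic
  rw [Subgroup.map_sup, MonoidHom.map_closure, Set.image_singleton]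
  rfl

theorem borelBar_le_Pbar (hm : 1 ≤ m) (i : Fin m) : borelBar (m + 1) F ≤ Pbar hm i :=
  (le_sup_left : (bnBar m F hm).B ≤ _)

theorem sBar_mem_Pbar (hm : 1 ≤ m) (i : Fin m) : (sBar i : _) ∈ Pbar (F := F) hm i :=
  (le_sup_right : Subgroup.closure {sBar i} ≤ _) (Subgroup.subset_closure (Set.mem_singleton _))

theorem Pbar_ne_borelBar (hm : 1 ≤ m) (i : Fin m) : Pbar (F := F) hm i ≠ borelBar (m + 1) F := by
  intro h
  apply sBar_not_mem_borelBar (F := F) i
  rw [← h]
  exact sBar_mem_Pbar hm i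

theorem Pbar_injective (hm : 1 ≤ m) : Function.Injective (Pbar (F := F) hm) := by
  intro i j h
  have h1 : (sBar i : ProjectiveSpecialLinearGroup (Fin (m + 1)) F) ∈ ({sBar j} : Set _) := by
    apply Cfsg.Agent.Lib.Helper1.mem_of_mem_parabolic (bnBar m F hm) _ (sBar_mem_S hm i)
    · change sBar i ∈ Pbar hm j
      rw [← h]
      exact sBar_mem_Pbar hm i
    · intro s hs
      rw [Set.mem_singleton_iff] at hs
      rw [hs]
      exact sBar_mem_S hm j
  rw [Set.mem_singleton_iff] at h1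
  exact sBar_injective h1

/-- There is nothing strictly between the Borel subgroup and a minimal parabolic subgroup. -/
theorem eq_or_eq_of_le_Pbar (hm : 1 ≤ m) (i : Fin m)
    (K : Subgroup (ProjectiveSpecialLinearGroup (Fin (m + 1)) F))
    (hBK : borelBar (m + 1) F ≤ K) (hKP : K ≤ Pbar hm i) :
    K = borelBar (m + 1) F ∨ K = Pbar hm i := by
  have hK := Cfsg.Agent.Lib.Helper1.eq_parabolic_of_le (bnBar m F hm) K hBK
  have hJ : {s | s ∈ (bnBar m F hm).S ∧ s ∈ K} ⊆ (bnBar m F hm).S := fun _ h => h.1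
  have hi : ({sBar i} : Set (ProjectiveSpecialLinearGroup (Fin (m + 1)) F)) ⊆ (bnBar m F hm).S := by
    intro s hs
    rw [Set.mem_singleton_iff] at hs
    rw [hs]
    exact sBar_mem_S hm i
  have hsub : {s | s ∈ (bnBar m F hm).S ∧ s ∈ K} ⊆ {sBar i} := by
    rw [← Cfsg.Agent.Lib.Helper1.parabolic_le_iff (bnBar m F hm) hJ hi, ← hK]
    exact hKP
  by_cases hmem : (sBar i : ProjectiveSpecialLinearGroup (Fin (m + 1)) F) ∈ K
  · right
    apply le_antisymm hKP
    unfold Pbar Cfsg.BNPair.parabolic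
    apply sup_le hBK
    rw [Subgroup.closure_le]
    intro s hs
    rw [Set.mem_singleton_iff] at hs
    rw [hs]
    exact hmem
  · left
    have hempty : {s | s ∈ (bnBar m F hm).S ∧ s ∈ K} = ∅ := by
      apply Set.eq_empty_of_forall_notMem
      intro s hs
      have := hsub hs
      rw [Set.mem_singleton_iff] at this
      rw [this] at hs
      exact hmem hs.2
    rw [hempty] at hK
    rw [hK]
    unfold Cfsg.BNPair.parabolic
    rw [Subgroup.closure_empty, sup_bot_eq]
    rfl

/-- A subgroup minimal among those strictly containing the Borel subgroup is a minimal parabolic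
subgroup. -/
theorem exists_eq_Pbar (hm : 1 ≤ m) (M : Subgroup (ProjectiveSpecialLinearGroup (Fin (m + 1)) F))
    (hBM : borelBar (m + 1) F ≤ M) (hne : M ≠ borelBar (m + 1) F)
    (hmin : ∀ K : Subgroup (ProjectiveSpecialLinearGroup (Fin (m + 1)) F),
      borelBar (m + 1) F ≤ K → K ≤ M → K = borelBar (m + 1) F ∨ K = M) :
    ∃ i : Fin m, M = Pbar hm i := by
  have hM := Cfsg.Agent.Lib.Helper1.eq_parabolic_of_le (bnBar m F hm) M hBM
  have hnonempty : {s | s ∈ (bnBar m F hm).S ∧ s ∈ M}.Nonempty := by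
    by_contra hempty
    rw [Set.not_nonempty_iff_eq_empty] at hempty
    rw [hempty] at hM
    apply hne
    rw [hM]
    unfold Cfsg.BNPair.parabolic
    rw [Subgroup.closure_empty, sup_bot_eq]
    rfl
  obtain ⟨s, hs, hsM⟩ := hnonempty
  obtain ⟨i, rfl⟩ := exists_of_mem_S hm hs
  refine ⟨i, ?_⟩
  have hle : Pbar hm i ≤ M := by
    unfold Pbar Cfsg.BNPair.parabolic
    apply sup_le hBM
    rw [Subgroup.closure_le]
    intro s hs
    rw [Set.mem_singleton_iff] at hs
    rw [hs]
    exact hsM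
  rcases hmin _ (borelBar_le_Pbar hm i) hle with h | h
  · exact absurd h (Pbar_ne_borelBar hm i)
  · exact h.symm

/-- The negative simple root elements of `PSL_{m+1}(F)`. -/
def yBar (i : Fin m) (t : F) : ProjectiveSpecialLinearGroup (Fin (m + 1)) F :=
  piN (transvection (castSucc_ne_succ i).symm t)

/-- The positive simple root elements of `PSL_{m+1}(F)`. -/
def xBar (i : Fin m) (t : F) : ProjectiveSpecialLinearGroup (Fin (m + 1)) F :=
  piN (transvection (castSucc_ne_succ i) t)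

theorem yBar_mem_unipBarNeg (i : Fin m) (t : F) : yBar i t ∈ unipBarNeg (m + 1) F :=
  piN_mem_unipBarNeg (transvection_transpose_mem_unip Fin.castSucc_lt_succ t)

theorem yBar_mem_Pbar (hm : 1 ≤ m) (i : Fin m) (t : F) : yBar i t ∈ Pbar hm i := by
  rw [Pbar_eq_map]
  exact Subgroup.mem_map_of_mem _ (neg_transvection_mem_parabolic hm i t)

theorem xBar_mem_unipBar (i : Fin m) (t : F) : xBar i t ∈ unipBar (m + 1) F :=
  piN_mem_unipBar (transvection_mem_unip Fin.castSucc_lt_succ t)

/-- The intersection of a minimal parabolic subgroup with the lower unitriangular subgroup is a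
negative simple root subgroup. -/
theorem exists_eq_yBar (hm : 1 ≤ m) (i : Fin m)
    {q : ProjectiveSpecialLinearGroup (Fin (m + 1)) F} (hq : q ∈ unipBarNeg (m + 1) F)
    (hqP : q ∈ Pbar hm i) : ∃ t : F, q = yBar i t := by
  obtain ⟨_, ⟨u, hu, rfl⟩, rfl⟩ := hq
  change tauBar (piN u) ∈ Pbar hm i at hqP
  change ∃ t : F, tauBar (piN u) = yBar i t
  rw [tauBar_pi] at hqP ⊢
  rw [Pbar_eq_map] at hqP
  have h1 : tauAut u ∈ (bnPair m F hm).parabolic {sRef i} := by
    apply Cfsg.Agent.Lib.Helper5.BNMap.mem_of_map_mem piN _ hqP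
    exact le_trans ker_piN_le_borel (le_sup_left : (bnPair m F hm).B ≤ _)
  have h2 := parabolic_le_btSub hm i h1
  have h3 : (tauAut u).transpose ∈ unip (m + 1) F := by
    rw [← tauAut_mem_unip_iff, tauAut_tauAut]
    exact hu
  refine ⟨((tauAut u : SpecialLinearGroup (Fin (m + 1)) F) :
    Matrix (Fin (m + 1)) (Fin (m + 1)) F) i.succ i.castSucc, ?_⟩
  unfold yBar
  rw [← eq_transvection_of_mem_btSub i h2 h3]

end

end Cfsg.Agent.Lib.Helper5.SLnBN
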