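import Mathlib
import Cfsg.Agent.Lib.Helper5.SLnGen
import Cfsg.Agent.Lib.Helper5.SLnPar2

set_option autoImplicit false

/-!
Relations between root elements of `SL_n(F)` and `PSL_n(F)`; generation by the simple root
subgroups.
-/

namespace Cfsg.Agent.Lib.Helper5.SLnBN

open Matrix Matrix.SpecialLinearGroup Cfsg.Agent.Lib.Helper5.SLnAut
open scoped commutatorElement

section
variable {ι : Type*} [Fintype ι] [DecidableEq ι] {F : Type*} [Field F]

theorem transvection_comm {a b c d : ι} (hab : a ≠ b) (hcd : c ≠ d) (hbc : b ≠ c) (had : a ≠ d)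
    (t s : F) :
    (transvection hab t : SpecialLinearGroup ι F) * transvection hcd s
      = transvection hcd s * transvection hab t := by
  apply Subtype.ext
  simp only [Matrix.SpecialLinearGroup.coe_mul, transvection_coe]
  simp only [mul_add, add_mul, mul_one, one_mul, single_mul_single_of_ne _ _ _ _ hbc,
    single_mul_single_of_ne _ _ _ _ had.symm, add_zero]
  abel

theorem transvection_commutator {a b c : ι} (hab : a ≠ b) (hbc : b ≠ c) (hac : a ≠ c) (t s : F) :
    ⁅(transvection hab t : SpecialLinearGroup ι F), transvection hbc s⁆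
      = transvection hac (t * s) := by
  rw [commutatorElement_def, transvection_inv, transvection_inv]
  apply Subtype.ext
  simp only [Matrix.SpecialLinearGroup.coe_mul, transvection_coe]
  simp only [mul_add, add_mul, mul_one, one_mul, single_mul_single_same,
    single_mul_single_of_ne _ _ _ _ hab.symm,
    single_mul_single_of_ne _ _ _ _ hbc.symm,
    single_mul_single_of_ne _ _ _ _ hac.symm, add_zero]
  ext i j
  simp only [Matrix.add_apply, one_apply, single_apply]
  split_ifs <;> ring

/-- The root elements of `PSL_n(F)`. -/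
def rootBar {a b : ι} (hab : a ≠ b) (t : F) : ProjectiveSpecialLinearGroup ι F :=
  piN (transvection hab t)

theorem rootBar_zero {a b : ι} (hab : a ≠ b) : rootBar hab (0 : F) = 1 := by
  unfold rootBar
  rw [transvection_coeff_zero, map_one]

theorem rootBar_add {a b : ι} (hab : a ≠ b) (t s : F) :
    rootBar hab (t + s) = rootBar hab t * rootBar hab s := by
  unfold rootBar
  rw [transvection_add, map_mul]

theorem rootBar_inv {a b : ι} (hab : a ≠ b) (t : F) : (rootBar hab t)⁻¹ = rootBar hab (-t) := by
  unfold rootBar
  rw [← map_inv, transvection_inv]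

theorem rootBar_injective {a b : ι} (hab : a ≠ b) :
    Function.Injective (rootBar (F := F) hab) := by
  intro t s h
  unfold rootBar at h
  rw [piN_eq_iff, transvection_inv, ← transvection_add, transvection_mem_center_iff] at h
  linear_combination -h

theorem rootBar_eq_one_iff {a b : ι} (hab : a ≠ b) (t : F) : rootBar hab t = 1 ↔ t = 0 := by
  constructor
  · intro h
    rw [← rootBar_zero hab] at h
    exact rootBar_injective hab h
  · rintro rfl
    exact rootBar_zero hab

theorem rootBar_commute {a b c d : ι} (hab : a ≠ b) (hcd : c ≠ d) (hbc : b ≠ c) (had : a ≠ d)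
    (t s : F) : Commute (rootBar hab t) (rootBar hcd s) := by
  unfold rootBar Commute SemiconjBy
  rw [← map_mul, ← map_mul, transvection_comm hab hcd hbc had]

theorem rootBar_commutator {a b c : ι} (hab : a ≠ b) (hbc : b ≠ c) (hac : a ≠ c) (t s : F) :
    ⁅rootBar hab t, rootBar hbc s⁆ = rootBar hac (t * s) := by
  unfold rootBar
  rw [← map_commutatorElement, transvection_commutator hab hbc hac]

theorem mul_eq_zero_of_commute_adj {a b c : ι} (hab : a ≠ b) (hbc : b ≠ c) (hac : a ≠ c) (t s : F)
    (h : Commute (rootBar hab t) (rootBar hbc s)) : t * s = 0 := by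
  have h1 := rootBar_commutator hab hbc hac t s
  rw [commutatorElement_eq_one_iff_commute.2 h] at h1
  exact (rootBar_eq_one_iff hac _).1 h1.symm

theorem mul_eq_zero_of_commute_opp {a b c : ι} (hab : a ≠ b) (hca : c ≠ a) (hcb : c ≠ b) (t s : F)
    (h : Commute (rootBar hab t) (rootBar hab.symm s)) : t * s = 0 := by
  have h1 : Commute (rootBar hab t) (rootBar hca.symm (1 : F)) :=
    rootBar_commute hab hca.symm hab.symm hca.symm t 1
  have h2 := rootBar_commutator hab.symm hca.symm hcb.symm s (1 : F)
  have h3 : Commute (rootBar hab t) ⁅rootBar hab.symm s, rootBar hca.symm (1 : F)⁆ := by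
    rw [commutatorElement_def]
    exact ((h.mul_right h1).mul_right h.inv_right).mul_right h1.inv_right
  rw [h2, mul_one] at h3
  exact mul_eq_zero_of_commute_adj hab hcb.symm hca.symm t s h3

end

section
variable {m : ℕ} {F : Type*} [Field F]

theorem xBar_eq (i : Fin m) (t : F) : xBar i t = rootBar (castSucc_ne_succ i) t := rfl

theorem yBar_eq (i : Fin m) (t : F) : yBar i t = rootBar (castSucc_ne_succ i).symm t := rfl

/-- `SL_{m+1}(F)` is generated by the simple root subgroups and their opposites. -/
theorem eq_top_of_simple_roots (hm : 1 ≤ m) (H : Subgroup (SpecialLinearGroup (Fin (m + 1)) F))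
    (hx : ∀ (i : Fin m) (t : F), transvection (castSucc_ne_succ i) t ∈ H)
    (hy : ∀ (i : Fin m) (t : F), transvection (castSucc_ne_succ i).symm t ∈ H) : H = ⊤ := by
  have hA : ∀ k : ℕ, k + 1 ≤ m → RootNat H k (k + 1) := by
    intro k hk hi hj hab c
    exact hx ⟨k, by omega⟩ c
  have hA' : ∀ k : ℕ, k + 1 ≤ m → RootNat H (k + 1) k := by
    intro k hk hi hj hab c
    exact hy ⟨k, by omega⟩ c
  have hC : ∀ d i : ℕ, i + d + 1 ≤ m → RootNat H i (i + d + 1) := by
    intro d
    induction d with
    | zero => intro i hi; exact hA i hi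
    | succ d ih =>
      intro i hi
      have h1 := ih i (by omega)
      have h2 := hA (i + d + 1) (by omega)
      exact h1.comm h2 (by omega) (by omega) (by omega)
  have hC' : ∀ d i : ℕ, i + d + 1 ≤ m → RootNat H (i + d + 1) i := by
    intro d
    induction d with
    | zero => intro i hi; exact hA' i hi
    | succ d ih =>
      intro i hi
      have h1 := ih i (by omega)
      have h2 := hA' (i + d + 1) (by omega)
      exact h2.comm h1 (by omega) (by omega) (by omega)
  have : Nontrivial (Fin (m + 1)) := Fin.nontrivial_iff_two_le.2 (by omega)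
  apply Cfsg.Agent.Lib.Helper1.eq_top_of_transvection_mem
  intro i j hij c
  have hi := i.2
  have hj := j.2
  have hne : i.val ≠ j.val := fun e => hij (Fin.ext e)
  rcases lt_or_gt_of_ne hne with hlt | hgt
  · have h1 := hC (j.val - i.val - 1) i.val (by omega)
    have e : i.val + (j.val - i.val - 1) + 1 = j.val := by omega
    rw [e] at h1
    exact h1 i.2 j.2 hij c
  · have h1 := hC' (i.val - j.val - 1) j.val (by omega)
    have e : j.val + (i.val - j.val - 1) + 1 = i.val := by omega
    rw [e] at h1
    exact h1 i.2 j.2 hij c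

/-- Two homomorphisms from `PSL_{m+1}(F)` agreeing on the simple root elements and their opposites
are equal. -/
theorem hom_ext_simple (hm : 1 ≤ m) {G' : Type*} [Group G']
    (f₁ f₂ : ProjectiveSpecialLinearGroup (Fin (m + 1)) F →* G')
    (hx : ∀ (i : Fin m) (t : F), f₁ (xBar i t) = f₂ (xBar i t))
    (hy : ∀ (i : Fin m) (t : F), f₁ (yBar i t) = f₂ (yBar i t)) : f₁ = f₂ := by
  have h1 : (f₁.comp piN).eqLocus (f₂.comp piN) = ⊤ := by
    apply eq_top_of_simple_roots hm
    · intro i t
      exact hx i t
    · intro i t
      exact hy i t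
  apply MonoidHom.ext
  intro q
  obtain ⟨g, rfl⟩ := piN_surjective q
  have : g ∈ (f₁.comp piN).eqLocus (f₂.comp piN) := by
    rw [h1]
    exact Subgroup.mem_top g
  exact this

end

end Cfsg.Agent.Lib.Helper5.SLnBN
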