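import Mathlib
import Cfsg.Prelude.Def_Characters
import Cfsg.Agent.Lib.Helper4.Characters
import Cfsg.Agent.Lib.Helper1.CharFound6
import Cfsg.Agent.Lib.Helper1.LinearChar

set_option autoImplicit false

namespace Cfsg.Agent.Lib.Helper5.PermVec

open scoped ComplexConjugate
open Cfsg.Agent.Lib.Helper4 Cfsg.Agent.Lib.Helper1

universe u

variable {G : Type u} [Group G] [Fintype G]

theorem isIrr_one : Cfsg.IsIrrCharacter G (fun _ => (1 : ℂ)) := by
  have := isIrrCharacter_of_hom (1 : G →* ℂˣ)
  exact this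

/-- A sum of `k` nonzero characters, one of which contains the trivial character once and is not
trivial, and whose norm is `k + 1`, is the trivial character plus `k` distinct irreducible
characters. -/
theorem split_of_norm {I : Type*} [Fintype I] (ψ : I → (G → ℂ))
    (hψ : ∀ i, Cfsg.IsCharacter G (ψ i)) (hne : ∀ i, ψ i ≠ 0) (i₀ : I)
    (h1 : Cfsg.classInner (ψ i₀) (fun _ => 1) = 1) (h1' : ψ i₀ ≠ fun _ => 1)
    (hnorm : Cfsg.classInner (∑ i, ψ i) (∑ i, ψ i) = ((Fintype.card I + 1 : ℕ) : ℂ)) :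
    ∃ χ : Fin (Fintype.card I) → (G → ℂ), (∀ j, Cfsg.IsIrrCharacter G (χ j)) ∧
      Function.Injective χ ∧ ∀ g, (∑ i, ψ i) g = 1 + ∑ j, χ j g := by
  classical
  have : Fintype (Cfsg.IrrCharacter G) := Fintype.ofFinite _
  set k := Fintype.card I with hk
  set triv : Cfsg.IrrCharacter G := ⟨fun _ => 1, isIrr_one⟩ with htriv
  have hm : ∀ i (χ : Cfsg.IrrCharacter G), ∃ m : ℕ, Cfsg.classInner (ψ i) χ = m :=
    fun i χ => classInner_char_irr_nat (hψ i) χ.2
  choose m hm using hm
  set Ψ : G → ℂ := ∑ i, ψ i with hΨ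
  have hΨc : Cfsg.IsCharacter G Ψ := isCharacter_sum _ _ (fun i _ => hψ i)
  have hΨcf := isClassFunction_of_isCharacter hΨc
  set M : Cfsg.IrrCharacter G → ℕ := fun χ => ∑ i, m i χ with hM
  have hΨχ : ∀ χ : Cfsg.IrrCharacter G, Cfsg.classInner Ψ χ = M χ := by
    intro χ
    rw [hΨ, classInner_sum_left, hM]
    push_cast
    exact Finset.sum_congr rfl (fun i _ => hm i χ)
  have hχΨ : ∀ χ : Cfsg.IrrCharacter G, Cfsg.classInner (χ : G → ℂ) Ψ = M χ := by
    intro χ
    rw [← classInner_conj_symm, hΨχ, Complex.conj_natCast]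
  -- Parseval
  have hpars : ∑ χ : Cfsg.IrrCharacter G, M χ * M χ = k + 1 := by
    have h := classInner_eq_sum_mult Ψ Ψ hΨcf
    rw [hnorm] at h
    simp only [hΨχ, hχΨ] at h
    have : ((∑ χ : Cfsg.IrrCharacter G, M χ * M χ : ℕ) : ℂ) = ((k + 1 : ℕ) : ℂ) := by
      rw [h]; push_cast; rfl
    exact_mod_cast this
  -- each summand has at least one constituent
  have hone : ∀ i, 1 ≤ ∑ χ : Cfsg.IrrCharacter G, m i χ := by
    intro i
    by_contra hlt
    have h0 : ∀ χ : Cfsg.IrrCharacter G, m i χ = 0 := by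
      intro χ
      have : ∑ χ : Cfsg.IrrCharacter G, m i χ = 0 := by omega
      exact (Finset.sum_eq_zero_iff.1 this) χ (Finset.mem_univ _)
    apply hne i
    rw [class_function_expansion (ψ i) (isClassFunction_of_isCharacter (hψ i))]
    apply Finset.sum_eq_zero
    intro χ _
    rw [hm, h0]
    simp
  -- the distinguished summand has at least two
  have hmtriv : m i₀ triv = 1 := by
    have := hm i₀ triv
    rw [htriv] at this
    have h2 : Cfsg.classInner (ψ i₀) (fun _ => (1 : ℂ)) = (m i₀ triv : ℂ) := this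
    rw [h1] at h2
    exact_mod_cast h2.symm
  have htwo : 2 ≤ ∑ χ : Cfsg.IrrCharacter G, m i₀ χ := by
    by_contra hlt
    have hsum : ∑ χ : Cfsg.IrrCharacter G, m i₀ χ = 1 := by
      have := hone i₀
      omega
    have h0 : ∀ χ : Cfsg.IrrCharacter G, χ ≠ triv → m i₀ χ = 0 := by
      intro χ hχ
      by_contra hpos
      have : m i₀ triv + m i₀ χ ≤ ∑ χ : Cfsg.IrrCharacter G, m i₀ χ := by
        rw [← Finset.sum_pair (f := fun χ => m i₀ χ) hχ.symm]
        exact Finset.sum_le_sum_of_subset (Finset.subset_univ _)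
      omega
    apply h1'
    rw [class_function_expansion (ψ i₀) (isClassFunction_of_isCharacter (hψ i₀))]
    rw [Finset.sum_eq_single triv]
    · rw [hm, hmtriv]
      simp [htriv]
    · intro χ _ hχ
      rw [hm, h0 χ hχ]
      simp
    · intro h; exact absurd (Finset.mem_univ _) h
  -- total number of constituents
  have htot : k + 1 ≤ ∑ χ : Cfsg.IrrCharacter G, M χ := by
    rw [hM]
    simp only
    rw [Finset.sum_comm]
    have : ∑ i : I, ∑ χ : Cfsg.IrrCharacter G, m i χ =
        ∑ χ : Cfsg.IrrCharacter G, m i₀ χ + ∑ i ∈ Finset.univ.erase i₀, ∑ χ : Cfsg.IrrCharacter G, m i χ := by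
      exact (Finset.add_sum_erase Finset.univ (fun i => ∑ χ : Cfsg.IrrCharacter G, m i χ)
        (Finset.mem_univ i₀)).symm
    rw [this]
    have h3 : (Finset.univ.erase i₀).card ≤ ∑ i ∈ Finset.univ.erase i₀, ∑ χ : Cfsg.IrrCharacter G, m i χ := by
      have := Finset.card_nsmul_le_sum (Finset.univ.erase i₀) (fun i => ∑ χ : Cfsg.IrrCharacter G, m i χ) 1
        (fun i _ => hone i)
      simpa using this
    rw [Finset.card_erase_of_mem (Finset.mem_univ i₀), Finset.card_univ] at h3
    have hkpos : 1 ≤ k := by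
      rw [hk]
      exact Fintype.card_pos_iff.2 ⟨i₀⟩
    omega
  -- all multiplicities are zero or one
  have hle : ∀ χ : Cfsg.IrrCharacter G, M χ ≤ M χ * M χ := by
    intro χ
    rcases Nat.eq_zero_or_pos (M χ) with h | h
    · rw [h]
    · exact Nat.le_mul_of_pos_left _ h
  have hsumeq : ∑ χ : Cfsg.IrrCharacter G, M χ = ∑ χ : Cfsg.IrrCharacter G, M χ * M χ := by
    apply le_antisymm (Finset.sum_le_sum (fun χ _ => hle χ))
    rw [hpars]
    exact htot
  have h01 : ∀ χ : Cfsg.IrrCharacter G, M χ = M χ * M χ := by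
    intro χ
    by_contra hχ
    have hlt : M χ < M χ * M χ := lt_of_le_of_ne (hle χ) hχ
    have : ∑ χ : Cfsg.IrrCharacter G, M χ < ∑ χ : Cfsg.IrrCharacter G, M χ * M χ :=
      Finset.sum_lt_sum (fun χ _ => hle χ) ⟨χ, Finset.mem_univ _, hlt⟩
    omega
  have h01' : ∀ χ : Cfsg.IrrCharacter G, M χ = 0 ∨ M χ = 1 := by
    intro χ
    have := h01 χ
    rcases Nat.eq_zero_or_pos (M χ) with h | h
    · left; exact h
    · right
      have h2 : M χ * 1 = M χ * M χ := by rw [mul_one]; exact this
      exact (Nat.eq_of_mul_eq_mul_left h h2).symm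
  set S : Finset (Cfsg.IrrCharacter G) := Finset.univ.filter (fun χ => M χ = 1) with hS
  have hScard : S.card = k + 1 := by
    rw [← hpars, ← hsumeq, hS, Finset.card_filter]
    apply Finset.sum_congr rfl
    intro χ _
    rcases h01' χ with h | h
    · rw [h]; simp
    · rw [h]; simp
  have hMtriv : M triv = 1 := by
    rcases h01' triv with h | h
    · exfalso
      have : m i₀ triv ≤ M triv := by
        rw [hM]
        exact Finset.single_le_sum (f := fun i => m i triv) (fun i _ => Nat.zero_le _)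
          (Finset.mem_univ i₀)
      omega
    · exact h
  have htrivS : triv ∈ S := by
    rw [hS, Finset.mem_filter]
    exact ⟨Finset.mem_univ _, hMtriv⟩
  set T : Finset (Cfsg.IrrCharacter G) := S.erase triv with hT
  have hTcard : T.card = k := by
    rw [hT, Finset.card_erase_of_mem htrivS, hScard]
    rfl
  set e : T ≃ Fin k := Finset.equivFinOfCardEq hTcard with he
  refine ⟨fun j => ((e.symm j : T) : Cfsg.IrrCharacter G).1, fun j => ((e.symm j : T) : Cfsg.IrrCharacter G).2, ?_, ?_⟩
  · intro j j' h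
    have h2 : ((e.symm j : T) : Cfsg.IrrCharacter G) = ((e.symm j' : T) : Cfsg.IrrCharacter G) :=
      Subtype.ext h
    exact e.symm.injective (Subtype.ext h2)
  · intro g
    have hexp := class_function_expansion Ψ hΨcf
    have hexp2 : Ψ = ∑ χ ∈ S, (χ : G → ℂ) := by
      conv_lhs => rw [hexp]
      rw [hS, Finset.sum_filter]
      apply Finset.sum_congr rfl
      intro χ _
      rw [hΨχ]
      rcases h01' χ with h | h
      · rw [h, if_neg (by omega)]; simp
      · rw [h, if_pos rfl]; simp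
    rw [hexp2, ← Finset.add_sum_erase S _ htrivS, Pi.add_apply, Finset.sum_apply]
    congr 1
    rw [← hT]
    rw [← Finset.sum_coe_sort T (fun χ => (χ : G → ℂ) g)]
    exact (Fintype.sum_equiv e.symm _ _ (fun j => rfl)).symm

end Cfsg.Agent.Lib.Helper5.PermVec
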