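import Mathlib

set_option autoImplicit false

namespace Cfsg.Agent.Lib.Helper5.PermVec

open Matrix MulAction
open scoped LinearAlgebra.Projectivization

variable {F : Type*} [Field F] {m : ℕ}

/-- the first standard basis vector -/
def e0 (F : Type*) [Field F] (m : ℕ) : Fin (m + 3) → F := Pi.single 0 1

/-- the second standard basis vector -/
def e1 (F : Type*) [Field F] (m : ℕ) : Fin (m + 3) → F := Pi.single 1 1

theorem e0_ne_zero : e0 F m ≠ 0 := by
  intro h
  have := congrFun h 0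
  simp [e0] at this

theorem e1_ne_zero : e1 F m ≠ 0 := by
  intro h
  have := congrFun h 1
  simp [e1] at this

theorem e1_not_smul_e0 : ¬ ∃ c : F, e1 F m = c • e0 F m := by
  rintro ⟨c, hc⟩
  have := congrFun hc 1
  simp [e1, e0] at this

theorem sl_smul_eq (g : SpecialLinearGroup (Fin (m + 3)) F) (v : Fin (m + 3) → F) :
    g • v = (g : Matrix (Fin (m + 3)) (Fin (m + 3)) F) *ᵥ v := rfl

theorem fin_one_ne_zero : (1 : Fin (m + 3)) ≠ 0 := by
  intro h
  have := congrArg Fin.val h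
  simp at this

theorem fin_two_ne_zero : (2 : Fin (m + 3)) ≠ 0 := by
  intro h
  have := congrArg Fin.val h
  rw [Fin.val_two, Fin.val_zero] at this
  omega

theorem fin_two_ne_one : (2 : Fin (m + 3)) ≠ 1 := by
  intro h
  have := congrArg Fin.val h
  rw [Fin.val_two, Fin.val_one] at this
  omega

/-- the diagonal correction matrix -/
def corrD (a b : Fˣ) : SpecialLinearGroup (Fin (m + 3)) F :=
  ⟨Matrix.diagonal (fun i : Fin (m + 3) =>
    if i = 0 then ((a⁻¹ : Fˣ) : F) else if i = 1 then ((b⁻¹ : Fˣ) : F)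
      else if i = 2 then ((a * b : Fˣ) : F) else 1), by
    rw [Matrix.det_diagonal]
    rw [Fin.prod_univ_succ, Fin.prod_univ_succ, Fin.prod_univ_succ]
    have h1 : ∀ i : Fin m, (if (i.succ.succ.succ : Fin (m + 3)) = 0 then ((a⁻¹ : Fˣ) : F)
        else if (i.succ.succ.succ : Fin (m + 3)) = 1 then ((b⁻¹ : Fˣ) : F)
        else if (i.succ.succ.succ : Fin (m + 3)) = 2 then ((a * b : Fˣ) : F) else 1) = 1 := by
      intro i
      have e0 : (i.succ.succ.succ : Fin (m + 3)) ≠ 0 := Fin.succ_ne_zero _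
      have e1 : (i.succ.succ.succ : Fin (m + 3)) ≠ 1 := by
        intro h
        have := congrArg Fin.val h
        simp at this
      have e2 : (i.succ.succ.succ : Fin (m + 3)) ≠ 2 := by
        intro h
        have := congrArg Fin.val h
        rw [Fin.val_two] at this
        simp at this
      rw [if_neg e0, if_neg e1, if_neg e2]
    rw [Finset.prod_congr rfl (fun i _ => h1 i), Finset.prod_const_one, mul_one]
    have e3 : ((0 : Fin (m + 2)).succ : Fin (m + 3)) = 1 := rfl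
    have e4 : (((0 : Fin (m + 1)).succ.succ : Fin (m + 3))) = 2 := rfl
    rw [if_pos rfl, e3, if_neg fin_one_ne_zero, if_pos rfl, e4, if_neg fin_two_ne_zero,
      if_neg fin_two_ne_one, if_pos rfl]
    rw [← Units.val_mul, ← Units.val_mul]
    have : a⁻¹ * (b⁻¹ * (a * b)) = 1 := by
      rw [mul_comm a b, ← mul_assoc b⁻¹, inv_mul_cancel, one_mul, inv_mul_cancel]
    rw [this, Units.val_one]⟩

theorem corrD_e0 (a b : Fˣ) :
    ((corrD a b : SpecialLinearGroup (Fin (m + 3)) F) : Matrix (Fin (m + 3)) (Fin (m + 3)) F) *ᵥ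
      e0 F m = ((a⁻¹ : Fˣ) : F) • e0 F m := by
  unfold corrD e0
  show Matrix.diagonal _ *ᵥ _ = _
  rw [Matrix.mulVec_single_one]
  funext i
  rw [Matrix.col_apply, Matrix.diagonal_apply, Pi.smul_apply, Pi.single_apply, smul_eq_mul]
  by_cases h : i = 0
  · subst h; simp
  · rw [if_neg h, if_neg h, mul_zero]

theorem corrD_e1 (a b : Fˣ) :
    ((corrD a b : SpecialLinearGroup (Fin (m + 3)) F) : Matrix (Fin (m + 3)) (Fin (m + 3)) F) *ᵥ
      e1 F m = ((b⁻¹ : Fˣ) : F) • e1 F m := by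
  unfold corrD e1
  show Matrix.diagonal _ *ᵥ _ = _
  rw [Matrix.mulVec_single_one]
  funext i
  rw [Matrix.col_apply, Matrix.diagonal_apply, Pi.smul_apply, Pi.single_apply, smul_eq_mul]
  by_cases h : i = 1
  · subst h; simp
  · rw [if_neg h, if_neg h, mul_zero]

/-- `SL_n` maps the first two standard basis vectors to any pair of non-proportional vectors -/
theorem exists_sl_pair (v w : Fin (m + 3) → F) (hv : v ≠ 0) (hw : w ≠ 0)
    (hvw : ¬ ∃ c : F, w = c • v) :
    ∃ g : SpecialLinearGroup (Fin (m + 3)) F,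
      (g : Matrix (Fin (m + 3)) (Fin (m + 3)) F) *ᵥ e0 F m = v ∧
      (g : Matrix (Fin (m + 3)) (Fin (m + 3)) F) *ᵥ e1 F m = w := by
  have hab : Projectivization.mk F (e0 F m) e0_ne_zero ≠ Projectivization.mk F (e1 F m) e1_ne_zero := by
    intro h
    rw [Projectivization.mk_eq_mk_iff] at h
    obtain ⟨a, ha⟩ := h
    apply e1_not_smul_e0 (F := F) (m := m)
    refine ⟨((a⁻¹ : Fˣ) : F), ?_⟩
    rw [← ha, Units.smul_def, smul_smul, ← Units.val_mul, inv_mul_cancel, Units.val_one, one_smul]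
  have hcd : Projectivization.mk F v hv ≠ Projectivization.mk F w hw := by
    intro h
    rw [Projectivization.mk_eq_mk_iff] at h
    obtain ⟨a, ha⟩ := h
    apply hvw
    refine ⟨((a⁻¹ : Fˣ) : F), ?_⟩
    rw [← ha, Units.smul_def, smul_smul, ← Units.val_mul, inv_mul_cancel, Units.val_one, one_smul]
  obtain ⟨g, hg1, hg2⟩ := (is_two_pretransitive_iff.1
    (inferInstance : IsMultiplyPretransitive (SpecialLinearGroup (Fin (m + 3)) F)
      (ℙ F (Fin (m + 3) → F)) 2)) hab hcd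
  rw [Projectivization.smul_mk, Projectivization.mk_eq_mk_iff] at hg1 hg2
  obtain ⟨a, ha⟩ := hg1
  obtain ⟨b, hb⟩ := hg2
  rw [sl_smul_eq, Units.smul_def] at ha hb
  -- `g e0 = a⁻¹ v`, `g e1 = b⁻¹ w`
  have hmul : ((g * corrD a b : SpecialLinearGroup (Fin (m + 3)) F) :
      Matrix (Fin (m + 3)) (Fin (m + 3)) F) =
      (g : Matrix (Fin (m + 3)) (Fin (m + 3)) F) *
        ((corrD a b : SpecialLinearGroup (Fin (m + 3)) F) :
          Matrix (Fin (m + 3)) (Fin (m + 3)) F) := rfl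
  refine ⟨g * corrD a b, ?_, ?_⟩
  · rw [hmul, ← Matrix.mulVec_mulVec, corrD_e0, Matrix.mulVec_smul, ← ha, smul_smul,
      ← Units.val_mul, inv_mul_cancel, Units.val_one, one_smul]
  · rw [hmul, ← Matrix.mulVec_mulVec, corrD_e1, Matrix.mulVec_smul, ← hb, smul_smul,
      ← Units.val_mul, inv_mul_cancel, Units.val_one, one_smul]

/-- `SL_n` is transitive on pairs of non-proportional vectors -/
theorem exists_sl_map_pair (v w v' w' : Fin (m + 3) → F) (hv : v ≠ 0) (hw : w ≠ 0)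
    (hvw : ¬ ∃ c : F, w = c • v) (hv' : v' ≠ 0) (hw' : w' ≠ 0) (hvw' : ¬ ∃ c : F, w' = c • v') :
    ∃ g : SpecialLinearGroup (Fin (m + 3)) F,
      (g : Matrix (Fin (m + 3)) (Fin (m + 3)) F) *ᵥ v = v' ∧
      (g : Matrix (Fin (m + 3)) (Fin (m + 3)) F) *ᵥ w = w' := by
  obtain ⟨g₁, h1, h2⟩ := exists_sl_pair v w hv hw hvw
  obtain ⟨g₂, h3, h4⟩ := exists_sl_pair v' w' hv' hw' hvw'
  have hmul : ((g₂ * g₁⁻¹ : SpecialLinearGroup (Fin (m + 3)) F) :
      Matrix (Fin (m + 3)) (Fin (m + 3)) F) =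
      (g₂ : Matrix (Fin (m + 3)) (Fin (m + 3)) F) *
        ((g₁⁻¹ : SpecialLinearGroup (Fin (m + 3)) F) :
          Matrix (Fin (m + 3)) (Fin (m + 3)) F) := rfl
  have hinv : ((g₁⁻¹ : SpecialLinearGroup (Fin (m + 3)) F) :
      Matrix (Fin (m + 3)) (Fin (m + 3)) F) * (g₁ : Matrix (Fin (m + 3)) (Fin (m + 3)) F) = 1 := by
    have := congrArg (fun z : SpecialLinearGroup (Fin (m + 3)) F =>
      (z : Matrix (Fin (m + 3)) (Fin (m + 3)) F)) (inv_mul_cancel g₁)
    exact this
  refine ⟨g₂ * g₁⁻¹, ?_, ?_⟩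
  · rw [hmul, ← h1, Matrix.mulVec_mulVec, Matrix.mul_assoc, hinv, Matrix.mul_one, h3]
  · rw [hmul, ← h2, Matrix.mulVec_mulVec, Matrix.mul_assoc, hinv, Matrix.mul_one, h4]

/-- `SL_n` is transitive on nonzero vectors -/
theorem exists_sl_map (v v' : Fin (m + 3) → F) (hv : v ≠ 0) (hv' : v' ≠ 0) :
    ∃ g : SpecialLinearGroup (Fin (m + 3)) F,
      (g : Matrix (Fin (m + 3)) (Fin (m + 3)) F) *ᵥ v = v' := by
  -- choose auxiliary vectors not proportional to the given ones
  have aux : ∀ u : Fin (m + 3) → F, u ≠ 0 → ∃ w : Fin (m + 3) → F, w ≠ 0 ∧ ¬ ∃ c : F, w = c • u := by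
    intro u hu
    obtain ⟨j, hj⟩ : ∃ j, u j ≠ 0 := by
      by_contra h
      push Not at h
      exact hu (funext h)
    obtain ⟨i, hi⟩ : ∃ i : Fin (m + 3), i ≠ j := by
      by_cases h : j = 0
      · exact ⟨1, by rw [h]; exact fin_one_ne_zero⟩
      · exact ⟨0, fun h' => h h'.symm⟩
    refine ⟨Pi.single i 1, ?_, ?_⟩
    · intro h
      have := congrFun h i
      simp at this
    · rintro ⟨c, hc⟩
      have h1 := congrFun hc j
      have h2 := congrFun hc i
      rw [Pi.single_apply, if_neg (Ne.symm hi), Pi.smul_apply, smul_eq_mul] at h1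
      rw [Pi.single_apply, if_pos rfl, Pi.smul_apply, smul_eq_mul] at h2
      rcases mul_eq_zero.1 h1.symm with h | h
      · rw [h, zero_mul] at h2
        exact one_ne_zero h2
      · exact hj h
  obtain ⟨w, hw, hvw⟩ := aux v hv
  obtain ⟨w', hw', hvw'⟩ := aux v' hv'
  obtain ⟨g, hg, -⟩ := exists_sl_map_pair v w v' w' hv hw hvw hv' hw' hvw'
  exact ⟨g, hg⟩

end Cfsg.Agent.Lib.Helper5.PermVec
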