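import Mathlib
import Cfsg.Prelude.Def_Characters
import Cfsg.Agent.Lib.Helper5.PermVec1
import Cfsg.Agent.Lib.Helper1.LinearChar
import Cfsg.Agent.Lib.Helper4.Characters
import Cfsg.Agent.S0148
import Cfsg.Agent.S0146

set_option autoImplicit false

namespace Cfsg.Agent.Lib.Helper5.PermVec

open Matrix
open scoped ComplexConjugate

variable {F : Type*} [Field F] {m : ℕ}

/-- the first column of a matrix in `SL_n` -/
def col0 (x : SpecialLinearGroup (Fin (m + 3)) F) : Fin (m + 3) → F :=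
  (x : Matrix (Fin (m + 3)) (Fin (m + 3)) F) *ᵥ e0 F m

theorem coe_mul' (x y : SpecialLinearGroup (Fin (m + 3)) F) :
    ((x * y : SpecialLinearGroup (Fin (m + 3)) F) : Matrix (Fin (m + 3)) (Fin (m + 3)) F) =
      (x : Matrix (Fin (m + 3)) (Fin (m + 3)) F) * (y : Matrix (Fin (m + 3)) (Fin (m + 3)) F) := rfl

theorem coe_one' :
    ((1 : SpecialLinearGroup (Fin (m + 3)) F) : Matrix (Fin (m + 3)) (Fin (m + 3)) F) = 1 := rfl

theorem inv_mulVec_mulVec (x : SpecialLinearGroup (Fin (m + 3)) F) (v : Fin (m + 3) → F) :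
    ((x⁻¹ : SpecialLinearGroup (Fin (m + 3)) F) : Matrix (Fin (m + 3)) (Fin (m + 3)) F) *ᵥ
      ((x : Matrix (Fin (m + 3)) (Fin (m + 3)) F) *ᵥ v) = v := by
  rw [Matrix.mulVec_mulVec, ← coe_mul', inv_mul_cancel, coe_one', Matrix.one_mulVec]

theorem mulVec_inv_mulVec (x : SpecialLinearGroup (Fin (m + 3)) F) (v : Fin (m + 3) → F) :
    (x : Matrix (Fin (m + 3)) (Fin (m + 3)) F) *ᵥ
      (((x⁻¹ : SpecialLinearGroup (Fin (m + 3)) F) : Matrix (Fin (m + 3)) (Fin (m + 3)) F) *ᵥ v) = v := by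
  rw [Matrix.mulVec_mulVec, ← coe_mul', mul_inv_cancel, coe_one', Matrix.one_mulVec]

theorem col0_mul (x y : SpecialLinearGroup (Fin (m + 3)) F) :
    col0 (x * y) = (x : Matrix (Fin (m + 3)) (Fin (m + 3)) F) *ᵥ col0 y := by
  unfold col0
  rw [coe_mul', Matrix.mulVec_mulVec]

theorem col0_one : col0 (1 : SpecialLinearGroup (Fin (m + 3)) F) = e0 F m := by
  unfold col0
  rw [coe_one', Matrix.one_mulVec]

theorem mulVec_ne_zero (x : SpecialLinearGroup (Fin (m + 3)) F) {v : Fin (m + 3) → F} (hv : v ≠ 0) :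
    (x : Matrix (Fin (m + 3)) (Fin (m + 3)) F) *ᵥ v ≠ 0 := by
  intro h
  apply hv
  rw [← inv_mulVec_mulVec x v, h, Matrix.mulVec_zero]

theorem col0_ne_zero (x : SpecialLinearGroup (Fin (m + 3)) F) : col0 x ≠ 0 :=
  mulVec_ne_zero x e0_ne_zero

theorem smul_eq_smul_iff {v : Fin (m + 3) → F} (hv : v ≠ 0) (c d : F) : c • v = d • v ↔ c = d := by
  constructor
  · intro h
    obtain ⟨j, hj⟩ : ∃ j, v j ≠ 0 := by
      by_contra h'
      push Not at h'
      exact hv (funext h')
    have := congrFun h j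
    rw [Pi.smul_apply, Pi.smul_apply, smul_eq_mul, smul_eq_mul] at this
    exact mul_right_cancel₀ hj this
  · intro h; rw [h]

/-- the stabiliser of the line spanned by the first basis vector -/
def PP (F : Type*) [Field F] (m : ℕ) : Subgroup (SpecialLinearGroup (Fin (m + 3)) F) where
  carrier := {x | ∃ c : Fˣ, col0 x = (c : F) • e0 F m}
  mul_mem' := by
    rintro x y ⟨c, hc⟩ ⟨d, hd⟩
    refine ⟨c * d, ?_⟩
    rw [col0_mul, hd, Matrix.mulVec_smul]
    have : (x : Matrix (Fin (m + 3)) (Fin (m + 3)) F) *ᵥ e0 F m = (c : F) • e0 F m := hc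
    rw [this, smul_smul, Units.val_mul, mul_comm]
  one_mem' := ⟨1, by rw [col0_one, Units.val_one, one_smul]⟩
  inv_mem' := by
    rintro x ⟨c, hc⟩
    refine ⟨c⁻¹, ?_⟩
    have h1 : (x : Matrix (Fin (m + 3)) (Fin (m + 3)) F) *ᵥ e0 F m = (c : F) • e0 F m := hc
    have h2 := inv_mulVec_mulVec x (e0 F m)
    rw [h1, Matrix.mulVec_smul] at h2
    unfold col0
    have h3 : ((c⁻¹ : Fˣ) : F) • ((c : F) • ((x⁻¹ : SpecialLinearGroup (Fin (m + 3)) F) :
        Matrix (Fin (m + 3)) (Fin (m + 3)) F) *ᵥ e0 F m) = ((c⁻¹ : Fˣ) : F) • e0 F m := by rw [h2]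
    rw [smul_smul, ← Units.val_mul, inv_mul_cancel, Units.val_one, one_smul] at h3
    exact h3

theorem mem_PP (x : SpecialLinearGroup (Fin (m + 3)) F) :
    x ∈ PP F m ↔ ∃ c : Fˣ, col0 x = (c : F) • e0 F m := Iff.rfl

/-- the eigenvalue on the first basis vector -/
noncomputable def lam (p : PP F m) : Fˣ := Classical.choose p.2

theorem lam_spec (p : PP F m) : col0 (p : SpecialLinearGroup (Fin (m + 3)) F) =
    ((lam p : Fˣ) : F) • e0 F m := Classical.choose_spec p.2

theorem lam_unique (p : PP F m) (c : Fˣ)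
    (hc : col0 (p : SpecialLinearGroup (Fin (m + 3)) F) = (c : F) • e0 F m) : lam p = c := by
  have := lam_spec p
  rw [hc] at this
  exact (Units.ext ((smul_eq_smul_iff e0_ne_zero _ _).1 this)).symm

/-- the eigenvalue as a homomorphism -/
noncomputable def lamHom (F : Type*) [Field F] (m : ℕ) : PP F m →* Fˣ where
  toFun := lam
  map_one' := by
    apply lam_unique
    show col0 (1 : SpecialLinearGroup (Fin (m + 3)) F) = _
    rw [col0_one, Units.val_one, one_smul]
  map_mul' := by
    intro p p'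
    apply lam_unique
    show col0 ((p : SpecialLinearGroup (Fin (m + 3)) F) * (p' : SpecialLinearGroup (Fin (m + 3)) F)) = _
    rw [col0_mul, lam_spec p', Matrix.mulVec_smul]
    have : ((p : SpecialLinearGroup (Fin (m + 3)) F) : Matrix (Fin (m + 3)) (Fin (m + 3)) F) *ᵥ
        e0 F m = ((lam p : Fˣ) : F) • e0 F m := lam_spec p
    rw [this, smul_smul, Units.val_mul, mul_comm]

/-- the linear character of `PP` attached to a multiplicative character of the field -/
noncomputable def thetaT (θ : MulChar F ℂ) : PP F m → ℂ := fun p => θ ((lam p : Fˣ) : F)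

theorem isCharacter_thetaT (θ : MulChar F ℂ) : Cfsg.IsCharacter (PP F m) (thetaT θ) := by
  apply Cfsg.Agent.Lib.Helper4.isCharacter_of_irr
  have := Cfsg.Agent.Lib.Helper1.isIrrCharacter_of_hom ((MulChar.toUnitHom θ).comp (lamHom F m))
  have h2 : (fun g : PP F m => (((MulChar.toUnitHom θ).comp (lamHom F m)) g : ℂ)) = thetaT θ := by
    funext g
    show ((MulChar.toUnitHom θ (lam g) : ℂˣ) : ℂ) = _
    rw [MulChar.coe_toUnitHom]
    rfl
  rw [h2] at this
  exact this

/-- the conjugate `x⁻¹ g x` lies in `PP` with eigenvalue `c` iff `g` has eigenvalue `c` on the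
first column of `x` -/
theorem conj_mem_iff (g x : SpecialLinearGroup (Fin (m + 3)) F) (c : Fˣ) :
    col0 (x⁻¹ * g * x) = (c : F) • e0 F m ↔
      (g : Matrix (Fin (m + 3)) (Fin (m + 3)) F) *ᵥ col0 x = (c : F) • col0 x := by
  rw [mul_assoc, col0_mul, col0_mul]
  constructor
  · intro h
    have h2 := mulVec_inv_mulVec x ((g : Matrix (Fin (m + 3)) (Fin (m + 3)) F) *ᵥ col0 x)
    rw [h, Matrix.mulVec_smul] at h2
    rw [← h2]
    rfl
  · intro h
    rw [h, Matrix.mulVec_smul]
    unfold col0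
    rw [inv_mulVec_mulVec]

theorem extendByZero_conj (θ : MulChar F ℂ) [Fintype F] [DecidableEq F]
    (g x : SpecialLinearGroup (Fin (m + 3)) F) :
    Cfsg.extendByZero (PP F m) (thetaT θ) (x⁻¹ * g * x) =
      ∑ c : Fˣ, if (g : Matrix (Fin (m + 3)) (Fin (m + 3)) F) *ᵥ col0 x = (c : F) • col0 x
        then θ (c : F) else 0 := by
  by_cases hmem : x⁻¹ * g * x ∈ PP F m
  · rw [Cfsg.Agent.Lib.Helper1.extendByZero_of_mem (PP F m) _ hmem]
    set p : PP F m := ⟨x⁻¹ * g * x, hmem⟩ with hp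
    have hspec := lam_spec p
    rw [Finset.sum_eq_single (lam p)]
    · rw [if_pos ((conj_mem_iff g x (lam p)).1 hspec)]
      rfl
    · intro c _ hc
      rw [if_neg]
      intro h
      apply hc
      exact (lam_unique p c ((conj_mem_iff g x c).2 h)).symm
    · intro h; exact absurd (Finset.mem_univ _) h
  · rw [Cfsg.Agent.Lib.Helper1.extendByZero_of_notMem (PP F m) _ hmem]
    symm
    apply Finset.sum_eq_zero
    intro c _
    rw [if_neg]
    intro h
    exact hmem ⟨c, (conj_mem_iff g x c).2 h⟩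

section count
variable [Fintype F] [DecidableEq F]

/-- orthogonality: the sum of all multiplicative characters at a unit -/
theorem sum_mulChar [Fintype (MulChar F ℂ)] (c : Fˣ) :
    ∑ θ : MulChar F ℂ, θ (c : F) = if c = 1 then (Fintype.card Fˣ : ℂ) else 0 := by
  split_ifs with hc
  · rw [hc, Units.val_one]
    simp only [map_one, Finset.sum_const, Finset.card_univ, nsmul_eq_mul, mul_one]
    have := MulChar.card_eq_card_units_of_hasEnoughRootsOfUnity F ℂ
    rw [Nat.card_eq_fintype_card, Nat.card_eq_fintype_card] at this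
    rw [this]
  · have hc' : (c : F) ≠ 1 := fun h => hc (Units.ext h)
    obtain ⟨χ, hχ⟩ := MulChar.exists_apply_ne_one_of_hasEnoughRootsOfUnity F ℂ hc'
    refine eq_zero_of_mul_eq_self_left hχ ?_
    simp only [Finset.mul_sum, ← MulChar.mul_apply]
    exact Fintype.sum_bijective _ (Group.mulLeft_bijective χ) _ _ fun χ' ↦ rfl

/-- a chosen element of `SL_n` mapping the first basis vector to `v` -/
noncomputable def tv (v : Fin (m + 3) → F) : SpecialLinearGroup (Fin (m + 3)) F :=
  if h : v ≠ 0 then Classical.choose (exists_sl_map (e0 F m) v e0_ne_zero h) else 1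

theorem col0_tv {v : Fin (m + 3) → F} (hv : v ≠ 0) : col0 (tv v) = v := by
  unfold tv col0
  rw [dif_pos hv]
  exact Classical.choose_spec (exists_sl_map (e0 F m) v e0_ne_zero hv)

/-- the transversal bijection -/
noncomputable def transEquiv (p : (Fin (m + 3) → F) → Prop) :
    {x : SpecialLinearGroup (Fin (m + 3)) F // p (col0 x)} ≃
      {v : Fin (m + 3) → F // v ≠ 0 ∧ p v} ×
        {x : SpecialLinearGroup (Fin (m + 3)) F // col0 x = e0 F m} where
  toFun x := (⟨col0 x.1, col0_ne_zero x.1, x.2⟩, ⟨(tv (col0 x.1))⁻¹ * x.1, by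
    rw [col0_mul]
    nth_rewrite 2 [← col0_tv (col0_ne_zero x.1)]
    unfold col0
    rw [inv_mulVec_mulVec]⟩)
  invFun y := ⟨tv y.1.1 * y.2.1, by
    rw [col0_mul, y.2.2]
    have := col0_tv y.1.2.1
    unfold col0 at this
    rw [this]
    exact y.1.2.2⟩
  left_inv x := by
    apply Subtype.ext
    show tv (col0 x.1) * ((tv (col0 x.1))⁻¹ * x.1) = x.1
    rw [mul_inv_cancel_left]
  right_inv y := by
    have h1 : col0 (tv y.1.1 * y.2.1) = y.1.1 := by
      rw [col0_mul, y.2.2]
      exact col0_tv y.1.2.1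
    apply Prod.ext
    · apply Subtype.ext
      exact h1
    · apply Subtype.ext
      show (tv (col0 (tv y.1.1 * y.2.1)))⁻¹ * (tv y.1.1 * y.2.1) = y.2.1
      rw [h1, inv_mul_cancel_left]

theorem card_filter_col0 (p : (Fin (m + 3) → F) → Prop) :
    Nat.card {x : SpecialLinearGroup (Fin (m + 3)) F // p (col0 x)} =
      Nat.card {v : Fin (m + 3) → F // v ≠ 0 ∧ p v} *
        Nat.card {x : SpecialLinearGroup (Fin (m + 3)) F // col0 x = e0 F m} := by
  rw [Nat.card_congr (transEquiv p), Nat.card_prod]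

/-- the order of `PP` -/
theorem card_PP : Nat.card (PP F m) = Fintype.card Fˣ *
    Nat.card {x : SpecialLinearGroup (Fin (m + 3)) F // col0 x = e0 F m} := by
  have h1 : Nat.card (PP F m) = Nat.card {x : SpecialLinearGroup (Fin (m + 3)) F //
      (fun v => ∃ c : Fˣ, v = (c : F) • e0 F m) (col0 x)} := rfl
  rw [h1]
  refine (card_filter_col0 (fun v => ∃ c : Fˣ, v = (c : F) • e0 F m)).trans ?_
  congr 1
  rw [← Nat.card_eq_fintype_card]
  apply Nat.card_congr
  refine Equiv.ofBijective (fun v => Classical.choose v.2.2) ⟨?_, ?_⟩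
  · intro v w h
    apply Subtype.ext
    rw [Classical.choose_spec v.2.2, Classical.choose_spec w.2.2]
    simp only at h
    rw [h]
  · intro c
    have hmem : (c : F) • e0 F m ≠ 0 ∧ ∃ c' : Fˣ, (c : F) • e0 F m = (c' : F) • e0 F m := by
      refine ⟨?_, c, rfl⟩
      intro h
      have := congrFun h 0
      simp [e0] at this
    refine ⟨⟨(c : F) • e0 F m, hmem⟩, ?_⟩
    have := Classical.choose_spec hmem.2
    exact (Units.ext ((smul_eq_smul_iff e0_ne_zero _ _).1 this)).symm

theorem card_G : Nat.card (SpecialLinearGroup (Fin (m + 3)) F) =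
    Nat.card {v : Fin (m + 3) → F // v ≠ 0} *
      Nat.card {x : SpecialLinearGroup (Fin (m + 3)) F // col0 x = e0 F m} := by
  have h1 : Nat.card (SpecialLinearGroup (Fin (m + 3)) F) =
      Nat.card {x : SpecialLinearGroup (Fin (m + 3)) F // (fun _ => True) (col0 x)} :=
    Nat.card_congr (Equiv.subtypeUnivEquiv (fun _ => trivial)).symm
  rw [h1]
  refine (card_filter_col0 (fun _ => True)).trans ?_
  congr 1
  apply Nat.card_congr
  exact Equiv.subtypeEquivRight (fun v => by simp)

theorem card_stab_pos :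
    0 < Nat.card {x : SpecialLinearGroup (Fin (m + 3)) F // col0 x = e0 F m} := by
  have : Nonempty {x : SpecialLinearGroup (Fin (m + 3)) F // col0 x = e0 F m} :=
    ⟨⟨1, col0_one⟩⟩
  exact Nat.card_pos

/-- the permutation character on nonzero vectors is the sum of the induced characters -/
theorem sum_indFun_eq [Fintype (MulChar F ℂ)] (g : SpecialLinearGroup (Fin (m + 3)) F) :
    ∑ θ : MulChar F ℂ, Cfsg.indFun (PP F m) (thetaT θ) g =
      (Nat.card {v : Fin (m + 3) → F // v ≠ 0 ∧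
        (g : Matrix (Fin (m + 3)) (Fin (m + 3)) F) *ᵥ v = v} : ℂ) := by
  unfold Cfsg.indFun
  rw [← Finset.mul_sum, Finset.sum_comm]
  have h1 : ∀ x : SpecialLinearGroup (Fin (m + 3)) F,
      ∑ θ : MulChar F ℂ, Cfsg.extendByZero (PP F m) (thetaT θ) (x⁻¹ * g * x) =
        if (g : Matrix (Fin (m + 3)) (Fin (m + 3)) F) *ᵥ col0 x = col0 x
          then (Fintype.card Fˣ : ℂ) else 0 := by
    intro x
    simp only [extendByZero_conj]
    rw [Finset.sum_comm]
    have h2 : ∀ c : Fˣ, (∑ θ : MulChar F ℂ,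
        if (g : Matrix (Fin (m + 3)) (Fin (m + 3)) F) *ᵥ col0 x = (c : F) • col0 x
          then θ (c : F) else 0) =
        if (g : Matrix (Fin (m + 3)) (Fin (m + 3)) F) *ᵥ col0 x = (c : F) • col0 x
          then (if c = 1 then (Fintype.card Fˣ : ℂ) else 0) else 0 := by
      intro c
      split_ifs with h h'
      · rw [sum_mulChar, if_pos h']
      · rw [sum_mulChar, if_neg h']
      · simp
    rw [Finset.sum_congr rfl (fun c _ => h2 c), Finset.sum_eq_single 1]
    · rw [Units.val_one, one_smul, if_pos rfl]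
    · intro c _ hc
      rw [if_neg hc, ite_self]
    · intro h; exact absurd (Finset.mem_univ _) h
  rw [Finset.sum_congr rfl (fun x _ => h1 x), ← Finset.sum_filter, Finset.sum_const, nsmul_eq_mul]
  have h3 : (Finset.univ.filter (fun x : SpecialLinearGroup (Fin (m + 3)) F =>
      (g : Matrix (Fin (m + 3)) (Fin (m + 3)) F) *ᵥ col0 x = col0 x)).card =
      Nat.card {x : SpecialLinearGroup (Fin (m + 3)) F //
        (fun v => (g : Matrix (Fin (m + 3)) (Fin (m + 3)) F) *ᵥ v = v) (col0 x)} := by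
    rw [Nat.card_eq_fintype_card, Fintype.card_subtype]
  rw [h3, card_filter_col0 (fun v => (g : Matrix (Fin (m + 3)) (Fin (m + 3)) F) *ᵥ v = v),
    card_PP]
  have hN := card_stab_pos (F := F) (m := m)
  have hN' : (Nat.card {x : SpecialLinearGroup (Fin (m + 3)) F // col0 x = e0 F m} : ℂ) ≠ 0 :=
    Nat.cast_ne_zero.2 hN.ne'
  have hq : (Fintype.card Fˣ : ℂ) ≠ 0 := Nat.cast_ne_zero.2 Fintype.card_ne_zero
  push_cast
  field_simp

end count

end Cfsg.Agent.Lib.Helper5.PermVec
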