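import Mathlib
import Cfsg.Prelude.Def_Characters
import Cfsg.Agent.Lib.Helper5.PermVec3

set_option autoImplicit false

namespace Cfsg.Agent.Lib.Helper5.PermVec

open Matrix MulAction
open scoped ComplexConjugate

variable {F : Type*} [Field F] {m : ℕ}

/-- nonzero vectors -/
def Om (F : Type*) [Field F] (m : ℕ) : Type _ := {v : Fin (m + 3) → F // v ≠ 0}

instance : MulAction (SpecialLinearGroup (Fin (m + 3)) F) (Om F m) where
  smul g v := ⟨(g : Matrix (Fin (m + 3)) (Fin (m + 3)) F) *ᵥ v.1, mulVec_ne_zero g v.2⟩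
  one_smul v := by
    apply Subtype.ext
    show ((1 : SpecialLinearGroup (Fin (m + 3)) F) : Matrix (Fin (m + 3)) (Fin (m + 3)) F) *ᵥ v.1 = v.1
    rw [coe_one', Matrix.one_mulVec]
  mul_smul g h v := by
    apply Subtype.ext
    show ((g * h : SpecialLinearGroup (Fin (m + 3)) F) : Matrix (Fin (m + 3)) (Fin (m + 3)) F) *ᵥ v.1 =
      (g : Matrix (Fin (m + 3)) (Fin (m + 3)) F) *ᵥ ((h : Matrix (Fin (m + 3)) (Fin (m + 3)) F) *ᵥ v.1)
    rw [coe_mul', Matrix.mulVec_mulVec]

theorem smul_val (g : SpecialLinearGroup (Fin (m + 3)) F) (v : Om F m) :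
    (g • v).1 = (g : Matrix (Fin (m + 3)) (Fin (m + 3)) F) *ᵥ v.1 := rfl

noncomputable instance [Fintype F] [DecidableEq F] : Fintype (Om F m) := by
  unfold Om
  infer_instance

open Classical in
/-- the label of a pair of nonzero vectors: the ratio if they are proportional -/
noncomputable def lab (p : Om F m × Om F m) : Option Fˣ :=
  if h : ∃ c : Fˣ, p.2.1 = (c : F) • p.1.1 then some (Classical.choose h) else none

theorem lab_some (p : Om F m × Om F m) (c : Fˣ) (hc : p.2.1 = (c : F) • p.1.1) :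
    lab p = some c := by
  have h : ∃ c : Fˣ, p.2.1 = (c : F) • p.1.1 := ⟨c, hc⟩
  unfold lab
  rw [dif_pos h]
  have h2 := Classical.choose_spec h
  have h3 : ((Classical.choose h : Fˣ) : F) • p.1.1 = (c : F) • p.1.1 := h2.symm.trans hc
  congr 1
  exact Units.ext ((smul_eq_smul_iff p.1.2 _ _).1 h3)

theorem lab_none (p : Om F m × Om F m) (h : ¬ ∃ c : Fˣ, p.2.1 = (c : F) • p.1.1) :
    lab p = none := by
  unfold lab
  rw [dif_neg h]

theorem lab_eq_some_iff (p : Om F m × Om F m) (c : Fˣ) :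
    lab p = some c ↔ p.2.1 = (c : F) • p.1.1 := by
  constructor
  · intro h
    by_cases h' : ∃ c : Fˣ, p.2.1 = (c : F) • p.1.1
    · obtain ⟨d, hd⟩ := h'
      rw [lab_some p d hd] at h
      rw [← Option.some.inj h]
      exact hd
    · rw [lab_none p h'] at h
      exact absurd h (by simp)
  · exact lab_some p c

theorem lab_eq_none_iff (p : Om F m × Om F m) :
    lab p = none ↔ ¬ ∃ c : Fˣ, p.2.1 = (c : F) • p.1.1 := by
  constructor
  · intro h h'
    obtain ⟨d, hd⟩ := h'
    rw [lab_some p d hd] at h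
    exact absurd h (by simp)
  · exact lab_none p

theorem lab_smul (g : SpecialLinearGroup (Fin (m + 3)) F) (p : Om F m × Om F m) :
    lab (g • p) = lab p := by
  by_cases h : ∃ c : Fˣ, p.2.1 = (c : F) • p.1.1
  · obtain ⟨c, hc⟩ := h
    rw [lab_some p c hc]
    apply lab_some
    show (g • p.2).1 = (c : F) • (g • p.1).1
    rw [smul_val, smul_val, hc, Matrix.mulVec_smul]
  · rw [lab_none p h]
    apply lab_none
    rintro ⟨c, hc⟩
    apply h
    refine ⟨c, ?_⟩
    have h1 : (g • p.2).1 = (c : F) • (g • p.1).1 := hc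
    rw [smul_val, smul_val] at h1
    have h2 := congrArg (fun v => ((g⁻¹ : SpecialLinearGroup (Fin (m + 3)) F) :
      Matrix (Fin (m + 3)) (Fin (m + 3)) F) *ᵥ v) h1
    rw [inv_mulVec_mulVec, Matrix.mulVec_smul, inv_mulVec_mulVec] at h2
    exact h2

theorem not_prop_of_units (v w : Fin (m + 3) → F) (hw : w ≠ 0)
    (h : ¬ ∃ c : Fˣ, w = (c : F) • v) : ¬ ∃ c : F, w = c • v := by
  rintro ⟨c, hc⟩
  by_cases h0 : c = 0
  · rw [h0, zero_smul] at hc
    exact hw hc
  · exact h ⟨Units.mk0 c h0, hc⟩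

theorem exists_smul_of_lab_eq (p p' : Om F m × Om F m) (h : lab p = lab p') :
    ∃ g : SpecialLinearGroup (Fin (m + 3)) F, g • p = p' := by
  by_cases hp : ∃ c : Fˣ, p.2.1 = (c : F) • p.1.1
  · obtain ⟨c, hc⟩ := hp
    rw [lab_some p c hc] at h
    have hc' := (lab_eq_some_iff p' c).1 h.symm
    obtain ⟨g, hg⟩ := exists_sl_map p.1.1 p'.1.1 p.1.2 p'.1.2
    refine ⟨g, ?_⟩
    apply Prod.ext
    · apply Subtype.ext
      exact hg
    · apply Subtype.ext
      show (g : Matrix (Fin (m + 3)) (Fin (m + 3)) F) *ᵥ p.2.1 = p'.2.1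
      rw [hc, Matrix.mulVec_smul, hg, hc']
  · rw [lab_none p hp] at h
    have hp' := (lab_eq_none_iff p').1 h.symm
    obtain ⟨g, hg1, hg2⟩ := exists_sl_map_pair p.1.1 p.2.1 p'.1.1 p'.2.1 p.1.2 p.2.2
      (not_prop_of_units _ _ p.2.2 hp) p'.1.2 p'.2.2 (not_prop_of_units _ _ p'.2.2 hp')
    refine ⟨g, ?_⟩
    apply Prod.ext
    · apply Subtype.ext
      exact hg1
    · apply Subtype.ext
      exact hg2

theorem lab_surjective : Function.Surjective (lab (F := F) (m := m)) := by
  intro o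
  cases o with
  | none =>
    refine ⟨(⟨e0 F m, e0_ne_zero⟩, ⟨e1 F m, e1_ne_zero⟩), ?_⟩
    apply lab_none
    rintro ⟨c, hc⟩
    exact e1_not_smul_e0 ⟨(c : F), hc⟩
  | some c =>
    have hne : (c : F) • e0 F m ≠ 0 := by
      intro h
      have := congrFun h 0
      simp [e0] at this
    refine ⟨(⟨e0 F m, e0_ne_zero⟩, ⟨(c : F) • e0 F m, hne⟩), ?_⟩
    exact lab_some _ c rfl

/-- the number of orbits on pairs of nonzero vectors -/
theorem card_orbits [Fintype F] [DecidableEq F] :
    Nat.card (Quotient (orbitRel (SpecialLinearGroup (Fin (m + 3)) F) (Om F m × Om F m))) =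
      Fintype.card F := by
  have hbij : Function.Bijective (Quotient.lift (s := orbitRel (SpecialLinearGroup (Fin (m + 3)) F)
      (Om F m × Om F m)) (lab (F := F) (m := m)) (by
        intro a b hab
        have hab' : a ∈ orbit (SpecialLinearGroup (Fin (m + 3)) F) b := hab
        obtain ⟨g, hg⟩ := hab'
        rw [← hg]
        exact lab_smul g b)) := by
    constructor
    · intro x y hxy
      induction x using Quotient.inductionOn with | _ a => ?_
      induction y using Quotient.inductionOn with | _ b => ?_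
      have h : lab a = lab b := hxy
      obtain ⟨g, hg⟩ := exists_smul_of_lab_eq b a h.symm
      apply Quotient.sound
      exact ⟨g, hg⟩
    · intro o
      obtain ⟨p, hp⟩ := lab_surjective (F := F) (m := m) o
      exact ⟨Quotient.mk _ p, hp⟩
  rw [Nat.card_congr (Equiv.ofBijective _ hbij), Nat.card_eq_fintype_card, Fintype.card_option,
    Fintype.card_units]
  have : 0 < Fintype.card F := Fintype.card_pos
  omega

/-- fixed points on pairs -/
noncomputable def fixedPairEquiv (g : SpecialLinearGroup (Fin (m + 3)) F) :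
    fixedBy (Om F m × Om F m) g ≃
      {v : Fin (m + 3) → F // v ≠ 0 ∧ (g : Matrix (Fin (m + 3)) (Fin (m + 3)) F) *ᵥ v = v} ×
      {v : Fin (m + 3) → F // v ≠ 0 ∧ (g : Matrix (Fin (m + 3)) (Fin (m + 3)) F) *ᵥ v = v} where
  toFun p := (⟨p.1.1.1, p.1.1.2, congrArg Subtype.val (congrArg Prod.fst p.2)⟩,
    ⟨p.1.2.1, p.1.2.2, congrArg Subtype.val (congrArg Prod.snd p.2)⟩)
  invFun ab := ⟨(⟨ab.1.1, ab.1.2.1⟩, ⟨ab.2.1, ab.2.2.1⟩),
    Prod.ext (Subtype.ext ab.1.2.2) (Subtype.ext ab.2.2.2)⟩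
  left_inv p := rfl
  right_inv ab := rfl

/-- Burnside: the norm of the permutation character on nonzero vectors -/
theorem classInner_perm [Fintype F] [DecidableEq F] :
    Cfsg.classInner (fun g : SpecialLinearGroup (Fin (m + 3)) F =>
      (Nat.card {v : Fin (m + 3) → F // v ≠ 0 ∧
        (g : Matrix (Fin (m + 3)) (Fin (m + 3)) F) *ᵥ v = v} : ℂ))
      (fun g : SpecialLinearGroup (Fin (m + 3)) F =>
      (Nat.card {v : Fin (m + 3) → F // v ≠ 0 ∧
        (g : Matrix (Fin (m + 3)) (Fin (m + 3)) F) *ᵥ v = v} : ℂ)) = (Fintype.card F : ℂ) := by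
  classical
  unfold Cfsg.classInner
  have : ∀ g : SpecialLinearGroup (Fin (m + 3)) F, Fintype (fixedBy (Om F m × Om F m) g) :=
    fun g => Fintype.ofFinite _
  have : Fintype (Quotient (orbitRel (SpecialLinearGroup (Fin (m + 3)) F) (Om F m × Om F m))) :=
    Fintype.ofFinite _
  have hb := sum_card_fixedBy_eq_card_orbits_mul_card_group (SpecialLinearGroup (Fin (m + 3)) F)
    (Om F m × Om F m)
  have hterm : ∀ g : SpecialLinearGroup (Fin (m + 3)) F,
      (Nat.card {v : Fin (m + 3) → F // v ≠ 0 ∧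
        (g : Matrix (Fin (m + 3)) (Fin (m + 3)) F) *ᵥ v = v} : ℂ) *
      conj (Nat.card {v : Fin (m + 3) → F // v ≠ 0 ∧
        (g : Matrix (Fin (m + 3)) (Fin (m + 3)) F) *ᵥ v = v} : ℂ) =
      ((Fintype.card (fixedBy (Om F m × Om F m) g) : ℕ) : ℂ) := by
    intro g
    rw [Complex.conj_natCast, ← Nat.cast_mul, ← Nat.card_prod, ← Nat.card_congr (fixedPairEquiv g),
      Nat.card_eq_fintype_card]
  rw [Finset.sum_congr rfl (fun g _ => hterm g), ← Nat.cast_sum, hb, ← Nat.card_eq_fintype_card,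
    card_orbits, Nat.cast_mul, Nat.card_eq_fintype_card]
  have hG0 : (Fintype.card (SpecialLinearGroup (Fin (m + 3)) F) : ℂ) ≠ 0 :=
    Nat.cast_ne_zero.2 Fintype.card_ne_zero
  field_simp

end Cfsg.Agent.Lib.Helper5.PermVec
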