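import Mathlib
import Cfsg.Prelude.Def_Characters
import Cfsg.Agent.Lib.Helper4.SLMin.Defs
import Cfsg.Agent.Lib.Helper4.Characters
import Cfsg.Agent.S2336

set_option autoImplicit false

namespace Cfsg.Agent.Lib.Helper4.SLMin

namespace PkAH2

open scoped ComplexConjugate
open Cfsg.Agent.Lib.Helper4 Cfsg.Agent.Lib.Helper1 Cfsg.Agent.Lib.Helper5.PermVec

universe u

variable {G : Type u} [Group G] [Fintype G]

/-- the structure behind `split_of_norm`, with degrees: if all summands have degree `D`, every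
nontrivial irreducible constituent of the sum has multiplicity one and degree `D` or `D - 1` -/
theorem split_degree {I : Type*} [Fintype I] (ψ : I → (G → ℂ))
    (hψ : ∀ i, Cfsg.IsCharacter G (ψ i)) (hne : ∀ i, ψ i ≠ 0) (i₀ : I)
    (h1 : Cfsg.classInner (ψ i₀) (fun _ => 1) = 1) (h1' : ψ i₀ ≠ fun _ => 1)
    (hnorm : Cfsg.classInner (∑ i, ψ i) (∑ i, ψ i) = ((Fintype.card I + 1 : ℕ) : ℂ))
    (D : ℕ) (hD : ∀ i, ψ i 1 = D) {χ : G → ℂ} (hχ : Cfsg.IsIrrCharacter G χ)
    (hχ1 : χ ≠ fun _ => 1) :
    Cfsg.classInner χ (∑ i, ψ i) = 0 ∨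
      (Cfsg.classInner χ (∑ i, ψ i) = 1 ∧ ∃ k : ℕ, χ 1 = k ∧ D ≤ k + 1) := by
  classical
  have : Fintype (Cfsg.IrrCharacter G) := Fintype.ofFinite _
  set k := Fintype.card I with hk
  set triv : Cfsg.IrrCharacter G := ⟨fun _ => 1, isIrr_one⟩ with htriv
  have hm : ∀ i (χ : Cfsg.IrrCharacter G), ∃ m : ℕ, Cfsg.classInner (ψ i) χ = m :=
    fun i χ => classInner_char_irr_nat (hψ i) χ.2
  choose m hm using hm
  set Ψ : G → ℂ := ∑ i, ψ i with hΨ
  have hΨc : Cfsg.IsCharacter G Ψ := isCharacter_sum _ _ (fun i _ => hψ i)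
  have hΨcf := isClassFunction_of_isCharacter hΨc
  set M : Cfsg.IrrCharacter G → ℕ := fun χ => ∑ i, m i χ with hM
  have hΨχ : ∀ χ : Cfsg.IrrCharacter G, Cfsg.classInner Ψ χ = M χ := by
    intro χ
    rw [hΨ, classInner_sum_left, hM]
    push_cast
    exact Finset.sum_congr rfl (fun i _ => hm i χ)
  have hχΨ : ∀ χ : Cfsg.IrrCharacter G, Cfsg.classInner (χ : G → ℂ) Ψ = M χ := by
    intro χ
    rw [← classInner_conj_symm, hΨχ, Complex.conj_natCast]
  -- Parseval
  have hpars : ∑ χ : Cfsg.IrrCharacter G, M χ * M χ = k + 1 := by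
    have h := classInner_eq_sum_mult Ψ Ψ hΨcf
    rw [hnorm] at h
    simp only [hΨχ, hχΨ] at h
    have : ((∑ χ : Cfsg.IrrCharacter G, M χ * M χ : ℕ) : ℂ) = ((k + 1 : ℕ) : ℂ) := by
      rw [h]; push_cast; rfl
    exact_mod_cast this
  -- each summand has at least one constituent
  have hone : ∀ i, 1 ≤ ∑ χ : Cfsg.IrrCharacter G, m i χ := by
    intro i
    by_contra hlt
    have h0 : ∀ χ : Cfsg.IrrCharacter G, m i χ = 0 := by
      intro χ
      have : ∑ χ : Cfsg.IrrCharacter G, m i χ = 0 := by omega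
      exact (Finset.sum_eq_zero_iff.1 this) χ (Finset.mem_univ _)
    apply hne i
    rw [class_function_expansion (ψ i) (isClassFunction_of_isCharacter (hψ i))]
    apply Finset.sum_eq_zero
    intro χ _
    rw [hm, h0]
    simp
  -- the distinguished summand has at least two
  have hmtriv : m i₀ triv = 1 := by
    have := hm i₀ triv
    rw [htriv] at this
    have h2 : Cfsg.classInner (ψ i₀) (fun _ => (1 : ℂ)) = (m i₀ triv : ℂ) := this
    rw [h1] at h2
    exact_mod_cast h2.symm
  have htwo : 2 ≤ ∑ χ : Cfsg.IrrCharacter G, m i₀ χ := by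
    by_contra hlt
    have hsum : ∑ χ : Cfsg.IrrCharacter G, m i₀ χ = 1 := by
      have := hone i₀
      omega
    have h0 : ∀ χ : Cfsg.IrrCharacter G, χ ≠ triv → m i₀ χ = 0 := by
      intro χ hχ
      by_contra hpos
      have : m i₀ triv + m i₀ χ ≤ ∑ χ : Cfsg.IrrCharacter G, m i₀ χ := by
        rw [← Finset.sum_pair (f := fun χ => m i₀ χ) hχ.symm]
        exact Finset.sum_le_sum_of_subset (Finset.subset_univ _)
      omega
    apply h1'
    rw [class_function_expansion (ψ i₀) (isClassFunction_of_isCharacter (hψ i₀))]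
    rw [Finset.sum_eq_single triv]
    · rw [hm, hmtriv]
      simp [htriv]
    · intro χ _ hχ
      rw [hm, h0 χ hχ]
      simp
    · intro h; exact absurd (Finset.mem_univ _) h
  -- total number of constituents
  have hsplit : ∑ χ : Cfsg.IrrCharacter G, M χ =
      ∑ χ : Cfsg.IrrCharacter G, m i₀ χ +
        ∑ i ∈ Finset.univ.erase i₀, ∑ χ : Cfsg.IrrCharacter G, m i χ := by
    rw [hM]
    simp only
    rw [Finset.sum_comm]
    exact (Finset.add_sum_erase Finset.univ (fun i => ∑ χ : Cfsg.IrrCharacter G, m i χ)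
        (Finset.mem_univ i₀)).symm
  have h3 : (Finset.univ.erase i₀).card ≤
      ∑ i ∈ Finset.univ.erase i₀, ∑ χ : Cfsg.IrrCharacter G, m i χ := by
    have := Finset.card_nsmul_le_sum (Finset.univ.erase i₀)
      (fun i => ∑ χ : Cfsg.IrrCharacter G, m i χ) 1 (fun i _ => hone i)
    simpa using this
  have hcard_erase : (Finset.univ.erase i₀).card = k - 1 := by
    rw [Finset.card_erase_of_mem (Finset.mem_univ i₀), Finset.card_univ]
  have hkpos : 1 ≤ k := by
    rw [hk]
    exact Fintype.card_pos_iff.2 ⟨i₀⟩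
  have htot : k + 1 ≤ ∑ χ : Cfsg.IrrCharacter G, M χ := by
    rw [hsplit]; omega
  -- all multiplicities are zero or one
  have hle : ∀ χ : Cfsg.IrrCharacter G, M χ ≤ M χ * M χ := by
    intro χ
    rcases Nat.eq_zero_or_pos (M χ) with h | h
    · rw [h]
    · exact Nat.le_mul_of_pos_left _ h
  have hsumeq : ∑ χ : Cfsg.IrrCharacter G, M χ = ∑ χ : Cfsg.IrrCharacter G, M χ * M χ := by
    apply le_antisymm (Finset.sum_le_sum (fun χ _ => hle χ))
    rw [hpars]
    exact htot
  have h01 : ∀ χ : Cfsg.IrrCharacter G, M χ = M χ * M χ := by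
    intro χ
    by_contra hχ
    have hlt : M χ < M χ * M χ := lt_of_le_of_ne (hle χ) hχ
    have : ∑ χ : Cfsg.IrrCharacter G, M χ < ∑ χ : Cfsg.IrrCharacter G, M χ * M χ :=
      Finset.sum_lt_sum (fun χ _ => hle χ) ⟨χ, Finset.mem_univ _, hlt⟩
    omega
  have h01' : ∀ χ : Cfsg.IrrCharacter G, M χ = 0 ∨ M χ = 1 := by
    intro χ
    have := h01 χ
    rcases Nat.eq_zero_or_pos (M χ) with h | h
    · left; exact h
    · right
      have h2 : M χ * 1 = M χ * M χ := by rw [mul_one]; exact this
      exact (Nat.eq_of_mul_eq_mul_left h h2).symm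
  -- tightness: the distinguished summand has exactly two constituents, the others exactly one
  have htotal : ∑ χ : Cfsg.IrrCharacter G, M χ = k + 1 := by rw [hsumeq, hpars]
  have htwo' : ∑ χ : Cfsg.IrrCharacter G, m i₀ χ = 2 := by
    rw [hsplit] at htotal; omega
  have hrest : ∑ i ∈ Finset.univ.erase i₀, ∑ χ : Cfsg.IrrCharacter G, m i χ = k - 1 := by
    rw [hsplit] at htotal; omega
  have hone' : ∀ i, i ≠ i₀ → ∑ χ : Cfsg.IrrCharacter G, m i χ = 1 := by
    intro i hi
    by_contra hne1
    have hgt : 1 < ∑ χ : Cfsg.IrrCharacter G, m i χ := lt_of_le_of_ne (hone i) (Ne.symm hne1)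
    have himem : i ∈ Finset.univ.erase i₀ := Finset.mem_erase.2 ⟨hi, Finset.mem_univ _⟩
    have : (Finset.univ.erase i₀).card • 1 < ∑ i ∈ Finset.univ.erase i₀,
        ∑ χ : Cfsg.IrrCharacter G, m i χ := by
      rw [← Finset.sum_const]
      exact Finset.sum_lt_sum (fun j _ => hone j) ⟨i, himem, hgt⟩
    rw [smul_eq_mul, mul_one] at this
    omega
  -- now the given character
  set X : Cfsg.IrrCharacter G := ⟨χ, hχ⟩ with hX
  have hXtriv : X ≠ triv := by
    intro h
    apply hχ1
    have := congrArg Subtype.val h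
    exact this
  have hinner : Cfsg.classInner χ Ψ = M X := hχΨ X
  rcases h01' X with h0 | h1X
  · left
    rw [hinner, h0]; simp
  · right
    refine ⟨by rw [hinner, h1X]; simp, ?_⟩
    -- some summand contains `X`
    obtain ⟨i, hi⟩ : ∃ i, 1 ≤ m i X := by
      by_contra hcon
      push Not at hcon
      have : M X = 0 := by
        rw [hM]
        apply Finset.sum_eq_zero
        intro i _
        have := hcon i
        omega
      omega
    obtain ⟨d, hd0, hd⟩ := irr_apply_one_pos hχ
    have hexp := class_function_expansion (ψ i) (isClassFunction_of_isCharacter (hψ i))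
    have hexp1 : ψ i 1 = ∑ χ' : Cfsg.IrrCharacter G, (m i χ' : ℂ) * (χ' : G → ℂ) 1 := by
      conv_lhs => rw [hexp]
      rw [Finset.sum_apply]
      refine Finset.sum_congr rfl (fun χ' _ => ?_)
      rw [Pi.smul_apply, smul_eq_mul, hm]
    refine ⟨d, hd, ?_⟩
    by_cases hii : i = i₀
    · subst hii
      -- exactly `triv` and `X`
      have hothers : ∀ χ' : Cfsg.IrrCharacter G, χ' ≠ triv → χ' ≠ X → m i χ' = 0 := by
        intro χ' h1c h2c
        by_contra hpos
        have : m i triv + (m i X + m i χ') ≤ ∑ χ : Cfsg.IrrCharacter G, m i χ := by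
          have hs : ({triv, X, χ'} : Finset (Cfsg.IrrCharacter G)) ⊆ Finset.univ :=
            Finset.subset_univ _
          have := Finset.sum_le_sum_of_subset (f := fun χ => m i χ) hs
          rw [Finset.sum_insert (by
            rw [Finset.mem_insert, Finset.mem_singleton]
            rintro (h | h)
            · exact hXtriv h.symm
            · exact h1c h.symm), Finset.sum_pair (Ne.symm h2c)] at this
          exact this
        omega
      have hmX : m i X = 1 := by
        have : m i triv + m i X ≤ ∑ χ : Cfsg.IrrCharacter G, m i χ := by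
          rw [← Finset.sum_pair (f := fun χ => m i χ) (Ne.symm hXtriv)]
          exact Finset.sum_le_sum_of_subset (Finset.subset_univ _)
        omega
      have hval : ψ i 1 = 1 + (d : ℂ) := by
        rw [hexp1, ← Finset.add_sum_erase Finset.univ _ (Finset.mem_univ triv),
          ← Finset.add_sum_erase (Finset.univ.erase triv) _
            (Finset.mem_erase.2 ⟨hXtriv, Finset.mem_univ X⟩)]
        rw [Finset.sum_eq_zero (fun χ' hχ' => by
          have h1c := (Finset.mem_erase.1 hχ').1
          have h2c := (Finset.mem_erase.1 (Finset.mem_erase.1 hχ').2).1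
          rw [hothers χ' h2c h1c]; simp)]
        rw [hmtriv, hmX, add_zero]
        have e1 : ((triv : Cfsg.IrrCharacter G) : G → ℂ) 1 = 1 := rfl
        have e2 : ((X : Cfsg.IrrCharacter G) : G → ℂ) 1 = d := hd
        rw [e1, e2]
        simp
      rw [hD] at hval
      have : (D : ℂ) = ((1 + d : ℕ) : ℂ) := by rw [hval]; push_cast; rfl
      have := Nat.cast_injective this
      omega
    · have hmX : m i X = 1 := by
        have h1s := hone' i hii
        have : m i X ≤ ∑ χ : Cfsg.IrrCharacter G, m i χ :=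
          Finset.single_le_sum (f := fun χ => m i χ) (fun _ _ => Nat.zero_le _) (Finset.mem_univ X)
        omega
      have hothers : ∀ χ' : Cfsg.IrrCharacter G, χ' ≠ X → m i χ' = 0 := by
        intro χ' hc
        by_contra hpos
        have : m i X + m i χ' ≤ ∑ χ : Cfsg.IrrCharacter G, m i χ := by
          rw [← Finset.sum_pair (f := fun χ => m i χ) (Ne.symm hc)]
          exact Finset.sum_le_sum_of_subset (Finset.subset_univ _)
        have h1s := hone' i hii
        omega
      have hval : ψ i 1 = (d : ℂ) := by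
        rw [hexp1, Finset.sum_eq_single X]
        · rw [hmX]
          have e2 : ((X : Cfsg.IrrCharacter G) : G → ℂ) 1 = d := hd
          rw [e2]; simp
        · intro χ' _ hc
          rw [hothers χ' hc]; simp
        · intro h; exact absurd (Finset.mem_univ _) h
      rw [hD] at hval
      have := Nat.cast_injective hval
      omega

end PkAH2

open Matrix Cfsg Cfsg.Agent.H9SLRoot Cfsg.Agent.Lib.Helper1.SUMin
open scoped ComplexConjugate

universe u

variable {F : Type u} [Field F] [Fintype F] [DecidableEq F]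

local notation "q" => Fintype.card F

namespace PkAH2

open Cfsg.Agent.Lib.Helper5.PermVec

theorem card_ne_zero_vec (n : ℕ) : Nat.card {v : Fin n → F // v ≠ 0} = q ^ n - 1 := by
  classical
  rw [Nat.card_eq_fintype_card, Fintype.card_subtype, Finset.filter_ne' Finset.univ (0 : Fin n → F),
    Finset.card_erase_of_mem (Finset.mem_univ _), Finset.card_univ, Fintype.card_pi_const]

omit [DecidableEq F] in
theorem two_le_q : 2 ≤ q := Fintype.one_lt_card

theorem degree_eq (m : ℕ) :
    (Nat.card (Matrix.SpecialLinearGroup (Fin (m + 3)) F) : ℂ) / (Nat.card (PP F m) : ℂ) =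
      (((q ^ (m + 3) - 1) / (q - 1) : ℕ) : ℂ) := by
  have hq := two_le_q (F := F)
  have hdvd : (q - 1) ∣ q ^ (m + 3) - 1 := Nat.sub_one_dvd_pow_sub_one q (m + 3)
  have hS : (Nat.card {x : Matrix.SpecialLinearGroup (Fin (m + 3)) F // col0 x = e0 F m} : ℂ) ≠ 0 :=
    Nat.cast_ne_zero.2 (card_stab_pos (F := F) (m := m)).ne'
  have hq1 : ((q - 1 : ℕ) : ℂ) ≠ 0 := Nat.cast_ne_zero.2 (by omega)
  rw [card_G, card_PP, card_ne_zero_vec, Fintype.card_units, Nat.cast_div hdvd hq1]
  push_cast
  field_simp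

omit [DecidableEq F] in
theorem bnd_eq_pred (n : ℕ) (hn : 1 ≤ n) : bnd q n + 1 = (q ^ n - 1) / (q - 1) := by
  have hq := two_le_q (F := F)
  have hdvd : (q - 1) ∣ q ^ n - 1 := Nat.sub_one_dvd_pow_sub_one q n
  obtain ⟨D, hD⟩ := hdvd
  have hq1 : 0 < q - 1 := by omega
  have hqn : q ≤ q ^ n := by
    calc q = q ^ 1 := (pow_one _).symm
      _ ≤ q ^ n := Nat.pow_le_pow_right (by omega) hn
  have hD1 : 1 ≤ D := by
    rcases Nat.eq_zero_or_pos D with h | h
    · rw [h, mul_zero] at hD; omega
    · exact h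
  have h2 : q ^ n - q = (q - 1) * (D - 1) := by
    rw [Nat.mul_sub, ← hD, mul_one]; omega
  unfold bnd
  rw [h2, hD, Nat.mul_div_cancel_left _ hq1, Nat.mul_div_cancel_left _ hq1]
  omega

end PkAH2

/-- AH2 (from S2336 and its proof): a nontrivial irreducible constituent of the permutation
character on vectors has multiplicity one and degree at least `bnd` -/
theorem inner_permVec (n : ℕ) (hn : 3 ≤ n) {χ : SpecialLinearGroup (Fin n) F → ℂ}
    (hχ : IsIrrCharacter (SpecialLinearGroup (Fin n) F) χ) (h1 : χ 1 ≠ 1) :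
    classInner χ (permVec n) = 0 ∨
      (classInner χ (permVec n) = 1 ∧ ∃ k : ℕ, χ 1 = k ∧ bnd q n ≤ k) := by
  classical
  obtain ⟨m, rfl⟩ : ∃ m, n = m + 3 := ⟨n - 3, by omega⟩
  have : Fintype (MulChar F ℂ) := Fintype.ofFinite _
  have hG0 : (Nat.card (Matrix.SpecialLinearGroup (Fin (m + 3)) F) : ℂ) ≠ 0 :=
    Nat.cast_ne_zero.2 Nat.card_pos.ne'
  have hP0 : (Nat.card (Cfsg.Agent.Lib.Helper5.PermVec.PP F m) : ℂ) ≠ 0 :=
    Nat.cast_ne_zero.2 Nat.card_pos.ne'
  have hcardI : Fintype.card (MulChar F ℂ) = Fintype.card F - 1 := by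
    have := MulChar.card_eq_card_units_of_hasEnoughRootsOfUnity F ℂ
    rw [Nat.card_eq_fintype_card, Nat.card_eq_fintype_card, Fintype.card_units] at this
    exact this
  have hsum : (∑ θ : MulChar F ℂ, Cfsg.indFun (Cfsg.Agent.Lib.Helper5.PermVec.PP F m)
      (Cfsg.Agent.Lib.Helper5.PermVec.thetaT θ)) = permVec (m + 3) := by
    funext g
    rw [Finset.sum_apply]
    exact Cfsg.Agent.Lib.Helper5.PermVec.sum_indFun_eq g
  have hχ1 : χ ≠ fun _ => 1 := by
    intro h
    apply h1
    rw [h]
  have key := PkAH2.split_degree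
    (fun θ : MulChar F ℂ => Cfsg.indFun (Cfsg.Agent.Lib.Helper5.PermVec.PP F m)
      (Cfsg.Agent.Lib.Helper5.PermVec.thetaT θ))
    (fun θ => Cfsg.Agent.S0148.result (Cfsg.Agent.Lib.Helper5.PermVec.PP F m) _
      (Cfsg.Agent.Lib.Helper5.PermVec.isCharacter_thetaT θ))
    (fun θ h => by
      have h2 := congrFun h 1
      rw [Cfsg.Agent.S2336.indFun_one] at h2
      exact div_ne_zero hG0 hP0 h2)
    (1 : MulChar F ℂ)
    (by
      have hcl : Cfsg.IsClassFunction (Matrix.SpecialLinearGroup (Fin (m + 3)) F)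
          (fun _ => (1 : ℂ)) := fun _ _ => rfl
      have : Fintype (Cfsg.Agent.Lib.Helper5.PermVec.PP F m) := Fintype.ofFinite _
      rw [Cfsg.Agent.S0146.result (Cfsg.Agent.Lib.Helper5.PermVec.PP F m) _ _ hcl]
      unfold Cfsg.classInner
      have h1 : ∀ p : Cfsg.Agent.Lib.Helper5.PermVec.PP F m,
          Cfsg.Agent.Lib.Helper5.PermVec.thetaT (1 : MulChar F ℂ) p * conj (1 : ℂ) = 1 := by
        intro p
        unfold Cfsg.Agent.Lib.Helper5.PermVec.thetaT
        rw [MulChar.one_apply_coe, map_one, mul_one]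
      rw [Finset.sum_congr rfl (fun p _ => h1 p), Finset.sum_const, Finset.card_univ, nsmul_eq_mul,
        mul_one, Nat.card_eq_fintype_card]
      have : (Fintype.card (Cfsg.Agent.Lib.Helper5.PermVec.PP F m) : ℂ) ≠ 0 :=
        Nat.cast_ne_zero.2 Fintype.card_ne_zero
      field_simp)
    (by
      intro h
      have h2 := congrFun h 1
      rw [Cfsg.Agent.S2336.indFun_one] at h2
      rw [div_eq_one_iff_eq hP0] at h2
      exact Cfsg.Agent.S2336.card_PP_ne (F := F) (m := m) (by exact_mod_cast h2.symm))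
    (by
      rw [hsum]
      have := Cfsg.Agent.Lib.Helper5.PermVec.classInner_perm (F := F) (m := m)
      unfold permVec
      rw [this, hcardI]
      have : 0 < Fintype.card F := Fintype.card_pos
      congr 1
      omega)
    ((q ^ (m + 3) - 1) / (q - 1))
    (fun θ => by
      show Cfsg.indFun (Cfsg.Agent.Lib.Helper5.PermVec.PP F m)
        (Cfsg.Agent.Lib.Helper5.PermVec.thetaT θ) 1 = _
      rw [Cfsg.Agent.S2336.indFun_one, PkAH2.degree_eq])
    hχ hχ1
  rw [hsum] at key
  rcases key with h0 | ⟨h1', k, hk, hDk⟩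
  · left; exact h0
  · right
    refine ⟨h1', k, hk, ?_⟩
    have := PkAH2.bnd_eq_pred (F := F) (m + 3) (by omega)
    omega

end Cfsg.Agent.Lib.Helper4.SLMin
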