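import Mathlib
import Cfsg.Prelude.Def_Classical

namespace Cfsg.Agent.Lib.Helper5.IsoTransfer

open Matrix

variable {F : Type*} [Field F]
variable {ι₁ ι₂ : Type} [Fintype ι₁] [DecidableEq ι₁] [Fintype ι₂] [DecidableEq ι₂]

/-- a linear equivalence of coordinate spaces induces an isomorphism of general linear groups -/
noncomputable def glEquiv (φ : (ι₁ → F) ≃ₗ[F] (ι₂ → F)) : GL ι₁ F ≃* GL ι₂ F :=
  Matrix.GeneralLinearGroup.toLin.trans
    ((LinearMap.GeneralLinearGroup.congrLinearEquiv φ).trans Matrix.GeneralLinearGroup.toLin.symm)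

theorem glEquiv_mulVec (φ : (ι₁ → F) ≃ₗ[F] (ι₂ → F)) (t : GL ι₁ F) (v : ι₁ → F) :
    ((glEquiv φ t : GL ι₂ F) : Matrix ι₂ ι₂ F) *ᵥ (φ v) = φ ((t : Matrix ι₁ ι₁ F) *ᵥ v) := by
  have h : Matrix.GeneralLinearGroup.toLin (glEquiv φ t) =
      LinearMap.GeneralLinearGroup.congrLinearEquiv φ (Matrix.GeneralLinearGroup.toLin t) := by
    simp [glEquiv]
  have h2 := congrArg (fun g : LinearMap.GeneralLinearGroup F (ι₂ → F) => g.toLinearEquiv (φ v)) h
  simpa [Matrix.GeneralLinearGroup.toLin] using h2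

theorem mem_iso {ι : Type} [Fintype ι] [DecidableEq ι] (Q : (ι → F) → F) (t : GL ι F) :
    t ∈ Cfsg.isometryGroup F Q ↔ ∀ u, Q ((t : Matrix ι ι F) *ᵥ u) = Q u := by
  constructor
  · intro h u
    exact h u u
  · intro h u _
    exact h u

theorem glEquiv_mem_iff (Q₁ : (ι₁ → F) → F) (Q₂ : (ι₂ → F) → F) (φ : (ι₁ → F) ≃ₗ[F] (ι₂ → F))
    (h : ∀ v, Q₂ (φ v) = Q₁ v) (t : GL ι₁ F) :
    glEquiv φ t ∈ Cfsg.isometryGroup F Q₂ ↔ t ∈ Cfsg.isometryGroup F Q₁ := by
  rw [mem_iso, mem_iso]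
  constructor
  · intro ht u
    have := ht (φ u)
    rw [glEquiv_mulVec, h, h] at this
    exact this
  · intro ht w
    obtain ⟨u, rfl⟩ := φ.surjective w
    rw [glEquiv_mulVec, h, h]
    exact ht u

/-- isometric quadratic spaces have isomorphic isometry groups -/
noncomputable def isoEquiv (Q₁ : (ι₁ → F) → F) (Q₂ : (ι₂ → F) → F) (φ : (ι₁ → F) ≃ₗ[F] (ι₂ → F))
    (h : ∀ v, Q₂ (φ v) = Q₁ v) : ↥(Cfsg.isometryGroup F Q₁) ≃* ↥(Cfsg.isometryGroup F Q₂) where
  toFun t := ⟨glEquiv φ t.1, (glEquiv_mem_iff Q₁ Q₂ φ h t.1).2 t.2⟩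
  invFun s := ⟨(glEquiv φ).symm s.1, by
    rw [← glEquiv_mem_iff Q₁ Q₂ φ h, MulEquiv.apply_symm_apply]
    exact s.2⟩
  left_inv t := by
    apply Subtype.ext
    simp
  right_inv s := by
    apply Subtype.ext
    simp
  map_mul' t s := by
    apply Subtype.ext
    simp

/-- the number of classes of involutions is an isomorphism invariant -/
theorem card_inv_classes_congr {G H : Type*} [Group G] [Group H] (e : G ≃* H) :
    Nat.card {C : ConjClasses G // ∃ g : G, ConjClasses.mk g = C ∧ orderOf g = 2} =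
      Nat.card {C : ConjClasses H // ∃ g : H, ConjClasses.mk g = C ∧ orderOf g = 2} := by
  have hmap : ∀ g : G, ConjClasses.map e.toMonoidHom (ConjClasses.mk g) = ConjClasses.mk (e g) :=
    fun g => rfl
  have hmap' : ∀ g : H, ConjClasses.map e.symm.toMonoidHom (ConjClasses.mk g) = ConjClasses.mk (e.symm g) :=
    fun g => rfl
  refine Nat.card_congr
    { toFun := fun C => ⟨ConjClasses.map e.toMonoidHom C.1, ?_⟩
      invFun := fun C => ⟨ConjClasses.map e.symm.toMonoidHom C.1, ?_⟩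
      left_inv := ?_
      right_inv := ?_ }
  · obtain ⟨g, hg, hg2⟩ := C.2
    refine ⟨e g, ?_, ?_⟩
    · rw [← hg, hmap]
    · rw [← hg2]
      exact orderOf_injective e.toMonoidHom e.injective g
  · obtain ⟨g, hg, hg2⟩ := C.2
    refine ⟨e.symm g, ?_, ?_⟩
    · rw [← hg, hmap']
    · rw [← hg2]
      exact orderOf_injective e.symm.toMonoidHom e.symm.injective g
  · rintro ⟨C, g, rfl, hg2⟩
    apply Subtype.ext
    show ConjClasses.map e.symm.toMonoidHom (ConjClasses.map e.toMonoidHom (ConjClasses.mk g)) = _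
    rw [hmap, hmap']
    simp
  · rintro ⟨C, g, rfl, hg2⟩
    apply Subtype.ext
    show ConjClasses.map e.toMonoidHom (ConjClasses.map e.symm.toMonoidHom (ConjClasses.mk g)) = _
    rw [hmap', hmap]
    simp

end Cfsg.Agent.Lib.Helper5.IsoTransfer
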