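import Mathlib
import Cfsg.Prelude.Def_Classical
import Cfsg.Agent.Lib.Helper5.IsoTransfer

set_option autoImplicit false

namespace Cfsg.Agent.Lib.Helper5.OmSyl

open Matrix

/-- index type of the model -/
abbrev MI (k b : ℕ) : Type := (Fin k × Fin 2) ⊕ Fin b

/-- the space of the model, as a product -/
abbrev MS (F : Type*) (k b : ℕ) : Type _ := (Fin k → (Fin 2 → F)) × (Fin b → F)

variable (F : Type*) [Field F]

/-- the sum of two squares -/
noncomputable def q2 : QuadraticForm F (Fin 2 → F) :=
  QuadraticMap.weightedSumSquares F (fun _ : Fin 2 => (1 : F))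

theorem q2_apply (v : Fin 2 → F) : q2 F v = v 0 * v 0 + v 1 * v 1 := by
  unfold q2
  rw [QuadraticMap.weightedSumSquares_apply, Fin.sum_univ_two]
  simp

variable (k b : ℕ) (c : Fin b → F)

/-- the model form: `k` planes `x² + y²` and `b` further coordinates with weights `c` -/
noncomputable def Qm : QuadraticForm F (MI k b → F) :=
  QuadraticMap.weightedSumSquares F (Sum.elim (fun _ => (1 : F)) c : MI k b → F)

theorem Qm_apply (v : MI k b → F) :
    Qm F k b c v = ∑ i, q2 F (fun j => v (Sum.inl (i, j))) +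
      ∑ l, c l * (v (Sum.inr l) * v (Sum.inr l)) := by
  unfold Qm
  rw [QuadraticMap.weightedSumSquares_apply, Fintype.sum_sum_type, Fintype.sum_prod_type]
  have h1 : ∀ i : Fin k, ∑ y : Fin 2, (Sum.elim (fun _ => (1 : F)) c : MI k b → F) (Sum.inl (i, y)) •
      (v (Sum.inl (i, y)) * v (Sum.inl (i, y))) = q2 F (fun j => v (Sum.inl (i, j))) := by
    intro i
    rw [q2_apply, Fin.sum_univ_two]
    simp
  have h2 : ∀ l : Fin b, (Sum.elim (fun _ => (1 : F)) c : MI k b → F) (Sum.inr l) •
      (v (Sum.inr l) * v (Sum.inr l)) = c l * (v (Sum.inr l) * v (Sum.inr l)) := by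
    intro l
    simp
  rw [Finset.sum_congr rfl (fun i _ => h1 i), Finset.sum_congr rfl (fun l _ => h2 l)]

/-- the model form on the product space -/
noncomputable def QM (z : MS F k b) : F :=
  ∑ i, q2 F (z.1 i) + ∑ l, c l * (z.2 l * z.2 l)

/-- the coordinates of the product space -/
def phi : MS F k b ≃ₗ[F] (MI k b → F) where
  toFun z := Sum.elim (fun p => z.1 p.1 p.2) z.2
  invFun x := (fun i j => x (Sum.inl (i, j)), fun l => x (Sum.inr l))
  map_add' z z' := by
    funext p
    rcases p with p | l <;> rfl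
  map_smul' a z := by
    funext p
    rcases p with p | l <;> rfl
  left_inv z := rfl
  right_inv x := by
    funext p
    rcases p with p | l <;> rfl

theorem phi_inl (z : MS F k b) (i : Fin k) (j : Fin 2) : phi F k b z (Sum.inl (i, j)) = z.1 i j := rfl

theorem phi_inr (z : MS F k b) (l : Fin b) : phi F k b z (Sum.inr l) = z.2 l := rfl

theorem Qm_phi (z : MS F k b) : Qm F k b c (phi F k b z) = QM F k b c z := by
  rw [Qm_apply]
  rfl

/-- the transport of linear automorphisms of the product space to matrices -/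
noncomputable def e1 : (Module.End F (MS F k b))ˣ ≃* GL (MI k b) F :=
  Units.mapEquiv (LinearMap.toMatrixAlgEquiv (Module.Basis.ofEquivFun (phi F k b))).toMulEquiv

theorem e1_mulVec (u : (Module.End F (MS F k b))ˣ) (z : MS F k b) :
    ((e1 F k b u : GL (MI k b) F) : Matrix (MI k b) (MI k b) F) *ᵥ (phi F k b z) =
      phi F k b ((u : Module.End F (MS F k b)) z) := by
  have h := LinearMap.toMatrix_mulVec_repr (Module.Basis.ofEquivFun (phi F k b))
    (Module.Basis.ofEquivFun (phi F k b)) (u : Module.End F (MS F k b)) z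
  have e : ∀ y : MS F k b, ⇑((Module.Basis.ofEquivFun (phi F k b)).repr y) = phi F k b y := by
    intro y
    funext p
    rw [Module.Basis.ofEquivFun_repr_apply]
  rw [e, e] at h
  exact h

theorem e1_mem (u : (Module.End F (MS F k b))ˣ)
    (h : ∀ z, QM F k b c ((u : Module.End F (MS F k b)) z) = QM F k b c z) :
    e1 F k b u ∈ Cfsg.isometryGroup F ⇑(Qm F k b c) := by
  rw [IsoTransfer.mem_iso]
  intro x
  obtain ⟨z, rfl⟩ := (phi F k b).surjective x
  rw [e1_mulVec, Qm_phi, Qm_phi, h]

end Cfsg.Agent.Lib.Helper5.OmSyl
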