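import Mathlib

set_option autoImplicit false

namespace Cfsg.Agent.Lib.Helper5.SylSym

open Equiv

/-- a subgroup generated by its elements of order dividing `p` -/
def GenP {G : Type*} [Group G] (p : ℕ) (H : Subgroup G) : Prop :=
  H ≤ Subgroup.closure {x | x ∈ H ∧ x ^ p = 1}

theorem GenP.map {G G' : Type*} [Group G] [Group G'] {p : ℕ} {H : Subgroup G} (h : GenP p H)
    (φ : G →* G') : GenP p (H.map φ) := by
  have key : ∀ y : G, y ∈ Subgroup.closure {x | x ∈ H ∧ x ^ p = 1} →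
      φ y ∈ Subgroup.closure {x | x ∈ H.map φ ∧ x ^ p = 1} := by
    intro y hy
    induction hy using Subgroup.closure_induction with
    | mem y hy =>
      apply Subgroup.subset_closure
      exact ⟨⟨y, hy.1, rfl⟩, by rw [← map_pow, hy.2, map_one]⟩
    | one => rw [map_one]; exact Subgroup.one_mem _
    | mul a b _ _ ha hb => rw [map_mul]; exact Subgroup.mul_mem _ ha hb
    | inv a _ ha => rw [map_inv]; exact Subgroup.inv_mem _ ha
  rintro _ ⟨x, hx, rfl⟩
  exact key x (h hx)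

theorem GenP.subgroupOf {G : Type*} [Group G] {p : ℕ} {H K : Subgroup G} (h : GenP p H)
    (hHK : H ≤ K) : GenP p (H.subgroupOf K) := by
  intro x hx
  rw [Subgroup.mem_subgroupOf] at hx
  have h1 := h hx
  have key : ∀ y : G, y ∈ Subgroup.closure {x | x ∈ H ∧ x ^ p = 1} → ∃ hy : y ∈ K,
      (⟨y, hy⟩ : K) ∈ Subgroup.closure {x : K | x ∈ H.subgroupOf K ∧ x ^ p = 1} := by
    intro y hy
    induction hy using Subgroup.closure_induction with
    | mem y hy =>
      refine ⟨hHK hy.1, Subgroup.subset_closure ⟨?_, ?_⟩⟩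
      · rw [Subgroup.mem_subgroupOf]
        exact hy.1
      · apply Subtype.ext
        rw [Subgroup.coe_pow]
        exact hy.2
    | one => exact ⟨K.one_mem, Subgroup.one_mem _⟩
    | mul a b _ _ ha hb =>
      obtain ⟨ha1, ha2⟩ := ha
      obtain ⟨hb1, hb2⟩ := hb
      exact ⟨K.mul_mem ha1 hb1, Subgroup.mul_mem _ ha2 hb2⟩
    | inv a _ ha =>
      obtain ⟨ha1, ha2⟩ := ha
      exact ⟨K.inv_mem ha1, Subgroup.inv_mem _ ha2⟩
  obtain ⟨hy, hy2⟩ := key x.1 h1
  exact hy2

/-- `p`-th powers lie in the derived subgroup of a group generated by elements of order `p` -/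
theorem pow_mem_commutator {G : Type*} [Group G] {p : ℕ} {H : Subgroup G} (h : GenP p H)
    (x : H) : x ^ p ∈ commutator H := by
  set π : H →* Abelianization H := Abelianization.of with hπ
  have key : ∀ y : G, y ∈ Subgroup.closure {x | x ∈ H ∧ x ^ p = 1} → ∃ hy : y ∈ H,
      (π ⟨y, hy⟩) ^ p = 1 := by
    intro y hy
    induction hy using Subgroup.closure_induction with
    | mem y hy =>
      refine ⟨hy.1, ?_⟩
      rw [← map_pow]
      have : (⟨y, hy.1⟩ : H) ^ p = 1 := by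
        apply Subtype.ext
        rw [Subgroup.coe_pow]
        exact hy.2
      rw [this, map_one]
    | one => exact ⟨H.one_mem, by rw [show (⟨1, H.one_mem⟩ : H) = 1 from rfl, map_one, one_pow]⟩
    | mul a b _ _ ha hb =>
      obtain ⟨ha1, ha2⟩ := ha
      obtain ⟨hb1, hb2⟩ := hb
      refine ⟨H.mul_mem ha1 hb1, ?_⟩
      rw [show (⟨a * b, H.mul_mem ha1 hb1⟩ : H) = ⟨a, ha1⟩ * ⟨b, hb1⟩ from rfl, map_mul, mul_pow,
        ha2, hb2, one_mul]
    | inv a _ ha =>
      obtain ⟨ha1, ha2⟩ := ha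
      refine ⟨H.inv_mem ha1, ?_⟩
      rw [show (⟨a⁻¹, H.inv_mem ha1⟩ : H) = (⟨a, ha1⟩ : H)⁻¹ from rfl, map_inv, inv_pow, ha2,
        inv_one]
  obtain ⟨hy, hy2⟩ := key x.1 (h x.2)
  have h3 : π (x ^ p) = 1 := by
    rw [map_pow]
    exact hy2
  rw [← Abelianization.ker_of H]
  exact h3

end Cfsg.Agent.Lib.Helper5.SylSym
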