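import Mathlib
import Cfsg.Agent.Lib.Helper5.SylSym1

set_option autoImplicit false

namespace Cfsg.Agent.Lib.Helper5.SylSym

open Equiv

variable (p : ℕ) [NeZero p] (β : Type*)

/-- fibre translations -/
def bHom : (β → Multiplicative (ZMod p)) →* Perm (β × ZMod p) where
  toFun f :=
    { toFun := fun x => (x.1, x.2 + Multiplicative.toAdd (f x.1))
      invFun := fun x => (x.1, x.2 - Multiplicative.toAdd (f x.1))
      left_inv := fun x => by simp
      right_inv := fun x => by simp }
  map_one' := by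
    ext x <;> simp
  map_mul' f g := by
    ext x
    · simp
    · simp only [Pi.mul_apply, toAdd_mul, coe_fn_mk, Perm.coe_mul, Function.comp_apply]
      rw [add_assoc, add_comm (Multiplicative.toAdd (f x.1))]

/-- permutations of the base -/
def tHom : Perm β →* Perm (β × ZMod p) where
  toFun τ := Equiv.prodCongr τ (Equiv.refl _)
  map_one' := by
    ext x <;> simp
  map_mul' f g := by
    ext x <;> simp

variable {p β}

theorem bHom_apply (f : β → Multiplicative (ZMod p)) (x : β × ZMod p) :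
    bHom p β f x = (x.1, x.2 + Multiplicative.toAdd (f x.1)) := rfl

theorem tHom_apply (τ : Perm β) (x : β × ZMod p) : tHom p β τ x = (τ x.1, x.2) := rfl

theorem bt_apply (f : β → Multiplicative (ZMod p)) (τ : Perm β) (x : β × ZMod p) :
    (bHom p β f * tHom p β τ) x = (τ x.1, x.2 + Multiplicative.toAdd (f (τ x.1))) := rfl

theorem inv_app {α : Type*} (f : Perm α) (x : α) : f⁻¹ (f x) = x := Perm.inv_eq_iff_eq.mpr rfl

theorem app_inv {α : Type*} (f : Perm α) (x : α) : f (f⁻¹ x) = x := (Equiv.eq_symm_apply f).mp rfl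

/-- the wreath product of `C_p` with `T` -/
def W (T : Subgroup (Perm β)) : Subgroup (Perm (β × ZMod p)) where
  carrier := {σ | ∃ f : β → Multiplicative (ZMod p), ∃ t ∈ T, σ = bHom p β f * tHom p β t}
  one_mem' := ⟨1, 1, T.one_mem, by rw [map_one, map_one, one_mul]⟩
  mul_mem' := by
    rintro _ _ ⟨f₁, t₁, ht₁, rfl⟩ ⟨f₂, t₂, ht₂, rfl⟩
    refine ⟨fun i => f₁ i * f₂ (t₁⁻¹ i), t₁ * t₂, T.mul_mem ht₁ ht₂, ?_⟩
    apply Equiv.ext
    intro x
    rw [Perm.mul_apply, bt_apply, bt_apply, bt_apply]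
    simp only [Perm.mul_apply, inv_app, toAdd_mul]
    rw [add_assoc, add_comm (Multiplicative.toAdd (f₂ _))]
  inv_mem' := by
    rintro _ ⟨f, t, ht, rfl⟩
    refine ⟨fun i => (f (t i))⁻¹, t⁻¹, T.inv_mem ht, ?_⟩
    rw [inv_eq_iff_mul_eq_one]
    apply Equiv.ext
    intro x
    rw [Perm.mul_apply, bt_apply, bt_apply]
    simp only [app_inv, toAdd_inv, Perm.one_apply]
    rw [add_assoc, neg_add_cancel, add_zero]

theorem mem_W {T : Subgroup (Perm β)} {σ : Perm (β × ZMod p)} :
    σ ∈ W (p := p) T ↔ ∃ f : β → Multiplicative (ZMod p), ∃ t ∈ T, σ = bHom p β f * tHom p β t :=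
  Iff.rfl

theorem card_W [Fintype β] (T : Subgroup (Perm β)) :
    Nat.card (W (p := p) T) = p ^ Fintype.card β * Nat.card T := by
  have e : ((β → Multiplicative (ZMod p)) × T) ≃ W (p := p) T := by
    refine Equiv.ofBijective
      (fun y => ⟨bHom p β y.1 * tHom p β y.2.1, ⟨y.1, y.2.1, y.2.2, rfl⟩⟩) ⟨?_, ?_⟩
    · rintro ⟨f₁, t₁⟩ ⟨f₂, t₂⟩ h
      have h1 : bHom p β f₁ * tHom p β t₁.1 = bHom p β f₂ * tHom p β t₂.1 :=
        congrArg Subtype.val h
      have ht : t₁.1 = t₂.1 := by
        ext i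
        have := congrArg (fun σ : Perm (β × ZMod p) => (σ (i, 0)).1) h1
        simp only [bt_apply] at this
        rw [this]
      have hf : f₁ = f₂ := by
        funext i
        have := congrArg (fun σ : Perm (β × ZMod p) => (σ (t₁.1⁻¹ i, 0)).2) h1
        simp only [bt_apply, zero_add] at this
        rw [← ht, app_inv] at this
        exact Multiplicative.toAdd.injective this
      exact Prod.ext hf (Subtype.ext ht)
    · rintro ⟨σ, f, t, ht, rfl⟩
      exact ⟨(f, ⟨t, ht⟩), rfl⟩
  rw [← Nat.card_congr e, Nat.card_prod, Nat.card_pi]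
  simp [Nat.card_eq_fintype_card, ZMod.card]

theorem bHom_pow (f : β → Multiplicative (ZMod p)) : (bHom p β f) ^ p = 1 := by
  rw [← map_pow]
  have : f ^ p = 1 := by
    funext i
    rw [Pi.pow_apply, Pi.one_apply]
    apply Multiplicative.toAdd.injective
    rw [toAdd_pow, toAdd_one]
    simp
  rw [this, map_one]

/-- `W T` is generated by elements of order dividing `p` if `T` is -/
theorem GenP_W {T : Subgroup (Perm β)} (hT : GenP p T) : GenP p (W (p := p) T) := by
  have key : ∀ t : Perm β, t ∈ Subgroup.closure {x | x ∈ T ∧ x ^ p = 1} →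
      tHom p β t ∈ Subgroup.closure {x | x ∈ W (p := p) T ∧ x ^ p = 1} := by
    intro t ht
    induction ht using Subgroup.closure_induction with
    | mem y hy =>
      apply Subgroup.subset_closure
      refine ⟨⟨1, y, hy.1, by rw [map_one, one_mul]⟩, ?_⟩
      rw [← map_pow, hy.2, map_one]
    | one => rw [map_one]; exact Subgroup.one_mem _
    | mul a b _ _ ha hb => rw [map_mul]; exact Subgroup.mul_mem _ ha hb
    | inv a _ ha => rw [map_inv]; exact Subgroup.inv_mem _ ha
  rintro _ ⟨f, t, ht, rfl⟩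
  apply Subgroup.mul_mem
  · apply Subgroup.subset_closure
    exact ⟨⟨f, 1, T.one_mem, by rw [map_one, mul_one]⟩, bHom_pow f⟩
  · exact key t (hT ht)

end Cfsg.Agent.Lib.Helper5.SylSym
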