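import Mathlib
import Cfsg.Agent.Lib.Helper5.SylSym2

set_option autoImplicit false

namespace Cfsg.Agent.Lib.Helper5.SylSym

open Equiv
open scoped Pointwise

/-- extension of a permutation by the identity -/
def extHom' (α γ : Type*) : Perm α →* Perm (α ⊕ γ) :=
  (Equiv.Perm.sumCongrHom α γ).comp (MonoidHom.inl _ _)

theorem extHom'_injective (α γ : Type*) : Function.Injective (extHom' α γ) := by
  unfold extHom'
  rw [MonoidHom.coe_comp]
  refine Equiv.Perm.sumCongrHom_injective.comp ?_
  intro x y hxy
  exact congrArg Prod.fst hxy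

/-- the embedding `Perm (Fin m × ZMod p) → Perm (Fin n)` for `n = m * p + n₀` -/
noncomputable def embHom (p : ℕ) [NeZero p] (m n₀ n : ℕ) (h : m * p + n₀ = n) :
    Perm (Fin m × ZMod p) →* Perm (Fin n) :=
  ((Equiv.permCongrHom (Fintype.equivFinOfCardEq (α := (Fin m × ZMod p) ⊕ Fin n₀)
    (by simp [ZMod.card, h]))).toMonoidHom).comp (extHom' _ _)

theorem embHom_injective (p : ℕ) [NeZero p] (m n₀ n : ℕ) (h : m * p + n₀ = n) :
    Function.Injective (embHom p m n₀ n h) := by
  unfold embHom
  rw [MonoidHom.coe_comp]
  exact (MulEquiv.injective _).comp (extHom'_injective _ _)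

theorem padicVal_step (p : ℕ) [Fact p.Prime] (n : ℕ) :
    padicValNat p n.factorial = padicValNat p (n / p).factorial + n / p := by
  have h1 : n = p * (n / p) + n % p := (Nat.div_add_mod n p).symm
  conv_lhs => rw [h1]
  rw [padicValNat_factorial_mul_add _ (Nat.mod_lt _ (Fact.out : p.Prime).pos),
    padicValNat_factorial_mul]

theorem card_sylow_perm (p : ℕ) [Fact p.Prime] (n : ℕ) (P : Sylow p (Perm (Fin n))) :
    Nat.card P = p ^ padicValNat p n.factorial := by
  rw [P.card_eq_multiplicity, Nat.card_perm, Nat.card_eq_fintype_card, Fintype.card_fin,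
    Nat.factorization_def _ (Fact.out : p.Prime)]

/-- some Sylow `p`-subgroup of the symmetric group is generated by elements of order `p` -/
theorem exists_sylow_GenP (p : ℕ) [Fact p.Prime] :
    ∀ n : ℕ, ∃ P : Sylow p (Perm (Fin n)), GenP p (P : Subgroup (Perm (Fin n))) := by
  have hp : p.Prime := Fact.out
  haveI : NeZero p := ⟨hp.ne_zero⟩
  intro n
  induction n using Nat.strong_induction_on with
  | _ n ih =>
    by_cases hm : n / p = 0
    · obtain ⟨P⟩ : Nonempty (Sylow p (Perm (Fin n))) := inferInstance
      refine ⟨P, ?_⟩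
      have hc := card_sylow_perm p n P
      rw [padicVal_step, hm, Nat.factorial_zero] at hc
      simp at hc
      have hbot : (P : Subgroup (Perm (Fin n))) = ⊥ := hc
      intro x hx
      rw [hbot, Subgroup.mem_bot] at hx
      rw [hx]
      exact Subgroup.one_mem _
    · have hlt : n / p < n := Nat.div_lt_self (by
        by_contra h0
        have : n = 0 := by omega
        rw [this] at hm
        simp at hm) hp.one_lt
      obtain ⟨T, hT⟩ := ih (n / p) hlt
      have hn : n / p * p + n % p = n := Nat.div_add_mod' n p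
      set Φ := embHom p (n / p) (n % p) n hn with hΦ
      have hcard : Nat.card ((W (p := p) (T : Subgroup (Perm (Fin (n / p))))).map Φ) =
          p ^ (Nat.card (Perm (Fin n))).factorization p := by
        rw [Subgroup.card_map_of_injective (embHom_injective p _ _ n hn), card_W,
          card_sylow_perm p _ T, Fintype.card_fin, Nat.card_perm, Nat.card_eq_fintype_card,
          Fintype.card_fin, Nat.factorization_def _ hp, padicVal_step p n, ← pow_add, add_comm]
      refine ⟨Sylow.ofCard _ hcard, ?_⟩
      exact (GenP_W hT).map Φ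

/-- every Sylow `p`-subgroup of the symmetric group is generated by elements of order `p` -/
theorem sylow_GenP (p : ℕ) [Fact p.Prime] (n : ℕ) (P : Sylow p (Perm (Fin n))) :
    GenP p (P : Subgroup (Perm (Fin n))) := by
  obtain ⟨P₀, hP₀⟩ := exists_sylow_GenP p n
  obtain ⟨g, hg⟩ := MulAction.exists_smul_eq (Perm (Fin n)) P₀ P
  have e1 : (P : Subgroup (Perm (Fin n))) =
      (P₀ : Subgroup (Perm (Fin n))).map (MulAut.conj g).toMonoidHom := by
    rw [← hg]
    rfl
  rw [e1]
  exact hP₀.map _

end Cfsg.Agent.Lib.Helper5.SylSym
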