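import Mathlib
import Cfsg.Agent.Lib.Helper5.SylSym3

set_option autoImplicit false

namespace Cfsg.Agent.Lib.Helper5.SylSym

open Equiv

/-- generated by a set of involutions whose odd members pairwise commute -/
def GenInv {α : Type*} [Fintype α] [DecidableEq α] (H : Subgroup (Perm α)) : Prop :=
  ∃ S : Set (Perm α), Subgroup.closure S = H ∧ (∀ s ∈ S, s ^ 2 = 1) ∧
    ∀ s ∈ S, ∀ t ∈ S, Perm.sign s = -1 → Perm.sign t = -1 → s * t = t * s

theorem GenInv.map {α α' : Type*} [Fintype α] [DecidableEq α] [Fintype α'] [DecidableEq α']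
    {H : Subgroup (Perm α)} (h : GenInv H) (φ : Perm α →* Perm α')
    (hφ : ∀ σ, Perm.sign (φ σ) = Perm.sign σ) : GenInv (H.map φ) := by
  obtain ⟨S, hS, hinv, hcomm⟩ := h
  refine ⟨φ '' S, ?_, ?_, ?_⟩
  · rw [← MonoidHom.map_closure, hS]
  · rintro _ ⟨s, hs, rfl⟩
    rw [← map_pow, hinv s hs, map_one]
  · rintro _ ⟨s, hs, rfl⟩ _ ⟨t, ht, rfl⟩ h1 h2
    rw [hφ] at h1 h2
    rw [← map_mul, ← map_mul, hcomm s hs t ht h1 h2]

theorem GenInv_bot {α : Type*} [Fintype α] [DecidableEq α] : GenInv (⊥ : Subgroup (Perm α)) :=
  ⟨∅, Subgroup.closure_empty, fun s hs => absurd hs (Set.notMem_empty s),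
    fun s hs => absurd hs (Set.notMem_empty s)⟩

/-- the even part of a group generated by such involutions is generated by involutions -/
theorem GenP_inf_alt {α : Type*} [Fintype α] [DecidableEq α] {H : Subgroup (Perm α)}
    (h : GenInv H) : GenP 2 (H ⊓ alternatingGroup α) := by
  obtain ⟨S, hS, hinv, hcomm⟩ := h
  have hSH : S ⊆ H := by
    rw [← hS]
    exact Subgroup.subset_closure
  by_cases hodd : ∃ t₁ ∈ S, Perm.sign t₁ = -1
  · obtain ⟨t₁, ht₁S, ht₁⟩ := hodd
    have ht₁sq : t₁ * t₁ = 1 := by rw [← pow_two, hinv t₁ ht₁S]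
    have ht₁H : t₁ ∈ H := hSH ht₁S
    set X : Set (Perm α) := {s | s ∈ S ∧ Perm.sign s = 1} ∪
      {x | ∃ s ∈ S, Perm.sign s = 1 ∧ x = t₁ * s * t₁} ∪
      {x | ∃ t ∈ S, Perm.sign t = -1 ∧ x = t * t₁} with hX
    set K := Subgroup.closure X with hK
    -- generators are even involutions in `H`
    have hXprop : ∀ x ∈ X, x ∈ H ⊓ alternatingGroup α ∧ x ^ 2 = 1 := by
      rintro x ((⟨hs, hsg⟩ | ⟨s, hs, hsg, rfl⟩) | ⟨t, ht, htg, rfl⟩)
      · exact ⟨⟨hSH hs, Perm.mem_alternatingGroup.2 hsg⟩, hinv x hs⟩
      · refine ⟨⟨H.mul_mem (H.mul_mem ht₁H (hSH hs)) ht₁H, ?_⟩, ?_⟩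
        · show t₁ * s * t₁ ∈ alternatingGroup α
          rw [Perm.mem_alternatingGroup, map_mul, map_mul, hsg, ht₁]
          rfl
        · have hss : s * s = 1 := by rw [← pow_two, hinv s hs]
          calc (t₁ * s * t₁) ^ 2 = t₁ * s * (t₁ * t₁) * s * t₁ := by rw [pow_two]; group
            _ = t₁ * (s * s) * t₁ := by rw [ht₁sq]; group
            _ = 1 := by rw [hss, mul_one, ht₁sq]
      · refine ⟨⟨H.mul_mem (hSH ht) ht₁H, ?_⟩, ?_⟩
        · show t * t₁ ∈ alternatingGroup α
          rw [Perm.mem_alternatingGroup, map_mul, htg, ht₁]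
          rfl
        · have htt : t * t = 1 := by rw [← pow_two, hinv t ht]
          have hc := hcomm t ht t₁ ht₁S htg ht₁
          calc (t * t₁) ^ 2 = t * (t₁ * t) * t₁ := by rw [pow_two]; group
            _ = t * (t * t₁) * t₁ := by rw [hc]
            _ = (t * t) * (t₁ * t₁) := by group
            _ = 1 := by rw [htt, ht₁sq, mul_one]
    -- `K` is normalised by `t₁`
    have hnorm : ∀ k ∈ K, t₁ * k * t₁ ∈ K := by
      intro k hk
      induction hk using Subgroup.closure_induction with
      | mem x hx =>
        rcases hx with (⟨hs, hsg⟩ | ⟨s, hs, hsg, rfl⟩) | ⟨t, ht, htg, rfl⟩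
        · exact Subgroup.subset_closure (Or.inl (Or.inr ⟨x, hs, hsg, rfl⟩))
        · have : t₁ * (t₁ * s * t₁) * t₁ = s := by
            calc t₁ * (t₁ * s * t₁) * t₁ = (t₁ * t₁) * s * (t₁ * t₁) := by group
              _ = s := by rw [ht₁sq, one_mul, mul_one]
          rw [this]
          exact Subgroup.subset_closure (Or.inl (Or.inl ⟨hs, hsg⟩))
        · have hc := hcomm t ht t₁ ht₁S htg ht₁
          have : t₁ * (t * t₁) * t₁ = t * t₁ := by
            calc t₁ * (t * t₁) * t₁ = (t₁ * t) * (t₁ * t₁) := by group
              _ = t * t₁ := by rw [ht₁sq, mul_one, hc]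
          rw [this]
          exact Subgroup.subset_closure (Or.inr ⟨t, ht, htg, rfl⟩)
      | one =>
        rw [mul_one, ht₁sq]
        exact Subgroup.one_mem _
      | mul a b _ _ ha hb =>
        have : t₁ * (a * b) * t₁ = (t₁ * a * t₁) * (t₁ * b * t₁) := by
          calc t₁ * (a * b) * t₁ = t₁ * a * 1 * b * t₁ := by group
            _ = t₁ * a * (t₁ * t₁) * b * t₁ := by rw [ht₁sq]
            _ = _ := by group
        rw [this]
        exact Subgroup.mul_mem _ ha hb
      | inv a _ ha =>
        have hinv1 : t₁⁻¹ = t₁ := inv_eq_of_mul_eq_one_right ht₁sq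
        have : t₁ * a⁻¹ * t₁ = (t₁ * a * t₁)⁻¹ := by
          rw [mul_inv_rev, mul_inv_rev, hinv1, mul_assoc]
        rw [this]
        exact Subgroup.inv_mem _ ha
    -- the main claim
    have key : ∀ x : Perm α, x ∈ Subgroup.closure S →
        (Perm.sign x = 1 → x ∈ K) ∧ (Perm.sign x = -1 → x * t₁ ∈ K) := by
      intro x hx
      induction hx using Subgroup.closure_induction with
      | mem s hs =>
        constructor
        · intro hsg
          exact Subgroup.subset_closure (Or.inl (Or.inl ⟨hs, hsg⟩))
        · intro hsg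
          exact Subgroup.subset_closure (Or.inr ⟨s, hs, hsg, rfl⟩)
      | one =>
        constructor
        · intro _
          exact Subgroup.one_mem _
        · intro h1
          rw [map_one] at h1
          exact absurd h1 (by decide)
      | mul a b _ _ ha hb =>
        rcases Int.units_eq_one_or (Perm.sign a) with sa | sa <;>
        rcases Int.units_eq_one_or (Perm.sign b) with sb | sb
        · constructor
          · intro _
            exact Subgroup.mul_mem _ (ha.1 sa) (hb.1 sb)
          · intro h1
            rw [map_mul, sa, sb] at h1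
            exact absurd h1 (by decide)
        · constructor
          · intro h1
            rw [map_mul, sa, sb] at h1
            exact absurd h1 (by decide)
          · intro _
            rw [mul_assoc]
            exact Subgroup.mul_mem _ (ha.1 sa) (hb.2 sb)
        · constructor
          · intro h1
            rw [map_mul, sa, sb] at h1
            exact absurd h1 (by decide)
          · intro _
            have : a * b * t₁ = (a * t₁) * (t₁ * b * t₁) := by
              calc a * b * t₁ = a * 1 * b * t₁ := by group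
                _ = a * (t₁ * t₁) * b * t₁ := by rw [ht₁sq]
                _ = _ := by group
            rw [this]
            exact Subgroup.mul_mem _ (ha.2 sa) (hnorm b (hb.1 sb))
        · constructor
          · intro _
            have : a * b = (a * t₁) * (t₁ * (b * t₁) * t₁) := by
              calc a * b = a * 1 * b * 1 := by group
                _ = a * (t₁ * t₁) * b * (t₁ * t₁) := by rw [ht₁sq]
                _ = _ := by group
            rw [this]
            exact Subgroup.mul_mem _ (ha.2 sa) (hnorm _ (hb.2 sb))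
          · intro h1
            rw [map_mul, sa, sb] at h1
            exact absurd h1 (by decide)
      | inv a _ ha =>
        have hinv1 : t₁⁻¹ = t₁ := inv_eq_of_mul_eq_one_right ht₁sq
        constructor
        · intro h1
          rw [map_inv, inv_eq_one] at h1
          exact Subgroup.inv_mem _ (ha.1 h1)
        · intro h1
          rw [map_inv] at h1
          have h2 : Perm.sign a = -1 := by
            rw [← inv_inv (Perm.sign a), h1]
            rfl
          have h3 := hnorm _ (ha.2 h2)
          have : a⁻¹ * t₁ = (t₁ * (a * t₁) * t₁)⁻¹ := by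
            have e : t₁ * (a * t₁) * t₁ = t₁ * a := by
              calc t₁ * (a * t₁) * t₁ = t₁ * a * (t₁ * t₁) := by group
                _ = t₁ * a := by rw [ht₁sq, mul_one]
            rw [e, mul_inv_rev, hinv1]
          rw [this]
          exact Subgroup.inv_mem _ h3
    rintro x ⟨hxH, hxA⟩
    have hxK : x ∈ K := (key x (by rw [hS]; exact hxH)).1 (Perm.mem_alternatingGroup.1 hxA)
    exact Subgroup.closure_mono (fun y hy => hXprop y hy) hxK
  · push Not at hodd
    have hSeven : ∀ s ∈ S, Perm.sign s = 1 := by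
      intro s hs
      rcases Int.units_eq_one_or (Perm.sign s) with h | h
      · exact h
      · exact absurd h (hodd s hs)
    have hHA : H ≤ alternatingGroup α := by
      rw [← hS, Subgroup.closure_le]
      intro s hs
      exact Perm.mem_alternatingGroup.2 (hSeven s hs)
    rintro x ⟨hxH, -⟩
    rw [← hS] at hxH
    refine Subgroup.closure_mono ?_ hxH
    intro s hs
    exact ⟨⟨hSH hs, hHA (hSH hs)⟩, hinv s hs⟩

end Cfsg.Agent.Lib.Helper5.SylSym
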