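import Mathlib
import Cfsg.Agent.Lib.Helper5.SylSym4

set_option autoImplicit false

namespace Cfsg.Agent.Lib.Helper5.SylSym

open Equiv

theorem sign_tHom_two {β : Type*} [Fintype β] [DecidableEq β] (τ : Perm β) :
    Perm.sign (tHom 2 β τ) = 1 := by
  have : tHom 2 β τ = Equiv.prodCongrLeft (fun _ : ZMod 2 => τ) := by
    ext x <;> rfl
  rw [this, Perm.sign_prodCongrLeft]
  simp only [Finset.prod_const, Finset.card_univ, ZMod.card]
  rw [pow_two]
  exact Int.units_mul_self _

theorem sign_bHom_single {β : Type*} [Fintype β] [DecidableEq β] (i : β) :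
    Perm.sign (bHom 2 β (Pi.mulSingle i (Multiplicative.ofAdd 1))) = -1 := by
  have : bHom 2 β (Pi.mulSingle i (Multiplicative.ofAdd 1)) = Equiv.swap (i, 0) (i, 1) := by
    apply Equiv.ext
    rintro ⟨j, a⟩
    rw [bHom_apply]
    by_cases hj : j = i
    · subst hj
      simp only [Pi.mulSingle_eq_same, toAdd_ofAdd]
      have ha : a = 0 ∨ a = 1 := by
        revert a
        decide
      rcases ha with rfl | rfl
      · rw [Equiv.swap_apply_left, zero_add]
      · rw [Equiv.swap_apply_right]
        congr 1
    · rw [Pi.mulSingle_eq_of_ne hj]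
      rw [Equiv.swap_apply_of_ne_of_ne]
      · simp
      · intro h
        exact hj (congrArg Prod.fst h)
      · intro h
        exact hj (congrArg Prod.fst h)
  rw [this, Perm.sign_swap]
  intro h
  have := congrArg Prod.snd h
  simp at this

end Cfsg.Agent.Lib.Helper5.SylSym

namespace Cfsg.Agent.Lib.Helper5.SylSym

open Equiv

theorem GenInv_W {β : Type*} [Fintype β] [DecidableEq β] {T : Subgroup (Perm β)}
    (hT : GenInv T) : GenInv (W (p := 2) T) := by
  obtain ⟨S, hS, hinv, hcomm⟩ := hT
  set B : Set (Perm (β × ZMod 2)) :=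
    Set.range (fun i : β => bHom 2 β (Pi.mulSingle i (Multiplicative.ofAdd 1))) with hB
  refine ⟨B ∪ tHom 2 β '' S, ?_, ?_, ?_⟩
  · apply le_antisymm
    · rw [Subgroup.closure_le]
      rintro x (⟨i, rfl⟩ | ⟨s, hs, rfl⟩)
      · exact ⟨_, 1, T.one_mem, by rw [(tHom 2 β).map_one, mul_one]⟩
      · refine ⟨1, s, ?_, by rw [(bHom 2 β).map_one, one_mul]⟩
        rw [← hS]
        exact Subgroup.subset_closure hs
    · rintro _ ⟨f, t, ht, rfl⟩
      apply Subgroup.mul_mem
      · have hf : f = ∏ i, Pi.mulSingle i (f i) := (Finset.univ_prod_mulSingle f).symm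
        have hmem : f ∈ (Subgroup.closure (B ∪ tHom 2 β '' S)).comap (bHom 2 β) := by
          rw [hf]
          apply Subgroup.prod_mem
          intro i _
          rw [Subgroup.mem_comap]
          have ha : f i = 1 ∨ f i = Multiplicative.ofAdd 1 := by
            generalize f i = a
            revert a
            decide
          rcases ha with h1 | h1
          · rw [h1, Pi.mulSingle_one, (bHom 2 β).map_one]
            exact Subgroup.one_mem _
          · rw [h1]
            exact Subgroup.subset_closure (Or.inl ⟨i, rfl⟩)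
        exact hmem
      · have key : ∀ t : Perm β, t ∈ Subgroup.closure S →
            tHom 2 β t ∈ Subgroup.closure (B ∪ tHom 2 β '' S) := by
          intro t ht
          induction ht using Subgroup.closure_induction with
          | mem y hy => exact Subgroup.subset_closure (Or.inr ⟨y, hy, rfl⟩)
          | one => rw [map_one]; exact Subgroup.one_mem _
          | mul a b _ _ ha hb => rw [map_mul]; exact Subgroup.mul_mem _ ha hb
          | inv a _ ha => rw [map_inv]; exact Subgroup.inv_mem _ ha
        apply key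
        rw [hS]
        exact ht
  · rintro x (⟨i, rfl⟩ | ⟨s, hs, rfl⟩)
    · exact bHom_pow _
    · rw [← map_pow, hinv s hs, map_one]
  · rintro x (⟨i, rfl⟩ | ⟨s, hs, rfl⟩) y (⟨j, rfl⟩ | ⟨s', hs', rfl⟩) hx hy
    · rw [← map_mul, ← map_mul, mul_comm]
    · rw [sign_tHom_two] at hy
      exact absurd hy (by decide)
    · rw [sign_tHom_two] at hx
      exact absurd hx (by decide)
    · rw [sign_tHom_two] at hx
      exact absurd hx (by decide)

theorem sign_extHom' {α γ : Type*} [Fintype α] [DecidableEq α] [Fintype γ] [DecidableEq γ]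
    (σ : Perm α) : Perm.sign (extHom' α γ σ) = Perm.sign σ := by
  have : extHom' α γ σ = Equiv.sumCongr σ 1 := rfl
  rw [this, Perm.sign_sumCongr, map_one, mul_one]

theorem sign_embHom (p : ℕ) [NeZero p] (m n₀ n : ℕ) (h : m * p + n₀ = n)
    (σ : Perm (Fin m × ZMod p)) : Perm.sign (embHom p m n₀ n h σ) = Perm.sign σ := by
  unfold embHom
  rw [MonoidHom.comp_apply]
  have : ∀ (e : (Fin m × ZMod p) ⊕ Fin n₀ ≃ Fin n) (τ : Perm ((Fin m × ZMod p) ⊕ Fin n₀)),
      (Equiv.permCongrHom e).toMonoidHom τ = e.permCongr τ := fun _ _ => rfl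
  rw [this, Perm.sign_permCongr, sign_extHom']

end Cfsg.Agent.Lib.Helper5.SylSym

namespace Cfsg.Agent.Lib.Helper5.SylSym

open Equiv

/-- some Sylow `2`-subgroup of the symmetric group is generated by involutions whose odd members
commute -/
theorem exists_sylow_GenInv :
    ∀ n : ℕ, ∃ P : Sylow 2 (Perm (Fin n)), GenInv (P : Subgroup (Perm (Fin n))) := by
  haveI : Fact (Nat.Prime 2) := ⟨Nat.prime_two⟩
  have hp : (2 : ℕ).Prime := Nat.prime_two
  intro n
  induction n using Nat.strong_induction_on with
  | _ n ih =>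
    by_cases hm : n / 2 = 0
    · obtain ⟨P⟩ : Nonempty (Sylow 2 (Perm (Fin n))) := inferInstance
      refine ⟨P, ?_⟩
      have hc := card_sylow_perm 2 n P
      rw [padicVal_step, hm, Nat.factorial_zero] at hc
      simp at hc
      have hbot : (P : Subgroup (Perm (Fin n))) = ⊥ := hc
      rw [hbot]
      exact GenInv_bot
    · have hlt : n / 2 < n := by omega
      obtain ⟨T, hT⟩ := ih (n / 2) hlt
      have hn : n / 2 * 2 + n % 2 = n := Nat.div_add_mod' n 2
      set Φ := embHom 2 (n / 2) (n % 2) n hn with hΦ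
      have hcard : Nat.card ((W (p := 2) (T : Subgroup (Perm (Fin (n / 2))))).map Φ) =
          2 ^ (Nat.card (Perm (Fin n))).factorization 2 := by
        rw [Subgroup.card_map_of_injective (embHom_injective 2 _ _ n hn), card_W,
          card_sylow_perm 2 _ T, Fintype.card_fin, Nat.card_perm, Nat.card_eq_fintype_card,
          Fintype.card_fin, Nat.factorization_def _ hp, padicVal_step 2 n, ← pow_add, add_comm]
      refine ⟨Sylow.ofCard _ hcard, ?_⟩
      exact (GenInv_W hT).map Φ (sign_embHom 2 _ _ n hn)

end Cfsg.Agent.Lib.Helper5.SylSym
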