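import Mathlib
import Cfsg.Agent.Lib.Helper5.SylSym5

set_option autoImplicit false

namespace Cfsg.Agent.Lib.Helper5.SylSym

open Equiv

/-- for odd `p`, a `p`-subgroup of the symmetric group consists of even permutations -/
theorem le_alt_of_odd {α : Type*} [Fintype α] [DecidableEq α] {p : ℕ} [Fact p.Prime]
    (hp2 : p ≠ 2) {H : Subgroup (Perm α)} (hH : IsPGroup p H) : H ≤ alternatingGroup α := by
  intro x hx
  rw [Perm.mem_alternatingGroup]
  obtain ⟨k, hk⟩ := hH ⟨x, hx⟩
  have h1 : x ^ p ^ k = 1 := by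
    have := congrArg Subtype.val hk
    rwa [Subgroup.coe_pow] at this
  have h2 : Perm.sign x ^ p ^ k = 1 := by rw [← map_pow, h1, map_one]
  have hodd : Odd (p ^ k) := ((Fact.out : p.Prime).odd_of_ne_two hp2).pow
  rcases Int.units_eq_one_or (Perm.sign x) with h | h
  · exact h
  · rw [h, hodd.neg_one_pow] at h2
    exact absurd h2 (by decide)

theorem sylow_inf_alt_GenP (p : ℕ) [Fact p.Prime] (n : ℕ) (P : Sylow p (Perm (Fin n))) :
    GenP p ((P : Subgroup (Perm (Fin n))) ⊓ alternatingGroup (Fin n)) := by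
  by_cases hp2 : p = 2
  · subst hp2
    obtain ⟨P₀, hP₀⟩ := exists_sylow_GenInv n
    obtain ⟨g, hg⟩ := MulAction.exists_smul_eq (Perm (Fin n)) P₀ P
    have e1 : (P : Subgroup (Perm (Fin n))) =
        (P₀ : Subgroup (Perm (Fin n))).map (MulAut.conj g).toMonoidHom := by
      rw [← hg]
      rfl
    have e2 : (P : Subgroup (Perm (Fin n))) ⊓ alternatingGroup (Fin n) =
        ((P₀ : Subgroup (Perm (Fin n))) ⊓ alternatingGroup (Fin n)).map
          (MulAut.conj g).toMonoidHom := by
      rw [e1]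
      ext x
      constructor
      · rintro ⟨⟨y, hy, rfl⟩, h2⟩
        refine ⟨y, ⟨hy, ?_⟩, rfl⟩
        have h3 : Perm.sign ((MulAut.conj g).toMonoidHom y) = 1 := Perm.mem_alternatingGroup.1 h2
        show y ∈ alternatingGroup (Fin n)
        rw [Perm.mem_alternatingGroup]
        rw [← h3]
        show Perm.sign y = Perm.sign (g * y * g⁻¹)
        rw [map_mul, map_mul, map_inv, mul_comm (Perm.sign g), mul_assoc, mul_inv_cancel, mul_one]
      · rintro ⟨y, ⟨hy, hy2⟩, rfl⟩
        refine ⟨⟨y, hy, rfl⟩, ?_⟩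
        show (MulAut.conj g).toMonoidHom y ∈ alternatingGroup (Fin n)
        rw [Perm.mem_alternatingGroup]
        show Perm.sign (g * y * g⁻¹) = 1
        rw [map_mul, map_mul, map_inv, mul_comm (Perm.sign g), mul_assoc, mul_inv_cancel, mul_one]
        exact Perm.mem_alternatingGroup.1 hy2
    rw [e2]
    exact (GenP_inf_alt hP₀).map _
  · have : (P : Subgroup (Perm (Fin n))) ⊓ alternatingGroup (Fin n) = P :=
      inf_eq_left.2 (le_alt_of_odd hp2 P.isPGroup')
    rw [this]
    exact sylow_GenP p n P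

theorem sylow_alt_GenP (p : ℕ) [Fact p.Prime] (n : ℕ) (Q : Sylow p (alternatingGroup (Fin n))) :
    GenP p (Q : Subgroup (alternatingGroup (Fin n))) := by
  have hQ' : IsPGroup p ((Q : Subgroup (alternatingGroup (Fin n))).map
      (alternatingGroup (Fin n)).subtype) := Q.isPGroup'.map _
  obtain ⟨P, hP⟩ := hQ'.exists_le_sylow
  set R : Subgroup (Perm (Fin n)) := (P : Subgroup (Perm (Fin n))) ⊓ alternatingGroup (Fin n)
    with hR
  have hRp : IsPGroup p (R.subgroupOf (alternatingGroup (Fin n))) := by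
    have h1 : IsPGroup p R := P.isPGroup'.to_le inf_le_left
    exact h1.comap_of_injective _ (Subgroup.subtype_injective _)
  have hle : (Q : Subgroup (alternatingGroup (Fin n))) ≤ R.subgroupOf (alternatingGroup (Fin n)) := by
    intro x hx
    rw [Subgroup.mem_subgroupOf]
    exact ⟨hP ⟨x, hx, rfl⟩, x.2⟩
  have heq : (Q : Subgroup (alternatingGroup (Fin n))) = R.subgroupOf (alternatingGroup (Fin n)) :=
    Q.is_maximal' hRp hle |>.symm
  rw [heq]
  exact (sylow_inf_alt_GenP p n P).subgroupOf inf_le_right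

end Cfsg.Agent.Lib.Helper5.SylSym
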