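import Mathlib

set_option autoImplicit false

namespace Cfsg.Agent.Lib.Helper5.WrP

open Equiv

/-- the data of a wreath product `A ≀ Perm ι` realised inside a group `G` -/
structure WrData (A ι G : Type*) [Group A] [Group G] where
  β : (ι → A) →* G
  π : Perm ι →* G
  conj : ∀ (t : Perm ι) (f : ι → A), π t * β f * (π t)⁻¹ = β (fun i => f (t⁻¹ i))
  inj : ∀ (f : ι → A) (t : Perm ι), β f * π t = 1 → f = 1 ∧ t = 1

variable {A ι G : Type*} [Group A] [Group G] (D : WrData A ι G)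

namespace WrData

theorem pi_mul_beta (t : Perm ι) (f : ι → A) : D.π t * D.β f = D.β (fun i => f (t⁻¹ i)) * D.π t := by
  rw [← D.conj t f]
  group

theorem mul_formula (f f' : ι → A) (t t' : Perm ι) :
    (D.β f * D.π t) * (D.β f' * D.π t') = D.β (f * fun i => f' (t⁻¹ i)) * D.π (t * t') := by
  rw [map_mul, map_mul]
  calc D.β f * D.π t * (D.β f' * D.π t') = D.β f * (D.π t * D.β f') * D.π t' := by group
    _ = D.β f * (D.β (fun i => f' (t⁻¹ i)) * D.π t) * D.π t' := by rw [D.pi_mul_beta]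
    _ = _ := by group

theorem inv_formula (f : ι → A) (t : Perm ι) :
    (D.β f * D.π t)⁻¹ = D.β (fun i => (f (t i))⁻¹) * D.π t⁻¹ := by
  rw [inv_eq_iff_mul_eq_one, mul_formula]
  have : (f * fun i => (fun i => (f (t i))⁻¹) (t⁻¹ i)) = 1 := by
    funext i
    simp only [Pi.mul_apply, Pi.one_apply]
    rw [show t (t⁻¹ i) = i from (Equiv.eq_symm_apply t).mp rfl, mul_inv_cancel]
  rw [this, map_one, mul_inv_cancel, map_one, mul_one]

theorem eq_iff (f f' : ι → A) (t t' : Perm ι) :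
    D.β f * D.π t = D.β f' * D.π t' ↔ f = f' ∧ t = t' := by
  constructor
  · intro h
    have h1 : (D.β f' * D.π t')⁻¹ * (D.β f * D.π t) = 1 := by rw [h, inv_mul_cancel]
    rw [inv_formula, mul_formula] at h1
    obtain ⟨h2, h3⟩ := D.inj _ _ h1
    have ht : t = t' := by
      rw [inv_mul_eq_one] at h3
      exact h3.symm
    refine ⟨?_, ht⟩
    funext i
    have := congrFun h2 (t'⁻¹ i)
    simp only [Pi.mul_apply, Pi.one_apply, inv_inv] at this
    rw [show t' (t'⁻¹ i) = i from (Equiv.eq_symm_apply t').mp rfl, inv_mul_eq_one] at this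
    exact this.symm
  · rintro ⟨rfl, rfl⟩
    rfl

/-- the wreath product `Q ≀ T` inside `G` -/
def W (Q : Subgroup A) (T : Subgroup (Perm ι)) : Subgroup G where
  carrier := {g | ∃ f : ι → A, (∀ i, f i ∈ Q) ∧ ∃ t ∈ T, g = D.β f * D.π t}
  one_mem' := ⟨1, fun _ => Q.one_mem, 1, T.one_mem, by rw [map_one, map_one, one_mul]⟩
  mul_mem' := by
    rintro _ _ ⟨f, hf, t, ht, rfl⟩ ⟨f', hf', t', ht', rfl⟩
    exact ⟨_, fun i => Q.mul_mem (hf i) (hf' _), t * t', T.mul_mem ht ht', D.mul_formula f f' t t'⟩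
  inv_mem' := by
    rintro _ ⟨f, hf, t, ht, rfl⟩
    exact ⟨_, fun i => Q.inv_mem (hf _), t⁻¹, T.inv_mem ht, D.inv_formula f t⟩

theorem mem_W {Q : Subgroup A} {T : Subgroup (Perm ι)} {g : G} :
    g ∈ D.W Q T ↔ ∃ f : ι → A, (∀ i, f i ∈ Q) ∧ ∃ t ∈ T, g = D.β f * D.π t := Iff.rfl

theorem W_mono {Q Q' : Subgroup A} {T T' : Subgroup (Perm ι)} (hQ : Q ≤ Q') (hT : T ≤ T') :
    D.W Q T ≤ D.W Q' T' := by
  rintro _ ⟨f, hf, t, ht, rfl⟩
  exact ⟨f, fun i => hQ (hf i), t, hT ht, rfl⟩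

theorem W_bot_bot : D.W ⊥ ⊥ = ⊥ := by
  rw [eq_bot_iff]
  rintro _ ⟨f, hf, t, ht, rfl⟩
  rw [Subgroup.mem_bot] at ht ⊢
  have : f = 1 := by
    funext i
    exact (Subgroup.mem_bot.1 (hf i))
  rw [this, ht, map_one, map_one, one_mul]

theorem beta_mem {Q : Subgroup A} {T : Subgroup (Perm ι)} {f : ι → A} (hf : ∀ i, f i ∈ Q) :
    D.β f ∈ D.W Q T :=
  ⟨f, hf, 1, T.one_mem, by rw [map_one, mul_one]⟩

theorem pi_mem {Q : Subgroup A} {T : Subgroup (Perm ι)} {t : Perm ι} (ht : t ∈ T) :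
    D.π t ∈ D.W Q T :=
  ⟨1, fun _ => Q.one_mem, t, ht, by rw [map_one, one_mul]⟩

theorem card_W [Fintype ι] (Q : Subgroup A) (T : Subgroup (Perm ι)) :
    Nat.card (D.W Q T) = Nat.card Q ^ Fintype.card ι * Nat.card T := by
  have e : ((ι → Q) × T) ≃ D.W Q T := by
    refine Equiv.ofBijective
      (fun y => ⟨D.β (fun i => (y.1 i : A)) * D.π y.2.1,
        ⟨fun i => (y.1 i : A), fun i => (y.1 i).2, y.2.1, y.2.2, rfl⟩⟩) ⟨?_, ?_⟩
    · rintro ⟨f₁, t₁⟩ ⟨f₂, t₂⟩ h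
      have h1 := congrArg Subtype.val h
      simp only at h1
      rw [D.eq_iff] at h1
      refine Prod.ext ?_ (Subtype.ext h1.2)
      funext i
      exact Subtype.ext (congrFun h1.1 i)
    · rintro ⟨_, f, hf, t, ht, rfl⟩
      exact ⟨(fun i => ⟨f i, hf i⟩, ⟨t, ht⟩), rfl⟩
  rw [← Nat.card_congr e, Nat.card_prod, Nat.card_pi]
  simp

end WrData

end Cfsg.Agent.Lib.Helper5.WrP
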