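import Mathlib
import Cfsg.Agent.Lib.Helper5.WrP1

set_option autoImplicit false

namespace Cfsg.Agent.Lib.Helper5.WrP

open Equiv

/-- the derived series of a subgroup, as subgroups of the ambient group -/
def dser {G : Type*} [Group G] (H : Subgroup G) : ℕ → Subgroup G
  | 0 => H
  | (i + 1) => ⁅dser H i, dser H i⁆

theorem dser_zero {G : Type*} [Group G] (H : Subgroup G) : dser H 0 = H := rfl

theorem dser_succ {G : Type*} [Group G] (H : Subgroup G) (i : ℕ) :
    dser H (i + 1) = ⁅dser H i, dser H i⁆ := rfl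

theorem dser_mono {G : Type*} [Group G] {H K : Subgroup G} (h : H ≤ K) (i : ℕ) :
    dser H i ≤ dser K i := by
  induction i with
  | zero => exact h
  | succ i ih => exact Subgroup.commutator_mono ih ih

theorem dser_le {G : Type*} [Group G] (H : Subgroup G) (i : ℕ) : dser H i ≤ H := by
  induction i with
  | zero => exact le_rfl
  | succ i ih =>
    rw [dser_succ]
    calc ⁅dser H i, dser H i⁆ ≤ ⁅H, H⁆ := Subgroup.commutator_mono ih ih
      _ ≤ H := by
        rw [Subgroup.commutator_le]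
        intro a ha b hb
        exact H.mul_mem (H.mul_mem (H.mul_mem ha hb) (H.inv_mem ha)) (H.inv_mem hb)

theorem dser_add {G : Type*} [Group G] (H : Subgroup G) (i j : ℕ) :
    dser H (i + j) = dser (dser H i) j := by
  induction j with
  | zero => rfl
  | succ j ih => rw [← add_assoc, dser_succ, dser_succ, ih]

theorem dser_map {G G' : Type*} [Group G] [Group G'] (φ : G →* G') (H : Subgroup G) (i : ℕ) :
    (dser H i).map φ = dser (H.map φ) i := by
  induction i with
  | zero => rfl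
  | succ i ih => rw [dser_succ, dser_succ, Subgroup.map_commutator, ih]

theorem map_derivedSeries {G : Type*} [Group G] (H : Subgroup G) (i : ℕ) :
    (derivedSeries ↥H i).map H.subtype = dser H i := by
  induction i with
  | zero =>
    rw [derivedSeries_zero, dser_zero, ← MonoidHom.range_eq_map, Subgroup.range_subtype]
  | succ i ih => rw [derivedSeries_succ, dser_succ, Subgroup.map_commutator, ih]

theorem derivedSeries_eq_bot_iff {G : Type*} [Group G] (H : Subgroup G) (i : ℕ) :
    derivedSeries ↥H i = ⊥ ↔ dser H i = ⊥ := by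
  rw [← map_derivedSeries, Subgroup.map_eq_bot_iff_of_injective _ (Subgroup.subtype_injective H)]

theorem dser_bot {G : Type*} [Group G] (i : ℕ) : dser (⊥ : Subgroup G) i = ⊥ :=
  le_antisymm (dser_le _ i) bot_le

variable {A ι G : Type*} [Group A] [Group G] (D : WrData A ι G)

namespace WrData

theorem comm_W_le (Q : Subgroup A) (T₁ T₂ : Subgroup (Perm ι)) :
    ⁅D.W Q T₁, D.W Q T₂⁆ ≤ D.W Q ⁅T₁, T₂⁆ := by
  rw [Subgroup.commutator_le]
  rintro _ ⟨f, hf, t, ht, rfl⟩ _ ⟨f', hf', t', ht', rfl⟩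
  rw [commutatorElement_def, D.inv_formula, D.inv_formula, D.mul_formula, D.mul_formula,
    D.mul_formula]
  refine ⟨_, ?_, _, Subgroup.commutator_mem_commutator ht ht', rfl⟩
  intro i
  simp only [Pi.mul_apply]
  exact Q.mul_mem (Q.mul_mem (Q.mul_mem (hf _) (hf' _)) (Q.inv_mem (hf _))) (Q.inv_mem (hf' _))

theorem comm_W_bot_le (Q₁ Q₂ : Subgroup A) :
    ⁅D.W Q₁ (⊥ : Subgroup (Perm ι)), D.W Q₂ ⊥⁆ ≤ D.W ⁅Q₁, Q₂⁆ ⊥ := by
  rw [Subgroup.commutator_le]
  rintro _ ⟨f, hf, t, ht, rfl⟩ _ ⟨f', hf', t', ht', rfl⟩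
  rw [Subgroup.mem_bot] at ht ht'
  subst ht ht'
  simp only [map_one, mul_one]
  rw [commutatorElement_def, ← map_inv, ← map_inv, ← map_mul, ← map_mul, ← map_mul]
  refine D.beta_mem ?_
  intro i
  simp only [Pi.mul_apply, Pi.inv_apply]
  exact Subgroup.commutator_mem_commutator (hf i) (hf' i)

theorem dser_W_le (Q : Subgroup A) (T : Subgroup (Perm ι)) (i : ℕ) :
    dser (D.W Q T) i ≤ D.W Q (dser T i) := by
  induction i with
  | zero => exact le_rfl
  | succ i ih =>
    rw [dser_succ, dser_succ]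
    exact le_trans (Subgroup.commutator_mono ih ih) (D.comm_W_le Q _ _)

theorem dser_W_bot_le (Q : Subgroup A) (j : ℕ) :
    dser (D.W Q (⊥ : Subgroup (Perm ι))) j ≤ D.W (dser Q j) ⊥ := by
  induction j with
  | zero => exact le_rfl
  | succ j ih =>
    rw [dser_succ, dser_succ]
    exact le_trans (Subgroup.commutator_mono ih ih) (D.comm_W_bot_le _ _)

/-- upper bound for the derived length of a wreath product -/
theorem dser_W_eq_bot {Q : Subgroup A} {T : Subgroup (Perm ι)} {i j : ℕ}
    (hT : dser T i = ⊥) (hQ : dser Q j = ⊥) : dser (D.W Q T) (i + j) = ⊥ := by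
  rw [eq_bot_iff, dser_add]
  have h1 : dser (D.W Q T) i ≤ D.W Q ⊥ := by
    rw [← hT]
    exact D.dser_W_le Q T i
  calc dser (dser (D.W Q T) i) j ≤ dser (D.W Q ⊥) j := dser_mono h1 j
    _ ≤ D.W (dser Q j) ⊥ := D.dser_W_bot_le Q j
    _ = ⊥ := by rw [hQ, D.W_bot_bot]

end WrData

end Cfsg.Agent.Lib.Helper5.WrP
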