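import Mathlib
import Cfsg.Agent.Lib.Helper5.WrP2

set_option autoImplicit false

namespace Cfsg.Agent.Lib.Helper5.WrP

open Equiv
open scoped commutatorElement

/-- squares lie in the derived subgroup -/
def SqDer {G : Type*} [Group G] (H : Subgroup G) : Prop := ∀ x ∈ H, x ^ 2 ∈ ⁅H, H⁆

theorem sqDer_of_closure {G : Type*} [Group G] {H : Subgroup G} (S : Set G)
    (hS : Subgroup.closure S = H) (h : ∀ s ∈ S, s ^ 2 ∈ ⁅H, H⁆) : SqDer H := by
  have hSH : S ⊆ H := by
    rw [← hS]
    exact Subgroup.subset_closure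
  have key : ∀ x ∈ Subgroup.closure S, x ∈ H ∧ x ^ 2 ∈ ⁅H, H⁆ := by
    intro x hx
    induction hx using Subgroup.closure_induction with
    | mem s hs => exact ⟨hSH hs, h s hs⟩
    | one => exact ⟨H.one_mem, by rw [one_pow]; exact Subgroup.one_mem _⟩
    | mul a b _ _ ha hb =>
      refine ⟨H.mul_mem ha.1 hb.1, ?_⟩
      have : (a * b) ^ 2 = a ^ 2 * ⁅a⁻¹, b⁆ * b ^ 2 := by
        rw [commutatorElement_def]
        simp only [pow_two]
        group
      rw [this]
      exact Subgroup.mul_mem _ (Subgroup.mul_mem _ ha.2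
        (Subgroup.commutator_mem_commutator (H.inv_mem ha.1) hb.1)) hb.2
    | inv a _ ha =>
      refine ⟨H.inv_mem ha.1, ?_⟩
      rw [inv_pow]
      exact Subgroup.inv_mem _ ha.2
  intro x hx
  rw [← hS] at hx
  exact (key x hx).2

theorem SqDer.map {G G' : Type*} [Group G] [Group G'] {H : Subgroup G} (h : SqDer H)
    (φ : G →* G') : SqDer (H.map φ) := by
  rintro _ ⟨x, hx, rfl⟩
  rw [← map_pow, ← Subgroup.map_commutator]
  exact ⟨_, h x hx, rfl⟩

/-- bridge to the form used in statements -/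
theorem SqDer.pow_mem_commutator {G : Type*} [Group G] {H : Subgroup G} (h : SqDer H) (x : H) :
    x ^ 2 ∈ commutator H := by
  have h1 := h x.1 x.2
  rw [← Subgroup.map_subtype_commutator] at h1
  obtain ⟨y, hy, hy2⟩ := h1
  have : y = x ^ 2 := by
    apply Subtype.ext
    rw [Subgroup.coe_pow]
    exact hy2
  rw [← this]
  exact hy

variable {A ι G : Type*} [Group A] [Group G] (D : WrData A ι G)

namespace WrData

theorem W_eq_closure [Finite ι] [DecidableEq ι] (Q : Subgroup A) (T : Subgroup (Perm ι)) :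
    Subgroup.closure ({g | ∃ i, ∃ a ∈ Q, g = D.β (Pi.mulSingle i a)} ∪ {g | ∃ t ∈ T, g = D.π t}) =
      D.W Q T := by
  apply le_antisymm
  · rw [Subgroup.closure_le]
    rintro g (⟨i, a, ha, rfl⟩ | ⟨t, ht, rfl⟩)
    · apply D.beta_mem
      intro j
      by_cases hj : j = i
      · subst hj
        rw [Pi.mulSingle_eq_same]
        exact ha
      · rw [Pi.mulSingle_eq_of_ne hj]
        exact Q.one_mem
    · exact D.pi_mem ht
  · rintro _ ⟨f, hf, t, ht, rfl⟩
    apply Subgroup.mul_mem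
    · have hmem : f ∈ (Subgroup.closure ({g | ∃ i, ∃ a ∈ Q, g = D.β (Pi.mulSingle i a)} ∪
          {g | ∃ t ∈ T, g = D.π t})).comap D.β := by
        apply Subgroup.pi_mem_of_mulSingle_mem
        intro i
        rw [Subgroup.mem_comap]
        exact Subgroup.subset_closure (Or.inl ⟨i, f i, hf i, rfl⟩)
      exact hmem
    · exact Subgroup.subset_closure (Or.inr ⟨t, ht, rfl⟩)

theorem sqDer_W [Finite ι] [DecidableEq ι] {Q : Subgroup A} {T : Subgroup (Perm ι)}
    (hQ : SqDer Q) (hT : SqDer T) : SqDer (D.W Q T) := by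
  apply sqDer_of_closure _ (D.W_eq_closure Q T)
  rintro g (⟨i, a, ha, rfl⟩ | ⟨t, ht, rfl⟩)
  · set φ : A →* G := D.β.comp (MonoidHom.mulSingle (fun _ : ι => A) i) with hφ
    have h1 : Q.map φ ≤ D.W Q T := by
      rintro _ ⟨b, hb, rfl⟩
      apply D.beta_mem
      intro j
      show (Pi.mulSingle i b : ι → A) j ∈ Q
      by_cases hj : j = i
      · subst hj
        rw [Pi.mulSingle_eq_same]
        exact hb
      · rw [Pi.mulSingle_eq_of_ne hj]
        exact Q.one_mem
    have h2 : φ (a ^ 2) ∈ ⁅Q.map φ, Q.map φ⁆ := by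
      rw [← Subgroup.map_commutator]
      exact ⟨_, hQ a ha, rfl⟩
    have h3 : D.β (Pi.mulSingle i a) ^ 2 = φ (a ^ 2) := by
      rw [map_pow]
      rfl
    rw [h3]
    exact Subgroup.commutator_mono h1 h1 h2
  · have h1 : T.map D.π ≤ D.W Q T := by
      rintro _ ⟨b, hb, rfl⟩
      exact D.pi_mem hb
    have h2 : D.π (t ^ 2) ∈ ⁅T.map D.π, T.map D.π⁆ := by
      rw [← Subgroup.map_commutator]
      exact ⟨_, hT t ht, rfl⟩
    rw [← map_pow]
    exact Subgroup.commutator_mono h1 h1 h2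

end WrData

end Cfsg.Agent.Lib.Helper5.WrP
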