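import Mathlib
import Cfsg.Agent.Lib.Helper5.WrP3

set_option autoImplicit false

namespace Cfsg.Agent.Lib.Helper5.WrP

open Equiv
open scoped commutatorElement

section step

variable {G : Type*} [Group G]

/-- adjoining an involution that moves a `2`-group `H` to a commuting conjugate gives a `2`-group -/
theorem isPGroup_step {H : Subgroup G} (hH : IsPGroup 2 H) {s : G} (hs : s * s = 1)
    (hcomm : ∀ x ∈ H, ∀ y ∈ H, Commute x (s * y * s⁻¹)) :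
    IsPGroup 2 (H ⊔ Subgroup.zpowers s : Subgroup G) := by
  have hsinv : s⁻¹ = s := inv_eq_of_mul_eq_one_right hs
  set Hs : Subgroup G := H.map (MulAut.conj s).toMonoidHom with hHs
  have hHsp : IsPGroup 2 Hs := hH.map _
  have hmemHs : ∀ y ∈ H, s * y * s⁻¹ ∈ Hs := fun y hy => ⟨y, hy, rfl⟩
  have h1 : H ≤ Subgroup.normalizer (Hs : Set G) := by
    refine le_trans ?_ (Subgroup.centralizer_le_normalizer _)
    intro x hx
    rw [Subgroup.mem_centralizer_iff]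
    rintro _ ⟨y, hy, rfl⟩
    exact ((hcomm x hx y hy).eq).symm
  have hN : IsPGroup 2 (H ⊔ Hs : Subgroup G) := hH.to_sup_of_normal_right' hHsp h1
  have hZ : IsPGroup 2 (Subgroup.zpowers s) := by
    rintro ⟨x, hx⟩
    refine ⟨1, ?_⟩
    obtain ⟨k, rfl⟩ := Subgroup.mem_zpowers_iff.1 hx
    apply Subtype.ext
    rw [Subgroup.coe_pow]
    show (s ^ k) ^ 2 ^ 1 = 1
    rw [pow_one, ← zpow_natCast, ← zpow_mul, mul_comm, zpow_mul, zpow_natCast, pow_two, hs,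
      one_zpow]
  have h2 : Subgroup.zpowers s ≤ Subgroup.normalizer ((H ⊔ Hs : Subgroup G) : Set G) := by
    rw [Subgroup.zpowers_le]
    rw [Subgroup.mem_normalizer_iff_map_conj_eq]
    have e1 : Hs.map (MulAut.conj s).toMonoidHom = H := by
      ext z
      constructor
      · rintro ⟨_, ⟨y, hy, rfl⟩, rfl⟩
        show s * (s * y * s⁻¹) * s⁻¹ ∈ H
        have : s * (s * y * s⁻¹) * s⁻¹ = y := by
          calc s * (s * y * s⁻¹) * s⁻¹ = (s * s) * y * (s⁻¹ * s⁻¹) := by group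
            _ = y := by rw [hsinv, hs, one_mul, mul_one]
        rw [this]
        exact hy
      · intro hz
        refine ⟨s * z * s⁻¹, hmemHs z hz, ?_⟩
        show s * (s * z * s⁻¹) * s⁻¹ = z
        calc s * (s * z * s⁻¹) * s⁻¹ = (s * s) * z * (s⁻¹ * s⁻¹) := by group
          _ = z := by rw [hsinv, hs, one_mul, mul_one]
    show (H ⊔ Hs).map (MulAut.conj s).toMonoidHom = H ⊔ Hs
    rw [Subgroup.map_sup, e1, sup_comm]
  have h3 : IsPGroup 2 (Subgroup.zpowers s ⊔ (H ⊔ Hs) : Subgroup G) :=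
    hZ.to_sup_of_normal_right' hN h2
  exact h3.to_le (sup_le (le_trans le_sup_left le_sup_right) le_sup_left)

/-- the derived length goes up when an element moving `H` to a commuting disjoint conjugate is
adjoined -/
theorem dser_step {H K : Subgroup G} {s : G} (hHK : H ≤ K) (hsK : s ∈ K)
    (hcomm : ∀ x ∈ H, ∀ y ∈ H, Commute x (s * y * s⁻¹))
    (hdisj : ∀ x ∈ H, ∀ y ∈ H, x = s * y * s⁻¹ → x = 1) (i : ℕ) (hi : dser H i ≠ ⊥) :
    dser K (i + 1) ≠ ⊥ := by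
  set Hs : Subgroup G := H.map (MulAut.conj s).toMonoidHom with hHs
  have hmemHs : ∀ y ∈ H, s * y * s⁻¹ ∈ Hs := fun y hy => ⟨y, hy, rfl⟩
  have hc : ∀ x ∈ H, ∀ z ∈ Hs, x * z = z * x := by
    rintro x hx _ ⟨y, hy, rfl⟩
    exact (hcomm x hx y hy).eq
  -- the auxiliary subgroups
  let M : ℕ → Subgroup G := fun j =>
    { carrier := {y | y ∈ H ∧ ∃ z ∈ Hs, y * z ∈ dser K (j + 1)}
      one_mem' := ⟨H.one_mem, 1, Hs.one_mem, by rw [mul_one]; exact Subgroup.one_mem _⟩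
      mul_mem' := by
        rintro y y' ⟨hy, z, hz, hyz⟩ ⟨hy', z', hz', hyz'⟩
        refine ⟨H.mul_mem hy hy', z * z', Hs.mul_mem hz hz', ?_⟩
        have : y * y' * (z * z') = (y * z) * (y' * z') := by
          calc y * y' * (z * z') = y * (y' * z) * z' := by group
            _ = y * (z * y') * z' := by rw [hc y' hy' z hz]
            _ = _ := by group
        rw [this]
        exact Subgroup.mul_mem _ hyz hyz'
      inv_mem' := by
        rintro y ⟨hy, z, hz, hyz⟩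
        refine ⟨H.inv_mem hy, z⁻¹, Hs.inv_mem hz, ?_⟩
        have : y⁻¹ * z⁻¹ = (y * z)⁻¹ := by
          rw [mul_inv_rev, ← hc y⁻¹ (H.inv_mem hy) z⁻¹ (Hs.inv_mem hz)]
        rw [this]
        exact Subgroup.inv_mem _ hyz }
  have hM : ∀ j, dser H j ≤ M j := by
    intro j
    induction j with
    | zero =>
      intro y hy
      have hy' : y ∈ H := hy
      refine ⟨hy', s * y⁻¹ * s⁻¹, hmemHs _ (H.inv_mem hy'), ?_⟩
      have : y * (s * y⁻¹ * s⁻¹) = ⁅y, s⁆ := by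
        rw [commutatorElement_def]
        group
      rw [this]
      exact Subgroup.commutator_mem_commutator (hHK hy') hsK
    | succ j ih =>
      rw [dser_succ, Subgroup.commutator_le]
      intro y₁ hy₁ y₂ hy₂
      obtain ⟨h1, z₁, hz₁, hyz₁⟩ := ih hy₁
      obtain ⟨h2, z₂, hz₂, hyz₂⟩ := ih hy₂
      refine ⟨?_, ⁅z₁, z₂⁆, ?_, ?_⟩
      · rw [commutatorElement_def]
        exact H.mul_mem (H.mul_mem (H.mul_mem h1 h2) (H.inv_mem h1)) (H.inv_mem h2)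
      · rw [commutatorElement_def]
        exact Hs.mul_mem (Hs.mul_mem (Hs.mul_mem hz₁ hz₂) (Hs.inv_mem hz₁)) (Hs.inv_mem hz₂)
      · have e : ⁅y₁, y₂⁆ * ⁅z₁, z₂⁆ = ⁅y₁ * z₁, y₂ * z₂⁆ := by
          have c11 := hc y₁ h1 z₁ hz₁
          have c12 := hc y₁ h1 z₂ hz₂
          have c21 := hc y₂ h2 z₁ hz₁
          have c22 := hc y₂ h2 z₂ hz₂
          have c11' := hc y₁⁻¹ (H.inv_mem h1) z₁ hz₁
          have c12' := hc y₁⁻¹ (H.inv_mem h1) z₂ hz₂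
          have c21' := hc y₂⁻¹ (H.inv_mem h2) z₁ hz₁
          have c22' := hc y₂⁻¹ (H.inv_mem h2) z₂ hz₂
          have c11'' := hc y₁⁻¹ (H.inv_mem h1) z₁⁻¹ (Hs.inv_mem hz₁)
          have c21'' := hc y₂⁻¹ (H.inv_mem h2) z₁⁻¹ (Hs.inv_mem hz₁)
          rw [commutatorElement_def, commutatorElement_def, commutatorElement_def]
          calc y₁ * y₂ * y₁⁻¹ * y₂⁻¹ * (z₁ * z₂ * z₁⁻¹ * z₂⁻¹)
              = y₁ * y₂ * y₁⁻¹ * (y₂⁻¹ * z₁) * z₂ * z₁⁻¹ * z₂⁻¹ := by group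
            _ = y₁ * y₂ * (y₁⁻¹ * z₁) * y₂⁻¹ * z₂ * z₁⁻¹ * z₂⁻¹ := by rw [c21']; group
            _ = y₁ * (y₂ * z₁) * y₁⁻¹ * y₂⁻¹ * z₂ * z₁⁻¹ * z₂⁻¹ := by rw [c11']; group
            _ = y₁ * z₁ * y₂ * y₁⁻¹ * (y₂⁻¹ * z₂) * z₁⁻¹ * z₂⁻¹ := by rw [c21]; group
            _ = y₁ * z₁ * y₂ * (y₁⁻¹ * z₂) * y₂⁻¹ * z₁⁻¹ * z₂⁻¹ := by rw [c22']; group
            _ = y₁ * z₁ * y₂ * z₂ * y₁⁻¹ * (y₂⁻¹ * z₁⁻¹) * z₂⁻¹ := by rw [c12']; group
            _ = y₁ * z₁ * y₂ * z₂ * (y₁⁻¹ * z₁⁻¹) * y₂⁻¹ * z₂⁻¹ := by rw [c21'']; group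
            _ = y₁ * z₁ * (y₂ * z₂) * (z₁⁻¹ * y₁⁻¹) * (y₂⁻¹ * z₂⁻¹) := by rw [c11'']; group
            _ = y₁ * z₁ * (y₂ * z₂) * (y₁ * z₁)⁻¹ * (y₂ * z₂)⁻¹ := by
              rw [mul_inv_rev y₁ z₁, mul_inv_rev y₂ z₂,
                ← hc y₂⁻¹ (H.inv_mem h2) z₂⁻¹ (Hs.inv_mem hz₂)]
        rw [e]
        exact Subgroup.commutator_mem_commutator hyz₁ hyz₂
  intro hbot
  apply hi
  rw [eq_bot_iff]
  intro y hy
  obtain ⟨hyH, z, hz, hyz⟩ := hM i hy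
  rw [hbot, Subgroup.mem_bot] at hyz
  obtain ⟨w, hw, rfl⟩ := hz
  rw [Subgroup.mem_bot]
  have hy2 : y = s * w⁻¹ * s⁻¹ := by
    have h5 : y = ((MulAut.conj s).toMonoidHom w)⁻¹ := eq_inv_of_mul_eq_one_left hyz
    rw [h5]
    show (s * w * s⁻¹)⁻¹ = s * w⁻¹ * s⁻¹
    group
  exact hdisj y hyH w⁻¹ (H.inv_mem hw) hy2

end step

end Cfsg.Agent.Lib.Helper5.WrP
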