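import Mathlib
import Cfsg.Agent.Lib.Helper5.WrP4

set_option autoImplicit false

namespace Cfsg.Agent.Lib.Helper5.WrP

open Equiv Matrix

variable {F : Type*} [CommRing F] {n : ℕ}

/-- block matrix built from an `n`-tuple of `2 × 2` matrices -/
def blk (f : Fin n → Matrix (Fin 2) (Fin 2) F) : Matrix (Fin n ⊕ Fin n) (Fin n ⊕ Fin n) F :=
  fromBlocks (diagonal fun i => f i 0 0) (diagonal fun i => f i 0 1)
    (diagonal fun i => f i 1 0) (diagonal fun i => f i 1 1)

theorem blk_one : blk (fun _ : Fin n => (1 : Matrix (Fin 2) (Fin 2) F)) = 1 := by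
  unfold blk
  simp only [one_apply_eq, ne_eq, zero_ne_one, not_false_eq_true, one_apply_ne, one_ne_zero]
  rw [← fromBlocks_one]
  congr 1 <;> ext i j <;> simp [diagonal, Matrix.one_apply]

theorem blk_mul (f g : Fin n → Matrix (Fin 2) (Fin 2) F) :
    blk (fun i => f i * g i) = blk f * blk g := by
  unfold blk
  rw [fromBlocks_multiply]
  simp only [diagonal_mul_diagonal, diagonal_add, Matrix.mul_apply, Fin.sum_univ_two]

theorem blk_symplectic (f : Fin n → Matrix (Fin 2) (Fin 2) F) (hf : ∀ i, (f i).det = 1) :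
    blk f ∈ symplecticGroup (Fin n) F := by
  rw [SymplecticGroup.mem_iff]
  unfold blk J
  rw [fromBlocks_transpose, fromBlocks_multiply, fromBlocks_multiply]
  simp only [diagonal_transpose, Matrix.mul_zero, Matrix.mul_one, zero_add, Matrix.mul_neg,
    add_zero, diagonal_mul_diagonal, Matrix.neg_mul, diagonal_neg, diagonal_add]
  have h : ∀ i, f i 0 0 * f i 1 1 - f i 0 1 * f i 1 0 = 1 := by
    intro i
    rw [← hf i, det_fin_two]
  congr 1
  · ext i j
    by_cases hij : i = j
    · subst hij
      simp only [diagonal_apply_eq, Matrix.zero_apply]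
      ring
    · simp [diagonal_apply_ne _ hij]
  · ext i j
    by_cases hij : i = j
    · subst hij
      simp only [diagonal_apply_eq, Matrix.neg_apply, one_apply_eq]
      linear_combination (-1 : F) * h i
    · simp [diagonal_apply_ne _ hij, Matrix.one_apply_ne hij]
  · ext i j
    by_cases hij : i = j
    · subst hij
      simp only [diagonal_apply_eq, one_apply_eq]
      linear_combination h i
    · simp [diagonal_apply_ne _ hij, Matrix.one_apply_ne hij]
  · ext i j
    by_cases hij : i = j
    · subst hij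
      simp only [diagonal_apply_eq, Matrix.zero_apply]
      ring
    · simp [diagonal_apply_ne _ hij]

/-- permutation matrices -/
def pm (t : Perm (Fin n)) : Matrix (Fin n) (Fin n) F := fun i j => if i = t j then 1 else 0

theorem pm_one : pm (1 : Perm (Fin n)) = (1 : Matrix (Fin n) (Fin n) F) := by
  ext i j
  by_cases h : i = j
  · subst h
    simp [pm]
  · simp [pm, Matrix.one_apply_ne h, h]

theorem pm_mul (t t' : Perm (Fin n)) : (pm (t * t') : Matrix (Fin n) (Fin n) F) = pm t * pm t' := by
  ext i j
  simp only [pm, Matrix.mul_apply]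
  rw [Finset.sum_eq_single (t' j)]
  · rw [if_pos rfl, mul_one]
    rfl
  · intro k _ hk
    rw [if_neg hk, mul_zero]
  · intro h
    exact absurd (Finset.mem_univ _) h

theorem pm_mul_transpose (t : Perm (Fin n)) :
    (pm t : Matrix (Fin n) (Fin n) F) * (pm t)ᵀ = 1 := by
  ext i j
  simp only [pm, Matrix.mul_apply, Matrix.transpose_apply, Matrix.one_apply]
  rw [Finset.sum_eq_single (t⁻¹ i)]
  · have h1 : t (t⁻¹ i) = i := (Equiv.eq_symm_apply t).mp rfl
    rw [h1]
    simp [eq_comm]
  · intro k _ hk
    have : ¬ i = t k := by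
      intro h
      apply hk
      rw [h]
      exact (Perm.inv_eq_iff_eq.mpr rfl).symm
    rw [if_neg this, zero_mul]
  · intro h
    exact absurd (Finset.mem_univ _) h

theorem pm_mul_diagonal (t : Perm (Fin n)) (d : Fin n → F) :
    (pm t : Matrix (Fin n) (Fin n) F) * diagonal d = diagonal (fun i => d (t⁻¹ i)) * pm t := by
  ext i j
  rw [Matrix.mul_diagonal, Matrix.diagonal_mul]
  simp only [pm]
  by_cases h : i = t j
  · subst h
    rw [if_pos rfl, show t⁻¹ (t j) = j from Perm.inv_eq_iff_eq.mpr rfl, one_mul, mul_one]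
  · rw [if_neg h, zero_mul, mul_zero]

/-- block permutation matrices -/
def pblk (t : Perm (Fin n)) : Matrix (Fin n ⊕ Fin n) (Fin n ⊕ Fin n) F :=
  fromBlocks (pm t) 0 0 (pm t)

theorem pblk_one : pblk (1 : Perm (Fin n)) = (1 : Matrix (Fin n ⊕ Fin n) (Fin n ⊕ Fin n) F) := by
  unfold pblk
  rw [pm_one, fromBlocks_one]

theorem pblk_mul (t t' : Perm (Fin n)) :
    (pblk (t * t') : Matrix (Fin n ⊕ Fin n) (Fin n ⊕ Fin n) F) = pblk t * pblk t' := by
  unfold pblk
  rw [fromBlocks_multiply, pm_mul]
  simp

theorem pblk_symplectic (t : Perm (Fin n)) :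
    (pblk t : Matrix (Fin n ⊕ Fin n) (Fin n ⊕ Fin n) F) ∈ symplecticGroup (Fin n) F := by
  rw [SymplecticGroup.mem_iff]
  unfold pblk J
  rw [fromBlocks_transpose, fromBlocks_multiply, fromBlocks_multiply]
  simp only [Matrix.mul_zero, Matrix.zero_mul, add_zero, zero_add, Matrix.mul_one, Matrix.mul_neg,
    transpose_zero, Matrix.neg_mul, pm_mul_transpose, neg_zero]

theorem pblk_mul_blk (t : Perm (Fin n)) (f : Fin n → Matrix (Fin 2) (Fin 2) F) :
    pblk t * blk f = blk (fun i => f (t⁻¹ i)) * pblk t := by
  unfold pblk blk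
  rw [fromBlocks_multiply, fromBlocks_multiply]
  simp only [Matrix.zero_mul, Matrix.mul_zero, add_zero, zero_add, pm_mul_diagonal]

end Cfsg.Agent.Lib.Helper5.WrP

namespace Cfsg.Agent.Lib.Helper5.WrP

open Equiv Matrix

variable {F : Type*} [CommRing F] {n : ℕ}

/-- the base group homomorphism -/
def spBeta (F : Type*) [CommRing F] (n : ℕ) :
    (Fin n → Matrix.SpecialLinearGroup (Fin 2) F) →* symplecticGroup (Fin n) F where
  toFun f := ⟨blk (fun i => (f i).1), blk_symplectic _ (fun i => (f i).2)⟩
  map_one' := by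
    apply Subtype.ext
    exact blk_one
  map_mul' f g := by
    apply Subtype.ext
    exact blk_mul _ _

/-- the permutation part -/
def spPi (F : Type*) [CommRing F] (n : ℕ) : Perm (Fin n) →* symplecticGroup (Fin n) F where
  toFun t := ⟨pblk t, pblk_symplectic t⟩
  map_one' := by
    apply Subtype.ext
    exact pblk_one
  map_mul' t t' := by
    apply Subtype.ext
    exact pblk_mul t t'

theorem spBeta_coe (f : Fin n → Matrix.SpecialLinearGroup (Fin 2) F) :
    ((spBeta F n f : symplecticGroup (Fin n) F) : Matrix (Fin n ⊕ Fin n) (Fin n ⊕ Fin n) F) =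
      blk (fun i => (f i).1) := rfl

theorem spPi_coe (t : Perm (Fin n)) :
    ((spPi F n t : symplecticGroup (Fin n) F) : Matrix (Fin n ⊕ Fin n) (Fin n ⊕ Fin n) F) =
      pblk t := rfl

/-- the wreath product data for the symplectic group -/
def spData (F : Type*) [CommRing F] [Nontrivial F] (n : ℕ) :
    WrData (Matrix.SpecialLinearGroup (Fin 2) F) (Fin n) (symplecticGroup (Fin n) F) where
  β := spBeta F n
  π := spPi F n
  conj t f := by
    rw [mul_inv_eq_iff_eq_mul]
    apply Subtype.ext
    show pblk t * blk (fun i => (f i).1) = blk (fun i => (f (t⁻¹ i)).1) * pblk t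
    exact pblk_mul_blk t _
  inj f t h := by
    have h1 : blk (fun i => (f i).1) * pblk t = (1 : Matrix (Fin n ⊕ Fin n) (Fin n ⊕ Fin n) F) :=
      congrArg Subtype.val h
    unfold blk pblk at h1
    rw [fromBlocks_multiply, ← fromBlocks_one, fromBlocks_inj] at h1
    simp only [Matrix.mul_zero, add_zero, zero_add] at h1
    obtain ⟨h11, h12, h21, h22⟩ := h1
    have ht : ∀ i, t i = i := by
      intro i
      have := congrFun (congrFun h11 i) i
      rw [Matrix.diagonal_mul, Matrix.one_apply_eq] at this
      simp only [pm] at this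
      by_contra hne
      rw [if_neg (fun h => hne h.symm), mul_zero] at this
      exact zero_ne_one this
    have ht1 : t = 1 := Equiv.ext ht
    subst ht1
    refine ⟨?_, rfl⟩
    funext i
    have e11 := congrFun (congrFun h11 i) i
    have e12 := congrFun (congrFun h12 i) i
    have e21 := congrFun (congrFun h21 i) i
    have e22 := congrFun (congrFun h22 i) i
    rw [Matrix.diagonal_mul] at e11 e12 e21 e22
    simp only [pm, Perm.one_apply, if_true, mul_one, Matrix.one_apply_eq, Matrix.zero_apply]
      at e11 e12 e21 e22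
    apply Subtype.ext
    ext a b
    fin_cases a <;> fin_cases b
    · exact e11
    · exact e12
    · exact e21
    · exact e22

end Cfsg.Agent.Lib.Helper5.WrP
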