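import Mathlib
import Cfsg.Agent.Lib.Helper5.WrP5

set_option autoImplicit false

namespace Cfsg.Agent.Lib.Helper5.WrP

/-- the `2`-adic valuation of `q² - 1` -/
def cq (q : ℕ) : ℕ := padicValNat 2 (q + 1) + padicValNat 2 (q - 1)

theorem val_pow_sub_one {q : ℕ} (hq1 : 1 < q) (hq : Odd q) (i : ℕ) :
    padicValNat 2 (q ^ (2 * (i + 1)) - 1) = cq q + padicValNat 2 (i + 1) := by
  have h2 : ¬ 2 ∣ q := by
    rw [← even_iff_two_dvd, Nat.not_even_iff_odd]
    exact hq
  have h := padicValNat.pow_two_sub_one hq1 h2 (n := 2 * (i + 1)) (by omega) (even_two_mul _)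
  have h3 : padicValNat 2 (2 * (i + 1)) = 1 + padicValNat 2 (i + 1) := by
    rw [padicValNat.mul (by norm_num) (by omega), padicValNat.self (by norm_num)]
  rw [h3] at h
  unfold cq
  omega

theorem sum_val_succ (n : ℕ) :
    ∑ i ∈ Finset.range n, padicValNat 2 (i + 1) = padicValNat 2 n.factorial := by
  induction n with
  | zero => simp
  | succ n ih =>
    rw [Finset.sum_range_succ, ih, Nat.factorial_succ,
      padicValNat.mul (by omega) (Nat.factorial_ne_zero n), add_comm]

/-- the `2`-part of `|Sp_{2n}(q)|` -/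
theorem val_card_sp {q : ℕ} (hq1 : 1 < q) (hq : Odd q) (n : ℕ) :
    (q ^ (n ^ 2) * ∏ i ∈ Finset.range n, (q ^ (2 * (i + 1)) - 1)).factorization 2 =
      n * cq q + padicValNat 2 n.factorial := by
  have hq0 : 0 < q := by omega
  have hne : ∀ i ∈ Finset.range n, q ^ (2 * (i + 1)) - 1 ≠ 0 := by
    intro i _
    have : 1 < q ^ (2 * (i + 1)) := Nat.one_lt_pow (by omega) hq1
    omega
  have hne0 : (∏ i ∈ Finset.range n, (q ^ (2 * (i + 1)) - 1)) ≠ 0 :=
    Finset.prod_ne_zero_iff.2 hne
  have h2 : ¬ 2 ∣ q := by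
    rw [← even_iff_two_dvd, Nat.not_even_iff_odd]
    exact hq
  rw [Nat.factorization_mul (pow_pos hq0 _).ne' hne0, Finsupp.add_apply,
    Nat.factorization_def _ Nat.prime_two,
    padicValNat.eq_zero_of_not_dvd (fun h => h2 (Nat.prime_two.dvd_of_dvd_pow h)), zero_add,
    Nat.factorization_prod hne, Finsupp.finsetSum_apply]
  have hterm : ∀ i ∈ Finset.range n, (q ^ (2 * (i + 1)) - 1).factorization 2 =
      cq q + padicValNat 2 (i + 1) := by
    intro i _
    rw [Nat.factorization_def _ Nat.prime_two]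
    exact val_pow_sub_one hq1 hq i
  rw [Finset.sum_congr rfl hterm, Finset.sum_add_distrib, Finset.sum_const, Finset.card_range,
    smul_eq_mul, sum_val_succ]

end Cfsg.Agent.Lib.Helper5.WrP
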