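import Mathlib
import Cfsg.Agent.Lib.Helper5.WrP6

set_option autoImplicit false

namespace Cfsg.Agent.Lib.Helper5.WrP

variable {F : Type*} [Field F]

/-- the circle `x² + y² = 1` -/
def Circ (F : Type*) [Field F] : Type _ := {p : F × F // p.1 ^ 2 + p.2 ^ 2 = 1}

instance [Fintype F] [DecidableEq F] : Fintype (Circ F) := by
  unfold Circ
  infer_instance

/-- rational parametrisation of the circle minus a point -/
noncomputable def circEquiv (h2 : (2 : F) ≠ 0) :
    {p : Circ F // p.1 ≠ (-1, 0)} ≃ {t : F // t ^ 2 + 1 ≠ 0} where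
  toFun p := ⟨p.1.1.2 / (1 + p.1.1.1), by
    obtain ⟨⟨⟨x, y⟩, hxy⟩, hne⟩ := p
    simp only at hxy hne ⊢
    have hx : 1 + x ≠ 0 := by
      intro h
      have hx1 : x = -1 := by linear_combination h
      have hy : y = 0 := by
        have : y ^ 2 = 0 := by rw [hx1] at hxy; linear_combination hxy
        exact pow_eq_zero_iff (by norm_num) |>.1 this
      exact hne (by rw [hx1, hy])
    have : (y / (1 + x)) ^ 2 + 1 = 2 / (1 + x) := by
      field_simp
      linear_combination hxy
    rw [this]
    exact div_ne_zero h2 hx⟩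
  invFun t := ⟨⟨((1 - t.1 ^ 2) / (1 + t.1 ^ 2), 2 * t.1 / (1 + t.1 ^ 2)), by
    have ht : 1 + t.1 ^ 2 ≠ 0 := by
      have := t.2
      intro h
      apply this
      linear_combination h
    simp only
    field_simp
    ring⟩, by
    have ht : 1 + t.1 ^ 2 ≠ 0 := by
      have := t.2
      intro h
      apply this
      linear_combination h
    intro h
    have h1 := congrArg Prod.fst h
    simp only at h1
    rw [div_eq_iff ht] at h1
    apply h2
    linear_combination h1⟩
  left_inv p := by
    obtain ⟨⟨⟨x, y⟩, hxy⟩, hne⟩ := p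
    simp only at hxy hne
    have hx : 1 + x ≠ 0 := by
      intro h
      have hx1 : x = -1 := by linear_combination h
      have hy : y = 0 := by
        have : y ^ 2 = 0 := by rw [hx1] at hxy; linear_combination hxy
        exact pow_eq_zero_iff (by norm_num) |>.1 this
      exact hne (by rw [hx1, hy])
    have h1 : 1 + (y / (1 + x)) ^ 2 = 2 / (1 + x) := by
      field_simp
      linear_combination hxy
    apply Subtype.ext
    apply Subtype.ext
    simp only
    rw [h1]
    apply Prod.ext
    · simp only
      rw [div_div_eq_mul_div, div_eq_iff h2]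
      field_simp
      linear_combination (-(1 : F)) * hxy
    · simp only
      rw [div_div_eq_mul_div, div_eq_iff h2]
      field_simp
  right_inv t := by
    obtain ⟨t, ht0⟩ := t
    have ht : 1 + t ^ 2 ≠ 0 := by
      intro h
      apply ht0
      linear_combination h
    apply Subtype.ext
    simp only
    have h1 : 1 + (1 - t ^ 2) / (1 + t ^ 2) = 2 / (1 + t ^ 2) := by
      field_simp
      ring
    rw [h1, div_div_div_cancel_right₀ ht]
    field_simp

end Cfsg.Agent.Lib.Helper5.WrP

namespace Cfsg.Agent.Lib.Helper5.WrP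

variable {F : Type*} [Field F]

theorem card_circ_aux [Finite F] (h2 : (2 : F) ≠ 0) :
    Nat.card (Circ F) + Nat.card {t : F // t ^ 2 + 1 = 0} = Nat.card F + 1 := by
  classical
  haveI := Fintype.ofFinite F
  haveI : Fintype (Circ F) := by
    unfold Circ
    infer_instance
  have e := circEquiv h2
  have h1 : Nat.card {p : Circ F // p.1 ≠ (-1, 0)} = Nat.card {t : F // t ^ 2 + 1 ≠ 0} :=
    Nat.card_congr e
  have h3 : Nat.card {p : Circ F // p.1 = (-1, 0)} = 1 := by
    have hpt : ((-1 : F), (0 : F)).1 ^ 2 + ((-1 : F), (0 : F)).2 ^ 2 = 1 := by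
      simp
    haveI : Unique {p : Circ F // p.1 = (-1, 0)} :=
      { default := ⟨⟨(-1, 0), hpt⟩, rfl⟩
        uniq := by
          rintro ⟨⟨p, hp⟩, hp2⟩
          apply Subtype.ext
          apply Subtype.ext
          exact hp2 }
    exact Nat.card_unique
  have h4 : Nat.card {p : Circ F // p.1 ≠ (-1, 0)} =
      Nat.card (Circ F) - Nat.card {p : Circ F // p.1 = (-1, 0)} := by
    rw [Nat.card_eq_fintype_card, Nat.card_eq_fintype_card, Nat.card_eq_fintype_card]
    exact Fintype.card_subtype_compl _
  have h5 : Nat.card {t : F // t ^ 2 + 1 ≠ 0} = Nat.card F - Nat.card {t : F // t ^ 2 + 1 = 0} := by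
    rw [Nat.card_eq_fintype_card, Nat.card_eq_fintype_card, Nat.card_eq_fintype_card]
    exact Fintype.card_subtype_compl _
  have h6 : Nat.card {t : F // t ^ 2 + 1 = 0} ≤ Nat.card F := by
    rw [Nat.card_eq_fintype_card, Nat.card_eq_fintype_card]
    exact Fintype.card_subtype_le _
  have h7 : 1 ≤ Nat.card (Circ F) := by
    rw [← h3, Nat.card_eq_fintype_card, Nat.card_eq_fintype_card]
    exact Fintype.card_subtype_le _
  rw [h3] at h4
  omega

theorem card_circ_split [Finite F] (h2 : (2 : F) ≠ 0) (i : F) (hi : i ^ 2 = -1) :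
    Nat.card (Circ F) + 1 = Nat.card F := by
  classical
  haveI := Fintype.ofFinite F
  have h := card_circ_aux (F := F) h2
  have h1 : Nat.card {t : F // t ^ 2 + 1 = 0} = 2 := by
    have hne : i ≠ -i := by
      intro h
      have h3 : 2 * i = 0 := by linear_combination h
      rcases mul_eq_zero.1 h3 with h4 | h4
      · exact h2 h4
      · rw [h4] at hi
        simp at hi
    have : {t : F | t ^ 2 + 1 = 0} = {i, -i} := by
      ext t
      simp only [Set.mem_setOf_eq, Set.mem_insert_iff, Set.mem_singleton_iff]
      constructor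
      · intro ht
        have : (t - i) * (t + i) = 0 := by linear_combination ht - hi
        rcases mul_eq_zero.1 this with h5 | h5
        · left; linear_combination h5
        · right; linear_combination h5
      · rintro (rfl | rfl)
        · rw [hi]; ring
        · rw [neg_sq, hi]; ring
    show Nat.card {t : F | t ^ 2 + 1 = 0} = 2
    rw [this, Nat.card_coe_set_eq, Set.ncard_pair hne]
  omega

theorem card_circ_nonsplit [Finite F] (h2 : (2 : F) ≠ 0) (hns : ∀ t : F, t ^ 2 ≠ -1) :
    Nat.card (Circ F) = Nat.card F + 1 := by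
  have h := card_circ_aux (F := F) h2
  have h1 : Nat.card {t : F // t ^ 2 + 1 = 0} = 0 := by
    haveI : IsEmpty {t : F // t ^ 2 + 1 = 0} := by
      constructor
      rintro ⟨t, ht⟩
      exact hns t (by linear_combination ht)
    exact Nat.card_of_isEmpty
  omega

end Cfsg.Agent.Lib.Helper5.WrP
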