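import Mathlib
import Cfsg.Agent.Lib.Helper5.WrP7

set_option autoImplicit false

namespace Cfsg.Agent.Lib.Helper5.WrP

open Matrix

variable {F : Type*} [Field F]

/-- a rotation matrix -/
def rot (x y : F) (h : x ^ 2 + y ^ 2 = 1) : Matrix.SpecialLinearGroup (Fin 2) F :=
  ⟨!![x, -y; y, x], by rw [Matrix.det_fin_two_of]; linear_combination h⟩

/-- the group of rotations -/
def rotGroup (F : Type*) [Field F] : Subgroup (Matrix.SpecialLinearGroup (Fin 2) F) where
  carrier := {M | M.1 0 0 = M.1 1 1 ∧ M.1 0 1 = - M.1 1 0}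
  one_mem' := by
    simp
  mul_mem' := by
    rintro M N ⟨h1, h2⟩ ⟨h3, h4⟩
    simp only [Set.mem_setOf_eq, Matrix.SpecialLinearGroup.coe_mul, Matrix.mul_apply,
      Fin.sum_univ_two] at h1 h2 h3 h4 ⊢
    constructor
    · rw [h2, h4, h1, h3]; ring
    · rw [h2, h4, h1, h3]; ring
  inv_mem' := by
    rintro M ⟨h1, h2⟩
    simp only [Set.mem_setOf_eq, Matrix.SpecialLinearGroup.coe_inv, Matrix.adjugate_fin_two,
      Matrix.of_apply, Matrix.cons_val', Matrix.cons_val_zero, Matrix.cons_val_one,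
      Matrix.empty_val', Matrix.cons_val_fin_one] at h1 h2 ⊢
    constructor
    · exact h1.symm
    · rw [h2]

theorem mem_rotGroup {M : Matrix.SpecialLinearGroup (Fin 2) F} :
    M ∈ rotGroup F ↔ M.1 0 0 = M.1 1 1 ∧ M.1 0 1 = - M.1 1 0 := Iff.rfl

theorem rot_mem (x y : F) (h : x ^ 2 + y ^ 2 = 1) : rot x y h ∈ rotGroup F := by
  rw [mem_rotGroup]
  simp [rot]

theorem circ_of_mem {M : Matrix.SpecialLinearGroup (Fin 2) F} (hM : M ∈ rotGroup F) :
    M.1 0 0 ^ 2 + M.1 1 0 ^ 2 = 1 := by
  have h := M.2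
  rw [Matrix.det_fin_two] at h
  rw [← hM.1, hM.2] at h
  linear_combination h

theorem eq_rot_of_mem {M : Matrix.SpecialLinearGroup (Fin 2) F} (hM : M ∈ rotGroup F) :
    M = rot (M.1 0 0) (M.1 1 0) (circ_of_mem hM) := by
  apply Subtype.ext
  ext a b
  fin_cases a <;> fin_cases b
  · simp [rot]
  · simp only [rot]
    exact hM.2
  · simp [rot]
  · simp only [rot]
    exact hM.1.symm

/-- the rotation group is in bijection with the circle -/
def rotEquiv (F : Type*) [Field F] : rotGroup F ≃ Circ F where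
  toFun M := ⟨(M.1.1 0 0, M.1.1 1 0), circ_of_mem M.2⟩
  invFun p := ⟨rot p.1.1 p.1.2 p.2, rot_mem _ _ _⟩
  left_inv M := by
    apply Subtype.ext
    exact (eq_rot_of_mem M.2).symm
  right_inv p := by
    apply Subtype.ext
    simp [rot]

end Cfsg.Agent.Lib.Helper5.WrP

namespace Cfsg.Agent.Lib.Helper5.WrP

open Matrix

variable {F : Type*} [Field F]

theorem rotGroup_isCyclic [Finite F] (h2 : (2 : F) ≠ 0) : IsCyclic (rotGroup F) := by
  set L := AlgebraicClosure F with hL
  obtain ⟨i, hi⟩ : ∃ i : L, i ^ 2 = -1 := IsAlgClosed.exists_pow_nat_eq (-1 : L) (by norm_num)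
  have h2L : (2 : L) ≠ 0 := by
    intro h
    apply h2
    apply (algebraMap F L).injective
    rw [map_ofNat, h, map_zero]
  have hi0 : i ≠ 0 := by
    intro h
    rw [h] at hi
    simp at hi
  let ψ : rotGroup F →* L :=
    { toFun := fun M => algebraMap F L (M.1.1 0 0) + i * algebraMap F L (M.1.1 1 0)
      map_one' := by simp
      map_mul' := by
        rintro ⟨M, hM⟩ ⟨N, hN⟩
        show algebraMap F L ((M * N).1 0 0) + i * algebraMap F L ((M * N).1 1 0) =
          (algebraMap F L (M.1 0 0) + i * algebraMap F L (M.1 1 0)) *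
            (algebraMap F L (N.1 0 0) + i * algebraMap F L (N.1 1 0))
        simp only [Matrix.SpecialLinearGroup.coe_mul, Matrix.mul_apply,
          Fin.sum_univ_two, map_add, map_mul]
        rw [hM.2, ← hM.1, map_neg]
        linear_combination (-(algebraMap F L (M.1 1 0)) * (algebraMap F L (N.1 1 0))) * hi }
  have hψ : ∀ M : rotGroup F, ψ M = algebraMap F L (M.1.1 0 0) + i * algebraMap F L (M.1.1 1 0) :=
    fun _ => rfl
  have hinv : ∀ M : rotGroup F,
      ψ M * (algebraMap F L (M.1.1 0 0) - i * algebraMap F L (M.1.1 1 0)) = 1 := by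
    intro M
    have h := circ_of_mem M.2
    have h' : algebraMap F L (M.1.1 0 0) ^ 2 + algebraMap F L (M.1.1 1 0) ^ 2 = 1 := by
      rw [← map_pow, ← map_pow, ← map_add, h, map_one]
    rw [hψ]
    linear_combination h' - (algebraMap F L (M.1.1 1 0)) ^ 2 * hi
  have hinj : Function.Injective ψ := by
    intro M N hMN
    have h1 := hinv M
    have h2 := hinv N
    rw [hMN] at h1
    have hψN : ψ N ≠ 0 := by
      intro h
      rw [h, zero_mul] at h2
      exact zero_ne_one h2
    have h3 : algebraMap F L (M.1.1 0 0) - i * algebraMap F L (M.1.1 1 0) =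
        algebraMap F L (N.1.1 0 0) - i * algebraMap F L (N.1.1 1 0) :=
      mul_left_cancel₀ hψN (h1.trans h2.symm)
    have h4 : algebraMap F L (M.1.1 0 0) + i * algebraMap F L (M.1.1 1 0) =
        algebraMap F L (N.1.1 0 0) + i * algebraMap F L (N.1.1 1 0) := hMN
    have hx : algebraMap F L (M.1.1 0 0) = algebraMap F L (N.1.1 0 0) := by
      have : 2 * (algebraMap F L (M.1.1 0 0) - algebraMap F L (N.1.1 0 0)) = 0 := by
        linear_combination h3 + h4
      rcases mul_eq_zero.1 this with h5 | h5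
      · exact absurd h5 h2L
      · exact sub_eq_zero.1 h5
    have hy : algebraMap F L (M.1.1 1 0) = algebraMap F L (N.1.1 1 0) := by
      have : 2 * i * (algebraMap F L (M.1.1 1 0) - algebraMap F L (N.1.1 1 0)) = 0 := by
        linear_combination h4 - h3
      rcases mul_eq_zero.1 this with h5 | h5
      · rcases mul_eq_zero.1 h5 with h6 | h6
        · exact absurd h6 h2L
        · exact absurd h6 hi0
      · exact sub_eq_zero.1 h5
    have hx' := (algebraMap F L).injective hx
    have hy' := (algebraMap F L).injective hy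
    apply Subtype.ext
    rw [eq_rot_of_mem M.2, eq_rot_of_mem N.2]
    simp only [rot]
    apply Subtype.ext
    simp only
    rw [hx', hy']
  haveI : Finite (Circ F) := by
    unfold Circ
    infer_instance
  haveI : Finite (rotGroup F) := Finite.of_equiv _ (rotEquiv F).symm
  exact isCyclic_of_injective_ringHom ψ hinj

end Cfsg.Agent.Lib.Helper5.WrP

namespace Cfsg.Agent.Lib.Helper5.WrP

open Matrix

variable {F : Type*} [Field F]

theorem val_two_of_mod_four {m : ℕ} (h : m % 4 = 2) : padicValNat 2 m = 1 := by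
  obtain ⟨m', rfl⟩ : ∃ m', m = 2 * m' := ⟨m / 2, by omega⟩
  have hm' : ¬ 2 ∣ m' := by omega
  rw [padicValNat.mul (by norm_num) (by omega), padicValNat.self (by norm_num),
    padicValNat.eq_zero_of_not_dvd hm']

theorem two_ne_zero_of_odd_card [Fintype F] (hq : Odd (Fintype.card F)) : (2 : F) ≠ 0 := by
  intro h
  have h2 : ringChar F = 2 := by
    have : ringChar F ∣ 2 := by
      apply ringChar.dvd
      exact_mod_cast h
    rcases (Nat.dvd_prime Nat.prime_two).1 this with h3 | h3
    · exact absurd (CharP.ringChar_ne_one (R := F)) (by rw [h3]; simp)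
    · exact h3
  have := FiniteField.even_card_of_char_two h2
  obtain ⟨k, hk⟩ := hq
  omega

theorem three_le_cq {q : ℕ} (hq : Odd q) (hq1 : 1 < q) : 3 ≤ cq q := by
  unfold cq
  obtain ⟨k, rfl⟩ := hq
  rcases Nat.even_or_odd k with ⟨j, rfl⟩ | ⟨j, rfl⟩
  · have h1 : padicValNat 2 (2 * (j + j) + 1 + 1) = 1 := val_two_of_mod_four (by omega)
    have h2 : 2 ^ 2 ∣ 2 * (j + j) + 1 - 1 := ⟨j, by omega⟩
    have h3 := (padicValNat_dvd_iff_le (p := 2) (by omega)).1 h2
    omega
  · have h1 : padicValNat 2 (2 * (2 * j + 1) + 1 - 1) = 1 := val_two_of_mod_four (by omega)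
    have h2 : 2 ^ 2 ∣ 2 * (2 * j + 1) + 1 + 1 := ⟨j + 1, by omega⟩
    have h3 := (padicValNat_dvd_iff_le (p := 2) (by omega)).1 h2
    omega

theorem two_pow_dvd_card_rot [Fintype F] (hq : Odd (Fintype.card F)) :
    2 ^ (cq (Fintype.card F) - 1) ∣ Nat.card (rotGroup F) := by
  have h2 := two_ne_zero_of_odd_card hq
  have hq1 : 1 < Fintype.card F := Fintype.one_lt_card
  haveI : Finite (Circ F) := by
    unfold Circ
    infer_instance
  rw [Nat.card_congr (rotEquiv F)]
  by_cases hsq : ∃ i : F, i ^ 2 = -1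
  · obtain ⟨i, hi⟩ := hsq
    have hc := card_circ_split h2 i hi
    rw [Nat.card_eq_fintype_card (α := F)] at hc
    have hmod : Fintype.card F % 4 ≠ 3 := by
      rw [← FiniteField.isSquare_neg_one_iff]
      exact ⟨i, by rw [← hi]; ring⟩
    have hmod1 : Fintype.card F % 4 = 1 := by
      obtain ⟨k, hk⟩ := hq
      omega
    have h1 : padicValNat 2 (Fintype.card F + 1) = 1 := val_two_of_mod_four (by omega)
    have e : Nat.card (Circ F) = Fintype.card F - 1 := by omega
    rw [e]
    unfold cq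
    rw [h1, Nat.add_sub_cancel_left]
    exact pow_padicValNat_dvd
  · have hsq : ∀ i : F, i ^ 2 ≠ -1 := fun i hi => hsq ⟨i, hi⟩
    have hc := card_circ_nonsplit h2 hsq
    rw [Nat.card_eq_fintype_card (α := F)] at hc
    have hmod : Fintype.card F % 4 = 3 := by
      by_contra h
      rw [← ne_eq, ← FiniteField.isSquare_neg_one_iff] at h
      obtain ⟨i, hi⟩ := h
      exact hsq i (by rw [hi]; ring)
    have h1 : padicValNat 2 (Fintype.card F - 1) = 1 := val_two_of_mod_four (by omega)
    rw [hc]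
    unfold cq
    rw [h1, Nat.add_sub_cancel]
    exact pow_padicValNat_dvd

theorem exists_rot_order [Fintype F] (hq : Odd (Fintype.card F)) :
    ∃ a ∈ rotGroup F, orderOf a = 2 ^ (cq (Fintype.card F) - 1) := by
  have h2 := two_ne_zero_of_odd_card hq
  haveI := rotGroup_isCyclic (F := F) h2
  haveI : Finite (Circ F) := by
    unfold Circ
    infer_instance
  haveI : Finite (rotGroup F) := Finite.of_equiv _ (rotEquiv F).symm
  obtain ⟨g, hg⟩ := IsCyclic.exists_ofOrder_eq_natCard (α := rotGroup F)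
  obtain ⟨m, hm⟩ := two_pow_dvd_card_rot hq
  have hN : 0 < Nat.card (rotGroup F) := Nat.card_pos
  have hm0 : m ≠ 0 := by
    rintro rfl
    rw [mul_zero] at hm
    omega
  refine ⟨(g ^ m : rotGroup F), (g ^ m).2, ?_⟩
  rw [Subgroup.orderOf_coe, orderOf_pow_of_dvd hm0 (by rw [hg, hm]; exact dvd_mul_left _ _), hg, hm,
    Nat.mul_div_cancel _ (Nat.pos_of_ne_zero hm0)]

end Cfsg.Agent.Lib.Helper5.WrP
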