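import Mathlib
import Cfsg.Agent.Lib.Helper5.WrP8

set_option autoImplicit false

namespace Cfsg.Agent.Lib.Helper5.WrP

open scoped commutatorElement

section dic

variable {G : Type*} [Group G] {a b : G}

theorem b_mul_zpow (h1 : b * a * b⁻¹ = a⁻¹) (j : ℤ) : b * a ^ j = a ^ (-j) * b := by
  have h : b * a ^ j * b⁻¹ = (a⁻¹) ^ j := by
    rw [← h1]
    exact (conj_zpow (a := b) (b := a) (i := j)).symm
  rw [zpow_neg, ← inv_zpow, ← h]
  group

theorem b_inv_eq (m : ℤ) (h2 : b * b = a ^ m) : b⁻¹ = a ^ (-m) * b := by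
  rw [zpow_neg, ← h2]
  group

/-- the (generalised) dicyclic group generated by `a` and `b` -/
def dic (a b : G) (h1 : b * a * b⁻¹ = a⁻¹) (m : ℤ) (h2 : b * b = a ^ m) : Subgroup G where
  carrier := {g | ∃ j : ℤ, g = a ^ j ∨ g = a ^ j * b}
  one_mem' := ⟨0, Or.inl (zpow_zero a).symm⟩
  mul_mem' := by
    rintro _ _ ⟨j, rfl | rfl⟩ ⟨l, rfl | rfl⟩
    · exact ⟨j + l, Or.inl (zpow_add a j l).symm⟩
    · exact ⟨j + l, Or.inr (by rw [zpow_add, mul_assoc])⟩
    · refine ⟨j - l, Or.inr ?_⟩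
      rw [mul_assoc, b_mul_zpow h1, ← mul_assoc, ← zpow_add, sub_eq_add_neg]
    · refine ⟨j - l + m, Or.inl ?_⟩
      calc a ^ j * b * (a ^ l * b) = a ^ j * (b * a ^ l) * b := by group
        _ = a ^ j * (a ^ (-l) * b) * b := by rw [b_mul_zpow h1]
        _ = a ^ j * a ^ (-l) * (b * b) := by group
        _ = a ^ (j - l + m) := by rw [h2, ← zpow_add, ← zpow_add, sub_eq_add_neg]
  inv_mem' := by
    rintro _ ⟨j, rfl | rfl⟩
    · exact ⟨-j, Or.inl (zpow_neg a j).symm⟩
    · refine ⟨-m + j, Or.inr ?_⟩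
      rw [mul_inv_rev, b_inv_eq m h2, mul_assoc, ← zpow_neg, b_mul_zpow h1, neg_neg, ← mul_assoc,
        ← zpow_add]

variable (h1 : b * a * b⁻¹ = a⁻¹) (m : ℤ) (h2 : b * b = a ^ m)

theorem mem_dic {g : G} : g ∈ dic a b h1 m h2 ↔ ∃ j : ℤ, g = a ^ j ∨ g = a ^ j * b := Iff.rfl

theorem a_mem_dic : a ∈ dic a b h1 m h2 := ⟨1, Or.inl (zpow_one a).symm⟩

theorem b_mem_dic : b ∈ dic a b h1 m h2 := ⟨0, Or.inr (by rw [zpow_zero, one_mul])⟩

theorem zpowers_le_dic : Subgroup.zpowers a ≤ dic a b h1 m h2 := by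
  rw [Subgroup.zpowers_le]
  exact a_mem_dic h1 m h2

theorem dic_eq_closure : Subgroup.closure {a, b} = dic a b h1 m h2 := by
  apply le_antisymm
  · rw [Subgroup.closure_le]
    rintro g (rfl | rfl)
    · exact a_mem_dic h1 m h2
    · exact b_mem_dic h1 m h2
  · rintro _ ⟨j, rfl | rfl⟩
    · exact Subgroup.zpow_mem _ (Subgroup.subset_closure (by simp)) j
    · exact Subgroup.mul_mem _ (Subgroup.zpow_mem _ (Subgroup.subset_closure (by simp)) j)
        (Subgroup.subset_closure (by simp))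

theorem comm_dic_le : ⁅dic a b h1 m h2, dic a b h1 m h2⁆ ≤ Subgroup.zpowers a := by
  rw [Subgroup.commutator_le]
  have key : ∀ j l : ℤ, ⁅a ^ j, a ^ l * b⁆ = a ^ (2 * j) := by
    intro j l
    rw [commutatorElement_def]
    calc a ^ j * (a ^ l * b) * (a ^ j)⁻¹ * (a ^ l * b)⁻¹
        = a ^ j * a ^ l * (b * a ^ (-j)) * b⁻¹ * a ^ (-l) := by
          rw [zpow_neg, zpow_neg]; group
      _ = a ^ j * a ^ l * (a ^ j * b) * b⁻¹ * a ^ (-l) := by rw [b_mul_zpow h1, neg_neg]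
      _ = a ^ j * a ^ l * a ^ j * a ^ (-l) := by group
      _ = a ^ (2 * j) := by
        rw [← zpow_add, ← zpow_add, ← zpow_add]
        congr 1
        ring
  rintro _ ⟨j, rfl | rfl⟩ _ ⟨l, rfl | rfl⟩
  · rw [commutatorElement_def]
    have : a ^ j * a ^ l * (a ^ j)⁻¹ * (a ^ l)⁻¹ = 1 := by
      rw [← zpow_neg, ← zpow_neg, ← zpow_add, ← zpow_add, ← zpow_add]
      have : j + l + -j + -l = 0 := by ring
      rw [this, zpow_zero]
    rw [this]
    exact Subgroup.one_mem _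
  · rw [key]
    exact Subgroup.zpow_mem_zpowers a _
  · rw [← commutatorElement_inv, key]
    exact Subgroup.inv_mem _ (Subgroup.zpow_mem_zpowers a _)
  · rw [commutatorElement_def]
    have : a ^ j * b * (a ^ l * b) * (a ^ j * b)⁻¹ * (a ^ l * b)⁻¹ = a ^ (2 * j - 2 * l) := by
      calc a ^ j * b * (a ^ l * b) * (a ^ j * b)⁻¹ * (a ^ l * b)⁻¹
          = a ^ j * (b * a ^ (l - j)) * b⁻¹ * a ^ (-l) := by
            rw [zpow_neg, zpow_sub]; group
        _ = a ^ j * (a ^ (-(l - j)) * b) * b⁻¹ * a ^ (-l) := by rw [b_mul_zpow h1]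
        _ = a ^ j * a ^ (-(l - j)) * a ^ (-l) := by group
        _ = a ^ (2 * j - 2 * l) := by
          rw [← zpow_add, ← zpow_add]
          congr 1
          ring
    rw [this]
    exact Subgroup.zpow_mem_zpowers a _

theorem dser_dic_two : dser (dic a b h1 m h2) 2 = ⊥ := by
  rw [dser_succ, dser_succ, dser_zero, eq_bot_iff]
  calc ⁅⁅dic a b h1 m h2, dic a b h1 m h2⁆, ⁅dic a b h1 m h2, dic a b h1 m h2⁆⁆
      ≤ ⁅Subgroup.zpowers a, Subgroup.zpowers a⁆ :=
        Subgroup.commutator_mono (comm_dic_le h1 m h2) (comm_dic_le h1 m h2)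
    _ ≤ ⊥ := by
      rw [Subgroup.commutator_le]
      intro x hx y hy
      rw [Subgroup.mem_bot, commutatorElement_def]
      obtain ⟨i, rfl⟩ := Subgroup.mem_zpowers_iff.1 hx
      obtain ⟨k, rfl⟩ := Subgroup.mem_zpowers_iff.1 hy
      rw [← zpow_neg, ← zpow_neg, ← zpow_add, ← zpow_add, ← zpow_add]
      have : i + k + -i + -k = 0 := by ring
      rw [this, zpow_zero]

theorem sq_mem_comm_dic : a ^ 2 ∈ ⁅dic a b h1 m h2, dic a b h1 m h2⁆ := by
  have h : ⁅a, b⁆ = a ^ 2 := by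
    rw [commutatorElement_def]
    calc a * b * a⁻¹ * b⁻¹ = a * (b * a * b⁻¹)⁻¹ := by group
      _ = a ^ 2 := by rw [h1, inv_inv, pow_two]
  rw [← h]
  exact Subgroup.commutator_mem_commutator (a_mem_dic h1 m h2) (b_mem_dic h1 m h2)

theorem dser_dic_one_ne (ha : a ^ 2 ≠ 1) : dser (dic a b h1 m h2) 1 ≠ ⊥ := by
  intro h
  have := sq_mem_comm_dic h1 m h2
  rw [dser_succ, dser_zero] at h
  rw [h, Subgroup.mem_bot] at this
  exact ha this

theorem sqDer_dic (m' : ℤ) (hm : m = 2 * m') : SqDer (dic a b h1 m h2) := by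
  apply sqDer_of_closure _ (dic_eq_closure h1 m h2)
  rintro g (rfl | rfl)
  · exact sq_mem_comm_dic h1 m h2
  · have e : g ^ 2 = (a ^ 2) ^ m' := by
      rw [pow_two, h2, hm, zpow_mul, zpow_ofNat]
    rw [e]
    exact Subgroup.zpow_mem _ (sq_mem_comm_dic h1 m h2) _

theorem card_dic (hb : b ∉ Subgroup.zpowers a) :
    Nat.card (dic a b h1 m h2) = 2 * orderOf a := by
  have e : (Subgroup.zpowers a × Bool) ≃ dic a b h1 m h2 := by
    refine Equiv.ofBijective
      (fun y => ⟨y.1.1 * (if y.2 then b else 1), ?_⟩) ⟨?_, ?_⟩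
    · obtain ⟨⟨x, hx⟩, ε⟩ := y
      obtain ⟨j, rfl⟩ := Subgroup.mem_zpowers_iff.1 hx
      cases ε
      · exact ⟨j, Or.inl (by simp)⟩
      · exact ⟨j, Or.inr (by simp)⟩
    · rintro ⟨⟨x, hx⟩, ε⟩ ⟨⟨x', hx'⟩, ε'⟩ h
      have h' : x * (if ε then b else 1) = x' * (if ε' then b else 1) := congrArg Subtype.val h
      cases ε <;> cases ε'
      · simp only [Bool.false_eq_true, if_false, mul_one] at h'
        subst h'
        rfl
      · exfalso
        simp only [Bool.false_eq_true, if_false, mul_one, if_true] at h'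
        apply hb
        have : b = x'⁻¹ * x := by rw [h']; group
        rw [this]
        exact Subgroup.mul_mem _ (Subgroup.inv_mem _ hx') hx
      · exfalso
        simp only [Bool.false_eq_true, if_false, mul_one, if_true] at h'
        apply hb
        have : b = x⁻¹ * x' := by rw [← h']; group
        rw [this]
        exact Subgroup.mul_mem _ (Subgroup.inv_mem _ hx) hx'
      · simp only [if_true] at h'
        have := mul_right_cancel h'
        subst this
        rfl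
    · rintro ⟨_, j, rfl | rfl⟩
      · exact ⟨(⟨a ^ j, Subgroup.zpow_mem_zpowers a j⟩, false), by simp⟩
      · exact ⟨(⟨a ^ j, Subgroup.zpow_mem_zpowers a j⟩, true), by simp⟩
  rw [← Nat.card_congr e, Nat.card_prod, Nat.card_zpowers, Nat.card_eq_fintype_card,
    Fintype.card_bool, mul_comm]

end dic

end Cfsg.Agent.Lib.Helper5.WrP
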