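import Mathlib
import Cfsg.Agent.Lib.Helper5.WrP9

set_option autoImplicit false

namespace Cfsg.Agent.Lib.Helper5.WrP

open Matrix

variable {F : Type*} [Field F]

/-- the reflection-type element -/
def refl (s t : F) (h : s ^ 2 + t ^ 2 = -1) : Matrix.SpecialLinearGroup (Fin 2) F :=
  ⟨!![s, -t; -t, -s], by rw [Matrix.det_fin_two_of]; linear_combination (-1 : F) * h⟩

theorem refl_mul_rot (s t : F) (h : s ^ 2 + t ^ 2 = -1) {M : Matrix.SpecialLinearGroup (Fin 2) F}
    (hM : M ∈ rotGroup F) : refl s t h * M * (refl s t h)⁻¹ = M⁻¹ := by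
  rw [mul_inv_eq_iff_eq_mul]
  apply Subtype.ext
  rw [Matrix.SpecialLinearGroup.coe_mul, Matrix.SpecialLinearGroup.coe_mul,
    Matrix.SpecialLinearGroup.coe_inv, Matrix.adjugate_fin_two]
  have e := eq_rot_of_mem hM
  have e1 : M.1 0 1 = - M.1 1 0 := hM.2
  have e2 : M.1 1 1 = M.1 0 0 := hM.1.symm
  ext i j
  fin_cases i <;> fin_cases j <;>
  simp [refl, Matrix.mul_apply, Fin.sum_univ_two, e1, e2] <;> ring

theorem refl_mul_self (s t : F) (h : s ^ 2 + t ^ 2 = -1) :
    ((refl s t h * refl s t h : Matrix.SpecialLinearGroup (Fin 2) F) :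
      Matrix (Fin 2) (Fin 2) F) = !![-1, 0; 0, -1] := by
  rw [Matrix.SpecialLinearGroup.coe_mul]
  ext i j
  fin_cases i <;> fin_cases j <;>
  simp [refl, Matrix.mul_apply, Fin.sum_univ_two]
  · linear_combination h
  · ring
  · ring
  · linear_combination h

theorem refl_not_mem (h2 : (2 : F) ≠ 0) (s t : F) (h : s ^ 2 + t ^ 2 = -1) :
    refl s t h ∉ rotGroup F := by
  intro hm
  obtain ⟨h1, h3⟩ := hm
  simp only [refl, Matrix.of_apply, Matrix.cons_val', Matrix.cons_val_zero, Matrix.cons_val_one,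
    Matrix.empty_val', Matrix.cons_val_fin_one, neg_neg] at h1 h3
  have hs : s = 0 := by
    have : 2 * s = 0 := by linear_combination h1
    rcases mul_eq_zero.1 this with h4 | h4
    · exact absurd h4 h2
    · exact h4
  have ht : t = 0 := by
    have : 2 * t = 0 := by linear_combination (-1 : F) * h3
    rcases mul_eq_zero.1 this with h4 | h4
    · exact absurd h4 h2
    · exact h4
  rw [hs, ht] at h
  simp at h

/-- an involution in the rotation group is `-1` -/
theorem rot_involution (h2 : (2 : F) ≠ 0) {M : Matrix.SpecialLinearGroup (Fin 2) F}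
    (hM : M ∈ rotGroup F) (hsq : M * M = 1) (hne : M ≠ 1) :
    (M : Matrix (Fin 2) (Fin 2) F) = !![-1, 0; 0, -1] := by
  have e1 : M.1 0 1 = - M.1 1 0 := hM.2
  have e2 : M.1 1 1 = M.1 0 0 := hM.1.symm
  have hc := circ_of_mem hM
  have h := congrArg Subtype.val hsq
  rw [Matrix.SpecialLinearGroup.coe_mul, Matrix.SpecialLinearGroup.coe_one] at h
  have h00 := congrFun (congrFun h 0) 0
  have h10 := congrFun (congrFun h 1) 0
  simp only [Matrix.mul_apply, Fin.sum_univ_two, Matrix.one_apply_eq, e1, e2] at h00 h10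
  rw [Matrix.one_apply_ne (by decide)] at h10
  -- h00 : x*x + -y*y = 1 ; h10 : y * x + x * y = 0
  have hy : M.1 1 0 = 0 := by
    have : 2 * (M.1 1 0) ^ 2 = 0 := by linear_combination hc - h00
    rcases mul_eq_zero.1 this with h4 | h4
    · exact absurd h4 h2
    · exact pow_eq_zero_iff (by norm_num) |>.1 h4
  have hx : M.1 0 0 ^ 2 = 1 := by rw [hy] at hc; linear_combination hc
  have hx' : M.1 0 0 = 1 ∨ M.1 0 0 = -1 := sq_eq_one_iff.1 hx
  rcases hx' with hx1 | hx1
  · exfalso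
    apply hne
    apply Subtype.ext
    ext i j
    fin_cases i <;> fin_cases j
    · simpa using hx1
    · simpa [hy] using e1
    · simpa using hy
    · simpa [hx1] using e2
  · ext i j
    fin_cases i <;> fin_cases j
    · simpa using hx1
    · simpa [hy] using e1
    · simpa using hy
    · simpa [hx1] using e2

end Cfsg.Agent.Lib.Helper5.WrP

namespace Cfsg.Agent.Lib.Helper5.WrP

open Matrix

variable {F : Type*} [Field F]

theorem exists_sq_add_sq_neg_one [Finite F] : ∃ s t : F, s ^ 2 + t ^ 2 = -1 := by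
  obtain ⟨p, hp⟩ := CharP.exists F
  haveI := hp
  haveI : Fact p.Prime := ⟨CharP.char_is_prime F p⟩
  obtain ⟨a, b, hab⟩ := CharP.sq_add_sq F p (-1)
  exact ⟨a, b, by rw [hab]; simp⟩

/-- a generalised quaternion subgroup of `SL₂(q)` of order `(q² - 1)₂` -/
theorem exists_quat [Fintype F] (hq : Odd (Fintype.card F)) :
    ∃ Q : Subgroup (Matrix.SpecialLinearGroup (Fin 2) F),
      Nat.card Q = 2 ^ cq (Fintype.card F) ∧ SqDer Q ∧ dser Q 2 = ⊥ ∧ dser Q 1 ≠ ⊥ := by
  have h2 := two_ne_zero_of_odd_card hq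
  have hq1 : 1 < Fintype.card F := Fintype.one_lt_card
  have h3 := three_le_cq hq hq1
  obtain ⟨a, ha_mem, ha_ord⟩ := exists_rot_order hq
  obtain ⟨k, hk⟩ : ∃ k, cq (Fintype.card F) = k + 3 := ⟨cq (Fintype.card F) - 3, by omega⟩
  rw [hk] at ha_ord
  have hk2 : k + 3 - 1 = k + 2 := by omega
  rw [hk2] at ha_ord
  obtain ⟨s, t, hst⟩ := exists_sq_add_sq_neg_one (F := F)
  set b := refl s t hst with hb
  have h1 : b * a * b⁻¹ = a⁻¹ := refl_mul_rot s t hst ha_mem
  have hzle : Subgroup.zpowers a ≤ rotGroup F := by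
    rw [Subgroup.zpowers_le]
    exact ha_mem
  have hz_mem : a ^ (2 ^ (k + 1)) ∈ rotGroup F := Subgroup.pow_mem _ ha_mem _
  have hz_sq : a ^ (2 ^ (k + 1)) * a ^ (2 ^ (k + 1)) = 1 := by
    rw [← pow_add, ← two_mul, ← pow_succ', ← ha_ord]
    exact pow_orderOf_eq_one a
  have hz_ne : a ^ (2 ^ (k + 1)) ≠ 1 := by
    intro h
    have := orderOf_dvd_of_pow_eq_one h
    rw [ha_ord] at this
    have h4 := Nat.le_of_dvd (by positivity) this
    have : 2 ^ (k + 1) < 2 ^ (k + 2) := Nat.pow_lt_pow_right (by norm_num) (by omega)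
    omega
  have hbb : b * b = a ^ (((2 ^ (k + 1) : ℕ)) : ℤ) := by
    rw [zpow_natCast]
    apply Subtype.ext
    rw [refl_mul_self, rot_involution h2 hz_mem hz_sq hz_ne]
  have hbz : b ∉ Subgroup.zpowers a := fun h => refl_not_mem h2 s t hst (hzle h)
  refine ⟨dic a b h1 _ hbb, ?_, ?_, ?_, ?_⟩
  · rw [card_dic h1 _ hbb hbz, ha_ord, hk]
    ring
  · apply sqDer_dic h1 _ hbb ((2 ^ k : ℕ) : ℤ)
    push_cast
    ring
  · exact dser_dic_two h1 _ hbb
  · apply dser_dic_one_ne h1 _ hbb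
    intro h
    have := orderOf_dvd_of_pow_eq_one h
    rw [ha_ord] at this
    have h4 := Nat.le_of_dvd (by norm_num) this
    have : 2 ^ 2 ≤ 2 ^ (k + 2) := Nat.pow_le_pow_right (by norm_num) (by omega)
    omega

end Cfsg.Agent.Lib.Helper5.WrP
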