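import Mathlib
import Cfsg.Agent.Lib.Helper5.WrP10
import Cfsg.Agent.Lib.Helper5.SylSym6
import Cfsg.Agent.S0245

set_option autoImplicit false

namespace Cfsg.Agent.Lib.Helper5.WrP

open Matrix Equiv Cfsg.Agent.Lib.Helper5.SylSym

theorem sqDer_of_GenP {G : Type*} [Group G] {H : Subgroup G} (h : GenP 2 H) : SqDer H := by
  intro x hx
  have h1 := pow_mem_commutator h ⟨x, hx⟩
  rw [← Subgroup.map_subtype_commutator]
  exact ⟨_, h1, by rw [map_pow]; rfl⟩

variable {F : Type*} [Field F] [Fintype F]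

/-- the standard Sylow `2`-subgroup of `Sp_{2n}(q)`, `q` odd -/
theorem card_W_sp (hq : Odd (Fintype.card F)) (n : ℕ)
    (Q : Subgroup (Matrix.SpecialLinearGroup (Fin 2) F))
    (hQ : Nat.card Q = 2 ^ cq (Fintype.card F)) (T : Sylow 2 (Perm (Fin n))) :
    Nat.card ((spData F n).W Q (T : Subgroup (Perm (Fin n)))) =
      2 ^ (Nat.card (symplecticGroup (Fin n) F)).factorization 2 := by
  have hq1 : 1 < Fintype.card F := Fintype.one_lt_card
  rw [WrData.card_W, hQ, card_sylow_perm 2 n T, Fintype.card_fin,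
    Cfsg.Agent.S0245.result (F := F) rfl n, val_card_sp hq1 hq n, ← pow_mul, ← pow_add, mul_comm]

theorem exists_sylow_sp (hq : Odd (Fintype.card F)) (n : ℕ) (T : Sylow 2 (Perm (Fin n))) :
    ∃ (Q : Subgroup (Matrix.SpecialLinearGroup (Fin 2) F))
      (P : Sylow 2 (symplecticGroup (Fin n) F)),
      (P : Subgroup (symplecticGroup (Fin n) F)) =
        (spData F n).W Q (T : Subgroup (Perm (Fin n))) ∧
      Nat.card Q = 2 ^ cq (Fintype.card F) ∧ SqDer Q ∧ dser Q 2 = ⊥ ∧ dser Q 1 ≠ ⊥ := by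
  obtain ⟨Q, hQc, hQs, hQ2, hQ1⟩ := exists_quat hq
  exact ⟨Q, Sylow.ofCard _ (card_W_sp hq n Q hQc T), rfl, hQc, hQs, hQ2, hQ1⟩

theorem sylow_conj {G : Type*} [Group G] [Finite G] (P₀ P : Sylow 2 G) :
    ∃ g : G, (P : Subgroup G) = (P₀ : Subgroup G).map (MulAut.conj g).toMonoidHom := by
  obtain ⟨g, hg⟩ := MulAction.exists_smul_eq G P₀ P
  refine ⟨g, ?_⟩
  rw [← hg]
  rfl

/-- squares in a Sylow `2`-subgroup of `Sp_{2n}(q)`, `q` odd, lie in the derived subgroup -/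
theorem sylow_sp_sqDer (hq : Odd (Fintype.card F)) (n : ℕ)
    (P : Sylow 2 (symplecticGroup (Fin n) F)) :
    SqDer (P : Subgroup (symplecticGroup (Fin n) F)) := by
  obtain ⟨T⟩ : Nonempty (Sylow 2 (Perm (Fin n))) := inferInstance
  obtain ⟨Q, P₀, hP₀, _, hQs, _, _⟩ := exists_sylow_sp (F := F) hq n T
  obtain ⟨g, hg⟩ := sylow_conj P₀ P
  rw [hg]
  apply SqDer.map
  rw [hP₀]
  exact (spData F n).sqDer_W hQs (sqDer_of_GenP (sylow_GenP 2 n T))

end Cfsg.Agent.Lib.Helper5.WrP
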