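import Mathlib
import Cfsg.Agent.Lib.Helper5.WrP11

set_option autoImplicit false

namespace Cfsg.Agent.Lib.Helper5.WrP

open Equiv

variable {A ι G : Type*} [Group A] [Group G] (D : WrData A ι G)

namespace WrData

theorem perm_inv_fix {t : Perm ι} {i : ι} (h : t i = i) : t⁻¹ i = i := by
  rw [Perm.inv_eq_iff_eq]
  exact h.symm

/-- the elements of the wreath product supported on a set of coordinates -/
def WS (S : Set ι) : Subgroup G where
  carrier := {g | ∃ (f : ι → A) (t : Perm ι), (∀ i, i ∉ S → f i = 1) ∧ (∀ i, i ∉ S → t i = i) ∧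
    g = D.β f * D.π t}
  one_mem' := ⟨1, 1, fun _ _ => rfl, fun _ _ => rfl, by rw [map_one, map_one, one_mul]⟩
  mul_mem' := by
    rintro _ _ ⟨f, t, hf, ht, rfl⟩ ⟨f', t', hf', ht', rfl⟩
    refine ⟨_, t * t', ?_, ?_, D.mul_formula f f' t t'⟩
    · intro i hi
      rw [Pi.mul_apply, hf i hi, perm_inv_fix (ht i hi), hf' i hi, one_mul]
    · intro i hi
      rw [Perm.mul_apply, ht' i hi, ht i hi]
  inv_mem' := by
    rintro _ ⟨f, t, hf, ht, rfl⟩
    refine ⟨_, t⁻¹, ?_, ?_, D.inv_formula f t⟩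
    · intro i hi
      rw [ht i hi, hf i hi, inv_one]
    · intro i hi
      exact perm_inv_fix (ht i hi)

theorem mem_WS {S : Set ι} {g : G} : g ∈ D.WS S ↔ ∃ (f : ι → A) (t : Perm ι),
    (∀ i, i ∉ S → f i = 1) ∧ (∀ i, i ∉ S → t i = i) ∧ g = D.β f * D.π t := Iff.rfl

theorem WS_mono {S S' : Set ι} (h : S ⊆ S') : D.WS S ≤ D.WS S' := by
  rintro _ ⟨f, t, hf, ht, rfl⟩
  exact ⟨f, t, fun i hi => hf i (fun h' => hi (h h')), fun i hi => ht i (fun h' => hi (h h')), rfl⟩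

theorem conj_formula (σ : Perm ι) (f : ι → A) (t : Perm ι) :
    D.π σ * (D.β f * D.π t) * (D.π σ)⁻¹ = D.β (fun i => f (σ⁻¹ i)) * D.π (σ * t * σ⁻¹) := by
  rw [← D.conj σ f, map_mul, map_mul, map_inv]
  group

theorem conj_mem_WS {S : Set ι} (σ : Perm ι) {g : G} (hg : g ∈ D.WS S) :
    D.π σ * g * (D.π σ)⁻¹ ∈ D.WS (σ '' S) := by
  obtain ⟨f, t, hf, ht, rfl⟩ := hg
  refine ⟨_, _, ?_, ?_, D.conj_formula σ f t⟩
  · intro i hi
    apply hf
    intro h
    apply hi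
    exact ⟨σ⁻¹ i, h, (Equiv.eq_symm_apply σ).mp rfl⟩
  · intro i hi
    have h1 : σ⁻¹ i ∉ S := by
      intro h
      apply hi
      exact ⟨σ⁻¹ i, h, (Equiv.eq_symm_apply σ).mp rfl⟩
    rw [Perm.mul_apply, Perm.mul_apply, ht _ h1]
    exact (Equiv.eq_symm_apply σ).mp rfl

theorem commute_of_disjoint {S S' : Set ι} (hd : Disjoint S S') {g g' : G} (hg : g ∈ D.WS S)
    (hg' : g' ∈ D.WS S') : g * g' = g' * g := by
  obtain ⟨f, t, hf, ht, rfl⟩ := hg
  obtain ⟨f', t', hf', ht', rfl⟩ := hg'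
  rw [D.mul_formula, D.mul_formula]
  have hdis : ∀ i, i ∈ S → i ∉ S' := fun i hi hi' => Set.disjoint_left.1 hd hi hi'
  have htt : t * t' = t' * t := by
    apply Perm.Disjoint.commute
    intro i
    by_cases hi : i ∈ S
    · right
      exact ht' i (hdis i hi)
    · left
      exact ht i hi
  rw [htt]
  congr 2
  funext i
  simp only [Pi.mul_apply]
  by_cases hi : i ∈ S
  · have hi' : i ∉ S' := hdis i hi
    have h1 : t⁻¹ i ∉ S' := by
      intro h
      have h2 : t⁻¹ i ∉ S := fun h3 => hdis _ h3 h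
      have h3 := ht _ h2
      rw [show t (t⁻¹ i) = i from (Equiv.eq_symm_apply t).mp rfl] at h3
      rw [← h3] at h
      exact hi' h
    rw [hf' _ h1, hf' i hi', perm_inv_fix (ht' i hi'), mul_one, one_mul]
  · have h1 : t'⁻¹ i ∉ S := by
      intro h
      have h2 : t'⁻¹ i ∉ S' := hdis _ h
      have h3 := ht' _ h2
      rw [show t' (t'⁻¹ i) = i from (Equiv.eq_symm_apply t').mp rfl] at h3
      rw [← h3] at h
      exact hi h
    rw [hf i hi, hf _ h1, perm_inv_fix (ht i hi), mul_one, one_mul]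

theorem eq_one_of_mem_WS_disjoint {S S' : Set ι} (hd : Disjoint S S') {g : G} (hg : g ∈ D.WS S)
    (hg' : g ∈ D.WS S') : g = 1 := by
  obtain ⟨f, t, hf, ht, rfl⟩ := hg
  obtain ⟨f', t', hf', ht', h⟩ := hg'
  rw [D.eq_iff] at h
  obtain ⟨rfl, rfl⟩ := h
  have hdis : ∀ i, i ∈ S → i ∉ S' := fun i hi hi' => Set.disjoint_left.1 hd hi hi'
  have h1 : f = 1 := by
    funext i
    by_cases hi : i ∈ S
    · exact hf' i (hdis i hi)
    · exact hf i hi
  have h2 : t = 1 := by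
    ext i
    by_cases hi : i ∈ S
    · exact ht' i (hdis i hi)
    · exact ht i hi
  rw [h1, h2, map_one, map_one, one_mul]

theorem pi_mem_WS {S : Set ι} {σ : Perm ι} (h : ∀ i, i ∉ S → σ i = i) : D.π σ ∈ D.WS S :=
  ⟨1, σ, fun _ _ => rfl, h, by rw [map_one, one_mul]⟩

theorem beta_injective : Function.Injective D.β := by
  rw [injective_iff_map_eq_one]
  intro f hf
  have : D.β f * D.π 1 = 1 := by rw [map_one, mul_one, hf]
  exact (D.inj f 1 this).1

/-- the step raising the derived length -/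
theorem WS_step {S S' : Set ι} (σ : Perm ι) (hσ : σ * σ = 1) (hdis : Disjoint S (σ '' S))
    (hSS' : S ⊆ S') (hσS' : ∀ i, i ∉ S' → σ i = i) {H : Subgroup G} (hH2 : IsPGroup 2 H)
    (hHS : H ≤ D.WS S) (i : ℕ) (hi : dser H i ≠ ⊥) :
    IsPGroup 2 (H ⊔ Subgroup.zpowers (D.π σ) : Subgroup G) ∧
      (H ⊔ Subgroup.zpowers (D.π σ) : Subgroup G) ≤ D.WS S' ∧
      dser (H ⊔ Subgroup.zpowers (D.π σ) : Subgroup G) (i + 1) ≠ ⊥ := by
  have hs : D.π σ * D.π σ = 1 := by rw [← map_mul, hσ, map_one]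
  have hcomm : ∀ x ∈ H, ∀ y ∈ H, Commute x (D.π σ * y * (D.π σ)⁻¹) := by
    intro x hx y hy
    exact D.commute_of_disjoint hdis (hHS hx) (D.conj_mem_WS σ (hHS hy))
  refine ⟨isPGroup_step hH2 hs hcomm, ?_, ?_⟩
  · apply sup_le (le_trans hHS (D.WS_mono hSS'))
    rw [Subgroup.zpowers_le]
    exact D.pi_mem_WS hσS'
  · apply dser_step le_sup_left (le_sup_right (a := H) (Subgroup.mem_zpowers (D.π σ))) hcomm _ i hi
    intro x hx y hy hxy
    apply D.eq_one_of_mem_WS_disjoint hdis (hHS hx)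
    rw [hxy]
    exact D.conj_mem_WS σ (hHS hy)

end WrData

end Cfsg.Agent.Lib.Helper5.WrP
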