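import Mathlib
import Cfsg.Agent.Lib.Helper5.WrP12

set_option autoImplicit false

namespace Cfsg.Agent.Lib.Helper5.WrP

open Equiv

/-- the involution `i ↔ i + 2^j` for `i < 2^j` on `Fin n` -/
def sigFun (n j : ℕ) (h : 2 ^ (j + 1) ≤ n) (i : Fin n) : Fin n :=
  if h1 : i.val < 2 ^ j then ⟨i.val + 2 ^ j, by rw [pow_succ] at h; omega⟩
  else if h2 : i.val < 2 ^ (j + 1) then ⟨i.val - 2 ^ j, by omega⟩
  else i

theorem sigFun_invol (n j : ℕ) (h : 2 ^ (j + 1) ≤ n) : Function.Involutive (sigFun n j h) := by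
  intro i
  have hp : 2 ^ (j + 1) = 2 * 2 ^ j := pow_succ' 2 j
  apply Fin.ext
  unfold sigFun
  by_cases h1 : i.val < 2 ^ j
  · simp only [h1, dite_true]
    have h3 : ¬ (i.val + 2 ^ j < 2 ^ j) := by omega
    have h4 : i.val + 2 ^ j < 2 ^ (j + 1) := by omega
    simp only [h3, dite_false, h4, dite_true]
    omega
  · by_cases h2 : i.val < 2 ^ (j + 1)
    · simp only [h1, dite_false, h2, dite_true]
      have h3 : i.val - 2 ^ j < 2 ^ j := by omega
      simp only [h3, dite_true]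
      omega
    · simp only [h1, dite_false, h2]

/-- the permutation -/
def sig (n j : ℕ) (h : 2 ^ (j + 1) ≤ n) : Perm (Fin n) := (sigFun_invol n j h).toPerm

theorem sig_apply (n j : ℕ) (h : 2 ^ (j + 1) ≤ n) (i : Fin n) : sig n j h i = sigFun n j h i := rfl

theorem sig_mul_self (n j : ℕ) (h : 2 ^ (j + 1) ≤ n) : sig n j h * sig n j h = 1 := by
  ext i
  rw [Perm.mul_apply, sig_apply, sig_apply, sigFun_invol n j h i, Perm.one_apply]

theorem sig_fix (n j : ℕ) (h : 2 ^ (j + 1) ≤ n) (i : Fin n) (hi : ¬ i.val < 2 ^ (j + 1)) :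
    sig n j h i = i := by
  have hp : 2 ^ (j + 1) = 2 * 2 ^ j := pow_succ' 2 j
  rw [sig_apply]
  unfold sigFun
  have h1 : ¬ i.val < 2 ^ j := by omega
  simp only [h1, dite_false, hi]

theorem sig_disjoint (n j : ℕ) (h : 2 ^ (j + 1) ≤ n) :
    Disjoint {i : Fin n | i.val < 2 ^ j} (sig n j h '' {i : Fin n | i.val < 2 ^ j}) := by
  rw [Set.disjoint_left]
  rintro i hi ⟨i', hi', rfl⟩
  simp only [Set.mem_setOf_eq] at hi hi'
  rw [sig_apply] at hi
  unfold sigFun at hi
  simp only [hi', dite_true] at hi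
  omega

end Cfsg.Agent.Lib.Helper5.WrP

namespace Cfsg.Agent.Lib.Helper5.WrP

open Equiv

theorem exists_big_dl {A G : Type*} [Group A] [Group G] {n : ℕ} (D : WrData A (Fin n) G)
    (Q : Subgroup A) (hQ2 : IsPGroup 2 Q) (hQ : dser Q 1 ≠ ⊥) (j : ℕ) (hj : 2 ^ j ≤ n) :
    ∃ H : Subgroup G, IsPGroup 2 H ∧ H ≤ D.WS {i : Fin n | i.val < 2 ^ j} ∧
      dser H (j + 1) ≠ ⊥ := by
  induction j with
  | zero =>
    have hn : 0 < n := by
      rw [pow_zero] at hj
      omega
    set i₀ : Fin n := ⟨0, hn⟩ with hi₀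
    set φ₀ : A →* G := D.β.comp (MonoidHom.mulSingle (fun _ : Fin n => A) i₀) with hφ₀
    have hinj : Function.Injective φ₀ := by
      rw [hφ₀, MonoidHom.coe_comp]
      refine D.beta_injective.comp ?_
      intro a a' h
      have := congrFun h i₀
      simpa using this
    refine ⟨Q.map φ₀, hQ2.map _, ?_, ?_⟩
    · rintro _ ⟨a, _, rfl⟩
      refine ⟨Pi.mulSingle i₀ a, 1, ?_, fun _ _ => rfl, by rw [map_one, mul_one]; rfl⟩
      intro i hi
      apply Pi.mulSingle_eq_of_ne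
      intro h
      apply hi
      rw [h]
      simp [hi₀]
    · rw [← dser_map, Ne, Subgroup.map_eq_bot_iff_of_injective _ hinj]
      exact hQ
  | succ j ih =>
    have hj' : 2 ^ j ≤ n := le_trans (Nat.pow_le_pow_right (by norm_num) (by omega)) hj
    obtain ⟨H, hH2, hHS, hHd⟩ := ih hj'
    obtain ⟨h1, h2, h3⟩ := D.WS_step (S := {i : Fin n | i.val < 2 ^ j})
      (S' := {i : Fin n | i.val < 2 ^ (j + 1)}) (sig n j hj) (sig_mul_self n j hj)
      (sig_disjoint n j hj)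
      (fun i hi => lt_of_lt_of_le hi (Nat.pow_le_pow_right (by norm_num) (by omega)))
      (fun i hi => sig_fix n j hj i hi) hH2 hHS (j + 1) hHd
    exact ⟨_, h1, h2, h3⟩

end Cfsg.Agent.Lib.Helper5.WrP
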