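import Mathlib
import Cfsg.Agent.Lib.Helper5.WrP13

set_option autoImplicit false

namespace Cfsg.Agent.Lib.Helper5.WrP

open Equiv Matrix Cfsg.Agent.Lib.Helper5.SylSym

/-- the wreath product data of `C_p ≀ Perm β` acting on `β × ZMod p` -/
def symData (p : ℕ) [NeZero p] (β : Type*) :
    WrData (Multiplicative (ZMod p)) β (Perm (β × ZMod p)) where
  β := bHom p β
  π := tHom p β
  conj t f := by
    rw [mul_inv_eq_iff_eq_mul]
    apply Equiv.ext
    rintro ⟨b, z⟩
    rw [Perm.mul_apply, Perm.mul_apply, bHom_apply, tHom_apply, tHom_apply, bHom_apply]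
    simp only [inv_app]
  inj f t h := by
    have ht : ∀ i, t i = i := by
      intro i
      have := congrArg (fun σ : Perm (β × ZMod p) => (σ (i, 0)).1) h
      simp only [bt_apply, Perm.one_apply] at this
      exact this
    have ht1 : t = 1 := Equiv.ext ht
    subst ht1
    refine ⟨?_, rfl⟩
    funext i
    have := congrArg (fun σ : Perm (β × ZMod p) => (σ (i, 0)).2) h
    simp only [bt_apply, Perm.one_apply, zero_add] at this
    exact Multiplicative.toAdd.injective this

theorem W_eq_symData (p : ℕ) [NeZero p] (β : Type*) (T : Subgroup (Perm β)) :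
    W (p := p) T = (symData p β).W ⊤ T := by
  ext σ
  constructor
  · rintro ⟨f, t, ht, rfl⟩
    exact ⟨f, fun _ => Subgroup.mem_top _, t, ht, rfl⟩
  · rintro ⟨f, _, t, ht, rfl⟩
    exact ⟨f, t, ht, rfl⟩

theorem dser_top_comm {A : Type*} [CommGroup A] : dser (⊤ : Subgroup A) 1 = ⊥ := by
  rw [dser_succ, dser_zero, eq_bot_iff, Subgroup.commutator_le]
  intro a _ b _
  rw [Subgroup.mem_bot, commutatorElement_eq_one_iff_commute]
  exact Commute.all a b

/-- some Sylow `2`-subgroup of the symmetric group has derived length at most `log₂ n` -/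
theorem exists_sylow_dser :
    ∀ n : ℕ, ∃ T : Sylow 2 (Perm (Fin n)), dser (T : Subgroup (Perm (Fin n))) (Nat.log 2 n) = ⊥ := by
  haveI : Fact (Nat.Prime 2) := ⟨Nat.prime_two⟩
  have hp : (2 : ℕ).Prime := Nat.prime_two
  intro n
  induction n using Nat.strong_induction_on with
  | _ n ih =>
    by_cases hm : n / 2 = 0
    · obtain ⟨P⟩ : Nonempty (Sylow 2 (Perm (Fin n))) := inferInstance
      refine ⟨P, ?_⟩
      have hc := card_sylow_perm 2 n P
      rw [padicVal_step, hm, Nat.factorial_zero] at hc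
      simp at hc
      have hbot : (P : Subgroup (Perm (Fin n))) = ⊥ := hc
      rw [hbot]
      exact dser_bot _
    · have hlt : n / 2 < n := by omega
      obtain ⟨T, hT⟩ := ih (n / 2) hlt
      have hn : n / 2 * 2 + n % 2 = n := Nat.div_add_mod' n 2
      set Φ := embHom 2 (n / 2) (n % 2) n hn with hΦ
      have hcard : Nat.card ((W (p := 2) (T : Subgroup (Perm (Fin (n / 2))))).map Φ) =
          2 ^ (Nat.card (Perm (Fin n))).factorization 2 := by
        rw [Subgroup.card_map_of_injective (embHom_injective 2 _ _ n hn), card_W,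
          card_sylow_perm 2 _ T, Fintype.card_fin, Nat.card_perm, Nat.card_eq_fintype_card,
          Fintype.card_fin, Nat.factorization_def _ hp, padicVal_step 2 n, ← pow_add, add_comm]
      refine ⟨Sylow.ofCard _ hcard, ?_⟩
      show dser ((W (p := 2) (T : Subgroup (Perm (Fin (n / 2))))).map Φ) (Nat.log 2 n) = ⊥
      rw [← dser_map, Nat.log_of_one_lt_of_le (by norm_num) (by omega), W_eq_symData,
        (symData 2 (Fin (n / 2))).dser_W_eq_bot hT dser_top_comm, Subgroup.map_bot]

end Cfsg.Agent.Lib.Helper5.WrP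

namespace Cfsg.Agent.Lib.Helper5.WrP

open Equiv Matrix Cfsg.Agent.Lib.Helper5.SylSym

variable {F : Type*} [Field F] [Fintype F]

theorem sylow_sp_dser_eq_bot (hq : Odd (Fintype.card F)) (n : ℕ)
    (P : Sylow 2 (symplecticGroup (Fin n) F)) :
    dser (P : Subgroup (symplecticGroup (Fin n) F)) (Nat.log 2 n + 2) = ⊥ := by
  obtain ⟨T, hT⟩ := exists_sylow_dser n
  obtain ⟨Q, P₀, hP₀, _, _, hQ2, _⟩ := exists_sylow_sp (F := F) hq n T
  obtain ⟨g, hg⟩ := sylow_conj P₀ P
  rw [hg, ← dser_map, hP₀, (spData F n).dser_W_eq_bot hT hQ2, Subgroup.map_bot]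

theorem sylow_sp_dser_ne_bot (hq : Odd (Fintype.card F)) (n : ℕ) (hn : 1 ≤ n)
    (P : Sylow 2 (symplecticGroup (Fin n) F)) :
    dser (P : Subgroup (symplecticGroup (Fin n) F)) (Nat.log 2 n + 1) ≠ ⊥ := by
  obtain ⟨Q, hQc, _, _, hQ1⟩ := exists_quat hq
  have hQ2 : IsPGroup 2 Q := IsPGroup.of_card hQc
  obtain ⟨H, hH2, _, hHd⟩ := exists_big_dl (spData F n) Q hQ2 hQ1 (Nat.log 2 n)
    (Nat.pow_log_le_self 2 (by omega))
  obtain ⟨P', hP'⟩ := hH2.exists_le_sylow
  obtain ⟨g, hg⟩ := sylow_conj P' P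
  have h1 : dser (P' : Subgroup (symplecticGroup (Fin n) F)) (Nat.log 2 n + 1) ≠ ⊥ := by
    intro h
    apply hHd
    rw [eq_bot_iff, ← h]
    exact dser_mono hP' _
  rw [hg, ← dser_map, Ne, Subgroup.map_eq_bot_iff_of_injective _ (MulAut.conj g).injective]
  exact h1

end Cfsg.Agent.Lib.Helper5.WrP
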