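import Mathlib
import Cfsg.Agent.Lib.Helper5.WrP14

set_option autoImplicit false

namespace Cfsg.Agent.Lib.Helper5.WrP

open Equiv

variable {A ι G : Type*} [Group A] [Group G] (D : WrData A ι G)

namespace WrData

theorem mem_W_bot {Z : Subgroup A} {g : G} :
    g ∈ D.W Z (⊥ : Subgroup (Perm ι)) ↔ ∃ f : ι → A, (∀ i, f i ∈ Z) ∧ g = D.β f := by
  constructor
  · rintro ⟨f, hf, t, ht, rfl⟩
    rw [Subgroup.mem_bot] at ht
    subst ht
    exact ⟨f, hf, by rw [map_one, mul_one]⟩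
  · rintro ⟨f, hf, rfl⟩
    exact D.beta_mem hf

/-- the base group of central elements is normalised by the whole wreath product -/
theorem W_bot_normalized {Z Q : Subgroup A} {T : Subgroup (Perm ι)}
    (hZ : ∀ z ∈ Z, ∀ a ∈ Q, z * a = a * z) {g y : G} (hg : g ∈ D.W Q T)
    (hy : y ∈ D.W Z (⊥ : Subgroup (Perm ι))) : g * y * g⁻¹ ∈ D.W Z (⊥ : Subgroup (Perm ι)) := by
  obtain ⟨f, hf, t, ht, rfl⟩ := hg
  obtain ⟨z, hz, rfl⟩ := D.mem_W_bot.1 hy
  rw [D.mem_W_bot]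
  refine ⟨fun i => z (t⁻¹ i), fun i => hz _, ?_⟩
  have h1 : D.β f * D.π t * D.β z * (D.β f * D.π t)⁻¹ =
      D.β f * (D.π t * D.β z * (D.π t)⁻¹) * (D.β f)⁻¹ := by group
  rw [h1, D.conj, ← map_inv, ← map_mul, ← map_mul]
  congr 1
  funext i
  simp only [Pi.mul_apply, Pi.inv_apply]
  rw [← hZ _ (hz _) _ (hf i), mul_assoc, mul_inv_cancel, mul_one]

theorem W_bot_sq {Z : Subgroup A} (hZ : ∀ z ∈ Z, z * z = 1) {y : G}
    (hy : y ∈ D.W Z (⊥ : Subgroup (Perm ι))) : y * y = 1 := by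
  obtain ⟨z, hz, rfl⟩ := D.mem_W_bot.1 hy
  rw [← map_mul]
  have : z * z = 1 := by
    funext i
    exact hZ _ (hz i)
  rw [this, map_one]

theorem W_bot_comm {Z : Subgroup A} (hZ : ∀ z ∈ Z, ∀ z' ∈ Z, z * z' = z' * z) {y y' : G}
    (hy : y ∈ D.W Z (⊥ : Subgroup (Perm ι))) (hy' : y' ∈ D.W Z (⊥ : Subgroup (Perm ι))) :
    y * y' = y' * y := by
  obtain ⟨z, hz, rfl⟩ := D.mem_W_bot.1 hy
  obtain ⟨z', hz', rfl⟩ := D.mem_W_bot.1 hy'
  rw [← map_mul, ← map_mul]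
  congr 1
  funext i
  exact hZ _ (hz i) _ (hz' i)

/-- a normal subgroup of exponent `2` lies in the base group of involutions -/
theorem le_W_bot_of_normal [DecidableEq ι] {Z Q : Subgroup A} {T : Subgroup (Perm ι)}
    {E : Subgroup G} (hE : E ≤ D.W Q T)
    (hnorm : ∀ g ∈ D.W Q T, ∀ y ∈ E, g * y * g⁻¹ ∈ E) (hsq : ∀ y ∈ E, y * y = 1)
    (hb : ∃ b ∈ Q, b * b ≠ 1) (hZ : ∀ a ∈ Q, a * a = 1 → a ∈ Z) :
    E ≤ D.W Z (⊥ : Subgroup (Perm ι)) := by
  intro e he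
  obtain ⟨f, hf, t, ht, rfl⟩ := hE he
  obtain ⟨b, hbQ, hbb⟩ := hb
  have ht1 : t = 1 := by
    by_contra hne
    obtain ⟨i, hi⟩ : ∃ i, t i ≠ i := by
      by_contra h
      apply hne
      ext i
      by_contra h'
      exact h ⟨i, h'⟩
    have hi' : t⁻¹ i ≠ i := by
      intro h
      apply hi
      have := congrArg t h
      rw [show t (t⁻¹ i) = i from (Equiv.eq_symm_apply t).mp rfl] at this
      exact this.symm
    set x : G := D.β (Pi.mulSingle i b) with hx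
    have hxW : x ∈ D.W Q T := by
      apply D.beta_mem
      intro j
      by_cases hj : j = i
      · subst hj
        rw [Pi.mulSingle_eq_same]
        exact hbQ
      · rw [Pi.mulSingle_eq_of_ne hj]
        exact Q.one_mem
    have hc : x * (D.β f * D.π t) * x⁻¹ * (D.β f * D.π t)⁻¹ ∈ E :=
      E.mul_mem (hnorm x hxW _ he) (E.inv_mem he)
    have hcomp : x * (D.β f * D.π t) * x⁻¹ * (D.β f * D.π t)⁻¹ =
        D.β (Pi.mulSingle i b * (f * (fun k => (Pi.mulSingle i b⁻¹ : ι → A) (t⁻¹ k)) * f⁻¹)) := by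
      have h1 : x * (D.β f * D.π t) * x⁻¹ * (D.β f * D.π t)⁻¹ =
          x * (D.β f * (D.π t * x⁻¹ * (D.π t)⁻¹) * (D.β f)⁻¹) := by group
      rw [h1, hx, ← map_inv, ← Pi.mulSingle_inv, D.conj, ← map_inv, ← map_mul, ← map_mul,
        ← map_mul]
    have h2 := hsq _ hc
    rw [hcomp, ← map_mul] at h2
    have h3 := D.beta_injective (h2.trans (map_one D.β).symm)
    have h4 := congrFun h3 i
    simp only [Pi.mul_apply, Pi.inv_apply, Pi.mulSingle_eq_same, Pi.one_apply,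
      Pi.mulSingle_eq_of_ne hi', mul_one, mul_inv_cancel] at h4
    exact hbb h4
  subst ht1
  rw [map_one, mul_one] at he ⊢
  rw [D.mem_W_bot]
  refine ⟨f, ?_, rfl⟩
  intro i
  apply hZ _ (hf i)
  have h2 := hsq _ he
  rw [← map_mul] at h2
  have h3 := D.beta_injective (h2.trans (map_one D.β).symm)
  exact congrFun h3 i

end WrData

end Cfsg.Agent.Lib.Helper5.WrP
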