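import Mathlib
import Cfsg.Agent.Lib.Helper5.WrP15

set_option autoImplicit false

namespace Cfsg.Agent.Lib.Helper5.WrP

open Equiv Matrix

variable {F : Type*} [Field F]

/-- the central involution of `SL₂` -/
def negOne (F : Type*) [Field F] : Matrix.SpecialLinearGroup (Fin 2) F :=
  ⟨!![-1, 0; 0, -1], by rw [Matrix.det_fin_two_of]; ring⟩

theorem negOne_mul_self : negOne F * negOne F = 1 := by
  apply Subtype.ext
  rw [Matrix.SpecialLinearGroup.coe_mul]
  ext i j
  fin_cases i <;> fin_cases j <;> simp [negOne, Matrix.mul_apply, Fin.sum_univ_two]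

theorem negOne_comm (M : Matrix.SpecialLinearGroup (Fin 2) F) : negOne F * M = M * negOne F := by
  apply Subtype.ext
  rw [Matrix.SpecialLinearGroup.coe_mul, Matrix.SpecialLinearGroup.coe_mul]
  ext i j
  fin_cases i <;> fin_cases j <;> simp [negOne, Matrix.mul_apply, Fin.sum_univ_two]

theorem negOne_ne_one (h2 : (2 : F) ≠ 0) : negOne F ≠ 1 := by
  intro h
  have := congrFun (congrFun (congrArg Subtype.val h) 0) 0
  simp [negOne] at this
  apply h2
  linear_combination (-1 : F) * this

/-- involutions of `SL₂` are `±1` -/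
theorem sl2_involution (h2 : (2 : F) ≠ 0) (M : Matrix.SpecialLinearGroup (Fin 2) F)
    (h : M * M = 1) : M = 1 ∨ M = negOne F := by
  have hd := M.2
  rw [Matrix.det_fin_two] at hd
  have hm := congrArg Subtype.val h
  rw [Matrix.SpecialLinearGroup.coe_mul, Matrix.SpecialLinearGroup.coe_one] at hm
  have h00 := congrFun (congrFun hm 0) 0
  have h01 := congrFun (congrFun hm 0) 1
  have h10 := congrFun (congrFun hm 1) 0
  have h11 := congrFun (congrFun hm 1) 1
  simp only [Matrix.mul_apply, Fin.sum_univ_two, Matrix.one_apply_eq] at h00 h11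
  simp only [Matrix.mul_apply, Fin.sum_univ_two] at h01 h10
  rw [Matrix.one_apply_ne (by decide)] at h01 h10
  have htr : M.1 0 0 + M.1 1 1 ≠ 0 := by
    intro h0
    have hd' : M.1 1 1 = - M.1 0 0 := by linear_combination h0
    rw [hd'] at hd
    apply h2
    linear_combination (-1 : F) * hd - h00
  have hb : M.1 0 1 = 0 := by
    have : M.1 0 1 * (M.1 0 0 + M.1 1 1) = 0 := by linear_combination h01
    rcases mul_eq_zero.1 this with h5 | h5
    · exact h5
    · exact absurd h5 htr
  have hc : M.1 1 0 = 0 := by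
    have : M.1 1 0 * (M.1 0 0 + M.1 1 1) = 0 := by linear_combination h10
    rcases mul_eq_zero.1 this with h5 | h5
    · exact h5
    · exact absurd h5 htr
  rw [hb, hc] at hd h00 h11
  have ha : M.1 0 0 ^ 2 = 1 := by linear_combination h00
  rcases sq_eq_one_iff.1 ha with ha1 | ha1
  · left
    have hd1 : M.1 1 1 = 1 := by rw [ha1] at hd; linear_combination hd
    apply Subtype.ext
    ext i j
    fin_cases i <;> fin_cases j
    · simpa using ha1
    · simpa using hb
    · simpa using hc
    · simpa using hd1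
  · right
    have hd1 : M.1 1 1 = -1 := by rw [ha1] at hd; linear_combination (-1 : F) * hd
    apply Subtype.ext
    ext i j
    fin_cases i <;> fin_cases j
    · simpa [negOne] using ha1
    · simpa [negOne] using hb
    · simpa [negOne] using hc
    · simpa [negOne] using hd1

/-- the centre `{±1}` -/
def Zsub (F : Type*) [Field F] : Subgroup (Matrix.SpecialLinearGroup (Fin 2) F) :=
  Subgroup.zpowers (negOne F)

theorem mem_Zsub {M : Matrix.SpecialLinearGroup (Fin 2) F} :
    M ∈ Zsub F ↔ M = 1 ∨ M = negOne F := by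
  constructor
  · intro h
    obtain ⟨k, rfl⟩ := Subgroup.mem_zpowers_iff.1 h
    rcases Int.even_or_odd k with ⟨j, rfl⟩ | ⟨j, rfl⟩
    · left
      rw [← two_mul, _root_.zpow_mul, zpow_two, negOne_mul_self, _root_.one_zpow]
    · right
      rw [_root_.zpow_add, _root_.zpow_mul, zpow_two, negOne_mul_self, _root_.one_zpow, one_mul, zpow_one]
  · rintro (rfl | rfl)
    · exact Subgroup.one_mem _
    · exact Subgroup.mem_zpowers _

theorem card_Zsub (h2 : (2 : F) ≠ 0) : Nat.card (Zsub F) = 2 := by
  unfold Zsub
  rw [Nat.card_zpowers]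
  apply orderOf_eq_prime
  · rw [pow_two]
    exact negOne_mul_self
  · exact negOne_ne_one h2

end Cfsg.Agent.Lib.Helper5.WrP
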