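import Mathlib
import Cfsg.Prelude.Def_Transfer
import Cfsg.Agent.Lib.Helper5.WrP16

set_option autoImplicit false

namespace Cfsg.Agent.Lib.Helper5.WrP

open Equiv Matrix

theorem conj_inv_conj {G : Type*} [Group G] (g x : G) :
    (MulAut.conj g⁻¹).toMonoidHom ((MulAut.conj g).toMonoidHom x) = x := by
  show g⁻¹ * (g * x * g⁻¹) * g⁻¹⁻¹ = x
  group

theorem normalRank_transfer {G : Type*} [Group G] [Finite G] {P₀ P : Subgroup G} (g : G)
    (hP : P = P₀.map (MulAut.conj g).toMonoidHom) (E₀ : Subgroup G) (N : ℕ)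
    (hE₀P : E₀ ≤ P₀)
    (hnorm : ∀ x ∈ P₀, ∀ y ∈ E₀, x * y * x⁻¹ ∈ E₀)
    (hsq : ∀ y ∈ E₀, y * y = 1) (hcomm : ∀ y ∈ E₀, ∀ y' ∈ E₀, y * y' = y' * y)
    (hcard : Nat.card E₀ = N)
    (hmax : ∀ E : Subgroup G, E ≤ P₀ → (∀ x ∈ P₀, ∀ y ∈ E, x * y * x⁻¹ ∈ E) →
      (∀ y ∈ E, y * y = 1) → E ≤ E₀) :
    (∃ E : Subgroup ↥P, E.Normal ∧ Cfsg.IsElementaryAbelian 2 E ∧ N ≤ Nat.card E) ∧
    ∀ E : Subgroup ↥P, E.Normal → Cfsg.IsElementaryAbelian 2 E → Nat.card E ≤ N := by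
  set c : G →* G := (MulAut.conj g).toMonoidHom with hc
  set c' : G →* G := (MulAut.conj g⁻¹).toMonoidHom with hc'
  have hcc : ∀ x, c' (c x) = x := fun x => conj_inv_conj g x
  have hcinj : Function.Injective c := (MulAut.conj g).injective
  have hc'inj : Function.Injective c' := (MulAut.conj g⁻¹).injective
  have hPmem : ∀ x ∈ P, ∃ x₀ ∈ P₀, c x₀ = x := by
    intro x hx
    rw [hP] at hx
    exact hx
  have hE₁P : E₀.map c ≤ P := by
    rw [hP]
    exact Subgroup.map_mono hE₀P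
  constructor
  · refine ⟨(E₀.map c).subgroupOf P, ?_, ⟨?_, ?_⟩, ?_⟩
    · constructor
      intro y hy x
      rw [Subgroup.mem_subgroupOf] at hy ⊢
      obtain ⟨y₀, hy₀, hy₀'⟩ := hy
      obtain ⟨x₀, hx₀, hx₀'⟩ := hPmem x.1 x.2
      refine ⟨x₀ * y₀ * x₀⁻¹, hnorm x₀ hx₀ y₀ hy₀, ?_⟩
      rw [map_mul, map_mul, map_inv, hy₀', hx₀']
      rfl
    · constructor
      constructor
      rintro ⟨a, ha⟩ ⟨b, hb⟩
      rw [Subgroup.mem_subgroupOf] at ha hb
      obtain ⟨a₀, ha₀, ha₀'⟩ := ha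
      obtain ⟨b₀, hb₀, hb₀'⟩ := hb
      apply Subtype.ext
      apply Subtype.ext
      show (a : G) * (b : G) = (b : G) * (a : G)
      rw [← ha₀', ← hb₀', ← map_mul, ← map_mul, hcomm a₀ ha₀ b₀ hb₀]
    · intro a ha
      rw [Subgroup.mem_subgroupOf] at ha
      obtain ⟨a₀, ha₀, ha₀'⟩ := ha
      apply Subtype.ext
      rw [Subgroup.coe_pow, ← ha₀', ← map_pow, pow_two, hsq a₀ ha₀, map_one]
      rfl
    · rw [Nat.card_congr (Subgroup.subgroupOfEquivOfLe hE₁P).toEquiv,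
        Subgroup.card_map_of_injective hcinj, hcard]
  · intro E hEn hEe
    set E' : Subgroup G := (E.map P.subtype).map c' with hE'
    have h1 : E' ≤ P₀ := by
      rintro _ ⟨_, ⟨e, he, rfl⟩, rfl⟩
      obtain ⟨x₀, hx₀, hx₀'⟩ := hPmem e.1 e.2
      show c' (e : G) ∈ P₀
      rw [← hx₀', hcc]
      exact hx₀
    have h2 : ∀ x ∈ P₀, ∀ y ∈ E', x * y * x⁻¹ ∈ E' := by
      rintro x₀ hx₀ _ ⟨_, ⟨e, he, rfl⟩, rfl⟩
      have hcx : c x₀ ∈ P := by
        rw [hP]
        exact ⟨x₀, hx₀, rfl⟩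
      have h3 := hEn.conj_mem e he ⟨c x₀, hcx⟩
      refine ⟨_, ⟨_, h3, rfl⟩, ?_⟩
      show c' (c x₀ * (e : G) * (c x₀)⁻¹) = x₀ * c' (e : G) * x₀⁻¹
      rw [map_mul, map_mul, map_inv, hcc]
    have h3 : ∀ y ∈ E', y * y = 1 := by
      rintro _ ⟨_, ⟨e, he, rfl⟩, rfl⟩
      have := hEe.2 e he
      show c' (e : G) * c' (e : G) = 1
      rw [← map_mul, ← pow_two, ← Subgroup.coe_pow, this]
      simp
    have h4 := hmax E' h1 h2 h3
    have h5 : Nat.card E = Nat.card E' := by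
      rw [hE', Subgroup.card_map_of_injective hc'inj,
        Subgroup.card_map_of_injective (Subgroup.subtype_injective P)]
    rw [h5, ← hcard]
    exact Subgroup.card_le_of_le h4

end Cfsg.Agent.Lib.Helper5.WrP

namespace Cfsg.Agent.Lib.Helper5.WrP

open Equiv Matrix

theorem exists_sq_ne_one {A : Type*} [Group A] {Q : Subgroup A} (hQ : dser Q 1 ≠ ⊥) :
    ∃ b ∈ Q, b * b ≠ 1 := by
  by_contra hcon
  apply hQ
  have hsq : ∀ b ∈ Q, b * b = 1 := by
    intro b hb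
    by_contra h
    exact hcon ⟨b, hb, h⟩
  rw [dser_succ, dser_zero, eq_bot_iff, Subgroup.commutator_le]
  intro a ha b hb
  rw [Subgroup.mem_bot, commutatorElement_def]
  have h1 : a⁻¹ = a := inv_eq_of_mul_eq_one_right (hsq a ha)
  have h2 : b⁻¹ = b := inv_eq_of_mul_eq_one_right (hsq b hb)
  have h3 := hsq (a * b) (Q.mul_mem ha hb)
  rw [h1, h2]
  calc a * b * a * b = (a * b) * (a * b) := by group
    _ = 1 := h3

variable {F : Type*} [Field F] [Fintype F]

theorem sylow_sp_normalRank (hq : Odd (Fintype.card F)) (n : ℕ)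
    (S : Sylow 2 (symplecticGroup (Fin n) F)) :
    (∃ E : Subgroup ↥(S : Subgroup (symplecticGroup (Fin n) F)), E.Normal ∧
      Cfsg.IsElementaryAbelian 2 E ∧ 2 ^ n ≤ Nat.card E) ∧
    ∀ E : Subgroup ↥(S : Subgroup (symplecticGroup (Fin n) F)), E.Normal →
      Cfsg.IsElementaryAbelian 2 E → Nat.card E ≤ 2 ^ n := by
  classical
  have h2 := two_ne_zero_of_odd_card hq
  have hq1 : 1 < Fintype.card F := Fintype.one_lt_card
  obtain ⟨T⟩ : Nonempty (Sylow 2 (Perm (Fin n))) := inferInstance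
  obtain ⟨Q, P₀, hP₀, hQc, _, _, hQ1⟩ := exists_sylow_sp (F := F) hq n T
  obtain ⟨g, hg⟩ := sylow_conj P₀ S
  -- `-1 ∈ Q`
  have hnegQ : negOne F ∈ Q := by
    haveI : Finite Q := Nat.finite_of_card_ne_zero (by rw [hQc]; positivity)
    have hdvd : 2 ∣ Nat.card Q := by
      rw [hQc]
      exact dvd_pow_self 2 (by have := three_le_cq hq hq1; omega)
    obtain ⟨x, hx⟩ := exists_prime_orderOf_dvd_card' 2 hdvd
    have hx2 : (x : Matrix.SpecialLinearGroup (Fin 2) F) * x = 1 := by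
      have := pow_orderOf_eq_one x
      rw [hx, pow_two] at this
      exact congrArg Subtype.val this
    have hx1 : (x : Matrix.SpecialLinearGroup (Fin 2) F) ≠ 1 := by
      intro h
      have : x = 1 := Subtype.ext h
      rw [this, orderOf_one] at hx
      omega
    rcases sl2_involution h2 _ hx2 with h | h
    · exact absurd h hx1
    · rw [← h]
      exact x.2
  have hZQ : Zsub F ≤ Q := by
    unfold Zsub
    rw [Subgroup.zpowers_le]
    exact hnegQ
  have hZc : ∀ z ∈ Zsub F, ∀ a ∈ Q, z * a = a * z := by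
    intro z hz a _
    rcases mem_Zsub.1 hz with rfl | rfl
    · rw [one_mul, mul_one]
    · exact negOne_comm a
  have hZsq : ∀ z ∈ Zsub F, z * z = 1 := by
    intro z hz
    rcases mem_Zsub.1 hz with rfl | rfl
    · rw [one_mul]
    · exact negOne_mul_self
  have hZcomm : ∀ z ∈ Zsub F, ∀ z' ∈ Zsub F, z * z' = z' * z := by
    intro z hz z' _
    rcases mem_Zsub.1 hz with rfl | rfl
    · rw [one_mul, mul_one]
    · exact negOne_comm z'
  have hcard : Nat.card ((spData F n).W (Zsub F) (⊥ : Subgroup (Perm (Fin n)))) = 2 ^ n := by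
    rw [WrData.card_W, card_Zsub h2, Fintype.card_fin, Subgroup.card_bot, mul_one]
  have hP₀' : (P₀ : Subgroup (symplecticGroup (Fin n) F)) =
      (spData F n).W Q (T : Subgroup (Perm (Fin n))) := hP₀
  refine normalRank_transfer g hg ((spData F n).W (Zsub F) ⊥) (2 ^ n) ?_ ?_ ?_ ?_ hcard ?_
  · rw [hP₀']
    exact (spData F n).W_mono hZQ bot_le
  · intro x hx y hy
    rw [hP₀'] at hx
    exact (spData F n).W_bot_normalized hZc hx hy
  · intro y hy
    exact (spData F n).W_bot_sq hZsq hy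
  · intro y hy y' hy'
    exact (spData F n).W_bot_comm hZcomm hy hy'
  · intro E hE hEn hEs
    rw [hP₀'] at hE hEn
    apply (spData F n).le_W_bot_of_normal hE hEn hEs (exists_sq_ne_one hQ1)
    intro a _ haa
    exact mem_Zsub.2 (sl2_involution h2 a haa)

end Cfsg.Agent.Lib.Helper5.WrP
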