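import Mathlib
import Cfsg.Agent.Lib.Helper5.SylTor1
import Cfsg.Agent.Lib.Helper5.WrP17

set_option autoImplicit false

namespace Cfsg.Agent.Lib.Helper5.WrG

open Cfsg.Agent.Lib.Helper5.SylTor

variable {q r : ℕ} [hr : Fact r.Prime]

/-- valuation of `q^j - 1` at an odd prime `r` not dividing `q` -/
theorem val_pow_sub_one_gen (hr2 : Odd r) (hq : 1 < q) (hrq : ¬ r ∣ q) {j : ℕ} (hj : 0 < j) :
    padicValNat r (q ^ j - 1) = if orderOf (q : ZMod r) ∣ j then
      padicValNat r (q ^ orderOf (q : ZMod r) - 1) + padicValNat r (j / orderOf (q : ZMod r))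
      else 0 := by
  have hq0 : 0 < q := by omega
  have hd0 : 0 < orderOf (q : ZMod r) := ord_pos hrq
  split_ifs with h
  · obtain ⟨k, rfl⟩ := h
    have hk0 : k ≠ 0 := by
      rintro rfl
      simp at hj
    rw [Nat.mul_div_cancel_left _ hd0, pow_mul]
    have h1 : 1 < q ^ orderOf (q : ZMod r) := Nat.one_lt_pow hd0.ne' hq
    have := padicValNat.pow_sub_pow hr2 h1 ((dvd_pow_sub_one_iff hq0 _).2 dvd_rfl)
      (fun h => hrq (hr.out.dvd_of_dvd_pow h)) hk0
    rw [one_pow] at this
    exact this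
  · exact padicValNat.eq_zero_of_not_dvd (fun h' => h ((dvd_pow_sub_one_iff hq0 j).1 h'))

theorem sum_val_gen (hr2 : Odd r) (hq : 1 < q) (hrq : ¬ r ∣ q) (n : ℕ) :
    ∑ j ∈ Finset.range n, padicValNat r (q ^ (j + 1) - 1) =
      (n / orderOf (q : ZMod r)) * padicValNat r (q ^ orderOf (q : ZMod r) - 1) +
        padicValNat r (n / orderOf (q : ZMod r)).factorial := by
  have hd0 : 0 < orderOf (q : ZMod r) := ord_pos hrq
  induction n with
  | zero => simp
  | succ n ih =>
    rw [Finset.sum_range_succ, ih, val_pow_sub_one_gen hr2 hq hrq (Nat.succ_pos n), Nat.succ_div]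
    split_ifs with h
    · rw [Nat.factorial_succ, padicValNat.mul (Nat.succ_ne_zero _) (Nat.factorial_ne_zero _)]
      ring
    · rw [add_zero, add_zero]

/-- the `r`-part of `|GL_n(q)|`, `r` odd -/
theorem val_card_GL_gen (hr2 : Odd r) (hq : 1 < q) (hrq : ¬ r ∣ q) (n : ℕ) :
    (∏ i : Fin n, (q ^ n - q ^ (i : ℕ))).factorization r =
      (n / orderOf (q : ZMod r)) * padicValNat r (q ^ orderOf (q : ZMod r) - 1) +
        padicValNat r (n / orderOf (q : ZMod r)).factorial := by
  have hq0 : 0 < q := by omega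
  have hne : ∀ i ∈ (Finset.univ : Finset (Fin n)), q ^ n - q ^ (i : ℕ) ≠ 0 := by
    intro i _
    have : q ^ (i : ℕ) < q ^ n := Nat.pow_lt_pow_right hq i.2
    omega
  rw [Nat.factorization_prod hne, Finsupp.finsetSum_apply]
  have hterm : ∀ i : Fin n, (q ^ n - q ^ (i : ℕ)).factorization r =
      padicValNat r (q ^ (n - i) - 1) := by
    intro i
    have hi : (i : ℕ) < n := i.2
    have e1 : q ^ n - q ^ (i : ℕ) = q ^ (i : ℕ) * (q ^ (n - i) - 1) := by
      rw [Nat.mul_sub, mul_one, ← pow_add]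
      congr 2; omega
    have hne1 : q ^ (i : ℕ) ≠ 0 := (pow_pos hq0 _).ne'
    have hne2 : q ^ (n - i) - 1 ≠ 0 := by
      have : 1 < q ^ (n - (i : ℕ)) := Nat.one_lt_pow (by omega) hq
      omega
    rw [e1, Nat.factorization_mul hne1 hne2, Finsupp.add_apply, Nat.factorization_def _ hr.out,
      Nat.factorization_def _ hr.out,
      padicValNat.eq_zero_of_not_dvd (fun h => hrq (hr.out.dvd_of_dvd_pow h)), zero_add]
  rw [Finset.sum_congr rfl (fun i _ => hterm i)]
  rw [Fin.sum_univ_eq_sum_range (fun i => padicValNat r (q ^ (n - i) - 1)) n]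
  rw [← Finset.sum_range_reflect]
  have : ∀ j ∈ Finset.range n, padicValNat r (q ^ (n - (n - 1 - j)) - 1) =
      padicValNat r (q ^ (j + 1) - 1) := by
    intro j hj
    rw [Finset.mem_range] at hj
    have : n - (n - 1 - j) = j + 1 := by omega
    rw [this]
  rw [Finset.sum_congr rfl this, sum_val_gen hr2 hq hrq n]

end Cfsg.Agent.Lib.Helper5.WrG
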