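import Mathlib
import Cfsg.Agent.Lib.Helper5.WrG1

set_option autoImplicit false

namespace Cfsg.Agent.Lib.Helper5.WrG

open Equiv Cfsg.Agent.Lib.Helper5.SylTor Cfsg.Agent.Lib.Helper5.WrP

/-- transport of wreath data along a group isomorphism -/
def mapEquiv {A ι G G' : Type*} [Group A] [Group G] [Group G'] (D : WrData A ι G) (e : G ≃* G') :
    WrData A ι G' where
  β := e.toMonoidHom.comp D.β
  π := e.toMonoidHom.comp D.π
  conj t f := by
    show e (D.π t) * e (D.β f) * (e (D.π t))⁻¹ = e (D.β _)
    rw [← map_inv, ← map_mul, ← map_mul, D.conj]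
  inj f t h := by
    apply D.inj
    apply e.injective
    rw [map_mul, map_one]
    exact h

section

variable (F K : Type*) [Field F] [Field K] [Algebra F K] (a b : ℕ)

/-- coordinate permutations of `K^a × F^b` -/
noncomputable def permEnd : Perm (Fin a) →* Module.End F ((Fin a → K) × (Fin b → F)) where
  toFun t := LinearMap.prodMap (LinearMap.funLeft F K (t⁻¹ : Perm (Fin a))) LinearMap.id
  map_one' := by
    refine LinearMap.ext fun ⟨x, y⟩ => ?_
    simp [LinearMap.funLeft]
  map_mul' t t' := by
    refine LinearMap.ext fun ⟨x, y⟩ => ?_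
    simp only [LinearMap.prodMap_apply, LinearMap.id_coe, id_eq, Module.End.mul_apply,
      Prod.mk.injEq, and_true]
    funext i
    simp [LinearMap.funLeft, mul_inv_rev, Perm.mul_apply]

theorem permEnd_apply (t : Perm (Fin a)) (x : Fin a → K) (y : Fin b → F) :
    permEnd F K a b t (x, y) = (fun i => x (t⁻¹ i), y) := rfl

theorem rho_apply (c : Fin a → K) (x : Fin a → K) (y : Fin b → F) :
    rho F K a b c (x, y) = (c * x, y) := rfl

/-- the wreath product data of `K^× ≀ Sym(a)` inside the units of `End_F (K^a × F^b)` -/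
noncomputable def endData : WrData Kˣ (Fin a) (Module.End F ((Fin a → K) × (Fin b → F)))ˣ where
  β := (Units.map (rho F K a b)).comp MulEquiv.piUnits.symm.toMonoidHom
  π := (permEnd F K a b).toHomUnits
  conj t c := by
    rw [mul_inv_eq_iff_eq_mul]
    apply Units.ext
    refine LinearMap.ext fun ⟨x, y⟩ => ?_
    show permEnd F K a b t (rho F K a b _ (x, y)) = rho F K a b _ (permEnd F K a b t (x, y))
    rw [rho_apply, permEnd_apply, permEnd_apply, rho_apply]
    rfl
  inj c t h := by
    have h1 : ∀ x y, rho F K a b (fun i => ((c i : Kˣ) : K)) (permEnd F K a b t (x, y)) = (x, y) := by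
      intro x y
      have := congrArg (fun u : (Module.End F ((Fin a → K) × (Fin b → F)))ˣ =>
        (u : Module.End F ((Fin a → K) × (Fin b → F))) (x, y)) h
      exact this
    have ht : ∀ i, t i = i := by
      intro i
      by_contra hne
      have h2 := congrArg (fun z => z.1 (t i)) (h1 (Pi.single i 1) 0)
      simp only [permEnd_apply, rho_apply, Pi.mul_apply] at h2
      rw [show t⁻¹ (t i) = i from Perm.inv_eq_iff_eq.mpr rfl, Pi.single_eq_same, mul_one,
        Pi.single_eq_of_ne hne] at h2
      exact (c (t i)).ne_zero h2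
    have ht1 : t = 1 := Equiv.ext ht
    subst ht1
    refine ⟨?_, rfl⟩
    funext i
    have h2 := congrArg (fun z => z.1 i) (h1 (Pi.single i 1) 0)
    simp only [permEnd_apply, rho_apply, Pi.mul_apply] at h2
    rw [show (1 : Perm (Fin a))⁻¹ i = i from rfl, Pi.single_eq_same, mul_one] at h2
    exact Units.ext h2

end

end Cfsg.Agent.Lib.Helper5.WrG
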