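import Mathlib
import Cfsg.Agent.Lib.Helper5.WrG2

set_option autoImplicit false

universe u

namespace Cfsg.Agent.Lib.Helper5.WrG

open Equiv Cfsg.Agent.Lib.Helper5.SylTor Cfsg.Agent.Lib.Helper5.WrP Cfsg.Agent.Lib.Helper5.SylSym

/-- the standard Sylow `r`-subgroup of `GL_n(q)` for an odd prime `r` not dividing `q` -/
theorem exists_sylow_gl {F : Type u} [Field F] [Fintype F] {r : ℕ} [Fact r.Prime] (hr2 : Odd r)
    (hrq : ¬ r ∣ Fintype.card F) (n d : ℕ) (hd : d = orderOf ((Fintype.card F : ℕ) : ZMod r))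
    (T : Sylow r (Perm (Fin (n / d)))) :
    ∃ (A : Type) (_ : CommGroup A)
      (D : WrData A (Fin (n / d)) (GL (Fin n) F))
      (C : Subgroup A) (P : Sylow r (GL (Fin n) F)),
      (P : Subgroup (GL (Fin n) F)) = D.W C (T : Subgroup (Perm (Fin (n / d)))) ∧ IsPGroup r C ∧
        C ≠ ⊥ := by
  classical
  have hq1 : 1 < Fintype.card F := Fintype.one_lt_card
  have hq0 : 0 < Fintype.card F := by omega
  have hd0 : 0 < d := by rw [hd]; exact ord_pos hrq
  obtain ⟨p, hp⟩ := CharP.exists F
  have : Fact p.Prime := ⟨CharP.char_is_prime F p⟩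
  have : NeZero d := ⟨hd0.ne'⟩
  let K := FiniteField.Extension F p d
  have : Fintype K := Fintype.ofFinite K
  have hKcard : Nat.card K = Fintype.card F ^ d := by
    rw [FiniteField.natCard_extension, Nat.card_eq_fintype_card]
  have hunits : Nat.card Kˣ = Fintype.card F ^ d - 1 := by
    rw [Nat.card_units, hKcard]
  have hfin : Module.finrank F ((Fin (n / d) → K) × (Fin (n % d) → F)) = n := by
    rw [Module.finrank_prod, Module.finrank_pi_fintype, Module.finrank_fin_fun]
    simp only [Finset.sum_const, Finset.card_univ, Fintype.card_fin, smul_eq_mul]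
    rw [FiniteField.finrank_extension]
    exact Nat.div_add_mod' n d
  let bas := Module.finBasisOfFinrankEq F ((Fin (n / d) → K) × (Fin (n % d) → F)) hfin
  let e1 : (Module.End F ((Fin (n / d) → K) × (Fin (n % d) → F)))ˣ ≃* GL (Fin n) F :=
    Units.mapEquiv (LinearMap.toMatrixAlgEquiv bas).toMulEquiv
  let D : WrData Kˣ (Fin (n / d)) (GL (Fin n) F) := mapEquiv (endData F K (n / d) (n % d)) e1
  obtain ⟨C⟩ : Nonempty (Sylow r Kˣ) := inferInstance
  have hCcard : Nat.card C = r ^ padicValNat r (Fintype.card F ^ d - 1) := by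
    rw [C.card_eq_multiplicity, hunits, Nat.factorization_def _ (Fact.out : r.Prime)]
  have hcard : Nat.card (D.W (C : Subgroup Kˣ) (T : Subgroup (Perm (Fin (n / d))))) =
      r ^ (Nat.card (GL (Fin n) F)).factorization r := by
    rw [WrData.card_W, hCcard, card_sylow_perm r (n / d) T, Fintype.card_fin, Matrix.card_GL_field,
      val_card_GL_gen hr2 hq1 hrq n, ← hd, ← pow_mul, ← pow_add, mul_comm]
  refine ⟨Kˣ, inferInstance, D, C, Sylow.ofCard _ hcard, rfl, C.isPGroup', ?_⟩
  intro hbot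
  have h1 : Nat.card (C : Subgroup Kˣ) = 1 := by rw [hbot, Subgroup.card_bot]
  rw [hCcard] at h1
  have h2 : r ∣ Fintype.card F ^ d - 1 := (dvd_pow_sub_one_iff hq0 d).2 (by rw [hd])
  have h3 : 1 ≤ padicValNat r (Fintype.card F ^ d - 1) := by
    apply one_le_padicValNat_of_dvd _ h2
    have : 1 < Fintype.card F ^ d := Nat.one_lt_pow hd0.ne' hq1
    omega
  have h4 : r ^ 1 ≤ r ^ padicValNat r (Fintype.card F ^ d - 1) :=
    Nat.pow_le_pow_right (Fact.out : r.Prime).pos h3
  have := (Fact.out : r.Prime).two_le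
  rw [pow_one] at h4
  omega

end Cfsg.Agent.Lib.Helper5.WrG
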