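import Mathlib
import Cfsg.Agent.Lib.Helper5.WrG3

set_option autoImplicit false

namespace Cfsg.Agent.Lib.Helper5.WrG

open Equiv Cfsg.Agent.Lib.Helper5.WrP
open scoped commutatorElement

section step

variable {G : Type*} [Group G]

/-- general form of the derived length step: `Z` commutes with `H`, meets it trivially, and every
element of `H` lies in the derived subgroup of `K` modulo `Z` -/
theorem dser_step' {H K Z : Subgroup G}
    (hc : ∀ x ∈ H, ∀ z ∈ Z, x * z = z * x)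
    (hdisj : ∀ x ∈ H, x ∈ Z → x = 1)
    (hbase : ∀ y ∈ H, ∃ z ∈ Z, y * z ∈ dser K 1) (i : ℕ) (hi : dser H i ≠ ⊥) :
    dser K (i + 1) ≠ ⊥ := by
  let M : ℕ → Subgroup G := fun j =>
    { carrier := {y | y ∈ H ∧ ∃ z ∈ Z, y * z ∈ dser K (j + 1)}
      one_mem' := ⟨H.one_mem, 1, Z.one_mem, by rw [mul_one]; exact Subgroup.one_mem _⟩
      mul_mem' := by
        rintro y y' ⟨hy, z, hz, hyz⟩ ⟨hy', z', hz', hyz'⟩
        refine ⟨H.mul_mem hy hy', z * z', Z.mul_mem hz hz', ?_⟩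
        have : y * y' * (z * z') = (y * z) * (y' * z') := by
          calc y * y' * (z * z') = y * (y' * z) * z' := by group
            _ = y * (z * y') * z' := by rw [hc y' hy' z hz]
            _ = _ := by group
        rw [this]
        exact Subgroup.mul_mem _ hyz hyz'
      inv_mem' := by
        rintro y ⟨hy, z, hz, hyz⟩
        refine ⟨H.inv_mem hy, z⁻¹, Z.inv_mem hz, ?_⟩
        have : y⁻¹ * z⁻¹ = (y * z)⁻¹ := by
          rw [mul_inv_rev, ← hc y⁻¹ (H.inv_mem hy) z⁻¹ (Z.inv_mem hz)]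
        rw [this]
        exact Subgroup.inv_mem _ hyz }
  have hM : ∀ j, dser H j ≤ M j := by
    intro j
    induction j with
    | zero =>
      intro y hy
      have hy' : y ∈ H := hy
      obtain ⟨z, hz, hyz⟩ := hbase y hy'
      exact ⟨hy', z, hz, hyz⟩
    | succ j ih =>
      rw [dser_succ, Subgroup.commutator_le]
      intro y₁ hy₁ y₂ hy₂
      obtain ⟨h1, z₁, hz₁, hyz₁⟩ := ih hy₁
      obtain ⟨h2, z₂, hz₂, hyz₂⟩ := ih hy₂
      refine ⟨?_, ⁅z₁, z₂⁆, ?_, ?_⟩
      · rw [commutatorElement_def]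
        exact H.mul_mem (H.mul_mem (H.mul_mem h1 h2) (H.inv_mem h1)) (H.inv_mem h2)
      · rw [commutatorElement_def]
        exact Z.mul_mem (Z.mul_mem (Z.mul_mem hz₁ hz₂) (Z.inv_mem hz₁)) (Z.inv_mem hz₂)
      · have e : ⁅y₁, y₂⁆ * ⁅z₁, z₂⁆ = ⁅y₁ * z₁, y₂ * z₂⁆ := by
          have c21 := hc y₂ h2 z₁ hz₁
          have c11' := hc y₁⁻¹ (H.inv_mem h1) z₁ hz₁
          have c12' := hc y₁⁻¹ (H.inv_mem h1) z₂ hz₂
          have c21' := hc y₂⁻¹ (H.inv_mem h2) z₁ hz₁
          have c22' := hc y₂⁻¹ (H.inv_mem h2) z₂ hz₂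
          have c11'' := hc y₁⁻¹ (H.inv_mem h1) z₁⁻¹ (Z.inv_mem hz₁)
          have c21'' := hc y₂⁻¹ (H.inv_mem h2) z₁⁻¹ (Z.inv_mem hz₁)
          rw [commutatorElement_def, commutatorElement_def, commutatorElement_def]
          calc y₁ * y₂ * y₁⁻¹ * y₂⁻¹ * (z₁ * z₂ * z₁⁻¹ * z₂⁻¹)
              = y₁ * y₂ * y₁⁻¹ * (y₂⁻¹ * z₁) * z₂ * z₁⁻¹ * z₂⁻¹ := by group
            _ = y₁ * y₂ * (y₁⁻¹ * z₁) * y₂⁻¹ * z₂ * z₁⁻¹ * z₂⁻¹ := by rw [c21']; group
            _ = y₁ * (y₂ * z₁) * y₁⁻¹ * y₂⁻¹ * z₂ * z₁⁻¹ * z₂⁻¹ := by rw [c11']; group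
            _ = y₁ * z₁ * y₂ * y₁⁻¹ * (y₂⁻¹ * z₂) * z₁⁻¹ * z₂⁻¹ := by rw [c21]; group
            _ = y₁ * z₁ * y₂ * (y₁⁻¹ * z₂) * y₂⁻¹ * z₁⁻¹ * z₂⁻¹ := by rw [c22']; group
            _ = y₁ * z₁ * y₂ * z₂ * y₁⁻¹ * (y₂⁻¹ * z₁⁻¹) * z₂⁻¹ := by rw [c12']; group
            _ = y₁ * z₁ * y₂ * z₂ * (y₁⁻¹ * z₁⁻¹) * y₂⁻¹ * z₂⁻¹ := by rw [c21'']; group
            _ = y₁ * z₁ * (y₂ * z₂) * (z₁⁻¹ * y₁⁻¹) * (y₂⁻¹ * z₂⁻¹) := by rw [c11'']; group
            _ = y₁ * z₁ * (y₂ * z₂) * (y₁ * z₁)⁻¹ * (y₂ * z₂)⁻¹ := by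
              rw [mul_inv_rev y₁ z₁, mul_inv_rev y₂ z₂,
                ← hc y₂⁻¹ (H.inv_mem h2) z₂⁻¹ (Z.inv_mem hz₂)]
        rw [e]
        exact Subgroup.commutator_mem_commutator hyz₁ hyz₂
  intro hbot
  apply hi
  rw [eq_bot_iff]
  intro y hy
  obtain ⟨hyH, z, hz, hyz⟩ := hM i hy
  rw [hbot, Subgroup.mem_bot] at hyz
  rw [Subgroup.mem_bot]
  apply hdisj y hyH
  have : y = z⁻¹ := eq_inv_of_mul_eq_one_left hyz
  rw [this]
  exact Z.inv_mem hz

end step

end Cfsg.Agent.Lib.Helper5.WrG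

namespace Cfsg.Agent.Lib.Helper5.WrG

open Equiv Cfsg.Agent.Lib.Helper5.WrP

section pstep

variable {G : Type*} [Group G] {p : ℕ} [Fact p.Prime]

theorem isPGroup_biSup {ι : Type*} [DecidableEq ι] (s : Finset ι) (H : ι → Subgroup G)
    (hp : ∀ i ∈ s, IsPGroup p (H i))
    (hc : ∀ i ∈ s, ∀ j ∈ s, i ≠ j → H i ≤ Subgroup.centralizer (H j : Set G)) :
    IsPGroup p (⨆ i ∈ s, H i : Subgroup G) := by
  induction s using Finset.induction_on with
  | empty =>
    have : (⨆ i ∈ (∅ : Finset ι), H i : Subgroup G) = ⊥ := by simp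
    rw [this]
    exact IsPGroup.of_bot
  | insert a s' ha ih =>
    rw [Finset.iSup_insert]
    have h1 : IsPGroup p (⨆ i ∈ s', H i : Subgroup G) := by
      apply ih
      · intro i hi
        exact hp i (Finset.mem_insert_of_mem hi)
      · intro i hi j hj hij
        exact hc i (Finset.mem_insert_of_mem hi) j (Finset.mem_insert_of_mem hj) hij
    apply (hp a (Finset.mem_insert_self a s')).to_sup_of_normal_right' h1
    refine le_trans ?_ (Subgroup.centralizer_le_normalizer _)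
    rw [Subgroup.le_centralizer_iff]
    apply iSup₂_le
    intro i hi
    apply hc i (Finset.mem_insert_of_mem hi) a (Finset.mem_insert_self a s')
    rintro rfl
    exact ha hi

theorem isPGroup_zpowers_of_pow {s : G} (hs : s ^ p = 1) : IsPGroup p (Subgroup.zpowers s) := by
  rintro ⟨x, hx⟩
  refine ⟨1, ?_⟩
  obtain ⟨k, rfl⟩ := Subgroup.mem_zpowers_iff.1 hx
  apply Subtype.ext
  rw [Subgroup.coe_pow]
  show (s ^ k) ^ p ^ 1 = 1
  rw [pow_one, ← zpow_natCast, ← zpow_mul, mul_comm, zpow_mul, zpow_natCast, hs, one_zpow]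

/-- adjoining an element of order `p` that cycles `H` through commuting conjugates -/
theorem isPGroup_step_p {H : Subgroup G} (hH : IsPGroup p H) {s : G} (hs : s ^ p = 1)
    (hcomm : ∀ k l : ℕ, k < p → l < p → k ≠ l →
      H.map (MulAut.conj (s ^ k)).toMonoidHom ≤
        Subgroup.centralizer ((H.map (MulAut.conj (s ^ l)).toMonoidHom : Subgroup G) : Set G)) :
    IsPGroup p (H ⊔ Subgroup.zpowers s : Subgroup G) := by
  have hp0 : 0 < p := (Fact.out : p.Prime).pos
  set Hk : ℕ → Subgroup G := fun k => H.map (MulAut.conj (s ^ k)).toMonoidHom with hHk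
  set N : Subgroup G := ⨆ k ∈ Finset.range p, Hk k with hN
  have hNp : IsPGroup p N := by
    apply isPGroup_biSup
    · intro k _
      exact hH.map _
    · intro k hk l hl hkl
      exact hcomm k l (Finset.mem_range.1 hk) (Finset.mem_range.1 hl) hkl
  have hsucc : ∀ k, (Hk k).map (MulAut.conj s).toMonoidHom = Hk (k + 1) := by
    intro k
    simp only [hHk]
    rw [Subgroup.map_map]
    congr 1
    ext x
    show s * (s ^ k * x * (s ^ k)⁻¹) * s⁻¹ = s ^ (k + 1) * x * (s ^ (k + 1))⁻¹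
    rw [pow_succ']
    group
  have hHp : Hk p = Hk 0 := by
    simp only [hHk]
    rw [hs, pow_zero]
  have hle_N : ∀ k, k < p → Hk k ≤ N := by
    intro k hk
    exact le_biSup Hk (Finset.mem_range.2 hk)
  have hmapN : N.map (MulAut.conj s).toMonoidHom = N := by
    apply le_antisymm
    · rw [hN, Subgroup.map_iSup]
      apply iSup_le
      intro k
      rw [Subgroup.map_iSup]
      apply iSup_le
      intro hk
      rw [hsucc]
      rw [Finset.mem_range] at hk
      by_cases hk1 : k + 1 < p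
      · exact hle_N _ hk1
      · have : k + 1 = p := by omega
        rw [this, hHp]
        exact hle_N 0 hp0
    · rw [hN]
      apply iSup₂_le
      intro k hk
      rw [Finset.mem_range] at hk
      rcases Nat.eq_zero_or_pos k with rfl | hk0
      · have e : Hk 0 = (Hk (p - 1)).map (MulAut.conj s).toMonoidHom := by
          rw [hsucc, show p - 1 + 1 = p by omega, hHp]
        rw [e]
        apply Subgroup.map_mono
        rw [← hN]
        exact hle_N _ (by omega)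
      · have e : Hk k = (Hk (k - 1)).map (MulAut.conj s).toMonoidHom := by
          rw [hsucc, show k - 1 + 1 = k by omega]
        rw [e]
        apply Subgroup.map_mono
        rw [← hN]
        exact hle_N _ (by omega)
  have h2 : Subgroup.zpowers s ≤ Subgroup.normalizer (N : Set G) := by
    rw [Subgroup.zpowers_le, Subgroup.mem_normalizer_iff_map_conj_eq]
    exact hmapN
  have h3 : IsPGroup p (Subgroup.zpowers s ⊔ N : Subgroup G) :=
    (isPGroup_zpowers_of_pow hs).to_sup_of_normal_right' hNp h2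
  apply h3.to_le
  apply sup_le _ le_sup_left
  refine le_trans ?_ le_sup_right
  have : H = Hk 0 := by
    simp only [hHk]
    rw [pow_zero]
    ext x
    constructor
    · intro hx
      exact ⟨x, hx, by simp⟩
    · rintro ⟨y, hy, rfl⟩
      simpa using hy
  rw [this]
  exact hle_N 0 hp0

end pstep

end Cfsg.Agent.Lib.Helper5.WrG
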