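import Mathlib
import Cfsg.Agent.Lib.Helper5.WrG4

set_option autoImplicit false

namespace Cfsg.Agent.Lib.Helper5.WrG

open Equiv Cfsg.Agent.Lib.Helper5.WrP
open scoped commutatorElement

variable {A ι G : Type*} [Group A] [Group G] (D : WrData A ι G)

/-- the step raising the derived length, for a prime `p` -/
theorem WS_step_p {p : ℕ} [Fact p.Prime] {S S' : Set ι} (σ : Perm ι) (hσ : σ ^ p = 1)
    (hdis : ∀ k l : ℕ, k < p → l < p → k ≠ l →
      Disjoint ((σ ^ k : Perm ι) '' S) ((σ ^ l : Perm ι) '' S))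
    (hSS' : S ⊆ S') (hσS' : ∀ i, i ∉ S' → σ i = i) {H : Subgroup G} (hH2 : IsPGroup p H)
    (hHS : H ≤ D.WS S) (i : ℕ) (hi : dser H i ≠ ⊥) :
    IsPGroup p (H ⊔ Subgroup.zpowers (D.π σ) : Subgroup G) ∧
      (H ⊔ Subgroup.zpowers (D.π σ) : Subgroup G) ≤ D.WS S' ∧
      dser (H ⊔ Subgroup.zpowers (D.π σ) : Subgroup G) (i + 1) ≠ ⊥ := by
  have hp2 : 2 ≤ p := (Fact.out : p.Prime).two_le
  have hs : D.π σ ^ p = 1 := by rw [← map_pow, hσ, map_one]
  have hconj : ∀ k : ℕ, H.map (MulAut.conj (D.π σ ^ k)).toMonoidHom ≤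
      D.WS ((σ ^ k : Perm ι) '' S) := by
    rintro k _ ⟨y, hy, rfl⟩
    show D.π σ ^ k * y * (D.π σ ^ k)⁻¹ ∈ _
    rw [← map_pow]
    exact D.conj_mem_WS (σ ^ k) (hHS hy)
  have hS0 : ((σ ^ 0 : Perm ι) '' S) = S := by
    rw [pow_zero]
    simp
  have hS1 : ((σ ^ 1 : Perm ι) '' S) = σ '' S := by rw [pow_one]
  have hd01 : Disjoint S (σ '' S) := by
    have := hdis 0 1 (by omega) (by omega) (by omega)
    rwa [hS0, hS1] at this
  refine ⟨?_, ?_, ?_⟩
  · apply isPGroup_step_p hH2 hs
    intro k l hk hl hkl x hx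
    rw [Subgroup.mem_centralizer_iff]
    intro y hy
    exact D.commute_of_disjoint (hdis l k hl hk (Ne.symm hkl)) (hconj l hy) (hconj k hx)
  · apply sup_le (le_trans hHS (D.WS_mono hSS'))
    rw [Subgroup.zpowers_le]
    exact D.pi_mem_WS hσS'
  · apply dser_step' (Z := D.WS (σ '' S)) _ _ _ i hi
    · intro x hx z hz
      exact D.commute_of_disjoint hd01 (hHS hx) hz
    · intro x hx hxz
      exact D.eq_one_of_mem_WS_disjoint hd01 (hHS hx) hxz
    · intro y hy
      refine ⟨D.π σ * y⁻¹ * (D.π σ)⁻¹, D.conj_mem_WS σ (hHS (H.inv_mem hy)), ?_⟩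
      have : y * (D.π σ * y⁻¹ * (D.π σ)⁻¹) = ⁅y, D.π σ⁆ := by
        rw [commutatorElement_def]
        group
      rw [this, dser_succ, dser_zero]
      exact Subgroup.commutator_mem_commutator (Subgroup.mem_sup_left hy)
        (Subgroup.mem_sup_right (Subgroup.mem_zpowers _))

end Cfsg.Agent.Lib.Helper5.WrG

namespace Cfsg.Agent.Lib.Helper5.WrG

open Equiv Cfsg.Agent.Lib.Helper5.WrP

/-- `i ↦ i + c (mod M)` on the first `M` points of `Fin w` -/
def sigPFun (w M c : ℕ) (h : M ≤ w) (i : Fin w) : Fin w :=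
  if h1 : i.val < M then ⟨(i.val + c) % M, lt_of_lt_of_le (Nat.mod_lt _ (by omega)) h⟩ else i

theorem sigPFun_iterate (w M c : ℕ) (h : M ≤ w) (k : ℕ) (i : Fin w) :
    ((sigPFun w M c h)^[k] i).val = if i.val < M then (i.val + k * c) % M else i.val := by
  induction k generalizing i with
  | zero =>
    rw [Function.iterate_zero, id_eq]
    split_ifs with h1
    · rw [zero_mul, add_zero, Nat.mod_eq_of_lt h1]
    · rfl
  | succ k ih =>
    rw [Function.iterate_succ_apply, ih]
    unfold sigPFun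
    by_cases h1 : i.val < M
    · have h2 : (i.val + c) % M < M := Nat.mod_lt _ (by omega)
      simp only [h1, dite_true, h2, if_true]
      rw [Nat.add_mod, Nat.mod_mod, ← Nat.add_mod]
      congr 1
      ring
    · simp only [h1, dite_false, if_false]

theorem sigPFun_iterate_self (w p c : ℕ) (h : p * c ≤ w) (i : Fin w) :
    (sigPFun w (p * c) c h)^[p] i = i := by
  apply Fin.ext
  rw [sigPFun_iterate]
  split_ifs with h1
  · rw [Nat.add_mod_right, Nat.mod_eq_of_lt h1]
  · rfl

/-- the permutation of order `p` -/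
def sigP (w p c : ℕ) (hp : 0 < p) (h : p * c ≤ w) : Perm (Fin w) where
  toFun := sigPFun w (p * c) c h
  invFun := (sigPFun w (p * c) c h)^[p - 1]
  left_inv i := by
    rw [← Function.iterate_succ_apply, show (p - 1).succ = p by omega]
    exact sigPFun_iterate_self w p c h i
  right_inv i := by
    rw [← Function.iterate_succ_apply' (sigPFun w (p * c) c h), show (p - 1).succ = p by omega]
    exact sigPFun_iterate_self w p c h i

theorem sigP_pow_apply (w p c : ℕ) (hp : 0 < p) (h : p * c ≤ w) (k : ℕ) (i : Fin w) :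
    ((sigP w p c hp h ^ k) i).val = if i.val < p * c then (i.val + k * c) % (p * c) else i.val := by
  rw [← Equiv.Perm.iterate_eq_pow]
  exact sigPFun_iterate w (p * c) c h k i

theorem sigP_pow_self (w p c : ℕ) (hp : 0 < p) (h : p * c ≤ w) : sigP w p c hp h ^ p = 1 := by
  ext i
  rw [sigP_pow_apply, Perm.one_apply]
  split_ifs with h1
  · rw [Nat.add_mod_right, Nat.mod_eq_of_lt h1]
  · rfl

theorem sigP_fix (w p c : ℕ) (hp : 0 < p) (h : p * c ≤ w) (i : Fin w) (hi : ¬ i.val < p * c) :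
    sigP w p c hp h i = i := by
  apply Fin.ext
  have := sigP_pow_apply w p c hp h 1 i
  rw [pow_one] at this
  rw [this, if_neg hi]

theorem sigP_disjoint (w p c : ℕ) (hp : 0 < p) (h : p * c ≤ w) (k l : ℕ) (hk : k < p) (hl : l < p)
    (hkl : k ≠ l) :
    Disjoint ((sigP w p c hp h ^ k : Perm (Fin w)) '' {i : Fin w | i.val < c})
      ((sigP w p c hp h ^ l : Perm (Fin w)) '' {i : Fin w | i.val < c}) := by
  rw [Set.disjoint_left]
  rintro _ ⟨i, hi, rfl⟩ ⟨i', hi', heq⟩
  simp only [Set.mem_setOf_eq] at hi hi'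
  have h1 := sigP_pow_apply w p c hp h k i
  have h2 := sigP_pow_apply w p c hp h l i'
  have hc : c ≤ p * c := Nat.le_mul_of_pos_left c hp
  have hi1 : i.val < p * c := lt_of_lt_of_le hi hc
  have hi1' : i'.val < p * c := lt_of_lt_of_le hi' hc
  rw [if_pos hi1] at h1
  rw [if_pos hi1'] at h2
  have hb1 : i.val + k * c < p * c := by
    calc i.val + k * c < c + k * c := by omega
      _ = (k + 1) * c := by ring
      _ ≤ p * c := Nat.mul_le_mul_right c (by omega)
  have hb2 : i'.val + l * c < p * c := by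
    calc i'.val + l * c < c + l * c := by omega
      _ = (l + 1) * c := by ring
      _ ≤ p * c := Nat.mul_le_mul_right c (by omega)
  rw [Nat.mod_eq_of_lt hb1] at h1
  rw [Nat.mod_eq_of_lt hb2] at h2
  have h3 : i.val + k * c = i'.val + l * c := by
    rw [← h1, ← h2, heq]
  rcases Nat.lt_or_gt_of_ne hkl with hlt | hlt
  · have : (k + 1) * c ≤ l * c := Nat.mul_le_mul_right c (by omega)
    have e : (k + 1) * c = k * c + c := by ring
    omega
  · have : (l + 1) * c ≤ k * c := Nat.mul_le_mul_right c (by omega)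
    have e : (l + 1) * c = l * c + c := by ring
    omega

theorem sigP_image_subset (w p c : ℕ) (hp : 0 < p) (h : p * c ≤ w) :
    {i : Fin w | i.val < c} ⊆ {i : Fin w | i.val < p * c} := by
  intro i hi
  exact lt_of_lt_of_le hi (Nat.le_mul_of_pos_left c hp)

end Cfsg.Agent.Lib.Helper5.WrG
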