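import Mathlib
import Cfsg.Agent.Lib.Helper5.WrG5

set_option autoImplicit false

namespace Cfsg.Agent.Lib.Helper5.WrG

open Equiv Cfsg.Agent.Lib.Helper5.WrP Cfsg.Agent.Lib.Helper5.SylSym

theorem exists_big_dl_p {A G : Type*} [Group A] [Group G] {w p : ℕ} [Fact p.Prime]
    (D : WrData A (Fin w) G) (C : Subgroup A) (hC2 : IsPGroup p C) (hC : C ≠ ⊥) (j : ℕ)
    (hj : p ^ j ≤ w) :
    ∃ H : Subgroup G, IsPGroup p H ∧ H ≤ D.WS {i : Fin w | i.val < p ^ j} ∧ dser H j ≠ ⊥ := by
  have hp0 : 0 < p := (Fact.out : p.Prime).pos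
  induction j with
  | zero =>
    have hn : 0 < w := by
      rw [pow_zero] at hj
      omega
    set i₀ : Fin w := ⟨0, hn⟩ with hi₀
    set φ₀ : A →* G := D.β.comp (MonoidHom.mulSingle (fun _ : Fin w => A) i₀) with hφ₀
    have hinj : Function.Injective φ₀ := by
      rw [hφ₀, MonoidHom.coe_comp]
      refine D.beta_injective.comp ?_
      intro a a' h
      have := congrFun h i₀
      simpa using this
    refine ⟨C.map φ₀, hC2.map _, ?_, ?_⟩
    · rintro _ ⟨a, _, rfl⟩
      refine ⟨Pi.mulSingle i₀ a, 1, ?_, fun _ _ => rfl, by rw [map_one, mul_one]; rfl⟩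
      intro i hi
      apply Pi.mulSingle_eq_of_ne
      intro h
      apply hi
      rw [h]
      simp [hi₀]
    · rw [dser_zero, Ne, Subgroup.map_eq_bot_iff_of_injective _ hinj]
      exact hC
  | succ j ih =>
    have hj' : p ^ j ≤ w := le_trans (Nat.pow_le_pow_right hp0 (by omega)) hj
    obtain ⟨H, hH2, hHS, hHd⟩ := ih hj'
    have hpc : p * p ^ j ≤ w := by rw [← pow_succ']; exact hj
    have hS' : {i : Fin w | i.val < p ^ (j + 1)} = {i : Fin w | i.val < p * p ^ j} := by
      rw [pow_succ']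
    obtain ⟨h1, h2, h3⟩ := WS_step_p D (S := {i : Fin w | i.val < p ^ j})
      (S' := {i : Fin w | i.val < p * p ^ j}) (sigP w p (p ^ j) hp0 hpc)
      (sigP_pow_self w p (p ^ j) hp0 hpc) (sigP_disjoint w p (p ^ j) hp0 hpc)
      (sigP_image_subset w p (p ^ j) hp0 hpc)
      (fun i hi => sigP_fix w p (p ^ j) hp0 hpc i hi) hH2 hHS j hHd
    rw [hS']
    exact ⟨_, h1, h2, h3⟩

/-- some Sylow `p`-subgroup of the symmetric group has derived length at most `log_p n` -/
theorem exists_sylow_dser_p (p : ℕ) [Fact p.Prime] :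
    ∀ n : ℕ, ∃ T : Sylow p (Perm (Fin n)), dser (T : Subgroup (Perm (Fin n))) (Nat.log p n) = ⊥ := by
  have hp : p.Prime := Fact.out
  haveI : NeZero p := ⟨hp.ne_zero⟩
  intro n
  induction n using Nat.strong_induction_on with
  | _ n ih =>
    by_cases hm : n / p = 0
    · obtain ⟨P⟩ : Nonempty (Sylow p (Perm (Fin n))) := inferInstance
      refine ⟨P, ?_⟩
      have hc := card_sylow_perm p n P
      rw [padicVal_step, hm, Nat.factorial_zero] at hc
      simp at hc
      have hbot : (P : Subgroup (Perm (Fin n))) = ⊥ := hc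
      rw [hbot]
      exact dser_bot _
    · have hpn : p ≤ n := by
        by_contra h
        apply hm
        exact Nat.div_eq_of_lt (by omega)
      have hlt : n / p < n := Nat.div_lt_self (by have := hp.pos; omega) hp.one_lt
      obtain ⟨T, hT⟩ := ih (n / p) hlt
      have hn : n / p * p + n % p = n := Nat.div_add_mod' n p
      set Φ := embHom p (n / p) (n % p) n hn with hΦ
      have hcard : Nat.card ((W (p := p) (T : Subgroup (Perm (Fin (n / p))))).map Φ) =
          p ^ (Nat.card (Perm (Fin n))).factorization p := by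
        rw [Subgroup.card_map_of_injective (embHom_injective p _ _ n hn), card_W,
          card_sylow_perm p _ T, Fintype.card_fin, Nat.card_perm, Nat.card_eq_fintype_card,
          Fintype.card_fin, Nat.factorization_def _ hp, padicVal_step p n, ← pow_add, add_comm]
      refine ⟨Sylow.ofCard _ hcard, ?_⟩
      show dser ((W (p := p) (T : Subgroup (Perm (Fin (n / p))))).map Φ) (Nat.log p n) = ⊥
      rw [← dser_map, Nat.log_of_one_lt_of_le hp.one_lt hpn, W_eq_symData,
        (symData p (Fin (n / p))).dser_W_eq_bot hT dser_top_comm, Subgroup.map_bot]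

end Cfsg.Agent.Lib.Helper5.WrG

namespace Cfsg.Agent.Lib.Helper5.WrG

open Equiv Cfsg.Agent.Lib.Helper5.WrP Cfsg.Agent.Lib.Helper5.SylSym Cfsg.Agent.Lib.Helper5.SylTor

theorem sylow_conj_p {G : Type*} [Group G] [Finite G] {p : ℕ} [Fact p.Prime] (P₀ P : Sylow p G) :
    ∃ g : G, (P : Subgroup G) = (P₀ : Subgroup G).map (MulAut.conj g).toMonoidHom := by
  obtain ⟨g, hg⟩ := MulAction.exists_smul_eq G P₀ P
  refine ⟨g, ?_⟩
  rw [← hg]
  rfl

theorem sylow_gl_dser {F : Type*} [Field F] [Fintype F] {r : ℕ} [Fact r.Prime] (hr2 : Odd r)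
    (hrq : ¬ r ∣ Fintype.card F) (n : ℕ) (hn : orderOf ((Fintype.card F : ℕ) : ZMod r) ≤ n)
    (P : Sylow r (GL (Fin n) F)) :
    dser (P : Subgroup (GL (Fin n) F))
      (Nat.log r (n / orderOf ((Fintype.card F : ℕ) : ZMod r)) + 1) = ⊥ ∧
    dser (P : Subgroup (GL (Fin n) F))
      (Nat.log r (n / orderOf ((Fintype.card F : ℕ) : ZMod r))) ≠ ⊥ := by
  have hd0 : 0 < orderOf ((Fintype.card F : ℕ) : ZMod r) := ord_pos hrq
  have hw : 0 < n / orderOf ((Fintype.card F : ℕ) : ZMod r) := Nat.div_pos hn hd0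
  obtain ⟨T, hT⟩ := exists_sylow_dser_p r (n / orderOf ((Fintype.card F : ℕ) : ZMod r))
  obtain ⟨A, instA, D, C, P₀, hP₀, hC2, hC⟩ := exists_sylow_gl hr2 hrq n _ rfl T
  obtain ⟨g, hg⟩ := sylow_conj_p P₀ P
  constructor
  · have hC1 : dser C 1 = ⊥ := by
      rw [eq_bot_iff, ← dser_top_comm (A := A)]
      exact dser_mono le_top 1
    rw [hg, ← dser_map, hP₀, D.dser_W_eq_bot hT hC1, Subgroup.map_bot]
  · obtain ⟨H, hH2, _, hHd⟩ := exists_big_dl_p D C hC2 hC
      (Nat.log r (n / orderOf ((Fintype.card F : ℕ) : ZMod r)))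
      (Nat.pow_log_le_self r (by omega))
    obtain ⟨P', hP'⟩ := hH2.exists_le_sylow
    obtain ⟨g', hg'⟩ := sylow_conj_p P' P
    have h1 : dser (P' : Subgroup (GL (Fin n) F))
        (Nat.log r (n / orderOf ((Fintype.card F : ℕ) : ZMod r))) ≠ ⊥ := by
      intro h
      apply hHd
      rw [eq_bot_iff, ← h]
      exact dser_mono hP' _
    rw [hg', ← dser_map, Ne, Subgroup.map_eq_bot_iff_of_injective _ (MulAut.conj g').injective]
    exact h1

end Cfsg.Agent.Lib.Helper5.WrG
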