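import Mathlib
import Cfsg.Agent.Lib.Helper5.WrG6

set_option autoImplicit false

namespace Cfsg.Agent.Lib.Helper5.WrH

open Cfsg.Agent.Lib.Helper5.WrP
open scoped commutatorElement

variable {G : Type*} [Group G]

/-- internal product of a subgroup with a commuting subgroup -/
def prodSub (H Z : Subgroup G) (hc : ∀ x ∈ H, ∀ z ∈ Z, x * z = z * x) : Subgroup G where
  carrier := {g | ∃ x ∈ H, ∃ z ∈ Z, g = x * z}
  one_mem' := ⟨1, H.one_mem, 1, Z.one_mem, (mul_one 1).symm⟩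
  mul_mem' := by
    rintro _ _ ⟨x, hx, z, hz, rfl⟩ ⟨x', hx', z', hz', rfl⟩
    refine ⟨x * x', H.mul_mem hx hx', z * z', Z.mul_mem hz hz', ?_⟩
    calc x * z * (x' * z') = x * (z * x') * z' := by group
      _ = x * (x' * z) * z' := by rw [hc x' hx' z hz]
      _ = _ := by group
  inv_mem' := by
    rintro _ ⟨x, hx, z, hz, rfl⟩
    refine ⟨x⁻¹, H.inv_mem hx, z⁻¹, Z.inv_mem hz, ?_⟩
    rw [mul_inv_rev, hc x⁻¹ (H.inv_mem hx) z⁻¹ (Z.inv_mem hz)]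

variable {H Z : Subgroup G} {hc : ∀ x ∈ H, ∀ z ∈ Z, x * z = z * x}

theorem mem_prodSub {g : G} : g ∈ prodSub H Z hc ↔ ∃ x ∈ H, ∃ z ∈ Z, g = x * z := Iff.rfl

theorem le_prodSub_left : H ≤ prodSub H Z hc := fun x hx =>
  ⟨x, hx, 1, Z.one_mem, (mul_one x).symm⟩

theorem le_prodSub_right : Z ≤ prodSub H Z hc := fun z hz =>
  ⟨1, H.one_mem, z, hz, (one_mul z).symm⟩

theorem prodSub_mono {H' Z' : Subgroup G} {hc' : ∀ x ∈ H', ∀ z ∈ Z', x * z = z * x}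
    (hH : H ≤ H') (hZ : Z ≤ Z') : prodSub H Z hc ≤ prodSub H' Z' hc' := by
  rintro _ ⟨x, hx, z, hz, rfl⟩
  exact ⟨x, hH hx, z, hZ hz, rfl⟩

theorem prodSub_eq_iff (hd : ∀ x ∈ H, x ∈ Z → x = 1) {x x' z z' : G} (hx : x ∈ H) (hx' : x' ∈ H)
    (hz : z ∈ Z) (hz' : z' ∈ Z) : x * z = x' * z' ↔ x = x' ∧ z = z' := by
  constructor
  · intro h
    have h1 : x'⁻¹ * x = z' * z⁻¹ := by
      calc x'⁻¹ * x = x'⁻¹ * (x * z) * z⁻¹ := by group
        _ = x'⁻¹ * (x' * z') * z⁻¹ := by rw [h]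
        _ = _ := by group
    have h2 : x'⁻¹ * x = 1 := by
      apply hd _ (H.mul_mem (H.inv_mem hx') hx)
      rw [h1]
      exact Z.mul_mem hz' (Z.inv_mem hz)
    have h3 : x = x' := by
      rw [inv_mul_eq_one] at h2
      exact h2.symm
    refine ⟨h3, ?_⟩
    rw [h3] at h
    exact mul_left_cancel h
  · rintro ⟨rfl, rfl⟩
    rfl

theorem card_prodSub (hd : ∀ x ∈ H, x ∈ Z → x = 1) :
    Nat.card (prodSub H Z hc) = Nat.card H * Nat.card Z := by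
  have e : (H × Z) ≃ prodSub H Z hc := by
    refine Equiv.ofBijective (fun y => ⟨y.1.1 * y.2.1, y.1.1, y.1.2, y.2.1, y.2.2, rfl⟩) ⟨?_, ?_⟩
    · rintro ⟨⟨x, hx⟩, ⟨z, hz⟩⟩ ⟨⟨x', hx'⟩, ⟨z', hz'⟩⟩ h
      have h1 : x * z = x' * z' := congrArg Subtype.val h
      obtain ⟨rfl, rfl⟩ := (prodSub_eq_iff hd hx hx' hz hz').1 h1
      rfl
    · rintro ⟨_, x, hx, z, hz, rfl⟩
      exact ⟨⟨⟨x, hx⟩, ⟨z, hz⟩⟩, rfl⟩
  rw [← Nat.card_congr e, Nat.card_prod]

/-- the commutator subgroup of the product is that of the first factor, when the second is abelian -/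
theorem comm_prodSub_le (hZ : ∀ z ∈ Z, ∀ z' ∈ Z, z * z' = z' * z) :
    ⁅prodSub H Z hc, prodSub H Z hc⁆ ≤ ⁅H, H⁆ := by
  rw [Subgroup.commutator_le]
  rintro _ ⟨x, hx, z, hz, rfl⟩ _ ⟨x', hx', z', hz', rfl⟩
  have e : ⁅x * z, x' * z'⁆ = ⁅x, x'⁆ := by
    rw [commutatorElement_def, commutatorElement_def]
    have c1 := hc x' hx' z hz
    have c2 := hc x⁻¹ (H.inv_mem hx) z hz
    have c3 := hc x'⁻¹ (H.inv_mem hx') z hz
    have c4 := hc x⁻¹ (H.inv_mem hx) z' hz'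
    have c5 := hc x'⁻¹ (H.inv_mem hx') z' hz'
    have c6 := hZ z hz z' hz'
    calc x * z * (x' * z') * (x * z)⁻¹ * (x' * z')⁻¹
        = x * (z * x') * z' * z⁻¹ * x⁻¹ * z'⁻¹ * x'⁻¹ := by group
      _ = x * x' * (z * z') * z⁻¹ * x⁻¹ * z'⁻¹ * x'⁻¹ := by rw [← c1]; group
      _ = x * x' * z' * (x⁻¹ * z'⁻¹)  * x'⁻¹ := by rw [c6]; group
      _ = x * x' * z' * (z'⁻¹ * x⁻¹)  * x'⁻¹ := by
        rw [hc x⁻¹ (H.inv_mem hx) z'⁻¹ (Z.inv_mem hz')]
      _ = _ := by group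
  rw [e]
  exact Subgroup.commutator_mem_commutator hx hx'

theorem dser_prodSub_le (hZ : ∀ z ∈ Z, ∀ z' ∈ Z, z * z' = z' * z) (i : ℕ) :
    dser (prodSub H Z hc) (i + 1) ≤ dser H (i + 1) := by
  induction i with
  | zero =>
    rw [dser_succ, dser_zero, dser_succ, dser_zero]
    exact comm_prodSub_le hZ
  | succ i ih =>
    rw [dser_succ, dser_succ H]
    exact Subgroup.commutator_mono ih ih

/-- normal subgroups of exponent two of the product -/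
theorem le_prodSub_of_normal (hd : ∀ x ∈ H, x ∈ Z → x = 1) {E EH EZ : Subgroup G}
    (hE : E ≤ prodSub H Z hc)
    (hnorm : ∀ g ∈ H, ∀ y ∈ E, g * y * g⁻¹ ∈ E) (hsq : ∀ y ∈ E, y * y = 1)
    (hmax : ∀ E' : Subgroup G, E' ≤ H → (∀ g ∈ H, ∀ y ∈ E', g * y * g⁻¹ ∈ E') →
      (∀ y ∈ E', y * y = 1) → E' ≤ EH)
    (hEZ : ∀ z ∈ Z, z * z = 1 → z ∈ EZ)
    {hc' : ∀ x ∈ EH, ∀ z ∈ EZ, x * z = z * x} :
    E ≤ prodSub EH EZ hc' := by
  let E' : Subgroup G :=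
    { carrier := {x | x ∈ H ∧ ∃ z ∈ Z, x * z ∈ E}
      one_mem' := ⟨H.one_mem, 1, Z.one_mem, by rw [mul_one]; exact E.one_mem⟩
      mul_mem' := by
        rintro x x' ⟨hx, z, hz, hxz⟩ ⟨hx', z', hz', hxz'⟩
        refine ⟨H.mul_mem hx hx', z * z', Z.mul_mem hz hz', ?_⟩
        have : x * x' * (z * z') = (x * z) * (x' * z') := by
          calc x * x' * (z * z') = x * (x' * z) * z' := by group
            _ = x * (z * x') * z' := by rw [hc x' hx' z hz]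
            _ = _ := by group
        rw [this]
        exact E.mul_mem hxz hxz'
      inv_mem' := by
        rintro x ⟨hx, z, hz, hxz⟩
        refine ⟨H.inv_mem hx, z⁻¹, Z.inv_mem hz, ?_⟩
        have : x⁻¹ * z⁻¹ = (x * z)⁻¹ := by
          rw [mul_inv_rev, ← hc x⁻¹ (H.inv_mem hx) z⁻¹ (Z.inv_mem hz)]
        rw [this]
        exact E.inv_mem hxz }
  have hsplit : ∀ x ∈ H, ∀ z ∈ Z, x * z ∈ E → x * x = 1 ∧ z * z = 1 := by
    intro x hx z hz hxz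
    have h1 := hsq _ hxz
    have h2 : (x * x) * (z * z) = 1 := by
      calc (x * x) * (z * z) = x * (x * z) * z := by group
        _ = x * (z * x) * z := by rw [hc x hx z hz]
        _ = (x * z) * (x * z) := by group
        _ = 1 := h1
    have h3 : x * x = 1 := by
      apply hd _ (H.mul_mem hx hx)
      have : x * x = (z * z)⁻¹ := eq_inv_of_mul_eq_one_left h2
      rw [this]
      exact Z.inv_mem (Z.mul_mem hz hz)
    rw [h3, one_mul] at h2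
    exact ⟨h3, h2⟩
  have hE' : E' ≤ EH := by
    apply hmax
    · intro x hx
      exact hx.1
    · rintro g hg x ⟨hx, z, hz, hxz⟩
      refine ⟨H.mul_mem (H.mul_mem hg hx) (H.inv_mem hg), z, hz, ?_⟩
      have : g * x * g⁻¹ * z = g * (x * z) * g⁻¹ := by
        calc g * x * g⁻¹ * z = g * x * (g⁻¹ * z) := by group
          _ = g * x * (z * g⁻¹) := by rw [hc g⁻¹ (H.inv_mem hg) z hz]
          _ = _ := by group
      rw [this]
      exact hnorm g hg _ hxz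
    · rintro x ⟨hx, z, hz, hxz⟩
      exact (hsplit x hx z hz hxz).1
  intro y hy
  obtain ⟨x, hx, z, hz, rfl⟩ := hE hy
  refine ⟨x, hE' ⟨hx, z, hz, hy⟩, z, hEZ z hz (hsplit x hx z hz hy).2, rfl⟩

end Cfsg.Agent.Lib.Helper5.WrH
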