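import Mathlib
import Cfsg.Agent.Lib.Helper5.WrG6

set_option autoImplicit false

namespace Cfsg.Agent.Lib.Helper5.WrH

open Cfsg.Agent.Lib.Helper5.WrP
open scoped commutatorElement

variable {G : Type*} [Group G]

/-- extension of a subgroup by an involution normalising it -/
def ext2 (C : Subgroup G) (s : G) (hs : s * s = 1) (hn : ∀ c ∈ C, s * c * s⁻¹ ∈ C) : Subgroup G where
  carrier := {g | g ∈ C ∨ g * s ∈ C}
  one_mem' := Or.inl C.one_mem
  mul_mem' := by
    have hsinv : s⁻¹ = s := inv_eq_of_mul_eq_one_right hs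
    rintro x y (hx | hx) (hy | hy)
    · exact Or.inl (C.mul_mem hx hy)
    · right
      rw [mul_assoc]
      exact C.mul_mem hx hy
    · right
      have : x * y * s = (x * s) * (s * y * s⁻¹) := by
        rw [hsinv]
        calc x * y * s = x * (s * s) * y * s := by rw [hs, mul_one]
          _ = _ := by group
      rw [this]
      exact C.mul_mem hx (hn y hy)
    · left
      have : x * y = (x * s) * (s * (y * s) * s⁻¹) := by
        calc x * y = x * y * (s * s⁻¹) := by rw [mul_inv_cancel, mul_one]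
          _ = x * 1 * y * s * s⁻¹ := by group
          _ = x * (s * s) * y * s * s⁻¹ := by rw [hs]
          _ = _ := by group
      rw [this]
      exact C.mul_mem hx (hn _ hy)
  inv_mem' := by
    have hsinv : s⁻¹ = s := inv_eq_of_mul_eq_one_right hs
    rintro x (hx | hx)
    · exact Or.inl (C.inv_mem hx)
    · right
      have : x⁻¹ * s = s * (x * s)⁻¹ * s⁻¹ := by
        rw [mul_inv_rev, hsinv]
        calc x⁻¹ * s = 1 * x⁻¹ * s := by group
          _ = (s * s) * x⁻¹ * s := by rw [hs]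
          _ = _ := by group
      rw [this]
      exact hn _ (C.inv_mem hx)

variable {C : Subgroup G} {s : G} {hs : s * s = 1} {hn : ∀ c ∈ C, s * c * s⁻¹ ∈ C}

theorem mem_ext2 {g : G} : g ∈ ext2 C s hs hn ↔ g ∈ C ∨ g * s ∈ C := Iff.rfl

theorem le_ext2 : C ≤ ext2 C s hs hn := fun _ hx => Or.inl hx

theorem s_mem_ext2 : s ∈ ext2 C s hs hn := by
  right
  rw [hs]
  exact C.one_mem

theorem comm_ext2_le : ⁅ext2 C s hs hn, ext2 C s hs hn⁆ ≤ C := by
  have hsinv : s⁻¹ = s := inv_eq_of_mul_eq_one_right hs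
  have hn' : ∀ c ∈ C, s * c * s ∈ C := by
    intro c hc
    have := hn c hc
    rwa [hsinv] at this
  rw [Subgroup.commutator_le]
  rintro x (hx | hx) y (hy | hy)
  · rw [commutatorElement_def]
    exact C.mul_mem (C.mul_mem (C.mul_mem hx hy) (C.inv_mem hx)) (C.inv_mem hy)
  · rw [commutatorElement_def]
    have : x * y * x⁻¹ * y⁻¹ = x * (y * s) * (s * x⁻¹ * s) * (y * s)⁻¹ := by
      rw [mul_inv_rev, hsinv]
      calc x * y * x⁻¹ * y⁻¹ = x * y * 1 * x⁻¹ * 1 * y⁻¹ := by group
        _ = x * y * (s * s) * x⁻¹ * (s * s) * y⁻¹ := by rw [hs]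
        _ = _ := by group
    rw [this]
    exact C.mul_mem (C.mul_mem (C.mul_mem hx hy) (hn' _ (C.inv_mem hx))) (C.inv_mem hy)
  · rw [commutatorElement_def]
    have : x * y * x⁻¹ * y⁻¹ = (x * s) * (s * y * s) * (x * s)⁻¹ * y⁻¹ := by
      rw [mul_inv_rev, hsinv]
      calc x * y * x⁻¹ * y⁻¹ = x * 1 * y * 1 * x⁻¹ * y⁻¹ := by group
        _ = x * (s * s) * y * (s * s) * x⁻¹ * y⁻¹ := by rw [hs]
        _ = _ := by group
    rw [this]
    exact C.mul_mem (C.mul_mem (C.mul_mem hx (hn' _ hy)) (C.inv_mem hx)) (C.inv_mem hy)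
  · rw [commutatorElement_def]
    have : x * y * x⁻¹ * y⁻¹ = (x * s) * (s * ((y * s) * (x * s)⁻¹) * s) * (y * s)⁻¹ := by
      rw [mul_inv_rev, mul_inv_rev, hsinv]
      calc x * y * x⁻¹ * y⁻¹ = x * 1 * y * 1 * x⁻¹ * 1 * y⁻¹ := by group
        _ = x * (s * s) * y * (s * s) * x⁻¹ * (s * s) * y⁻¹ := by rw [hs]
        _ = _ := by group
    rw [this]
    exact C.mul_mem (C.mul_mem hx (hn' _ (C.mul_mem hy (C.inv_mem hx)))) (C.inv_mem hy)

theorem dser_ext2_two (hC : ∀ c ∈ C, ∀ c' ∈ C, c * c' = c' * c) :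
    dser (ext2 C s hs hn) 2 = ⊥ := by
  rw [dser_succ, dser_succ, dser_zero, eq_bot_iff]
  calc ⁅⁅ext2 C s hs hn, ext2 C s hs hn⁆, ⁅ext2 C s hs hn, ext2 C s hs hn⁆⁆
      ≤ ⁅C, C⁆ := Subgroup.commutator_mono comm_ext2_le comm_ext2_le
    _ ≤ ⊥ := by
      rw [Subgroup.commutator_le]
      intro x hx y hy
      rw [Subgroup.mem_bot, commutatorElement_eq_one_iff_commute]
      exact hC x hx y hy

theorem card_ext2 (hsC : s ∉ C) : Nat.card (ext2 C s hs hn) = 2 * Nat.card C := by
  have hsinv : s⁻¹ = s := inv_eq_of_mul_eq_one_right hs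
  have e : (C × Bool) ≃ ext2 C s hs hn := by
    refine Equiv.ofBijective
      (fun y => ⟨y.1.1 * (if y.2 then s else 1), ?_⟩) ⟨?_, ?_⟩
    · obtain ⟨⟨c, hc⟩, ε⟩ := y
      cases ε
      · left
        simpa using hc
      · right
        simp only [if_true]
        rw [mul_assoc, hs, mul_one]
        exact hc
    · rintro ⟨⟨c, hc⟩, ε⟩ ⟨⟨c', hc'⟩, ε'⟩ h
      have h1 : c * (if ε then s else 1) = c' * (if ε' then s else 1) := congrArg Subtype.val h
      cases ε <;> cases ε'
      · simp only [Bool.false_eq_true, if_false, mul_one] at h1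
        subst h1
        rfl
      · exfalso
        simp only [Bool.false_eq_true, if_false, mul_one, if_true] at h1
        apply hsC
        have : s = c'⁻¹ * c := by rw [h1]; group
        rw [this]
        exact C.mul_mem (C.inv_mem hc') hc
      · exfalso
        simp only [Bool.false_eq_true, if_false, mul_one, if_true] at h1
        apply hsC
        have : s = c⁻¹ * c' := by rw [← h1]; group
        rw [this]
        exact C.mul_mem (C.inv_mem hc) hc'
      · simp only [if_true] at h1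
        have := mul_right_cancel h1
        subst this
        rfl
    · rintro ⟨g, hg | hg⟩
      · exact ⟨⟨⟨g, hg⟩, false⟩, by simp⟩
      · refine ⟨⟨⟨g * s, hg⟩, true⟩, ?_⟩
        apply Subtype.ext
        simp only [if_true]
        rw [mul_assoc, hs, mul_one]
  rw [← Nat.card_congr e, Nat.card_prod, Nat.card_eq_fintype_card (α := Bool), Fintype.card_bool,
    mul_comm]

end Cfsg.Agent.Lib.Helper5.WrH
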