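import Mathlib
import Cfsg.Agent.Lib.Helper5.WrG6

set_option autoImplicit false

namespace Cfsg.Agent.Lib.Helper5.WrH

open Cfsg.Agent.Lib.Helper5.WrP Matrix

variable {F : Type*} [Field F]

/-- the torus of matrices `[[x, -y], [y, x]]` in `GL₂` -/
def tor (F : Type*) [Field F] : Subgroup (GL (Fin 2) F) where
  carrier := {M | M.1 0 0 = M.1 1 1 ∧ M.1 0 1 = - M.1 1 0}
  one_mem' := by
    simp
  mul_mem' := by
    rintro M N ⟨h1, h2⟩ ⟨h3, h4⟩
    simp only [Set.mem_setOf_eq, Units.val_mul, Matrix.mul_apply, Fin.sum_univ_two] at h1 h2 h3 h4 ⊢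
    constructor
    · rw [h1, h2, h3, h4]; ring
    · rw [h1, h2, h3, h4]; ring
  inv_mem' := by
    rintro M ⟨h1, h2⟩
    simp only [Set.mem_setOf_eq] at h1 h2 ⊢
    rw [Matrix.coe_units_inv, Matrix.inv_def, Matrix.adjugate_fin_two]
    simp only [Matrix.smul_apply, Matrix.of_apply, Matrix.cons_val', Matrix.cons_val_zero,
      Matrix.cons_val_one, Matrix.empty_val', Matrix.cons_val_fin_one, smul_eq_mul]
    constructor
    · rw [h1]
    · rw [h2]; ring

theorem mem_tor {M : GL (Fin 2) F} : M ∈ tor F ↔ M.1 0 0 = M.1 1 1 ∧ M.1 0 1 = - M.1 1 0 := Iff.rfl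

theorem tor_comm {M N : GL (Fin 2) F} (hM : M ∈ tor F) (hN : N ∈ tor F) : M * N = N * M := by
  obtain ⟨h1, h2⟩ := hM
  obtain ⟨h3, h4⟩ := hN
  apply Units.ext
  rw [Units.val_mul, Units.val_mul]
  ext i j
  fin_cases i <;> fin_cases j <;>
  simp only [Fin.zero_eta, Fin.mk_one, Fin.isValue, Matrix.mul_apply, Fin.sum_univ_two, h1, h2, h3,
    h4] <;> ring

/-- the matrix `[[x, -y], [y, x]]` -/
def tel (x y : F) (h : x ^ 2 + y ^ 2 ≠ 0) : GL (Fin 2) F :=
  Matrix.GeneralLinearGroup.mkOfDetNeZero !![x, -y; y, x]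
    (by rw [Matrix.det_fin_two_of]; intro h'; apply h; linear_combination h')

theorem tel_coe (x y : F) (h : x ^ 2 + y ^ 2 ≠ 0) :
    ((tel x y h : GL (Fin 2) F) : Matrix (Fin 2) (Fin 2) F) = !![x, -y; y, x] := rfl

theorem tel_mem (x y : F) (h : x ^ 2 + y ^ 2 ≠ 0) : tel x y h ∈ tor F := by
  rw [mem_tor]
  simp [tel_coe]

theorem det_of_mem {M : GL (Fin 2) F} (hM : M ∈ tor F) :
    (M.1).det = M.1 0 0 ^ 2 + M.1 1 0 ^ 2 := by
  rw [Matrix.det_fin_two, ← hM.1, hM.2]
  ring

theorem ne_zero_of_mem {M : GL (Fin 2) F} (hM : M ∈ tor F) : M.1 0 0 ^ 2 + M.1 1 0 ^ 2 ≠ 0 := by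
  rw [← det_of_mem hM]
  have h := M.isUnit
  rw [Matrix.isUnit_iff_isUnit_det] at h
  exact h.ne_zero

theorem eq_tel_of_mem {M : GL (Fin 2) F} (hM : M ∈ tor F) :
    M = tel (M.1 0 0) (M.1 1 0) (ne_zero_of_mem hM) := by
  apply Units.ext
  rw [tel_coe]
  ext a b
  fin_cases a <;> fin_cases b
  · simp
  · simp only [Fin.zero_eta, Fin.mk_one, Fin.isValue, Matrix.of_apply, Matrix.cons_val',
      Matrix.cons_val_zero, Matrix.cons_val_one, Matrix.empty_val', Matrix.cons_val_fin_one]
    exact hM.2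
  · simp
  · simp only [Fin.mk_one, Fin.isValue, Matrix.of_apply, Matrix.cons_val', Matrix.cons_val_one,
      Matrix.empty_val', Matrix.cons_val_fin_one]
    exact hM.1.symm

/-- the determinant restricted to the torus -/
def torDet (F : Type*) [Field F] : tor F →* Fˣ :=
  (Matrix.GeneralLinearGroup.det).comp (tor F).subtype

theorem torDet_coe (M : tor F) : ((torDet F M : Fˣ) : F) = M.1.1 0 0 ^ 2 + M.1.1 1 0 ^ 2 := by
  rw [← det_of_mem M.2]
  rfl

theorem exists_sq_add_sq [Fintype F] (hq : Odd (Fintype.card F)) (u : F) :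
    ∃ a b : F, a ^ 2 + b ^ 2 = u := by
  open Polynomial in
  obtain ⟨a, b, hab⟩ : ∃ a b, (X ^ 2 : F[X]).eval a + (X ^ 2 - C u : F[X]).eval b = 0 :=
    FiniteField.exists_root_sum_quadratic (degree_X_pow 2) (degree_X_pow_sub_C (by decide) _)
      (Nat.odd_iff.1 hq)
  refine ⟨a, b, ?_⟩
  rw [← sub_eq_zero]
  simpa only [Polynomial.eval_C, Polynomial.eval_X, Polynomial.eval_pow, Polynomial.eval_sub,
    ← add_sub_assoc] using hab

theorem torDet_surjective [Fintype F] (hq : Odd (Fintype.card F)) :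
    Function.Surjective (torDet F) := by
  intro u
  obtain ⟨a, b, hab⟩ := exists_sq_add_sq hq (u : F)
  have hne : a ^ 2 + b ^ 2 ≠ 0 := by
    rw [hab]
    exact u.ne_zero
  refine ⟨⟨tel a b hne, tel_mem a b hne⟩, ?_⟩
  apply Units.ext
  rw [torDet_coe]
  simp only [tel_coe, Matrix.of_apply, Matrix.cons_val', Matrix.cons_val_zero,
    Matrix.cons_val_one, Matrix.empty_val', Matrix.cons_val_fin_one]
  exact hab

/-- the kernel of the determinant on the torus is the circle -/
def kerEquiv (F : Type*) [Field F] : (torDet F).ker ≃ Circ F where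
  toFun M := ⟨(M.1.1.1 0 0, M.1.1.1 1 0), by
    have h := M.2
    rw [MonoidHom.mem_ker] at h
    have h1 := congrArg (fun u : Fˣ => (u : F)) h
    simp only [torDet_coe, Units.val_one] at h1
    exact h1⟩
  invFun p := ⟨⟨tel p.1.1 p.1.2 (by rw [p.2]; exact one_ne_zero), tel_mem _ _ _⟩, by
    rw [MonoidHom.mem_ker]
    apply Units.ext
    rw [torDet_coe]
    simp only [tel_coe, Matrix.of_apply, Matrix.cons_val', Matrix.cons_val_zero,
      Matrix.cons_val_one, Matrix.empty_val', Matrix.cons_val_fin_one, Units.val_one]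
    exact p.2⟩
  left_inv M := by
    apply Subtype.ext
    apply Subtype.ext
    exact (eq_tel_of_mem M.1.2).symm
  right_inv p := by
    apply Subtype.ext
    simp [tel_coe]

theorem card_tor [Fintype F] (hq : Odd (Fintype.card F)) :
    Nat.card (tor F) = (Fintype.card F - 1) * Nat.card (Circ F) := by
  rw [Subgroup.card_eq_card_quotient_mul_card_subgroup (torDet F).ker,
    Nat.card_congr (QuotientGroup.quotientKerEquivOfSurjective _ (torDet_surjective hq)).toEquiv,
    Nat.card_congr (kerEquiv F), Nat.card_units, Nat.card_eq_fintype_card]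

theorem val_card_circ [Fintype F] (hq : Odd (Fintype.card F)) :
    padicValNat 2 (Nat.card (Circ F)) = cq (Fintype.card F) - 1 := by
  have h2 := two_ne_zero_of_odd_card hq
  have hq1 : 1 < Fintype.card F := Fintype.one_lt_card
  haveI : Finite (Circ F) := by
    unfold Circ
    infer_instance
  by_cases hsq : ∃ i : F, i ^ 2 = -1
  · obtain ⟨i, hi⟩ := hsq
    have hc := card_circ_split h2 i hi
    rw [Nat.card_eq_fintype_card (α := F)] at hc
    have hmod : Fintype.card F % 4 ≠ 3 := by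
      rw [← FiniteField.isSquare_neg_one_iff]
      exact ⟨i, by rw [← hi]; ring⟩
    have hmod1 : Fintype.card F % 4 = 1 := by
      obtain ⟨k, hk⟩ := hq
      omega
    have h1 : padicValNat 2 (Fintype.card F + 1) = 1 := val_two_of_mod_four (by omega)
    have e : Nat.card (Circ F) = Fintype.card F - 1 := by omega
    rw [e]
    unfold cq
    rw [h1, Nat.add_sub_cancel_left]
  · have hsq : ∀ i : F, i ^ 2 ≠ -1 := fun i hi => hsq ⟨i, hi⟩
    have hc := card_circ_nonsplit h2 hsq
    rw [Nat.card_eq_fintype_card (α := F)] at hc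
    have hmod : Fintype.card F % 4 = 3 := by
      by_contra h
      rw [← ne_eq, ← FiniteField.isSquare_neg_one_iff] at h
      obtain ⟨i, hi⟩ := h
      exact hsq i (by rw [hi]; ring)
    have h1 : padicValNat 2 (Fintype.card F - 1) = 1 := val_two_of_mod_four (by omega)
    rw [hc]
    unfold cq
    rw [h1, Nat.add_sub_cancel]

theorem val_card_tor [Fintype F] (hq : Odd (Fintype.card F)) :
    padicValNat 2 (Nat.card (tor F)) =
      padicValNat 2 (Fintype.card F - 1) + (cq (Fintype.card F) - 1) := by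
  have hq1 : 1 < Fintype.card F := Fintype.one_lt_card
  haveI : Finite (Circ F) := by
    unfold Circ
    infer_instance
  haveI : Nonempty (Circ F) := ⟨⟨(1, 0), by simp⟩⟩
  rw [card_tor hq, padicValNat.mul (by omega) Nat.card_pos.ne', val_card_circ hq]

end Cfsg.Agent.Lib.Helper5.WrH
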