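import Mathlib
import Cfsg.Agent.Lib.Helper5.WrH1
import Cfsg.Agent.Lib.Helper5.WrH2
import Cfsg.Agent.Lib.Helper5.WrH3

set_option autoImplicit false

namespace Cfsg.Agent.Lib.Helper5.WrH

open Cfsg.Agent.Lib.Helper5.WrP Matrix

section twoPart

variable {G : Type*} [Group G]

/-- the `2`-elements of an abelian subgroup -/
def twoPart (H : Subgroup G) (hH : ∀ x ∈ H, ∀ y ∈ H, x * y = y * x) : Subgroup G where
  carrier := {g | g ∈ H ∧ ∃ k : ℕ, g ^ 2 ^ k = 1}
  one_mem' := ⟨H.one_mem, 0, one_pow _⟩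
  mul_mem' := by
    rintro x y ⟨hx, k, hk⟩ ⟨hy, l, hl⟩
    refine ⟨H.mul_mem hx hy, k + l, ?_⟩
    have hc : Commute x y := hH x hx y hy
    rw [hc.mul_pow, pow_add, pow_mul, hk, one_pow, mul_comm (2 ^ k), pow_mul, hl, one_pow, mul_one]
  inv_mem' := by
    rintro x ⟨hx, k, hk⟩
    exact ⟨H.inv_mem hx, k, by rw [inv_pow, hk, inv_one]⟩

variable {H : Subgroup G} {hH : ∀ x ∈ H, ∀ y ∈ H, x * y = y * x}

theorem mem_twoPart {g : G} : g ∈ twoPart H hH ↔ g ∈ H ∧ ∃ k : ℕ, g ^ 2 ^ k = 1 := Iff.rfl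

theorem twoPart_le : twoPart H hH ≤ H := fun _ hx => hx.1

theorem isPGroup_twoPart : IsPGroup 2 (twoPart H hH) := by
  rintro ⟨g, hg⟩
  obtain ⟨k, hk⟩ := hg.2
  exact ⟨k, Subtype.ext hk⟩

theorem card_twoPart [Finite H] :
    Nat.card (twoPart H hH) = 2 ^ padicValNat 2 (Nat.card H) := by
  haveI : Fact (Nat.Prime 2) := ⟨Nat.prime_two⟩
  obtain ⟨P⟩ : Nonempty (Sylow 2 ↥H) := inferInstance
  have h1 : (twoPart H hH).subgroupOf H = (P : Subgroup ↥H) := by
    apply P.is_maximal'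
    · rintro ⟨g, hg⟩
      rw [Subgroup.mem_subgroupOf] at hg
      obtain ⟨k, hk⟩ := hg.2
      exact ⟨k, Subtype.ext (Subtype.ext hk)⟩
    · intro x hx
      rw [Subgroup.mem_subgroupOf]
      refine ⟨x.2, ?_⟩
      obtain ⟨k, hk⟩ := P.isPGroup' ⟨x, hx⟩
      refine ⟨k, ?_⟩
      have := congrArg (fun y : (P : Subgroup ↥H) => ((y : ↥H) : G)) hk
      simpa using this
  rw [← Nat.card_congr (Subgroup.subgroupOfEquivOfLe (twoPart_le (H := H) (hH := hH))).toEquiv, h1,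
    P.card_eq_multiplicity, Nat.factorization_def _ Nat.prime_two]

end twoPart

variable {F : Type*} [Field F]

/-- the reflection `diag(1, -1)` -/
def sg (F : Type*) [Field F] : GL (Fin 2) F :=
  Matrix.GeneralLinearGroup.mkOfDetNeZero !![1, 0; 0, -1]
    (by rw [Matrix.det_fin_two_of]; simp)

theorem sg_coe : ((sg F : GL (Fin 2) F) : Matrix (Fin 2) (Fin 2) F) = !![1, 0; 0, -1] := rfl

theorem sg_mul_self : sg F * sg F = 1 := by
  apply Units.ext
  rw [Units.val_mul, sg_coe]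
  ext i j
  fin_cases i <;> fin_cases j <;> simp [Matrix.mul_apply, Fin.sum_univ_two]

theorem sg_inv : (sg F)⁻¹ = sg F := inv_eq_of_mul_eq_one_right sg_mul_self

/-- conjugation by the reflection in coordinates -/
theorem sg_conj_coe (M : GL (Fin 2) F) :
    ((sg F * M * (sg F)⁻¹ : GL (Fin 2) F) : Matrix (Fin 2) (Fin 2) F) =
      !![M.1 0 0, - M.1 0 1; - M.1 1 0, M.1 1 1] := by
  rw [sg_inv, Units.val_mul, Units.val_mul, sg_coe]
  ext i j
  fin_cases i <;> fin_cases j <;>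
  simp [Matrix.mul_apply, Fin.sum_univ_two, Matrix.vecMul, dotProduct]

theorem sg_conj_mem {M : GL (Fin 2) F} (hM : M ∈ tor F) : sg F * M * (sg F)⁻¹ ∈ tor F := by
  rw [mem_tor, sg_conj_coe]
  simp only [Matrix.of_apply, Matrix.cons_val', Matrix.cons_val_zero, Matrix.cons_val_one,
    Matrix.empty_val', Matrix.cons_val_fin_one, neg_neg]
  exact ⟨hM.1, by rw [hM.2, neg_neg]⟩

theorem sg_not_mem (h2 : (2 : F) ≠ 0) : sg F ∉ tor F := by
  intro h
  have h1 := h.1
  rw [sg_coe] at h1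
  simp only [Matrix.of_apply, Matrix.cons_val', Matrix.cons_val_zero, Matrix.cons_val_one,
    Matrix.empty_val', Matrix.cons_val_fin_one] at h1
  apply h2
  linear_combination h1

/-- the `2`-part of the torus -/
def torTwo (F : Type*) [Field F] : Subgroup (GL (Fin 2) F) :=
  twoPart (tor F) (fun _ hx _ hy => tor_comm hx hy)

theorem torTwo_le : torTwo F ≤ tor F := twoPart_le

theorem torTwo_comm {M N : GL (Fin 2) F} (hM : M ∈ torTwo F) (hN : N ∈ torTwo F) :
    M * N = N * M := tor_comm (torTwo_le hM) (torTwo_le hN)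

theorem sg_conj_mem_torTwo {M : GL (Fin 2) F} (hM : M ∈ torTwo F) :
    sg F * M * (sg F)⁻¹ ∈ torTwo F := by
  obtain ⟨h1, k, hk⟩ := hM
  refine ⟨sg_conj_mem h1, k, ?_⟩
  rw [conj_pow, hk, mul_one, mul_inv_cancel]

/-- the standard Sylow `2`-subgroup of `GL₂(q)` -/
def glTwo (F : Type*) [Field F] : Subgroup (GL (Fin 2) F) :=
  ext2 (torTwo F) (sg F) sg_mul_self (fun _ hc => sg_conj_mem_torTwo hc)

theorem torTwo_le_glTwo : torTwo F ≤ glTwo F := le_ext2

theorem sg_mem_glTwo : sg F ∈ glTwo F := s_mem_ext2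

theorem mem_glTwo {M : GL (Fin 2) F} : M ∈ glTwo F ↔ M ∈ torTwo F ∨ M * sg F ∈ torTwo F := Iff.rfl

theorem dser_glTwo : dser (glTwo F) 2 = ⊥ :=
  dser_ext2_two (fun _ hc _ hc' => torTwo_comm hc hc')

theorem card_torTwo [Fintype F] (hq : Odd (Fintype.card F)) :
    Nat.card (torTwo F) =
      2 ^ (padicValNat 2 (Fintype.card F - 1) + (cq (Fintype.card F) - 1)) := by
  unfold torTwo
  rw [card_twoPart, val_card_tor hq]

theorem card_glTwo [Fintype F] (hq : Odd (Fintype.card F)) :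
    Nat.card (glTwo F) = 2 ^ (padicValNat 2 (Fintype.card F - 1) + cq (Fintype.card F)) := by
  have h2 := two_ne_zero_of_odd_card hq
  have hq1 : 1 < Fintype.card F := Fintype.one_lt_card
  have h3 := three_le_cq hq hq1
  unfold glTwo
  rw [card_ext2 (fun h => sg_not_mem h2 (torTwo_le h)), card_torTwo hq, ← pow_succ']
  congr 1
  omega

end Cfsg.Agent.Lib.Helper5.WrH
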