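import Mathlib
import Cfsg.Agent.Lib.Helper5.WrH4

set_option autoImplicit false

namespace Cfsg.Agent.Lib.Helper5.WrH

open Cfsg.Agent.Lib.Helper5.WrP

theorem geom_sum_mod_two {q : ℕ} (hq : q % 2 = 1) (k : ℕ) :
    (∑ i ∈ Finset.range k, q ^ i) % 2 = k % 2 := by
  induction k with
  | zero => simp
  | succ k ih =>
    rw [Finset.sum_range_succ, Nat.add_mod, ih, Nat.pow_mod, hq, one_pow]
    omega

/-- valuation of `q^k - 1` at `2`, for odd `k` -/
theorem val_pow_sub_one_odd {q : ℕ} (hq1 : 1 < q) (hq : Odd q) {k : ℕ} (hk : Odd k) :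
    padicValNat 2 (q ^ k - 1) = padicValNat 2 (q - 1) := by
  have h1 := geom_sum_mul_of_one_le (x := q) (by omega) k
  have h2 : (∑ i ∈ Finset.range k, q ^ i) % 2 = 1 := by
    rw [geom_sum_mod_two (Nat.odd_iff.1 hq), Nat.odd_iff.1 hk]
  have h3 : ¬ 2 ∣ ∑ i ∈ Finset.range k, q ^ i := by omega
  have h4 : (∑ i ∈ Finset.range k, q ^ i) ≠ 0 := by
    intro h
    rw [h] at h2
    omega
  rw [← h1, padicValNat.mul h4 (by omega), padicValNat.eq_zero_of_not_dvd h3, zero_add]

theorem sum_val_two {q : ℕ} (hq1 : 1 < q) (hq : Odd q) (n : ℕ) :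
    ∑ j ∈ Finset.range n, padicValNat 2 (q ^ (j + 1) - 1) =
      (n - n / 2) * padicValNat 2 (q - 1) + (n / 2) * cq q + padicValNat 2 (n / 2).factorial := by
  induction n with
  | zero => simp
  | succ n ih =>
    rw [Finset.sum_range_succ, ih]
    rcases Nat.even_or_odd (n + 1) with he | ho
    · obtain ⟨i, hi⟩ : ∃ i, n + 1 = 2 * (i + 1) := by
        obtain ⟨j, hj⟩ := he
        exact ⟨j - 1, by omega⟩
      have e1 : (n + 1) / 2 = n / 2 + 1 := by omega
      have e2 : n + 1 - (n + 1) / 2 = n - n / 2 := by omega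
      have e3 : i + 1 = n / 2 + 1 := by omega
      rw [hi, val_pow_sub_one hq1 hq i, ← hi, e2, e1, Nat.factorial_succ,
        padicValNat.mul (Nat.succ_ne_zero _) (Nat.factorial_ne_zero _), e3]
      ring
    · have e1 : (n + 1) / 2 = n / 2 := by
        obtain ⟨j, hj⟩ := ho
        omega
      have e2 : n + 1 - (n + 1) / 2 = n - n / 2 + 1 := by
        obtain ⟨j, hj⟩ := ho
        omega
      rw [val_pow_sub_one_odd hq1 hq ho, e2, e1]
      ring

/-- the `2`-part of `|GL_n(q)|`, `q` odd -/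
theorem val_card_GL_two {q : ℕ} (hq1 : 1 < q) (hq : Odd q) (n : ℕ) :
    (∏ i : Fin n, (q ^ n - q ^ (i : ℕ))).factorization 2 =
      (n - n / 2) * padicValNat 2 (q - 1) + (n / 2) * cq q + padicValNat 2 (n / 2).factorial := by
  have hq0 : 0 < q := by omega
  have h2q : ¬ 2 ∣ q := by
    rw [← even_iff_two_dvd, Nat.not_even_iff_odd]
    exact hq
  have hne : ∀ i ∈ (Finset.univ : Finset (Fin n)), q ^ n - q ^ (i : ℕ) ≠ 0 := by
    intro i _
    have : q ^ (i : ℕ) < q ^ n := Nat.pow_lt_pow_right hq1 i.2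
    omega
  rw [Nat.factorization_prod hne, Finsupp.finsetSum_apply]
  have hterm : ∀ i : Fin n, (q ^ n - q ^ (i : ℕ)).factorization 2 =
      padicValNat 2 (q ^ (n - i) - 1) := by
    intro i
    have hi : (i : ℕ) < n := i.2
    have e1 : q ^ n - q ^ (i : ℕ) = q ^ (i : ℕ) * (q ^ (n - i) - 1) := by
      rw [Nat.mul_sub, mul_one, ← pow_add]
      congr 2; omega
    have hne1 : q ^ (i : ℕ) ≠ 0 := (pow_pos hq0 _).ne'
    have hne2 : q ^ (n - i) - 1 ≠ 0 := by
      have : 1 < q ^ (n - (i : ℕ)) := Nat.one_lt_pow (by omega) hq1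
      omega
    rw [e1, Nat.factorization_mul hne1 hne2, Finsupp.add_apply,
      Nat.factorization_def _ Nat.prime_two, Nat.factorization_def _ Nat.prime_two,
      padicValNat.eq_zero_of_not_dvd (fun h => h2q (Nat.prime_two.dvd_of_dvd_pow h)), zero_add]
  rw [Finset.sum_congr rfl (fun i _ => hterm i)]
  rw [Fin.sum_univ_eq_sum_range (fun i => padicValNat 2 (q ^ (n - i) - 1)) n]
  rw [← Finset.sum_range_reflect]
  have : ∀ j ∈ Finset.range n, padicValNat 2 (q ^ (n - (n - 1 - j)) - 1) =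
      padicValNat 2 (q ^ (j + 1) - 1) := by
    intro j hj
    rw [Finset.mem_range] at hj
    have : n - (n - 1 - j) = j + 1 := by omega
    rw [this]
  rw [Finset.sum_congr rfl this, sum_val_two hq1 hq n]

end Cfsg.Agent.Lib.Helper5.WrH
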