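import Mathlib
import Cfsg.Agent.Lib.Helper5.WrH5

set_option autoImplicit false

namespace Cfsg.Agent.Lib.Helper5.WrH

open Equiv Cfsg.Agent.Lib.Helper5.WrP Cfsg.Agent.Lib.Helper5.WrG

/-- change of the base group of wreath data along an injective homomorphism -/
def comapBase {A A' ι G : Type*} [Group A] [Group A'] [Group G] (D : WrData A ι G) (φ : A' →* A)
    (hφ : Function.Injective φ) : WrData A' ι G where
  β := D.β.comp (φ.compLeft ι)
  π := D.π
  conj t f := by
    show D.π t * D.β (fun i => φ (f i)) * (D.π t)⁻¹ = D.β (fun i => φ (f (t⁻¹ i)))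
    rw [D.conj]
  inj f t h := by
    have h1 : D.β (fun i => φ (f i)) * D.π t = 1 := h
    obtain ⟨h2, h3⟩ := D.inj _ _ h1
    refine ⟨?_, h3⟩
    funext i
    apply hφ
    rw [Pi.one_apply, map_one]
    exact congrFun h2 i

section side

variable (F : Type*) [Field F] (U₁ U₂ : Type*) [AddCommGroup U₁] [Module F U₁] [AddCommGroup U₂]
  [Module F U₂] (m b : ℕ)

/-- block diagonal action on the first factor -/
def blkL : (Fin m → Module.End F U₁) →* Module.End F ((Fin m → U₁) × (Fin b → U₂)) where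
  toFun f := LinearMap.prodMap (LinearMap.pi (fun i => (f i).comp (LinearMap.proj i))) LinearMap.id
  map_one' := by
    refine LinearMap.ext fun ⟨x, y⟩ => ?_
    rfl
  map_mul' f f' := by
    refine LinearMap.ext fun ⟨x, y⟩ => ?_
    rfl

theorem blkL_apply (f : Fin m → Module.End F U₁) (x : Fin m → U₁) (y : Fin b → U₂) :
    blkL F U₁ U₂ m b f (x, y) = (fun i => f i (x i), y) := rfl

/-- block diagonal action on the second factor -/
def blkR : (Fin b → Module.End F U₂) →* Module.End F ((Fin m → U₁) × (Fin b → U₂)) where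
  toFun g := LinearMap.prodMap LinearMap.id (LinearMap.pi (fun j => (g j).comp (LinearMap.proj j)))
  map_one' := by
    refine LinearMap.ext fun ⟨x, y⟩ => ?_
    rfl
  map_mul' g g' := by
    refine LinearMap.ext fun ⟨x, y⟩ => ?_
    rfl

theorem blkR_apply (g : Fin b → Module.End F U₂) (x : Fin m → U₁) (y : Fin b → U₂) :
    blkR F U₁ U₂ m b g (x, y) = (x, fun j => g j (y j)) := rfl

/-- coordinate permutations of the first factor -/
def permL : Perm (Fin m) →* Module.End F ((Fin m → U₁) × (Fin b → U₂)) where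
  toFun t := LinearMap.prodMap (LinearMap.funLeft F U₁ (t⁻¹ : Perm (Fin m))) LinearMap.id
  map_one' := by
    refine LinearMap.ext fun ⟨x, y⟩ => ?_
    simp [LinearMap.funLeft]
  map_mul' t t' := by
    refine LinearMap.ext fun ⟨x, y⟩ => ?_
    simp only [LinearMap.prodMap_apply, LinearMap.id_coe, id_eq, Module.End.mul_apply,
      Prod.mk.injEq, and_true]
    funext i
    simp [LinearMap.funLeft, mul_inv_rev, Perm.mul_apply]

theorem permL_apply (t : Perm (Fin m)) (x : Fin m → U₁) (y : Fin b → U₂) :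
    permL F U₁ U₂ m b t (x, y) = (fun i => x (t⁻¹ i), y) := rfl

/-- coordinate permutations of the second factor -/
def permR : Perm (Fin b) →* Module.End F ((Fin m → U₁) × (Fin b → U₂)) where
  toFun s := LinearMap.prodMap LinearMap.id (LinearMap.funLeft F U₂ (s⁻¹ : Perm (Fin b)))
  map_one' := by
    refine LinearMap.ext fun ⟨x, y⟩ => ?_
    simp [LinearMap.funLeft]
  map_mul' s s' := by
    refine LinearMap.ext fun ⟨x, y⟩ => ?_
    simp only [LinearMap.prodMap_apply, LinearMap.id_coe, id_eq, Module.End.mul_apply,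
      Prod.mk.injEq, true_and]
    funext i
    simp [LinearMap.funLeft, mul_inv_rev, Perm.mul_apply]

theorem permR_apply (s : Perm (Fin b)) (x : Fin m → U₁) (y : Fin b → U₂) :
    permR F U₁ U₂ m b s (x, y) = (x, fun j => y (s⁻¹ j)) := rfl

/-- wreath data on the first factor -/
def sideL [Nontrivial U₁] :
    WrData (Module.End F U₁)ˣ (Fin m) (Module.End F ((Fin m → U₁) × (Fin b → U₂)))ˣ where
  β := (Units.map (blkL F U₁ U₂ m b)).comp MulEquiv.piUnits.symm.toMonoidHom
  π := (permL F U₁ U₂ m b).toHomUnits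
  conj t c := by
    rw [mul_inv_eq_iff_eq_mul]
    apply Units.ext
    refine LinearMap.ext fun ⟨x, y⟩ => ?_
    show permL F U₁ U₂ m b t (blkL F U₁ U₂ m b _ (x, y)) =
      blkL F U₁ U₂ m b _ (permL F U₁ U₂ m b t (x, y))
    rw [blkL_apply, permL_apply, permL_apply, blkL_apply]
    rfl
  inj c t h := by
    have h1 : ∀ x y, blkL F U₁ U₂ m b (fun i => ((c i : (Module.End F U₁)ˣ) : Module.End F U₁))
        (permL F U₁ U₂ m b t (x, y)) = (x, y) := by
      intro x y
      have := congrArg (fun u : (Module.End F ((Fin m → U₁) × (Fin b → U₂)))ˣ =>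
        (u : Module.End F ((Fin m → U₁) × (Fin b → U₂))) (x, y)) h
      exact this
    obtain ⟨u, hu⟩ := exists_ne (0 : U₁)
    have ht : ∀ i, t i = i := by
      intro i
      by_contra hne
      have h2 := congrArg (fun z => z.1 (t i)) (h1 (Pi.single i u) 0)
      simp only [permL_apply, blkL_apply] at h2
      rw [show t⁻¹ (t i) = i from Perm.inv_eq_iff_eq.mpr rfl, Pi.single_eq_same,
        Pi.single_eq_of_ne hne] at h2
      apply hu
      have h3 := congrArg (fun w => ((c (t i))⁻¹ : (Module.End F U₁)ˣ).1 w) h2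
      simp only [map_zero] at h3
      rw [← Module.End.mul_apply, Units.inv_mul] at h3
      exact h3
    have ht1 : t = 1 := Equiv.ext ht
    subst ht1
    refine ⟨?_, rfl⟩
    funext i
    apply Units.ext
    refine LinearMap.ext fun w => ?_
    have h2 := congrArg (fun z => z.1 i) (h1 (Pi.single i w) 0)
    simp only [permL_apply, blkL_apply] at h2
    rw [show (1 : Perm (Fin m))⁻¹ i = i from rfl, Pi.single_eq_same] at h2
    exact h2

/-- wreath data on the second factor -/
def sideR [Nontrivial U₂] :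
    WrData (Module.End F U₂)ˣ (Fin b) (Module.End F ((Fin m → U₁) × (Fin b → U₂)))ˣ where
  β := (Units.map (blkR F U₁ U₂ m b)).comp MulEquiv.piUnits.symm.toMonoidHom
  π := (permR F U₁ U₂ m b).toHomUnits
  conj t c := by
    rw [mul_inv_eq_iff_eq_mul]
    apply Units.ext
    refine LinearMap.ext fun ⟨x, y⟩ => ?_
    show permR F U₁ U₂ m b t (blkR F U₁ U₂ m b _ (x, y)) =
      blkR F U₁ U₂ m b _ (permR F U₁ U₂ m b t (x, y))
    rw [blkR_apply, permR_apply, permR_apply, blkR_apply]
    rfl
  inj c t h := by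
    have h1 : ∀ x y, blkR F U₁ U₂ m b (fun i => ((c i : (Module.End F U₂)ˣ) : Module.End F U₂))
        (permR F U₁ U₂ m b t (x, y)) = (x, y) := by
      intro x y
      have := congrArg (fun u : (Module.End F ((Fin m → U₁) × (Fin b → U₂)))ˣ =>
        (u : Module.End F ((Fin m → U₁) × (Fin b → U₂))) (x, y)) h
      exact this
    obtain ⟨u, hu⟩ := exists_ne (0 : U₂)
    have ht : ∀ i, t i = i := by
      intro i
      by_contra hne
      have h2 := congrArg (fun z => z.2 (t i)) (h1 0 (Pi.single i u))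
      simp only [permR_apply, blkR_apply] at h2
      rw [show t⁻¹ (t i) = i from Perm.inv_eq_iff_eq.mpr rfl, Pi.single_eq_same,
        Pi.single_eq_of_ne hne] at h2
      apply hu
      have h3 := congrArg (fun w => ((c (t i))⁻¹ : (Module.End F U₂)ˣ).1 w) h2
      simp only [map_zero] at h3
      rw [← Module.End.mul_apply, Units.inv_mul] at h3
      exact h3
    have ht1 : t = 1 := Equiv.ext ht
    subst ht1
    refine ⟨?_, rfl⟩
    funext i
    apply Units.ext
    refine LinearMap.ext fun w => ?_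
    have h2 := congrArg (fun z => z.2 i) (h1 0 (Pi.single i w))
    simp only [permR_apply, blkR_apply] at h2
    rw [show (1 : Perm (Fin b))⁻¹ i = i from rfl, Pi.single_eq_same] at h2
    exact h2

variable [Nontrivial U₁] [Nontrivial U₂]

theorem sideL_apply (f : Fin m → (Module.End F U₁)ˣ) (t : Perm (Fin m)) (x : Fin m → U₁)
    (y : Fin b → U₂) :
    (((sideL F U₁ U₂ m b).β f * (sideL F U₁ U₂ m b).π t :
      (Module.End F ((Fin m → U₁) × (Fin b → U₂)))ˣ) :
      Module.End F ((Fin m → U₁) × (Fin b → U₂))) (x, y) =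
      (fun i => (f i).1 (x (t⁻¹ i)), y) := rfl

theorem sideR_apply (g : Fin b → (Module.End F U₂)ˣ) (s : Perm (Fin b)) (x : Fin m → U₁)
    (y : Fin b → U₂) :
    (((sideR F U₁ U₂ m b).β g * (sideR F U₁ U₂ m b).π s :
      (Module.End F ((Fin m → U₁) × (Fin b → U₂)))ˣ) :
      Module.End F ((Fin m → U₁) × (Fin b → U₂))) (x, y) =
      (x, fun j => (g j).1 (y (s⁻¹ j))) := rfl

theorem side_comm (f : Fin m → (Module.End F U₁)ˣ) (t : Perm (Fin m))
    (g : Fin b → (Module.End F U₂)ˣ) (s : Perm (Fin b)) :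
    ((sideL F U₁ U₂ m b).β f * (sideL F U₁ U₂ m b).π t) *
      ((sideR F U₁ U₂ m b).β g * (sideR F U₁ U₂ m b).π s) =
    ((sideR F U₁ U₂ m b).β g * (sideR F U₁ U₂ m b).π s) *
      ((sideL F U₁ U₂ m b).β f * (sideL F U₁ U₂ m b).π t) := by
  apply Units.ext
  refine LinearMap.ext fun ⟨x, y⟩ => ?_
  rfl

theorem side_disjoint (f : Fin m → (Module.End F U₁)ˣ) (t : Perm (Fin m))
    (g : Fin b → (Module.End F U₂)ˣ) (s : Perm (Fin b))
    (h : (sideL F U₁ U₂ m b).β f * (sideL F U₁ U₂ m b).π t =
      (sideR F U₁ U₂ m b).β g * (sideR F U₁ U₂ m b).π s) :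
    (sideL F U₁ U₂ m b).β f * (sideL F U₁ U₂ m b).π t = 1 := by
  apply Units.ext
  refine LinearMap.ext fun ⟨x, y⟩ => ?_
  have h1 := sideL_apply F U₁ U₂ m b f t x y
  have h2 := sideR_apply F U₁ U₂ m b g s x y
  rw [← h] at h2
  rw [Units.val_one, Module.End.one_apply]
  apply Prod.ext
  · rw [h2]
  · rw [h1]

end side

end Cfsg.Agent.Lib.Helper5.WrH
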