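import Mathlib
import Cfsg.Agent.Lib.Helper5.WrH6

set_option autoImplicit false

universe u

namespace Cfsg.Agent.Lib.Helper5.WrH

open Equiv Cfsg.Agent.Lib.Helper5.WrP Cfsg.Agent.Lib.Helper5.WrG

/-- scalars as units of the endomorphism ring -/
def scalHom (F : Type*) [Field F] : Fˣ →* (Module.End F F)ˣ :=
  Units.map (algebraMap F (Module.End F F)).toMonoidHom

theorem scalHom_injective (F : Type*) [Field F] : Function.Injective (scalHom F) := by
  intro c c' h
  have h1 := congrArg (fun u : (Module.End F F)ˣ => (u : Module.End F F) 1) h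
  simp only [scalHom, Units.coe_map, RingHom.toMonoidHom_eq_coe, MonoidHom.coe_coe,
    Module.algebraMap_end_apply, smul_eq_mul, mul_one] at h1
  exact Units.ext h1

/-- the wreath data for `GL₂ ≀ Sym(n/2)` and the complementary scalars inside `GL_n` -/
theorem exists_gl_data (F : Type u) [Field F] (n : ℕ) :
    ∃ (D₁ : WrData (GL (Fin 2) F) (Fin (n / 2)) (GL (Fin n) F))
      (D₂ : WrData Fˣ (Fin (n % 2)) (GL (Fin n) F)),
      (∀ f t g s, (D₁.β f * D₁.π t) * (D₂.β g * D₂.π s) =
        (D₂.β g * D₂.π s) * (D₁.β f * D₁.π t)) ∧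
      (∀ f t g s, D₁.β f * D₁.π t = D₂.β g * D₂.π s → D₁.β f * D₁.π t = 1) := by
  classical
  have hfin : Module.finrank F ((Fin (n / 2) → (Fin 2 → F)) × (Fin (n % 2) → F)) = n := by
    rw [Module.finrank_prod, Module.finrank_pi_fintype, Module.finrank_fin_fun]
    simp only [Module.finrank_fin_fun, Finset.sum_const, Finset.card_univ, Fintype.card_fin,
      smul_eq_mul]
    exact Nat.div_add_mod' n 2
  let bas := Module.finBasisOfFinrankEq F ((Fin (n / 2) → (Fin 2 → F)) × (Fin (n % 2) → F)) hfin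
  let e1 : (Module.End F ((Fin (n / 2) → (Fin 2 → F)) × (Fin (n % 2) → F)))ˣ ≃* GL (Fin n) F :=
    Units.mapEquiv (LinearMap.toMatrixAlgEquiv bas).toMulEquiv
  let φ₁ : GL (Fin 2) F →* (Module.End F (Fin 2 → F))ˣ :=
    (Matrix.GeneralLinearGroup.toLin (n := Fin 2) (R := F)).toMonoidHom
  have hφ₁ : Function.Injective φ₁ := (Matrix.GeneralLinearGroup.toLin (n := Fin 2) (R := F)).injective
  let L := sideL F (Fin 2 → F) F (n / 2) (n % 2)
  let R := sideR F (Fin 2 → F) F (n / 2) (n % 2)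
  refine ⟨mapEquiv (comapBase L φ₁ hφ₁) e1, mapEquiv (comapBase R (scalHom F) (scalHom_injective F)) e1,
    ?_, ?_⟩
  · intro f t g s
    show (e1 (L.β (fun i => φ₁ (f i))) * e1 (L.π t)) * (e1 (R.β (fun i => scalHom F (g i))) * e1 (R.π s)) =
      (e1 (R.β (fun i => scalHom F (g i))) * e1 (R.π s)) * (e1 (L.β (fun i => φ₁ (f i))) * e1 (L.π t))
    rw [← map_mul, ← map_mul, ← map_mul, ← map_mul, side_comm]
  · intro f t g s h
    have h' : e1 (L.β (fun i => φ₁ (f i))) * e1 (L.π t) =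
        e1 (R.β (fun i => scalHom F (g i))) * e1 (R.π s) := h
    rw [← map_mul, ← map_mul] at h'
    have h2 := side_disjoint F (Fin 2 → F) F (n / 2) (n % 2) _ _ _ _ (e1.injective h')
    show e1 (L.β (fun i => φ₁ (f i))) * e1 (L.π t) = 1
    rw [← map_mul, h2, map_one]

end Cfsg.Agent.Lib.Helper5.WrH
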