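import Mathlib
import Cfsg.Agent.Lib.Helper5.OmSyl3
import Cfsg.Agent.Lib.Helper5.WrH7

set_option autoImplicit false

namespace Cfsg.Agent.Lib.Helper5.OmSyl

open Matrix Equiv Cfsg.Agent.Lib.Helper5.WrP Cfsg.Agent.Lib.Helper5.WrH Cfsg.Agent.Lib.Helper5.WrG

/-- restriction of the codomain of wreath data to a subgroup -/
def restrictW {A ι G : Type*} [Group A] [Group G] (D : WrData A ι G) (H : Subgroup G)
    (hβ : ∀ f, D.β f ∈ H) (hπ : ∀ t, D.π t ∈ H) : WrData A ι ↥H where
  β := D.β.codRestrict H hβ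
  π := D.π.codRestrict H hπ
  conj t f := Subtype.ext (D.conj t f)
  inj f t h := D.inj f t (congrArg Subtype.val h)

theorem restrictW_beta_coe {A ι G : Type*} [Group A] [Group G] (D : WrData A ι G) (H : Subgroup G)
    (hβ : ∀ f, D.β f ∈ H) (hπ : ∀ t, D.π t ∈ H) (f : ι → A) :
    (((restrictW D H hβ hπ).β f : ↥H) : G) = D.β f := rfl

theorem restrictW_pi_coe {A ι G : Type*} [Group A] [Group G] (D : WrData A ι G) (H : Subgroup G)
    (hβ : ∀ f, D.β f ∈ H) (hπ : ∀ t, D.π t ∈ H) (t : Perm ι) :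
    (((restrictW D H hβ hπ).π t : ↥H) : G) = D.π t := rfl

variable (F : Type*) [Field F]

/-- the isometry group of the plane -/
abbrev O2 : Type _ := ↥(Cfsg.isometryGroup F ⇑(q2 F))

/-- isometries of the plane as linear automorphisms -/
noncomputable def o2Hom : O2 F →* (Module.End F (Fin 2 → F))ˣ :=
  (Matrix.GeneralLinearGroup.toLin (n := Fin 2) (R := F)).toMonoidHom.comp
    (Cfsg.isometryGroup F ⇑(q2 F)).subtype

theorem o2Hom_apply (a : O2 F) (x : Fin 2 → F) :
    ((o2Hom F a : (Module.End F (Fin 2 → F))ˣ) : Module.End F (Fin 2 → F)) x =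
      ((a : GL (Fin 2) F) : Matrix (Fin 2) (Fin 2) F) *ᵥ x := rfl

theorem o2Hom_injective : Function.Injective (o2Hom F) := by
  intro a a' h
  apply Subtype.ext
  exact (Matrix.GeneralLinearGroup.toLin (n := Fin 2) (R := F)).injective h

/-- signs as scalars -/
def sgnU : ℤˣ →* Fˣ := Units.map ((Int.castRingHom F : ℤ →+* F) : ℤ →* F)

theorem sgnU_coe (u : ℤˣ) : ((sgnU F u : Fˣ) : F) = ((u : ℤ) : F) := rfl

theorem sgnU_mul_self (u : ℤˣ) : ((u : ℤ) : F) * ((u : ℤ) : F) = 1 := by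
  rcases Int.units_eq_one_or u with h | h <;> rw [h] <;> simp

theorem sgnU_injective (h2 : (2 : F) ≠ 0) : Function.Injective (sgnU F) := by
  intro u u' h
  have h1 := congrArg (fun z : Fˣ => (z : F)) h
  simp only [sgnU_coe] at h1
  rcases Int.units_eq_one_or u with hu | hu <;> rcases Int.units_eq_one_or u' with hu' | hu' <;>
    rw [hu, hu'] at h1 ⊢
  · exfalso
    apply h2
    simp only [Units.val_one, Int.cast_one, Units.val_neg, Int.cast_neg] at h1
    linear_combination h1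
  · exfalso
    apply h2
    simp only [Units.val_one, Int.cast_one, Units.val_neg, Int.cast_neg] at h1
    linear_combination -h1

/-- signs as linear automorphisms of the line -/
def sgnHom : ℤˣ →* (Module.End F F)ˣ := (scalHom F).comp (sgnU F)

theorem sgnHom_apply (u : ℤˣ) (x : F) :
    ((sgnHom F u : (Module.End F F)ˣ) : Module.End F F) x = ((u : ℤ) : F) * x := by
  simp [sgnHom, scalHom, sgnU]

theorem sgnHom_injective (h2 : (2 : F) ≠ 0) : Function.Injective (sgnHom F) :=
  (scalHom_injective F).comp (sgnU_injective F h2)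

variable (k b : ℕ) (c : Fin b → F)

/-- the isometry group of the model -/
abbrev OM : Type _ := ↥(Cfsg.isometryGroup F ⇑(Qm F k b c))

/-- the wreath data inside the general linear group -/
noncomputable def WG : WrData (O2 F) (Fin k) (GL (MI k b) F) :=
  mapEquiv (comapBase (sideL F (Fin 2 → F) F k b) (o2Hom F) (o2Hom_injective F)) (e1 F k b)

theorem WG_mulVec (f : Fin k → O2 F) (t : Perm (Fin k)) (z : MS F k b) :
    (((WG F k b).β f * (WG F k b).π t : GL (MI k b) F) : Matrix (MI k b) (MI k b) F) *ᵥ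
      (phi F k b z) =
    phi F k b (fun i => ((f i : GL (Fin 2) F) : Matrix (Fin 2) (Fin 2) F) *ᵥ z.1 (t⁻¹ i), z.2) := by
  have h : (WG F k b).β f * (WG F k b).π t =
      e1 F k b ((sideL F (Fin 2 → F) F k b).β (fun i => o2Hom F (f i)) *
        (sideL F (Fin 2 → F) F k b).π t) := by
    rw [map_mul]
    rfl
  rw [h, e1_mulVec]
  obtain ⟨x, y⟩ := z
  rw [sideL_apply]
  rfl

theorem WG_mem (f : Fin k → O2 F) (t : Perm (Fin k)) :
    (WG F k b).β f * (WG F k b).π t ∈ Cfsg.isometryGroup F ⇑(Qm F k b c) := by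
  rw [IsoTransfer.mem_iso]
  intro x
  obtain ⟨z, rfl⟩ := (phi F k b).surjective x
  rw [WG_mulVec, Qm_phi, Qm_phi]
  unfold QM
  congr 1
  show ∑ i, q2 F (((f i : GL (Fin 2) F) : Matrix (Fin 2) (Fin 2) F) *ᵥ z.1 (t⁻¹ i)) = _
  have h1 : ∀ i, q2 F (((f i : GL (Fin 2) F) : Matrix (Fin 2) (Fin 2) F) *ᵥ z.1 (t⁻¹ i)) =
      q2 F (z.1 (t⁻¹ i)) := fun i => (f i).2 (z.1 (t⁻¹ i)) (z.1 (t⁻¹ i))
  rw [Finset.sum_congr rfl (fun i _ => h1 i)]
  exact Equiv.sum_comp (t⁻¹ : Perm (Fin k)) (fun i => q2 F (z.1 i))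

/-- the wreath data inside the isometry group of the model -/
noncomputable def WO : WrData (O2 F) (Fin k) (OM F k b c) :=
  restrictW (WG F k b) (Cfsg.isometryGroup F ⇑(Qm F k b c))
    (fun f => by
      have := WG_mem F k b c f 1
      rwa [map_one, mul_one] at this)
    (fun t => by
      have := WG_mem F k b c 1 t
      rwa [map_one, one_mul] at this)

theorem WO_mulVec (f : Fin k → O2 F) (t : Perm (Fin k)) (z : MS F k b) :
    ((((WO F k b c).β f * (WO F k b c).π t : OM F k b c) : GL (MI k b) F) :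
      Matrix (MI k b) (MI k b) F) *ᵥ (phi F k b z) =
    phi F k b (fun i => ((f i : GL (Fin 2) F) : Matrix (Fin 2) (Fin 2) F) *ᵥ z.1 (t⁻¹ i), z.2) :=
  WG_mulVec F k b f t z

/-- the signs on the remaining coordinates, inside the general linear group -/
noncomputable def rhoG : (Fin b → ℤˣ) →* GL (MI k b) F :=
  (e1 F k b).toMonoidHom.comp
    ((sideR F (Fin 2 → F) F k b).β.comp ((sgnHom F).compLeft (Fin b)))

theorem rhoG_mulVec (ε : Fin b → ℤˣ) (z : MS F k b) :
    ((rhoG F k b ε : GL (MI k b) F) : Matrix (MI k b) (MI k b) F) *ᵥ (phi F k b z) =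
    phi F k b (z.1, fun l => ((ε l : ℤ) : F) * z.2 l) := by
  have h : rhoG F k b ε =
      e1 F k b ((sideR F (Fin 2 → F) F k b).β (fun l => sgnHom F (ε l)) *
        (sideR F (Fin 2 → F) F k b).π 1) := by
    rw [map_one, mul_one]
    rfl
  rw [h, e1_mulVec]
  obtain ⟨x, y⟩ := z
  rw [sideR_apply]
  congr 1

theorem rhoG_mem (ε : Fin b → ℤˣ) : rhoG F k b ε ∈ Cfsg.isometryGroup F ⇑(Qm F k b c) := by
  rw [IsoTransfer.mem_iso]
  intro x
  obtain ⟨z, rfl⟩ := (phi F k b).surjective x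
  rw [rhoG_mulVec, Qm_phi, Qm_phi]
  unfold QM
  congr 1
  apply Finset.sum_congr rfl
  intro l _
  show c l * ((((ε l : ℤ) : F) * z.2 l) * (((ε l : ℤ) : F) * z.2 l)) = _
  have := sgnU_mul_self F (ε l)
  calc c l * ((((ε l : ℤ) : F) * z.2 l) * (((ε l : ℤ) : F) * z.2 l))
      = c l * ((((ε l : ℤ) : F) * ((ε l : ℤ) : F)) * (z.2 l * z.2 l)) := by ring
    _ = c l * (z.2 l * z.2 l) := by rw [this, one_mul]

/-- the signs on the remaining coordinates -/
noncomputable def rho : (Fin b → ℤˣ) →* OM F k b c :=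
  (rhoG F k b).codRestrict (Cfsg.isometryGroup F ⇑(Qm F k b c)) (rhoG_mem F k b c)

theorem rho_mulVec (ε : Fin b → ℤˣ) (z : MS F k b) :
    (((rho F k b c ε : OM F k b c) : GL (MI k b) F) : Matrix (MI k b) (MI k b) F) *ᵥ
      (phi F k b z) =
    phi F k b (z.1, fun l => ((ε l : ℤ) : F) * z.2 l) :=
  rhoG_mulVec F k b ε z

theorem rho_comm (ε : Fin b → ℤˣ) (f : Fin k → O2 F) (t : Perm (Fin k)) :
    ((WO F k b c).β f * (WO F k b c).π t) * rho F k b c ε =
      rho F k b c ε * ((WO F k b c).β f * (WO F k b c).π t) := by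
  apply Subtype.ext
  show ((WG F k b).β f * (WG F k b).π t) * rhoG F k b ε =
    rhoG F k b ε * ((WG F k b).β f * (WG F k b).π t)
  have h1 : (WG F k b).β f * (WG F k b).π t =
      e1 F k b ((sideL F (Fin 2 → F) F k b).β (fun i => o2Hom F (f i)) *
        (sideL F (Fin 2 → F) F k b).π t) := by
    rw [map_mul]
    rfl
  have h2 : rhoG F k b ε =
      e1 F k b ((sideR F (Fin 2 → F) F k b).β (fun l => sgnHom F (ε l)) *
        (sideR F (Fin 2 → F) F k b).π 1) := by
    rw [map_one, mul_one]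
    rfl
  rw [h1, h2, ← map_mul, ← map_mul, side_comm]

theorem rho_disjoint (ε : Fin b → ℤˣ) (f : Fin k → O2 F) (t : Perm (Fin k))
    (h : (WO F k b c).β f * (WO F k b c).π t = rho F k b c ε) :
    (WO F k b c).β f * (WO F k b c).π t = 1 := by
  have h' : (WG F k b).β f * (WG F k b).π t = rhoG F k b ε := congrArg Subtype.val h
  apply Subtype.ext
  show (WG F k b).β f * (WG F k b).π t = 1
  have h1 : (WG F k b).β f * (WG F k b).π t =
      e1 F k b ((sideL F (Fin 2 → F) F k b).β (fun i => o2Hom F (f i)) *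
        (sideL F (Fin 2 → F) F k b).π t) := by
    rw [map_mul]
    rfl
  have h2 : rhoG F k b ε =
      e1 F k b ((sideR F (Fin 2 → F) F k b).β (fun l => sgnHom F (ε l)) *
        (sideR F (Fin 2 → F) F k b).π 1) := by
    rw [map_one, mul_one]
    rfl
  rw [h1, h2] at h'
  rw [h1, side_disjoint F (Fin 2 → F) F k b _ _ _ _ ((e1 F k b).injective h'), map_one]

theorem rho_injective (h2 : (2 : F) ≠ 0) : Function.Injective (rho F k b c) := by
  rw [injective_iff_map_eq_one]
  intro ε h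
  have h' : rhoG F k b ε = 1 := congrArg Subtype.val h
  have h3 : rhoG F k b ε =
      e1 F k b ((sideR F (Fin 2 → F) F k b).β (fun l => sgnHom F (ε l)) *
        (sideR F (Fin 2 → F) F k b).π 1) := by
    rw [map_one, mul_one]
    rfl
  rw [h3] at h'
  have h4 := (sideR F (Fin 2 → F) F k b).inj _ _
    ((e1 F k b).injective (h'.trans (map_one _).symm))
  funext l
  apply sgnHom_injective F h2
  show sgnHom F (ε l) = sgnHom F 1
  rw [map_one]
  exact congrFun h4.1 l

end Cfsg.Agent.Lib.Helper5.OmSyl
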