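import Mathlib
import Cfsg.Agent.Lib.Helper5.OmSyl4
import Cfsg.Agent.Lib.Helper2.Spinor3

set_option autoImplicit false

namespace Cfsg.Agent.Lib.Helper5.OmSyl

open Matrix Equiv Cfsg.Agent.Lib.Helper5.WrP Cfsg.Agent.Lib.Helper5.WrH
open Cfsg.Agent.Lib.Helper2.CDG Cfsg.Agent.Lib.Helper2.Spinor

variable (F : Type*) [Field F] (k b : ℕ) (c : Fin b → F)

/-- the bilinear form of the model on the product space -/
def BM (w z : MS F k b) : F :=
  ∑ i, (w.1 i 0 * z.1 i 0 + w.1 i 1 * z.1 i 1) + ∑ l, c l * (w.2 l * z.2 l)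

theorem polar_q2 (v y : Fin 2 → F) :
    QuadraticMap.polar (⇑(q2 F)) v y = 2 * (v 0 * y 0 + v 1 * y 1) := by
  unfold QuadraticMap.polar
  rw [q2_apply, q2_apply, q2_apply, Pi.add_apply, Pi.add_apply]
  ring

theorem polar_Qm_phi (w z : MS F k b) :
    QuadraticMap.polar (⇑(Qm F k b c)) (phi F k b w) (phi F k b z) = 2 * BM F k b c w z := by
  unfold QuadraticMap.polar
  rw [← map_add, Qm_phi, Qm_phi, Qm_phi]
  unfold QM BM
  have h1 : ∑ i, q2 F ((w + z).1 i) = ∑ i, q2 F (w.1 i) + ∑ i, q2 F (z.1 i) +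
      2 * ∑ i, (w.1 i 0 * z.1 i 0 + w.1 i 1 * z.1 i 1) := by
    rw [Finset.mul_sum, ← Finset.sum_add_distrib, ← Finset.sum_add_distrib]
    apply Finset.sum_congr rfl
    intro i _
    rw [q2_apply, q2_apply, q2_apply]
    show (w.1 i 0 + z.1 i 0) * (w.1 i 0 + z.1 i 0) + (w.1 i 1 + z.1 i 1) * (w.1 i 1 + z.1 i 1) = _
    ring
  have h2 : ∑ l, c l * ((w + z).2 l * (w + z).2 l) = ∑ l, c l * (w.2 l * w.2 l) +
      ∑ l, c l * (z.2 l * z.2 l) + 2 * ∑ l, c l * (w.2 l * z.2 l) := by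
    rw [Finset.mul_sum, ← Finset.sum_add_distrib, ← Finset.sum_add_distrib]
    apply Finset.sum_congr rfl
    intro l _
    show c l * ((w.2 l + z.2 l) * (w.2 l + z.2 l)) = _
    ring
  rw [h1, h2]
  ring

variable {F k b c}

/-- the action of a reflection of the model on the product space -/
theorem refl_phi (w : MS F k b) (hw : Qm F k b c (phi F k b w) ≠ 0) (z : MS F k b) :
    ((refl (Qm F k b c) (phi F k b w) hw : GL (MI k b) F) : Matrix (MI k b) (MI k b) F) *ᵥ
      (phi F k b z) =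
    phi F k b (z - ((QM F k b c w)⁻¹ * (2 * BM F k b c w z)) • w) := by
  rw [refl_mulVec, polar_Qm_phi, Qm_phi, map_sub, map_smul]

/-- an isometry acting as a reflection is that reflection -/
theorem eq_refl_of_phi (g : OM F k b c) (w : MS F k b) (hw : Qm F k b c (phi F k b w) ≠ 0)
    (h : ∀ z, ((g : GL (MI k b) F) : Matrix (MI k b) (MI k b) F) *ᵥ (phi F k b z) =
      phi F k b (z - ((QM F k b c w)⁻¹ * (2 * BM F k b c w z)) • w)) :
    g = refl (Qm F k b c) (phi F k b w) hw := by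
  apply iso_ext
  intro x
  obtain ⟨z, rfl⟩ := (phi F k b).surjective x
  rw [h, refl_phi]

theorem q2_zero' : q2 F (0 : Fin 2 → F) = 0 := map_zero _

theorem QM_single (i : Fin k) (v : Fin 2 → F) :
    QM F k b c (Pi.single i v, 0) = q2 F v := by
  unfold QM
  have h1 : ∑ i', q2 F ((Pi.single i v : Fin k → Fin 2 → F) i') = q2 F v := by
    rw [Finset.sum_eq_single i]
    · rw [Pi.single_eq_same]
    · intro i' _ hi'
      rw [Pi.single_eq_of_ne hi']
      exact map_zero _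
    · intro h
      exact absurd (Finset.mem_univ i) h
  show ∑ i', q2 F ((Pi.single i v : Fin k → Fin 2 → F) i') +
    ∑ l, c l * ((0 : Fin b → F) l * (0 : Fin b → F) l) = _
  rw [h1]
  simp

theorem BM_single (i : Fin k) (v : Fin 2 → F) (z : MS F k b) :
    BM F k b c (Pi.single i v, 0) z = v 0 * z.1 i 0 + v 1 * z.1 i 1 := by
  unfold BM
  have h1 : ∑ i', ((Pi.single i v : Fin k → Fin 2 → F) i' 0 * z.1 i' 0 +
      (Pi.single i v : Fin k → Fin 2 → F) i' 1 * z.1 i' 1) = v 0 * z.1 i 0 + v 1 * z.1 i 1 := by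
    rw [Finset.sum_eq_single i]
    · rw [Pi.single_eq_same]
    · intro i' _ hi'
      rw [Pi.single_eq_of_ne hi']
      simp
    · intro h
      exact absurd (Finset.mem_univ i) h
  show ∑ i', ((Pi.single i v : Fin k → Fin 2 → F) i' 0 * z.1 i' 0 +
      (Pi.single i v : Fin k → Fin 2 → F) i' 1 * z.1 i' 1) +
    ∑ l, c l * ((0 : Fin b → F) l * z.2 l) = _
  rw [h1]
  simp

theorem QM_rest (l : Fin b) : QM F k b c (0, Pi.single l 1) = c l := by
  unfold QM
  show ∑ i', q2 F ((0 : Fin k → Fin 2 → F) i') +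
    ∑ l', c l' * ((Pi.single l (1 : F) : Fin b → F) l' * (Pi.single l (1 : F) : Fin b → F) l') = _
  have h1 : ∑ i' : Fin k, q2 F ((0 : Fin k → Fin 2 → F) i') = 0 := by
    apply Finset.sum_eq_zero
    intro i' _
    exact map_zero _
  rw [h1, zero_add, Finset.sum_eq_single l]
  · rw [Pi.single_eq_same, mul_one, mul_one]
  · intro l' _ hl'
    rw [Pi.single_eq_of_ne hl', mul_zero, mul_zero]
  · intro h
    exact absurd (Finset.mem_univ l) h

theorem BM_rest (l : Fin b) (z : MS F k b) :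
    BM F k b c (0, Pi.single l 1) z = c l * z.2 l := by
  unfold BM
  show ∑ i', ((0 : Fin k → Fin 2 → F) i' 0 * z.1 i' 0 + (0 : Fin k → Fin 2 → F) i' 1 * z.1 i' 1) +
    ∑ l', c l' * ((Pi.single l (1 : F) : Fin b → F) l' * z.2 l') = _
  have h1 : ∑ i' : Fin k, ((0 : Fin k → Fin 2 → F) i' 0 * z.1 i' 0 +
      (0 : Fin k → Fin 2 → F) i' 1 * z.1 i' 1) = 0 := by
    apply Finset.sum_eq_zero
    intro i' _
    simp
  rw [h1, zero_add, Finset.sum_eq_single l]
  · rw [Pi.single_eq_same, one_mul]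
  · intro l' _ hl'
    rw [Pi.single_eq_of_ne hl', zero_mul, mul_zero]
  · intro h
    exact absurd (Finset.mem_univ l) h

end Cfsg.Agent.Lib.Helper5.OmSyl
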