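import Mathlib
import Cfsg.Agent.Lib.Helper5.OmSyl5

set_option autoImplicit false

namespace Cfsg.Agent.Lib.Helper5.OmSyl

open Matrix Equiv Cfsg.Agent.Lib.Helper5.WrP Cfsg.Agent.Lib.Helper5.WrH
open Cfsg.Agent.Lib.Helper2.CDG Cfsg.Agent.Lib.Helper2.Spinor

variable {F : Type*} [Field F] {k b : ℕ} {c : Fin b → F}

theorem BM_sub_left (w₁ w₂ z : MS F k b) :
    BM F k b c (w₁ - w₂) z = BM F k b c w₁ z - BM F k b c w₂ z := by
  unfold BM
  have h1 : ∑ i, ((w₁ - w₂).1 i 0 * z.1 i 0 + (w₁ - w₂).1 i 1 * z.1 i 1) =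
      ∑ i, (w₁.1 i 0 * z.1 i 0 + w₁.1 i 1 * z.1 i 1) -
        ∑ i, (w₂.1 i 0 * z.1 i 0 + w₂.1 i 1 * z.1 i 1) := by
    rw [← Finset.sum_sub_distrib]
    apply Finset.sum_congr rfl
    intro i _
    show (w₁.1 i 0 - w₂.1 i 0) * z.1 i 0 + (w₁.1 i 1 - w₂.1 i 1) * z.1 i 1 = _
    ring
  have h2 : ∑ l, c l * ((w₁ - w₂).2 l * z.2 l) =
      ∑ l, c l * (w₁.2 l * z.2 l) - ∑ l, c l * (w₂.2 l * z.2 l) := by
    rw [← Finset.sum_sub_distrib]
    apply Finset.sum_congr rfl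
    intro l _
    show c l * ((w₁.2 l - w₂.2 l) * z.2 l) = _
    ring
  rw [h1, h2]
  ring

theorem QM_sub (w₁ w₂ : MS F k b) :
    QM F k b c (w₁ - w₂) = QM F k b c w₁ + QM F k b c w₂ - 2 * BM F k b c w₁ w₂ := by
  have h := polar_Qm_phi F k b c w₁ (-w₂)
  unfold QuadraticMap.polar at h
  rw [← map_add, Qm_phi, Qm_phi, Qm_phi] at h
  have h3 : QM F k b c (-w₂) = QM F k b c w₂ := by
    rw [← Qm_phi, ← Qm_phi, map_neg, QuadraticMap.map_neg]
  have h4 : BM F k b c w₁ (-w₂) = - BM F k b c w₁ w₂ := by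
    unfold BM
    have e1 : ∑ i, (w₁.1 i 0 * (-w₂).1 i 0 + w₁.1 i 1 * (-w₂).1 i 1) =
        - ∑ i, (w₁.1 i 0 * w₂.1 i 0 + w₁.1 i 1 * w₂.1 i 1) := by
      rw [← Finset.sum_neg_distrib]
      apply Finset.sum_congr rfl
      intro i _
      show w₁.1 i 0 * (-(w₂.1 i 0)) + w₁.1 i 1 * (-(w₂.1 i 1)) = _
      ring
    have e2 : ∑ l, c l * (w₁.2 l * (-w₂).2 l) = - ∑ l, c l * (w₁.2 l * w₂.2 l) := by
      rw [← Finset.sum_neg_distrib]
      apply Finset.sum_congr rfl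
      intro l _
      show c l * (w₁.2 l * (-(w₂.2 l))) = _
      ring
    rw [e1, e2]
    ring
  rw [h3, h4, ← sub_eq_add_neg] at h
  linear_combination h

theorem single_single (i i' : Fin k) (j₀ jj : Fin 2) :
    (Pi.single i (Pi.single j₀ (1 : F)) : Fin k → Fin 2 → F) i' jj =
      if i' = i ∧ jj = j₀ then 1 else 0 := by
  by_cases h1 : i' = i
  · subst h1
    rw [Pi.single_eq_same]
    by_cases h2 : jj = j₀
    · subst h2
      rw [Pi.single_eq_same, if_pos ⟨rfl, rfl⟩]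
    · rw [Pi.single_eq_of_ne h2, if_neg (fun h => h2 h.2)]
  · rw [Pi.single_eq_of_ne h1, if_neg (fun h => h1 h.1)]
    rfl

theorem q2_single (j₀ : Fin 2) : q2 F (Pi.single j₀ (1 : F)) = 1 := by
  rw [q2_apply]
  fin_cases j₀ <;> simp

/-- the vector of the reflection swapping one coordinate of two planes -/
def wsw (i j : Fin k) (j₀ : Fin 2) : MS F k b :=
  ((Pi.single i (Pi.single j₀ (1 : F)) : Fin k → Fin 2 → F), (0 : Fin b → F)) -
    ((Pi.single j (Pi.single j₀ (1 : F)) : Fin k → Fin 2 → F), (0 : Fin b → F))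

theorem wsw_fst (i j : Fin k) (j₀ : Fin 2) (i' : Fin k) (jj : Fin 2) :
    (wsw (F := F) (b := b) i j j₀).1 i' jj =
      (if i' = i ∧ jj = j₀ then 1 else 0) - (if i' = j ∧ jj = j₀ then 1 else 0) := by
  rw [← single_single, ← single_single]
  rfl

theorem wsw_snd (i j : Fin k) (j₀ : Fin 2) : (wsw (F := F) (b := b) i j j₀).2 = 0 := by
  show (0 : Fin b → F) - 0 = 0
  rw [sub_zero]

theorem QM_wsw {i j : Fin k} (hij : i ≠ j) (j₀ : Fin 2) :
    QM F k b c (wsw i j j₀) = 2 := by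
  unfold wsw
  rw [QM_sub, QM_single, QM_single, q2_single, BM_single]
  have h : ((Pi.single j (Pi.single j₀ (1 : F)) : Fin k → Fin 2 → F), (0 : Fin b → F)).1 i = 0 :=
    Pi.single_eq_of_ne hij _
  rw [h]
  simp only [Pi.zero_apply, mul_zero, add_zero]
  norm_num

theorem BM_wsw (i j : Fin k) (j₀ : Fin 2) (z : MS F k b) :
    BM F k b c (wsw i j j₀) z = z.1 i j₀ - z.1 j j₀ := by
  unfold wsw
  rw [BM_sub_left, BM_single, BM_single]
  fin_cases j₀ <;> simp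

theorem Qm_wsw_ne (h2 : (2 : F) ≠ 0) {i j : Fin k} (hij : i ≠ j) (j₀ : Fin 2) :
    Qm F k b c (phi F k b (wsw i j j₀)) ≠ 0 := by
  rw [Qm_phi, QM_wsw hij]
  exact h2

theorem swap_refl_act (h2 : (2 : F) ≠ 0) {i j : Fin k} (hij : i ≠ j) (j₀ : Fin 2)
    (z : MS F k b) :
    ((refl (Qm F k b c) (phi F k b (wsw i j j₀)) (Qm_wsw_ne h2 hij j₀) : GL (MI k b) F) :
      Matrix (MI k b) (MI k b) F) *ᵥ (phi F k b z) =
    phi F k b (fun i' jj => if jj = j₀ then z.1 (swap i j i') jj else z.1 i' jj, z.2) := by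
  rw [refl_phi, QM_wsw hij, BM_wsw]
  have hcoef : (2 : F)⁻¹ * (2 * (z.1 i j₀ - z.1 j j₀)) = z.1 i j₀ - z.1 j j₀ := by
    field_simp
  rw [hcoef]
  congr 1
  apply Prod.ext
  · funext i' jj
    show z.1 i' jj - (z.1 i j₀ - z.1 j j₀) * (wsw (F := F) (b := b) i j j₀).1 i' jj =
      (if jj = j₀ then z.1 (swap i j i') jj else z.1 i' jj)
    rw [wsw_fst]
    by_cases hjj : jj = j₀
    · subst hjj
      rw [if_pos rfl]
      by_cases h1 : i' = i
      · subst h1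
        rw [swap_apply_left, if_pos ⟨rfl, rfl⟩, if_neg (fun h => hij h.1)]
        ring
      · by_cases h3 : i' = j
        · subst h3
          rw [swap_apply_right, if_neg (fun h => h1 h.1), if_pos ⟨rfl, rfl⟩]
          ring
        · rw [swap_apply_of_ne_of_ne h1 h3, if_neg (fun h => h1 h.1), if_neg (fun h => h3 h.1)]
          ring
    · rw [if_neg hjj, if_neg (fun h => hjj h.2), if_neg (fun h => hjj h.2)]
      ring
  · show z.2 - (z.1 i j₀ - z.1 j j₀) • (wsw (F := F) (b := b) i j j₀).2 = z.2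
    rw [wsw_snd, smul_zero, sub_zero]

/-- a block transposition is a product of two reflections -/
theorem pi_swap (h2 : (2 : F) ≠ 0) {i j : Fin k} (hij : i ≠ j) :
    (WO F k b c).π (swap i j) =
      refl (Qm F k b c) (phi F k b (wsw i j 0)) (Qm_wsw_ne h2 hij 0) *
        refl (Qm F k b c) (phi F k b (wsw i j 1)) (Qm_wsw_ne h2 hij 1) := by
  apply iso_ext
  intro x
  obtain ⟨z, rfl⟩ := (phi F k b).surjective x
  rw [mul_mulVec, swap_refl_act h2 hij 1, swap_refl_act h2 hij 0]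
  have h := WO_mulVec F k b c 1 (swap i j) z
  rw [map_one, one_mul] at h
  rw [h]
  congr 1
  apply Prod.ext
  · funext i' jj
    show ((((1 : Fin k → O2 F) i' : GL (Fin 2) F) : Matrix (Fin 2) (Fin 2) F) *ᵥ
      z.1 ((swap i j)⁻¹ i')) jj = _
    rw [swap_inv]
    show ((1 : Matrix (Fin 2) (Fin 2) F) *ᵥ z.1 (swap i j i')) jj = _
    rw [Matrix.one_mulVec]
    fin_cases jj
    · simp
    · simp
  · rfl

theorem ab_pi (h2 : (2 : F) ≠ 0) (t : Perm (Fin k)) :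
    Abelianization.of ((WO F k b c).π t) = 1 := by
  induction t using Equiv.Perm.swap_induction_on with
  | one => rw [map_one, map_one]
  | swap_mul f x y hxy ih =>
    rw [map_mul, map_mul, ih, mul_one, pi_swap h2 hxy, map_mul]
    have h := ab_refl_eq h2 (phi F k b (wsw (F := F) (b := b) x y 0)) (phi F k b (wsw x y 1))
      (Qm_wsw_ne (c := c) h2 hxy 0) (Qm_wsw_ne h2 hxy 1)
      (by rw [Qm_phi, Qm_phi, QM_wsw hxy, QM_wsw hxy])
    rw [h, ← map_mul, Cfsg.Agent.Lib.Helper2.CDG.refl_mul_self, map_one]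

end Cfsg.Agent.Lib.Helper5.OmSyl
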