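import Mathlib
import Cfsg.Agent.Lib.Helper5.OmSyl6

set_option autoImplicit false

namespace Cfsg.Agent.Lib.Helper5.OmSyl

open Matrix Equiv Cfsg.Agent.Lib.Helper5.WrP Cfsg.Agent.Lib.Helper5.WrH
open Cfsg.Agent.Lib.Helper2.CDG Cfsg.Agent.Lib.Helper2.Spinor

variable {F : Type*} [Field F] {k b : ℕ} {c : Fin b → F}

theorem Qm_single_ne (i : Fin k) (v : Fin 2 → F) (hv : q2 F v ≠ 0) :
    Qm F k b c (phi F k b (Pi.single i v, 0)) ≠ 0 := by
  rw [Qm_phi, QM_single]
  exact hv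

/-- a reflection of a plane, embedded in the model, is a reflection -/
theorem beta_single_refl (i : Fin k) (v : Fin 2 → F) (hv : q2 F v ≠ 0) :
    (WO F k b c).β (Pi.mulSingle i (Cfsg.Agent.Lib.Helper2.CDG.refl (q2 F) v hv)) =
      Cfsg.Agent.Lib.Helper2.CDG.refl (Qm F k b c) (phi F k b (Pi.single i v, 0))
        (Qm_single_ne i v hv) := by
  apply eq_refl_of_phi
  intro z
  have h := WO_mulVec F k b c (Pi.mulSingle i (Cfsg.Agent.Lib.Helper2.CDG.refl (q2 F) v hv)) 1 z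
  rw [map_one, mul_one] at h
  rw [h, QM_single, BM_single]
  congr 1
  apply Prod.ext
  · funext i'
    show (((Pi.mulSingle i (Cfsg.Agent.Lib.Helper2.CDG.refl (q2 F) v hv) : Fin k → O2 F) i' :
      GL (Fin 2) F) : Matrix (Fin 2) (Fin 2) F) *ᵥ z.1 i' =
      z.1 i' - ((q2 F v)⁻¹ * (2 * (v 0 * z.1 i 0 + v 1 * z.1 i 1))) •
        (Pi.single i v : Fin k → Fin 2 → F) i'
    by_cases hi : i' = i
    · subst hi
      rw [Pi.mulSingle_eq_same, Pi.single_eq_same, refl_mulVec, polar_q2]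
    · rw [Pi.mulSingle_eq_of_ne hi, Pi.single_eq_of_ne hi, smul_zero, sub_zero]
      exact Matrix.one_mulVec _
  · show z.2 = z.2 - ((q2 F v)⁻¹ * (2 * (v 0 * z.1 i 0 + v 1 * z.1 i 1))) • (0 : Fin b → F)
    rw [smul_zero, sub_zero]

theorem Qm_rest_ne (hc : ∀ l, c l ≠ 0) (l : Fin b) :
    Qm F k b c (phi F k b (0, Pi.single l 1)) ≠ 0 := by
  rw [Qm_phi, QM_rest]
  exact hc l

/-- a sign change of one of the remaining coordinates is a reflection -/
theorem rho_single (hc : ∀ l, c l ≠ 0) (l : Fin b) :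
    rho F k b c (Pi.mulSingle l (-1)) =
      Cfsg.Agent.Lib.Helper2.CDG.refl (Qm F k b c) (phi F k b (0, Pi.single l 1))
        (Qm_rest_ne hc l) := by
  apply eq_refl_of_phi
  intro z
  rw [rho_mulVec, QM_rest, BM_rest]
  have hcoef : (c l)⁻¹ * (2 * (c l * z.2 l)) = 2 * z.2 l := by
    have := hc l
    field_simp
  rw [hcoef]
  congr 1
  apply Prod.ext
  · show z.1 = z.1 - (2 * z.2 l) • (0 : Fin k → Fin 2 → F)
    rw [smul_zero, sub_zero]
  · funext l'
    show (((Pi.mulSingle l (-1) : Fin b → ℤˣ) l' : ℤ) : F) * z.2 l' =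
      z.2 l' - (2 * z.2 l) * (Pi.single l (1 : F) : Fin b → F) l'
    by_cases hl : l' = l
    · subst hl
      rw [Pi.mulSingle_eq_same, Pi.single_eq_same]
      simp only [Units.val_neg, Units.val_one, Int.cast_neg, Int.cast_one]
      ring
    · rw [Pi.mulSingle_eq_of_ne hl, Pi.single_eq_of_ne hl]
      simp

/-- a reflection of a plane and a sign change with proportional norms agree modulo commutators -/
theorem ab_partner (h2 : (2 : F) ≠ 0) (hc : ∀ l, c l ≠ 0) (i : Fin k) (v : Fin 2 → F)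
    (hv : q2 F v ≠ 0) (l : Fin b) (t : F) (ht : q2 F v = t * t * c l) :
    Abelianization.of
      ((WO F k b c).β (Pi.mulSingle i (Cfsg.Agent.Lib.Helper2.CDG.refl (q2 F) v hv))) *
      Abelianization.of (rho F k b c (Pi.mulSingle l (-1))) = 1 := by
  rw [beta_single_refl, rho_single hc]
  have h := ab_refl_eq' h2 (phi F k b (Pi.single i v, (0 : Fin b → F))) (phi F k b (0, Pi.single l 1))
    (Qm_single_ne (c := c) i v hv) (Qm_rest_ne hc l) t
    (by rw [Qm_phi, Qm_phi, QM_single, QM_rest]; exact ht)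
  rw [h, ← map_mul, Cfsg.Agent.Lib.Helper2.CDG.refl_mul_self, map_one]

end Cfsg.Agent.Lib.Helper5.OmSyl
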