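import Cfsg.Agent.Lib.Helper5.Chain1

set_option autoImplicit false

/-! # Permutation models: new letters given by a straight line program

The letters of a model are replaced by a list of letters each defined by a word in the earlier
letters (the first ones being the old letters), with tables of their actions; the group stays the
same. -/

namespace Cfsg.Agent.Lib.Helper5.Chain

open Cfsg.Agent.Lib.Helper6.TC Cfsg.Agent.Lib.Helper6.PM Cfsg.Agent.Lib.Helper2.PMS

section relabel

variable (M : PModel) (ws : List (List ℕ)) (pm : ℕ → ℕ → ℕ)

/-- the model with the same group, the letters being the elements of the words `ws` -/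
noncomputable def relabel (hT : TabFacts M ws pm)
    (hgen : ∀ c < M.nl, ∃ i < ws.length, ws.getD i [] = [c]) : PModel where
  G := M.G
  n := M.n
  nl := ws.length
  px := pm
  elt := fun w => M.elt (expand ws w)
  phi := M.phi
  elt_nil := by rw [expand_nil, M.elt_nil]
  elt_append := fun u v => by rw [expand_append, M.elt_append]
  px_lt := fun c hc q hq => pm_lt M ws pm hT c hc q hq
  phi_inv_val := by
    intro w hw p
    rw [M.phi_inv_val _ (expand_lt ws M.nl hT.1 w)]
    exact (wapp_expand M ws pm hT w hw p.val p.isLt).1
  phi_injective := M.phi_injective
  closure_letters := by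
    rw [eq_top_iff, ← M.closure_letters]
    apply Subgroup.closure_mono
    rintro g ⟨c, hc, rfl⟩
    obtain ⟨i, hi, e⟩ := hgen c hc
    refine ⟨i, hi, ?_⟩
    rw [expand_cons, expand_nil, List.append_nil, e]

end relabel

/-- the expansions of the letters of a straight line program -/
def slpAux (E : List (List ℕ)) : List (List ℕ) → List (List ℕ)
  | [] => E
  | d :: ds => slpAux (E ++ [expand E d]) ds

theorem length_slpAux (E : List (List ℕ)) (ds : List (List ℕ)) :
    (slpAux E ds).length = E.length + ds.length := by
  induction ds generalizing E with
  | nil => rfl
  | cons d ds ih =>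
    show (slpAux (E ++ [expand E d]) ds).length = _
    rw [ih, List.length_append, List.length_cons, List.length_cons, List.length_nil]
    omega

theorem getD_slpAux (E : List (List ℕ)) (ds : List (List ℕ)) (i : ℕ) (hi : i < E.length) :
    (slpAux E ds).getD i [] = E.getD i [] := by
  induction ds generalizing E with
  | nil => rfl
  | cons d ds ih =>
    show (slpAux (E ++ [expand E d]) ds).getD i [] = _
    rw [ih _ (by rw [List.length_append]; omega)]
    rw [List.getD_eq_getElem _ _ (by rw [List.length_append]; omega), List.getD_eq_getElem _ _ hi,
      List.getElem_append_left hi]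

theorem tabFacts_slpAux (M : PModel) (pm : ℕ → ℕ → ℕ) : ∀ (ds : List (List ℕ)) (E : List (List ℕ)),
    TabFacts M E pm → (∀ k < ds.length, ∀ c ∈ ds.getD k [], c < E.length + k) →
    (∀ k < ds.length, ∀ q < M.n, wapp pm (ds.getD k []) q = pm (E.length + k) q) →
    TabFacts M (slpAux E ds) pm
  | [], E, hT, _, _ => hT
  | d :: ds, E, hT, hl, hc => by
    show TabFacts M (slpAux (E ++ [expand E d]) ds) pm
    have hld : ∀ c ∈ d, c < E.length := by
      intro c hc'
      have := hl 0 (by simp) c (by simpa using hc')
      simpa using this
    apply tabFacts_slpAux M pm ds
    · constructor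
      · intro w hw c hcw
        rcases List.mem_append.mp hw with h1 | h1
        · exact hT.1 w h1 c hcw
        · rw [List.mem_singleton] at h1
          rw [h1] at hcw
          exact expand_lt E M.nl hT.1 d c hcw
      · intro i hi q hq
        rw [List.length_append, List.length_singleton] at hi
        by_cases hi' : i < E.length
        · rw [List.getD_eq_getElem _ _ (by rw [List.length_append]; omega),
            List.getElem_append_left hi', ← List.getD_eq_getElem _ [] hi']
          exact hT.2 i hi' q hq
        · have hie : i = E.length := by omega
          subst hie
          rw [List.getD_eq_getElem _ _ (by rw [List.length_append, List.length_singleton]; omega),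
            List.getElem_append_right (le_refl _)]
          simp only [Nat.sub_self, List.getElem_cons_zero]
          rw [(wapp_expand M E pm hT d hld q hq).1]
          have := hc 0 (by simp) q hq
          simpa using this
    · intro k hk c hck
      have := hl (k + 1) (by simpa using hk) c (by simpa using hck)
      rw [List.length_append, List.length_singleton]
      omega
    · intro k hk q hq
      have := hc (k + 1) (by simpa using hk) q hq
      rw [List.length_append, List.length_singleton]
      have e : E.length + 1 + k = E.length + (k + 1) := by omega
      rw [e]
      simpa using this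

/-- the check of a straight line program with tables -/
noncomputable def chkSLP (px : ℕ → ℕ → ℕ) (n nl : ℕ) (ds : List (List ℕ)) (pm : ℕ → ℕ → ℕ) : Bool :=
  ((List.range nl).all fun c => (List.range n).all fun q => pm c q == px c q) &&
  ((List.range ds.length).all fun k =>
    ((ds.getD k []).all fun c => decide (c < nl + k)) &&
    ((List.range n).all fun q => wappS pm (ds.getD k []) q == pm (nl + k) q))

section slp

variable (M : PModel) (ds : List (List ℕ)) (pm : ℕ → ℕ → ℕ)

/-- the expansions of all letters -/
def slpE : List (List ℕ) := slpAux ((List.range M.nl).map fun c => [c]) ds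

theorem tabFacts_slp (h : chkSLP M.px M.n M.nl ds pm = true) : TabFacts M (slpE M ds) pm := by
  unfold chkSLP at h
  simp only [Bool.and_eq_true, List.all_eq_true, List.mem_range, beq_iff_eq, decide_eq_true_eq,
    wappS_eq] at h
  obtain ⟨h1, h2⟩ := h
  apply tabFacts_slpAux M pm ds
  · constructor
    · intro w hw c hc
      rw [List.mem_map] at hw
      obtain ⟨c', hc', rfl⟩ := hw
      rw [List.mem_singleton] at hc
      rw [hc]
      exact List.mem_range.mp hc'
    · intro i hi q hq
      rw [List.length_map, List.length_range] at hi
      rw [List.getD_eq_getElem _ _ (by rw [List.length_map, List.length_range]; exact hi)]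
      simp only [List.getElem_map, List.getElem_range]
      rw [wapp_cons, wapp_nil]
      exact (h1 i hi q hq).symm
  · intro k hk c hc
    rw [List.length_map, List.length_range]
    exact (h2 k hk).1 c hc
  · intro k hk q hq
    rw [List.length_map, List.length_range]
    exact (h2 k hk).2 q hq

theorem slpE_gen (c : ℕ) (hc : c < M.nl) :
    ∃ i < (slpE M ds).length, (slpE M ds).getD i [] = [c] := by
  refine ⟨c, ?_, ?_⟩
  · unfold slpE
    rw [length_slpAux, List.length_map, List.length_range]
    omega
  · unfold slpE
    rw [getD_slpAux _ _ _ (by rw [List.length_map, List.length_range]; exact hc)]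
    rw [List.getD_eq_getElem _ _ (by rw [List.length_map, List.length_range]; exact hc)]
    simp

/-- the model with the letters of a straight line program -/
noncomputable def slpModel (h : chkSLP M.px M.n M.nl ds pm = true) : PModel :=
  relabel M (slpE M ds) pm (tabFacts_slp M ds pm h) (slpE_gen M ds)

theorem slpModel_nl (h : chkSLP M.px M.n M.nl ds pm = true) :
    (slpModel M ds pm h).nl = M.nl + ds.length := by
  show (slpE M ds).length = _
  unfold slpE
  rw [length_slpAux, List.length_map, List.length_range]

end slp

end Cfsg.Agent.Lib.Helper5.Chain
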