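import Cfsg.Agent.Lib.Helper2.WG.Defs3

/-!
S2524 PK-R2 : coordinates on the Siegel radical `Q = Z × Y × Q'` of `Sp (m+1)`.
-/

set_option autoImplicit false

namespace Cfsg.Agent.Lib.Helper2.WG

open Matrix Cfsg Cfsg.Agent.H9SpF Cfsg.Agent.Lib.Helper6.Siegel Cfsg.Agent.Lib.Helper1.SUMin
open scoped ComplexConjugate

universe u

variable {F : Type u} [Field F] [Fintype F]

variable {m : ℕ}

namespace PkR2

theorem bsym_add (s t : F) (v y : Fin m → F) (A B : Matrix (Fin m) (Fin m) F) :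
    bsym s v A + bsym t y B = bsym (s + t) (v + y) (A + B) := by
  ext i j
  refine Fin.cases ?_ (fun i' => ?_) i <;> refine Fin.cases ?_ (fun j' => ?_) j <;> simp

theorem bsym_zero : bsym (0 : F) (0 : Fin m → F) (0 : Matrix (Fin m) (Fin m) F) = 0 := by
  ext i j
  refine Fin.cases ?_ (fun i' => ?_) i <;> refine Fin.cases ?_ (fun j' => ?_) j <;> simp

theorem bsym_neg (s : F) (v : Fin m → F) (A : Matrix (Fin m) (Fin m) F) :
    -bsym s v A = bsym (-s) (-v) (-A) := by
  ext i j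
  refine Fin.cases ?_ (fun i' => ?_) i <;> refine Fin.cases ?_ (fun j' => ?_) j <;> simp

theorem qE_eq (s : F) (v : Fin m → F) (S' : symAdd m F) :
    qE s v S' = siegHom ⟨bsym s v S'.1, bsym_isSymm s v (mem_symAdd.1 S'.2)⟩ := rfl

end PkR2

open PkR2

theorem qE_mul (s t : F) (v y : Fin m → F) (S' T' : symAdd m F) :
    qE s v S' * qE t y T' = qE (s + t) (v + y) (S' + T') := by
  rw [qE_eq, qE_eq, qE_eq, ← siegHom_add]
  congr 1
  apply Subtype.ext
  show bsym s v S'.1 + bsym t y T'.1 = bsym (s + t) (v + y) (S'.1 + T'.1)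
  exact bsym_add _ _ _ _ _ _

theorem qE_zero : qE (0 : F) (0 : Fin m → F) 0 = 1 := by
  rw [qE_eq]
  have h : (⟨bsym (0 : F) (0 : Fin m → F) (0 : symAdd m F).1,
      bsym_isSymm 0 0 (mem_symAdd.1 (0 : symAdd m F).2)⟩ : symAdd (m + 1) F) = 0 := by
    apply Subtype.ext
    show bsym (0 : F) (0 : Fin m → F) (0 : Matrix (Fin m) (Fin m) F) = 0
    exact bsym_zero
  rw [h]
  apply Subtype.ext
  show siegM (0 : Matrix (Fin (m + 1)) (Fin (m + 1)) F) = 1
  exact siegM_zero

theorem qE_inv (s : F) (v : Fin m → F) (S' : symAdd m F) : (qE s v S')⁻¹ = qE (-s) (-v) (-S') := by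
  rw [inv_eq_iff_mul_eq_one, qE_mul]
  have h1 : s + -s = 0 := add_neg_cancel s
  have h2 : v + -v = 0 := add_neg_cancel v
  have h3 : S' + -S' = 0 := add_neg_cancel S'
  rw [h1, h2, h3, qE_zero]

/-- every symmetric matrix of size `m+1` is a `bsym` -/
def bsymEquiv : F × (Fin m → F) × symAdd m F ≃ symAdd (m + 1) F where
  toFun p := ⟨bsym p.1 p.2.1 p.2.2.1, bsym_isSymm _ _ (mem_symAdd.1 p.2.2.2)⟩
  invFun S := ⟨S.1 0 0, fun j => S.1 0 j.succ,
    ⟨Matrix.of fun i j => S.1 i.succ j.succ, by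
      rw [mem_symAdd]; ext i j; exact (mem_symAdd.1 S.2).apply _ _⟩⟩
  left_inv p := by
    obtain ⟨s, v, S', hS'⟩ := p
    rfl
  right_inv S := by
    apply Subtype.ext
    ext i j
    refine Fin.cases ?_ (fun i' => ?_) i <;> refine Fin.cases ?_ (fun j' => ?_) j <;> simp
    exact (mem_symAdd.1 S.2).apply _ _

theorem siegHom_bsymEquiv (s : F) (v : Fin m → F) (S' : symAdd m F) :
    siegHom (bsymEquiv (s, v, S')) = qE s v S' := rfl

theorem trPair_bsym (s t : F) (v y : Fin m → F) (M' : Matrix (Fin m) (Fin m) F) (S' : symAdd m F) :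
    trPair (bsym s v M') (bsymEquiv (t, y, S')) = s * t + 2 * (v ⬝ᵥ y) + trPair M' S' := by
  rw [trPair_apply, trPair_apply]
  show Matrix.trace (bsym s v M' * bsym t y S'.1) = _
  rw [Matrix.trace, Fin.sum_univ_succ]
  simp only [Matrix.diag_apply, Matrix.mul_apply, Fin.sum_univ_succ, bsym_zero_zero,
    bsym_zero_succ, bsym_succ_zero, bsym_succ_succ]
  rw [Finset.sum_add_distrib]
  simp only [dotProduct, Matrix.trace, Matrix.diag_apply, Matrix.mul_apply]
  ring

theorem card_symAdd_succ :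
    Fintype.card (symAdd (m + 1) F) = Fintype.card F * Fintype.card F ^ m * Fintype.card (symAdd m F) := by
  rw [← Fintype.card_congr (bsymEquiv (m := m) (F := F)), Fintype.card_prod, Fintype.card_prod,
    Fintype.card_fun, Fintype.card_fin, mul_assoc]

end Cfsg.Agent.Lib.Helper2.WG
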