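import Mathlib
import Cfsg.Agent.Lib.Helper7.HkkDefs

set_option autoImplicit false

/-! # HKK package P2 (Higman's step): in a `ZMod p`-graded Lie ring (`p` prime) with trivial zero
component, derived length `s` implies class at most `∑ i < s, (p-1)^i`. -/

namespace Cfsg.Agent.Lib.Helper7.Hkk

namespace H

section basic

variable {L : Type*} [LieRing L]

theorem mem_brk {A B : AddSubgroup L} {a b : L} (ha : a ∈ A) (hb : b ∈ B) : ⁅a, b⁆ ∈ brk A B :=
  AddSubgroup.subset_closure ⟨a, ha, b, hb, rfl⟩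

theorem brk_le {A B J : AddSubgroup L} (h : ∀ a ∈ A, ∀ b ∈ B, ⁅a, b⁆ ∈ J) : brk A B ≤ J := by
  rw [brk, AddSubgroup.closure_le]
  rintro z ⟨a, ha, b, hb, rfl⟩
  exact h a ha b hb

theorem brk_mono' {A A' B B' : AddSubgroup L} (hA : A ≤ A') (hB : B ≤ B') :
    brk A B ≤ brk A' B' :=
  brk_le fun a ha b hb => mem_brk (hA ha) (hB hb)

/-- `⁅x, b⁆ ∈ J` for all `x` in the closure of `S`, if it holds for the generators. -/
theorem lie_mem_of_closure {S : Set L} {J : AddSubgroup L} {b : L}
    (h : ∀ x ∈ S, ⁅x, b⁆ ∈ J) {x : L} (hx : x ∈ AddSubgroup.closure S) : ⁅x, b⁆ ∈ J := by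
  refine AddSubgroup.closure_induction (p := fun x _ => ⁅x, b⁆ ∈ J) ?_ ?_ ?_ ?_ hx
  · intro x hx; exact h x hx
  · rw [zero_lie]; exact J.zero_mem
  · intro x y _ _ hx hy; rw [add_lie]; exact J.add_mem hx hy
  · intro x _ hx; rw [neg_lie]; exact J.neg_mem hx

/-- left-normed bracket -/
def lnb (a : L) (bs : List L) : L := bs.foldl (fun x y => ⁅x, y⁆) a

@[simp] theorem lnb_nil (a : L) : lnb a [] = a := rfl

@[simp] theorem lnb_cons (a b : L) (bs : List L) : lnb a (b :: bs) = lnb ⁅a, b⁆ bs := rfl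

theorem lnb_append (a : L) (bs cs : List L) : lnb a (bs ++ cs) = lnb (lnb a bs) cs := by
  unfold lnb; rw [List.foldl_append]

theorem lnb_zero (bs : List L) : lnb (0 : L) bs = 0 := by
  induction bs with
  | nil => rfl
  | cons b bs ih => rw [lnb_cons, zero_lie, ih]

theorem lnb_sub (a a' : L) (bs : List L) : lnb (a - a') bs = lnb a bs - lnb a' bs := by
  induction bs generalizing a a' with
  | nil => rfl
  | cons b bs ih => rw [lnb_cons, lnb_cons, lnb_cons, sub_lie, ih]

/-- iterated bracket with `R` -/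
def iter (X R : AddSubgroup L) : ℕ → AddSubgroup L
  | 0 => X
  | t + 1 => brk (iter X R t) R

theorem iter_mono {X X' : AddSubgroup L} (R : AddSubgroup L) (h : X ≤ X') (t : ℕ) :
    iter X R t ≤ iter X' R t := by
  induction t with
  | zero => exact h
  | succ t ih => exact brk_mono' ih le_rfl

theorem lcs_add (R : AddSubgroup L) (n t : ℕ) : lcs R (n + t) = iter (lcs R n) R t := by
  induction t with
  | zero => rfl
  | succ t ih =>
    show brk (lcs R (n + t)) R = brk (iter (lcs R n) R t) R
    rw [ih]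

theorem der_succ' (R : AddSubgroup L) (s : ℕ) : der R (s + 1) = der (brk R R) s := by
  induction s with
  | zero => rfl
  | succ s ih =>
    show brk (der R (s + 1)) (der R (s + 1)) = brk (der (brk R R) s) (der (brk R R) s)
    rw [ih]

/-- an ideal relative to `R` -/
def IsIdl (J R : AddSubgroup L) : Prop := brk J R ≤ J

theorem lnb_mem_of_idl {J R : AddSubgroup L} (hJ : IsIdl J R) {z : L} (hz : z ∈ J) {bs : List L}
    (hbs : ∀ b ∈ bs, b ∈ R) : lnb z bs ∈ J := by
  induction bs generalizing z with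
  | nil => exact hz
  | cons b bs ih =>
    rw [lnb_cons]
    exact ih (hJ (mem_brk hz (hbs b (List.mem_cons_self)))) fun c hc => hbs c (List.mem_cons_of_mem _ hc)

/-- `M = brk R R` is an `R`-ideal when `R` is Lie-closed -/
theorem idl_brk_self {R : AddSubgroup L} (hR : brk R R ≤ R) : IsIdl (brk R R) R :=
  brk_le fun _ hm _ hr => mem_brk (hR hm) hr

/-- the terms of the lower central series of `M = brk R R` are `R`-ideals -/
theorem idl_lcs {R : AddSubgroup L} (hR : brk R R ≤ R) (j : ℕ) : IsIdl (lcs (brk R R) j) R := by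
  induction j with
  | zero => exact idl_brk_self hR
  | succ j ih =>
    apply brk_le
    intro y hy r hr
    show ⁅y, r⁆ ∈ brk (lcs (brk R R) j) (brk R R)
    have hy' : y ∈ brk (lcs (brk R R) j) (brk R R) := hy
    rw [brk] at hy'
    refine AddSubgroup.closure_induction
      (p := fun y _ => ⁅y, r⁆ ∈ brk (lcs (brk R R) j) (brk R R)) ?_ ?_ ?_ ?_ hy'
    · rintro z ⟨x, hx, m, hm, rfl⟩
      have h1 : ⁅⁅x, m⁆, r⁆ = ⁅⁅x, r⁆, m⁆ + ⁅x, ⁅m, r⁆⁆ := by
        rw [leibniz_lie x m r]
        have : ⁅m, ⁅x, r⁆⁆ = -⁅⁅x, r⁆, m⁆ := (lie_skew _ _).symm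
        rw [this]; abel
      rw [h1]
      exact AddSubgroup.add_mem _ (mem_brk (ih (mem_brk hx hr)) hm)
        (mem_brk hx (idl_brk_self hR (mem_brk hm hr)))
    · rw [zero_lie]; exact AddSubgroup.zero_mem _
    · intro x y _ _ hx hy; rw [add_lie]; exact AddSubgroup.add_mem _ hx hy
    · intro x _ hx; rw [neg_lie]; exact AddSubgroup.neg_mem _ hx

theorem lcs_succ_le {M : AddSubgroup L} (hM : brk M M ≤ M) (j : ℕ) : lcs M (j + 1) ≤ lcs M j := by
  induction j with
  | zero => exact hM
  | succ j ih => exact brk_mono' ih le_rfl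

theorem lcs_le_self {M : AddSubgroup L} (hM : brk M M ≤ M) (j : ℕ) : lcs M j ≤ M := by
  induction j with
  | zero => exact le_rfl
  | succ j ih => exact (lcs_succ_le hM j).trans ih

/-- permuting the entries of a left-normed bracket changes it by an element of `brk X M` -/
theorem lnb_perm {R X : AddSubgroup L} (hX : IsIdl X R) (hI : IsIdl (brk X (brk R R)) R)
    {bs bs' : List L} (hp : bs.Perm bs') :
    (∀ b ∈ bs, b ∈ R) → ∀ a ∈ X, lnb a bs - lnb a bs' ∈ brk X (brk R R) := by
  induction hp with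
  | nil =>
    intro _ a _
    rw [sub_self]; exact AddSubgroup.zero_mem _
  | cons b _ ih =>
    intro hbs a ha
    rw [lnb_cons, lnb_cons]
    exact ih (fun c hc => hbs c (List.mem_cons_of_mem _ hc)) _
      (hX (mem_brk ha (hbs b List.mem_cons_self)))
  | swap b b' l =>
    intro hbs a ha
    have hb' : b' ∈ R := hbs b' List.mem_cons_self
    have hb : b ∈ R := hbs b (List.mem_cons_of_mem _ List.mem_cons_self)
    have hl : ∀ c ∈ l, c ∈ R := fun c hc =>
      hbs c (List.mem_cons_of_mem _ (List.mem_cons_of_mem _ hc))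
    rw [lnb_cons, lnb_cons, lnb_cons, lnb_cons, ← lnb_sub]
    have h1 : ⁅⁅a, b'⁆, b⁆ - ⁅⁅a, b⁆, b'⁆ = ⁅a, ⁅b', b⁆⁆ := by
      rw [leibniz_lie a b' b]
      have : ⁅b', ⁅a, b⁆⁆ = -⁅⁅a, b⁆, b'⁆ := (lie_skew _ _).symm
      rw [this]; abel
    rw [h1]
    exact lnb_mem_of_idl hI (mem_brk ha (mem_brk hb' hb)) hl
  | trans h1 _ ih1 ih2 =>
    intro hbs a ha
    have hbs2 : ∀ b ∈ _, b ∈ R := fun b hb => hbs b (h1.mem_iff.2 hb)
    have := AddSubgroup.add_mem _ (ih1 hbs a ha) (ih2 hbs2 a ha)
    rwa [sub_add_sub_cancel] at this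

end basic

section graded

variable {p : ℕ} [NeZero p] {L : Type*} [LieRing L]

/-- stable under the projections -/
def Stable (gr : PGrading p L) (R : AddSubgroup L) : Prop := ∀ j, ∀ x ∈ R, gr.π j x ∈ R

theorem hom_zero (gr : PGrading p L) {x : L} (hx : gr.π 0 x = x) : x = 0 := by
  rw [← hx]; exact gr.zero x

theorem hom_lie (gr : PGrading p L) {i j : ZMod p} {x y : L} (hx : gr.π i x = x)
    (hy : gr.π j y = y) : gr.π (i + j) ⁅x, y⁆ = ⁅x, y⁆ := by
  have := gr.lie i j x y
  rwa [hx, hy] at this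

theorem hom_pi (gr : PGrading p L) (i : ZMod p) (x : L) : gr.π i (gr.π i x) = gr.π i x := by
  rw [gr.idem, if_pos rfl]

/-- projection of a bracket of homogeneous elements -/
theorem pi_lie_hom (gr : PGrading p L) (k : ZMod p) {i j : ZMod p} {x y : L}
    (hx : gr.π i x = x) (hy : gr.π j y = y) :
    gr.π k ⁅x, y⁆ = if k = i + j then ⁅x, y⁆ else 0 := by
  rw [← hom_lie gr hx hy, gr.idem]

theorem lie_expand (gr : PGrading p L) (a b : L) :
    ⁅a, b⁆ = ∑ i, ∑ j, ⁅gr.π i a, gr.π j b⁆ := by
  conv_lhs => rw [← gr.sum a, ← gr.sum b]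
  simp only [sum_lie, lie_sum]
  exact Finset.sum_comm

theorem stable_brk (gr : PGrading p L) {A B : AddSubgroup L} (hA : Stable gr A)
    (hB : Stable gr B) : Stable gr (brk A B) := by
  intro k x hx
  rw [brk] at hx
  refine AddSubgroup.closure_induction (p := fun x _ => gr.π k x ∈ brk A B) ?_ ?_ ?_ ?_ hx
  · rintro z ⟨a, ha, b, hb, rfl⟩
    rw [lie_expand gr a b, map_sum]
    refine AddSubgroup.sum_mem _ fun i _ => ?_
    rw [map_sum]
    refine AddSubgroup.sum_mem _ fun j _ => ?_
    rw [pi_lie_hom gr k (hom_pi gr i a) (hom_pi gr j b)]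
    split_ifs
    · exact mem_brk (hA i a ha) (hB j b hb)
    · exact AddSubgroup.zero_mem _
  · rw [map_zero]; exact AddSubgroup.zero_mem _
  · intro x y _ _ hx hy; rw [map_add]; exact AddSubgroup.add_mem _ hx hy
  · intro x _ hx; rw [map_neg]; exact AddSubgroup.neg_mem _ hx

theorem stable_lcs (gr : PGrading p L) {M : AddSubgroup L} (hM : Stable gr M) (j : ℕ) :
    Stable gr (lcs M j) := by
  induction j with
  | zero => exact hM
  | succ j ih => exact stable_brk gr ih hM

theorem stable_top (gr : PGrading p L) : Stable gr (⊤ : AddSubgroup L) := fun _ _ _ => trivial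

/-- homogeneity of left-normed brackets of homogeneous elements -/
theorem hom_lnb (gr : PGrading p L) {j0 : ZMod p} {a : L} (ha : gr.π j0 a = a)
    (qs : List (ZMod p × L)) (hqs : ∀ q ∈ qs, gr.π q.1 q.2 = q.2) :
    gr.π (j0 + (qs.map Prod.fst).sum) (lnb a (qs.map Prod.snd)) = lnb a (qs.map Prod.snd) := by
  induction qs generalizing j0 a with
  | nil => simpa using ha
  | cons q qs ih =>
    rw [List.map_cons, List.map_cons, List.sum_cons, lnb_cons, ← add_assoc]
    exact ih (hom_lie gr ha (hqs q List.mem_cons_self))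
      fun r hr => hqs r (List.mem_cons_of_mem _ hr)

/-- the spanning set of `iter X R t`: left-normed brackets of homogeneous elements -/
def Gen (gr : PGrading p L) (X R : AddSubgroup L) (t : ℕ) : Set L :=
  {z | ∃ a ∈ X, (∃ i, gr.π i a = a) ∧ ∃ qs : List (ZMod p × L), qs.length = t ∧
    (∀ q ∈ qs, q.2 ∈ R ∧ q.1 ≠ 0 ∧ gr.π q.1 q.2 = q.2) ∧ lnb a (qs.map Prod.snd) = z}

theorem iter_le_gen (gr : PGrading p L) {X R : AddSubgroup L} (hX : Stable gr X)
    (hR : Stable gr R) (t : ℕ) : iter X R t ≤ AddSubgroup.closure (Gen gr X R t) := by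
  induction t with
  | zero =>
    intro a ha
    rw [← gr.sum a]
    refine AddSubgroup.sum_mem _ fun i _ => ?_
    exact AddSubgroup.subset_closure
      ⟨gr.π i a, hX i a ha, ⟨i, hom_pi gr i a⟩, [], rfl, by simp, rfl⟩
  | succ t ih =>
    apply brk_le
    intro y hy r hr
    refine lie_mem_of_closure ?_ (ih hy)
    rintro z ⟨a, ha, hi, qs, hlen, hqs, rfl⟩
    have hsum : ⁅lnb a (qs.map Prod.snd), r⁆ = ∑ l, ⁅lnb a (qs.map Prod.snd), gr.π l r⁆ := by
      conv_lhs => rw [← gr.sum r]
      rw [lie_sum]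
    rw [hsum]
    refine AddSubgroup.sum_mem _ fun l _ => ?_
    by_cases hl : l = 0
    · subst hl
      rw [gr.zero, lie_zero]; exact AddSubgroup.zero_mem _
    · refine AddSubgroup.subset_closure
        ⟨a, ha, hi, qs ++ [(l, gr.π l r)], by simp [hlen], ?_, ?_⟩
      · intro q hq
        rcases List.mem_append.1 hq with hq | hq
        · exact hqs q hq
        · rw [List.mem_singleton] at hq
          subst hq
          exact ⟨hR l r hr, hl, hom_pi gr l r⟩
      · rw [List.map_append, lnb_append]; rfl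

end graded

section sums

variable {p : ℕ} [Fact p.Prime]

/-- the set of sums of sublists -/
def sums : List (ZMod p) → Finset (ZMod p)
  | [] => {0}
  | d :: ds => sums ds ∪ (sums ds).image (fun x => d + x)

theorem exists_sublist_of_mem_sums : ∀ (ds : List (ZMod p)) (x : ZMod p), x ∈ sums ds →
    ∃ s : List (ZMod p), s.Sublist ds ∧ s.sum = x
  | [], x, hx => by
    rw [sums, Finset.mem_singleton] at hx
    exact ⟨[], List.Sublist.refl _, by simp [hx]⟩
  | d :: ds, x, hx => by
    rw [sums, Finset.mem_union, Finset.mem_image] at hx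
    rcases hx with hx | ⟨y, hy, rfl⟩
    · obtain ⟨s, hs, hsum⟩ := exists_sublist_of_mem_sums ds x hx
      exact ⟨s, hs.cons _, hsum⟩
    · obtain ⟨s, hs, hsum⟩ := exists_sublist_of_mem_sums ds y hy
      exact ⟨d :: s, hs.cons₂ _, by rw [List.sum_cons, hsum]⟩

theorem sums_nonempty (ds : List (ZMod p)) : (sums (p := p) ds).Nonempty := by
  induction ds with
  | nil => exact ⟨0, by simp [sums]⟩
  | cons d ds ih =>
    obtain ⟨x, hx⟩ := ih
    exact ⟨x, by rw [sums]; exact Finset.mem_union_left _ hx⟩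

/-- a nonempty set closed under adding `d ≠ 0` is everything -/
theorem eq_univ_of_shift {T : Finset (ZMod p)} (hT : T.Nonempty) {d : ZMod p} (hd : d ≠ 0)
    (h : ∀ x ∈ T, d + x ∈ T) : T = Finset.univ := by
  obtain ⟨t, ht⟩ := hT
  have hn : ∀ n : ℕ, (n : ZMod p) * d + t ∈ T := by
    intro n
    induction n with
    | zero => simpa using ht
    | succ n ih =>
      have := h _ ih
      have e : d + ((n : ZMod p) * d + t) = ((n + 1 : ℕ) : ZMod p) * d + t := by
        push_cast; ring
      rwa [e] at this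
  rw [Finset.eq_univ_iff_forall]
  intro y
  have := hn ((y - t) * d⁻¹).val
  rw [ZMod.natCast_zmod_val, mul_assoc, inv_mul_cancel₀ hd, mul_one, sub_add_cancel] at this
  exact this

theorem card_sums (ds : List (ZMod p)) (hds : ∀ d ∈ ds, d ≠ 0) :
    min p (ds.length + 1) ≤ (sums ds).card := by
  induction ds with
  | nil => simp [sums]
  | cons d ds ih =>
    have ih' := ih fun x hx => hds x (List.mem_cons_of_mem _ hx)
    have hd : d ≠ 0 := hds d List.mem_cons_self
    have hsub : sums ds ⊆ sums (d :: ds) := by rw [sums]; exact Finset.subset_union_left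
    have hmono : (sums ds).card ≤ (sums (d :: ds)).card := Finset.card_le_card hsub
    by_cases hfull : sums ds = Finset.univ
    · have : (sums (d :: ds)).card = p := by
        have h1 : sums (d :: ds) = Finset.univ := by
          rw [Finset.eq_univ_iff_forall]
          intro x; exact hsub (hfull ▸ Finset.mem_univ x)
        rw [h1, Finset.card_univ, ZMod.card]
      rw [this]; exact min_le_left _ _
    · have hex : ∃ x ∈ sums ds, d + x ∉ sums ds := by
        by_contra hcon
        push_neg at hcon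
        exact hfull (eq_univ_of_shift (sums_nonempty ds) hd hcon)
      obtain ⟨x, hx, hdx⟩ := hex
      have hlt : (sums ds).card < (sums (d :: ds)).card := by
        apply Finset.card_lt_card
        refine ⟨hsub, fun hcon => hdx (hcon ?_)⟩
        rw [sums]
        exact Finset.mem_union_right _ (Finset.mem_image_of_mem _ hx)
      have : min p (ds.length + 1) + 1 ≤ (sums (d :: ds)).card := by omega
      calc min p ((d :: ds).length + 1) ≤ min p (ds.length + 1) + 1 := by
            rw [List.length_cons]; omega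
        _ ≤ _ := this

/-- **subset sums**: `p - 1` nonzero residues; every residue is the negative of a sublist sum -/
theorem exists_sublist_sum (ds : List (ZMod p)) (hlen : ds.length = p - 1)
    (hds : ∀ d ∈ ds, d ≠ 0) (j0 : ZMod p) :
    ∃ s : List (ZMod p), s.Sublist ds ∧ j0 + s.sum = 0 := by
  have hp : 1 ≤ p := (Fact.out : p.Prime).one_lt.le
  have h1 := card_sums ds hds
  rw [hlen, Nat.sub_add_cancel hp, min_self] at h1
  have h2 : sums ds = Finset.univ := by
    apply Finset.eq_univ_of_card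
    apply le_antisymm
    · exact Finset.card_le_univ _
    · rw [ZMod.card]; exact h1
  have h3 : -j0 ∈ sums ds := h2 ▸ Finset.mem_univ _
  obtain ⟨s, hs, hsum⟩ := exists_sublist_of_mem_sums ds _ h3
  exact ⟨s, hs, by rw [hsum, add_neg_cancel]⟩

end sums

section main

variable {p : ℕ} [Fact p.Prime] {L : Type*} [LieRing L]

/-- **Higman's key step** -/
theorem key_step (gr : PGrading p L) {R : AddSubgroup L} (hRs : Stable gr R)
    (hRc : brk R R ≤ R) (k : ℕ) :
    iter (lcs (brk R R) k) R (p - 1) ≤ lcs (brk R R) (k + 1) := by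
  set M := brk R R with hM
  set X := lcs M k with hXdef
  have hMs : Stable gr M := stable_brk gr hRs hRs
  have hXs : Stable gr X := stable_lcs gr hMs k
  have hXi : IsIdl X R := idl_lcs hRc k
  have hIi : IsIdl (brk X M) R := idl_lcs hRc (k + 1)
  refine (iter_le_gen gr hXs hRs (p - 1)).trans ?_
  rw [AddSubgroup.closure_le]
  rintro z ⟨a, ha, ⟨j0, hj0⟩, qs, hlen, hqs, rfl⟩
  show lnb a (qs.map Prod.snd) ∈ brk X M
  obtain ⟨s, hs, hsum⟩ := exists_sublist_sum (qs.map Prod.fst) (by rw [List.length_map, hlen])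
    (by
      intro d hd
      obtain ⟨q, hq, rfl⟩ := List.mem_map.1 hd
      exact (hqs q hq).2.1) j0
  obtain ⟨s', hs', rfl⟩ := List.sublist_map_iff.1 hs
  obtain ⟨rest, hperm⟩ := hs'.exists_perm_append
  have hmemR : ∀ b ∈ qs.map Prod.snd, b ∈ R := by
    intro b hb
    obtain ⟨q, hq, rfl⟩ := List.mem_map.1 hb
    exact (hqs q hq).1
  have h1 := lnb_perm hXi hIi (hperm.map Prod.snd) hmemR a ha
  have h2 : lnb a ((s' ++ rest).map Prod.snd) = 0 := by
    rw [List.map_append, lnb_append]
    have h3 := hom_lnb gr hj0 s' fun q hq => (hqs q (hs'.subset hq)).2.2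
    rw [hsum] at h3
    rw [hom_zero gr h3, lnb_zero]
  rwa [h2, sub_zero] at h1

theorem lcs_le_lcs_brk (gr : PGrading p L) {R : AddSubgroup L} (hRs : Stable gr R)
    (hRc : brk R R ≤ R) (c : ℕ) : lcs R (1 + (p - 1) * c) ≤ lcs (brk R R) c := by
  induction c with
  | zero => exact le_rfl
  | succ c ih =>
    have e : 1 + (p - 1) * (c + 1) = (1 + (p - 1) * c) + (p - 1) := by ring
    rw [e, lcs_add]
    exact (iter_mono R ih (p - 1)).trans (key_step gr hRs hRc c)

theorem higman_aux (gr : PGrading p L) (s : ℕ) : ∀ R : AddSubgroup L, Stable gr R →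
    brk R R ≤ R → der R s = ⊥ → lcs R (∑ i ∈ Finset.range s, (p - 1) ^ i) = ⊥ := by
  induction s with
  | zero =>
    intro R _ _ h
    rw [Finset.sum_range_zero]
    exact h
  | succ s ih =>
    intro R hRs hRc h
    have hMs : Stable gr (brk R R) := stable_brk gr hRs hRs
    have hMc : brk (brk R R) (brk R R) ≤ brk R R := brk_mono' hRc hRc
    rw [der_succ'] at h
    have h1 := ih (brk R R) hMs hMc h
    have e : ∑ i ∈ Finset.range (s + 1), (p - 1) ^ i
        = 1 + (p - 1) * ∑ i ∈ Finset.range s, (p - 1) ^ i := by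
      rw [Finset.sum_range_succ', Finset.mul_sum, pow_zero, add_comm]
      congr 1
      exact Finset.sum_congr rfl fun i _ => by rw [pow_succ, mul_comm]
    rw [e, eq_bot_iff, ← h1]
    exact lcs_le_lcs_brk gr hRs hRc _

end main

end H

/-- **P2** (Higman): derived length `s` gives class at most `∑ i < s, (p-1)^i`. -/
theorem higman {p : ℕ} [Fact p.Prime] {L : Type*} [LieRing L] (gr : PGrading p L) (s : ℕ)
    (hs : der (⊤ : AddSubgroup L) s = ⊥) :
    lcs (⊤ : AddSubgroup L) (∑ i ∈ Finset.range s, (p - 1) ^ i) = ⊥ :=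
  H.higman_aux gr s ⊤ (H.stable_top gr) le_top hs

end Cfsg.Agent.Lib.Helper7.Hkk
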