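import Mathlib
import Cfsg.Prelude.Def_Characters
import Cfsg.Agent.Lib.Helper5.SL2Cusp

set_option autoImplicit false

/-!
Normal forms of elements of `SL₂` described by their entries.
-/

namespace Cfsg.Agent.Lib.Helper5

open Matrix

section
variable {F : Type*} [Field F]

/-- An upper triangular element is of the form `slE (a, u)`. -/
theorem exists_slE_of_lower_zero (g : SpecialLinearGroup (Fin 2) F)
    (h10 : (g : Matrix (Fin 2) (Fin 2) F) 1 0 = 0) :
    ∃ a : Fˣ, (a : F) = (g : Matrix (Fin 2) (Fin 2) F) 0 0 ∧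
      ((a⁻¹ : Fˣ) : F) = (g : Matrix (Fin 2) (Fin 2) F) 1 1 ∧
      g = ((slE (a, (g : Matrix (Fin 2) (Fin 2) F) 0 1) : borelSL F) :
        SpecialLinearGroup (Fin 2) F) := by
  have hmem : g ∈ borelSL F := (mem_borelSL_two g).2 h10
  obtain ⟨⟨a, u⟩, hau⟩ := slE_bijective.2 (⟨g, hmem⟩ : borelSL F)
  have h1 : ((slE (a, u) : borelSL F) : SpecialLinearGroup (Fin 2) F) = g :=
    congrArg Subtype.val hau
  have h2 : (g : Matrix (Fin 2) (Fin 2) F) = !![(a : F), u; 0, ((a⁻¹ : Fˣ) : F)] := by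
    rw [← h1]
    rfl
  have e00 : (g : Matrix (Fin 2) (Fin 2) F) 0 0 = (a : F) := by rw [h2]; rfl
  have e01 : (g : Matrix (Fin 2) (Fin 2) F) 0 1 = u := by rw [h2]; rfl
  have e11 : (g : Matrix (Fin 2) (Fin 2) F) 1 1 = ((a⁻¹ : Fˣ) : F) := by rw [h2]; rfl
  refine ⟨a, e00.symm, e11.symm, ?_⟩
  rw [e01]
  exact h1.symm

/-- A root of the characteristic polynomial gives an eigenvector. -/
theorem exists_eigenvector_of_root (g : SpecialLinearGroup (Fin 2) F) (x : F)
    (hx : x ^ 2 - (g : Matrix (Fin 2) (Fin 2) F).trace * x + 1 = 0) :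
    ∃ v : Fin 2 → F, v ≠ 0 ∧ (g : Matrix (Fin 2) (Fin 2) F).mulVec v = x • v := by
  obtain ⟨a, ha⟩ : ∃ a : F, (g : Matrix (Fin 2) (Fin 2) F) 0 0 = a := ⟨_, rfl⟩
  obtain ⟨b, hb⟩ : ∃ b : F, (g : Matrix (Fin 2) (Fin 2) F) 0 1 = b := ⟨_, rfl⟩
  obtain ⟨c, hc⟩ : ∃ c : F, (g : Matrix (Fin 2) (Fin 2) F) 1 0 = c := ⟨_, rfl⟩
  obtain ⟨d, hd⟩ : ∃ d : F, (g : Matrix (Fin 2) (Fin 2) F) 1 1 = d := ⟨_, rfl⟩
  have hdet : a * d - b * c = 1 := by
    have := g.2
    rw [Matrix.det_fin_two, ha, hb, hc, hd] at this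
    exact this
  have hgM : (g : Matrix (Fin 2) (Fin 2) F) = !![a, b; c, d] := by
    rw [Matrix.eta_fin_two (g : Matrix (Fin 2) (Fin 2) F), ha, hb, hc, hd]
  rw [Matrix.trace_fin_two, ha, hd] at hx
  rw [hgM]
  by_cases h1 : b = 0 ∧ x - a = 0
  · obtain ⟨hb0, hxa⟩ := h1
    by_cases h2 : x - d = 0 ∧ c = 0
    · obtain ⟨hxd, hc0⟩ := h2
      refine ⟨![1, 0], ?_, ?_⟩
      · intro h
        have := congrFun h 0
        simp at this
      · ext i
        fin_cases i
        · simp [Matrix.mulVec, dotProduct]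
          linear_combination -hxa
        · simp [Matrix.mulVec, dotProduct, hc0]
    · refine ⟨![x - d, c], ?_, ?_⟩
      · intro h
        apply h2
        have h0 := congrFun h 0
        have h1 := congrFun h 1
        simp at h0 h1
        exact ⟨h0, h1⟩
      · ext i
        fin_cases i
        · simp only [Matrix.mulVec, dotProduct, Fin.sum_univ_two, Matrix.of_apply,
            Matrix.cons_val_zero, Matrix.cons_val_one, Matrix.cons_val', Matrix.cons_val_fin_one,
            Pi.smul_apply, smul_eq_mul, Fin.zero_eta, Fin.isValue]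
          linear_combination (d - x) * hxa + c * hb0
        · simp [Matrix.mulVec, dotProduct]
          ring
  · refine ⟨![b, x - a], ?_, ?_⟩
    · intro h
      apply h1
      have h0 := congrFun h 0
      have h1 := congrFun h 1
      simp at h0 h1
      exact ⟨h0, h1⟩
    · ext i
      fin_cases i
      · simp [Matrix.mulVec, dotProduct]
        ring
      · simp [Matrix.mulVec, dotProduct]
        linear_combination -hx - hdet

theorem no_root_of_no_eigenvector (g : SpecialLinearGroup (Fin 2) F)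
    (hno : ∀ (c : F) (v : Fin 2 → F), v ≠ 0 → (g : Matrix (Fin 2) (Fin 2) F).mulVec v ≠ c • v)
    (x : F) : x ^ 2 - (g : Matrix (Fin 2) (Fin 2) F).trace * x + 1 ≠ 0 := by
  intro hx
  obtain ⟨v, hv, hgv⟩ := exists_eigenvector_of_root g x hx
  exact hno x v hv hgv

theorem trace_sq_ne_four_of_no_root (g : SpecialLinearGroup (Fin 2) F)
    (hno : ∀ x : F, x ^ 2 - (g : Matrix (Fin 2) (Fin 2) F).trace * x + 1 ≠ 0) :
    (g : Matrix (Fin 2) (Fin 2) F).trace ^ 2 ≠ 4 := by
  intro ht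
  have h4 : ((g : Matrix (Fin 2) (Fin 2) F).trace - 2) *
      ((g : Matrix (Fin 2) (Fin 2) F).trace + 2) = 0 := by
    linear_combination ht
  rcases mul_eq_zero.1 h4 with h | h
  · apply hno 1
    linear_combination -h
  · apply hno (-1)
    linear_combination h

end

end Cfsg.Agent.Lib.Helper5
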