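import Mathlib
import Cfsg.Prelude.Def_Characters
import Cfsg.Agent.Lib.Helper5.SL2CuspCompat
import Cfsg.Agent.Lib.Helper5.SL2Families
import Cfsg.Agent.Lib.Helper5.SL2Elements

set_option autoImplicit false

/-!
In odd characteristic every element of `SL₂(q)` without eigenvalues is conjugate into a given
cyclic subgroup of order `q + 1`.
-/

namespace Cfsg.Agent.Lib.Helper5

open Matrix

section
variable {F : Type*} [Field F] [Fintype F] [DecidableEq F]

theorem card_sq_eq_four (h2 : (2 : F) ≠ 0) :
    (Finset.univ.filter (fun t : F => t ^ 2 = 4)).card = 2 := by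
  have hset : Finset.univ.filter (fun t : F => t ^ 2 = 4) = {2, -2} := by
    ext t
    simp only [Finset.mem_filter, Finset.mem_univ, true_and, Finset.mem_insert,
      Finset.mem_singleton]
    constructor
    · intro h
      have : (t - 2) * (t + 2) = 0 := by linear_combination h
      rcases mul_eq_zero.1 this with h' | h'
      · exact Or.inl (sub_eq_zero.1 h')
      · exact Or.inr (eq_neg_of_add_eq_zero_left h')
    · rintro (rfl | rfl) <;> ring
  rw [hset, Finset.card_pair]
  intro h
  have h4 : (2 : F) * 2 = 0 := by linear_combination h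
  rcases mul_eq_zero.1 h4 with h | h <;> exact h2 h

/-- The number of traces without roots. -/
theorem card_rootCount_zero (h2 : (2 : F) ≠ 0) :
    2 * (Finset.univ.filter (fun t : F => rootCount t = 0)).card + 1 = Fintype.card F := by
  have hsum := sum_rootCount (F := F)
  have hq : 2 ≤ Fintype.card F := Fintype.one_lt_card
  rw [← Finset.sum_filter_add_sum_filter_not Finset.univ (fun t : F => t ^ 2 = 4)] at hsum
  have h1 : ∑ t ∈ Finset.univ.filter (fun t : F => t ^ 2 = 4), rootCount t = 2 := by
    rw [Finset.sum_congr rfl (fun t ht => rootCount_eq_one t (Finset.mem_filter.1 ht).2 h2),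
      Finset.sum_const, card_sq_eq_four h2, smul_eq_mul, mul_one]
  have h3 : ∀ t ∈ Finset.univ.filter (fun t : F => ¬ t ^ 2 = 4),
      rootCount t = if rootCount t = 0 then 0 else 2 := by
    intro t ht
    rcases rootCount_eq_zero_or_two t (Finset.mem_filter.1 ht).2 with h | h
    · rw [if_pos h, h]
    · rw [if_neg (by rw [h]; norm_num), h]
  rw [h1, Finset.sum_congr rfl h3, Finset.sum_ite, Finset.sum_const_zero, zero_add,
    Finset.sum_const, smul_eq_mul] at hsum
  have h4 := Finset.card_filter_add_card_filter_not (s := Finset.univ.filter (fun t : F => ¬ t ^ 2 = 4))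
    (fun t : F => rootCount t = 0)
  have h5 := Finset.card_filter_add_card_filter_not (s := (Finset.univ : Finset F))
    (fun t : F => t ^ 2 = 4)
  rw [card_sq_eq_four h2, Finset.card_univ] at h5
  have h6 : Finset.univ.filter (fun t : F => rootCount t = 0) =
      (Finset.univ.filter (fun t : F => ¬ t ^ 2 = 4)).filter (fun t : F => rootCount t = 0) := by
    ext t
    simp only [Finset.mem_filter, Finset.mem_univ, true_and]
    constructor
    · intro h
      refine ⟨fun ht => ?_, h⟩
      rw [rootCount_eq_one t ht h2] at h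
      exact absurd h one_ne_zero
    · intro h
      exact h.2
  rw [h6]
  omega

variable (C : Subgroup (SpecialLinearGroup (Fin 2) F))

theorem card_nonscalar_torus (h2 : (2 : F) ≠ 0) (hC : IsCyclic C)
    (hcard : Nat.card C = Fintype.card F + 1) :
    Nat.card {c : C // ¬ ∃ r : F, ((c : SpecialLinearGroup (Fin 2) F) :
      Matrix (Fin 2) (Fin 2) F) = r • (1 : Matrix (Fin 2) (Fin 2) F)} = Fintype.card F - 1 := by
  classical
  have : Fintype C := Fintype.ofFinite C
  rw [Nat.card_eq_fintype_card, Fintype.card_subtype_compl, ← Nat.card_eq_fintype_card (α := C),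
    hcard, Fintype.card_subtype]
  have hone : (1 : SpecialLinearGroup (Fin 2) F) ∈ C := C.one_mem
  have hneg : (negOneSL : SpecialLinearGroup (Fin 2) F) ∈ C :=
    scalar_mem_torus C hC hcard _ ⟨-1, negOneSL_scalar⟩
  have hset : Finset.univ.filter (fun c : C => ∃ r : F, ((c : SpecialLinearGroup (Fin 2) F) :
      Matrix (Fin 2) (Fin 2) F) = r • (1 : Matrix (Fin 2) (Fin 2) F)) =
      {⟨1, hone⟩, ⟨negOneSL, hneg⟩} := by
    ext c
    simp only [Finset.mem_filter, Finset.mem_univ, true_and, Finset.mem_insert,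
      Finset.mem_singleton]
    constructor
    · rintro ⟨r, hr⟩
      rcases scalar_cases (c : SpecialLinearGroup (Fin 2) F) r hr with ⟨-, h⟩ | ⟨-, h⟩
      · exact Or.inl (Subtype.ext h)
      · exact Or.inr (Subtype.ext h)
    · rintro (h | h)
      · rw [h]
        exact ⟨1, by rw [one_smul]; rfl⟩
      · rw [h]
        exact ⟨-1, negOneSL_scalar⟩
  rw [hset, Finset.card_pair]
  · omega
  · intro h
    exact negOneSL_ne_one h2 (congrArg Subtype.val h).symm

omit [Fintype F] [DecidableEq F] in
theorem trace_inv_eq (g : SpecialLinearGroup (Fin 2) F) :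
    ((g⁻¹ : SpecialLinearGroup (Fin 2) F) : Matrix (Fin 2) (Fin 2) F).trace =
      (g : Matrix (Fin 2) (Fin 2) F).trace := by
  rw [coe_inv_eq, Matrix.trace_sub, Matrix.trace_smul, Matrix.trace_one, Fintype.card_fin,
    smul_eq_mul]
  push_cast
  ring

omit [Fintype F] [DecidableEq F] in
theorem inv_scalar_iff (g : SpecialLinearGroup (Fin 2) F) :
    (∃ r : F, ((g⁻¹ : SpecialLinearGroup (Fin 2) F) : Matrix (Fin 2) (Fin 2) F) =
      r • (1 : Matrix (Fin 2) (Fin 2) F)) ↔
    (∃ r : F, (g : Matrix (Fin 2) (Fin 2) F) = r • (1 : Matrix (Fin 2) (Fin 2) F)) := by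
  have key : ∀ h : SpecialLinearGroup (Fin 2) F,
      (∃ r : F, (h : Matrix (Fin 2) (Fin 2) F) = r • (1 : Matrix (Fin 2) (Fin 2) F)) →
      (∃ r : F, ((h⁻¹ : SpecialLinearGroup (Fin 2) F) : Matrix (Fin 2) (Fin 2) F) =
        r • (1 : Matrix (Fin 2) (Fin 2) F)) := by
    rintro h ⟨r, hr⟩
    refine ⟨(h : Matrix (Fin 2) (Fin 2) F).trace - r, ?_⟩
    rw [coe_inv_eq, hr, sub_smul]
  constructor
  · intro h
    have := key g⁻¹ h
    rwa [inv_inv] at this
  · exact key g

/-- A two-to-one map onto a type of half the size is surjective. -/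
theorem surjective_of_two_to_one {X Y : Type*} [Finite X] [Finite Y] (τ : X → Y) (ι : X → X)
    (hι : ∀ x, ι x ≠ x) (hτ : ∀ x y, τ x = τ y ↔ y = x ∨ y = ι x)
    (hcard : Nat.card X = 2 * Nat.card Y) : Function.Surjective τ := by
  have h1 := card_eq_two_mul_of_two_to_one (Set.rangeFactorization τ)
    Set.rangeFactorization_surjective ι hι (by
      intro x y
      rw [← hτ x y]
      constructor
      · intro h
        exact congrArg Subtype.val h
      · intro h
        exact Subtype.ext h)
  rw [hcard, _root_.Nat.card_coe_set_eq] at h1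
  have h2 : (Set.range τ).ncard = Nat.card Y := by omega
  rw [← Set.range_eq_univ, Set.eq_univ_iff_ncard]
  exact h2

theorem exists_mem_torus_of_rootCount_zero (h2 : (2 : F) ≠ 0) (hC : IsCyclic C)
    (hcard : Nat.card C = Fintype.card F + 1) (t : F) (ht : rootCount t = 0) :
    ∃ c : SpecialLinearGroup (Fin 2) F, c ∈ C ∧
      (¬ ∃ r : F, (c : Matrix (Fin 2) (Fin 2) F) = r • (1 : Matrix (Fin 2) (Fin 2) F)) ∧
      (c : Matrix (Fin 2) (Fin 2) F).trace = t := by
  classical
  let τ : {c : C // ¬ ∃ r : F, ((c : SpecialLinearGroup (Fin 2) F) :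
      Matrix (Fin 2) (Fin 2) F) = r • (1 : Matrix (Fin 2) (Fin 2) F)} →
      {t : F // rootCount t = 0} :=
    fun c => ⟨((c : C) : SpecialLinearGroup (Fin 2) F).1.trace,
      (torus_structure C hC hcard _ c.1.2 c.2).2.2⟩
  have hsurj : Function.Surjective τ := by
    apply surjective_of_two_to_one τ
      (fun c => ⟨c.1⁻¹, fun h => c.2 ((inv_scalar_iff _).1 h)⟩)
    · intro c h
      have h1 := congrArg (fun z : {c : C // ¬ ∃ r : F, ((c : SpecialLinearGroup (Fin 2) F) :
        Matrix (Fin 2) (Fin 2) F) = r • (1 : Matrix (Fin 2) (Fin 2) F)} =>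
          ((z : C) : SpecialLinearGroup (Fin 2) F)) h
      exact ne_inv_of_mem_torus C hC hcard _ c.1.2 c.2 h1.symm
    · intro x y
      constructor
      · intro h
        have htr : ((y : C) : SpecialLinearGroup (Fin 2) F).1.trace =
            ((x : C) : SpecialLinearGroup (Fin 2) F).1.trace := (congrArg Subtype.val h).symm
        obtain ⟨hcent, -, hr⟩ := torus_structure C hC hcard _ x.1.2 x.2
        rcases eq_or_eq_inv_of_trace_eq' _ x.2 (no_root_of_rootCount_zero _ hr) _
          (by rw [hcent]; exact y.1.2) htr with h' | h'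
        · exact Or.inl (Subtype.ext (Subtype.ext h'))
        · exact Or.inr (Subtype.ext (Subtype.ext h'))
      · rintro (h | h)
        · rw [h]
        · rw [h]
          apply Subtype.ext
          exact (trace_inv_eq _).symm
    · rw [card_nonscalar_torus C h2 hC hcard, Nat.card_eq_fintype_card, Fintype.card_subtype]
      have := card_rootCount_zero (F := F) h2
      omega
  obtain ⟨c, hc⟩ := hsurj ⟨t, ht⟩
  exact ⟨c.1.1, c.1.2, c.2, congrArg Subtype.val hc⟩

/-- Every element without eigenvalues is conjugate to a non-central element of the torus. -/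
theorem exists_conj_mem_torus (h2 : (2 : F) ≠ 0) (hC : IsCyclic C)
    (hcard : Nat.card C = Fintype.card F + 1) (g : SpecialLinearGroup (Fin 2) F)
    (hno : ∀ x : F, x ^ 2 - (g : Matrix (Fin 2) (Fin 2) F).trace * x + 1 ≠ 0) :
    ∃ c : SpecialLinearGroup (Fin 2) F, c ∈ C ∧
      (¬ ∃ r : F, (c : Matrix (Fin 2) (Fin 2) F) = r • (1 : Matrix (Fin 2) (Fin 2) F)) ∧
      IsConj g c := by
  have hr : rootCount (g : Matrix (Fin 2) (Fin 2) F).trace = 0 := by
    unfold rootCount
    rw [Finset.card_eq_zero, Finset.filter_eq_empty_iff]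
    intro x _
    exact hno x
  obtain ⟨c, hc, hns, htr⟩ := exists_mem_torus_of_rootCount_zero C h2 hC hcard _ hr
  exact ⟨c, hc, hns, isConj_of_trace_eq g c htr.symm (trace_sq_ne_four_of_no_root g hno)⟩

end

end Cfsg.Agent.Lib.Helper5
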