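import Mathlib
import Cfsg.Agent.Lib.Lead.BG13q3
import Cfsg.Agent.Lib.Helper2.BG13x1

set_option autoImplicit false
set_option linter.style.haveILetI false
set_option linter.unusedSectionVars false

/-! Bender–Glauberman Theorem 13.9 (the `σ`-partition): Hall subgroup utilities. -/

namespace Cfsg.Agent.Lib.Helper5.BG139

open Cfsg Cfsg.Agent.Lib.Lead Cfsg.Agent.Lib.Lead.BG10 Cfsg.Agent.Lib.Helper7 Cfsg.Agent.Lib.Helper4
open Cfsg.Agent.Lib.Helper4.BG76 Cfsg.Agent.Lib.Helper4.BG8 Cfsg.Agent.Lib.Helper4.BG9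
open Cfsg.Agent.Lib.Helper4.BG7 Cfsg.Agent.Lib.Helper4.BG12 Cfsg.Agent.Lib.Helper4.BGConj
open Cfsg.Agent.Lib.Helper4.BG13 Cfsg.Agent.Lib.Lead.BG12q Cfsg.Agent.Lib.Lead.BG13q
open scoped commutatorElement

universe u

variable {G : Type u} [Group G] [Finite G]

/-- a Hall `π`-subgroup of a solvable subgroup `K` containing a given `π`-subgroup -/
theorem exists_hall_ge {K U : Subgroup G} (hsolv : Group.IsSolvable ↥K) (π : Set ℕ) (hUK : U ≤ K)
    (hU : ∀ p : ℕ, p.Prime → p ∣ Nat.card U → p ∈ π) :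
    ∃ H : Subgroup G, IsPiHallOf π H K ∧ U ≤ H := by
  obtain ⟨m, n, hmn, hcop, hm, hn⟩ := exists_pi_split π (Nat.card K) Nat.card_pos.ne'
  have hUn : (Nat.card U).Coprime n :=
    Nat.coprime_of_dvd (fun k hk hkU hkn => hn k hk hkn (hU k hk hkU))
  obtain ⟨P, hPK, hPm, hUP⟩ := hall_dominate_in_subgroup K hsolv m n hmn hcop U hUK hUn
  exact ⟨P, (isPiHallOf_iff π K m n hmn hcop hm hn P).mpr ⟨hPK, hPm⟩, hUP⟩

/-- Hall `π`-subgroups of a solvable subgroup are conjugate -/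
theorem hall_conj {K H₁ H₂ : Subgroup G} (hsolv : Group.IsSolvable ↥K) (π : Set ℕ)
    (h1 : IsPiHallOf π H₁ K) (h2 : IsPiHallOf π H₂ K) : ∃ k ∈ K, cj k H₁ = H₂ := by
  obtain ⟨m, n, hmn, hcop, hm, hn⟩ := exists_pi_split π (Nat.card K) Nat.card_pos.ne'
  obtain ⟨h1K, h1m⟩ := (isPiHallOf_iff π K m n hmn hcop hm hn H₁).mp h1
  obtain ⟨h2K, h2m⟩ := (isPiHallOf_iff π K m n hmn hcop hm hn H₂).mp h2
  obtain ⟨k, hk, hkPQ⟩ := hall_conj_in_subgroup K hsolv m n hmn hcop H₁ H₂ h1K h2K h1m h2m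
  exact ⟨k, hk, hkPQ⟩

/-- a `π`-subgroup of a solvable subgroup is conjugate into a given Hall `π`-subgroup -/
theorem exists_cj_le_hall {K H U : Subgroup G} (hsolv : Group.IsSolvable ↥K) (π : Set ℕ)
    (hH : IsPiHallOf π H K) (hUK : U ≤ K)
    (hU : ∀ p : ℕ, p.Prime → p ∣ Nat.card U → p ∈ π) : ∃ k ∈ K, cj k U ≤ H := by
  obtain ⟨H', hH', hUH'⟩ := exists_hall_ge hsolv π hUK hU
  obtain ⟨k, hk, hkH⟩ := hall_conj hsolv π hH' hH
  exact ⟨k, hk, (cj_mono k hUH').trans hkH.le⟩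

/-- a complement of `M_σ` is a Hall `σ(M)'`-subgroup of `M` -/
theorem isPiHallOf_of_isComplIn (hG : IsMinSimpleOddOrder G) {M E : Subgroup G} (hM : IsCoatom M)
    (hE : IsComplIn E (sigmaCore M) M) : IsPiHallOf {r | r ∉ sigma M} E M := by
  refine ⟨hE.1, fun p hp hd => not_sigma_of_dvd_card_compl hG hM hE hp hd, ?_⟩
  intro p hp hpσ hd
  rw [relIndex_complIn_sigmaCore hE] at hd
  exact hpσ ((sigmaCore_hall hG hM).1.2.1 p hp hd)

/-- a Hall `σ(M)'`-subgroup of `M` is a complement of `M_σ` -/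
theorem isComplIn_of_isPiHallOf (hG : IsMinSimpleOddOrder G) {M E : Subgroup G} (hM : IsCoatom M)
    (hE : IsPiHallOf {r | r ∉ sigma M} E M) : IsComplIn E (sigmaCore M) M := by
  have hsolv : Group.IsSolvable ↥M := solvable_of_ne_top hG hM.1
  obtain ⟨E₀, hE₀, -⟩ := exists_complIn_ge hG hM (A := ⊥) bot_le (by simp)
  obtain ⟨k, hk, hkE⟩ := hall_conj hsolv _ (isPiHallOf_of_isComplIn hG hM hE₀) hE
  have h1 := isComplIn_cj k hE₀
  rw [hkE, cj_eq_self_of_mem hk] at h1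
  have h2 : cj k (sigmaCore M) = sigmaCore M :=
    mem_normalizer_iff_cj.mp (le_normalizer_sigmaCore M hk)
  rwa [h2] at h1

/-- two complements of `M_σ` containing the same subgroup `P` are conjugate by an element of
`C_{M_σ}(P)` -/
theorem exists_cj_complIn (hG : IsMinSimpleOddOrder G) {M E E' P : Subgroup G} (hM : IsCoatom M)
    (hE : IsComplIn E (sigmaCore M) M) (hE' : IsComplIn E' (sigmaCore M) M) (hPE : P ≤ E)
    (hPE' : P ≤ E') :
    ∃ y ∈ sigmaCore M ⊓ Subgroup.centralizer (P : Set G), cj y E = E' := by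
  have hsolv : Group.IsSolvable ↥M := solvable_of_ne_top hG hM.1
  obtain ⟨g, hg, hgE⟩ := hall_conj hsolv _ (isPiHallOf_of_isComplIn hG hM hE)
    (isPiHallOf_of_isComplIn hG hM hE')
  obtain ⟨a, ha, b, hb, hab⟩ := hE.2.2.2 g⁻¹ (M.inv_mem hg)
  have hg' : g = b⁻¹ * a⁻¹ := by
    have : g⁻¹⁻¹ = (a * b)⁻¹ := by rw [hab]
    rw [inv_inv, mul_inv_rev] at this
    exact this
  have hy : cj b⁻¹ E = E' := by
    rw [← hgE, hg', cj_mul, cj_eq_self_of_mem (E.inv_mem ha)]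
  refine ⟨b⁻¹, ⟨(sigmaCore M).inv_mem hb, ?_⟩, hy⟩
  show b⁻¹ ∈ Subgroup.centralizer (P : Set G)
  rw [Subgroup.mem_centralizer_iff]
  intro x hx
  have hxE' : x ∈ cj b⁻¹ E := by rw [hy]; exact hPE' hx
  rw [mem_cj, inv_inv] at hxE'
  -- `b x b⁻¹ ∈ E` and `b x b⁻¹ x⁻¹ ∈ M_σ`
  have h1 : b * x * b⁻¹ * x⁻¹ ∈ E := E.mul_mem hxE' (E.inv_mem (hPE hx))
  have hxM : x ∈ M := hE.1 (hPE hx)
  have h2 : b * x * b⁻¹ * x⁻¹ ∈ sigmaCore M := by
    have h3 : x * b⁻¹ * x⁻¹ ∈ sigmaCore M :=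
      (Subgroup.mem_normalizer_iff.mp (le_normalizer_sigmaCore M hxM) b⁻¹).mp
        ((sigmaCore M).inv_mem hb)
    have : b * x * b⁻¹ * x⁻¹ = b * (x * b⁻¹ * x⁻¹) := by group
    rw [this]
    exact (sigmaCore M).mul_mem hb h3
  have h4 : b * x * b⁻¹ * x⁻¹ ∈ E ⊓ sigmaCore M := ⟨h1, h2⟩
  rw [hE.2.2.1, Subgroup.mem_bot] at h4
  -- `b x b⁻¹ = x`
  have h5 : b * x = x * b := by
    have : b * x * b⁻¹ = x := by
      have := congrArg (· * x) h4
      simpa using this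
    calc b * x = (b * x * b⁻¹) * b := by group
      _ = x * b := by rw [this]
  calc x * b⁻¹ = b⁻¹ * (b * x) * b⁻¹ := by group
    _ = b⁻¹ * (x * b) * b⁻¹ := by rw [h5]
    _ = b⁻¹ * x := by group

end Cfsg.Agent.Lib.Helper5.BG139
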