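import Mathlib
import Cfsg.Agent.Lib.Helper5.BG139a
import Cfsg.Agent.Lib.Helper4.BG18h

set_option autoImplicit false
set_option linter.style.haveILetI false
set_option linter.unusedSectionVars false

/-! Bender–Glauberman Theorem 13.9: the configuration of two non-conjugate maximal subgroups with a
common Sylow normalizer. -/

namespace Cfsg.Agent.Lib.Helper5.BG139

open Cfsg Cfsg.Agent.Lib.Lead Cfsg.Agent.Lib.Lead.BG10 Cfsg.Agent.Lib.Helper7 Cfsg.Agent.Lib.Helper4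
open Cfsg.Agent.Lib.Helper4.BG76 Cfsg.Agent.Lib.Helper4.BG8 Cfsg.Agent.Lib.Helper4.BG9
open Cfsg.Agent.Lib.Helper4.BG7 Cfsg.Agent.Lib.Helper4.BG12 Cfsg.Agent.Lib.Helper4.BGConj
open Cfsg.Agent.Lib.Helper4.BG13 Cfsg.Agent.Lib.Lead.BG12q Cfsg.Agent.Lib.Lead.BG13q
open Cfsg.Agent.Lib.Helper4.BG18
open scoped commutatorElement

universe u

variable {G : Type u} [Group G] [Finite G]

/-- the configuration: `M`, `N` non-conjugate maximal subgroups, `S` a Sylow `q`-subgroup of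
`M ∩ N` with `N_G(S) ≤ M ∩ N` -/
structure Cfg (M N S : Subgroup G) (q : ℕ) : Prop where
  hM : IsCoatom M
  hN : IsCoatom N
  hnc : ∀ g : G, N ≠ cj g M
  hS : SylIn q (M ⊓ N) S
  hNS : Subgroup.normalizer (S : Set G) ≤ M ⊓ N

namespace Cfg

variable {M N S : Subgroup G} {q : ℕ}

theorem hne (c : Cfg M N S q) : N ≠ M := by
  have := c.hnc 1
  rwa [cj_one] at this

theorem hnc' (c : Cfg M N S q) : ∀ g : G, M ≠ cj g N := by
  intro g h
  apply c.hnc g⁻¹
  rw [h, cj_inv_cj]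

theorem symm (c : Cfg M N S q) : Cfg N M S q :=
  ⟨c.hN, c.hM, c.hnc', by rw [inf_comm]; exact c.hS, by rw [inf_comm]; exact c.hNS⟩

theorem hSM (c : Cfg M N S q) : S ≤ M := c.hS.1.trans inf_le_left

theorem hSN (c : Cfg M N S q) : S ≤ N := c.hS.1.trans inf_le_right

theorem hSq (c : Cfg M N S q) : IsPGroup q S := c.hS.2.1

variable [hq : Fact q.Prime]

theorem l1 (c : Cfg M N S q) (hG : IsMinSimpleOddOrder G) :
    M ≤ piCoreOf (beta M) M ⊔ (M ⊓ N) ∧ (∀ p, p ∈ tau1 N → p ∈ tau1 M ∨ p ∈ beta M) ∧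
      alpha M = beta M ∧ piCoreOf (beta M) M ≠ ⊥ ∧ IsMulCommutative ↥S ∧ q ∈ sigma M ∧
      q ∉ alpha M ∧ tau2 M = ∅ :=
  lemma_12_17d hG c.hM c.hN c.hne c.hS c.hNS

theorem le_sup (c : Cfg M N S q) (hG : IsMinSimpleOddOrder G) :
    M ≤ piCoreOf (beta M) M ⊔ (M ⊓ N) := (c.l1 hG).1

theorem tau1_sub (c : Cfg M N S q) (hG : IsMinSimpleOddOrder G) :
    ∀ p, p ∈ tau1 N → p ∈ tau1 M ∨ p ∈ beta M := (c.l1 hG).2.1

theorem alpha_eq (c : Cfg M N S q) (hG : IsMinSimpleOddOrder G) : alpha M = beta M :=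
  (c.l1 hG).2.2.1

theorem beta_ne (c : Cfg M N S q) (hG : IsMinSimpleOddOrder G) : piCoreOf (beta M) M ≠ ⊥ :=
  (c.l1 hG).2.2.2.1

theorem S_comm (c : Cfg M N S q) (hG : IsMinSimpleOddOrder G) : IsMulCommutative ↥S :=
  (c.l1 hG).2.2.2.2.1

theorem q_sigma (c : Cfg M N S q) (hG : IsMinSimpleOddOrder G) : q ∈ sigma M :=
  (c.l1 hG).2.2.2.2.2.1

theorem q_not_alpha (c : Cfg M N S q) (hG : IsMinSimpleOddOrder G) : q ∉ alpha M :=
  (c.l1 hG).2.2.2.2.2.2.1

theorem tau2_empty (c : Cfg M N S q) (hG : IsMinSimpleOddOrder G) : tau2 M = ∅ :=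
  (c.l1 hG).2.2.2.2.2.2.2

theorem S_ne_bot (c : Cfg M N S q) : S ≠ ⊥ := by
  intro h
  have h1 := c.hNS
  rw [h] at h1
  have h2 : Subgroup.normalizer ((⊥ : Subgroup G) : Set G) = ⊤ :=
    Subgroup.normalizer_eq_top_iff.mpr inferInstance
  rw [h2] at h1
  exact c.hM.1 (eq_top_iff.mpr (h1.trans inf_le_left))

theorem S_le_commutator (c : Cfg M N S q) (hG : IsMinSimpleOddOrder G) : S ≤ ⁅M, M⁆ :=
  le_commutator_of_sigma hG c.hM (c.q_sigma hG) c.hSM c.hSq

theorem S_le_sigmaCore (c : Cfg M N S q) (hG : IsMinSimpleOddOrder G) : S ≤ sigmaCore M := by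
  apply le_sigmaCore_of_piNum hG c.hM c.hSM
  intro p hp hd
  rw [prime_eq_of_dvd_card c.hSq hp hd]
  exact c.q_sigma hG

/-- `S` is a Sylow `q`-subgroup of `M` -/
theorem sylIn_M (c : Cfg M N S q) : SylIn q M S := by
  obtain ⟨R, hSR, hR⟩ := exists_sylIn_ge c.hSM c.hSq
  have : R = S := by
    apply eq_of_sylIn_of_normalizer c.hS hSR hR.2.1
    intro y hy hyN
    exact c.hNS hyN
  rwa [this] at hR

/-- the order of the normal subgroup `D ⊇ M_α` with `|D : M_α|` a power of `q` -/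
private theorem prime_of_dvd_card {L D : Subgroup G} (hαD : alphaCore L ≤ D) {j : ℕ}
    (hj : (alphaCore L).relIndex D = q ^ j) {r : ℕ} (hr : r.Prime) (hd : r ∣ Nat.card D) :
    r ∈ alpha L ∨ r = q := by
  have h1 : Nat.card (alphaCore L) * (alphaCore L).relIndex D = Nat.card D := by
    rw [← Subgroup.relIndex_bot_left, ← Subgroup.relIndex_bot_left,
      Subgroup.relIndex_mul_relIndex ⊥ (alphaCore L) D bot_le hαD]
  rw [← h1, hj] at hd
  rcases (Nat.Prime.dvd_mul hr).mp hd with h | h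
  · left
    rw [card_alphaCore] at h
    exact isPiNum_card_piCore (alpha L) r hr h
  · right
    exact (Nat.prime_dvd_prime_iff_eq hr hq.out).mp (hr.dvd_of_dvd_pow h)

/-- Step 1: `S` is normal in `M ∩ N` -/
theorem S_normal (c : Cfg M N S q) (hG : IsMinSimpleOddOrder G) :
    M ⊓ N ≤ Subgroup.normalizer (S : Set G) := by
  obtain ⟨D₁, hD₁M, hMD₁, hα₁, ⟨j₁, hj₁⟩, hq₁⟩ := exists_normal_over_alphaCore hG c.hM (q := q)
  obtain ⟨D₂, hD₂N, hND₂, hα₂, ⟨j₂, hj₂⟩, hq₂⟩ := exists_normal_over_alphaCore hG c.hN (q := q)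
  have hS₁ : S ≤ D₁ := hq₁ S c.hSq (c.S_le_commutator hG)
  have hS₂ : S ≤ D₂ := hq₂ S c.hSq (c.symm.S_le_commutator hG)
  have hT : IsPGroup q ↥(D₁ ⊓ D₂ : Subgroup G) := by
    have hpos : Nat.card ↥(D₁ ⊓ D₂ : Subgroup G) ≠ 0 := Nat.card_pos.ne'
    have := Nat.eq_prime_pow_of_unique_prime_dvd hpos (p := q) (by
      intro r hr hd
      rcases prime_of_dvd_card hα₁ hj₁ hr (hd.trans (Subgroup.card_dvd_of_le inf_le_left)) with
        h1 | h1
      · rcases prime_of_dvd_card hα₂ hj₂ hr (hd.trans (Subgroup.card_dvd_of_le inf_le_right)) with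
          h2 | h2
        · exfalso
          haveI : Fact r.Prime := ⟨hr⟩
          exact (sigma_disjoint hG c.hM c.hN c.hnc' (alpha_subset_sigma hG c.hM h1)
            (alpha_subset_sigma hG c.hN h2)).1 h1
        · exact h2
      · exact h1)
    exact IsPGroup.of_card this
  have hTS : D₁ ⊓ D₂ = S := by
    apply eq_of_sylIn_of_normalizer c.hS (le_inf hS₁ hS₂) hT
    intro y hy _
    exact ⟨hD₁M hy.1, hD₂N hy.2⟩
  rw [← hTS]
  exact le_normalizer_inf' (inf_le_left.trans hMD₁) (inf_le_right.trans hND₂)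

/-- `D = N_G(S)` -/
theorem normalizer_eq (c : Cfg M N S q) (hG : IsMinSimpleOddOrder G) :
    Subgroup.normalizer (S : Set G) = M ⊓ N :=
  le_antisymm c.hNS (c.S_normal hG)

/-- `S ∩ M_β = 1` -/
theorem S_inf_beta (c : Cfg M N S q) (hG : IsMinSimpleOddOrder G) :
    S ⊓ piCoreOf (beta M) M = ⊥ := by
  apply (Subgroup.disjoint_of_coprime_natCard _).eq_bot
  apply Nat.coprime_of_dvd
  intro r hr h1 h2
  have h3 := isPiNum_card_piCoreOf (beta M) M r hr h2
  rw [prime_eq_of_dvd_card c.hSq hr h1] at h3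
  exact c.q_not_alpha hG h3.1

/-- `M_β ∩ D` centralizes `S` -/
theorem beta_inf_le_centralizer (c : Cfg M N S q) (hG : IsMinSimpleOddOrder G) :
    piCoreOf (beta M) M ⊓ (M ⊓ N) ≤ Subgroup.centralizer (S : Set G) := by
  apply le_centralizer_of_normalize
  · exact inf_le_right.trans (c.S_normal hG)
  · exact le_normalizer_inf' (c.hSM.trans (le_normalizer_piCoreOf (beta M) M))
      (c.hS.1.trans Subgroup.le_normalizer)
  · rw [inf_comm, ← inf_assoc, c.S_inf_beta hG, bot_inf_eq]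

/-- `M_β` is not contained in `D` (it does not centralize `S`) -/
theorem beta_not_le (c : Cfg M N S q) (hG : IsMinSimpleOddOrder G) :
    ¬ piCoreOf (beta M) M ≤ Subgroup.centralizer (S : Set G) := by
  intro h
  have h1 : piCoreOf (beta M) M ≤ M ⊓ N :=
    (h.trans (Subgroup.centralizer_le_normalizer _)).trans c.hNS
  have h2 : M ≤ M ⊓ N := (c.le_sup hG).trans (sup_le h1 le_rfl)
  exact c.hne (eq_of_coatom_le c.hM c.hN (h2.trans inf_le_right)).symm

end Cfg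

end Cfsg.Agent.Lib.Helper5.BG139
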