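import Mathlib
import Cfsg.Agent.Lib.Helper5.BG139b
import Cfsg.Agent.Lib.Lead.Coprime

set_option autoImplicit false
set_option linter.style.haveILetI false
set_option linter.unusedSectionVars false

/-! Bender–Glauberman Theorem 13.9: the complement inside `D = M ∩ N` and the regular action of
`E₁` on `S`. -/

namespace Cfsg.Agent.Lib.Helper5.BG139

open Cfsg Cfsg.Agent.Lib.Lead Cfsg.Agent.Lib.Lead.BG10 Cfsg.Agent.Lib.Helper7 Cfsg.Agent.Lib.Helper4
open Cfsg.Agent.Lib.Helper4.BG76 Cfsg.Agent.Lib.Helper4.BG8 Cfsg.Agent.Lib.Helper4.BG9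
open Cfsg.Agent.Lib.Helper4.BG7 Cfsg.Agent.Lib.Helper4.BG12 Cfsg.Agent.Lib.Helper4.BGConj
open Cfsg.Agent.Lib.Helper4.BG13 Cfsg.Agent.Lib.Lead.BG12q Cfsg.Agent.Lib.Lead.BG13q
open Cfsg.Agent.Lib.Helper4.BG18 Cfsg.Agent.Lib.Helper2.BG13x
open scoped commutatorElement

universe u

variable {G : Type u} [Group G] [Finite G]

namespace Cfg

variable {M N S : Subgroup G} {q : ℕ} [hq : Fact q.Prime]

/-- Step 2: a complement of `M_σ` in `M` inside `D = M ∩ N` -/
theorem exists_compl_le (c : Cfg M N S q) (hG : IsMinSimpleOddOrder G) :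
    ∃ E : Subgroup G, IsComplIn E (sigmaCore M) M ∧ E ≤ M ⊓ N := by
  have hsolv : Group.IsSolvable ↥M := solvable_of_ne_top hG c.hM.1
  obtain ⟨E₀, hE₀, -⟩ := exists_complIn_ge hG c.hM (A := ⊥) bot_le (by simp)
  obtain ⟨l, hl, hlE⟩ := exists_cj_le_of_supplement (L := M) (K := piCoreOf (beta M) M)
    (U := M ⊓ N) (Y := E₀) hsolv {r | r ∉ sigma M} (piCoreOf_le _ _) inf_le_left hE₀.1
    (c.le_sup hG) (le_normalizer_piCoreOf _ M)
    (fun p hp hd h => h (alpha_subset_sigma hG c.hM (isPiNum_card_piCoreOf (beta M) M p hp hd).1))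
    (fun p hp hd => not_sigma_of_dvd_card_compl hG c.hM hE₀ hp hd)
  refine ⟨cj l E₀, ?_, hlE⟩
  have h1 := isComplIn_cj l hE₀
  rw [cj_eq_self_of_mem hl] at h1
  have h2 : cj l (sigmaCore M) = sigmaCore M :=
    mem_normalizer_iff_cj.mp (le_normalizer_sigmaCore M hl)
  rwa [h2] at h1

/-- every element of `D ∩ M'` centralizes `S` -/
theorem inf_commutator_le_centralizer (c : Cfg M N S q) (hG : IsMinSimpleOddOrder G) :
    (M ⊓ N) ⊓ ⁅M, M⁆ ≤ Subgroup.centralizer (S : Set G) := by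
  have hSD' : S ≤ (M ⊓ N) ⊓ ⁅M, M⁆ := le_inf c.hS.1 (c.S_le_commutator hG)
  apply le_of_sylows
  intro r hr hd
  haveI : Fact r.Prime := ⟨hr⟩
  by_cases hrq : r = q
  · subst hrq
    refine ⟨S, c.hS.mono hSD' inf_le_left, ?_⟩
    intro s hs
    rw [Subgroup.mem_centralizer_iff]
    intro t ht
    have := (c.S_comm hG).is_comm.comm (⟨t, ht⟩ : S) ⟨s, hs⟩
    exact congrArg Subtype.val this
  · obtain ⟨Q, -, hQ⟩ := exists_sylIn_ge (p := r) (N := (M ⊓ N) ⊓ ⁅M, M⁆) (A := ⊥) bot_le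
      IsPGroup.of_bot
    refine ⟨Q, hQ, ?_⟩
    intro x hx
    rw [Subgroup.mem_centralizer_iff]
    intro s hs
    have hs' : s ∈ S := hs
    have hxD := hQ.1 hx
    have hxo : (orderOf x).Coprime q :=
      orderOf_coprime_of_isPGroup_zpowers hr hrq (isPGroup_zpowers_of_mem hQ.2.1 hx)
    have h1 : ⁅x, s⁆ ∈ alphaCore M :=
      commutatorElement_mem_alphaCore hG c.hM hxD.2 (c.S_le_commutator hG hs')
        (isPGroup_zpowers_of_mem c.hSq hs') hxo
    have h2 : ⁅x, s⁆ ∈ S := by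
      rw [commutatorElement_def]
      exact S.mul_mem ((Subgroup.mem_normalizer_iff.mp (c.S_normal hG hxD.1) s).mp hs')
        (S.inv_mem hs')
    have h3 : ⁅x, s⁆ ∈ S ⊓ piCoreOf (beta M) M := by
      refine ⟨h2, ?_⟩
      rw [← c.alpha_eq hG]
      exact h1
    rw [c.S_inf_beta hG, Subgroup.mem_bot, commutatorElement_eq_one_iff_mul_comm] at h3
    exact h3.symm

/-- `E = (E ∩ M') E₁` since `τ₂(M)` is empty -/
theorem compl_le_sup (c : Cfg M N S q) (hG : IsMinSimpleOddOrder G) {E E₁ : Subgroup G}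
    (hE : IsComplIn E (sigmaCore M) M) (hE₁ : IsPiHallOf (tau1 M) E₁ E) :
    E ≤ (E ⊓ ⁅M, M⁆) ⊔ E₁ := by
  apply le_of_sylows
  intro r hr hd
  haveI : Fact r.Prime := ⟨hr⟩
  have hrσ : r ∉ sigma M := not_sigma_of_dvd_card_compl hG c.hM hE hr hd
  have hrM : r ∣ Nat.card M := hd.trans (Subgroup.card_dvd_of_le hE.1)
  rcases sigma_or_tau hG c.hM hrM with h | h | h | h
  · exact absurd h hrσ
  · obtain ⟨T, -, hTE₁, hT, -⟩ := exists_sylIn_of_hall (p := r) hE₁.1 (hE₁.2.2 r hr h)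
      (z := 1) E₁.one_mem (by
        rw [Subgroup.zpowers_one_eq_bot]
        exact IsPGroup.of_bot)
    exact ⟨T, hT, hTE₁.trans le_sup_right⟩
  · rw [c.tau2_empty hG] at h
    exact absurd h (Set.notMem_empty r)
  · obtain ⟨Q, -, hQ⟩ := exists_sylIn_ge (p := r) (N := E) (A := ⊥) bot_le IsPGroup.of_bot
    exact ⟨Q, hQ, (le_inf hQ.1 (le_commutator_of_tau3 hG h (hQ.1.trans hE.1) hQ.2.1)).trans
      le_sup_left⟩

/-- `D = (D ∩ M') E₁` -/
theorem inf_le_sup (c : Cfg M N S q) (hG : IsMinSimpleOddOrder G) {E E₁ : Subgroup G}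
    (hE : IsComplIn E (sigmaCore M) M) (hED : E ≤ M ⊓ N) (hE₁ : IsPiHallOf (tau1 M) E₁ E) :
    M ⊓ N ≤ ((M ⊓ N) ⊓ ⁅M, M⁆) ⊔ E₁ := by
  intro d hd
  obtain ⟨a, ha, b, hb, rfl⟩ := hE.2.2.2 d hd.1
  have hbD : b ∈ M ⊓ N := by
    have : b = a⁻¹ * (a * b) := by group
    rw [this]
    exact (M ⊓ N).mul_mem ((M ⊓ N).inv_mem (hED ha)) hd
  apply Subgroup.mul_mem
  · have h1 := c.compl_le_sup hG hE hE₁ ha
    exact (sup_le_sup_right (inf_le_inf_right _ hED) E₁) h1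
  · exact Subgroup.mem_sup_left ⟨hbD, sigmaCore_le_commutator hG c.hM hb⟩

/-- `C_S(E₁) = 1` -/
theorem S_inf_centralizer_eq_bot (c : Cfg M N S q) (hG : IsMinSimpleOddOrder G) {E E₁ : Subgroup G}
    (hE : IsComplIn E (sigmaCore M) M) (hED : E ≤ M ⊓ N) (hE₁ : IsPiHallOf (tau1 M) E₁ E) :
    S ⊓ Subgroup.centralizer (E₁ : Set G) = ⊥ := by
  have hsolvD : Group.IsSolvable ↥(M ⊓ N : Subgroup G) :=
    solvable_of_ne_top hG (fun h => c.hM.1 (eq_top_iff.mpr (h ▸ inf_le_left)))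
  -- a complement `V` of `S` in `D`
  obtain ⟨V, hV, -⟩ := exists_hall_ge (K := M ⊓ N) (U := ⊥) hsolvD {r | r ≠ q} bot_le (by
    intro p hp hd
    rw [Subgroup.card_bot] at hd
    exact absurd (Nat.dvd_one.mp hd) hp.one_lt.ne')
  have hVN : V ≤ Subgroup.normalizer (S : Set G) := hV.1.trans (c.S_normal hG)
  have hinf : S ⊓ V = ⊥ := by
    apply (Subgroup.disjoint_of_coprime_natCard _).eq_bot
    apply Nat.coprime_of_dvd
    intro r hr h1 h2
    exact hV.2.1 r hr h2 (prime_eq_of_dvd_card c.hSq hr h1)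
  have hDle : M ⊓ N ≤ S ⊔ V := by
    apply le_of_sylows
    intro r hr hd
    haveI : Fact r.Prime := ⟨hr⟩
    by_cases hrq : r = q
    · subst hrq
      exact ⟨S, c.hS, le_sup_left⟩
    · obtain ⟨T, -, hTV, hT, -⟩ := exists_sylIn_of_hall (p := r) hV.1 (hV.2.2 r hr hrq)
        (z := 1) V.one_mem (by
          rw [Subgroup.zpowers_one_eq_bot]
          exact IsPGroup.of_bot)
      exact ⟨T, hT, hTV.trans le_sup_right⟩
  obtain ⟨T, hT⟩ := (sigmaData_of_sylIn c.hM (c.q_sigma hG) c.sylIn_M).hPsyl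
  have hcomm : S = ⁅S, V⁆ := by
    have h1 := (sylow_eq_commutator hG T (V := V) (by rw [hT]; exact hVN) (by rw [hT]; exact hinf)
      (by
        intro m hm
        rw [hT] at hm ⊢
        exact exists_mul_of_mem_sup hVN (hDle (c.hNS hm)))).1
    rw [hT] at h1
    exact h1
  haveI := c.S_comm hG
  have hcop : (Nat.card V).Coprime (Nat.card S) := by
    apply Nat.coprime_of_dvd
    intro r hr h1 h2
    exact hV.2.1 r hr h1 (prime_eq_of_dvd_card c.hSq hr h2)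
  have h2 := (coprime_abelian_decomp V S hVN hcop).1
  rw [← hcomm, inf_eq_left.mpr inf_le_left] at h2
  -- elements of `C_S(E₁)` are centralized by `V`
  rw [eq_bot_iff]
  intro z hz
  rw [← h2]
  refine ⟨hz.1, ?_⟩
  show z ∈ Subgroup.centralizer (V : Set G)
  have hle : M ⊓ N ≤ Subgroup.centralizer ({z} : Set G) := by
    apply (c.inf_le_sup hG hE hED hE₁).trans
    apply sup_le
    · exact (c.inf_commutator_le_centralizer hG).trans
        (Subgroup.centralizer_le (Set.singleton_subset_iff.mpr hz.1))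
    · intro e he
      rw [Subgroup.mem_centralizer_iff]
      intro y hy
      rw [Set.mem_singleton_iff] at hy
      subst hy
      exact ((Subgroup.mem_centralizer_iff.mp hz.2) e he).symm
  rw [Subgroup.mem_centralizer_iff]
  intro v hv
  have := hle (hV.1 hv)
  rw [Subgroup.mem_centralizer_iff] at this
  exact (this z rfl).symm

/-- `E₁ ≠ 1` -/
theorem E₁_ne_bot (c : Cfg M N S q) (hG : IsMinSimpleOddOrder G) {E E₁ : Subgroup G}
    (hE : IsComplIn E (sigmaCore M) M) (hED : E ≤ M ⊓ N) (hE₁ : IsPiHallOf (tau1 M) E₁ E) :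
    E₁ ≠ ⊥ := by
  intro h
  have h1 := c.S_inf_centralizer_eq_bot hG hE hED hE₁
  rw [h] at h1
  have h2 : Subgroup.centralizer (((⊥ : Subgroup G) : Subgroup G) : Set G) = ⊤ := by
    simp
  rw [h2, inf_top_eq] at h1
  exact c.S_ne_bot h1

/-- every non-identity element of `E₁` acts fixed-point-freely on `S` (uses Theorem 13.5) -/
theorem fpf (c : Cfg M N S q) (hG : IsMinSimpleOddOrder G) (h1428 : T1428 G) {E E₁ : Subgroup G}
    (hE : IsComplIn E (sigmaCore M) M) (hED : E ≤ M ⊓ N) (hE₁ : IsPiHallOf (tau1 M) E₁ E)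
    {x : G} (hx : x ∈ E₁) (hx1 : x ≠ 1) : S ⊓ Subgroup.centralizer ({x} : Set G) = ⊥ := by
  rw [eq_bot_iff, ← c.S_inf_centralizer_eq_bot hG hE hED hE₁]
  have h1 := lemma_13_5 hG h1428 c.hM hE hE₁ x hx hx1
  intro z hz
  have h2 : z ∈ sigmaCore M ⊓ Subgroup.centralizer ({x} : Set G) := ⟨c.S_le_sigmaCore hG hz.1, hz.2⟩
  rw [h1] at h2
  exact ⟨hz.1, h2.2⟩

end Cfg

end Cfsg.Agent.Lib.Helper5.BG139
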