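import Mathlib
import Cfsg.Agent.Lib.Helper5.BG139c
import Cfsg.Agent.S1545
import Cfsg.Agent.Lib.Helper4.ZP22

set_option autoImplicit false
set_option linter.style.haveILetI false
set_option linter.unusedSectionVars false

/-! Bender–Glauberman Theorem 13.9: the pointed configuration (a subgroup `P` of prime order
`p ∈ τ₁(M) ∩ τ₁(N)` of `M ∩ N` acting fixed-point-freely on `S`) and the Frobenius step. -/

namespace Cfsg.Agent.Lib.Helper5.BG139

open Cfsg Cfsg.Agent.Lib.Lead Cfsg.Agent.Lib.Lead.BG10 Cfsg.Agent.Lib.Helper7 Cfsg.Agent.Lib.Helper4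
open Cfsg.Agent.Lib.Helper4.BG76 Cfsg.Agent.Lib.Helper4.BG8 Cfsg.Agent.Lib.Helper4.BG9
open Cfsg.Agent.Lib.Helper4.BG7 Cfsg.Agent.Lib.Helper4.BG12 Cfsg.Agent.Lib.Helper4.BGConj
open Cfsg.Agent.Lib.Helper4.BG13 Cfsg.Agent.Lib.Lead.BG12q Cfsg.Agent.Lib.Lead.BG13q
open Cfsg.Agent.Lib.Helper4.BG18 Cfsg.Agent.Lib.Helper2.BG13x
open scoped commutatorElement

universe u

variable {G : Type u} [Group G] [Finite G]

/-- the pointed configuration -/
structure PCfg (M N S P : Subgroup G) (q p : ℕ) : Prop where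
  cfg : Cfg M N S q
  hP : Nat.card P = p
  hPD : P ≤ M ⊓ N
  hpM : p ∈ tau1 M
  hpN : p ∈ tau1 N
  hfpf : S ⊓ Subgroup.centralizer (P : Set G) = ⊥

namespace PCfg

variable {M N S P : Subgroup G} {q p : ℕ}

theorem symm (c : PCfg M N S P q p) : PCfg N M S P q p :=
  ⟨c.cfg.symm, c.hP, by rw [inf_comm]; exact c.hPD, c.hpN, c.hpM, c.hfpf⟩

theorem pprime (c : PCfg M N S P q p) : p.Prime := c.hpM.1

theorem hPp (c : PCfg M N S P q p) : IsPGroup p ↥P := isPGroup_of_card_eq c.hP

theorem hP1 (c : PCfg M N S P q p) : P ≠ ⊥ := ne_bot_of_card_prime (c.hP ▸ c.pprime)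

theorem hPM (c : PCfg M N S P q p) : P ≤ M := c.hPD.trans inf_le_left

theorem hPN (c : PCfg M N S P q p) : P ≤ N := c.hPD.trans inf_le_right

theorem hpσM (c : PCfg M N S P q p) : p ∉ sigma M := c.hpM.2.1

theorem hpσN (c : PCfg M N S P q p) : p ∉ sigma N := c.hpN.2.1

end PCfg

namespace Cfg

variable {M N S : Subgroup G} {q : ℕ} [hq : Fact q.Prime]

/-- existence of the pointed configuration (Steps 2-3) -/
theorem exists_pcfg (c : Cfg M N S q) (hG : IsMinSimpleOddOrder G) (h1428 : T1428 G) :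
    ∃ (P : Subgroup G) (p : ℕ), PCfg M N S P q p := by
  obtain ⟨E, hE, hED⟩ := c.exists_compl_le hG
  have hsolvE : Group.IsSolvable ↥E :=
    solvable_of_ne_top hG (fun h => c.hM.1 (eq_top_iff.mpr (h ▸ hE.1)))
  obtain ⟨E₁, hE₁, -⟩ := exists_hall_ge (K := E) (U := ⊥) hsolvE (tau1 M) bot_le (by
    intro p hp hd
    rw [Subgroup.card_bot] at hd
    exact absurd (Nat.dvd_one.mp hd) hp.one_lt.ne')
  have hE₁1 := c.E₁_ne_bot hG hE hED hE₁
  have hcard : Nat.card E₁ ≠ 1 := fun h => hE₁1 (Subgroup.card_eq_one.mp h)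
  obtain ⟨p, hp, hpd⟩ := Nat.exists_prime_and_dvd hcard
  haveI : Fact p.Prime := ⟨hp⟩
  obtain ⟨x, hx⟩ := exists_prime_orderOf_dvd_card' p hpd
  have hxE₁ : (x : G) ∈ E₁ := x.2
  have hx1 : (x : G) ≠ 1 := by
    intro h
    have h2 : x = 1 := Subtype.ext h
    rw [h2, orderOf_one] at hx
    exact hp.one_lt.ne' hx.symm
  have hxo : orderOf (x : G) = p := by rw [Subgroup.orderOf_coe, hx]
  have hPc : Nat.card (Subgroup.zpowers (x : G)) = p := by rw [Nat.card_zpowers, hxo]
  have hPD : Subgroup.zpowers (x : G) ≤ M ⊓ N := Subgroup.zpowers_le.mpr (hED (hE₁.1 hxE₁))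
  have hcent : Subgroup.centralizer ((Subgroup.zpowers (x : G) : Subgroup G) : Set G) =
      Subgroup.centralizer ({(x : G)} : Set G) := centralizer_zpowers (x : G)
  have hfpf := c.fpf hG h1428 hE hED hE₁ hxE₁ hx1
  have hpM : p ∈ tau1 M := hE₁.2.1 p hp hpd
  refine ⟨Subgroup.zpowers (x : G), p, c, hPc, hPD, hpM, ?_, by rw [hcent]; exact hfpf⟩
  rcases c.symm.tau1_sub hG p hpM with h | h
  · exact h
  · exfalso
    have hpσN : p ∈ sigma N := alpha_subset_sigma hG c.hN h.1
    have h1 : S ≤ Subgroup.centralizer ((Subgroup.zpowers (x : G) : Subgroup G) : Set G) :=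
      le_centralizer_of_sigma hG c.hN c.hM c.hnc hpσN hpM.2.1 (hPD.trans inf_le_right)
        (isPGroup_of_card_eq hPc) (c.symm.S_le_commutator hG) (c.S_le_sigmaCore hG)
        (hPD.trans (c.S_normal hG))
    rw [hcent] at h1
    rw [inf_eq_left.mpr h1] at hfpf
    exact c.S_ne_bot hfpf

end Cfg

namespace PCfg

variable {M N S P : Subgroup G} {q p : ℕ} [hq : Fact q.Prime]

theorem p_ne_q (c : PCfg M N S P q p) (hG : IsMinSimpleOddOrder G) : p ≠ q := by
  intro h
  exact c.hpσM (h ▸ c.cfg.q_sigma hG)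

theorem p_not_beta (c : PCfg M N S P q p) (hG : IsMinSimpleOddOrder G) : p ∉ beta M :=
  fun h => c.hpσM (alpha_subset_sigma hG c.cfg.hM h.1)

/-- the order of `S ⊔ P` divides `|S| p` -/
theorem card_sup_dvd (c : PCfg M N S P q p) (hG : IsMinSimpleOddOrder G) :
    Nat.card ↥(S ⊔ P : Subgroup G) ∣ Nat.card S * p := by
  have h1 := card_sup_mul_card_inf P S (c.hPD.trans (c.cfg.S_normal hG))
  rw [sup_comm] at h1
  rw [← c.hP, mul_comm (Nat.card S), ← h1]
  exact Dvd.intro _ rfl

/-- `|M_β|` is coprime to `|S ⊔ P|` -/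
theorem coprime_beta (c : PCfg M N S P q p) (hG : IsMinSimpleOddOrder G) :
    (Nat.card (piCoreOf (beta M) M)).Coprime (Nat.card ↥(S ⊔ P : Subgroup G)) := by
  apply Nat.Coprime.coprime_dvd_right (c.card_sup_dvd hG)
  apply Nat.coprime_of_dvd
  intro r hr h1 h2
  have h3 := isPiNum_card_piCoreOf (beta M) M r hr h1
  rcases (Nat.Prime.dvd_mul hr).mp h2 with h | h
  · rw [prime_eq_of_dvd_card c.cfg.hSq hr h] at h3
    exact c.cfg.q_not_alpha hG h3.1
  · rw [(Nat.prime_dvd_prime_iff_eq hr c.pprime).mp h] at h3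
    exact c.p_not_beta hG h3

/-- Step 4 (Frobenius): `C_{M_β}(P)` does not centralize `S` -/
theorem frob (c : PCfg M N S P q p) (hG : IsMinSimpleOddOrder G) :
    ¬ piCoreOf (beta M) M ⊓ Subgroup.centralizer (P : Set G) ≤ Subgroup.centralizer (S : Set G) := by
  intro hle
  have hPN : P ≤ Subgroup.normalizer (S : Set G) := c.hPD.trans (c.cfg.S_normal hG)
  have hsolv : Group.IsSolvable ↥(piCoreOf (beta M) M) :=
    solvable_of_ne_top hG (fun h => c.cfg.hM.1 (eq_top_iff.mpr (h ▸ piCoreOf_le _ _)))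
  have hform := Cfsg.Agent.Lib.Lead.FF.s1545 S P (piCoreOf (beta M) M)
    (fun e he u hu => (Subgroup.mem_normalizer_iff.mp (hPN he) u).mp hu)
    (by
      intro e he he1 u hu heu
      have h1 := ZP.centralizer_singleton_eq P (c.hP ▸ c.pprime) e he he1
      have h2 : u ∈ S ⊓ Subgroup.centralizer (P : Set G) := by
        refine ⟨hu, ?_⟩
        rw [← h1]
        exact Subgroup.mem_centralizer_singleton_iff.mpr heu.symm
      rw [c.hfpf, Subgroup.mem_bot] at h2
      exact h2)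
    (by
      intro x hx h hh
      have hxM : x ∈ M := (sup_le c.cfg.hSM c.hPM) hx
      exact (Subgroup.mem_normalizer_iff.mp (le_normalizer_piCoreOf (beta M) M hxM) h).mp hh)
    hsolv (c.coprime_beta hG)
  -- `C_{M_β}(P) = C_{M_β}(S P)`
  have heq : piCoreOf (beta M) M ⊓ Subgroup.centralizer ((S ⊔ P : Subgroup G) : Set G) =
      piCoreOf (beta M) M ⊓ Subgroup.centralizer (P : Set G) := by
    apply le_antisymm
    · exact inf_le_inf_left _ (Subgroup.centralizer_le (by exact_mod_cast (le_sup_right : P ≤ S ⊔ P)))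
    · intro x hx
      refine ⟨hx.1, ?_⟩
      have h1 : S ⊔ P ≤ Subgroup.centralizer ({x} : Set G) := by
        apply sup_le
        · intro s hs
          rw [Subgroup.mem_centralizer_singleton_iff]
          exact (Subgroup.mem_centralizer_iff.mp (hle hx) s hs)
        · intro e he
          rw [Subgroup.mem_centralizer_singleton_iff]
          exact (Subgroup.mem_centralizer_iff.mp hx.2 e he)
      show x ∈ Subgroup.centralizer ((S ⊔ P : Subgroup G) : Set G)
      rw [Subgroup.mem_centralizer_iff]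
      intro y hy
      have := h1 hy
      rw [Subgroup.mem_centralizer_singleton_iff] at this
      exact this
  rw [heq] at hform
  have hpos : 0 < Nat.card ↥(piCoreOf (beta M) M ⊓ Subgroup.centralizer (P : Set G) : Subgroup G) ^
      Nat.card P := pow_pos Nat.card_pos _
  have h2 := Nat.eq_of_mul_eq_mul_left hpos hform
  have h3 : piCoreOf (beta M) M ⊓ Subgroup.centralizer (S : Set G) = piCoreOf (beta M) M :=
    Subgroup.eq_of_le_of_card_ge inf_le_left h2.le
  exact c.cfg.beta_not_le hG (inf_eq_left.mp h3)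

end PCfg

end Cfsg.Agent.Lib.Helper5.BG139
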