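import Mathlib
import Cfsg.Agent.Lib.Helper5.BG139d

set_option autoImplicit false
set_option linter.style.haveILetI false
set_option linter.unusedSectionVars false

/-! Bender–Glauberman Theorem 13.9, Step 5: `C_{M_β}(P) ∩ D = 1`. -/

namespace Cfsg.Agent.Lib.Helper5.BG139

open Cfsg Cfsg.Agent.Lib.Lead Cfsg.Agent.Lib.Lead.BG10 Cfsg.Agent.Lib.Helper7 Cfsg.Agent.Lib.Helper4
open Cfsg.Agent.Lib.Helper4.BG76 Cfsg.Agent.Lib.Helper4.BG8 Cfsg.Agent.Lib.Helper4.BG9
open Cfsg.Agent.Lib.Helper4.BG7 Cfsg.Agent.Lib.Helper4.BG12 Cfsg.Agent.Lib.Helper4.BGConj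
open Cfsg.Agent.Lib.Helper4.BG13 Cfsg.Agent.Lib.Lead.BG12q Cfsg.Agent.Lib.Lead.BG13q
open Cfsg.Agent.Lib.Helper4.BG18 Cfsg.Agent.Lib.Helper2.BG13x
open scoped commutatorElement

universe u

variable {G : Type u} [Group G] [Finite G]

/-- a subgroup that is not trivial contains a subgroup of prime order -/
theorem exists_prime_card_le {K : Subgroup G} (hK : K ≠ ⊥) :
    ∃ (X : Subgroup G) (b : ℕ), b.Prime ∧ X ≤ K ∧ Nat.card X = b := by
  have hcard : Nat.card K ≠ 1 := fun h => hK (Subgroup.card_eq_one.mp h)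
  obtain ⟨b, hb, hbd⟩ := Nat.exists_prime_and_dvd hcard
  haveI : Fact b.Prime := ⟨hb⟩
  obtain ⟨x, hx⟩ := exists_prime_orderOf_dvd_card' b hbd
  refine ⟨Subgroup.zpowers (x : G), b, hb, Subgroup.zpowers_le.mpr x.2, ?_⟩
  rw [Nat.card_zpowers, Subgroup.orderOf_coe, hx]

namespace PCfg

variable {M N S P : Subgroup G} {q p : ℕ} [hq : Fact q.Prime]

/-- a subgroup `X` of prime order of `M_β` is a `σ(N)'`-group -/
theorem not_sigma_of_le_beta (c : PCfg M N S P q p) (hG : IsMinSimpleOddOrder G) {X : Subgroup G}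
    {b : ℕ} (hb : b.Prime) (hXb : Nat.card X = b) (hXβ : X ≤ piCoreOf (beta M) M) (hXN : X ≤ N) :
    b ∈ beta M ∧ b ∉ sigma N := by
  have hbβ : b ∈ beta M := by
    apply isPiNum_card_piCoreOf (beta M) M b hb
    rw [← hXb]
    exact Subgroup.card_dvd_of_le hXβ
  refine ⟨hbβ, ?_⟩
  intro hbσ
  have h1 : X ≤ sigmaCore N := by
    apply le_sigmaCore_of_piNum hG c.cfg.hN hXN
    intro r hr hd
    rw [hXb] at hd
    rwa [(Nat.prime_dvd_prime_iff_eq hr hb).mp hd]
  have h2 : X ≤ alphaCore M := by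
    have : alphaCore M = piCoreOf (beta M) M := by
      rw [← c.cfg.alpha_eq hG]
      rfl
    rw [this]
    exact hXβ
  have h3 := alphaCore_inf_sigmaCore hG c.cfg.hM c.cfg.hN c.cfg.hnc'
  have h4 : X = ⊥ := by
    rw [eq_bot_iff, ← h3]
    exact le_inf h2 h1
  rw [h4, Subgroup.card_bot] at hXb
  exact hb.one_lt.ne' hXb.symm

/-- Step 5: `C_{M_β}(P) ∩ D = 1` -/
theorem beta_inf_eq_bot (c : PCfg M N S P q p) (hG : IsMinSimpleOddOrder G) (h1428 : T1428 G) :
    (piCoreOf (beta M) M ⊓ Subgroup.centralizer (P : Set G)) ⊓ (M ⊓ N) = ⊥ := by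
  by_contra hne
  obtain ⟨X, b, hb, hXle, hXb⟩ := exists_prime_card_le hne
  haveI : Fact b.Prime := ⟨hb⟩
  have hXβ : X ≤ piCoreOf (beta M) M := hXle.trans (inf_le_left.trans inf_le_left)
  have hXP : X ≤ Subgroup.centralizer (P : Set G) := hXle.trans (inf_le_left.trans inf_le_right)
  have hXM : X ≤ M := hXle.trans (inf_le_right.trans inf_le_left)
  have hXN : X ≤ N := hXle.trans (inf_le_right.trans inf_le_right)
  obtain ⟨hbβ, hbσN⟩ := c.not_sigma_of_le_beta hG hb hXb hXβ hXN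
  have hbσM : b ∈ sigma M := alpha_subset_sigma hG c.cfg.hM hbβ.1
  obtain ⟨P₀⟩ := (inferInstance : Nonempty (Sylow b ↥(sigmaCore M)))
  have hCX := (corollary_12_14 hG M c.cfg.hM b hbσM X hXM hXb P₀ (Or.inl hbβ)).1.1
  -- `X P` is a `σ(N)'`-subgroup of `N`
  have hPX : P ≤ Subgroup.normalizer (X : Set G) := by
    intro e he
    apply Subgroup.centralizer_le_normalizer
    rw [Subgroup.mem_centralizer_iff]
    intro x hx
    exact ((Subgroup.mem_centralizer_iff.mp (hXP hx)) e he).symm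
  have hcop : (Nat.card ↥(X ⊔ P : Subgroup G)).Coprime (Nat.card (sigmaCore N)) := by
    have h1 := card_sup_mul_card_inf P X hPX
    rw [sup_comm] at h1
    have h2 : Nat.card ↥(X ⊔ P : Subgroup G) ∣ p * b := by
      rw [← c.hP, ← hXb, ← h1]
      exact Dvd.intro _ rfl
    apply Nat.Coprime.coprime_dvd_left h2
    apply Nat.coprime_of_dvd
    intro r hr h3 h4
    have h5 := (sigmaCore_hall hG c.cfg.hN).1.2.1 r hr h4
    rcases (Nat.Prime.dvd_mul hr).mp h3 with h | h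
    · rw [(Nat.prime_dvd_prime_iff_eq hr c.pprime).mp h] at h5
      exact c.hpσN h5
    · rw [(Nat.prime_dvd_prime_iff_eq hr hb).mp h] at h5
      exact hbσN h5
  obtain ⟨E', hE', hAE'⟩ := exists_complIn_ge hG c.cfg.hN (sup_le hXN c.hPN) hcop
  have h134 := h1428 N c.cfg.hN E' hE' p c.hpN P (le_sup_right.trans hAE') c.hP X
    (le_inf (le_sup_left.trans hAE') hXP) (hXb ▸ hb)
  apply c.symm.frob hG
  intro x hx
  have h1 : x ∈ sigmaCore N ⊓ Subgroup.centralizer (P : Set G) :=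
    ⟨piCoreOf_beta_le_sigmaCore hG c.cfg.hN hx.1, hx.2⟩
  have h2 := (h134 h1).2
  have h3 : x ∈ M := by
    apply hCX
    rw [Subgroup.mem_centralizer_iff]
    intro y hy
    exact ((Subgroup.mem_centralizer_iff.mp h2) y hy)
  exact c.cfg.symm.beta_inf_le_centralizer hG ⟨hx.1, piCoreOf_le _ _ hx.1, h3⟩

end PCfg

end Cfsg.Agent.Lib.Helper5.BG139
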