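import Mathlib
import Cfsg.Agent.Lib.Helper5.BG139e
import Cfsg.Agent.Lib.Helper2.BG13x6

set_option autoImplicit false
set_option linter.style.haveILetI false
set_option linter.unusedSectionVars false

/-! Bender–Glauberman Theorem 13.9, Step 7: two subgroups of prime orders in `τ₁(H) ∪ τ₃(H)` of a
maximal subgroup `H`: a conjugate of one of them normalizes the other. -/

namespace Cfsg.Agent.Lib.Helper5.BG139

open Cfsg Cfsg.Agent.Lib.Lead Cfsg.Agent.Lib.Lead.BG10 Cfsg.Agent.Lib.Helper7 Cfsg.Agent.Lib.Helper4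
open Cfsg.Agent.Lib.Helper4.BG76 Cfsg.Agent.Lib.Helper4.BG8 Cfsg.Agent.Lib.Helper4.BG9
open Cfsg.Agent.Lib.Helper4.BG7 Cfsg.Agent.Lib.Helper4.BG12 Cfsg.Agent.Lib.Helper4.BGConj
open Cfsg.Agent.Lib.Helper4.BG13 Cfsg.Agent.Lib.Lead.BG12q Cfsg.Agent.Lib.Lead.BG13q
open Cfsg.Agent.Lib.Helper4.BG18 Cfsg.Agent.Lib.Helper2.BG13x
open scoped commutatorElement

universe u

variable {G : Type u} [Group G] [Finite G]

/-- a subgroup of prime order `b ∉ σ(H)` has order coprime to `|H_σ|` -/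
theorem coprime_sigmaCore_of_card_prime (hG : IsMinSimpleOddOrder G) {H X : Subgroup G}
    (hH : IsCoatom H) {b : ℕ} (hb : b.Prime) (hXb : Nat.card X = b) (hbσ : b ∉ sigma H) :
    (Nat.card X).Coprime (Nat.card (sigmaCore H)) := by
  rw [hXb]
  apply (Nat.Prime.coprime_iff_not_dvd hb).mpr
  intro hd
  exact hbσ ((sigmaCore_hall hG hH).1.2.1 b hb hd)

/-- the prime divisors of the order of a group of prime order -/
theorem prime_dvd_card_prime {X : Subgroup G} {b : ℕ} (hb : b.Prime) (hXb : Nat.card X = b)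
    {r : ℕ} (hr : r.Prime) (hd : r ∣ Nat.card X) : r = b := by
  rw [hXb] at hd
  exact (Nat.prime_dvd_prime_iff_eq hr hb).mp hd

/-- Step 7, case `c ∈ τ₃(H)` -/
theorem exists_cj_le_normalizer_of_tau3 (hG : IsMinSimpleOddOrder G) {H X Y : Subgroup G}
    (hH : IsCoatom H) (hXH : X ≤ H) (hYH : Y ≤ H) {b c : ℕ} (hb : b.Prime) (hc : c.Prime)
    (hXb : Nat.card X = b) (hYc : Nat.card Y = c) (hbσ : b ∉ sigma H) (hcτ : c ∈ tau3 H) :
    ∃ h ∈ H, cj h X ≤ Subgroup.normalizer (Y : Set G) := by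
  have hsolv : Group.IsSolvable ↥H := solvable_of_ne_top hG hH.1
  obtain ⟨E, hE, hYE⟩ := exists_complIn_ge hG hH hYH
    (coprime_sigmaCore_of_card_prime hG hH hc hYc hcτ.2.1)
  have hsolvE : Group.IsSolvable ↥E := solvable_of_ne_top hG (ne_top_of_le_ne_top hH.1 hE.1)
  obtain ⟨E₃, hE₃, hYE₃⟩ := exists_hall_ge hsolvE (tau3 H) hYE
    (fun r hr hd => by rw [prime_dvd_card_prime hc hYc hr hd]; exact hcτ)
  obtain ⟨hcyc, -, hEn⟩ := tau3_hall_structure hG hH hE hE₃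
  have h1 : E ≤ Subgroup.normalizer (Y : Set G) :=
    hEn.trans (normalizer_le_normalizer_of_cyclic hcyc hYE₃)
  obtain ⟨k, hk, hkX⟩ := exists_cj_le_hall hsolv {r | r ∉ sigma H}
    (isPiHallOf_of_isComplIn hG hH hE) hXH
    (fun r hr hd => by rw [prime_dvd_card_prime hb hXb hr hd]; exact hbσ)
  exact ⟨k, hk, hkX.trans h1⟩

/-- Step 7, case `b, c ∈ τ₁(H)` -/
theorem exists_cj_le_normalizer_of_tau1 (hG : IsMinSimpleOddOrder G) {H X Y : Subgroup G}
    (hH : IsCoatom H) (hXH : X ≤ H) (hYH : Y ≤ H) {b c : ℕ} (hb : b.Prime) (hc : c.Prime)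
    (hXb : Nat.card X = b) (hYc : Nat.card Y = c) (hbτ : b ∈ tau1 H) (hcτ : c ∈ tau1 H) :
    ∃ h ∈ H, cj h X ≤ Subgroup.normalizer (Y : Set G) := by
  have hsolv : Group.IsSolvable ↥H := solvable_of_ne_top hG hH.1
  obtain ⟨E, hE, hYE⟩ := exists_complIn_ge hG hH hYH
    (coprime_sigmaCore_of_card_prime hG hH hc hYc hcτ.2.1)
  have hsolvE : Group.IsSolvable ↥E := solvable_of_ne_top hG (ne_top_of_le_ne_top hH.1 hE.1)
  obtain ⟨E₁, hE₁, hYE₁⟩ := exists_hall_ge hsolvE (tau1 H) hYE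
    (fun r hr hd => by rw [prime_dvd_card_prime hc hYc hr hd]; exact hcτ)
  have hcyc : IsCyclic ↥E₁ := tau1_hall_cyclic hG hH hE hE₁
  obtain ⟨k, hk, hkX⟩ := exists_cj_le_hall hsolv {r | r ∉ sigma H}
    (isPiHallOf_of_isComplIn hG hH hE) hXH
    (fun r hr hd => by rw [prime_dvd_card_prime hb hXb hr hd]; exact hbτ.2.1)
  obtain ⟨e, he, heX⟩ := exists_cj_le_hall hsolvE (tau1 H) hE₁ hkX
    (fun r hr hd => by
      rw [card_cj] at hd
      rw [prime_dvd_card_prime hb hXb hr hd]; exact hbτ)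
  refine ⟨e * k, H.mul_mem (hE.1 he) hk, ?_⟩
  rw [cj_mul]
  refine heX.trans ?_
  exact (Subgroup.le_normalizer).trans (normalizer_le_normalizer_of_cyclic hcyc hYE₁)

/-- Step 7 -/
theorem exists_cj_le_normalizer (hG : IsMinSimpleOddOrder G) {H X Y : Subgroup G}
    (hH : IsCoatom H) (hXH : X ≤ H) (hYH : Y ≤ H) {b c : ℕ} (hb : b.Prime) (hc : c.Prime)
    (hXb : Nat.card X = b) (hYc : Nat.card Y = c) (hbτ : b ∈ tau1 H ∨ b ∈ tau3 H)
    (hcτ : c ∈ tau1 H ∨ c ∈ tau3 H) :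
    ∃ h ∈ H, cj h X ≤ Subgroup.normalizer (Y : Set G) ∨
      cj h Y ≤ Subgroup.normalizer (X : Set G) := by
  rcases hcτ with hc1 | hc3
  · rcases hbτ with hb1 | hb3
    · obtain ⟨h, hh, h1⟩ := exists_cj_le_normalizer_of_tau1 hG hH hXH hYH hb hc hXb hYc hb1 hc1
      exact ⟨h, hh, Or.inl h1⟩
    · obtain ⟨h, hh, h1⟩ := exists_cj_le_normalizer_of_tau3 hG hH hYH hXH hc hb hYc hXb hc1.2.1 hb3
      exact ⟨h, hh, Or.inr h1⟩
  · have hbσ : b ∉ sigma H := by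
      rcases hbτ with h | h
      · exact h.2.1
      · exact h.2.1
    obtain ⟨h, hh, h1⟩ := exists_cj_le_normalizer_of_tau3 hG hH hXH hYH hb hc hXb hYc hbσ hc3
    exact ⟨h, hh, Or.inl h1⟩

end Cfsg.Agent.Lib.Helper5.BG139
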