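import Mathlib
import Cfsg.Agent.Lib.Helper5.BG139f

set_option autoImplicit false
set_option linter.style.haveILetI false
set_option linter.unusedSectionVars false

/-! Bender–Glauberman Theorem 13.9, Steps 6 and 8. -/

namespace Cfsg.Agent.Lib.Helper5.BG139

open Cfsg Cfsg.Agent.Lib.Lead Cfsg.Agent.Lib.Lead.BG10 Cfsg.Agent.Lib.Helper7 Cfsg.Agent.Lib.Helper4
open Cfsg.Agent.Lib.Helper4.BG76 Cfsg.Agent.Lib.Helper4.BG8 Cfsg.Agent.Lib.Helper4.BG9
open Cfsg.Agent.Lib.Helper4.BG7 Cfsg.Agent.Lib.Helper4.BG12 Cfsg.Agent.Lib.Helper4.BGConj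
open Cfsg.Agent.Lib.Helper4.BG13 Cfsg.Agent.Lib.Lead.BG12q Cfsg.Agent.Lib.Lead.BG13q
open Cfsg.Agent.Lib.Helper4.BG18 Cfsg.Agent.Lib.Helper2.BG13x
open scoped commutatorElement

universe u

variable {G : Type u} [Group G] [Finite G]

/-- non-conjugacy is symmetric -/
theorem nonconj_symm {M H : Subgroup G} (h : ∀ g : G, H ≠ cj g M) : ∀ g : G, M ≠ cj g H := by
  intro g hg
  apply h g⁻¹
  rw [hg, cj_inv_cj]

/-- a prime of `α(M)` is not in `σ(L)` for `L` not conjugate to `M` -/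
theorem not_sigma_of_alpha (hG : IsMinSimpleOddOrder G) {M L : Subgroup G} (hM : IsCoatom M)
    (hL : IsCoatom L) (hnc : ∀ g : G, M ≠ cj g L) {b : ℕ} (hbα : b ∈ alpha M) : b ∉ sigma L := by
  intro hbσ
  haveI : Fact b.Prime := ⟨hbα.1⟩
  exact (sigma_disjoint hG hM hL hnc (alpha_subset_sigma hG hM hbα) hbσ).1 hbα

namespace PCfg

variable {M N S P : Subgroup G} {q p : ℕ} [hq : Fact q.Prime]

/-- a complement of `M_σ` in `M` inside `D` containing `P` -/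
theorem exists_compl_ge (c : PCfg M N S P q p) (hG : IsMinSimpleOddOrder G) :
    ∃ E : Subgroup G, IsComplIn E (sigmaCore M) M ∧ E ≤ M ⊓ N ∧ P ≤ E := by
  obtain ⟨E₀, hE₀, hE₀D⟩ := c.cfg.exists_compl_le hG
  have hsolvD : Group.IsSolvable ↥(M ⊓ N) :=
    solvable_of_ne_top hG (ne_top_of_le_ne_top c.cfg.hM.1 inf_le_left)
  have hHallM := isPiHallOf_of_isComplIn hG c.cfg.hM hE₀
  have hHallD : IsPiHallOf {r | r ∉ sigma M} E₀ (M ⊓ N) :=
    ⟨hE₀D, hHallM.2.1, fun r hr hrπ hd => hHallM.2.2 r hr hrπ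
      (hd.trans (Dvd.intro _ (Subgroup.relIndex_mul_relIndex E₀ (M ⊓ N) M hE₀D inf_le_left)))⟩
  obtain ⟨d, hd, hdP⟩ := exists_cj_le_hall hsolvD _ hHallD c.hPD
    (fun r hr hdv => by rw [prime_dvd_card_prime c.pprime c.hP hr hdv]; exact c.hpσM)
  refine ⟨cj d⁻¹ E₀, ?_, ?_, ?_⟩
  · have h1 := isComplIn_cj d⁻¹ hE₀
    rw [cj_eq_self_of_mem (M.inv_mem hd.1)] at h1
    have h2 : cj d⁻¹ (sigmaCore M) = sigmaCore M :=
      mem_normalizer_iff_cj.mp (le_normalizer_sigmaCore M (M.inv_mem hd.1))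
    rwa [h2] at h1
  · have := cj_mono d⁻¹ hE₀D
    rwa [cj_eq_self_of_mem ((M ⊓ N).inv_mem hd)] at this
  · have := cj_mono d⁻¹ hdP
    rwa [cj_inv_cj] at this

/-- Step 6 -/
theorem step6 (c : PCfg M N S P q p) (hG : IsMinSimpleOddOrder G) {H : Subgroup G}
    (hH : IsCoatom H) (hNH : Subgroup.normalizer (P : Set G) ≤ H) {X : Subgroup G} {b : ℕ}
    (hb : b.Prime) (hXb : Nat.card X = b) (hXβ : X ≤ piCoreOf (beta M) M)
    (hXP : X ≤ Subgroup.centralizer (P : Set G)) :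
    (∀ g : G, H ≠ cj g M) ∧ b ∈ beta M ∧ (b ∈ tau1 H ∨ b ∈ tau3 H) ∧
      Subgroup.centralizer (X : Set G) ≤ M ∧ Subgroup.normalizer (X : Set G) ≤ M ∧ X ≤ H := by
  haveI : Fact b.Prime := ⟨hb⟩
  haveI : Fact p.Prime := ⟨c.pprime⟩
  have h132 := corollary_13_2 hG c.cfg.hM hH (Or.inl c.hpM) c.hPM c.hPp c.hP1 hNH
  have hncH : ∀ g : G, H ≠ cj g M := h132.1
  have hXM : X ≤ M := hXβ.trans (piCoreOf_le _ _)
  have hXH : X ≤ H := hXP.trans ((Subgroup.centralizer_le_normalizer _).trans hNH)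
  have hbβ : b ∈ beta M := by
    apply isPiNum_card_piCoreOf (beta M) M b hb
    rw [← hXb]
    exact Subgroup.card_dvd_of_le hXβ
  have hbσM : b ∈ sigma M := alpha_subset_sigma hG c.cfg.hM hbβ.1
  have hbσH : b ∉ sigma H := not_sigma_of_alpha hG c.cfg.hM hH (nonconj_symm hncH) hbβ.1
  have hb2 : PRankLE b 2 ↥H := by
    by_contra h
    exact hbσH (alpha_subset_sigma hG hH ⟨hb, h⟩)
  have hb1 : PRankLE b 1 ↥H := by
    by_contra h
    exact (lemma_10_5 hG hH hb2 h).1 hbβ.2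
  have hbH : b ∣ Nat.card H := by
    rw [← hXb]
    exact Subgroup.card_dvd_of_le hXH
  have hbτ : b ∈ tau1 H ∨ b ∈ tau3 H := by
    by_cases hd : b ∣ Nat.card ↥⁅H, H⁆
    · exact Or.inr ⟨hb, hbσH, hd, hb1⟩
    · exact Or.inl ⟨hb, hbσH, hbH, hd, hb1⟩
  obtain ⟨P₀⟩ := (inferInstance : Nonempty (Sylow b ↥(sigmaCore M)))
  have hCX := (corollary_12_14 hG M c.cfg.hM b hbσM X hXM hXb P₀ (Or.inl hbβ)).1.1
  have hNX : Subgroup.normalizer (X : Set G) ≤ M := by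
    rw [(theorem_10_1 hG c.cfg.hM hbσM (isPGroup_of_card_eq hXb) hXM).2]
    exact sup_le inf_le_left hCX
  exact ⟨hncH, hbβ, hbτ, hCX, hNX, hXH⟩

/-- Step 8 -/
theorem step8 (c : PCfg M N S P q p) (hG : IsMinSimpleOddOrder G) (h1428 : T1428 G)
    {H : Subgroup G} (hH : IsCoatom H) (hNH : Subgroup.normalizer (P : Set G) ≤ H)
    {X : Subgroup G} {b : ℕ} (hb : b.Prime) (hXb : Nat.card X = b)
    (hXβ : X ≤ piCoreOf (beta M) M) (hXP : X ≤ Subgroup.centralizer (P : Set G))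
    {h : G} (hh : h ∈ H) (hhX : cj h X ≤ N) : False := by
  haveI : Fact b.Prime := ⟨hb⟩
  haveI : Fact p.Prime := ⟨c.pprime⟩
  obtain ⟨hncH, hbβ, -, hCX, -, hXH⟩ := c.step6 hG hH hNH hb hXb hXβ hXP
  have h132 := corollary_13_2 hG c.cfg.hM hH (Or.inl c.hpM) c.hPM c.hPp c.hP1 hNH
  have hMσH : sigmaCore M ⊓ H = sigmaCore M ⊓ Subgroup.centralizer (P : Set G) := h132.2.2.2.2.2
  have hXM : X ≤ M := hXβ.trans (piCoreOf_le _ _)
  have hbσN : b ∉ sigma N := not_sigma_of_alpha hG c.cfg.hM c.cfg.hN c.cfg.hnc' hbβ.1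
  have hPH : P ≤ H := Subgroup.le_normalizer.trans hNH
  have hhXH : cj h X ≤ H := by
    have := cj_mono h hXH
    rwa [cj_eq_self_of_mem hh] at this
  -- a Hall `σ(N)'`-subgroup of `N ∩ H` containing `P`
  have hsolvNH : Group.IsSolvable ↥(N ⊓ H) :=
    solvable_of_ne_top hG (ne_top_of_le_ne_top c.cfg.hN.1 inf_le_left)
  obtain ⟨F, hF, hPF⟩ := exists_hall_ge hsolvNH {r | r ∉ sigma N} (le_inf c.hPN hPH)
    (fun r hr hd => by rw [prime_dvd_card_prime c.pprime c.hP hr hd]; exact c.hpσN)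
  obtain ⟨n, hn, hnX⟩ := exists_cj_le_hall hsolvNH {r | r ∉ sigma N} hF (le_inf hhX hhXH)
    (fun r hr hd => by
      rw [card_cj] at hd
      rw [prime_dvd_card_prime hb hXb hr hd]; exact hbσN)
  have hcopF : (Nat.card F).Coprime (Nat.card (sigmaCore N)) :=
    Nat.coprime_of_dvd (fun k hk h1 h2 =>
      hF.2.1 k hk h1 ((sigmaCore_hall hG c.cfg.hN).1.2.1 k hk h2))
  obtain ⟨E', hE', hFE'⟩ := exists_complIn_ge hG c.cfg.hN (hF.1.trans inf_le_left) hcopF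
  obtain ⟨E, hE, hED, hPE⟩ := c.symm.exists_compl_ge hG
  obtain ⟨y, hy, hyE⟩ := exists_cj_complIn hG c.cfg.hN hE' hE (hPF.trans hFE') hPE
  have hyH : y ∈ H := hNH (Subgroup.centralizer_le_normalizer _ hy.2)
  have hgH : y * n * h ∈ H := H.mul_mem (H.mul_mem hyH hn.2) hh
  have hgX : cj (y * n * h) X ≤ E := by
    rw [cj_mul, cj_mul]
    exact (cj_mono y (hnX.trans hFE')).trans hyE.le
  have hgXM : cj (y * n * h) X ≤ M := hgX.trans (hED.trans inf_le_right)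
  have hbσM : b ∈ sigma M := alpha_subset_sigma hG c.cfg.hM hbβ.1
  obtain ⟨m, hm, z, hz, hgmz⟩ :=
    (theorem_10_1 hG c.cfg.hM hbσM (isPGroup_of_card_eq hXb) hXM).1 (y * n * h) hgXM
  have hgM : y * n * h ∈ M := by
    rw [hgmz]
    exact M.mul_mem hm (hCX hz)
  have h1 : cj (y * n * h) X ≤ piCoreOf (beta M) M := by
    have := cj_mono (y * n * h) hXβ
    rwa [mem_normalizer_iff_cj.mp (le_normalizer_piCoreOf _ M hgM)] at this
  have h2 : cj (y * n * h) X ≤ H := by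
    have := cj_mono (y * n * h) hXH
    rwa [cj_eq_self_of_mem hgH] at this
  have h3 : cj (y * n * h) X ≤ sigmaCore M ⊓ Subgroup.centralizer (P : Set G) := by
    rw [← hMσH]
    exact le_inf (h1.trans (piCoreOf_beta_le_sigmaCore hG c.cfg.hM)) h2
  have h4 : cj (y * n * h) X ≤ ⊥ := by
    rw [← c.beta_inf_eq_bot hG h1428]
    exact le_inf (le_inf h1 (h3.trans inf_le_right)) (le_inf hgXM (hgX.trans (hED.trans inf_le_left)))
  have h5 : Nat.card ↥(cj (y * n * h) X) = 1 := by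
    rw [le_bot_iff.mp h4]
    simp
  rw [card_cj, hXb] at h5
  exact hb.one_lt.ne' h5

end PCfg

end Cfsg.Agent.Lib.Helper5.BG139
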