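import Mathlib
import Cfsg.Agent.Lib.Helper5.BG139g

set_option autoImplicit false
set_option linter.style.haveILetI false
set_option linter.unusedSectionVars false

/-! Bender–Glauberman Theorem 13.9: the sets `σ(M)` of non-conjugate maximal subgroups are
disjoint, and every prime divisor of `|G|` lies in some `σ(M)`. -/

namespace Cfsg.Agent.Lib.Helper5.BG139

open Cfsg Cfsg.Agent.Lib.Lead Cfsg.Agent.Lib.Lead.BG10 Cfsg.Agent.Lib.Helper7 Cfsg.Agent.Lib.Helper4
open Cfsg.Agent.Lib.Helper4.BG76 Cfsg.Agent.Lib.Helper4.BG8 Cfsg.Agent.Lib.Helper4.BG9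
open Cfsg.Agent.Lib.Helper4.BG7 Cfsg.Agent.Lib.Helper4.BG12 Cfsg.Agent.Lib.Helper4.BGConj
open Cfsg.Agent.Lib.Helper4.BG13 Cfsg.Agent.Lib.Lead.BG12q Cfsg.Agent.Lib.Lead.BG13q
open Cfsg.Agent.Lib.Helper4.BG18 Cfsg.Agent.Lib.Helper2.BG13x
open scoped commutatorElement

universe u

variable {G : Type u} [Group G] [Finite G]

/-- the pointed configuration is contradictory -/
theorem PCfg.false {M N S P : Subgroup G} {q p : ℕ} [hq : Fact q.Prime]
    (c : PCfg M N S P q p) (hG : IsMinSimpleOddOrder G) (h1428 : T1428 G) : False := by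
  haveI : Fact p.Prime := ⟨c.pprime⟩
  have hNP : Subgroup.normalizer (P : Set G) ≠ ⊤ :=
    normalizer_ne_top hG c.hP1 (ne_top_of_le_ne_top c.cfg.hM.1 c.hPM)
  obtain ⟨H, hH, hNH⟩ := exists_coatom_ge hNP
  have hX : piCoreOf (beta M) M ⊓ Subgroup.centralizer (P : Set G) ≠ ⊥ := by
    intro h
    apply c.frob hG
    rw [h]
    exact bot_le
  have hY : piCoreOf (beta N) N ⊓ Subgroup.centralizer (P : Set G) ≠ ⊥ := by
    intro h
    apply c.symm.frob hG
    rw [h]
    exact bot_le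
  obtain ⟨X, b, hb, hXle, hXb⟩ := exists_prime_card_le hX
  obtain ⟨Y, c', hc, hYle, hYc⟩ := exists_prime_card_le hY
  obtain ⟨-, -, hbτ, -, hNX, hXH⟩ :=
    c.step6 hG hH hNH hb hXb (hXle.trans inf_le_left) (hXle.trans inf_le_right)
  obtain ⟨-, -, hcτ, -, hNY, hYH⟩ :=
    c.symm.step6 hG hH hNH hc hYc (hYle.trans inf_le_left) (hYle.trans inf_le_right)
  obtain ⟨h, hh, h1 | h1⟩ := exists_cj_le_normalizer hG hH hXH hYH hb hc hXb hYc hbτ hcτ
  · exact c.step8 hG h1428 hH hNH hb hXb (hXle.trans inf_le_left) (hXle.trans inf_le_right) hh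
      (h1.trans hNY)
  · exact c.symm.step8 hG h1428 hH hNH hc hYc (hYle.trans inf_le_left) (hYle.trans inf_le_right)
      hh (h1.trans hNX)

/-- **Bender–Glauberman, Theorem 13.9**: maximal subgroups `M`, `N` with a common prime in
`σ(M) ∩ σ(N)` are conjugate. -/
theorem sigma_partition (hG : IsMinSimpleOddOrder G) {M N : Subgroup G} (hM : IsCoatom M)
    (hN : IsCoatom N) {q : ℕ} (hqM : q ∈ sigma M) (hqN : q ∈ sigma N) : ∃ g : G, N = cj g M := by
  by_contra hnc
  push Not at hnc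
  haveI : Fact q.Prime := ⟨hqM.1⟩
  obtain ⟨S, g, hd, hNS⟩ := exists_common_sylow hM hN hqM hqN
  have hSN : S ≤ cj g N := Subgroup.le_normalizer.trans hNS
  have c : Cfg M (cj g N) S q :=
    { hM := hM
      hN := isCoatom_cj hN g
      hnc := by
        intro g' h
        apply hnc (g⁻¹ * g')
        rw [cj_mul, ← h, cj_inv_cj]
      hS := (sylIn_of_sylow hd.hPsyl hd.hPM).mono (le_inf hd.hPM hSN) inf_le_left
      hNS := le_inf hd.hN hNS }
  obtain ⟨P, p, pc⟩ := c.exists_pcfg hG (t1428 hG)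
  exact pc.false hG (t1428 hG)

/-- every prime divisor of `|G|` lies in `σ(M)` for some maximal subgroup `M` -/
theorem exists_sigma (hG : IsMinSimpleOddOrder G) {p : ℕ} (hp : p.Prime) (hpG : p ∣ Nat.card G) :
    ∃ M : Subgroup G, IsCoatom M ∧ p ∈ sigma M := by
  haveI : Fact p.Prime := ⟨hp⟩
  obtain ⟨T⟩ := (inferInstance : Nonempty (Sylow p G))
  have hT1 : (T : Subgroup G) ≠ ⊥ := by
    intro h
    have h1 := T.card_eq_multiplicity
    rw [h, Subgroup.card_bot] at h1
    have h2 : (Nat.card G).factorization p = 0 := by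
      by_contra h0
      have : 1 < p ^ (Nat.card G).factorization p := Nat.one_lt_pow h0 hp.one_lt
      omega
    have h3 : 0 < (Nat.card G).factorization p :=
      hp.factorization_pos_of_dvd Nat.card_pos.ne' hpG
    omega
  have hT2 : (T : Subgroup G) ≠ ⊤ := isPGroup_ne_top hG T.isPGroup'
  obtain ⟨M, hM, hNM⟩ := exists_coatom_ge (normalizer_ne_top hG hT1 hT2)
  have hTM : (T : Subgroup G) ≤ M := Subgroup.le_normalizer.trans hNM
  refine ⟨M, hM, mem_sigma_iff_sylIn.mpr ⟨?_, T, sylIn_of_sylow ⟨T, rfl⟩ hTM, hNM⟩⟩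
  exact (dvd_card_of_ne_bot T.isPGroup' hT1).trans (Subgroup.card_dvd_of_le hTM)

end Cfsg.Agent.Lib.Helper5.BG139
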