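import Mathlib
import Cfsg.Agent.Lib.Helper5.BG139h
import Cfsg.Agent.Lib.Helper4.BG13i
import Cfsg.Agent.Lib.Helper4.BG14b

set_option autoImplicit false
set_option linter.style.haveILetI false
set_option linter.unusedSectionVars false

/-! Bender–Glauberman Theorem 14.4, first part: for `x ≠ 1` in `M_σ`, `M` controls the fusion of
`x`, and `C_M(x)` has a normal complement in `C_G(x)` that acts regularly on the conjugates of `M`
containing `x`. -/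

namespace Cfsg.Agent.Lib.Helper5.BG144

open Cfsg Cfsg.Agent.Lib.Lead Cfsg.Agent.Lib.Lead.BG10 Cfsg.Agent.Lib.Helper7 Cfsg.Agent.Lib.Helper4
open Cfsg.Agent.Lib.Helper4.BG76 Cfsg.Agent.Lib.Helper4.BG8 Cfsg.Agent.Lib.Helper4.BG9
open Cfsg.Agent.Lib.Helper4.BG7 Cfsg.Agent.Lib.Helper4.BG12 Cfsg.Agent.Lib.Helper4.BGConj
open Cfsg.Agent.Lib.Helper4.BG13 Cfsg.Agent.Lib.Lead.BG12q Cfsg.Agent.Lib.Lead.BG13q
open Cfsg.Agent.Lib.Helper4.BG18 Cfsg.Agent.Lib.Helper2.BG13x Cfsg.Agent.Lib.Helper5.BG139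
open scoped commutatorElement

universe u

variable {G : Type u} [Group G] [Finite G]

/-- **B–G 12.17 with 13.9**: `q ∈ σ(M)`, `X ≠ 1` a `q`-subgroup of `M`, `N ≠ M` a maximal subgroup
containing `N_G(X)`: then `N` is not conjugate to `M`, `q ∈ τ₂(N)` and `M ∩ N` is a complement of
`N_σ` in `N`. -/
theorem complIn_of_normalizer_le (hG : IsMinSimpleOddOrder G) {M N : Subgroup G} (hM : IsCoatom M)
    (hN : IsCoatom N) (hne : N ≠ M) {q : ℕ} [hq : Fact q.Prime] (hqσ : q ∈ sigma M)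
    {X : Subgroup G} (hXq : IsPGroup q X) (hX1 : X ≠ ⊥) (hXM : X ≤ M)
    (hNX : Subgroup.normalizer (X : Set G) ≤ N) :
    (∀ g : G, N ≠ cj g M) ∧ q ∈ tau2 N ∧ IsComplIn (M ⊓ N) (sigmaCore N) N := by
  have hXN : X ≤ N := Subgroup.le_normalizer.trans hNX
  obtain ⟨S, hXS, hS⟩ := exists_sylIn_ge (le_inf hXM hXN) hXq
  have h1416 : H1416 G := fun M hM p _ A hA => (Cfsg.Agent.S1416.result hG M hM p A hA).1
  have hnc : ∀ g : G, N ≠ cj g M :=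
    (lemma_13_1 hG hM hqσ (cent124_of h1416 M hM q hq.out) hXq hX1 hXM hN hne hNX hS hXS).1
  have hqN : q ∉ sigma N := by
    intro h
    obtain ⟨g, hg⟩ := sigma_partition hG hM hN hqσ h
    exact hnc g hg
  obtain ⟨-, h2, -, h4⟩ := lemma_12_17e hG hM hN hne hqσ hXq hX1 hXM hNX hqN
  exact ⟨hnc, h2, h4⟩

/-- the prime divisors of the order of an element of `M_σ` lie in `σ(M)` -/
theorem mem_sigma_of_dvd_orderOf (hG : IsMinSimpleOddOrder G) {M : Subgroup G} (hM : IsCoatom M)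
    {x : G} (hx : x ∈ sigmaCore M) {q : ℕ} (hq : q.Prime) (hd : q ∣ orderOf x) : q ∈ sigma M := by
  apply (sigmaCore_hall hG hM).1.2.1 q hq
  have h1 : orderOf x ∣ Nat.card (sigmaCore M) := by
    have := orderOf_dvd_natCard (⟨x, hx⟩ : sigmaCore M)
    rwa [← Subgroup.orderOf_coe] at this
  exact hd.trans h1

/-- the common part of the arguments: `y` a power of `x` of prime order `q`, `N ≠ M` maximal
containing `N_G(⟨y⟩)`; an element `c ∈ N` with `c x c⁻¹ ∈ M` is a product `e s` with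
`e ∈ M ∩ N`, `s ∈ N_σ ∩ C_G(x)` and `c x c⁻¹ = e x e⁻¹`. -/
theorem split_of_conj_mem {M N : Subgroup G} (hE : IsComplIn (M ⊓ N) (sigmaCore N) N) {x c : G}
    (hxM : x ∈ M) (hxN : x ∈ N) (hc : c ∈ N) (hcx : c * x * c⁻¹ ∈ M) :
    ∃ e ∈ M ⊓ N, ∃ s ∈ sigmaCore N, c = e * s ∧ s * x = x * s ∧ c * x * c⁻¹ = e * x * e⁻¹ := by
  obtain ⟨e, he, s, hs, hces⟩ := hE.2.2.2 c hc
  have hnorm : N ≤ Subgroup.normalizer ((sigmaCore N : Subgroup G) : Set G) :=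
    le_normalizer_sigmaCore N
  -- `n = s x s⁻¹ x⁻¹ ∈ N_σ`
  have hn : s * x * s⁻¹ * x⁻¹ ∈ sigmaCore N := by
    have h1 : x * s⁻¹ * x⁻¹ ∈ sigmaCore N :=
      (Subgroup.mem_normalizer_iff.mp (hnorm hxN) s⁻¹).mp ((sigmaCore N).inv_mem hs)
    have : s * x * s⁻¹ * x⁻¹ = s * (x * s⁻¹ * x⁻¹) := by group
    rw [this]
    exact (sigmaCore N).mul_mem hs h1
  have hen : e * (s * x * s⁻¹ * x⁻¹) * e⁻¹ ∈ sigmaCore N :=
    (Subgroup.mem_normalizer_iff.mp (hnorm he.2) _).mp hn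
  have heq : e * (s * x * s⁻¹ * x⁻¹) * e⁻¹ = (c * x * c⁻¹) * (e * x * e⁻¹)⁻¹ := by
    rw [hces]; group
  have hcxN : c * x * c⁻¹ ∈ N := N.mul_mem (N.mul_mem hc hxN) (N.inv_mem hc)
  have hexE : e * x * e⁻¹ ∈ M ⊓ N :=
    (M ⊓ N).mul_mem ((M ⊓ N).mul_mem he ⟨hxM, hxN⟩) ((M ⊓ N).inv_mem he)
  have hmem : e * (s * x * s⁻¹ * x⁻¹) * e⁻¹ ∈ (M ⊓ N) ⊓ sigmaCore N := by
    refine ⟨?_, hen⟩
    rw [heq]
    exact (M ⊓ N).mul_mem ⟨hcx, hcxN⟩ ((M ⊓ N).inv_mem hexE)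
  rw [hE.2.2.1, Subgroup.mem_bot] at hmem
  have hn1 : s * x * s⁻¹ * x⁻¹ = 1 := by
    have h2 : s * x * s⁻¹ * x⁻¹ = e⁻¹ * (e * (s * x * s⁻¹ * x⁻¹) * e⁻¹) * e := by group
    rw [h2, hmem]; group
  have hsx : s * x = x * s := by
    have h2 : s * x = (s * x * s⁻¹ * x⁻¹) * (x * s) := by group
    rw [h2, hn1, one_mul]
  refine ⟨e, he, s, hs, hces, hsx, ?_⟩
  rw [hces]
  have : e * s * x * (e * s)⁻¹ = e * (s * x * s⁻¹ * x⁻¹) * x * e⁻¹ := by group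
  rw [this, hn1, mul_one]

/-- an element `x ≠ 1` has a power of prime order -/
theorem exists_pow_prime_order {x : G} (hx1 : x ≠ 1) :
    ∃ (q k : ℕ), q.Prime ∧ q ∣ orderOf x ∧ orderOf (x ^ k) = q := by
  have ho : orderOf x ≠ 1 := fun h => hx1 (orderOf_eq_one_iff.mp h)
  obtain ⟨q, hq, hqd⟩ := Nat.exists_prime_and_dvd ho
  obtain ⟨k, hk⟩ := hqd
  refine ⟨q, k, hq, ⟨k, hk⟩, ?_⟩
  have hpos : 0 < orderOf x := orderOf_pos x
  have hk0 : k ≠ 0 := by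
    rintro rfl
    rw [mul_zero] at hk
    omega
  have := orderOf_pow_of_dvd (x := x) hk0 (Dvd.intro_left q hk.symm)
  rw [this, hk, Nat.mul_div_cancel _ (Nat.pos_of_ne_zero hk0)]

/-- **Fusion of `σ(M)`-elements is controlled by `M`** -/
theorem fusion (hG : IsMinSimpleOddOrder G) {M : Subgroup G} (hM : IsCoatom M) {x g : G}
    (hx : x ∈ sigmaCore M) (hgx : g * x * g⁻¹ ∈ M) : ∃ m ∈ M, m * x * m⁻¹ = g * x * g⁻¹ := by
  by_cases hx1 : x = 1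
  · exact ⟨1, M.one_mem, by rw [hx1]; group⟩
  obtain ⟨q, k, hq, hqd, hyo⟩ := exists_pow_prime_order hx1
  haveI : Fact q.Prime := ⟨hq⟩
  have hqσ : q ∈ sigma M := mem_sigma_of_dvd_orderOf hG hM hx hq hqd
  have hxM : x ∈ M := sigmaCore_le M hx
  set y := x ^ k with hy
  set Y := Subgroup.zpowers y with hY
  have hYc : Nat.card Y = q := by rw [Nat.card_zpowers, hyo]
  have hYq : IsPGroup q Y := isPGroup_of_card_eq hYc
  have hY1 : Y ≠ ⊥ := ne_bot_of_card_prime (hYc ▸ hq)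
  have hYM : Y ≤ M := Subgroup.zpowers_le.mpr (M.pow_mem hxM k)
  have hgY : cj g Y ≤ M := by
    rintro _ ⟨z, hz, rfl⟩
    obtain ⟨j, rfl⟩ := Subgroup.mem_zpowers_iff.mp hz
    show g * (y ^ j) * g⁻¹ ∈ M
    have h1 : g * (y ^ j) * g⁻¹ = (g * x * g⁻¹) ^ ((k : ℤ) * j) := by
      rw [hy, conj_zpow, zpow_mul, zpow_natCast]
    rw [h1]
    exact M.zpow_mem hgx _
  obtain ⟨m, hm, c, hc, hgmc⟩ := (theorem_10_1 hG hM hqσ hYq hYM).1 g hgY
  by_cases hCM : Subgroup.centralizer (Y : Set G) ≤ M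
  · exact ⟨g, by rw [hgmc]; exact M.mul_mem hm (hCM hc), rfl⟩
  have hYtop : Y ≠ ⊤ := ne_top_of_le_ne_top hM.1 hYM
  obtain ⟨N, hN, hNY⟩ := exists_coatom_ge (normalizer_ne_top hG hY1 hYtop)
  have hCN : Subgroup.centralizer (Y : Set G) ≤ N := (Subgroup.centralizer_le_normalizer _).trans hNY
  have hne : N ≠ M := fun h => hCM (h ▸ hCN)
  obtain ⟨-, -, hE⟩ := complIn_of_normalizer_le hG hM hN hne hqσ hYq hY1 hYM hNY
  have hxC : x ∈ Subgroup.centralizer (Y : Set G) := by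
    rw [Subgroup.mem_centralizer_iff]
    intro z hz
    obtain ⟨j, rfl⟩ := Subgroup.mem_zpowers_iff.mp hz
    show y ^ j * x = x * y ^ j
    rw [hy]
    exact ((Commute.refl x).pow_left k).zpow_left j |>.eq
  have hcx : c * x * c⁻¹ ∈ M := by
    have : c * x * c⁻¹ = m⁻¹ * (g * x * g⁻¹) * m := by rw [hgmc]; group
    rw [this]
    exact M.mul_mem (M.mul_mem (M.inv_mem hm) hgx) hm
  obtain ⟨e, he, s, -, -, -, hce⟩ := split_of_conj_mem hE hxM (hCN hxC) (hCN hc) hcx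
  refine ⟨m * e, M.mul_mem hm he.1, ?_⟩
  have : g * x * g⁻¹ = m * (c * x * c⁻¹) * m⁻¹ := by rw [hgmc]; group
  rw [this, hce]
  group

end Cfsg.Agent.Lib.Helper5.BG144
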