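import Mathlib
import Cfsg.Agent.Lib.Helper5.BG144a

set_option autoImplicit false
set_option linter.style.haveILetI false
set_option linter.unusedSectionVars false

/-! Bender–Glauberman Theorem 14.4(a),(b): the normal complement `R` of `C_M(x)` in `C_G(x)`. -/

namespace Cfsg.Agent.Lib.Helper5.BG144

open Cfsg Cfsg.Agent.Lib.Lead Cfsg.Agent.Lib.Lead.BG10 Cfsg.Agent.Lib.Helper7 Cfsg.Agent.Lib.Helper4
open Cfsg.Agent.Lib.Helper4.BG76 Cfsg.Agent.Lib.Helper4.BG8 Cfsg.Agent.Lib.Helper4.BG9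
open Cfsg.Agent.Lib.Helper4.BG7 Cfsg.Agent.Lib.Helper4.BG12 Cfsg.Agent.Lib.Helper4.BGConj
open Cfsg.Agent.Lib.Helper4.BG13 Cfsg.Agent.Lib.Lead.BG12q Cfsg.Agent.Lib.Lead.BG13q
open Cfsg.Agent.Lib.Helper4.BG18 Cfsg.Agent.Lib.Helper2.BG13x Cfsg.Agent.Lib.Helper5.BG139
open Cfsg.Agent.Lib.Helper4.BG14
open scoped commutatorElement

universe u

variable {G : Type u} [Group G] [Finite G]

/-- a conjugate of `M` containing `x ∈ M_σ` is a conjugate by an element of `C_G(x)` -/
theorem exists_centralizer_cj (hG : IsMinSimpleOddOrder G) {M : Subgroup G} (hM : IsCoatom M)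
    {x g : G} (hx : x ∈ sigmaCore M) (hg : x ∈ cj g M) :
    ∃ c ∈ Subgroup.centralizer ({x} : Set G), cj c M = cj g M := by
  rw [mem_cj] at hg
  have hg' : g⁻¹ * x * g⁻¹⁻¹ ∈ M := by rwa [inv_inv]
  obtain ⟨m, hm, hmx⟩ := fusion hG hM hx hg'
  refine ⟨g * m, ?_, ?_⟩
  · rw [Subgroup.mem_centralizer_singleton_iff]
    have h1 : g * m * x = g * (m * x * m⁻¹) * m := by group
    rw [h1, hmx]
    group
  · rw [cj_mul, cj_eq_self_of_mem hm]

/-- a maximal subgroup is its own normalizer -/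
theorem normalizer_coatom (hG : IsMinSimpleOddOrder G) {M : Subgroup G} (hM : IsCoatom M)
    (hM1 : M ≠ ⊥) : Subgroup.normalizer (M : Set G) = M :=
  normalizer_eq_of_isCoatom hG hM hM1 le_rfl Subgroup.le_normalizer

/-- the structure of `C_G(x)` for `x ∈ M_σ` inside a maximal subgroup `N ≥ C_G(x)` in which `M ∩ N`
is a complement of `N_σ` -/
theorem centralizer_complIn {M N : Subgroup G} (hE : IsComplIn (M ⊓ N) (sigmaCore N) N) {x : G}
    (hxM : x ∈ M) (hCN : Subgroup.centralizer ({x} : Set G) ≤ N) :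
    IsComplIn (M ⊓ Subgroup.centralizer ({x} : Set G))
      (sigmaCore N ⊓ Subgroup.centralizer ({x} : Set G)) (Subgroup.centralizer ({x} : Set G)) := by
  have hxC : x ∈ Subgroup.centralizer ({x} : Set G) := Subgroup.mem_centralizer_singleton_iff.mpr rfl
  have hxN : x ∈ N := hCN hxC
  refine ⟨inf_le_right, inf_le_right, ?_, ?_⟩
  · rw [eq_bot_iff, ← hE.2.2.1]
    exact le_inf (inf_le_left.trans (le_inf inf_le_left (inf_le_right.trans hCN)))
      (inf_le_right.trans inf_le_left)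
  · intro c hc
    have hcx : c * x * c⁻¹ = x := by
      rw [Subgroup.mem_centralizer_singleton_iff.mp hc]; group
    obtain ⟨e, he, s, hs, hces, hsx, hce⟩ :=
      split_of_conj_mem hE hxM hxN (hCN hc) (by rw [hcx]; exact hxM)
    refine ⟨e, ⟨he.1, ?_⟩, s, ⟨hs, Subgroup.mem_centralizer_singleton_iff.mpr hsx⟩, hces⟩
    show e ∈ Subgroup.centralizer ({x} : Set G)
    rw [Subgroup.mem_centralizer_singleton_iff]
    have h1 : e * x = (e * x * e⁻¹) * e := by group
    rw [h1, ← hce, hcx]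

/-- **Bender–Glauberman, Theorem 14.4(a),(b)** -/
theorem theorem_14_4_ab (hG : IsMinSimpleOddOrder G) {M : Subgroup G} (hM : IsCoatom M) {x : G}
    (hx : x ∈ sigmaCore M) (hx1 : x ≠ 1) :
    (Nat.card ↥(M ⊓ Subgroup.centralizer ({x} : Set G))).Coprime
        ((M ⊓ Subgroup.centralizer ({x} : Set G)).relIndex (Subgroup.centralizer ({x} : Set G))) ∧
      ∃ R : Subgroup G, Subgroup.centralizer ({x} : Set G) ≤ Subgroup.normalizer (R : Set G) ∧
        IsComplIn (M ⊓ Subgroup.centralizer ({x} : Set G)) R (Subgroup.centralizer ({x} : Set G)) ∧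
        ∀ g : G, x ∈ cj g M → ∃! r : G, r ∈ R ∧ cj r M = cj g M := by
  have hxM : x ∈ M := sigmaCore_le M hx
  have hM1 : M ≠ ⊥ := by
    intro h
    rw [h, Subgroup.mem_bot] at hxM
    exact hx1 hxM
  have hNM := normalizer_coatom hG hM hM1
  set C := Subgroup.centralizer ({x} : Set G) with hC
  by_cases hCM : C ≤ M
  · -- the trivial case
    have hinf : M ⊓ C = C := inf_eq_right.mpr hCM
    refine ⟨?_, ⊥, ?_, ?_, ?_⟩
    · rw [hinf, Subgroup.relIndex_self]
      exact Nat.coprime_one_right _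
    · intro c _
      rw [mem_normalizer_iff_cj, cj_bot]
    · refine ⟨inf_le_right, bot_le, inf_bot_eq _, ?_⟩
      intro c hc
      exact ⟨c, ⟨hCM hc, hc⟩, 1, Subgroup.one_mem _, (mul_one c).symm⟩
    · intro g hg
      obtain ⟨c, hc, hcg⟩ := exists_centralizer_cj hG hM hx hg
      refine ⟨1, ⟨Subgroup.one_mem _, ?_⟩, ?_⟩
      · rw [cj_one, ← hcg, cj_eq_self_of_mem (hCM hc)]
      · rintro r ⟨hr, -⟩
        exact Subgroup.mem_bot.mp hr
  · -- the main case
    obtain ⟨q, k, hq, hqd, hyo⟩ := exists_pow_prime_order hx1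
    haveI : Fact q.Prime := ⟨hq⟩
    have hqσ : q ∈ sigma M := mem_sigma_of_dvd_orderOf hG hM hx hq hqd
    set y := x ^ k with hy
    set Y := Subgroup.zpowers y with hY
    have hYc : Nat.card Y = q := by rw [Nat.card_zpowers, hyo]
    have hYq : IsPGroup q Y := isPGroup_of_card_eq hYc
    have hY1 : Y ≠ ⊥ := ne_bot_of_card_prime (hYc ▸ hq)
    have hYM : Y ≤ M := Subgroup.zpowers_le.mpr (M.pow_mem hxM k)
    have hYtop : Y ≠ ⊤ := ne_top_of_le_ne_top hM.1 hYM
    obtain ⟨N, hN, hNY⟩ := exists_coatom_ge (normalizer_ne_top hG hY1 hYtop)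
    have hCY : C ≤ Subgroup.centralizer (Y : Set G) := by
      intro c hc
      rw [Subgroup.mem_centralizer_iff]
      intro z hz
      obtain ⟨j, rfl⟩ := Subgroup.mem_zpowers_iff.mp hz
      have h1 : Commute c x := (Subgroup.mem_centralizer_singleton_iff.mp hc)
      show y ^ j * c = c * y ^ j
      rw [hy]
      exact ((h1.pow_right k).zpow_right j).eq.symm
    have hCN : C ≤ N := hCY.trans ((Subgroup.centralizer_le_normalizer _).trans hNY)
    have hne : N ≠ M := fun h => hCM (h ▸ hCN)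
    obtain ⟨-, -, hE⟩ := complIn_of_normalizer_le hG hM hN hne hqσ hYq hY1 hYM hNY
    have hcompl := centralizer_complIn hE hxM hCN
    have hcop : (Nat.card ↥(M ⊓ C)).Coprime (Nat.card ↥(sigmaCore N ⊓ C)) := by
      apply Nat.Coprime.coprime_dvd_left
        (Subgroup.card_dvd_of_le (inf_le_inf_left M hCN))
      apply Nat.Coprime.coprime_dvd_right (Subgroup.card_dvd_of_le inf_le_left)
      exact coprime_card_compl_sigmaCore hG hN hE
    refine ⟨?_, sigmaCore N ⊓ C, ?_, hcompl, ?_⟩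
    · have h1 := card_mul_of_isComplIn hcompl
      have h2 := Subgroup.relIndex_mul_relIndex ⊥ (M ⊓ C) C bot_le inf_le_right
      rw [Subgroup.relIndex_bot_left, Subgroup.relIndex_bot_left, h1] at h2
      have h3 : (M ⊓ C).relIndex C = Nat.card ↥(sigmaCore N ⊓ C) :=
        Nat.eq_of_mul_eq_mul_left Nat.card_pos h2
      rw [h3]
      exact hcop
    · exact le_normalizer_inf' (hCN.trans (le_normalizer_sigmaCore N)) Subgroup.le_normalizer
    · intro g hg
      obtain ⟨c, hc, hcg⟩ := exists_centralizer_cj hG hM hx hg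
      obtain ⟨e, he, s, hs, hces⟩ := hcompl.2.2.2 c⁻¹ (C.inv_mem hc)
      have hc' : c = s⁻¹ * e⁻¹ := by
        have : c⁻¹⁻¹ = (e * s)⁻¹ := by rw [hces]
        rwa [inv_inv, mul_inv_rev] at this
      refine ⟨s⁻¹, ⟨Subgroup.inv_mem _ hs, ?_⟩, ?_⟩
      · rw [← hcg, hc', cj_mul, cj_eq_self_of_mem (M.inv_mem he.1)]
      · rintro r ⟨hr, hrg⟩
        have h1 : cj (s * r) M = M := by
          rw [cj_mul, hrg, ← hcg, hc', cj_mul, cj_eq_self_of_mem (M.inv_mem he.1), ← cj_mul,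
            mul_inv_cancel, cj_one]
        have h2 : s * r ∈ M := by
          rw [← hNM]
          exact mem_normalizer_iff_cj.mpr h1
        have h3 : s * r ∈ (M ⊓ C) ⊓ (sigmaCore N ⊓ C) :=
          ⟨⟨h2, C.mul_mem hs.2 hr.2⟩, Subgroup.mul_mem _ hs hr⟩
        rw [hcompl.2.2.1, Subgroup.mem_bot] at h3
        exact eq_inv_of_mul_eq_one_right h3

end Cfsg.Agent.Lib.Helper5.BG144
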