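import Mathlib
import Cfsg.Agent.Lib.Helper5.BG144b
import Cfsg.Agent.Lib.Helper4.FittingHall
import Cfsg.Agent.Lib.Helper4.BG13l
import Cfsg.Agent.Lib.Helper2.BG12U4
import Cfsg.Agent.S1420

set_option autoImplicit false
set_option linter.style.haveILetI false
set_option linter.unusedSectionVars false

/-! Bender–Glauberman Theorem 14.4(c): for `x ≠ 1` in `M_σ` with `C_G(x) ≰ M` there is exactly
one maximal subgroup `N ≥ C_G(x)`; all prime divisors of `|x|` lie in `τ₂(N)`, `N_σ = N_F`,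
`M ∩ N` is a complement of `N_σ` in `N`. -/

namespace Cfsg.Agent.Lib.Helper5.BG144

open Cfsg Cfsg.Agent.Lib.Lead Cfsg.Agent.Lib.Lead.BG10 Cfsg.Agent.Lib.Helper7 Cfsg.Agent.Lib.Helper4
open Cfsg.Agent.Lib.Helper4.BG76 Cfsg.Agent.Lib.Helper4.BG8 Cfsg.Agent.Lib.Helper4.BG9
open Cfsg.Agent.Lib.Helper4.BG7 Cfsg.Agent.Lib.Helper4.BG12 Cfsg.Agent.Lib.Helper4.BGConj
open Cfsg.Agent.Lib.Helper4.BG13 Cfsg.Agent.Lib.Lead.BG12q Cfsg.Agent.Lib.Lead.BG13q
open Cfsg.Agent.Lib.Helper4.BG18 Cfsg.Agent.Lib.Helper2.BG13x Cfsg.Agent.Lib.Helper5.BG139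
open Cfsg.Agent.Lib.Helper4.BG14
open scoped commutatorElement

universe u

variable {G : Type u} [Group G] [Finite G]

/-- an element whose order is divisible by the prime `q` has a power of order `q` -/
theorem exists_pow_of_prime_dvd {x : G} {q : ℕ} (hqd : q ∣ orderOf x) :
    ∃ k : ℕ, orderOf (x ^ k) = q := by
  obtain ⟨k, hk⟩ := hqd
  have hpos : 0 < orderOf x := orderOf_pos x
  have hk0 : k ≠ 0 := by
    rintro rfl
    rw [mul_zero] at hk
    omega
  refine ⟨k, ?_⟩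
  have := orderOf_pow_of_dvd (x := x) hk0 (Dvd.intro_left q hk.symm)
  rw [this, hk, Nat.mul_div_cancel _ (Nat.pos_of_ne_zero hk0)]

/-- for each prime `q` dividing `|x|` a maximal subgroup `N ≥ C_G(x)` with `q ∈ τ₂(N)` in which
`M ∩ N` is a complement of `N_σ` -/
theorem exists_coatom_of_prime (hG : IsMinSimpleOddOrder G) {M : Subgroup G} (hM : IsCoatom M)
    {x : G} (hx : x ∈ sigmaCore M) (hCM : ¬ Subgroup.centralizer ({x} : Set G) ≤ M) {q : ℕ}
    (hq : q.Prime) (hqd : q ∣ orderOf x) :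
    ∃ N : Subgroup G, IsCoatom N ∧ Subgroup.centralizer ({x} : Set G) ≤ N ∧ (∀ g : G, N ≠ cj g M) ∧
      q ∈ tau2 N ∧ IsComplIn (M ⊓ N) (sigmaCore N) N := by
  haveI : Fact q.Prime := ⟨hq⟩
  have hxM : x ∈ M := sigmaCore_le M hx
  have hqσ : q ∈ sigma M := mem_sigma_of_dvd_orderOf hG hM hx hq hqd
  obtain ⟨k, hyo⟩ := exists_pow_of_prime_dvd hqd
  set y := x ^ k with hy
  set Y := Subgroup.zpowers y with hY
  have hYc : Nat.card Y = q := by rw [Nat.card_zpowers, hyo]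
  have hYq : IsPGroup q Y := isPGroup_of_card_eq hYc
  have hY1 : Y ≠ ⊥ := ne_bot_of_card_prime (hYc ▸ hq)
  have hYM : Y ≤ M := Subgroup.zpowers_le.mpr (M.pow_mem hxM k)
  have hYtop : Y ≠ ⊤ := ne_top_of_le_ne_top hM.1 hYM
  obtain ⟨N, hN, hNY⟩ := exists_coatom_ge (normalizer_ne_top hG hY1 hYtop)
  have hCY : Subgroup.centralizer ({x} : Set G) ≤ Subgroup.centralizer (Y : Set G) := by
    intro c hc
    rw [Subgroup.mem_centralizer_iff]
    intro z hz
    obtain ⟨j, rfl⟩ := Subgroup.mem_zpowers_iff.mp hz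
    have h1 : Commute c x := (Subgroup.mem_centralizer_singleton_iff.mp hc)
    show y ^ j * c = c * y ^ j
    rw [hy]
    exact ((h1.pow_right k).zpow_right j).eq.symm
  have hCN : Subgroup.centralizer ({x} : Set G) ≤ N :=
    hCY.trans ((Subgroup.centralizer_le_normalizer _).trans hNY)
  have hne : N ≠ M := fun h => hCM (h ▸ hCN)
  obtain ⟨hnc, hτ, hE⟩ := complIn_of_normalizer_le hG hM hN hne hqσ hYq hY1 hYM hNY
  exact ⟨N, hN, hCN, hnc, hτ, hE⟩

/-- `C_{N_σ}(x) ≠ 1` -/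
theorem inf_centralizer_ne_bot {M R C : Subgroup G} (h : IsComplIn (M ⊓ C) R C) (hCM : ¬ C ≤ M) :
    R ≠ ⊥ := by
  intro h0
  apply hCM
  intro c hc
  obtain ⟨a, ha, b, hb, rfl⟩ := h.2.2.2 c hc
  rw [h0, Subgroup.mem_bot] at hb
  rw [hb, mul_one]
  exact ha.1

/-- all prime divisors of `|x|` lie in `τ₂(N)` -/
theorem mem_tau2_of_dvd_orderOf (hG : IsMinSimpleOddOrder G) {M N : Subgroup G} (hM : IsCoatom M)
    (hN : IsCoatom N) {x : G} (hx : x ∈ sigmaCore M)
    (hCM : ¬ Subgroup.centralizer ({x} : Set G) ≤ M) (hCN : Subgroup.centralizer ({x} : Set G) ≤ N)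
    (hE : IsComplIn (M ⊓ N) (sigmaCore N) N) {q : ℕ} (hq : q.Prime) (hqd : q ∣ orderOf x) :
    q ∈ tau2 N := by
  have hxM : x ∈ M := sigmaCore_le M hx
  obtain ⟨N', hN', hCN', -, hτ, hE'⟩ := exists_coatom_of_prime hG hM hx hCM hq hqd
  have h1 := centralizer_complIn hE hxM hCN
  have h2 := centralizer_complIn hE' hxM hCN'
  have hcard : Nat.card ↥(sigmaCore N ⊓ Subgroup.centralizer ({x} : Set G)) =
      Nat.card ↥(sigmaCore N' ⊓ Subgroup.centralizer ({x} : Set G)) := by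
    have e1 := card_mul_of_isComplIn h1
    have e2 := card_mul_of_isComplIn h2
    rw [e1] at e2
    exact Nat.eq_of_mul_eq_mul_left Nat.card_pos e2
  have hne := inf_centralizer_ne_bot h1 hCM
  have hc1 : Nat.card ↥(sigmaCore N ⊓ Subgroup.centralizer ({x} : Set G)) ≠ 1 :=
    fun h => hne (Subgroup.card_eq_one.mp h)
  obtain ⟨t, ht, htd⟩ := Nat.exists_prime_and_dvd hc1
  have htN : t ∈ sigma N :=
    (sigmaCore_hall hG hN).1.2.1 t ht (htd.trans (Subgroup.card_dvd_of_le inf_le_left))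
  have htN' : t ∈ sigma N' := by
    rw [hcard] at htd
    exact (sigmaCore_hall hG hN').1.2.1 t ht (htd.trans (Subgroup.card_dvd_of_le inf_le_left))
  obtain ⟨g, hg⟩ := sigma_partition hG hN hN' htN htN'
  rw [hg, tau2_cj] at hτ
  exact hτ

/-- a prime of `κ(N)` has `p`-rank at most one -/
theorem prankLE_one_of_kappa {N : Subgroup G} {p : ℕ} (hp : p ∈ kappa N) : PRankLE p 1 ↥N := by
  haveI : Fact p.Prime := ⟨hp.1⟩
  obtain ⟨P⟩ := (inferInstance : Nonempty (Sylow p ↥N))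
  haveI : IsCyclic ↥(P : Subgroup ↥N) := (hp.2.2.2 P).1
  have h1 : PRankLE p 1 ↥(P : Subgroup ↥N) := prankLE_one_of_isCyclic p
  have h2 : PRankLE p 1 ↥((P : Subgroup ↥N).map N.subtype) :=
    Rk2.prankLE_of_injective
      ((P : Subgroup ↥N).equivMapOfInjective N.subtype N.subtype_injective).symm.toMonoidHom
      ((P : Subgroup ↥N).equivMapOfInjective N.subtype N.subtype_injective).symm.injective h1
  exact prankLE_of_sylIn (sylIn_map_sylow P) h2

/-- in a standard factorisation `N = K U N_σ`, the `κ(N)'`-elements of `N` lie in `U N_σ` -/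
theorem mem_sup_of_not_kappa {N K U : Subgroup G} (h : IsSigmaDecomposition N K U) {x : G}
    (hxN : x ∈ N) (hκ : ∀ p : ℕ, p.Prime → p ∣ orderOf x → p ∉ kappa N) :
    x ∈ U ⊔ sigmaCore N := by
  set V := U ⊔ sigmaCore N with hV
  have hKN : K ≤ N := h.hall.1
  have hKV : K ≤ Subgroup.normalizer (V : Set G) :=
    le_normalizer_sup' h.normal (hKN.trans (le_normalizer_sigmaCore N))
  have hVN : V ≤ N := sup_le h.compl.1 (sigmaCore_le N)
  have hsup : V ⊔ K = N := by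
    apply le_antisymm (sup_le hVN hKN)
    intro n hn
    obtain ⟨a, ha, b, hb, rfl⟩ := h.compl.2.2.2 n hn
    apply Subgroup.mul_mem
    · exact (le_sup_left : U ≤ V).trans le_sup_left ha
    · exact (sup_le le_sup_right ((le_sup_right : sigmaCore N ≤ V).trans le_sup_left)) hb
  have hrel : V.relIndex N ∣ Nat.card K := by
    have := Cfsg.Agent.Lib.Helper2.BG12.relIndex_sup_dvd_card hKV
    rwa [hsup] at this
  have hNV : N ≤ Subgroup.normalizer (V : Set G) := by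
    rw [← hsup]
    exact sup_le Subgroup.le_normalizer hKV
  have hX : Subgroup.zpowers x ≤ V := by
    apply le_of_sylows
    intro r hr hrd
    haveI : Fact r.Prime := ⟨hr⟩
    obtain ⟨Q, -, hQ⟩ := exists_sylIn_ge (bot_le : (⊥ : Subgroup G) ≤ Subgroup.zpowers x)
      (IsPGroup.of_bot (p := r))
    refine ⟨Q, hQ, ?_⟩
    apply le_of_not_dvd_relIndex hVN hNV _ (hQ.1.trans (Subgroup.zpowers_le.mpr hxN)) hQ.2.1
    intro hd
    rw [Nat.card_zpowers] at hrd
    exact hκ r hr hrd (h.hall.2.1 r hr (hd.trans hrel))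
  exact hX (Subgroup.mem_zpowers x)

/-- `M_F ≤ M_σ` -/
theorem fittingHallOf_le_sigmaCore (hG : IsMinSimpleOddOrder G) {N : Subgroup G} (hN : IsCoatom N) :
    fittingHallOf N ≤ sigmaCore N := by
  set F := fittingHallOf N with hF
  have hFN : F ≤ N := fittingHallOf_le N
  have hnorm : N ≤ Subgroup.normalizer (F : Set G) := le_normalizer_fittingHallOf N
  have hnil : Group.IsNilpotent ↥F := isNilpotent_fittingHallOf N
  have hcop := fittingHallOf_coprime N
  apply le_sigmaCore_of_piNum hG hN hFN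
  intro p hp hd
  haveI : Fact p.Prime := ⟨hp⟩
  obtain ⟨P, -, hP⟩ := exists_sylIn_ge (bot_le : (⊥ : Subgroup G) ≤ F) (IsPGroup.of_bot (p := p))
  have hFP : F ≤ Subgroup.normalizer (P : Set G) := sylIn_normal_of_isNilpotent hnil hP
  have hNP : N ≤ Subgroup.normalizer (P : Set G) := by
    intro n hn
    rw [mem_normalizer_iff_cj]
    obtain ⟨y, hy, hyP⟩ := hP.conj (hP.cj' (hnorm hn))
    rw [← hyP, mem_normalizer_iff_cj.mp (hFP hy)]
  have hP1 : P ≠ ⊥ := by
    intro h0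
    have h2 := hP.2.2
    rw [h0, Subgroup.relIndex_bot_left] at h2
    exact h2 hd
  have hPN : SylIn p N P := by
    refine ⟨hP.1.trans hFN, hP.2.1, ?_⟩
    rw [← Subgroup.relIndex_mul_relIndex P F N hP.1 hFN]
    intro h
    rcases (Nat.Prime.dvd_mul hp).mp h with h | h
    · exact hP.2.2 h
    · exact (Nat.Prime.coprime_iff_not_dvd hp).mp (Nat.Coprime.coprime_dvd_left hd hcop) h
  have hnormP : Subgroup.normalizer (P : Set G) = N :=
    normalizer_eq_of_isCoatom hG hN hP1 hPN.1 hNP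
  exact mem_sigma_iff_sylIn.mpr
    ⟨(dvd_card_of_ne_bot hP.2.1 hP1).trans (Subgroup.card_dvd_of_le hPN.1), P, hPN, hnormP.le⟩

/-- `N_σ = N_F` if `N_σ` is nilpotent -/
theorem sigmaCore_eq_fittingHallOf (hG : IsMinSimpleOddOrder G) {N : Subgroup G} (hN : IsCoatom N)
    (hnil : Group.IsNilpotent ↥(sigmaCore N)) : sigmaCore N = fittingHallOf N := by
  apply le_antisymm _ (fittingHallOf_le_sigmaCore hG hN)
  apply le_fittingHallOf N (sigmaCore_le N) (le_normalizer_sigmaCore N) hnil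
  apply Nat.coprime_of_dvd
  intro k hk h1 h2
  exact (sigmaCore_hall hG hN).1.2.2 k hk ((sigmaCore_hall hG hN).1.2.1 k hk h1) h2

/-- **Bender–Glauberman, Theorem 14.4(c)** -/
theorem theorem_14_4_c (hG : IsMinSimpleOddOrder G) {M : Subgroup G} (hM : IsCoatom M) {x : G}
    (hx : x ∈ sigmaCore M) (hx1 : x ≠ 1) (hCM : ¬ Subgroup.centralizer ({x} : Set G) ≤ M) :
    ∃ N : Subgroup G, (IsCoatom N ∧ Subgroup.centralizer ({x} : Set G) ≤ N) ∧
      (∀ L : Subgroup G, IsCoatom L → Subgroup.centralizer ({x} : Set G) ≤ L → L = N) ∧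
      sigmaCore N = fittingHallOf N ∧
      Subgroup.centralizer ({x} : Set G) ≤ Subgroup.normalizer
        ((sigmaCore N ⊓ Subgroup.centralizer ({x} : Set G) : Subgroup G) : Set G) ∧
      IsComplIn (M ⊓ Subgroup.centralizer ({x} : Set G))
        (sigmaCore N ⊓ Subgroup.centralizer ({x} : Set G)) (Subgroup.centralizer ({x} : Set G)) ∧
      IsComplIn (M ⊓ N) (sigmaCore N) N ∧
      (∀ q : ℕ, q.Prime → q ∣ orderOf x → q ∈ tau2 N) ∧
      ∀ K' U' : Subgroup G, IsSigmaDecomposition N K' U' →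
        U' ≠ ⊥ ∧ x ∈ sigmaA N U' ∧ x ∉ sigmaCore N := by
  have hxM : x ∈ M := sigmaCore_le M hx
  obtain ⟨q, k, hq, hqd, -⟩ := exists_pow_prime_order hx1
  haveI : Fact q.Prime := ⟨hq⟩
  obtain ⟨N, hN, hCN, hnc, hτ, hE⟩ := exists_coatom_of_prime hG hM hx hCM hq hqd
  have hxC : x ∈ Subgroup.centralizer ({x} : Set G) := Subgroup.mem_centralizer_singleton_iff.mpr rfl
  have hxN : x ∈ N := hCN hxC
  have hcompl := centralizer_complIn hE hxM hCN
  have hRne := inf_centralizer_ne_bot hcompl hCM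
  have hall : ∀ q' : ℕ, q'.Prime → q' ∣ orderOf x → q' ∈ tau2 N := fun q' hq' hd =>
    mem_tau2_of_dvd_orderOf hG hM hN hx hCM hCN hE hq' hd
  -- `x ∈ \hat N_σ`
  obtain ⟨⟨y, hy⟩, hy1⟩ := (Subgroup.ne_bot_iff_exists_ne_one).mp hRne
  have hy1' : y ≠ 1 := fun h => hy1 (Subtype.ext h)
  have hhat : x ∈ sigmaHat N :=
    ⟨hxN, y, hy.1, hy1', (Subgroup.mem_centralizer_singleton_iff.mp hy.2).symm⟩
  have h1420 := (Cfsg.Agent.S1420.result hG N hN (M ⊓ N) hE).2.2.2 x hxN hx1 hall hhat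
  -- `N_σ` is nilpotent
  obtain ⟨A, hAN, hAe, hAc⟩ := exists_elementary_sq hτ.2.2.2
  have hnil : Group.IsNilpotent ↥(sigmaCore N) :=
    (Cfsg.Agent.S1417.result hG N hN q hτ A ⟨hAN, hAe, hAc⟩).1
  have hxσ : x ∉ sigmaCore N := by
    intro h
    have h2 : x ∈ (M ⊓ N) ⊓ sigmaCore N := ⟨⟨hxM, hxN⟩, h⟩
    rw [hE.2.2.1, Subgroup.mem_bot] at h2
    exact hx1 h2
  refine ⟨N, ⟨hN, hCN⟩, h1420.2, sigmaCore_eq_fittingHallOf hG hN hnil, ?_, hcompl, hE, hall, ?_⟩
  · exact le_normalizer_inf' (hCN.trans (le_normalizer_sigmaCore N)) Subgroup.le_normalizer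
  · intro K' U' hKU
    have hκ : ∀ p : ℕ, p.Prime → p ∣ orderOf x → p ∉ kappa N := by
      intro p hp hd hpκ
      exact (hall p hp hd).2.2.2 (prankLE_one_of_kappa hpκ)
    have hxV : x ∈ U' ⊔ sigmaCore N := mem_sup_of_not_kappa hKU hxN hκ
    refine ⟨?_, ⟨hhat, hxV⟩, hxσ⟩
    intro h0
    rw [h0, bot_sup_eq] at hxV
    exact hxσ hxV

end Cfsg.Agent.Lib.Helper5.BG144
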