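import Mathlib
import Cfsg.Agent.Lib.Helper2.BG14z8
import Cfsg.Agent.Lib.Helper4.BG19g
import Cfsg.Agent.Lib.Helper5.BG144c
import Cfsg.Agent.Lib.Helper4.BG13k
import Cfsg.Agent.S1417
import Cfsg.Agent.S1420

set_option autoImplicit false
set_option linter.style.haveILetI false
set_option linter.unusedSectionVars false
set_option maxHeartbeats 800000

/-! Consequences of B and G, Theorem 14.2 (in the form of `KData`): the statements on the standard
factorisation `M = K U M_σ` for a cyclic Hall `κ(M)`-subgroup `K`. -/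

namespace Cfsg.Agent.Lib.Helper5.BG143

open Cfsg Cfsg.Agent.Lib.Lead Cfsg.Agent.Lib.Lead.BG10 Cfsg.Agent.Lib.Helper7 Cfsg.Agent.Lib.Helper4
open Cfsg.Agent.Lib.Helper4.BG76 Cfsg.Agent.Lib.Helper4.BG8 Cfsg.Agent.Lib.Helper4.BG9
open Cfsg.Agent.Lib.Helper4.BG7 Cfsg.Agent.Lib.Helper4.BG12 Cfsg.Agent.Lib.Helper4.BGConj
open Cfsg.Agent.Lib.Helper4.BG13 Cfsg.Agent.Lib.Lead.BG12q Cfsg.Agent.Lib.Lead.BG13q
open Cfsg.Agent.Lib.Helper4.BG18 Cfsg.Agent.Lib.Helper2.BG13x Cfsg.Agent.Lib.Helper5.BG139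
open Cfsg.Agent.Lib.Helper4.BG14 Cfsg.Agent.Lib.Helper2.BG14z
open scoped commutatorElement

universe u

variable {G : Type u} [Group G] [Finite G]

/-- B and G, Theorem 14.2 for the group `G`, as a hypothesis: every nontrivial Hall
`κ(M)`-subgroup of a maximal subgroup `M` carries the data `KData` -/
def TKData (G : Type u) [Group G] : Prop :=
  ∀ M K : Subgroup G, IsCoatom M → IsPiHallOf (kappa M) K M → K ≠ ⊥ → KData M K

/-- a non-identity element has a power generating a subgroup of prime order -/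
theorem exists_zpowers_prime {k : G} (hk1 : k ≠ 1) :
    ∃ n : ℕ, (Nat.card ↥(Subgroup.zpowers (k ^ n))).Prime := by
  obtain ⟨r, n, hr, hro, -⟩ := exists_prime_pow hk1
  exact ⟨n, by rw [Nat.card_zpowers, hro]; exact hr⟩

/-- `C_M(k) ≤ K K*` for `k ∈ K#` -/
theorem inf_centralizer_le_of_kdata {M K : Subgroup G} (d : KData M K) {k : G} (hk : k ∈ K)
    (hk1 : k ≠ 1) :
    M ⊓ Subgroup.centralizer ({k} : Set G) ≤
      K ⊔ (sigmaCore M ⊓ Subgroup.centralizer (K : Set G)) := by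
  obtain ⟨n, hn⟩ := exists_zpowers_prime hk1
  have hXK : Subgroup.zpowers (k ^ n) ≤ K := Subgroup.zpowers_le.mpr (K.pow_mem hk n)
  rw [← (d.norm _ hXK hn).1]
  refine inf_le_inf_left M ?_
  refine (centralizer_le_centralizer_pow k n).trans ?_
  rw [← centralizer_zpowers']
  exact Subgroup.centralizer_le_normalizer _

/-- the statement of S1353 from `KData` -/
theorem s1353_of_kdata (hkd : TKData G) {M K U : Subgroup G} (hM : IsCoatom M)
    (hKU : IsSigmaDecomposition M K U) :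
    ∀ k ∈ K, k ≠ 1 → U ⊓ Subgroup.centralizer ({k} : Set G) = ⊥ := by
  intro k hk hk1
  have hK1 : K ≠ ⊥ := by
    intro h
    rw [h, Subgroup.mem_bot] at hk
    exact hk1 hk
  have d := hkd M K hM hKU.hall hK1
  rw [eq_bot_iff]
  intro u hu
  have h1 : u ∈ K ⊔ (sigmaCore M ⊓ Subgroup.centralizer (K : Set G)) :=
    inf_centralizer_le_of_kdata d hk hk1 ⟨hKU.compl.1 hu.1, hu.2⟩
  have h2 : K ⊔ (sigmaCore M ⊓ Subgroup.centralizer (K : Set G)) ≤ K ⊔ sigmaCore M :=
    sup_le_sup_left inf_le_left K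
  have h3 : u ∈ U ⊓ (K ⊔ sigmaCore M) := ⟨hu.1, h2 h1⟩
  rwa [hKU.compl.2.2.1] at h3

/-- the statement of S1354 from `KData` -/
theorem s1354_of_kdata (hG : IsMinSimpleOddOrder G) (hkd : TKData G) {M K : Subgroup G}
    (hM : IsCoatom M) (hKc : IsCyclic K) (hK : IsPiHallOf (kappa M) K M) :
    sigmaCore M ⊓ Subgroup.centralizer (K : Set G) ≠ ⊥ ∧
      (K ≠ ⊥ → ∀ k ∈ K, k ≠ 1 →
        M ⊓ Subgroup.centralizer ({k} : Set G) =
          K ⊔ (sigmaCore M ⊓ Subgroup.centralizer (K : Set G))) := by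
  constructor
  · by_cases hK1 : K = ⊥
    · rw [hK1]
      have h1 : Subgroup.centralizer (((⊥ : Subgroup G) : Set G)) = ⊤ := by
        rw [eq_top_iff]
        intro g _
        rw [Subgroup.mem_centralizer_iff]
        intro h hh
        rw [SetLike.mem_coe, Subgroup.mem_bot] at hh
        rw [hh, one_mul, mul_one]
      rw [h1, inf_top_eq]
      exact Cfsg.Agent.Lib.Helper2.BG11.sigmaCore_ne_bot hG hM
    · exact (hkd M K hM hK hK1).fix_ne
  · intro hK1 k hk hk1
    have d := hkd M K hM hK hK1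
    apply le_antisymm (inf_centralizer_le_of_kdata d hk hk1)
    refine sup_le (le_inf hK.1 ?_) (le_inf (inf_le_left.trans (sigmaCore_le M)) ?_)
    · intro a ha
      rw [Subgroup.mem_centralizer_singleton_iff]
      haveI := hKc
      have := mul_comm' (⟨a, ha⟩ : K) ⟨k, hk⟩
      exact congrArg Subtype.val this
    · refine inf_le_right.trans ?_
      exact Subgroup.centralizer_le (Set.singleton_subset_iff.mpr hk)


/-- B and G, Lemma 14.3, the `κ(M)` case: if some prime divisor `p` of the order of `x'` has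
`M` of `p`-rank one then all prime divisors lie in `κ(M)` and `C_G(x) ≤ M` -/
theorem kappa_case (hG : IsMinSimpleOddOrder G) (hkd : TKData G) {M : Subgroup G}
    (hM : IsCoatom M) {x : G} (hx : x ∈ sigmaCore M) (hx1 : x ≠ 1) {x' : G}
    (hx' : x' ∈ M ⊓ Subgroup.centralizer ({x} : Set G))
    (hσ : ∀ p : ℕ, p.Prime → p ∣ orderOf x' → p ∉ sigma M)
    {p : ℕ} (hp : p.Prime) (hpd : p ∣ orderOf x') (hr1 : PRankLE p 1 ↥M) :
    (∀ r : ℕ, r.Prime → r ∣ orderOf x' → r ∈ kappa M) ∧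
      Subgroup.centralizer ({x} : Set G) ≤ M := by
  haveI : Fact p.Prime := ⟨hp⟩
  have hsolv : Group.IsSolvable ↥M := solvable_of_ne_top hG hM.1
  set y := x' ^ (orderOf x' / p) with hy
  have hyo : orderOf y = p := exists_pow_orderOf_eq hp hpd
  have hy1 : y ≠ 1 := by
    intro h
    rw [h, orderOf_one] at hyo
    exact hp.one_lt.ne hyo
  have hyM : y ∈ M := M.pow_mem hx'.1 _
  have hxx' : x' * x = x * x' := Subgroup.mem_centralizer_singleton_iff.mp hx'.2
  have hyx : x * y = y * x := (Commute.pow_right (show Commute x x' from hxx'.symm) _).eq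
  have hYc : Nat.card ↥(Subgroup.zpowers y) = p := card_zpowers_of_orderOf hyo
  have hYM : Subgroup.zpowers y ≤ M := Subgroup.zpowers_le.mpr hyM
  have hxC : x ∈ sigmaCore M ⊓ Subgroup.centralizer ({y} : Set G) :=
    ⟨hx, Subgroup.mem_centralizer_singleton_iff.mpr hyx⟩
  have hfix : sigmaCore M ⊓ Subgroup.centralizer ((Subgroup.zpowers y : Subgroup G) : Set G)
      ≠ ⊥ := by
    rw [centralizer_zpowers']
    intro h
    rw [h, Subgroup.mem_bot] at hxC
    exact hx1 hxC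
  have hpκ : p ∈ kappa M := mem_kappa_of_le hG hM (hσ p hp hpd) hr1 hYM hYc hfix
  obtain ⟨K, hK, hYK⟩ := exists_hall_ge hsolv (kappa M) hYM (by
    intro r hr hrd
    rw [hYc] at hrd
    rw [(Nat.prime_dvd_prime_iff_eq hr hp).mp hrd]
    exact hpκ)
  have hyK : y ∈ K := hYK (Subgroup.mem_zpowers y)
  have hK1 : K ≠ ⊥ := by
    intro h
    rw [h, Subgroup.mem_bot] at hyK
    exact hy1 hyK
  have d := hkd M K hM hK hK1
  constructor
  · intro r hr hrd
    by_contra hrκ
    set z := x' ^ (orderOf x' / r) with hz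
    have hzo : orderOf z = r := exists_pow_orderOf_eq hr hrd
    have hzM : z ∈ M := M.pow_mem hx'.1 _
    have hzy : z * y = y * z := (Commute.pow_pow_self x' _ _).eq
    have hzC : z ∈ M ⊓ Subgroup.centralizer ({y} : Set G) :=
      ⟨hzM, Subgroup.mem_centralizer_singleton_iff.mpr hzy⟩
    have h1 := inf_centralizer_le_of_kdata d hyK hy1 hzC
    have h2 : r ∣ Nat.card ↥(K ⊔ (sigmaCore M ⊓ Subgroup.centralizer (K : Set G))) := by
      rw [← hzo]
      exact orderOf_dvd_card_of_mem h1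
    have hn : K ≤ Subgroup.normalizer
        ((sigmaCore M ⊓ Subgroup.centralizer (K : Set G) : Subgroup G) : Set G) := by
      refine le_trans ?_ (Subgroup.centralizer_le_normalizer _)
      intro k hk
      rw [Subgroup.mem_centralizer_iff]
      intro s hs
      exact ((Subgroup.mem_centralizer_iff.mp hs.2) k hk).symm
    have h3 := card_sup_mul_card_inf K (sigmaCore M ⊓ Subgroup.centralizer (K : Set G)) hn
    have h4 : r ∣ Nat.card K * Nat.card ↥(sigmaCore M ⊓ Subgroup.centralizer (K : Set G)) := by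
      rw [← h3]
      exact Dvd.dvd.mul_right h2 _
    rcases (Nat.Prime.dvd_mul hr).mp h4 with h | h
    · exact hrκ (hK.2.1 r hr h)
    · have h5 : r ∣ Nat.card (sigmaCore M) := h.trans (Subgroup.card_dvd_of_le inf_le_left)
      exact hσ r hr hrd ((sigmaCore_hall hG hM).1.2.1 r hr h5)
  · have hxK : x ∈ sigmaCore M ⊓ Subgroup.centralizer (K : Set G) := by
      rw [← d.semiprime y hyK hy1]
      exact hxC
    obtain ⟨q, n, hq, hqo, -⟩ := exists_prime_pow hx1
    haveI : Fact q.Prime := ⟨hq⟩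
    have hX : Subgroup.zpowers (x ^ n) ≤ sigmaCore M ⊓ Subgroup.centralizer (K : Set G) :=
      Subgroup.zpowers_le.mpr (Subgroup.pow_mem _ hxK n)
    have h6 := (KData.l136 hG hM d hK.1 hX (card_zpowers_of_orderOf hqo)).1.1
    rw [centralizer_zpowers'] at h6
    exact (centralizer_le_centralizer_pow x n).trans h6

/-- B and G, Lemma 14.3, the `τ₂(M)` case: all prime divisors of the order of a `τ₂(M)`-element
of `M` lie in `σ(L)` for a single maximal subgroup `L` -/
theorem tau2_case (hG : IsMinSimpleOddOrder G) {M : Subgroup G} (hM : IsCoatom M) {x' : G}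
    (hx'1 : x' ≠ 1) (hτ : ∀ p : ℕ, p.Prime → p ∣ orderOf x' → p ∈ tau2 M) :
    ∃ L : Subgroup G, IsCoatom L ∧ ∀ p : ℕ, p.Prime → p ∣ orderOf x' → p ∈ sigma L := by
  have h1417 : T1417 G := fun M hM p _ hp A hA => Cfsg.Agent.S1417.result hG M hM p hp A hA
  obtain ⟨E, hE, -⟩ := exists_complIn_ge hG hM (A := ⊥) bot_le (by simp)
  have ho : orderOf x' ≠ 1 := fun h => hx'1 (orderOf_eq_one_iff.mp h)
  have hp0 : (orderOf x').minFac.Prime := Nat.minFac_prime ho
  have hp0d : (orderOf x').minFac ∣ orderOf x' := Nat.minFac_dvd _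
  set p0 := (orderOf x').minFac with hp0def
  haveI : Fact p0.Prime := ⟨hp0⟩
  have hp0τ : p0 ∈ tau2 M := hτ p0 hp0 hp0d
  obtain ⟨A0, hA0E, hA0, hA0c⟩ := Cfsg.Agent.Lib.Helper2.BG12.exists_sq_le_compl hG hM hE hp0τ
  have hA0bot : A0 ≠ ⊥ := by
    intro h
    rw [h, Subgroup.card_bot] at hA0c
    have := hp0.one_lt
    nlinarith
  have hA0top : A0 ≠ ⊤ := by
    intro h
    apply hM.1
    rw [eq_top_iff, ← h]
    exact hA0E.trans hE.1
  obtain ⟨L, hL, hNL⟩ := exists_coatom_ge (normalizer_ne_top hG hA0bot hA0top)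
  refine ⟨L, hL, ?_⟩
  intro p hp hpd
  haveI : Fact p.Prime := ⟨hp⟩
  have hpτ := hτ p hp hpd
  by_cases hpp : p0 = p
  · subst hpp
    exact mem_sigma_of_normalizer_le hG h1417 hL hA0 hA0c hNL
  · obtain ⟨A, hAE, hA, hAc⟩ := Cfsg.Agent.Lib.Helper2.BG12.exists_sq_le_compl hG hM hE hpτ
    have h1 := Cfsg.Agent.Lib.Lead.BG11.normalizer_le_normalizer_of_tau2 hG hM hE hpp hp0τ hpτ hA0E hA0 hA0c hAE hA hAc
    exact mem_sigma_of_normalizer_le hG h1417 hL hA hAc (h1.trans hNL)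

/-- the statement of S1432 from `KData` -/
theorem s1432_of_kdata (hG : IsMinSimpleOddOrder G) (hkd : TKData G) {M : Subgroup G}
    (hM : IsCoatom M) {x : G} (hx : x ∈ sigmaCore M) (hx1 : x ≠ 1) {x' : G}
    (hx' : x' ∈ M ⊓ Subgroup.centralizer ({x} : Set G)) (hx'1 : x' ≠ 1)
    (hσ : ∀ p : ℕ, p.Prime → p ∣ orderOf x' → p ∉ sigma M) :
    ((∀ p : ℕ, p.Prime → p ∣ orderOf x' → p ∈ kappa M) ∧
        Subgroup.centralizer ({x} : Set G) ≤ M) ∨
      ((∀ p : ℕ, p.Prime → p ∣ orderOf x' → p ∈ tau2 M) ∧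
        (∃ L : Subgroup G, IsCoatom L ∧ ∀ p : ℕ, p.Prime → p ∣ orderOf x' → p ∈ sigma L) ∧
        (Subgroup.centralizer ({x'} : Set G) ≤ M ∧ ∀ L : Subgroup G, IsCoatom L →
          Subgroup.centralizer ({x'} : Set G) ≤ L → L = M)) := by
  by_cases h : ∃ p : ℕ, p.Prime ∧ p ∣ orderOf x' ∧ p ∉ tau2 M
  · obtain ⟨p, hp, hpd, hpτ⟩ := h
    left
    have hpM : p ∣ Nat.card M := hpd.trans (orderOf_dvd_card_of_mem hx'.1)
    rcases BG19.tau_cases hG hM hp hpM (hσ p hp hpd) with h1 | h2 | h3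
    · exact kappa_case hG hkd hM hx hx1 hx' hσ hp hpd h1.2.2.2.2
    · exact absurd h2 hpτ
    · exact kappa_case hG hkd hM hx hx1 hx' hσ hp hpd h3.2.2.2
  · push Not at h
    right
    refine ⟨h, tau2_case hG hM hx'1 h, ?_⟩
    obtain ⟨E, hE, -⟩ := exists_complIn_ge hG hM (A := ⊥) bot_le (by simp)
    have hxx' : x' * x = x * x' := Subgroup.mem_centralizer_singleton_iff.mp hx'.2
    exact (Cfsg.Agent.S1420.result hG M hM E hE).2.2.2 x' hx'.1 hx'1 h
      ⟨hx'.1, x, hx, hx1, hxx'⟩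

end Cfsg.Agent.Lib.Helper5.BG143
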