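import Mathlib
import Cfsg.Agent.Lib.Helper5.BG139g

set_option autoImplicit false
set_option linter.style.haveILetI false
set_option linter.unusedSectionVars false

/-! Bender–Glauberman Lemma 13.8 / Theorem 13.9: the common core of the two proofs.  Two
non-conjugate maximal subgroups `M`, `N` with `M = M_β (M ∩ N)`, `N = N_β (M ∩ N)`, a subgroup
`P ≤ M ∩ N` of prime order `p ∈ τ₁(M) ∩ τ₁(N)` with `C_{M_β}(P) ≰ N` and `C_{N_β}(P) ≰ M`: this is
contradictory. -/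

namespace Cfsg.Agent.Lib.Helper5.BG138

open Cfsg Cfsg.Agent.Lib.Lead Cfsg.Agent.Lib.Lead.BG10 Cfsg.Agent.Lib.Helper7 Cfsg.Agent.Lib.Helper4
open Cfsg.Agent.Lib.Helper4.BG76 Cfsg.Agent.Lib.Helper4.BG8 Cfsg.Agent.Lib.Helper4.BG9
open Cfsg.Agent.Lib.Helper4.BG7 Cfsg.Agent.Lib.Helper4.BG12 Cfsg.Agent.Lib.Helper4.BGConj
open Cfsg.Agent.Lib.Helper4.BG13 Cfsg.Agent.Lib.Lead.BG12q Cfsg.Agent.Lib.Lead.BG13q
open Cfsg.Agent.Lib.Helper4.BG18 Cfsg.Agent.Lib.Helper2.BG13x Cfsg.Agent.Lib.Helper5.BG139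
open scoped commutatorElement

universe u

variable {G : Type u} [Group G] [Finite G]

/-- the core configuration -/
structure Core (M N P : Subgroup G) (p : ℕ) : Prop where
  hM : IsCoatom M
  hN : IsCoatom N
  hnc : ∀ g : G, N ≠ cj g M
  hP : Nat.card P = p
  hPD : P ≤ M ⊓ N
  hpM : p ∈ tau1 M
  hpN : p ∈ tau1 N
  leM : M ≤ piCoreOf (beta M) M ⊔ (M ⊓ N)
  leN : N ≤ piCoreOf (beta N) N ⊔ (M ⊓ N)
  aM : alpha M = beta M
  aN : alpha N = beta N
  fM : ¬ piCoreOf (beta M) M ⊓ Subgroup.centralizer (P : Set G) ≤ N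
  fN : ¬ piCoreOf (beta N) N ⊓ Subgroup.centralizer (P : Set G) ≤ M

namespace Core

variable {M N P : Subgroup G} {p : ℕ}

theorem hnc' (c : Core M N P p) : ∀ g : G, M ≠ cj g N := nonconj_symm c.hnc

theorem symm (c : Core M N P p) : Core N M P p :=
  { hM := c.hN
    hN := c.hM
    hnc := c.hnc'
    hP := c.hP
    hPD := by rw [inf_comm]; exact c.hPD
    hpM := c.hpN
    hpN := c.hpM
    leM := by rw [inf_comm]; exact c.leN
    leN := by rw [inf_comm]; exact c.leM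
    aM := c.aN
    aN := c.aM
    fM := c.fN
    fN := c.fM }

theorem pprime (c : Core M N P p) : p.Prime := c.hpM.1

theorem hPp (c : Core M N P p) : IsPGroup p ↥P := isPGroup_of_card_eq c.hP

theorem hP1 (c : Core M N P p) : P ≠ ⊥ := ne_bot_of_card_prime (c.hP ▸ c.pprime)

theorem hPM (c : Core M N P p) : P ≤ M := c.hPD.trans inf_le_left

theorem hPN (c : Core M N P p) : P ≤ N := c.hPD.trans inf_le_right

theorem hpσM (c : Core M N P p) : p ∉ sigma M := c.hpM.2.1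

theorem hpσN (c : Core M N P p) : p ∉ sigma N := c.hpN.2.1

/-- a complement of `M_σ` in `M` inside `D = M ∩ N` -/
theorem exists_compl_le (c : Core M N P p) (hG : IsMinSimpleOddOrder G) :
    ∃ E : Subgroup G, IsComplIn E (sigmaCore M) M ∧ E ≤ M ⊓ N := by
  have hsolv : Group.IsSolvable ↥M := solvable_of_ne_top hG c.hM.1
  obtain ⟨E₀, hE₀, -⟩ := exists_complIn_ge hG c.hM (A := ⊥) bot_le (by simp)
  obtain ⟨l, hl, hlE⟩ := exists_cj_le_of_supplement (L := M) (K := piCoreOf (beta M) M)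
    (U := M ⊓ N) (Y := E₀) hsolv {r | r ∉ sigma M} (piCoreOf_le _ _) inf_le_left hE₀.1
    c.leM (le_normalizer_piCoreOf _ M)
    (fun p hp hd h => h (alpha_subset_sigma hG c.hM (isPiNum_card_piCoreOf (beta M) M p hp hd).1))
    (fun p hp hd => not_sigma_of_dvd_card_compl hG c.hM hE₀ hp hd)
  refine ⟨cj l E₀, ?_, hlE⟩
  have h1 := isComplIn_cj l hE₀
  rw [cj_eq_self_of_mem hl] at h1
  have h2 : cj l (sigmaCore M) = sigmaCore M :=
    mem_normalizer_iff_cj.mp (le_normalizer_sigmaCore M hl)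
  rwa [h2] at h1

/-- a complement of `M_σ` in `M` inside `D` containing `P` -/
theorem exists_compl_ge (c : Core M N P p) (hG : IsMinSimpleOddOrder G) :
    ∃ E : Subgroup G, IsComplIn E (sigmaCore M) M ∧ E ≤ M ⊓ N ∧ P ≤ E := by
  obtain ⟨E₀, hE₀, hE₀D⟩ := c.exists_compl_le hG
  have hsolvD : Group.IsSolvable ↥(M ⊓ N) :=
    solvable_of_ne_top hG (ne_top_of_le_ne_top c.hM.1 inf_le_left)
  have hHallM := isPiHallOf_of_isComplIn hG c.hM hE₀
  have hHallD : IsPiHallOf {r | r ∉ sigma M} E₀ (M ⊓ N) :=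
    ⟨hE₀D, hHallM.2.1, fun r hr hrπ hd => hHallM.2.2 r hr hrπ
      (hd.trans (Dvd.intro _ (Subgroup.relIndex_mul_relIndex E₀ (M ⊓ N) M hE₀D inf_le_left)))⟩
  obtain ⟨d, hd, hdP⟩ := exists_cj_le_hall hsolvD _ hHallD c.hPD
    (fun r hr hdv => by rw [prime_dvd_card_prime c.pprime c.hP hr hdv]; exact c.hpσM)
  refine ⟨cj d⁻¹ E₀, ?_, ?_, ?_⟩
  · have h1 := isComplIn_cj d⁻¹ hE₀
    rw [cj_eq_self_of_mem (M.inv_mem hd.1)] at h1
    have h2 : cj d⁻¹ (sigmaCore M) = sigmaCore M :=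
      mem_normalizer_iff_cj.mp (le_normalizer_sigmaCore M (M.inv_mem hd.1))
    rwa [h2] at h1
  · have := cj_mono d⁻¹ hE₀D
    rwa [cj_eq_self_of_mem ((M ⊓ N).inv_mem hd)] at this
  · have := cj_mono d⁻¹ hdP
    rwa [cj_inv_cj] at this

/-- a subgroup of prime order `b` of `M_β` has `b ∈ β(M)` -/
theorem mem_beta_of_le {M X : Subgroup G} {b : ℕ} (hb : b.Prime) (hXb : Nat.card X = b)
    (hXβ : X ≤ piCoreOf (beta M) M) : b ∈ beta M := by
  apply isPiNum_card_piCoreOf (beta M) M b hb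
  rw [← hXb]
  exact Subgroup.card_dvd_of_le hXβ

/-- Step 5: `C_{M_β}(P) ∩ D = 1` -/
theorem beta_inf_eq_bot (c : Core M N P p) (hG : IsMinSimpleOddOrder G) (h1428 : T1428 G) :
    (piCoreOf (beta M) M ⊓ Subgroup.centralizer (P : Set G)) ⊓ (M ⊓ N) = ⊥ := by
  by_contra hne
  obtain ⟨X, b, hb, hXle, hXb⟩ := exists_prime_card_le hne
  haveI : Fact b.Prime := ⟨hb⟩
  have hXβ : X ≤ piCoreOf (beta M) M := hXle.trans (inf_le_left.trans inf_le_left)
  have hXP : X ≤ Subgroup.centralizer (P : Set G) := hXle.trans (inf_le_left.trans inf_le_right)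
  have hXM : X ≤ M := hXle.trans (inf_le_right.trans inf_le_left)
  have hXN : X ≤ N := hXle.trans (inf_le_right.trans inf_le_right)
  have hbβ : b ∈ beta M := mem_beta_of_le hb hXb hXβ
  have hbσN : b ∉ sigma N := not_sigma_of_alpha hG c.hM c.hN c.hnc' hbβ.1
  have hbσM : b ∈ sigma M := alpha_subset_sigma hG c.hM hbβ.1
  obtain ⟨P₀⟩ := (inferInstance : Nonempty (Sylow b ↥(sigmaCore M)))
  have hCX := (corollary_12_14 hG M c.hM b hbσM X hXM hXb P₀ (Or.inl hbβ)).1.1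
  -- `X P` is a `σ(N)'`-subgroup of `N`
  have hPX : P ≤ Subgroup.normalizer (X : Set G) := by
    intro e he
    apply Subgroup.centralizer_le_normalizer
    rw [Subgroup.mem_centralizer_iff]
    intro x hx
    exact ((Subgroup.mem_centralizer_iff.mp (hXP hx)) e he).symm
  have hcop : (Nat.card ↥(X ⊔ P : Subgroup G)).Coprime (Nat.card (sigmaCore N)) := by
    have h1 := card_sup_mul_card_inf P X hPX
    rw [sup_comm] at h1
    have h2 : Nat.card ↥(X ⊔ P : Subgroup G) ∣ p * b := by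
      rw [← c.hP, ← hXb, ← h1]
      exact Dvd.intro _ rfl
    apply Nat.Coprime.coprime_dvd_left h2
    apply Nat.coprime_of_dvd
    intro r hr h3 h4
    have h5 := (sigmaCore_hall hG c.hN).1.2.1 r hr h4
    rcases (Nat.Prime.dvd_mul hr).mp h3 with h | h
    · rw [(Nat.prime_dvd_prime_iff_eq hr c.pprime).mp h] at h5
      exact c.hpσN h5
    · rw [(Nat.prime_dvd_prime_iff_eq hr hb).mp h] at h5
      exact hbσN h5
  obtain ⟨E', hE', hAE'⟩ := exists_complIn_ge hG c.hN (sup_le hXN c.hPN) hcop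
  have h134 := h1428 N c.hN E' hE' p c.hpN P (le_sup_right.trans hAE') c.hP X
    (le_inf (le_sup_left.trans hAE') hXP) (hXb ▸ hb)
  apply c.fN
  intro x hx
  have h1 : x ∈ sigmaCore N ⊓ Subgroup.centralizer (P : Set G) :=
    ⟨piCoreOf_beta_le_sigmaCore hG c.hN hx.1, hx.2⟩
  have h2 := (h134 h1).2
  apply hCX
  rw [Subgroup.mem_centralizer_iff]
  intro y hy
  exact ((Subgroup.mem_centralizer_iff.mp h2) y hy)

/-- Step 6 -/
theorem step6 (c : Core M N P p) (hG : IsMinSimpleOddOrder G) {H : Subgroup G}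
    (hH : IsCoatom H) (hNH : Subgroup.normalizer (P : Set G) ≤ H) {X : Subgroup G} {b : ℕ}
    (hb : b.Prime) (hXb : Nat.card X = b) (hXβ : X ≤ piCoreOf (beta M) M)
    (hXP : X ≤ Subgroup.centralizer (P : Set G)) :
    (∀ g : G, H ≠ cj g M) ∧ b ∈ beta M ∧ (b ∈ tau1 H ∨ b ∈ tau3 H) ∧
      Subgroup.centralizer (X : Set G) ≤ M ∧ Subgroup.normalizer (X : Set G) ≤ M ∧ X ≤ H := by
  haveI : Fact b.Prime := ⟨hb⟩
  haveI : Fact p.Prime := ⟨c.pprime⟩
  have h132 := corollary_13_2 hG c.hM hH (Or.inl c.hpM) c.hPM c.hPp c.hP1 hNH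
  have hncH : ∀ g : G, H ≠ cj g M := h132.1
  have hXM : X ≤ M := hXβ.trans (piCoreOf_le _ _)
  have hXH : X ≤ H := hXP.trans ((Subgroup.centralizer_le_normalizer _).trans hNH)
  have hbβ : b ∈ beta M := mem_beta_of_le hb hXb hXβ
  have hbσM : b ∈ sigma M := alpha_subset_sigma hG c.hM hbβ.1
  have hbσH : b ∉ sigma H := not_sigma_of_alpha hG c.hM hH (nonconj_symm hncH) hbβ.1
  have hb2 : PRankLE b 2 ↥H := by
    by_contra h
    exact hbσH (alpha_subset_sigma hG hH ⟨hb, h⟩)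
  have hb1 : PRankLE b 1 ↥H := by
    by_contra h
    exact (lemma_10_5 hG hH hb2 h).1 hbβ.2
  have hbH : b ∣ Nat.card H := by
    rw [← hXb]
    exact Subgroup.card_dvd_of_le hXH
  have hbτ : b ∈ tau1 H ∨ b ∈ tau3 H := by
    by_cases hd : b ∣ Nat.card ↥⁅H, H⁆
    · exact Or.inr ⟨hb, hbσH, hd, hb1⟩
    · exact Or.inl ⟨hb, hbσH, hbH, hd, hb1⟩
  obtain ⟨P₀⟩ := (inferInstance : Nonempty (Sylow b ↥(sigmaCore M)))
  have hCX := (corollary_12_14 hG M c.hM b hbσM X hXM hXb P₀ (Or.inl hbβ)).1.1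
  have hNX : Subgroup.normalizer (X : Set G) ≤ M := by
    rw [(theorem_10_1 hG c.hM hbσM (isPGroup_of_card_eq hXb) hXM).2]
    exact sup_le inf_le_left hCX
  exact ⟨hncH, hbβ, hbτ, hCX, hNX, hXH⟩

/-- Step 8 -/
theorem step8 (c : Core M N P p) (hG : IsMinSimpleOddOrder G) (h1428 : T1428 G)
    {H : Subgroup G} (hH : IsCoatom H) (hNH : Subgroup.normalizer (P : Set G) ≤ H)
    {X : Subgroup G} {b : ℕ} (hb : b.Prime) (hXb : Nat.card X = b)
    (hXβ : X ≤ piCoreOf (beta M) M) (hXP : X ≤ Subgroup.centralizer (P : Set G))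
    {h : G} (hh : h ∈ H) (hhX : cj h X ≤ N) : False := by
  haveI : Fact b.Prime := ⟨hb⟩
  haveI : Fact p.Prime := ⟨c.pprime⟩
  obtain ⟨hncH, hbβ, -, hCX, -, hXH⟩ := c.step6 hG hH hNH hb hXb hXβ hXP
  have h132 := corollary_13_2 hG c.hM hH (Or.inl c.hpM) c.hPM c.hPp c.hP1 hNH
  have hMσH : sigmaCore M ⊓ H = sigmaCore M ⊓ Subgroup.centralizer (P : Set G) := h132.2.2.2.2.2
  have hXM : X ≤ M := hXβ.trans (piCoreOf_le _ _)
  have hbσN : b ∉ sigma N := not_sigma_of_alpha hG c.hM c.hN c.hnc' hbβ.1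
  have hPH : P ≤ H := Subgroup.le_normalizer.trans hNH
  have hhXH : cj h X ≤ H := by
    have := cj_mono h hXH
    rwa [cj_eq_self_of_mem hh] at this
  -- a Hall `σ(N)'`-subgroup of `N ∩ H` containing `P`
  have hsolvNH : Group.IsSolvable ↥(N ⊓ H) :=
    solvable_of_ne_top hG (ne_top_of_le_ne_top c.hN.1 inf_le_left)
  obtain ⟨F, hF, hPF⟩ := exists_hall_ge hsolvNH {r | r ∉ sigma N} (le_inf c.hPN hPH)
    (fun r hr hd => by rw [prime_dvd_card_prime c.pprime c.hP hr hd]; exact c.hpσN)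
  obtain ⟨n, hn, hnX⟩ := exists_cj_le_hall hsolvNH {r | r ∉ sigma N} hF (le_inf hhX hhXH)
    (fun r hr hd => by
      rw [card_cj] at hd
      rw [prime_dvd_card_prime hb hXb hr hd]; exact hbσN)
  have hcopF : (Nat.card F).Coprime (Nat.card (sigmaCore N)) :=
    Nat.coprime_of_dvd (fun k hk h1 h2 =>
      hF.2.1 k hk h1 ((sigmaCore_hall hG c.hN).1.2.1 k hk h2))
  obtain ⟨E', hE', hFE'⟩ := exists_complIn_ge hG c.hN (hF.1.trans inf_le_left) hcopF
  obtain ⟨E, hE, hED, hPE⟩ := c.symm.exists_compl_ge hG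
  obtain ⟨y, hy, hyE⟩ := exists_cj_complIn hG c.hN hE' hE (hPF.trans hFE') hPE
  have hyH : y ∈ H := hNH (Subgroup.centralizer_le_normalizer _ hy.2)
  have hgH : y * n * h ∈ H := H.mul_mem (H.mul_mem hyH hn.2) hh
  have hgX : cj (y * n * h) X ≤ E := by
    rw [cj_mul, cj_mul]
    exact (cj_mono y (hnX.trans hFE')).trans hyE.le
  have hgXM : cj (y * n * h) X ≤ M := hgX.trans (hED.trans inf_le_right)
  have hbσM : b ∈ sigma M := alpha_subset_sigma hG c.hM hbβ.1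
  obtain ⟨m, hm, z, hz, hgmz⟩ :=
    (theorem_10_1 hG c.hM hbσM (isPGroup_of_card_eq hXb) hXM).1 (y * n * h) hgXM
  have hgM : y * n * h ∈ M := by
    rw [hgmz]
    exact M.mul_mem hm (hCX hz)
  have h1 : cj (y * n * h) X ≤ piCoreOf (beta M) M := by
    have := cj_mono (y * n * h) hXβ
    rwa [mem_normalizer_iff_cj.mp (le_normalizer_piCoreOf _ M hgM)] at this
  have h2 : cj (y * n * h) X ≤ H := by
    have := cj_mono (y * n * h) hXH
    rwa [cj_eq_self_of_mem hgH] at this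
  have h3 : cj (y * n * h) X ≤ sigmaCore M ⊓ Subgroup.centralizer (P : Set G) := by
    rw [← hMσH]
    exact le_inf (h1.trans (piCoreOf_beta_le_sigmaCore hG c.hM)) h2
  have h4 : cj (y * n * h) X ≤ ⊥ := by
    rw [← c.beta_inf_eq_bot hG h1428]
    exact le_inf (le_inf h1 (h3.trans inf_le_right)) (le_inf hgXM (hgX.trans (hED.trans inf_le_left)))
  have h5 : Nat.card ↥(cj (y * n * h) X) = 1 := by
    rw [le_bot_iff.mp h4]
    simp
  rw [card_cj, hXb] at h5
  exact hb.one_lt.ne' h5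

/-- the core configuration is contradictory -/
theorem false (c : Core M N P p) (hG : IsMinSimpleOddOrder G) (h1428 : T1428 G) : False := by
  haveI : Fact p.Prime := ⟨c.pprime⟩
  have hNP : Subgroup.normalizer (P : Set G) ≠ ⊤ :=
    normalizer_ne_top hG c.hP1 (ne_top_of_le_ne_top c.hM.1 c.hPM)
  obtain ⟨H, hH, hNH⟩ := exists_coatom_ge hNP
  have hX : piCoreOf (beta M) M ⊓ Subgroup.centralizer (P : Set G) ≠ ⊥ := by
    intro h
    apply c.fM
    rw [h]
    exact bot_le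
  have hY : piCoreOf (beta N) N ⊓ Subgroup.centralizer (P : Set G) ≠ ⊥ := by
    intro h
    apply c.fN
    rw [h]
    exact bot_le
  obtain ⟨X, b, hb, hXle, hXb⟩ := exists_prime_card_le hX
  obtain ⟨Y, c', hc, hYle, hYc⟩ := exists_prime_card_le hY
  obtain ⟨-, -, hbτ, -, hNX, hXH⟩ :=
    c.step6 hG hH hNH hb hXb (hXle.trans inf_le_left) (hXle.trans inf_le_right)
  obtain ⟨-, -, hcτ, -, hNY, hYH⟩ :=
    c.symm.step6 hG hH hNH hc hYc (hYle.trans inf_le_left) (hYle.trans inf_le_right)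
  obtain ⟨h, hh, h1 | h1⟩ := exists_cj_le_normalizer hG hH hXH hYH hb hc hXb hYc hbτ hcτ
  · exact c.step8 hG h1428 hH hNH hb hXb (hXle.trans inf_le_left) (hXle.trans inf_le_right) hh
      (h1.trans hNY)
  · exact c.symm.step8 hG h1428 hH hNH hc hYc (hYle.trans inf_le_left) (hYle.trans inf_le_right)
      hh (h1.trans hNX)

end Core

end Cfsg.Agent.Lib.Helper5.BG138
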