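import Mathlib
import Cfsg.Agent.Lib.Helper5.BG138a

set_option autoImplicit false
set_option linter.style.haveILetI false
set_option linter.unusedSectionVars false

/-! Bender–Glauberman Lemma 13.8: two generic facts.  (1) `M = M_β N_M(Q)` for a Sylow
`q`-subgroup `Q ≤ M'` of `M`, `q ∉ β(M)`; (2) `α(M) = β(M)` if `M = M_β D` with `D` contained in
a second maximal subgroup. -/

namespace Cfsg.Agent.Lib.Helper5.BG138

open Cfsg Cfsg.Agent.Lib.Lead Cfsg.Agent.Lib.Lead.BG10 Cfsg.Agent.Lib.Helper7 Cfsg.Agent.Lib.Helper4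
open Cfsg.Agent.Lib.Helper4.BG76 Cfsg.Agent.Lib.Helper4.BG8 Cfsg.Agent.Lib.Helper4.BG9
open Cfsg.Agent.Lib.Helper4.BG7 Cfsg.Agent.Lib.Helper4.BG12 Cfsg.Agent.Lib.Helper4.BGConj
open Cfsg.Agent.Lib.Helper4.BG13 Cfsg.Agent.Lib.Lead.BG12q Cfsg.Agent.Lib.Lead.BG13q
open Cfsg.Agent.Lib.Helper4.BG18 Cfsg.Agent.Lib.Helper2.BG13x Cfsg.Agent.Lib.Helper5.BG139
open scoped commutatorElement

universe u

variable {G : Type u} [Group G] [Finite G]

/-- `M = M_β N_M(Q)` for a Sylow `q`-subgroup `Q` of `M` inside `M'`, `q ∉ β(M)` -/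
theorem le_beta_sup_normalizer (hG : IsMinSimpleOddOrder G) {M : Subgroup G} (hM : IsCoatom M)
    {q : ℕ} [hq : Fact q.Prime] {Q : Subgroup G} (hQ : SylIn q M Q) (hQM' : Q ≤ ⁅M, M⁆)
    (hqβ : q ∉ beta M) :
    M ≤ piCoreOf (beta M) M ⊔ (M ⊓ Subgroup.normalizer (Q : Set G)) := by
  classical
  obtain ⟨h1, -, ⟨H, hH, hHnil⟩, -, -⟩ := Cfsg.Agent.S1414.result hG M hM
  set B := piCoreOf (beta M) M with hB
  have hBM : B ≤ M := Subgroup.map_subtype_le _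
  have hMB : M ≤ Subgroup.normalizer (B : Set G) := le_normalizer_piCoreOf _ M
  have hBM' : B ≤ ⁅M, M⁆ := (piCoreOf_beta_le_sigmaCore hG hM).trans (sigmaCore_le_commutator hG hM)
  have hM'M : ⁅M, M⁆ ≤ M := Subgroup.commutator_le_self M
  have hHM' : H ≤ ⁅M, M⁆ := hH.1
  have hM'le : ⁅M, M⁆ ≤ B ⊔ H := by
    rw [← Subgroup.relIndex_eq_one]
    by_contra hne1
    obtain ⟨r, hr, hrd⟩ := Nat.exists_prime_and_dvd hne1
    by_cases hrβ : r ∈ beta M
    · apply h1.2.2 r hr hrβ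
      have e := Subgroup.relIndex_mul_relIndex B ⁅M, M⁆ M hBM' hM'M
      rw [← e]
      exact (hrd.trans (Subgroup.relIndex_dvd_of_le_left _ le_sup_left)).trans (Dvd.intro _ rfl)
    · apply hH.2.2 r hr ⟨hr, hrβ⟩
      exact hrd.trans (Subgroup.relIndex_dvd_of_le_left _ le_sup_right)
  obtain ⟨SH, -, hSH⟩ := exists_sylIn_ge (bot_le : (⊥ : Subgroup G) ≤ H) (IsPGroup.of_bot (p := q))
  have hHSH : H ≤ Subgroup.normalizer (SH : Set G) := sylIn_normal_of_isNilpotent hHnil hSH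
  have hSHM' : SylIn q ⁅M, M⁆ SH := by
    refine ⟨hSH.1.trans hHM', hSH.2.1, ?_⟩
    rw [← Subgroup.relIndex_mul_relIndex SH H ⁅M, M⁆ hSH.1 hHM']
    intro hd
    rcases (Nat.Prime.dvd_mul hq.out).mp hd with h | h
    · exact hSH.2.2 h
    · exact hH.2.2 q hq.out ⟨hq.out, hqβ⟩ h
  set K := B ⊔ SH with hK
  have hKM' : K ≤ ⁅M, M⁆ := sup_le hBM' hSHM'.1
  have hM'K : ⁅M, M⁆ ≤ Subgroup.normalizer (K : Set G) := by
    refine hM'le.trans (sup_le ?_ ?_)
    · exact (le_sup_left : B ≤ K).trans Subgroup.le_normalizer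
    · intro h hh
      exact mem_normalizer_sup (hMB (hM'M (hHM' hh))) (hHSH hh)
  have hM'n : M ≤ Subgroup.normalizer ((⁅M, M⁆ : Subgroup G) : Set G) := by
    intro m hm
    rw [mem_normalizer_iff_cj, BGConj.cj_commutator, cj_eq_self_of_mem hm]
  have hall : ∀ T : Subgroup G, SylIn q ⁅M, M⁆ T → T ≤ K := by
    intro T hT
    obtain ⟨y, hy, hyT⟩ := hSHM'.conj hT
    rw [← hyT]
    have := cj_mono y (le_sup_right : SH ≤ K)
    rwa [mem_normalizer_iff_cj.mp (hM'K hy)] at this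
  have hMK : M ≤ Subgroup.normalizer (K : Set G) := by
    intro m hm
    rw [mem_normalizer_iff_cj]
    have h2 : cj m K ≤ K := by
      rw [hK, cj_sup, mem_normalizer_iff_cj.mp (hMB hm)]
      exact sup_le le_sup_left (hall _ (hSHM'.cj' (hM'n hm)))
    exact Subgroup.eq_of_le_of_card_ge h2 (by rw [card_cj])
  have hSsylM' : SylIn q ⁅M, M⁆ Q := hQ.mono hQM' hM'M
  have hSK : Q ≤ K := hall Q hSsylM'
  have hSsylK : SylIn q K Q := hQ.mono hSK (hKM'.trans hM'M)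
  have hKeq : K = B ⊔ Q := by
    obtain ⟨y, hy, hyS⟩ := hSHM'.conj hSsylM'
    have h3 : cj y K = K := mem_normalizer_iff_cj.mp (hM'K hy)
    rw [← h3, hK, cj_sup, mem_normalizer_iff_cj.mp (hMB (hM'M hy)), hyS]
  intro x hx
  obtain ⟨l, hl, y, hy, rfl⟩ := frattini_rel (hKM'.trans hM'M) hMK hSsylK hx
  apply Subgroup.mul_mem
  · rw [hKeq] at hl
    exact (sup_le le_sup_left
      ((le_inf hQ.1 Subgroup.le_normalizer).trans le_sup_right)) hl
  · exact (le_sup_right : M ⊓ Subgroup.normalizer (Q : Set G) ≤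
      B ⊔ (M ⊓ Subgroup.normalizer (Q : Set G))) hy

/-- `α(M) = β(M)` if `M = M_β D` with `D` contained in a second maximal subgroup -/
theorem alpha_eq_beta_of_le_sup (hG : IsMinSimpleOddOrder G) {M L D : Subgroup G} (hM : IsCoatom M)
    (hL : IsCoatom L) (hne : L ≠ M) (hDM : D ≤ M) (hDL : D ≤ L)
    (h1 : M ≤ piCoreOf (beta M) M ⊔ D) : alpha M = beta M := by
  apply Set.Subset.antisymm _ (fun p hp => hp.1)
  intro p hpα
  by_contra hpβ
  haveI : Fact p.Prime := ⟨hpα.1⟩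
  obtain ⟨P, dP⟩ := exists_sigmaData hM (alpha_subset_sigma hG hM hpα)
  have hr : ¬ PRankLE p 2 ↥P := fun h => hpα.2 (prankLE_of_sylIn dP.sylIn h)
  obtain ⟨l, hl, hlP⟩ := exists_cj_le_of_not_beta hG hM hDM h1 hpβ dP.hPM dP.hPp
  have hr' : ¬ PRankLE p 2 ↥(cj l P) := by
    intro h
    apply hr
    exact Rk2.prankLE_of_injective (cjEquiv l P).toMonoidHom (cjEquiv l P).injective h
  obtain ⟨M₀, -, huniq⟩ := uniq_of_rank_three hG (isPGroup_cj l dP.hPp) hr'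
  exact hne ((huniq L ⟨hL, hlP.trans hDL⟩).trans (huniq M ⟨hM, hlP.trans hDM⟩).symm)

end Cfsg.Agent.Lib.Helper5.BG138
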