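import Mathlib
import Cfsg.Agent.Lib.Helper5.BG138b

set_option autoImplicit false
set_option linter.style.haveILetI false
set_option linter.unusedSectionVars false

/-! Bender–Glauberman Lemma 13.8 (in the form found by helper4): `M`, `N` non-conjugate maximal
subgroups, `P ≤ M ∩ N` of prime order `p ∈ τ₁(M) ∩ τ₁(N)`, `Q` a `P`-invariant Sylow `q`-subgroup
of `M ∩ N` with `C_Q(P) = 1`, `N_G(Q) ≤ N`, `q ∈ σ(N)`, and `Q*` a `P`-invariant Sylow
`q*`-subgroup of `M ∩ N` with `C_{Q*}(P) = 1`, `N_G(Q*) ≤ M`, `q* ∈ σ(M)`: contradiction. -/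

namespace Cfsg.Agent.Lib.Helper5.BG138

open Cfsg Cfsg.Agent.Lib.Lead Cfsg.Agent.Lib.Lead.BG10 Cfsg.Agent.Lib.Helper7 Cfsg.Agent.Lib.Helper4
open Cfsg.Agent.Lib.Helper4.BG76 Cfsg.Agent.Lib.Helper4.BG8 Cfsg.Agent.Lib.Helper4.BG9
open Cfsg.Agent.Lib.Helper4.BG7 Cfsg.Agent.Lib.Helper4.BG12 Cfsg.Agent.Lib.Helper4.BGConj
open Cfsg.Agent.Lib.Helper4.BG13 Cfsg.Agent.Lib.Lead.BG12q Cfsg.Agent.Lib.Lead.BG13q
open Cfsg.Agent.Lib.Helper4.BG18 Cfsg.Agent.Lib.Helper2.BG13x Cfsg.Agent.Lib.Helper5.BG139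
open scoped commutatorElement

universe u

variable {G : Type u} [Group G] [Finite G]

/-- one half of the configuration of Lemma 13.8 -/
structure Half (M N Q P : Subgroup G) (q p : ℕ) : Prop where
  hM : IsCoatom M
  hN : IsCoatom N
  hnc : ∀ g : G, N ≠ cj g M
  hQ : SylIn q (M ⊓ N) Q
  hNQ : Subgroup.normalizer (Q : Set G) ≤ N
  hqN : q ∈ sigma N
  hP : Nat.card P = p
  hPD : P ≤ M ⊓ N
  hpM : p ∈ tau1 M
  hPQ : P ≤ Subgroup.normalizer (Q : Set G)
  hfpf : Q ⊓ Subgroup.centralizer (P : Set G) = ⊥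

namespace Half

variable {M N Q P : Subgroup G} {q p : ℕ}

theorem hne (c : Half M N Q P q p) : N ≠ M := by
  have := c.hnc 1
  rwa [cj_one] at this

theorem hnc' (c : Half M N Q P q p) : ∀ g : G, M ≠ cj g N := nonconj_symm c.hnc

theorem hQM (c : Half M N Q P q p) : Q ≤ M := c.hQ.1.trans inf_le_left

theorem hQN (c : Half M N Q P q p) : Q ≤ N := c.hQ.1.trans inf_le_right

theorem hQq (c : Half M N Q P q p) : IsPGroup q Q := c.hQ.2.1

theorem pprime (c : Half M N Q P q p) : p.Prime := c.hpM.1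

theorem hPM (c : Half M N Q P q p) : P ≤ M := c.hPD.trans inf_le_left

theorem hpσM (c : Half M N Q P q p) : p ∉ sigma M := c.hpM.2.1

theorem Q_ne_bot (c : Half M N Q P q p) : Q ≠ ⊥ := by
  intro h0
  apply c.hN.1
  rw [eq_top_iff]
  intro x _
  have : x ∈ Subgroup.normalizer ((Q : Subgroup G) : Set G) := by
    rw [h0, mem_normalizer_iff_cj, cj_bot]
  exact c.hNQ this

variable [hq : Fact q.Prime]

theorem sylIn_M (c : Half M N Q P q p) : SylIn q M Q := by
  refine ⟨c.hQM, c.hQq, ?_⟩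
  obtain ⟨R, hSR, hR⟩ := exists_sylIn_ge c.hQM c.hQq
  have : R = Q := by
    apply eq_of_sylIn_of_normalizer c.hQ hSR hR.2.1
    intro y hyR hyN
    exact ⟨hR.1 hyR, c.hNQ hyN⟩
  rw [← this]
  exact hR.2.2

theorem not_unique (c : Half M N Q P q p) : ¬ InUniqueMaximal Q := by
  rintro ⟨M₀, -, huniq⟩
  exact c.hne ((huniq N ⟨c.hN, c.hQN⟩).trans (huniq M ⟨c.hM, c.hQM⟩).symm)

theorem Q_comm (c : Half M N Q P q p) (hG : IsMinSimpleOddOrder G) : IsMulCommutative ↥Q := by
  by_contra hna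
  exact c.not_unique (Cfsg.Agent.S1422.result hG q Q c.hQq hna)

theorem q_not_alpha (c : Half M N Q P q p) (hG : IsMinSimpleOddOrder G) : q ∉ alpha M := by
  have hSr : PRankLE q 2 ↥Q := by
    by_contra hr
    exact c.not_unique (uniq_of_rank_three hG c.hQq hr)
  exact fun h => h.2 (prankLE_of_sylIn c.sylIn_M hSr)

theorem p_ne_q (c : Half M N Q P q p) (hG : IsMinSimpleOddOrder G) : p ≠ q := by
  intro h
  subst h
  haveI := c.Q_comm hG
  -- `P ≤ Q`
  have hPp : IsPGroup p ↥P := isPGroup_of_card_eq c.hP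
  have hPQ : P ≤ Q := by
    have hsup : IsPGroup p ↥(Q ⊔ P : Subgroup G) := by
      have h1 := card_sup_mul_card_inf P Q c.hPQ
      rw [sup_comm] at h1
      obtain ⟨a, ha⟩ := IsPGroup.iff_card.mp c.hQq
      have h2 : Nat.card ↥(Q ⊔ P : Subgroup G) ∣ p ^ (a + 1) := by
        rw [pow_succ, ← ha, ← c.hP, mul_comm, ← h1]
        exact Dvd.intro _ rfl
      obtain ⟨k, -, hk⟩ := (Nat.dvd_prime_pow c.pprime).mp h2
      exact IsPGroup.of_card hk
    obtain ⟨R, hR, hR'⟩ := exists_sylIn_ge (sup_le c.hQM c.hPM) hsup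
    have hRQ : R = Q := by
      have h2 := (c.sylIn_M).card_eq hR'
      exact (Subgroup.eq_of_le_of_card_ge (le_sup_left.trans hR) h2.symm.le).symm
    rw [← hRQ]
    exact le_sup_right.trans hR
  have hbot : P ≤ Q ⊓ Subgroup.centralizer (P : Set G) := by
    refine le_inf hPQ ?_
    intro x hx
    rw [Subgroup.mem_centralizer_iff]
    intro y hy
    have := (c.Q_comm hG).is_comm.comm (⟨y, hPQ hy⟩ : Q) ⟨x, hPQ hx⟩
    exact congrArg Subtype.val this
  rw [c.hfpf] at hbot
  exact ne_bot_of_card_prime (c.hP ▸ c.pprime) (le_bot_iff.mp hbot)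

theorem Q_le_commutator (c : Half M N Q P q p) (hG : IsMinSimpleOddOrder G) : Q ≤ ⁅M, M⁆ := by
  haveI := c.Q_comm hG
  have hcop : (Nat.card P).Coprime (Nat.card Q) := by
    rw [c.hP]
    obtain ⟨a, ha⟩ := IsPGroup.iff_card.mp c.hQq
    rw [ha]
    apply Nat.Coprime.pow_right
    exact (Nat.coprime_primes c.pprime hq.out).mpr (c.p_ne_q hG)
  have h2 := (coprime_abelian_decomp P Q c.hPQ hcop).2
  rw [c.hfpf, bot_sup_eq] at h2
  rw [← h2]
  exact Subgroup.commutator_mono c.hQM c.hPM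

theorem q_not_beta (c : Half M N Q P q p) (hG : IsMinSimpleOddOrder G) : q ∉ beta M :=
  fun h => c.q_not_alpha hG h.1

theorem p_not_beta (c : Half M N Q P q p) (hG : IsMinSimpleOddOrder G) : p ∉ beta M :=
  fun h => c.hpσM (alpha_subset_sigma hG c.hM h.1)

theorem le_sup (c : Half M N Q P q p) (hG : IsMinSimpleOddOrder G) :
    M ≤ piCoreOf (beta M) M ⊔ (M ⊓ N) :=
  (le_beta_sup_normalizer hG c.hM c.sylIn_M (c.Q_le_commutator hG) (c.q_not_beta hG)).trans
    (sup_le_sup_left (inf_le_inf_left _ c.hNQ) _)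

theorem alpha_eq (c : Half M N Q P q p) (hG : IsMinSimpleOddOrder G) : alpha M = beta M :=
  alpha_eq_beta_of_le_sup hG c.hM c.hN c.hne inf_le_left inf_le_right (c.le_sup hG)

/-- `M_β` does not centralize `Q` -/
theorem beta_not_le (c : Half M N Q P q p) (hG : IsMinSimpleOddOrder G) :
    ¬ piCoreOf (beta M) M ≤ Subgroup.centralizer (Q : Set G) := by
  intro h
  have h1 : piCoreOf (beta M) M ≤ N :=
    h.trans ((Subgroup.centralizer_le_normalizer _).trans c.hNQ)
  have h2 : M ≤ N := (c.le_sup hG).trans (sup_le h1 inf_le_right)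
  exact c.hne (eq_of_coatom_le c.hM c.hN h2).symm

/-- `M_β ∩ D` centralizes `Q` -/
theorem beta_inf_le_centralizer (c : Half M N Q P q p) (hG : IsMinSimpleOddOrder G) :
    piCoreOf (beta M) M ⊓ (M ⊓ N) ≤ Subgroup.centralizer (Q : Set G) := by
  have hQσ : Q ≤ sigmaCore N := by
    apply le_sigmaCore_of_piNum hG c.hN c.hQN
    intro r hr hd
    rw [prime_eq_of_dvd_card c.hQq hr hd]
    exact c.hqN
  have hαβ : alphaCore M = piCoreOf (beta M) M := by
    rw [← c.alpha_eq hG]
    rfl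
  have hbot : (piCoreOf (beta M) M ⊓ (M ⊓ N)) ⊓ (sigmaCore N ⊓ (M ⊓ N)) = ⊥ := by
    rw [eq_bot_iff, ← alphaCore_inf_sigmaCore hG c.hM c.hN c.hnc', hαβ]
    exact le_inf (inf_le_left.trans inf_le_left) (inf_le_right.trans inf_le_left)
  have hA : piCoreOf (beta M) M ⊓ (M ⊓ N) ≤
      Subgroup.normalizer ((sigmaCore N ⊓ (M ⊓ N) : Subgroup G) : Set G) :=
    inf_le_right.trans (le_normalizer_inf' (inf_le_right.trans (le_normalizer_sigmaCore N))
      Subgroup.le_normalizer)
  have hB : sigmaCore N ⊓ (M ⊓ N) ≤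
      Subgroup.normalizer ((piCoreOf (beta M) M ⊓ (M ⊓ N) : Subgroup G) : Set G) :=
    inf_le_right.trans (le_normalizer_inf' (inf_le_left.trans (le_normalizer_piCoreOf _ M))
      Subgroup.le_normalizer)
  have h1 := le_centralizer_of_normalize hA hB hbot
  exact h1.trans (Subgroup.centralizer_le (by exact_mod_cast le_inf hQσ c.hQ.1))

/-- the order of `Q ⊔ P` divides `|Q| p` -/
theorem card_sup_dvd (c : Half M N Q P q p) :
    Nat.card ↥(Q ⊔ P : Subgroup G) ∣ Nat.card Q * p := by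
  have h1 := card_sup_mul_card_inf P Q c.hPQ
  rw [sup_comm] at h1
  rw [← c.hP, mul_comm (Nat.card Q), ← h1]
  exact Dvd.intro _ rfl

/-- `|M_β|` is coprime to `|Q ⊔ P|` -/
theorem coprime_beta (c : Half M N Q P q p) (hG : IsMinSimpleOddOrder G) :
    (Nat.card (piCoreOf (beta M) M)).Coprime (Nat.card ↥(Q ⊔ P : Subgroup G)) := by
  apply Nat.Coprime.coprime_dvd_right c.card_sup_dvd
  apply Nat.coprime_of_dvd
  intro r hr h1 h2
  have h3 := isPiNum_card_piCoreOf (beta M) M r hr h1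
  rcases (Nat.Prime.dvd_mul hr).mp h2 with h | h
  · rw [prime_eq_of_dvd_card c.hQq hr h] at h3
    exact c.q_not_beta hG h3
  · rw [(Nat.prime_dvd_prime_iff_eq hr c.pprime).mp h] at h3
    exact c.p_not_beta hG h3

/-- the Frobenius step: `C_{M_β}(P)` does not centralize `Q` -/
theorem frob (c : Half M N Q P q p) (hG : IsMinSimpleOddOrder G) :
    ¬ piCoreOf (beta M) M ⊓ Subgroup.centralizer (P : Set G) ≤ Subgroup.centralizer (Q : Set G) := by
  intro hle
  have hsolv : Group.IsSolvable ↥(piCoreOf (beta M) M) :=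
    solvable_of_ne_top hG (fun h => c.hM.1 (eq_top_iff.mpr (h ▸ piCoreOf_le _ _)))
  have hform := Cfsg.Agent.Lib.Lead.FF.s1545 Q P (piCoreOf (beta M) M)
    (fun e he u hu => (Subgroup.mem_normalizer_iff.mp (c.hPQ he) u).mp hu)
    (by
      intro e he he1 u hu heu
      have h1 := ZP.centralizer_singleton_eq P (c.hP ▸ c.pprime) e he he1
      have h2 : u ∈ Q ⊓ Subgroup.centralizer (P : Set G) := by
        refine ⟨hu, ?_⟩
        rw [← h1]
        exact Subgroup.mem_centralizer_singleton_iff.mpr heu.symm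
      rw [c.hfpf, Subgroup.mem_bot] at h2
      exact h2)
    (by
      intro x hx h hh
      have hxM : x ∈ M := (sup_le c.hQM c.hPM) hx
      exact (Subgroup.mem_normalizer_iff.mp (le_normalizer_piCoreOf (beta M) M hxM) h).mp hh)
    hsolv (c.coprime_beta hG)
  have heq : piCoreOf (beta M) M ⊓ Subgroup.centralizer ((Q ⊔ P : Subgroup G) : Set G) =
      piCoreOf (beta M) M ⊓ Subgroup.centralizer (P : Set G) := by
    apply le_antisymm
    · exact inf_le_inf_left _ (Subgroup.centralizer_le (by exact_mod_cast (le_sup_right : P ≤ Q ⊔ P)))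
    · intro x hx
      refine ⟨hx.1, ?_⟩
      have h1 : Q ⊔ P ≤ Subgroup.centralizer ({x} : Set G) := by
        apply sup_le
        · intro s hs
          rw [Subgroup.mem_centralizer_singleton_iff]
          exact (Subgroup.mem_centralizer_iff.mp (hle hx) s hs)
        · intro e he
          rw [Subgroup.mem_centralizer_singleton_iff]
          exact (Subgroup.mem_centralizer_iff.mp hx.2 e he)
      show x ∈ Subgroup.centralizer ((Q ⊔ P : Subgroup G) : Set G)
      rw [Subgroup.mem_centralizer_iff]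
      intro y hy
      have := h1 hy
      rw [Subgroup.mem_centralizer_singleton_iff] at this
      exact this
  rw [heq] at hform
  have hpos : 0 < Nat.card ↥(piCoreOf (beta M) M ⊓ Subgroup.centralizer (P : Set G) : Subgroup G) ^
      Nat.card P := pow_pos Nat.card_pos _
  have h2 := Nat.eq_of_mul_eq_mul_left hpos hform
  have h3 : piCoreOf (beta M) M ⊓ Subgroup.centralizer (Q : Set G) = piCoreOf (beta M) M :=
    Subgroup.eq_of_le_of_card_ge inf_le_left h2.le
  exact c.beta_not_le hG (inf_eq_left.mp h3)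

/-- `C_{M_β}(P) ≰ N` -/
theorem not_le (c : Half M N Q P q p) (hG : IsMinSimpleOddOrder G) :
    ¬ piCoreOf (beta M) M ⊓ Subgroup.centralizer (P : Set G) ≤ N := by
  intro h
  apply c.frob hG
  refine le_trans ?_ (c.beta_inf_le_centralizer hG)
  exact le_inf inf_le_left (le_inf (inf_le_left.trans (piCoreOf_le _ _)) h)

end Half

/-- **Bender–Glauberman, Lemma 13.8** -/
theorem lemma_13_8 (hG : IsMinSimpleOddOrder G) {M N Q Q' P : Subgroup G} {q q' p : ℕ}
    (h1 : Half M N Q P q p) (h2 : Half N M Q' P q' p) : False := by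
  haveI : Fact q.Prime := ⟨h1.hqN.1⟩
  haveI : Fact q'.Prime := ⟨h2.hqN.1⟩
  have c : Core M N P p :=
    { hM := h1.hM
      hN := h1.hN
      hnc := h1.hnc
      hP := h1.hP
      hPD := h1.hPD
      hpM := h1.hpM
      hpN := h2.hpM
      leM := h1.le_sup hG
      leN := by rw [inf_comm]; exact h2.le_sup hG
      aM := h1.alpha_eq hG
      aN := h2.alpha_eq hG
      fM := h1.not_le hG
      fN := h2.not_le hG }
  exact c.false hG (t1428 hG)

end Cfsg.Agent.Lib.Helper5.BG138
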