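import Mathlib

set_option autoImplicit false

namespace Cfsg.Agent.Lib.Helper5.NilSym

universe u

/-- In a nilpotent group, elements of coprime finite orders commute. -/
theorem commute_of_coprime (G : Type u) [Group G] [Group.IsNilpotent G] :
    ∀ x y : G, IsOfFinOrder x → IsOfFinOrder y → (orderOf x).Coprime (orderOf y) →
      Commute x y := by
  apply @Group.nilpotent_center_quotient_ind
    (fun G _ _ => ∀ x y : G, IsOfFinOrder x → IsOfFinOrder y → (orderOf x).Coprime (orderOf y) →
      Commute x y) G _ _ <;> clear! G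
  · intro G _ _ x y _ _ _
    exact Subsingleton.elim _ _
  · intro G _ _ ih x y hx hy hxy
    set π := QuotientGroup.mk' (Subgroup.center G) with hπ
    have hx' : IsOfFinOrder (π x) := π.isOfFinOrder hx
    have hy' : IsOfFinOrder (π y) := π.isOfFinOrder hy
    have hco : (orderOf (π x)).Coprime (orderOf (π y)) :=
      Nat.Coprime.coprime_dvd_left (orderOf_map_dvd π x)
        (Nat.Coprime.coprime_dvd_right (orderOf_map_dvd π y) hxy)
    have hc := ih (π x) (π y) hx' hy' hco
    -- the commutator is central
    set z := x * y * x⁻¹ * y⁻¹ with hz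
    have hzc : z ∈ Subgroup.center G := by
      rw [← QuotientGroup.ker_mk' (Subgroup.center G), MonoidHom.mem_ker]
      show π z = 1
      rw [hz, map_mul, map_mul, map_mul, map_inv, map_inv, hc.eq]
      group
    have hzcomm : ∀ g : G, Commute z g := fun g => (Subgroup.mem_center_iff.1 hzc g).symm
    -- `z ^ orderOf y = 1`
    have h1 : z ^ orderOf y = 1 := by
      have e1 : x * y * x⁻¹ = z * y := by rw [hz]; group
      have e2 : (x * y * x⁻¹) ^ orderOf y = 1 := by
        rw [conj_pow, pow_orderOf_eq_one, mul_one, mul_inv_cancel]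
      rw [e1, (hzcomm y).mul_pow, pow_orderOf_eq_one, mul_one] at e2
      exact e2
    have h2 : z ^ orderOf x = 1 := by
      have e1 : y * x⁻¹ * y⁻¹ = x⁻¹ * z := by rw [hz]; group
      have e2 : (y * x⁻¹ * y⁻¹) ^ orderOf x = 1 := by
        rw [conj_pow, inv_pow, pow_orderOf_eq_one, inv_one, mul_one, mul_inv_cancel]
      rw [e1, ((hzcomm x⁻¹).symm).mul_pow, inv_pow, pow_orderOf_eq_one, inv_one, one_mul] at e2
      exact e2
    have h3 : orderOf z ∣ 1 := by
      rw [← Nat.Coprime.gcd_eq_one hxy]
      exact Nat.dvd_gcd (orderOf_dvd_of_pow_eq_one h2) (orderOf_dvd_of_pow_eq_one h1)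
    have h4 : z = 1 := orderOf_eq_one_iff.1 (Nat.dvd_one.1 h3)
    show x * y = y * x
    have : x * y = z * (y * x) := by rw [hz]; group
    rw [this, h4, one_mul]

/-- A Sylow subgroup of a finite nilpotent group has a centralising complement. -/
theorem exists_compl {G : Type u} [Group G] [Finite G] [Group.IsNilpotent G] (p : ℕ)
    [Fact p.Prime] (P : Sylow p G) :
    ∃ Q : Subgroup G, Subgroup.IsComplement' (P : Subgroup G) Q ∧ (Nat.card Q).Coprime p ∧
      ∀ x ∈ (P : Subgroup G), ∀ y ∈ Q, Commute x y := by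
  obtain ⟨Q, hQ⟩ := Subgroup.exists_right_complement'_of_coprime (N := (P : Subgroup G))
    P.card_coprime_index
  have hcard : Nat.card Q = (P : Subgroup G).index := hQ.symm.index_eq_card.symm
  have hcop : (Nat.card Q).Coprime p := by
    rw [hcard]
    have := P.card_coprime_index
    by_contra hcon
    have hdvd : p ∣ (P : Subgroup G).index := by
      rcases Nat.coprime_or_dvd_of_prime (Fact.out : p.Prime) (P : Subgroup G).index with h | h
      · exact absurd h.symm hcon
      · exact h
    exact P.not_dvd_index hdvd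
  refine ⟨Q, hQ, hcop, ?_⟩
  intro x hx y hy
  apply commute_of_coprime G x y (isOfFinOrder_of_finite x) (isOfFinOrder_of_finite y)
  obtain ⟨k, hk⟩ := (IsPGroup.iff_orderOf.1 P.2) ⟨x, hx⟩
  have hox : orderOf x = p ^ k := by
    rw [← hk, Subgroup.orderOf_mk]
  rw [hox]
  apply Nat.Coprime.pow_left
  have hoy : orderOf y ∣ Nat.card Q := by
    have := orderOf_dvd_natCard (⟨y, hy⟩ : Q)
    rwa [Subgroup.orderOf_mk] at this
  exact (Nat.Coprime.coprime_dvd_left hoy hcop).symm

end Cfsg.Agent.Lib.Helper5.NilSym
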