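import Mathlib
import Cfsg.Agent.Lib.Helper5.BG143a
import Cfsg.Agent.Lib.Helper4.BG20e
import Cfsg.Agent.Lib.Helper2.BG14w3
import Cfsg.Agent.Lib.Helper2.BG14z9

set_option autoImplicit false
set_option linter.style.haveILetI false
set_option linter.unusedSectionVars false

/-! B and G, Theorem 14.2, unconditionally: the data `KData M K` for every nontrivial Hall
`κ(M)`-subgroup `K` of a maximal subgroup `M`. -/

namespace Cfsg.Agent.Lib.Helper5.BG143

open Cfsg Cfsg.Agent.Lib.Helper2.BG14z

universe u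

variable {G : Type u} [Group G] [Finite G]

/-- the phantom structure theorem (B and G, Lemmas 13.10 and 13.11) -/
theorem tphantom (hG : IsMinSimpleOddOrder G) : TPhantom G :=
  Cfsg.Agent.Lib.Helper2.BG14w.tphantom_of_tp1 hG (Cfsg.Agent.Lib.Helper4.BG20.tp1 hG)

/-- B and G, Lemma 13.12 -/
theorem tclaimR (hG : IsMinSimpleOddOrder G) : TClaimR G :=
  tclaimR_of_tphantom hG (tphantom hG)

/-- B and G, Theorem 14.2 -/
theorem tkdata (hG : IsMinSimpleOddOrder G) : TKData G :=
  fun _ _ hM hK hK1 => kdata hG (tphantom hG) (tclaimR hG) hM hK hK1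

end Cfsg.Agent.Lib.Helper5.BG143
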