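import Mathlib
import Cfsg.Agent.Lib.Helper5.BG143b
import Cfsg.Agent.Lib.Lead.BG14n4

set_option autoImplicit false
set_option linter.style.haveILetI false
set_option linter.unusedSectionVars false
set_option maxHeartbeats 800000

/-! B and G, Theorem 14.7, local part (A): `M` a maximal subgroup, `K ≠ 1` a Hall `κ(M)`-subgroup,
`X ≤ K` of prime order and `N` a maximal subgroup containing `N_G(X)`. -/

namespace Cfsg.Agent.Lib.Helper5.BG147

open Cfsg Cfsg.Agent.Lib.Lead Cfsg.Agent.Lib.Lead.BG10 Cfsg.Agent.Lib.Helper7 Cfsg.Agent.Lib.Helper4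
open Cfsg.Agent.Lib.Helper4.BG76 Cfsg.Agent.Lib.Helper4.BG8 Cfsg.Agent.Lib.Helper4.BG9
open Cfsg.Agent.Lib.Helper4.BG7 Cfsg.Agent.Lib.Helper4.BG12 Cfsg.Agent.Lib.Helper4.BGConj
open Cfsg.Agent.Lib.Helper4.BG13 Cfsg.Agent.Lib.Lead.BG12q Cfsg.Agent.Lib.Lead.BG13q
open Cfsg.Agent.Lib.Helper4.BG18 Cfsg.Agent.Lib.Helper2.BG13x Cfsg.Agent.Lib.Helper5.BG139
open Cfsg.Agent.Lib.Helper4.BG14 Cfsg.Agent.Lib.Helper2.BG14z Cfsg.Agent.Lib.Helper5.BG143
open scoped commutatorElement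

universe u

variable {G : Type u} [Group G] [Finite G]

/-- `K* = C_{M_σ}(K)` -/
abbrev kstar (M K : Subgroup G) : Subgroup G := sigmaCore M ⊓ Subgroup.centralizer (K : Set G)

/-- the local situation of B and G, Theorem 14.7 -/
structure Loc (M K X N : Subgroup G) : Prop where
  hM : IsCoatom M
  hK : IsPiHallOf (kappa M) K M
  hXK : X ≤ K
  hXp : (Nat.card X).Prime
  hN : IsCoatom N
  hNX : Subgroup.normalizer (X : Set G) ≤ N

namespace Loc

variable {M K X N : Subgroup G}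

theorem X_ne_bot (c : Loc M K X N) : X ≠ ⊥ := ne_bot_of_card_prime c.hXp

theorem K_ne_bot (c : Loc M K X N) : K ≠ ⊥ := fun h => c.X_ne_bot (le_bot_iff.mp (h ▸ c.hXK))

theorem dM (c : Loc M K X N) (hG : IsMinSimpleOddOrder G) : KData M K :=
  tkdata hG M K c.hM c.hK c.K_ne_bot

theorem hKM (c : Loc M K X N) : K ≤ M := c.hK.1

theorem hXM (c : Loc M K X N) : X ≤ M := c.hXK.trans c.hKM

theorem hXN (c : Loc M K X N) : X ≤ N := Subgroup.le_normalizer.trans c.hNX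

/-- `X ≤ N_σ` -/
theorem X_le_sigmaCore (c : Loc M K X N) (hG : IsMinSimpleOddOrder G) : X ≤ sigmaCore N :=
  (c.dM hG).sig X c.hXK c.hXp N c.hN c.hNX

/-- `|X| ∈ σ(N)` -/
theorem mem_sigma (c : Loc M K X N) (hG : IsMinSimpleOddOrder G) : Nat.card X ∈ sigma N :=
  (sigmaCore_hall hG c.hN).1.2.1 _ c.hXp (Subgroup.card_dvd_of_le (c.X_le_sigmaCore hG))

/-- `|X| ∈ κ(M)` -/
theorem mem_kappa (c : Loc M K X N) : Nat.card X ∈ kappa M :=
  c.hK.2.1 _ c.hXp (Subgroup.card_dvd_of_le c.hXK)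

/-- `N` is not conjugate to `M` -/
theorem not_conj (c : Loc M K X N) (hG : IsMinSimpleOddOrder G) : ∀ g : G, N ≠ cj g M := by
  intro g h
  have h1 := c.mem_sigma hG
  rw [h, sigma_cj] at h1
  exact c.mem_kappa.2.2.1 h1

theorem ne (c : Loc M K X N) (hG : IsMinSimpleOddOrder G) : N ≠ M := by
  intro h
  apply c.not_conj hG 1
  rw [h]
  exact (cj_eq_self_of_mem (one_mem M)).symm

/-- `K* ≤ N` -/
theorem kstar_le (c : Loc M K X N) : kstar M K ≤ N := by
  refine le_trans ?_ ((Subgroup.centralizer_le_normalizer _).trans c.hNX)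
  exact inf_le_right.trans (Subgroup.centralizer_le (by exact_mod_cast c.hXK))

/-- `K ≤ N` -/
theorem K_le (c : Loc M K X N) (hG : IsMinSimpleOddOrder G) : K ≤ N := by
  have h1 := ((c.dM hG).norm X c.hXK c.hXp).1
  have h2 : K ≤ M ⊓ Subgroup.normalizer (X : Set G) := by
    rw [h1]
    exact le_sup_left
  exact (h2.trans inf_le_right).trans c.hNX

/-- `σ(M)` and `σ(N)` are disjoint -/
theorem sigma_disjoint (c : Loc M K X N) (hG : IsMinSimpleOddOrder G) {q : ℕ} (hqM : q ∈ sigma M) :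
    q ∉ sigma N := by
  intro hqN
  obtain ⟨g, hg⟩ := sigma_partition hG c.hM c.hN hqM hqN
  exact c.not_conj hG g hg

/-- `M_σ ∩ N_σ = 1` -/
theorem sigmaCore_inf (c : Loc M K X N) (hG : IsMinSimpleOddOrder G) :
    sigmaCore M ⊓ sigmaCore N = ⊥ := by
  refine (Subgroup.disjoint_of_coprime_natCard ?_).eq_bot
  apply Nat.coprime_of_dvd
  intro q hq h1 h2
  exact c.sigma_disjoint hG ((sigmaCore_hall hG c.hM).1.2.1 q hq h1)
    ((sigmaCore_hall hG c.hN).1.2.1 q hq h2)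

/-- `M` is the unique maximal subgroup containing `C_G(Y)`, for `Y ≤ K*` of prime order -/
theorem uniq_M (c : Loc M K X N) (hG : IsMinSimpleOddOrder G) {Y : Subgroup G}
    (hY : Y ≤ kstar M K) (hYp : (Nat.card Y).Prime) :
    Subgroup.centralizer (Y : Set G) ≤ M ∧
      ∀ L : Subgroup G, IsCoatom L → Subgroup.centralizer (Y : Set G) ≤ L → L = M := by
  haveI : Fact (Nat.card Y).Prime := ⟨hYp⟩
  exact (KData.l136 hG c.hM (c.dM hG) c.hKM hY rfl).1

/-- `C_G(y) ≤ M` for `y ∈ K*#` -/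
theorem centralizer_le_M (c : Loc M K X N) (hG : IsMinSimpleOddOrder G) {y : G}
    (hy : y ∈ kstar M K) (hy1 : y ≠ 1) : Subgroup.centralizer ({y} : Set G) ≤ M := by
  obtain ⟨n, hn⟩ := exists_zpowers_prime hy1
  have h1 : Subgroup.zpowers (y ^ n) ≤ kstar M K :=
    Subgroup.zpowers_le.mpr (Subgroup.pow_mem _ hy n)
  have h2 := (c.uniq_M hG h1 hn).1
  rw [centralizer_zpowers'] at h2
  exact (centralizer_le_centralizer_pow y n).trans h2

/-- B and G, Lemma 14.3 in `N`: the elements of `K*` are `κ(N)`-elements, and `C_G(X) ≤ N` -/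
theorem kappa_of_mem_kstar (c : Loc M K X N) (hG : IsMinSimpleOddOrder G) {y : G}
    (hy : y ∈ kstar M K) (hy1 : y ≠ 1) :
    (∀ q : ℕ, q.Prime → q ∣ orderOf y → q ∈ kappa N) ∧
      Subgroup.centralizer (X : Set G) ≤ N := by
  obtain ⟨⟨x, hx⟩, hx1⟩ := (Subgroup.ne_bot_iff_exists_ne_one).mp c.X_ne_bot
  have hx1' : x ≠ 1 := fun h => hx1 (Subtype.ext h)
  have hxσ : x ∈ sigmaCore N := c.X_le_sigmaCore hG hx
  have hxy : x * y = y * x := (Subgroup.mem_centralizer_iff.mp hy.2) x (c.hXK hx)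
  have hyN : y ∈ N ⊓ Subgroup.centralizer ({x} : Set G) :=
    ⟨c.kstar_le hy, Subgroup.mem_centralizer_singleton_iff.mpr hxy.symm⟩
  have hσ : ∀ q : ℕ, q.Prime → q ∣ orderOf y → q ∉ sigma N := by
    intro q hq hd
    apply c.sigma_disjoint hG
    exact (sigmaCore_hall hG c.hM).1.2.1 q hq (hd.trans (orderOf_dvd_card_of_mem hy.1))
  have hCX : Subgroup.centralizer (X : Set G) = Subgroup.centralizer ({x} : Set G) :=
    centralizer_eq_of_card_prime c.hXp hx hx1'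
  rcases s1432_of_kdata hG (tkdata hG) c.hN hxσ hx1' hyN hy1 hσ with h | h
  · exact ⟨h.1, hCX ▸ h.2⟩
  · exfalso
    apply c.ne hG
    exact (h.2.2.2 M c.hM (c.centralizer_le_M hG hy hy1)).symm

/-- `C_G(X) ≤ N` -/
theorem centralizer_le_N (c : Loc M K X N) (hG : IsMinSimpleOddOrder G) :
    Subgroup.centralizer (X : Set G) ≤ N := by
  obtain ⟨⟨y, hy⟩, hy1⟩ := (Subgroup.ne_bot_iff_exists_ne_one).mp (c.dM hG).fix_ne
  exact (c.kappa_of_mem_kstar hG hy (fun h => hy1 (Subtype.ext h))).2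

/-- `K*` is a `κ(N)`-group -/
theorem kstar_kappa (c : Loc M K X N) (hG : IsMinSimpleOddOrder G) :
    ∀ q : ℕ, q.Prime → q ∣ Nat.card (kstar M K) → q ∈ kappa N := by
  intro q hq hd
  haveI : Fact q.Prime := ⟨hq⟩
  obtain ⟨⟨y, hy⟩, hyo⟩ := exists_prime_orderOf_dvd_card' q hd
  have hyo' : orderOf y = q := by rw [← hyo, Subgroup.orderOf_mk]
  have hy1 : y ≠ 1 := by
    intro h
    rw [h, orderOf_one] at hyo'
    exact hq.one_lt.ne hyo'
  exact (c.kappa_of_mem_kstar hG hy hy1).1 q hq (by rw [hyo'])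

/-- a Hall `κ(N)`-subgroup of `N` containing `K*` -/
theorem exists_hall (c : Loc M K X N) (hG : IsMinSimpleOddOrder G) :
    ∃ K₁ : Subgroup G, IsPiHallOf (kappa N) K₁ N ∧ kstar M K ≤ K₁ :=
  exists_hall_ge (solvable_of_ne_top hG c.hN.1) (kappa N) c.kstar_le (c.kstar_kappa hG)

end Loc

end Cfsg.Agent.Lib.Helper5.BG147
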