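import Mathlib
import Cfsg.Agent.Lib.Helper5.BG147a

set_option autoImplicit false
set_option linter.style.haveILetI false
set_option linter.unusedSectionVars false
set_option maxHeartbeats 800000

/-! B and G, Theorem 14.7, local part (A), continued: with a Hall `κ(N)`-subgroup `K₁ ≥ K*` of `N`,
`M ∩ N = K K* = K₁ K₁*`, `K* ≤ K₁`, `K₁* ≤ K`. -/

namespace Cfsg.Agent.Lib.Helper5.BG147

open Cfsg Cfsg.Agent.Lib.Lead Cfsg.Agent.Lib.Lead.BG10 Cfsg.Agent.Lib.Helper7 Cfsg.Agent.Lib.Helper4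
open Cfsg.Agent.Lib.Helper4.BG76 Cfsg.Agent.Lib.Helper4.BG8 Cfsg.Agent.Lib.Helper4.BG9
open Cfsg.Agent.Lib.Helper4.BG7 Cfsg.Agent.Lib.Helper4.BG12 Cfsg.Agent.Lib.Helper4.BGConj
open Cfsg.Agent.Lib.Helper4.BG13 Cfsg.Agent.Lib.Lead.BG12q Cfsg.Agent.Lib.Lead.BG13q
open Cfsg.Agent.Lib.Helper4.BG18 Cfsg.Agent.Lib.Helper2.BG13x Cfsg.Agent.Lib.Helper5.BG139
open Cfsg.Agent.Lib.Helper4.BG14 Cfsg.Agent.Lib.Helper2.BG14z Cfsg.Agent.Lib.Helper5.BG143
open Cfsg.Agent.Lib.Helper5.BG144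
open scoped commutatorElement

universe u

variable {G : Type u} [Group G] [Finite G]

/-- two elements of subgroups meeting trivially and normalizing each other commute -/
theorem comm_of_inf_eq_bot {A B : Subgroup G} (hAB : A ⊓ B = ⊥) {a x : G} (ha : a ∈ A) (hx : x ∈ B)
    (hxA : x ∈ Subgroup.normalizer (A : Set G)) (haB : a ∈ Subgroup.normalizer (B : Set G)) :
    a * x = x * a := by
  have h1 : x * a⁻¹ * x⁻¹ ∈ A := (Subgroup.mem_normalizer_iff.mp hxA _).mp (A.inv_mem ha)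
  have h2 : a * x * a⁻¹ ∈ B := (Subgroup.mem_normalizer_iff.mp haB _).mp hx
  have h3 : a * x * a⁻¹ * x⁻¹ ∈ A ⊓ B := by
    refine ⟨?_, B.mul_mem h2 (B.inv_mem hx)⟩
    have e : a * x * a⁻¹ * x⁻¹ = a * (x * a⁻¹ * x⁻¹) := by group
    rw [e]
    exact A.mul_mem ha h1
  rw [hAB, Subgroup.mem_bot] at h3
  have e3 : a * x = (a * x * a⁻¹ * x⁻¹) * (x * a) := by group
  rw [e3, h3, one_mul]

/-- the local situation together with a Hall `κ(N)`-subgroup `K₁` of `N` containing `K*` -/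
structure Loc2 (M K X N K₁ : Subgroup G) : Prop where
  loc : Loc M K X N
  hK₁ : IsPiHallOf (kappa N) K₁ N
  hle : kstar M K ≤ K₁

theorem Loc.exists_loc2 {M K X N : Subgroup G} (c : Loc M K X N) (hG : IsMinSimpleOddOrder G) :
    ∃ K₁ : Subgroup G, Loc2 M K X N K₁ := by
  obtain ⟨K₁, h1, h2⟩ := c.exists_hall hG
  exact ⟨K₁, ⟨c, h1, h2⟩⟩

namespace Loc2

variable {M K X N K₁ : Subgroup G}

theorem K₁_ne_bot (c : Loc2 M K X N K₁) (hG : IsMinSimpleOddOrder G) : K₁ ≠ ⊥ := by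
  intro h
  apply (c.loc.dM hG).fix_ne
  exact le_bot_iff.mp (h ▸ c.hle)

theorem dN (c : Loc2 M K X N K₁) (hG : IsMinSimpleOddOrder G) : KData N K₁ :=
  tkdata hG N K₁ c.loc.hN c.hK₁ (c.K₁_ne_bot hG)

/-- a non-identity element of `K*` -/
theorem exists_y (c : Loc2 M K X N K₁) (hG : IsMinSimpleOddOrder G) :
    ∃ y : G, y ∈ kstar M K ∧ y ≠ 1 := by
  obtain ⟨⟨y, hy⟩, hy1⟩ := (Subgroup.ne_bot_iff_exists_ne_one).mp (c.loc.dM hG).fix_ne
  exact ⟨y, hy, fun h => hy1 (Subtype.ext h)⟩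

/-- a non-identity element of `X` -/
theorem exists_x (c : Loc2 M K X N K₁) : ∃ x : G, x ∈ X ∧ x ≠ 1 := by
  obtain ⟨⟨x, hx⟩, hx1⟩ := (Subgroup.ne_bot_iff_exists_ne_one).mp c.loc.X_ne_bot
  exact ⟨x, hx, fun h => hx1 (Subtype.ext h)⟩

/-- `C_{N_σ}(y) = K₁*` for `y ∈ K*#` -/
theorem inf_centralizer_eq (c : Loc2 M K X N K₁) (hG : IsMinSimpleOddOrder G) {y : G}
    (hy : y ∈ kstar M K) (hy1 : y ≠ 1) :
    sigmaCore N ⊓ Subgroup.centralizer ({y} : Set G) = kstar N K₁ :=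
  (c.dN hG).semiprime y (c.hle hy) hy1

/-- `C_{M_σ}(x) = K*` for `x ∈ X#` -/
theorem inf_centralizer_eq' (c : Loc2 M K X N K₁) (hG : IsMinSimpleOddOrder G) {x : G}
    (hx : x ∈ X) (hx1 : x ≠ 1) :
    sigmaCore M ⊓ Subgroup.centralizer ({x} : Set G) = kstar M K :=
  (c.loc.dM hG).semiprime x (c.loc.hXK hx) hx1

/-- `X ≤ K₁*` -/
theorem X_le_kstar (c : Loc2 M K X N K₁) (hG : IsMinSimpleOddOrder G) : X ≤ kstar N K₁ := by
  obtain ⟨y, hy, hy1⟩ := c.exists_y hG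
  rw [← c.inf_centralizer_eq hG hy hy1]
  refine le_inf (c.loc.X_le_sigmaCore hG) ?_
  intro x hx
  rw [Subgroup.mem_centralizer_singleton_iff]
  exact (Subgroup.mem_centralizer_iff.mp hy.2) x (c.loc.hXK hx)

/-- `N` is the unique maximal subgroup containing `C_G(X')`, for `X' ≤ K₁*` of prime order -/
theorem uniq_N (c : Loc2 M K X N K₁) (hG : IsMinSimpleOddOrder G) {X' : Subgroup G}
    (hX' : X' ≤ kstar N K₁) (hX'p : (Nat.card X').Prime) :
    Subgroup.centralizer (X' : Set G) ≤ N ∧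
      ∀ L : Subgroup G, IsCoatom L → Subgroup.centralizer (X' : Set G) ≤ L → L = N := by
  haveI : Fact (Nat.card X').Prime := ⟨hX'p⟩
  exact (KData.l136 hG c.loc.hN (c.dN hG) c.hK₁.1 hX' rfl).1

/-- `M_σ ∩ N = K*` -/
theorem sigmaCore_inf_N (c : Loc2 M K X N K₁) (hG : IsMinSimpleOddOrder G) :
    sigmaCore M ⊓ N = kstar M K := by
  apply le_antisymm
  · obtain ⟨x, hx, hx1⟩ := c.exists_x
    rw [← c.inf_centralizer_eq' hG hx hx1]
    rintro a ⟨haM, haN⟩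
    refine ⟨haM, ?_⟩
    apply Subgroup.mem_centralizer_singleton_iff.mpr
    exact comm_of_inf_eq_bot (c.loc.sigmaCore_inf hG) haM (c.loc.X_le_sigmaCore hG hx)
      (le_normalizer_sigmaCore M (c.loc.hXM hx)) (le_normalizer_sigmaCore N haN)
  · exact le_inf inf_le_left c.loc.kstar_le

/-- `K₁* ≤ M` -/
theorem kstar_N_le (c : Loc2 M K X N K₁) (hG : IsMinSimpleOddOrder G) : kstar N K₁ ≤ M := by
  obtain ⟨y, hy, hy1⟩ := c.exists_y hG
  rw [← c.inf_centralizer_eq hG hy hy1]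
  exact inf_le_right.trans (c.loc.centralizer_le_M hG hy hy1)

/-- `N_σ ∩ M = K₁*` -/
theorem sigmaCore_inf_M (c : Loc2 M K X N K₁) (hG : IsMinSimpleOddOrder G) :
    sigmaCore N ⊓ M = kstar N K₁ := by
  apply le_antisymm
  · obtain ⟨y, hy, hy1⟩ := c.exists_y hG
    rw [← c.inf_centralizer_eq hG hy hy1]
    rintro a ⟨haN, haM⟩
    refine ⟨haN, ?_⟩
    apply Subgroup.mem_centralizer_singleton_iff.mpr
    have hAB : sigmaCore N ⊓ sigmaCore M = ⊥ := by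
      rw [inf_comm]
      exact c.loc.sigmaCore_inf hG
    exact comm_of_inf_eq_bot hAB haN hy.1
      (le_normalizer_sigmaCore N (c.loc.kstar_le hy)) (le_normalizer_sigmaCore M haM)
  · exact le_inf inf_le_left (c.kstar_N_le hG)

/-- `N_G(Y) ≤ M` for `Y ≤ K*` of prime order -/
theorem normalizer_le_M (c : Loc2 M K X N K₁) (hG : IsMinSimpleOddOrder G) {Y : Subgroup G}
    (hY : Y ≤ kstar M K) (hYp : (Nat.card Y).Prime) : Subgroup.normalizer (Y : Set G) ≤ M := by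
  have hY1 : Y ≠ ⊥ := ne_bot_of_card_prime hYp
  have hYM : Y ≤ M := hY.trans (inf_le_left.trans (sigmaCore_le M))
  have hYtop : Y ≠ ⊤ := fun h => c.loc.hM.1 (eq_top_iff.mpr (h ▸ hYM))
  obtain ⟨L, hL, hNL⟩ := exists_coatom_ge (normalizer_ne_top hG hY1 hYtop)
  have h1 := (c.loc.uniq_M hG hY hYp).2 L hL ((Subgroup.centralizer_le_normalizer _).trans hNL)
  exact h1 ▸ hNL

/-- `M ∩ N = K₁ K₁*` -/
theorem inf_eq (c : Loc2 M K X N K₁) (hG : IsMinSimpleOddOrder G) :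
    M ⊓ N = K₁ ⊔ kstar N K₁ := by
  obtain ⟨Y, hY, hYp⟩ := exists_prime_le (c.loc.dM hG).fix_ne
  have hYK₁ : Y ≤ K₁ := hY.trans c.hle
  have hnorm := ((c.dN hG).norm Y hYK₁ hYp).1
  rw [← hnorm]
  apply le_antisymm
  · rintro d ⟨hdM, hdN⟩
    refine ⟨hdN, ?_⟩
    apply mem_normalizer_iff_cj.mpr
    have h1 : cj d (kstar M K) = kstar M K := by
      rw [← c.sigmaCore_inf_N hG, Cfsg.Agent.Lib.Helper7.cj_inf,
        mem_normalizer_iff_cj.mp (le_normalizer_sigmaCore M hdM), cj_eq_self_of_mem hdN]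
    have h2 : cj d Y ≤ K₁ := (cj_mono d hY).trans (h1.le.trans c.hle)
    exact (c.dN hG).uniq Y (cj d Y) hYK₁ h2 hYp (Cfsg.Agent.Lib.Helper7.card_cj d Y)
  · exact le_inf (inf_le_right.trans (c.normalizer_le_M hG hY hYp)) inf_le_left

/-- `K₁ ≤ K K*` -/
theorem K₁_le (c : Loc2 M K X N K₁) (hG : IsMinSimpleOddOrder G) : K₁ ≤ K ⊔ kstar M K := by
  have h1 : K₁ ≤ M := (le_sup_left.trans (c.inf_eq hG).ge).trans inf_le_left
  have h2 : K₁ ≤ Subgroup.centralizer (X : Set G) :=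
    Subgroup.le_centralizer_iff.mp ((c.X_le_kstar hG).trans inf_le_right)
  rw [← ((c.loc.dM hG).norm X c.loc.hXK c.loc.hXp).1]
  exact le_inf h1 (h2.trans (Subgroup.centralizer_le_normalizer _))

/-- the elements of `K₁*` are `κ(M)`-elements -/
theorem kappa_of_mem_kstar_N (c : Loc2 M K X N K₁) (hG : IsMinSimpleOddOrder G) {a : G}
    (ha : a ∈ kstar N K₁) (ha1 : a ≠ 1) :
    ∀ q : ℕ, q.Prime → q ∣ orderOf a → q ∈ kappa M := by
  obtain ⟨y, hy, hy1⟩ := c.exists_y hG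
  have haM : a ∈ M := c.kstar_N_le hG ha
  have hya : y * a = a * y := (Subgroup.mem_centralizer_iff.mp ha.2) y (c.hle hy)
  have haC : a ∈ M ⊓ Subgroup.centralizer ({y} : Set G) :=
    ⟨haM, Subgroup.mem_centralizer_singleton_iff.mpr hya.symm⟩
  have hσ : ∀ q : ℕ, q.Prime → q ∣ orderOf a → q ∉ sigma M := by
    intro q hq hd hqM
    exact c.loc.sigma_disjoint hG hqM
      ((sigmaCore_hall hG c.loc.hN).1.2.1 q hq (hd.trans (orderOf_dvd_card_of_mem ha.1)))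
  rcases s1432_of_kdata hG (tkdata hG) c.loc.hM hy.1 hy1 haC ha1 hσ with h | h
  · exact h.1
  · exfalso
    have hCN : ¬ Subgroup.centralizer ({a} : Set G) ≤ N :=
      fun hle => c.loc.ne hG (h.2.2.2 N c.loc.hN hle)
    obtain ⟨N', ⟨hN', hCN'⟩, -, -, -, -, hcompl, -⟩ := theorem_14_4_c hG c.loc.hN ha.1 ha1 hCN
    have hN'M : N' = M := h.2.2.2 N' hN' hCN'
    rw [hN'M] at hcompl
    apply (c.loc.dM hG).fix_ne
    rw [eq_bot_iff, ← hcompl.2.2.1]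
    exact le_inf (le_inf c.loc.kstar_le (inf_le_left.trans (sigmaCore_le M))) inf_le_left

/-- `K₁* ≤ K` -/
theorem kstar_N_le_K (c : Loc2 M K X N K₁) (hG : IsMinSimpleOddOrder G) : kstar N K₁ ≤ K := by
  have hsolv : Group.IsSolvable ↥M := solvable_of_ne_top hG c.loc.hM.1
  have hprimes : ∀ q : ℕ, q.Prime → q ∣ Nat.card (kstar N K₁) → q ∈ kappa M := by
    intro q hq hd
    haveI : Fact q.Prime := ⟨hq⟩
    obtain ⟨⟨a, ha⟩, hao⟩ := exists_prime_orderOf_dvd_card' q hd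
    have hao' : orderOf a = q := by rw [← hao, Subgroup.orderOf_mk]
    have ha1 : a ≠ 1 := by
      intro h
      rw [h, orderOf_one] at hao'
      exact hq.one_lt.ne hao'
    exact c.kappa_of_mem_kstar_N hG ha ha1 q hq (by rw [hao'])
  obtain ⟨m, hm, hmK⟩ := exists_cj_le_hall hsolv (kappa M) c.loc.hK (c.kstar_N_le hG) hprimes
  have h1 : kstar N K₁ ≤ cj m⁻¹ K := by
    have := cj_mono m⁻¹ hmK
    rwa [cj_inv_cj] at this
  have h2 : X ≤ K ⊓ cj m⁻¹ K := le_inf c.loc.hXK ((c.X_le_kstar hG).trans h1)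
  have h3 : m⁻¹ ∈ K ⊔ kstar M K := by
    by_contra hn
    have := (s1431_of_kdata hG c.loc.hM (c.loc.dM hG) c.loc.hKM).2.1 m⁻¹ (M.inv_mem hm) hn
    exact c.loc.X_ne_bot (le_bot_iff.mp (this ▸ h2))
  have h4 : cj m⁻¹ K = K := by
    have hn := ((c.loc.dM hG).norm X c.loc.hXK c.loc.hXp).2
    have h5 : m⁻¹ ∈ M ⊓ Subgroup.normalizer (K : Set G) := hn ▸ h3
    exact mem_normalizer_iff_cj.mp h5.2
  rwa [h4] at h1

/-- `M ∩ N = K K*` -/
theorem inf_eq' (c : Loc2 M K X N K₁) (hG : IsMinSimpleOddOrder G) : M ⊓ N = K ⊔ kstar M K := by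
  apply le_antisymm
  · rw [c.inf_eq hG]
    exact sup_le (c.K₁_le hG) ((c.kstar_N_le_K hG).trans le_sup_left)
  · exact sup_le (le_inf c.loc.hKM (c.loc.K_le hG))
      (le_inf (inf_le_left.trans (sigmaCore_le M)) c.loc.kstar_le)

/-- `K K* = K₁ K₁*` -/
theorem sup_eq (c : Loc2 M K X N K₁) (hG : IsMinSimpleOddOrder G) :
    K ⊔ kstar M K = K₁ ⊔ kstar N K₁ := by
  rw [← c.inf_eq' hG, c.inf_eq hG]

end Loc2

end Cfsg.Agent.Lib.Helper5.BG147
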