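import Mathlib
import Cfsg.Agent.Lib.Helper5.BG147b
import Cfsg.Agent.Lib.Helper4.BG19g

set_option autoImplicit false
set_option linter.style.haveILetI false
set_option linter.unusedSectionVars false
set_option maxHeartbeats 800000

/-! B and G, Theorem 14.7, part (C): the family of maximal subgroups attached to `Z = K K*`. -/

namespace Cfsg.Agent.Lib.Helper5.BG147

open Cfsg Cfsg.Agent.Lib.Lead Cfsg.Agent.Lib.Lead.BG10 Cfsg.Agent.Lib.Helper7 Cfsg.Agent.Lib.Helper4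
open Cfsg.Agent.Lib.Helper4.BG76 Cfsg.Agent.Lib.Helper4.BG8 Cfsg.Agent.Lib.Helper4.BG9
open Cfsg.Agent.Lib.Helper4.BG7 Cfsg.Agent.Lib.Helper4.BG12 Cfsg.Agent.Lib.Helper4.BGConj
open Cfsg.Agent.Lib.Helper4.BG13 Cfsg.Agent.Lib.Lead.BG12q Cfsg.Agent.Lib.Lead.BG13q
open Cfsg.Agent.Lib.Helper4.BG18 Cfsg.Agent.Lib.Helper2.BG13x Cfsg.Agent.Lib.Helper5.BG139
open Cfsg.Agent.Lib.Helper4.BG14 Cfsg.Agent.Lib.Helper2.BG14z Cfsg.Agent.Lib.Helper5.BG143
open Cfsg.Agent.Lib.Helper5.BG144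
open scoped commutatorElement

universe u

variable {G : Type u} [Group G] [Finite G]

/-- `N` is a maximal subgroup with a Hall `κ(N)`-subgroup `K' ≠ 1` such that `K' K'* = Z` -/
structure Mem (Z N K' : Subgroup G) : Prop where
  hN : IsCoatom N
  hK : IsPiHallOf (kappa N) K' N
  hK1 : K' ≠ ⊥
  hZ : K' ⊔ kstar N K' = Z

/-- `N` belongs to the family attached to `Z` -/
def IsMember (Z N : Subgroup G) : Prop := ∃ K' : Subgroup G, Mem Z N K'

namespace Mem

variable {Z N K' : Subgroup G}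

theorem d (m : Mem Z N K') (hG : IsMinSimpleOddOrder G) : KData N K' :=
  tkdata hG N K' m.hN m.hK m.hK1

theorem K_le_Z (m : Mem Z N K') : K' ≤ Z := m.hZ ▸ le_sup_left

theorem kstar_le_Z (m : Mem Z N K') : kstar N K' ≤ Z := m.hZ ▸ le_sup_right

theorem Z_le (m : Mem Z N K') : Z ≤ N := by
  rw [← m.hZ]
  exact sup_le m.hK.1 (inf_le_left.trans (sigmaCore_le N))

theorem kstar_ne_bot (m : Mem Z N K') (hG : IsMinSimpleOddOrder G) : kstar N K' ≠ ⊥ :=
  (m.d hG).fix_ne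

/-- `K' ≤ C_G(K'*)` -/
theorem K_le_centralizer (m : Mem Z N K') : K' ≤ Subgroup.centralizer (kstar N K' : Set G) :=
  Subgroup.le_centralizer_iff.mp inf_le_right

/-- `K'` is normal in `Z` -/
theorem Z_le_normalizer_K (m : Mem Z N K') : Z ≤ Subgroup.normalizer (K' : Set G) := by
  rw [← m.hZ]
  exact sup_le Subgroup.le_normalizer
    (inf_le_right.trans (Subgroup.centralizer_le_normalizer _))

/-- `K' ∩ N_σ = 1` -/
theorem K_inf_sigmaCore (m : Mem Z N K') (hG : IsMinSimpleOddOrder G) : K' ⊓ sigmaCore N = ⊥ :=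
  (Subgroup.disjoint_of_coprime_natCard (coprime_card_kappa_hall hG m.hN m.hK)).eq_bot

/-- `N_σ ∩ Z = K'*` -/
theorem sigmaCore_inf_Z (m : Mem Z N K') (hG : IsMinSimpleOddOrder G) :
    sigmaCore N ⊓ Z = kstar N K' := by
  apply le_antisymm
  · rintro a ⟨haσ, haZ⟩
    rw [← m.hZ] at haZ
    have haZ' : a ∈ ((K' ⊔ kstar N K' : Subgroup G) : Set G) := haZ
    rw [Subgroup.coe_mul_of_left_le_normalizer_right K' (kstar N K')
      (m.K_le_centralizer.trans (Subgroup.centralizer_le_normalizer _))] at haZ'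
    obtain ⟨k, hk, s, hs, rfl⟩ := Set.mem_mul.mp haZ'
    have hkσ : k ∈ sigmaCore N := by
      have e : k = k * s * s⁻¹ := by group
      rw [e]
      exact (sigmaCore N).mul_mem haσ ((sigmaCore N).inv_mem hs.1)
    have hk1 : k ∈ K' ⊓ sigmaCore N := ⟨hk, hkσ⟩
    rw [m.K_inf_sigmaCore hG, Subgroup.mem_bot] at hk1
    rw [hk1, one_mul]
    exact hs
  · exact le_inf inf_le_left m.kstar_le_Z

/-- `K'` is a Hall `κ(N)`-subgroup of `Z` -/
theorem hall_Z (m : Mem Z N K') : IsPiHallOf (kappa N) K' Z := by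
  refine ⟨m.K_le_Z, m.hK.2.1, ?_⟩
  intro p hp hpκ hd
  apply m.hK.2.2 p hp hpκ
  rw [← Subgroup.relIndex_mul_relIndex K' Z N m.K_le_Z m.Z_le]
  exact Dvd.dvd.mul_right hd _

/-- a subgroup of `Z` all of whose prime divisors lie in `κ(N)` lies in `K'` -/
theorem le_K_of_kappa (m : Mem Z N K') {X : Subgroup G} (hXZ : X ≤ Z)
    (hX : ∀ p : ℕ, p.Prime → p ∣ Nat.card X → p ∈ kappa N) : X ≤ K' :=
  BG19.le_of_normal_hall m.hall_Z m.Z_le_normalizer_K hXZ hX

/-- a subgroup of `Z` all of whose prime divisors lie in `σ(N)` lies in `K'*` -/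
theorem le_kstar_of_sigma (m : Mem Z N K') (hG : IsMinSimpleOddOrder G) {X : Subgroup G}
    (hXZ : X ≤ Z) (hX : ∀ p : ℕ, p.Prime → p ∣ Nat.card X → p ∈ sigma N) : X ≤ kstar N K' := by
  rw [← m.sigmaCore_inf_Z hG]
  exact le_inf (le_sigmaCore_of_piNum hG m.hN (hXZ.trans m.Z_le) hX) hXZ

/-- `|Z| = |K'| |K'*|` -/
theorem card_Z (m : Mem Z N K') (hG : IsMinSimpleOddOrder G) :
    Nat.card Z = Nat.card K' * Nat.card (kstar N K') := by
  have h1 := card_sup_mul_card_inf K' (kstar N K')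
    (m.K_le_centralizer.trans (Subgroup.centralizer_le_normalizer _))
  have h2 : K' ⊓ kstar N K' = ⊥ := by
    rw [eq_bot_iff, ← m.K_inf_sigmaCore hG]
    exact inf_le_inf_left K' inf_le_left
  rw [h2, Subgroup.card_bot, mul_one, m.hZ] at h1
  exact h1

/-- a subgroup of prime order of `Z` lies in `K'` or in `K'*` -/
theorem le_or_le (m : Mem Z N K') (hG : IsMinSimpleOddOrder G) {X : Subgroup G} (hXZ : X ≤ Z)
    (hXp : (Nat.card X).Prime) : X ≤ K' ∨ X ≤ kstar N K' := by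
  have h1 : Nat.card X ∣ Nat.card K' * Nat.card (kstar N K') := by
    rw [← m.card_Z hG]
    exact Subgroup.card_dvd_of_le hXZ
  rcases (Nat.Prime.dvd_mul hXp).mp h1 with h | h
  · left
    apply m.le_K_of_kappa hXZ
    intro p hp hd
    rw [(Nat.prime_dvd_prime_iff_eq hp hXp).mp hd]
    exact m.hK.2.1 _ hXp h
  · right
    apply m.le_kstar_of_sigma hG hXZ
    intro p hp hd
    rw [(Nat.prime_dvd_prime_iff_eq hp hXp).mp hd]
    exact (sigmaCore_hall hG m.hN).1.2.1 _ hXp (h.trans (Subgroup.card_dvd_of_le inf_le_left))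

/-- `N` is the unique maximal subgroup containing `C_G(X)`, for `X ≤ K'*` of prime order -/
theorem uniq (m : Mem Z N K') (hG : IsMinSimpleOddOrder G) {X : Subgroup G}
    (hX : X ≤ kstar N K') (hXp : (Nat.card X).Prime) :
    Subgroup.centralizer (X : Set G) ≤ N ∧
      ∀ L : Subgroup G, IsCoatom L → Subgroup.centralizer (X : Set G) ≤ L → L = N := by
  haveI : Fact (Nat.card X).Prime := ⟨hXp⟩
  exact (KData.l136 hG m.hN (m.d hG) m.hK.1 hX rfl).1

/-- the covering property: every subgroup of prime order of `Z` lies in `N'_σ` for a member `N'` -/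
theorem exists_mem (m : Mem Z N K') (hG : IsMinSimpleOddOrder G) {X : Subgroup G} (hXZ : X ≤ Z)
    (hXp : (Nat.card X).Prime) :
    ∃ N' K'' : Subgroup G, Mem Z N' K'' ∧ X ≤ kstar N' K'' := by
  rcases m.le_or_le hG hXZ hXp with h | h
  · have hX1 : X ≠ ⊥ := ne_bot_of_card_prime hXp
    have hXtop : X ≠ ⊤ := fun h' => m.hN.1 (eq_top_iff.mpr (h' ▸ hXZ.trans m.Z_le))
    obtain ⟨N', hN', hNX⟩ := exists_coatom_ge (normalizer_ne_top hG hX1 hXtop)
    have c : Loc N K' X N' := ⟨m.hN, m.hK, h, hXp, hN', hNX⟩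
    obtain ⟨K₁, c2⟩ := c.exists_loc2 hG
    refine ⟨N', K₁, ⟨hN', c2.hK₁, c2.K₁_ne_bot hG, ?_⟩, c2.X_le_kstar hG⟩
    rw [← c2.sup_eq hG, m.hZ]
  · exact ⟨N, K', m, h⟩

end Mem

/-- two members whose `σ`-cores contain the same subgroup of prime order of `Z` are equal -/
theorem Mem.eq_of_le {Z N K' N' K'' : Subgroup G} (m : Mem Z N K') (m' : Mem Z N' K'')
    (hG : IsMinSimpleOddOrder G) {X : Subgroup G} (hXp : (Nat.card X).Prime)
    (hX : X ≤ kstar N K') (hX' : X ≤ kstar N' K'') : N' = N :=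
  (m.uniq hG hX hXp).2 N' m'.hN (m'.uniq hG hX' hXp).1

/-- conjugate members are equal -/
theorem Mem.eq_of_conj {Z N K' N' K'' : Subgroup G} (m : Mem Z N K') (m' : Mem Z N' K'')
    (hG : IsMinSimpleOddOrder G) {g : G} (hg : N' = cj g N) : N' = N := by
  obtain ⟨X, hX, hXp⟩ := exists_prime_le (m'.kstar_ne_bot hG)
  refine m.eq_of_le m' hG hXp ?_ hX
  apply m.le_kstar_of_sigma hG (hX.trans m'.kstar_le_Z)
  intro p hp hd
  have h1 : p ∈ sigma N' :=
    (sigmaCore_hall hG m'.hN).1.2.1 p hp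
      (hd.trans (Subgroup.card_dvd_of_le (hX.trans inf_le_left)))
  rwa [hg, sigma_cj] at h1

end Cfsg.Agent.Lib.Helper5.BG147
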