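import Mathlib
import Cfsg.Agent.Lib.Helper5.BG147c
import Cfsg.Agent.Lib.Helper4.BG21a

set_option autoImplicit false
set_option linter.style.haveILetI false
set_option linter.unusedSectionVars false
set_option maxHeartbeats 800000

/-! B and G, Theorem 14.7, part (C): the TI-set `T = Z ∖ ⋃ K*_N` and its class support. -/

namespace Cfsg.Agent.Lib.Helper5.BG147

open Cfsg Cfsg.Agent.Lib.Lead Cfsg.Agent.Lib.Lead.BG10 Cfsg.Agent.Lib.Helper7 Cfsg.Agent.Lib.Helper4
open Cfsg.Agent.Lib.Helper4.BG76 Cfsg.Agent.Lib.Helper4.BG8 Cfsg.Agent.Lib.Helper4.BG9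
open Cfsg.Agent.Lib.Helper4.BG7 Cfsg.Agent.Lib.Helper4.BG12 Cfsg.Agent.Lib.Helper4.BGConj
open Cfsg.Agent.Lib.Helper4.BG13 Cfsg.Agent.Lib.Lead.BG12q Cfsg.Agent.Lib.Lead.BG13q
open Cfsg.Agent.Lib.Helper4.BG18 Cfsg.Agent.Lib.Helper2.BG13x Cfsg.Agent.Lib.Helper5.BG139
open Cfsg.Agent.Lib.Helper4.BG14 Cfsg.Agent.Lib.Helper2.BG14z Cfsg.Agent.Lib.Helper5.BG143
open Cfsg.Agent.Lib.Helper5.BG144
open scoped commutatorElement

universe u

variable {G : Type u} [Group G] [Finite G]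

/-- the class support of a set -/
def classSupport (T : Set G) : Set G := {a | ∃ g : G, ∃ z ∈ T, a = g * z * g⁻¹}

/-- a set that is invariant under `Z` and such that only `Z` conjugates an element of it to
another one has a class support of size `|G : Z| |T|` -/
theorem ncard_classSupport {Z : Subgroup G} {T : Set G}
    (hinv : ∀ h ∈ Z, ∀ z ∈ T, h * z * h⁻¹ ∈ T)
    (hTI : ∀ z ∈ T, ∀ h : G, h * z * h⁻¹ ∈ T → h ∈ Z) :
    (classSupport T).ncard = Z.index * T.ncard := by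
  classical
  let f : (G ⧸ Z) × T → G := fun p => p.1.out * (p.2 : G) * p.1.out⁻¹
  have hinj : Function.Injective f := by
    rintro ⟨q, t⟩ ⟨q', t'⟩ h
    have h' : q.out * (t : G) * q.out⁻¹ = q'.out * (t' : G) * q'.out⁻¹ := h
    have e : (q'.out⁻¹ * q.out) * (t : G) * (q'.out⁻¹ * q.out)⁻¹ = (t' : G) := by
      calc (q'.out⁻¹ * q.out) * (t : G) * (q'.out⁻¹ * q.out)⁻¹
          = q'.out⁻¹ * (q.out * (t : G) * q.out⁻¹) * q'.out := by group
        _ = (t' : G) := by rw [h']; group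
    have hmem : q'.out⁻¹ * q.out ∈ Z := hTI t t.2 _ (e ▸ t'.2)
    have hq : q' = q := by
      have := QuotientGroup.eq.mpr hmem
      rwa [QuotientGroup.out_eq', QuotientGroup.out_eq'] at this
    subst hq
    have ht : (t : G) = (t' : G) := by
      have : (t' : G) = q'.out⁻¹ * (q'.out * (t' : G) * q'.out⁻¹) * q'.out := by group
      rw [this, ← h']
      group
    rw [Subtype.ext ht]
  have hrange : classSupport T = Set.range f := by
    ext a
    constructor
    · rintro ⟨g, z, hz, rfl⟩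
      have hmem : (QuotientGroup.mk g : G ⧸ Z).out⁻¹ * g ∈ Z :=
        QuotientGroup.eq.mp (QuotientGroup.out_eq' _)
      refine ⟨⟨(QuotientGroup.mk g : G ⧸ Z),
        ⟨_, hinv _ hmem z hz⟩⟩, ?_⟩
      show (QuotientGroup.mk g : G ⧸ Z).out *
        ((QuotientGroup.mk g : G ⧸ Z).out⁻¹ * g * z * ((QuotientGroup.mk g : G ⧸ Z).out⁻¹ * g)⁻¹) *
        (QuotientGroup.mk g : G ⧸ Z).out⁻¹ = g * z * g⁻¹
      group
    · rintro ⟨⟨q, t⟩, rfl⟩
      exact ⟨q.out, t, t.2, rfl⟩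
  rw [hrange, ← Nat.card_coe_set_eq, Nat.card_range_of_injective hinj, Nat.card_prod,
    Nat.card_coe_set_eq]
  rfl

/-- `T = Z ∖ ⋃_N K*_N`, the union over all members `N` of the family of `Z` -/
def Tset (Z : Subgroup G) : Set G :=
  {z | z ∈ Z ∧ ∀ N K' : Subgroup G, Mem Z N K' → z ∉ kstar N K'}

namespace Mem

variable {Z N K' : Subgroup G}

/-- `K'*` is normal in `Z` -/
theorem Z_le_normalizer_kstar (m : Mem Z N K') :
    Z ≤ Subgroup.normalizer (kstar N K' : Set G) := by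
  rw [← m.hZ]
  exact sup_le (m.K_le_centralizer.trans (Subgroup.centralizer_le_normalizer _))
    Subgroup.le_normalizer

/-- `Z` normalizes `T` -/
theorem conj_mem_Tset {z h : G} (hh : h ∈ Z) (hz : z ∈ Tset Z) : h * z * h⁻¹ ∈ Tset Z := by
  refine ⟨Z.mul_mem (Z.mul_mem hh hz.1) (Z.inv_mem hh), ?_⟩
  intro N₁ K₁ m₁ hc
  apply hz.2 N₁ K₁ m₁
  exact (Subgroup.mem_normalizer_iff.mp (m₁.Z_le_normalizer_kstar hh) z).mpr hc

/-- the TI property: if `z` and `h z h⁻¹` are in `T` then `h ∈ Z` -/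
theorem mem_of_conj_mem_Tset (m : Mem Z N K') (hG : IsMinSimpleOddOrder G) {z h : G}
    (hz : z ∈ Tset Z) (hw : h * z * h⁻¹ ∈ Tset Z) : h ∈ Z := by
  have hz1 : z ≠ 1 := by
    rintro rfl
    exact hz.2 N K' m (Subgroup.one_mem _)
  have hzp : Subgroup.zpowers z ≠ ⊥ := by
    intro h0
    exact hz1 (Subgroup.zpowers_eq_bot.mp h0)
  obtain ⟨X, hX, hXp⟩ := exists_prime_le hzp
  have hzZ : Subgroup.zpowers z ≤ Z := (Subgroup.zpowers_le).mpr hz.1
  obtain ⟨N', K'', m', hX'⟩ := m.exists_mem hG (hX.trans hzZ) hXp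
  have hX1 : X ≠ ⊥ := ne_bot_of_card_prime hXp
  have hzK : z ∉ K'' := by
    intro hc
    have h1 : X ≤ K'' ⊓ sigmaCore N' :=
      le_inf (hX.trans ((Subgroup.zpowers_le).mpr hc)) (hX'.trans inf_le_left)
    rw [m'.K_inf_sigmaCore hG] at h1
    exact hX1 (le_bot_iff.mp h1)
  have hwK : h * z * h⁻¹ ∉ K'' := by
    intro hc
    -- the order of `z` is divisible by a prime of `σ(N')`
    have h1 : Nat.card X ∣ orderOf z := by
      rw [← Nat.card_zpowers]
      exact Subgroup.card_dvd_of_le hX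
    have h2 : orderOf (h * z * h⁻¹) = orderOf z := by
      have := orderOf_injective (MulAut.conj h).toMonoidHom (MulAut.conj h).injective z
      simpa using this
    have h3 : Nat.card X ∣ Nat.card K'' := by
      rw [← h2] at h1
      exact h1.trans (orderOf_dvd_card_of_mem hc)
    have h4 : Nat.card X ∣ Nat.card (sigmaCore N') :=
      Subgroup.card_dvd_of_le (hX'.trans inf_le_left)
    have h5 := Nat.dvd_gcd h3 h4
    rw [coprime_card_kappa_hall hG m'.hN m'.hK] at h5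
    exact hXp.one_lt.ne' (Nat.dvd_one.mp h5)
  have := Cfsg.Agent.Lib.Helper4.BG21.mem_sup_of_conj_mem_zhat hG m'.hN m'.hK m'.hK1
    (z := z) (g := h) ⟨m'.hZ ▸ hz.1, ?_⟩ ⟨m'.hZ ▸ hw.1, ?_⟩
  · rwa [m'.hZ] at this
  · rintro (hc | hc)
    · exact hzK hc
    · exact hz.2 N' K'' m' hc
  · rintro (hc | hc)
    · exact hwK hc
    · exact hw.2 N' K'' m' hc

/-- `|𝒞_G(T)| = |G : Z| |T|` -/
theorem ncard_classSupport_Tset (m : Mem Z N K') (hG : IsMinSimpleOddOrder G) :
    (classSupport (Tset Z)).ncard = Z.index * (Tset Z).ncard :=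
  ncard_classSupport (fun _ hh _ hz => conj_mem_Tset hh hz)
    (fun _ hz _ hw => m.mem_of_conj_mem_Tset hG hz hw)

end Mem

end Cfsg.Agent.Lib.Helper5.BG147
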