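import Mathlib
import Cfsg.Agent.Lib.Helper5.BG147d
import Cfsg.Agent.Lib.Lead.BG14n5

set_option autoImplicit false
set_option linter.style.haveILetI false
set_option linter.unusedSectionVars false
set_option maxHeartbeats 800000

/-! B and G, Theorem 14.7, part (C): the class support of `T` meets no `H̃`. -/

namespace Cfsg.Agent.Lib.Helper5.BG147

open Cfsg Cfsg.Agent.Lib.Lead Cfsg.Agent.Lib.Lead.BG10 Cfsg.Agent.Lib.Helper7 Cfsg.Agent.Lib.Helper4
open Cfsg.Agent.Lib.Helper4.BG76 Cfsg.Agent.Lib.Helper4.BG8 Cfsg.Agent.Lib.Helper4.BG9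
open Cfsg.Agent.Lib.Helper4.BG7 Cfsg.Agent.Lib.Helper4.BG12 Cfsg.Agent.Lib.Helper4.BGConj
open Cfsg.Agent.Lib.Helper4.BG13 Cfsg.Agent.Lib.Lead.BG12q Cfsg.Agent.Lib.Lead.BG13q
open Cfsg.Agent.Lib.Helper4.BG18 Cfsg.Agent.Lib.Helper2.BG13x Cfsg.Agent.Lib.Helper5.BG139
open Cfsg.Agent.Lib.Helper4.BG14 Cfsg.Agent.Lib.Helper2.BG14z Cfsg.Agent.Lib.Helper5.BG143
open Cfsg.Agent.Lib.Helper5.BG144 Cfsg.Agent.Lib.Lead.BG14n
open scoped commutatorElement

universe u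

variable {G : Type u} [Group G] [Finite G]

namespace Mem

variable {Z N K' : Subgroup G}

/-- a maximal subgroup `H` whose `σ`-core contains a subgroup of prime order of `K'*` is `N` -/
theorem eq_of_sigmaCore_ge (m : Mem Z N K') (hG : IsMinSimpleOddOrder G) {H : Subgroup G}
    (hH : IsCoatom H) {X : Subgroup G} (hXp : (Nat.card X).Prime) (hX : X ≤ kstar N K')
    (hXH : X ≤ sigmaCore H) : H = N := by
  have hσH : Nat.card X ∈ sigma H :=
    (sigmaCore_hall hG hH).1.2.1 _ hXp (Subgroup.card_dvd_of_le hXH)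
  have hσN : Nat.card X ∈ sigma N :=
    (sigmaCore_hall hG m.hN).1.2.1 _ hXp (Subgroup.card_dvd_of_le (hX.trans inf_le_left))
  obtain ⟨g, hg⟩ := sigma_partition hG m.hN hH hσN hσH
  obtain ⟨x, hx, hx1⟩ : ∃ x ∈ X, x ≠ 1 := by
    by_contra hcon
    push Not at hcon
    exact ne_bot_of_card_prime hXp ((Subgroup.eq_bot_iff_forall X).mpr hcon)
  have hxN : x ∈ sigmaCore N := (hX hx).1
  have hxg : x ∈ cj g N := hg ▸ sigmaCore_le H (hXH hx)
  obtain ⟨c, hc, hcj⟩ := BG14n.exists_centralizer_cj hG m.hN hxN hxg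
  have hcN : c ∈ N := by
    apply (m.uniq hG hX hXp).1
    rwa [centralizer_eq_of_card_prime hXp hx hx1]
  rw [hg, hcj, Helper7.cj_eq_self_of_mem hcN]

/-- no element `x r`, `x ∈ H_σ#`, `r ∈ R(x)`, lies in `T` -/
theorem mul_notMem_Tset (m : Mem Z N K') (hG : IsMinSimpleOddOrder G) {H : Subgroup G}
    (hH : IsCoatom H) {x r : G} (hx : x ∈ sigmaCore H) (hx1 : x ≠ 1) (hr : r ∈ supportR H x) :
    x * r ∉ Tset Z := by
  intro hz
  obtain ⟨hxr, hcop⟩ := supportR_commute_coprime hG hH hx hx1 hr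
  obtain ⟨hxz, hrz⟩ := mem_zpowers_mul_of_coprime hxr hcop
  have hzZ : Subgroup.zpowers (x * r) ≤ Z := (Subgroup.zpowers_le).mpr hz.1
  have hxZ : x ∈ Z := hzZ hxz
  have hxp : Subgroup.zpowers x ≠ ⊥ := fun h0 => hx1 (Subgroup.zpowers_eq_bot.mp h0)
  obtain ⟨X, hX, hXp⟩ := exists_prime_le hxp
  have hXZ : X ≤ Z := hX.trans ((Subgroup.zpowers_le).mpr hxZ)
  have hXH : X ≤ sigmaCore H := hX.trans ((Subgroup.zpowers_le).mpr hx)
  obtain ⟨N', K'', m', hX'⟩ := m.exists_mem hG hXZ hXp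
  have hHN : H = N' := m'.eq_of_sigmaCore_ge hG hH hXp hX' hXH
  subst hHN
  have hxk : x ∈ kstar H K'' := by
    rw [← m'.sigmaCore_inf_Z hG]
    exact ⟨hx, hxZ⟩
  have hC : Subgroup.centralizer ({x} : Set G) ≤ H := by
    refine le_trans ?_ (m'.uniq hG hX' hXp).1
    rw [← centralizer_zpowers']
    exact Subgroup.centralizer_le hX
  rw [supportR_eq_bot hC, Subgroup.mem_bot] at hr
  rw [hr, mul_one] at hz
  exact hz.2 H K'' m' hxk

/-- the class support of `T` meets no `H̃` -/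
theorem classSupport_Tset_disjoint (m : Mem Z N K') (hG : IsMinSimpleOddOrder G) {H : Subgroup G}
    (hH : IsCoatom H) {a : G} (ha : a ∈ classSupport (Tset Z)) :
    a ∉ tildeOf H ((sigmaCore H : Set G) \ {1}) := by
  rintro ⟨x, ⟨hx, hx1⟩, r, hr, y, hy⟩
  obtain ⟨g, z, hz, rfl⟩ := ha
  have hx1' : x ≠ 1 := hx1
  set c := g⁻¹ * y with hc
  have e : z = (c * x * c⁻¹) * (c * r * c⁻¹) := by
    calc z = g⁻¹ * (g * z * g⁻¹) * g := by group
      _ = g⁻¹ * (y * (x * r) * y⁻¹) * g := by rw [hy]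
      _ = (c * x * c⁻¹) * (c * r * c⁻¹) := by rw [hc]; group
  have hx' : c * x * c⁻¹ ∈ sigmaCore (cj c H) := by
    rw [sigmaCore_cj]
    exact conj_mem_cj hx
  have hr' : c * r * c⁻¹ ∈ supportR (cj c H) (c * x * c⁻¹) := by
    rw [supportR_cj hG hH hx hx1' c]
    exact conj_mem_cj hr
  exact m.mul_notMem_Tset hG (isCoatom_cj hH c) hx' (conj_ne_one hx1') hr' (e ▸ hz)

end Mem

end Cfsg.Agent.Lib.Helper5.BG147
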