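import Mathlib
import Cfsg.Agent.Lib.Helper5.BG147e

set_option autoImplicit false
set_option linter.style.haveILetI false
set_option linter.unusedSectionVars false
set_option maxHeartbeats 800000

/-! B and G, Theorem 14.6(a) and the counting argument of Theorem 14.7. -/

namespace Cfsg.Agent.Lib.Helper5.BG147

open Cfsg Cfsg.Agent.Lib.Lead Cfsg.Agent.Lib.Lead.BG10 Cfsg.Agent.Lib.Helper7 Cfsg.Agent.Lib.Helper4
open Cfsg.Agent.Lib.Helper4.BG76 Cfsg.Agent.Lib.Helper4.BG8 Cfsg.Agent.Lib.Helper4.BG9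
open Cfsg.Agent.Lib.Helper4.BG7 Cfsg.Agent.Lib.Helper4.BG12 Cfsg.Agent.Lib.Helper4.BGConj
open Cfsg.Agent.Lib.Helper4.BG13 Cfsg.Agent.Lib.Lead.BG12q Cfsg.Agent.Lib.Lead.BG13q
open Cfsg.Agent.Lib.Helper4.BG18 Cfsg.Agent.Lib.Helper2.BG13x Cfsg.Agent.Lib.Helper5.BG139
open Cfsg.Agent.Lib.Helper4.BG14 Cfsg.Agent.Lib.Helper2.BG14z Cfsg.Agent.Lib.Helper5.BG143
open Cfsg.Agent.Lib.Helper5.BG144 Cfsg.Agent.Lib.Lead.BG14n
open scoped commutatorElement

universe u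

variable {G : Type u} [Group G] [Finite G]

/-- **B and G, Theorem 14.6(a)**: if `M̃` meets `Ñ` then `M` and `N` are conjugate -/
theorem exists_cj_of_tildeOf_inter (hG : IsMinSimpleOddOrder G) {M N : Subgroup G} (hM : IsCoatom M)
    (hN : IsCoatom N) {a : G} (haM : a ∈ tildeOf M ((sigmaCore M : Set G) \ {1}))
    (haN : a ∈ tildeOf N ((sigmaCore N : Set G) \ {1})) : ∃ g : G, N = cj g M := by
  obtain ⟨x, ⟨hx, hx1⟩, r, hr, y, hy⟩ := haM
  obtain ⟨x', ⟨hx', hx1'⟩, r', hr', y', hy'⟩ := haN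
  have hx1 : x ≠ 1 := hx1
  have hx1' : x' ≠ 1 := hx1'
  set c := y⁻¹ * y' with hc
  have e : x * r = (c * x' * c⁻¹) * (c * r' * c⁻¹) := by
    calc x * r = y⁻¹ * (y * (x * r) * y⁻¹) * y := by group
      _ = y⁻¹ * (y' * (x' * r') * y'⁻¹) * y := by rw [← hy, hy']
      _ = (c * x' * c⁻¹) * (c * r' * c⁻¹) := by rw [hc]; group
  have hxc : c * x' * c⁻¹ ∈ sigmaCore (cj c N) := by
    rw [sigmaCore_cj]
    exact conj_mem_cj hx'
  have hrc : c * r' * c⁻¹ ∈ supportR (cj c N) (c * x' * c⁻¹) := by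
    rw [supportR_cj hG hN hx' hx1' c]
    exact conj_mem_cj hr'
  have hxx : x = c * x' * c⁻¹ :=
    eq_of_mul_supportR_eq hG hM (isCoatom_cj hN c) hx hxc hx1 (conj_ne_one hx1') hr hrc e
  have hox : orderOf x ≠ 1 := fun h => hx1 (orderOf_eq_one_iff.mp h)
  obtain ⟨p, hp, hpd⟩ := Nat.exists_prime_and_dvd hox
  have h1 : p ∈ sigma M := BG14n.mem_sigma_of_dvd_orderOf hG hM hx hp hpd
  have h2 : p ∈ sigma N := by
    have := BG14n.mem_sigma_of_dvd_orderOf hG (isCoatom_cj hN c) hxc hp (hxx ▸ hpd)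
    rwa [sigma_cj] at this
  exact sigma_partition hG hM hN h1 h2

namespace Mem

variable {Z N K' : Subgroup G}

/-- `K'*` is a proper subgroup of `N_σ` -/
theorem kstar_ne_sigmaCore (m : Mem Z N K') (hG : IsMinSimpleOddOrder G) :
    kstar N K' ≠ sigmaCore N := by
  intro h
  obtain ⟨-, -, h3, -⟩ := s1431_of_kdata hG m.hN (m.d hG) m.hK.1
  have hc1 : Nat.card (kstar N K') ≠ 1 := fun h1 => m.kstar_ne_bot hG (Subgroup.card_eq_one.mp h1)
  obtain ⟨p, hp, hpd⟩ := Nat.exists_prime_and_dvd hc1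
  haveI : Fact p.Prime := ⟨hp⟩
  obtain ⟨S⟩ : Nonempty (Sylow p ↥(sigmaCore N)) := inferInstance
  apply (h3 p hp hpd S).2.2
  show _ ≤ kstar N K'
  rw [h]
  exact Subgroup.map_subtype_le _

/-- `3 |K'*| ≤ |N_σ|` -/
theorem three_mul_card_kstar_le (m : Mem Z N K') (hG : IsMinSimpleOddOrder G) :
    3 * Nat.card (kstar N K') ≤ Nat.card (sigmaCore N) := by
  have hle : kstar N K' ≤ sigmaCore N := inf_le_left
  obtain ⟨j, hj⟩ := Subgroup.card_dvd_of_le hle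
  have hodd : Odd (Nat.card (sigmaCore N)) :=
    Odd.of_dvd_nat hG.1 (Subgroup.card_subgroup_dvd_card _)
  have hj1 : j ≠ 1 := by
    rintro rfl
    rw [mul_one] at hj
    exact m.kstar_ne_sigmaCore hG (Subgroup.eq_of_le_of_card_ge hle hj.le)
  have hjodd : Odd j := by
    rw [hj] at hodd
    exact (Nat.odd_mul.mp hodd).2
  have hj0 : j ≠ 0 := by
    rintro rfl
    simp at hjodd
  have hj3 : 3 ≤ j := by
    rcases hjodd with ⟨t, rfl⟩
    omega
  rw [hj]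
  calc 3 * Nat.card (kstar N K') = Nat.card (kstar N K') * 3 := mul_comm _ _
    _ ≤ Nat.card (kstar N K') * j := Nat.mul_le_mul_left _ hj3

/-- the Hall subgroup `K'` is determined by `N` and `Z` -/
theorem K_eq {K'' : Subgroup G} (m : Mem Z N K') (m' : Mem Z N K'') : K'' = K' :=
  le_antisymm (m.le_K_of_kappa m'.K_le_Z m'.hK.2.1) (m'.le_K_of_kappa m.K_le_Z m.hK.2.1)

end Mem

end Cfsg.Agent.Lib.Helper5.BG147
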