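import Mathlib
import Cfsg.Agent.Lib.Helper5.BG147f

set_option autoImplicit false
set_option linter.style.haveILetI false
set_option linter.unusedSectionVars false
set_option maxHeartbeats 1600000

/-! B and G, Theorem 14.7: the counting argument. Not every member of the family of `Z` has
`π(N) = σ(N) ∪ κ(N)`. -/

namespace Cfsg.Agent.Lib.Helper5.BG147

open Cfsg Cfsg.Agent.Lib.Lead Cfsg.Agent.Lib.Lead.BG10 Cfsg.Agent.Lib.Helper7 Cfsg.Agent.Lib.Helper4
open Cfsg.Agent.Lib.Helper4.BG76 Cfsg.Agent.Lib.Helper4.BG8 Cfsg.Agent.Lib.Helper4.BG9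
open Cfsg.Agent.Lib.Helper4.BG7 Cfsg.Agent.Lib.Helper4.BG12 Cfsg.Agent.Lib.Helper4.BGConj
open Cfsg.Agent.Lib.Helper4.BG13 Cfsg.Agent.Lib.Lead.BG12q Cfsg.Agent.Lib.Lead.BG13q
open Cfsg.Agent.Lib.Helper4.BG18 Cfsg.Agent.Lib.Helper2.BG13x Cfsg.Agent.Lib.Helper5.BG139
open Cfsg.Agent.Lib.Helper4.BG14 Cfsg.Agent.Lib.Helper2.BG14z Cfsg.Agent.Lib.Helper5.BG143
open Cfsg.Agent.Lib.Helper5.BG144 Cfsg.Agent.Lib.Lead.BG14n
open scoped commutatorElement

universe u

variable {G : Type u} [Group G] [Finite G]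

namespace Mem

variable {Z N K' : Subgroup G}

/-- the per-member inequality -/
theorem per_member (m : Mem Z N K') (hG : IsMinSimpleOddOrder G)
    (hP1 : K' ⊔ sigmaCore N = N) :
    (Nat.card G : ℚ) * (3 * (Nat.card ↥(sigmaCore N ⊓ Z) : ℚ) - 1) ≤
      3 * (((Nat.card (sigmaCore N) - 1) * N.index : ℕ) : ℚ) * (Nat.card Z : ℚ) := by
  have hc : Nat.card ↥(sigmaCore N ⊓ Z) = Nat.card (kstar N K') := by rw [m.sigmaCore_inf_Z hG]
  have hz : Nat.card Z = Nat.card K' * Nat.card (kstar N K') := m.card_Z hG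
  have hN : Nat.card N = Nat.card K' * Nat.card (sigmaCore N) := by
    have h1 := card_sup_mul_card_inf K' (sigmaCore N) (m.hK.1.trans (le_normalizer_sigmaCore N))
    rw [m.K_inf_sigmaCore hG, Subgroup.card_bot, mul_one, hP1] at h1
    exact h1
  have hidx : N.index * Nat.card N = Nat.card G := Subgroup.index_mul_card N
  have h3 := m.three_mul_card_kstar_le hG
  have hs1 : 1 ≤ Nat.card (sigmaCore N) := Nat.one_le_iff_ne_zero.mpr Nat.card_pos.ne'
  rw [hc, hz]
  push_cast [hs1]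
  set g : ℚ := (Nat.card G : ℚ) with hg
  set c : ℚ := (Nat.card (kstar N K') : ℚ) with hcdef
  set s : ℚ := (Nat.card (sigmaCore N) : ℚ) with hsdef
  set k : ℚ := (Nat.card K' : ℚ) with hkdef
  set i : ℚ := (N.index : ℚ) with hidef
  have hg' : i * (k * s) = g := by
    rw [hg, ← hidx, hN]
    push_cast
    rfl
  have hs0 : 0 < s := by
    rw [hsdef]
    exact_mod_cast Nat.card_pos
  have hk0 : 0 < k := by
    rw [hkdef]
    exact_mod_cast Nat.card_pos
  have hi0 : 0 ≤ i := by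
    rw [hidef]
    exact_mod_cast Nat.zero_le _
  have h3' : 3 * c ≤ s := by
    rw [hcdef, hsdef]
    exact_mod_cast h3
  rw [← hg']
  have : i * k * (s - 3 * c) ≥ 0 := mul_nonneg (mul_nonneg hi0 hk0.le) (by linarith)
  nlinarith [this]

end Mem

/-- **the counting argument of B and G, Theorem 14.7**: some member of the family of `Z` does
not satisfy `N = K' N_σ` -/
theorem exists_not_P1 {Z M K : Subgroup G} (m₀ : Mem Z M K) (hG : IsMinSimpleOddOrder G) :
    ∃ N K' : Subgroup G, Mem Z N K' ∧ K' ⊔ sigmaCore N ≠ N := by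
  classical
  by_contra hcon
  push Not at hcon
  haveI : Fintype G := Fintype.ofFinite G
  haveI : Fintype (Subgroup G) := Fintype.ofFinite _
  -- a second member
  obtain ⟨X, hXK, hXp⟩ := exists_prime_le m₀.hK1
  obtain ⟨N₁, K₁, m₁, hX₁⟩ := m₀.exists_mem hG (hXK.trans m₀.K_le_Z) hXp
  have hne : N₁ ≠ M := by
    rintro rfl
    have h1 : X ≤ K ⊓ sigmaCore N₁ := le_inf hXK (hX₁.trans inf_le_left)
    rw [m₀.K_inf_sigmaCore hG] at h1
    exact ne_bot_of_card_prime hXp (le_bot_iff.mp h1)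
  set 𝒩 : Finset (Subgroup G) := Finset.univ.filter (fun N => IsMember Z N) with h𝒩
  have hmem : ∀ N, N ∈ 𝒩 ↔ IsMember Z N := by
    intro N
    simp [h𝒩]
  have hn2 : 2 ≤ 𝒩.card :=
    Finset.one_lt_card.mpr ⟨M, (hmem M).mpr ⟨K, m₀⟩, N₁, (hmem N₁).mpr ⟨K₁, m₁⟩, hne.symm⟩
  -- the sets
  set B : Subgroup G → Finset G := fun N => (tildeOf N ((sigmaCore N : Set G) \ {1})).toFinset
    with hB
  set S : Finset G := (classSupport (Tset Z)).toFinset with hS
  set Tf : Finset G := (Tset Z).toFinset with hTf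
  set A : Subgroup G → Finset G :=
    fun N => (((sigmaCore N ⊓ Z : Subgroup G) : Set G).toFinset).erase 1 with hA
  have hBcard : ∀ N ∈ 𝒩, (B N).card = (Nat.card (sigmaCore N) - 1) * N.index := by
    intro N hN
    obtain ⟨K', m⟩ := (hmem N).mp hN
    rw [hB, ← Set.ncard_eq_toFinset_card', ncard_tildeOf hG m.hN]
  have hScard : S.card = Z.index * Tf.card := by
    rw [hS, hTf, ← Set.ncard_eq_toFinset_card', ← Set.ncard_eq_toFinset_card',
      m₀.ncard_classSupport_Tset hG]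
  have hAcard : ∀ N, (A N).card = Nat.card ↥(sigmaCore N ⊓ Z) - 1 := by
    intro N
    rw [hA, Finset.card_erase_of_mem (by simp), ← Set.ncard_eq_toFinset_card']
    rfl
  -- disjointness
  have hdisj : ∀ N ∈ 𝒩, ∀ N' ∈ 𝒩, N ≠ N' → Disjoint (B N) (B N') := by
    intro N hN N' hN' hNN'
    obtain ⟨K', m⟩ := (hmem N).mp hN
    obtain ⟨K'', m'⟩ := (hmem N').mp hN'
    rw [Finset.disjoint_left]
    intro a ha ha'
    rw [hB, Set.mem_toFinset] at ha ha'
    obtain ⟨g, hg⟩ := exists_cj_of_tildeOf_inter hG m.hN m'.hN ha ha'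
    exact hNN' (m.eq_of_conj m' hG hg).symm
  have hdisj2 : Disjoint (𝒩.biUnion B) S := by
    rw [Finset.disjoint_left]
    intro a ha ha'
    obtain ⟨N, hN, haN⟩ := Finset.mem_biUnion.mp ha
    obtain ⟨K', m⟩ := (hmem N).mp hN
    rw [hB, Set.mem_toFinset] at haN
    rw [hS, Set.mem_toFinset] at ha'
    exact m₀.classSupport_Tset_disjoint hG m.hN ha' haN
  have hcount : ∑ N ∈ 𝒩, (Nat.card (sigmaCore N) - 1) * N.index + Z.index * Tf.card ≤
      Nat.card G := by
    have h1 : ((𝒩.biUnion B) ∪ S).card = ∑ N ∈ 𝒩, (B N).card + S.card := by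
      rw [Finset.card_union_of_disjoint hdisj2, Finset.card_biUnion hdisj]
    have h2 : ((𝒩.biUnion B) ∪ S).card ≤ Nat.card G := by
      rw [Nat.card_eq_fintype_card]
      exact Finset.card_le_univ _
    rw [h1, Finset.sum_congr rfl hBcard, hScard] at h2
    exact h2
  -- covering of `Z`
  have hcover : Nat.card Z ≤ Tf.card + 1 + ∑ N ∈ 𝒩, (Nat.card ↥(sigmaCore N ⊓ Z) - 1) := by
    have h1 : ((Z : Set G).toFinset) ⊆ (Tf ∪ {1}) ∪ 𝒩.biUnion A := by
      intro z hz
      rw [Set.mem_toFinset] at hz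
      by_cases hzT : z ∈ Tset Z
      · apply Finset.mem_union_left
        apply Finset.mem_union_left
        rw [hTf, Set.mem_toFinset]
        exact hzT
      · by_cases hz1 : z = 1
        · apply Finset.mem_union_left
          apply Finset.mem_union_right
          rw [hz1]
          exact Finset.mem_singleton_self 1
        · apply Finset.mem_union_right
          have : ∃ N K' : Subgroup G, Mem Z N K' ∧ z ∈ kstar N K' := by
            by_contra hno
            push Not at hno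
            exact hzT ⟨hz, hno⟩
          obtain ⟨N, K', m, hzk⟩ := this
          rw [Finset.mem_biUnion]
          refine ⟨N, (hmem N).mpr ⟨K', m⟩, ?_⟩
          rw [hA, Finset.mem_erase]
          refine ⟨hz1, ?_⟩
          rw [Set.mem_toFinset]
          rw [← m.sigmaCore_inf_Z hG] at hzk
          exact hzk
    have h2 := Finset.card_le_card h1
    have h3 : ((Z : Set G).toFinset).card = Nat.card Z := by
      rw [← Set.ncard_eq_toFinset_card']
      rfl
    rw [h3] at h2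
    calc Nat.card Z ≤ ((Tf ∪ {1}) ∪ 𝒩.biUnion A).card := h2
      _ ≤ (Tf ∪ {1}).card + (𝒩.biUnion A).card := Finset.card_union_le _ _
      _ ≤ (Tf.card + 1) + ∑ N ∈ 𝒩, (A N).card := by
          apply Nat.add_le_add
          · exact (Finset.card_union_le _ _).trans (by simp)
          · exact Finset.card_biUnion_le
      _ = Tf.card + 1 + ∑ N ∈ 𝒩, (Nat.card ↥(sigmaCore N ⊓ Z) - 1) := by
          rw [Finset.sum_congr rfl (fun N _ => hAcard N)]
  -- the per-member inequalities, summed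
  have hsum : (Nat.card G : ℚ) * ∑ N ∈ 𝒩, (3 * (Nat.card ↥(sigmaCore N ⊓ Z) : ℚ) - 1) ≤
      3 * (∑ N ∈ 𝒩, (((Nat.card (sigmaCore N) - 1) * N.index : ℕ) : ℚ)) * (Nat.card Z : ℚ) := by
    rw [Finset.mul_sum, Finset.mul_sum, Finset.sum_mul]
    apply Finset.sum_le_sum
    intro N hN
    obtain ⟨K', m⟩ := (hmem N).mp hN
    have := m.per_member hG (hcon N K' m)
    linarith
  -- arithmetic
  have hidxZ : Z.index * Nat.card Z = Nat.card G := Subgroup.index_mul_card Z
  have hcount' : (∑ N ∈ 𝒩, (((Nat.card (sigmaCore N) - 1) * N.index : ℕ) : ℚ)) +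
      (Z.index : ℚ) * (Tf.card : ℚ) ≤ (Nat.card G : ℚ) := by
    have := hcount
    exact_mod_cast this
  have hcover' : (Nat.card Z : ℚ) ≤ (Tf.card : ℚ) + 1 +
      ∑ N ∈ 𝒩, ((Nat.card ↥(sigmaCore N ⊓ Z) : ℚ) - 1) := by
    have h1 : ∀ N ∈ 𝒩, ((Nat.card ↥(sigmaCore N ⊓ Z) - 1 : ℕ) : ℚ) =
        (Nat.card ↥(sigmaCore N ⊓ Z) : ℚ) - 1 := by
      intro N _
      have : 1 ≤ Nat.card ↥(sigmaCore N ⊓ Z) := Nat.one_le_iff_ne_zero.mpr Nat.card_pos.ne'
      push_cast [this]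
      rfl
    rw [← Finset.sum_congr rfl h1]
    exact_mod_cast hcover
  set g : ℚ := (Nat.card G : ℚ) with hg
  set z : ℚ := (Nat.card Z : ℚ) with hz
  set t : ℚ := (Tf.card : ℚ) with ht
  set iz : ℚ := (Z.index : ℚ) with hiz
  set Asum : ℚ := ∑ N ∈ 𝒩, (((Nat.card (sigmaCore N) - 1) * N.index : ℕ) : ℚ) with hAsum
  set C : ℚ := ∑ N ∈ 𝒩, (Nat.card ↥(sigmaCore N ⊓ Z) : ℚ) with hC
  have hs1 : ∑ N ∈ 𝒩, (3 * (Nat.card ↥(sigmaCore N ⊓ Z) : ℚ) - 1) = 3 * C - (𝒩.card : ℚ) := by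
    rw [Finset.sum_sub_distrib, ← Finset.mul_sum, Finset.sum_const, nsmul_eq_mul, mul_one]
  have hs2 : ∑ N ∈ 𝒩, ((Nat.card ↥(sigmaCore N ⊓ Z) : ℚ) - 1) = C - (𝒩.card : ℚ) := by
    rw [Finset.sum_sub_distrib, Finset.sum_const, nsmul_eq_mul, mul_one]
  rw [hs1] at hsum
  rw [hs2] at hcover'
  have hgz : iz * z = g := by
    rw [hiz, hz, hg]
    exact_mod_cast hidxZ
  have hg0 : 0 < g := by
    rw [hg]
    exact_mod_cast Nat.card_pos
  have hz0 : 0 < z := by
    rw [hz]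
    exact_mod_cast Nat.card_pos
  have hn : (2 : ℚ) ≤ (𝒩.card : ℚ) := by exact_mod_cast hn2
  -- `3 z (A + iz t) ≤ 3 z g`
  have h1 : 3 * Asum * z + 3 * g * t ≤ 3 * z * g := by
    have := mul_le_mul_of_nonneg_left hcount' (by positivity : (0 : ℚ) ≤ 3 * z)
    calc 3 * Asum * z + 3 * g * t = 3 * z * (Asum + iz * t) := by rw [← hgz]; ring
      _ ≤ 3 * z * g := this
  have h2 : g * (3 * C - (𝒩.card : ℚ)) + 3 * g * t ≤ 3 * z * g := by linarith
  have h3 : g * (3 * C - (𝒩.card : ℚ) + 3 * t - 3 * z) ≤ 0 := by nlinarith [h2]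
  have h4 : 3 * C - (𝒩.card : ℚ) + 3 * t - 3 * z ≤ 0 := by
    by_contra h
    push Not at h
    have := mul_pos hg0 h
    linarith
  linarith

end Cfsg.Agent.Lib.Helper5.BG147
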