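import Mathlib
import Cfsg.Agent.Lib.Helper5.BG147g

set_option autoImplicit false
set_option linter.style.haveILetI false
set_option linter.unusedSectionVars false
set_option maxHeartbeats 1600000

/-! B and G, Theorem 14.7(a)–(c): the pair `M`, `M*`, relative to the statement that a Hall
`κ(N)`-subgroup of `N` has prime order when `N ≠ K N_σ`. -/

namespace Cfsg.Agent.Lib.Helper5.BG147

open Cfsg Cfsg.Agent.Lib.Lead Cfsg.Agent.Lib.Lead.BG10 Cfsg.Agent.Lib.Helper7 Cfsg.Agent.Lib.Helper4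
open Cfsg.Agent.Lib.Helper4.BG76 Cfsg.Agent.Lib.Helper4.BG8 Cfsg.Agent.Lib.Helper4.BG9
open Cfsg.Agent.Lib.Helper4.BG7 Cfsg.Agent.Lib.Helper4.BG12 Cfsg.Agent.Lib.Helper4.BGConj
open Cfsg.Agent.Lib.Helper4.BG13 Cfsg.Agent.Lib.Lead.BG12q Cfsg.Agent.Lib.Lead.BG13q
open Cfsg.Agent.Lib.Helper4.BG18 Cfsg.Agent.Lib.Helper2.BG13x Cfsg.Agent.Lib.Helper5.BG139
open Cfsg.Agent.Lib.Helper4.BG14 Cfsg.Agent.Lib.Helper2.BG14z Cfsg.Agent.Lib.Helper5.BG143
open Cfsg.Agent.Lib.Helper5.BG144 Cfsg.Agent.Lib.Lead.BG14n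
open scoped commutatorElement

universe u

variable {G : Type u} [Group G] [Finite G]

/-- the statement: a Hall `κ(N)`-subgroup `K ≠ 1` of `N` has prime order when `N ≠ K N_σ` -/
def TP2 (G : Type u) [Group G] : Prop :=
  ∀ N K : Subgroup G, IsCoatom N → IsPiHallOf (kappa N) K N → K ≠ ⊥ → K ⊔ sigmaCore N ≠ N →
    (Nat.card K).Prime

/-- **B and G, Theorem 14.7(a)–(c)**: the pair `M`, `M*` -/
structure Pair (M K Ms Ks : Subgroup G) : Prop where
  m : Mem (K ⊔ Ks) M K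
  ms : Mem (K ⊔ Ks) Ms Ks
  hKs : kstar M K = Ks
  hK : kstar Ms Ks = K
  ne : Ms ≠ M
  only : ∀ N K' : Subgroup G, Mem (K ⊔ Ks) N K' → N = M ∨ N = Ms
  notP1 : K ⊔ sigmaCore M ≠ M ∨ Ks ⊔ sigmaCore Ms ≠ Ms

theorem Pair.symm {M K Ms Ks : Subgroup G} (c : Pair M K Ms Ks) : Pair Ms Ks M K := by
  have e : Ks ⊔ K = K ⊔ Ks := sup_comm _ _
  refine ⟨e ▸ c.ms, e ▸ c.m, c.hK, c.hKs, c.ne.symm, ?_, c.notP1.symm⟩
  intro N K' h
  rw [e] at h
  exact (c.only N K' h).symm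

namespace Mem

variable {Z N K' : Subgroup G}

/-- `K' ∩ K'* = 1` -/
theorem K_inf_kstar (m : Mem Z N K') (hG : IsMinSimpleOddOrder G) : K' ⊓ kstar N K' = ⊥ := by
  rw [eq_bot_iff, ← m.K_inf_sigmaCore hG]
  exact inf_le_inf_left K' inf_le_left

/-- the structure of the family when a member `N₀` has `|K₀|` prime -/
theorem pair_of_prime {N₀ K₀ : Subgroup G} (m₀ : Mem Z N₀ K₀) (hG : IsMinSimpleOddOrder G)
    (hp : (Nat.card K₀).Prime) :
    ∃ N₁ : Subgroup G, Mem Z N₁ (kstar N₀ K₀) ∧ kstar N₁ (kstar N₀ K₀) = K₀ ∧ N₁ ≠ N₀ ∧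
      ∀ N K' : Subgroup G, Mem Z N K' → N = N₀ ∨ N = N₁ := by
  obtain ⟨N₁, K₁, m₁, hK₀⟩ := m₀.exists_mem hG m₀.K_le_Z hp
  have hne : N₁ ≠ N₀ := by
    rintro rfl
    have h1 : K₀ ≤ K₀ ⊓ sigmaCore N₁ := le_inf le_rfl (hK₀.trans inf_le_left)
    rw [m₀.K_inf_sigmaCore hG] at h1
    exact m₀.hK1 (le_bot_iff.mp h1)
  have honly : ∀ N K' : Subgroup G, Mem Z N K' → N = N₀ ∨ N = N₁ := by
    intro N K' m
    obtain ⟨X, hX, hXp⟩ := exists_prime_le (m.kstar_ne_bot hG)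
    rcases m₀.le_or_le hG (hX.trans m.kstar_le_Z) hXp with h | h
    · right
      have hXK : X = K₀ := by
        apply Subgroup.eq_of_le_of_card_ge h
        have := Subgroup.card_dvd_of_le h
        rcases (Nat.dvd_prime hp).mp this with h1 | h1
        · exact absurd h1 hXp.one_lt.ne'
        · exact h1.ge
      rw [hXK] at hX
      exact m₁.eq_of_le m hG hp hK₀ hX
    · left
      exact m₀.eq_of_le m hG hXp h hX
  -- `K₁* ∩ K₀* = 1`
  have hinf : kstar N₁ K₁ ⊓ kstar N₀ K₀ = ⊥ := by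
    by_contra hne'
    obtain ⟨X, hX, hXp⟩ := exists_prime_le hne'
    exact hne (m₀.eq_of_le m₁ hG hXp (hX.trans inf_le_right) (hX.trans inf_le_left))
  -- `K₁* = K₀`
  have hc1 : Nat.card (kstar N₁ K₁) * Nat.card (kstar N₀ K₀) ∣ Nat.card Z := by
    have h1 := card_sup_mul_card_inf (kstar N₁ K₁) (kstar N₀ K₀)
      (m₁.kstar_le_Z.trans m₀.Z_le_normalizer_kstar)
    rw [hinf, Subgroup.card_bot, mul_one] at h1
    rw [← h1]
    exact Subgroup.card_dvd_of_le (sup_le m₁.kstar_le_Z m₀.kstar_le_Z)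
  have hK₁s : kstar N₁ K₁ = K₀ := by
    symm
    apply Subgroup.eq_of_le_of_card_ge hK₀
    rw [m₀.card_Z hG] at hc1
    have h2 : Nat.card (kstar N₁ K₁) ∣ Nat.card K₀ :=
      Nat.dvd_of_mul_dvd_mul_right Nat.card_pos hc1
    exact Nat.le_of_dvd Nat.card_pos h2
  -- `K₁ = K₀*`
  have hK₁ : K₁ = kstar N₀ K₀ := by
    have hle : K₁ ≤ kstar N₀ K₀ := by
      apply m₀.le_kstar_of_sigma hG m₁.K_le_Z
      intro p hp' hd
      haveI : Fact p.Prime := ⟨hp'⟩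
      obtain ⟨⟨a, ha⟩, hao⟩ := exists_prime_orderOf_dvd_card' p hd
      have hao' : orderOf a = p := by rw [← hao, Subgroup.orderOf_mk]
      have hXp : (Nat.card (Subgroup.zpowers a)).Prime := by
        rw [Nat.card_zpowers, hao']
        exact hp'
      have hXK : Subgroup.zpowers a ≤ K₁ := Subgroup.zpowers_le.mpr ha
      rcases m₀.le_or_le hG (hXK.trans m₁.K_le_Z) hXp with h | h
      · exfalso
        have h1 : Subgroup.zpowers a ≤ K₁ ⊓ kstar N₁ K₁ := le_inf hXK (hK₁s ▸ h)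
        rw [m₁.K_inf_kstar hG] at h1
        exact ne_bot_of_card_prime hXp (le_bot_iff.mp h1)
      · have h1 : p ∣ Nat.card (sigmaCore N₀) := by
          rw [← hao', ← Nat.card_zpowers]
          exact Subgroup.card_dvd_of_le (h.trans inf_le_left)
        exact (sigmaCore_hall hG m₀.hN).1.2.1 p hp' h1
    apply Subgroup.eq_of_le_of_card_ge hle
    have h1 := m₀.card_Z hG
    have h2 := m₁.card_Z hG
    rw [hK₁s] at h2
    rw [h2, mul_comm] at h1
    exact (Nat.eq_of_mul_eq_mul_left Nat.card_pos h1).ge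
  subst hK₁
  exact ⟨N₁, m₁, hK₁s, hne, honly⟩

end Mem

/-- **B and G, Theorem 14.7(a)–(c)**: existence of the pair -/
theorem exists_pair (hG : IsMinSimpleOddOrder G) (hP2 : TP2 G) {M K : Subgroup G}
    (hM : IsCoatom M) (hK : IsPiHallOf (kappa M) K M) (hK1 : K ≠ ⊥) :
    ∃ Ms : Subgroup G, Pair M K Ms (kstar M K) := by
  have m₀ : Mem (K ⊔ kstar M K) M K := ⟨hM, hK, hK1, rfl⟩
  obtain ⟨N₀, K₀, mN, hU⟩ := exists_not_P1 m₀ hG
  have hp : (Nat.card K₀).Prime := hP2 N₀ K₀ mN.hN mN.hK mN.hK1 hU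
  obtain ⟨N₁, m₁, hk₁, hne, honly⟩ := mN.pair_of_prime hG hp
  rcases honly M K m₀ with h | h
  · -- `M = N₀`
    subst h
    have hKK : K₀ = K := m₀.K_eq mN
    subst hKK
    exact ⟨N₁, m₀, m₁, rfl, hk₁, hne, honly, Or.inl hU⟩
  · -- `M = N₁`
    subst h
    have hKK : kstar N₀ K₀ = K := m₀.K_eq m₁
    have hks : kstar M K = K₀ := by rw [← hKK]; exact hk₁
    refine ⟨N₀, m₀, ?_, rfl, ?_, hne.symm, ?_, Or.inr ?_⟩
    · have := mN
      rw [← hks] at this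
      exact this
    · rw [hks]; exact hKK
    · intro N K' h
      exact (honly N K' h).symm
    · rw [hks]; exact hU

end Cfsg.Agent.Lib.Helper5.BG147
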