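import Mathlib
import Cfsg.Agent.Lib.Helper5.BG147h
import Cfsg.Agent.Lib.Helper5.NilSym2
import Cfsg.Agent.Lib.Helper2.BG14w1
import Cfsg.Agent.S1429
import Cfsg.Agent.S1415

set_option autoImplicit false
set_option linter.style.haveILetI false
set_option linter.unusedSectionVars false
set_option maxHeartbeats 1600000

/-! B and G, Theorem 14.7(c),(d): `κ(M) = τ₁(M)` and `K`, `K*`, `Z` are cyclic. -/

namespace Cfsg.Agent.Lib.Helper5.BG147

open Cfsg Cfsg.Agent.Lib.Lead Cfsg.Agent.Lib.Lead.BG10 Cfsg.Agent.Lib.Helper7 Cfsg.Agent.Lib.Helper4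
open Cfsg.Agent.Lib.Helper4.BG76 Cfsg.Agent.Lib.Helper4.BG8 Cfsg.Agent.Lib.Helper4.BG9
open Cfsg.Agent.Lib.Helper4.BG7 Cfsg.Agent.Lib.Helper4.BG12 Cfsg.Agent.Lib.Helper4.BGConj
open Cfsg.Agent.Lib.Helper4.BG13 Cfsg.Agent.Lib.Lead.BG12q Cfsg.Agent.Lib.Lead.BG13q
open Cfsg.Agent.Lib.Helper4.BG18 Cfsg.Agent.Lib.Helper2.BG13x Cfsg.Agent.Lib.Helper5.BG139
open Cfsg.Agent.Lib.Helper4.BG14 Cfsg.Agent.Lib.Helper2.BG14z Cfsg.Agent.Lib.Helper5.BG143
open Cfsg.Agent.Lib.Helper5.BG144 Cfsg.Agent.Lib.Lead.BG14n Cfsg.Agent.Lib.Helper2.BG14y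
open scoped commutatorElement

universe u

variable {G : Type u} [Group G] [Finite G]

/-- if `N ≠ K N_σ` then `N_σ` is nilpotent -/
theorem nilpotent_of_not_P1 (hG : IsMinSimpleOddOrder G) {N K : Subgroup G} (hN : IsCoatom N)
    (hK : IsPiHallOf (kappa N) K N) (hU : K ⊔ sigmaCore N ≠ N) :
    Group.IsNilpotent ↥(sigmaCore N) := by
  have hex : ∃ p : ℕ, p.Prime ∧ p ∣ Nat.card N ∧ p ∉ sigma N ∧ p ∉ kappa N := by
    by_contra hcon
    push Not at hcon
    apply hU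
    apply BG19.sup_eq_of_cover hK.1 (sigmaCore_le N)
    intro p hp
    by_cases hpσ : p ∈ sigma N
    · exact Or.inr ((sigmaCore_hall hG hN).1.2.2 p hp hpσ)
    · by_cases hpκ : p ∈ kappa N
      · exact Or.inl (hK.2.2 p hp hpκ)
      · left
        intro hd
        exact hpκ (hcon p hp (hd.trans (Subgroup.relIndex_dvd_card _ _)) hpσ)
  obtain ⟨p, hp, hpN, hpσ, hpκ⟩ := hex
  haveI : Fact p.Prime := ⟨hp⟩
  obtain ⟨S⟩ : Nonempty (Sylow p ↥N) := inferInstance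
  have hP1 : ¬ (∀ q : ℕ, q.Prime → q ∣ Nat.card N → q ∉ sigma N → q ∈ kappa N) :=
    fun h => hpκ (h p hp hpN hpσ)
  have hp' : p ∉ sigma N ∪ kappa N := by
    rintro (h | h)
    · exact hpσ h
    · exact hpκ h
  exact (Cfsg.Agent.S1429.result hG N hN hP1 p hpN hp' S).2.2

/-- a complement `E` of `M_σ` in `M` generates `M` together with `M_σ` -/
theorem sup_eq_of_complIn {M E S : Subgroup G} (hE : IsComplIn E S M) : E ⊔ S = M := by
  apply le_antisymm (sup_le hE.1 hE.2.1)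
  intro m hm
  obtain ⟨a, ha, b, hb, rfl⟩ := hE.2.2.2 m hm
  exact Subgroup.mul_mem _ (Subgroup.mem_sup_left ha) (Subgroup.mem_sup_right hb)

namespace Pair

variable {M K Ms Ks : Subgroup G}

/-- **B and G, Theorem 14.7(c),(d)**: `K` is cyclic and `κ(M) = τ₁(M)` -/
theorem cyclic_left (c : Pair M K Ms Ks) (hG : IsMinSimpleOddOrder G) :
    IsCyclic ↥K ∧ ∀ q : ℕ, q ∈ kappa M ↔ q ∈ tau1 M := by
  classical
  have hM := c.m.hN
  have hK := c.m.hK
  have hK1 := c.m.hK1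
  obtain ⟨E, hE, hKE⟩ := exists_complIn_ge hG hM hK.1 (coprime_card_kappa_hall hG hM hK)
  have hsolvE : Group.IsSolvable ↥E := solvable_of_ne_top hG (ne_top_of_le_ne_top hM.1 hE.1)
  obtain ⟨E₃, hE₃, -⟩ := exists_piHallOf_ge hsolvE (tau3 M) (bot_le : (⊥ : Subgroup G) ≤ E)
    (fun q hq hd => by
      rw [Subgroup.card_bot] at hd
      exact absurd (Nat.dvd_one.mp hd) hq.one_lt.ne')
  obtain ⟨E₁, hE₁, -⟩ := exists_piHallOf_ge hsolvE (tau1 M) (bot_le : (⊥ : Subgroup G) ≤ E)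
    (fun q hq hd => by
      rw [Subgroup.card_bot] at hd
      exact absurd (Nat.dvd_one.mp hd) hq.one_lt.ne')
  by_cases hreg : ∀ x ∈ E₃, x ≠ 1 → sigmaCore M ⊓ Subgroup.centralizer ({x} : Set G) = ⊥
  · obtain ⟨hK', hτκ, hκτ, -⟩ := hall_tau1_of_regular hG hM hK hK1 hE hKE hE₃ hreg
    obtain ⟨-, h2, -⟩ := Cfsg.Agent.S1415.result hG M hM E hE
    exact ⟨h2 K hK', fun q => ⟨hκτ q, hτκ q⟩⟩
  · exfalso
    push Not at hreg
    have cP : Pht M E E₁ E₃ := Pht.of_phantom (tphantom hG) hM hE hE₁ hE₃ hreg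
    have hKeq : K = E := cP.K_eq hG hK hKE
    have hP1 : K ⊔ sigmaCore M = M := by
      rw [hKeq]
      exact sup_eq_of_complIn hE
    have hU : Ks ⊔ sigmaCore Ms ≠ Ms := by
      rcases c.notP1 with h | h
      · exact absurd hP1 h
      · exact h
    have hnil := nilpotent_of_not_P1 hG c.ms.hN c.ms.hK hU
    have hKle : K ≤ sigmaCore Ms := by
      rw [← c.hK]
      exact inf_le_left
    -- a subgroup of prime order of `E₃` with fixed points
    obtain ⟨x, hx, hx1, hfix⟩ := hreg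
    have hxp : Subgroup.zpowers x ≠ ⊥ := fun h0 => hx1 (Subgroup.zpowers_eq_bot.mp h0)
    obtain ⟨R, hR, hRp⟩ := exists_prime_le hxp
    have hRE₃ : R ≤ E₃ := hR.trans (Subgroup.zpowers_le.mpr hx)
    have hY : sigmaCore M ⊓ Subgroup.centralizer (R : Set G) ≠ ⊥ := by
      intro h0
      apply hfix
      rw [eq_bot_iff, ← h0]
      apply inf_le_inf_left
      rw [← centralizer_zpowers']
      exact Subgroup.centralizer_le hR
    obtain ⟨-, -, -, -, hnc, -, hτ3⟩ :=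
      Cfsg.Agent.Lib.Helper2.BG14w.basic_of_fixed hG hM hE hE₁ hE₃ hRE₃ hRp hY
    apply hnc
    intro a ha
    rw [Subgroup.mem_centralizer_iff]
    intro b hb
    have haS : a ∈ sigmaCore Ms := hKle (hKeq ▸ hE₁.1 ha)
    have hbS : b ∈ sigmaCore Ms := hKle (hKeq ▸ hE₃.1 (hRE₃ hb))
    haveI := hnil
    have hcop : (orderOf b).Coprime (orderOf a) := by
      apply Nat.coprime_of_dvd
      intro q hq h1 h2
      have h3 : q ∈ tau1 M := hE₁.2.1 q hq (h2.trans (orderOf_dvd_card_of_mem ha))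
      have h4 : q = Nat.card R := by
        have := h1.trans (orderOf_dvd_card_of_mem hb)
        exact (Nat.prime_dvd_prime_iff_eq hq hRp).mp this
      rw [h4] at h3
      exact h3.2.2.2.1 hτ3.2.2.1
    have h5 := Cfsg.Agent.Lib.Helper5.NilSym.commute_of_coprime ↥(sigmaCore Ms)
      ⟨b, hbS⟩ ⟨a, haS⟩ (isOfFinOrder_of_finite _) (isOfFinOrder_of_finite _)
      (by rwa [Subgroup.orderOf_mk, Subgroup.orderOf_mk])
    have h6 := congrArg Subtype.val h5.eq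
    exact h6

/-- `K*` is cyclic and `κ(M*) = τ₁(M*)` -/
theorem cyclic_right (c : Pair M K Ms Ks) (hG : IsMinSimpleOddOrder G) :
    IsCyclic ↥Ks ∧ ∀ q : ℕ, q ∈ kappa Ms ↔ q ∈ tau1 Ms :=
  c.symm.cyclic_left hG

end Pair

end Cfsg.Agent.Lib.Helper5.BG147
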