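import Mathlib
import Cfsg.Agent.Lib.Helper5.BG147i

set_option autoImplicit false
set_option linter.style.haveILetI false
set_option linter.unusedSectionVars false
set_option maxHeartbeats 1600000

/-! B and G, Theorem 14.7: consequences of the pair structure. -/

namespace Cfsg.Agent.Lib.Helper5.BG147

open Cfsg Cfsg.Agent.Lib.Lead Cfsg.Agent.Lib.Lead.BG10 Cfsg.Agent.Lib.Helper7 Cfsg.Agent.Lib.Helper4
open Cfsg.Agent.Lib.Helper4.BG76 Cfsg.Agent.Lib.Helper4.BG8 Cfsg.Agent.Lib.Helper4.BG9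
open Cfsg.Agent.Lib.Helper4.BG7 Cfsg.Agent.Lib.Helper4.BG12 Cfsg.Agent.Lib.Helper4.BGConj
open Cfsg.Agent.Lib.Helper4.BG13 Cfsg.Agent.Lib.Lead.BG12q Cfsg.Agent.Lib.Lead.BG13q
open Cfsg.Agent.Lib.Helper4.BG18 Cfsg.Agent.Lib.Helper2.BG13x Cfsg.Agent.Lib.Helper5.BG139
open Cfsg.Agent.Lib.Helper4.BG14 Cfsg.Agent.Lib.Helper2.BG14z Cfsg.Agent.Lib.Helper5.BG143
open Cfsg.Agent.Lib.Helper5.BG144 Cfsg.Agent.Lib.Lead.BG14n Cfsg.Agent.Lib.Helper2.BG14y
open scoped commutatorElement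

universe u

variable {G : Type u} [Group G] [Finite G]

/-- two commuting cyclic subgroups of coprime orders generate a cyclic subgroup -/
theorem isCyclic_sup_of_coprime {A B : Subgroup G} (hA : IsCyclic ↥A) (hB : IsCyclic ↥B)
    (hAB : A ≤ Subgroup.centralizer (B : Set G)) (hcop : (Nat.card A).Coprime (Nat.card B)) :
    IsCyclic ↥(A ⊔ B) := by
  obtain ⟨⟨a, ha⟩, hagen⟩ := hA.exists_generator
  obtain ⟨⟨b, hb⟩, hbgen⟩ := hB.exists_generator
  have hoa : orderOf a = Nat.card A := by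
    rw [← Subgroup.orderOf_mk a ha]
    exact orderOf_eq_card_of_forall_mem_zpowers hagen
  have hob : orderOf b = Nat.card B := by
    rw [← Subgroup.orderOf_mk b hb]
    exact orderOf_eq_card_of_forall_mem_zpowers hbgen
  have hcomm : Commute a b := (Subgroup.mem_centralizer_iff.mp (hAB ha) b hb).symm
  have ho : orderOf (a * b) = Nat.card A * Nat.card B := by
    rw [hcomm.orderOf_mul_eq_mul_orderOf_of_coprime (by rw [hoa, hob]; exact hcop), hoa, hob]
  have hmem : a * b ∈ A ⊔ B :=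
    Subgroup.mul_mem _ (Subgroup.mem_sup_left ha) (Subgroup.mem_sup_right hb)
  have hcard : Nat.card ↥(A ⊔ B) = Nat.card A * Nat.card B := by
    have h1 := card_sup_mul_card_inf A B (hAB.trans (Subgroup.centralizer_le_normalizer _))
    rw [(Subgroup.disjoint_of_coprime_natCard hcop).eq_bot, Subgroup.card_bot, mul_one] at h1
    exact h1
  apply isCyclic_of_orderOf_eq_card (⟨a * b, hmem⟩ : ↥(A ⊔ B))
  rw [Subgroup.orderOf_mk, ho, hcard]

namespace Pair

variable {M K Ms Ks : Subgroup G}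

/-- `M ∩ M* = K K*` -/
theorem inf_eq (c : Pair M K Ms Ks) (hG : IsMinSimpleOddOrder G) : M ⊓ Ms = K ⊔ Ks := by
  obtain ⟨X, hXK, hXp⟩ := exists_prime_le c.m.hK1
  have hX1 : X ≠ ⊥ := ne_bot_of_card_prime hXp
  have hXtop : X ≠ ⊤ := fun h' => c.m.hN.1 (eq_top_iff.mpr (h' ▸ hXK.trans c.m.hK.1))
  obtain ⟨N, hN, hNX⟩ := exists_coatom_ge (normalizer_ne_top hG hX1 hXtop)
  have cL : Loc M K X N := ⟨c.m.hN, c.m.hK, hXK, hXp, hN, hNX⟩
  obtain ⟨K₁, c2⟩ := cL.exists_loc2 hG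
  have mN : Mem (K ⊔ Ks) N K₁ := by
    refine ⟨hN, c2.hK₁, c2.K₁_ne_bot hG, ?_⟩
    rw [← c2.sup_eq hG, c.hKs]
  rcases c.only N K₁ mN with h | h
  · exfalso
    subst h
    have h1 : X ≤ K ⊓ sigmaCore N := le_inf hXK ((c2.X_le_kstar hG).trans inf_le_left)
    rw [c.m.K_inf_sigmaCore hG] at h1
    exact hX1 (le_bot_iff.mp h1)
  · subst h
    rw [c2.inf_eq' hG, c.hKs]

/-- `K K*` is cyclic -/
theorem isCyclic_Z (c : Pair M K Ms Ks) (hG : IsMinSimpleOddOrder G) : IsCyclic ↥(K ⊔ Ks) := by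
  apply isCyclic_sup_of_coprime (c.cyclic_left hG).1 (c.cyclic_right hG).1
  · rw [← c.hKs]
    exact c.m.K_le_centralizer
  · rw [← c.hKs]
    exact Nat.Coprime.coprime_dvd_right (Subgroup.card_dvd_of_le inf_le_left)
      (coprime_card_kappa_hall hG c.m.hN c.m.hK)

/-- uniqueness of `M*` -/
theorem eq_of_props (c : Pair M K Ms Ks) (hG : IsMinSimpleOddOrder G) {M₂ : Subgroup G}
    (hM₂ : IsCoatom M₂) (h1 : K = sigmaCore M₂ ⊓ Subgroup.centralizer (Ks : Set G))
    (h2 : IsPiHallOf (kappa M₂) Ks M₂) : M₂ = Ms := by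
  have hKs1 : Ks ≠ ⊥ := by
    rw [← c.hKs]
    exact c.m.kstar_ne_bot hG
  have m₂ : Mem (K ⊔ Ks) M₂ Ks := by
    refine ⟨hM₂, h2, hKs1, ?_⟩
    show Ks ⊔ (sigmaCore M₂ ⊓ Subgroup.centralizer (Ks : Set G)) = K ⊔ Ks
    rw [← h1, sup_comm]
  rcases c.only M₂ Ks m₂ with h | h
  · exfalso
    subst h
    -- `K*` would be a `κ(M)`-group and a `σ(M)`-group
    have hc1 : Nat.card Ks ≠ 1 := fun h => hKs1 (Subgroup.card_eq_one.mp h)
    obtain ⟨p, hp, hpd⟩ := Nat.exists_prime_and_dvd hc1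
    have hpκ : p ∈ kappa M₂ := h2.2.1 p hp hpd
    have hpσ : p ∈ sigma M₂ := by
      apply (sigmaCore_hall hG hM₂).1.2.1 p hp
      rw [← c.hKs] at hpd
      exact hpd.trans (Subgroup.card_dvd_of_le inf_le_left)
    exact hpκ.2.2.1 hpσ
  · exact h

/-- `K*` is a Hall `σ(M)`-subgroup of `M*` -/
theorem hall_sigma (c : Pair M K Ms Ks) (hG : IsMinSimpleOddOrder G) :
    IsPiHallOf (sigma M) Ks Ms := by
  have hsolv : Group.IsSolvable ↥Ms := solvable_of_ne_top hG c.ms.hN.1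
  have hKsσ : ∀ q : ℕ, q.Prime → q ∣ Nat.card Ks → q ∈ sigma M := by
    intro q hq hd
    apply (sigmaCore_hall hG c.m.hN).1.2.1 q hq
    rw [← c.hKs] at hd
    exact hd.trans (Subgroup.card_dvd_of_le inf_le_left)
  obtain ⟨H, hH, hKsH⟩ := exists_piHallOf_ge hsolv (sigma M) c.ms.hK.1 hKsσ
  obtain ⟨-, -, -, h4⟩ := s1431_of_kdata hG c.m.hN (c.m.d hG) c.m.hK.1
  have hKs1 : Ks ≠ ⊥ := by
    rw [← c.hKs]
    exact c.m.kstar_ne_bot hG
  have hHσ : H ≤ sigmaCore M := by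
    apply h4 H hH.2.1
    show H ⊓ kstar M K ≠ ⊥
    rw [c.hKs, inf_eq_right.mpr hKsH]
    exact hKs1
  -- `M_σ ∩ M* ≤ Z`
  have hHZ : H ≤ K ⊔ Ks := by
    rw [← c.inf_eq hG]
    exact le_inf (hHσ.trans (sigmaCore_le M)) hH.1
  have hHle : H ≤ Ks := by
    rw [← c.hKs, ← c.m.sigmaCore_inf_Z hG]
    exact le_inf hHσ hHZ
  have : H = Ks := le_antisymm hHle hKsH
  rw [← this]
  exact hH

/-- `Z` is commutative -/
theorem Z_le_centralizer (c : Pair M K Ms Ks) (hG : IsMinSimpleOddOrder G) :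
    K ⊔ Ks ≤ Subgroup.centralizer ((K ⊔ Ks : Subgroup G) : Set G) := by
  haveI := c.isCyclic_Z hG
  intro a ha
  rw [Subgroup.mem_centralizer_iff]
  intro b hb
  have := IsCyclic.commGroup.mul_comm (⟨b, hb⟩ : ↥(K ⊔ Ks)) ⟨a, ha⟩
  exact congrArg Subtype.val this

/-- `C_M(x) = Z` for `x ∈ K#` -/
theorem inf_centralizer_left (c : Pair M K Ms Ks) (hG : IsMinSimpleOddOrder G) {x : G}
    (hx : x ∈ K) (hx1 : x ≠ 1) : M ⊓ Subgroup.centralizer ({x} : Set G) = K ⊔ Ks := by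
  apply le_antisymm
  · have hxp : Subgroup.zpowers x ≠ ⊥ := fun h0 => hx1 (Subgroup.zpowers_eq_bot.mp h0)
    obtain ⟨X, hX, hXp⟩ := exists_prime_le hxp
    have hXK : X ≤ K := hX.trans (Subgroup.zpowers_le.mpr hx)
    rw [← c.hKs, ← ((c.m.d hG).norm X hXK hXp).1]
    apply inf_le_inf_left
    rw [← centralizer_zpowers']
    exact (Subgroup.centralizer_le hX).trans (Subgroup.centralizer_le_normalizer _)
  · apply le_inf
    · rw [← c.inf_eq hG]
      exact inf_le_left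
    · refine (c.Z_le_centralizer hG).trans (Subgroup.centralizer_le ?_)
      rintro _ rfl
      exact Subgroup.mem_sup_left hx

/-- `C_G(x y) = Z` for `x ∈ K#`, `y ∈ K*#` -/
theorem centralizer_mul (c : Pair M K Ms Ks) (hG : IsMinSimpleOddOrder G) {x y : G}
    (hx : x ∈ K) (hx1 : x ≠ 1) (hy : y ∈ Ks) (hy1 : y ≠ 1) :
    Subgroup.centralizer ({x * y} : Set G) = K ⊔ Ks := by
  have hxy : x * y = y * x := by
    have h1 : K ≤ Subgroup.centralizer (Ks : Set G) := by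
      rw [← c.hKs]
      exact c.m.K_le_centralizer
    exact (Subgroup.mem_centralizer_iff.mp (h1 hx) y hy).symm
  have hcop : (orderOf x).Coprime (orderOf y) := by
    have h1 : (Nat.card K).Coprime (Nat.card Ks) := by
      rw [← c.hKs]
      exact Nat.Coprime.coprime_dvd_right (Subgroup.card_dvd_of_le inf_le_left)
        (coprime_card_kappa_hall hG c.m.hN c.m.hK)
    exact Nat.Coprime.coprime_dvd_left (orderOf_dvd_card_of_mem hx)
      (Nat.Coprime.coprime_dvd_right (orderOf_dvd_card_of_mem hy) h1)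
  obtain ⟨hxz, hyz⟩ := mem_zpowers_mul_of_coprime hxy hcop
  apply le_antisymm
  · have hCy : Subgroup.centralizer ({x * y} : Set G) ≤ Subgroup.centralizer ({y} : Set G) := by
      rw [← centralizer_zpowers', ← centralizer_zpowers' (x := y)]
      exact Subgroup.centralizer_le (Subgroup.zpowers_le.mpr hyz)
    have hCx : Subgroup.centralizer ({x * y} : Set G) ≤ Subgroup.centralizer ({x} : Set G) := by
      rw [← centralizer_zpowers', ← centralizer_zpowers' (x := x)]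
      exact Subgroup.centralizer_le (Subgroup.zpowers_le.mpr hxz)
    have hyp : Subgroup.zpowers y ≠ ⊥ := fun h0 => hy1 (Subgroup.zpowers_eq_bot.mp h0)
    obtain ⟨Y, hY, hYp⟩ := exists_prime_le hyp
    have hYK : Y ≤ kstar M K := by
      rw [c.hKs]
      exact hY.trans (Subgroup.zpowers_le.mpr hy)
    have hCM : Subgroup.centralizer ({y} : Set G) ≤ M := by
      refine le_trans ?_ (c.m.uniq hG hYK hYp).1
      rw [← centralizer_zpowers']
      exact Subgroup.centralizer_le hY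
    rw [← c.inf_centralizer_left hG hx hx1]
    exact le_inf (hCy.trans hCM) hCx
  · refine (c.Z_le_centralizer hG).trans (Subgroup.centralizer_le ?_)
    rintro _ rfl
    exact Subgroup.mul_mem _ (Subgroup.mem_sup_left hx) (Subgroup.mem_sup_right hy)

end Pair

end Cfsg.Agent.Lib.Helper5.BG147
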