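import Mathlib
import Cfsg.Agent.Lib.Helper5.BG147j
import Cfsg.Agent.Lib.Helper4.BG22b
import Cfsg.Agent.Lib.Helper2.BG14u5

set_option autoImplicit false
set_option linter.style.haveILetI false
set_option linter.unusedSectionVars false
set_option maxHeartbeats 1600000

/-! **B and G, Theorem 14.7**: the final interface. -/

namespace Cfsg.Agent.Lib.Helper5.BG147

open Cfsg Cfsg.Agent.Lib.Lead Cfsg.Agent.Lib.Lead.BG10 Cfsg.Agent.Lib.Helper7 Cfsg.Agent.Lib.Helper4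
open Cfsg.Agent.Lib.Helper4.BG76 Cfsg.Agent.Lib.Helper4.BG8 Cfsg.Agent.Lib.Helper4.BG9
open Cfsg.Agent.Lib.Helper4.BG7 Cfsg.Agent.Lib.Helper4.BG12 Cfsg.Agent.Lib.Helper4.BGConj
open Cfsg.Agent.Lib.Helper4.BG13 Cfsg.Agent.Lib.Lead.BG12q Cfsg.Agent.Lib.Lead.BG13q
open Cfsg.Agent.Lib.Helper4.BG18 Cfsg.Agent.Lib.Helper2.BG13x Cfsg.Agent.Lib.Helper5.BG139
open Cfsg.Agent.Lib.Helper4.BG14 Cfsg.Agent.Lib.Helper2.BG14z Cfsg.Agent.Lib.Helper5.BG143
open Cfsg.Agent.Lib.Helper5.BG144 Cfsg.Agent.Lib.Lead.BG14n Cfsg.Agent.Lib.Helper2.BG14y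
open scoped commutatorElement

universe u

variable {G : Type u} [Group G] [Finite G]

/-- Lemma P2 (helper4) -/
theorem tp2 (hG : IsMinSimpleOddOrder G) : TP2 G :=
  fun _ _ hN hK hK1 hU => Cfsg.Agent.Lib.Helper4.BG22.card_prime_of_not_P1 hG hN hK hK1 hU

/-- two subsets with more than half of the elements meet -/
theorem exists_mem_inter_of_lt {α : Type*} [Finite α] {A B : Set α}
    (hA : Nat.card α < 2 * A.ncard) (hB : Nat.card α < 2 * B.ncard) : ∃ a, a ∈ A ∧ a ∈ B := by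
  by_contra hcon
  push Not at hcon
  have hdisj : Disjoint A B := Set.disjoint_left.mpr hcon
  have h1 := Set.ncard_union_eq hdisj (Set.toFinite A) (Set.toFinite B)
  have h2 : (A ∪ B).ncard ≤ Nat.card α := by
    rw [← Set.ncard_univ]
    exact Set.ncard_le_ncard (Set.subset_univ _) (Set.toFinite _)
  omega

namespace Pair

variable {M K Ms Ks : Subgroup G}

/-- **B and G, Theorem 14.7(g)**: every maximal subgroup `H` with `κ(H) ≠ ∅` is conjugate to `M`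
or to `M*` -/
theorem conj (c : Pair M K Ms Ks) (hG : IsMinSimpleOddOrder G) {H : Subgroup G} (hH : IsCoatom H)
    (hκ : (kappa H).Nonempty) : ∃ g : G, H = cj g M ∨ H = cj g Ms := by
  have hsolv : Group.IsSolvable ↥H := solvable_of_ne_top hG hH.1
  obtain ⟨K₂, hK₂, -⟩ := exists_piHallOf_ge hsolv (kappa H) (bot_le : (⊥ : Subgroup G) ≤ H)
    (fun q hq hd => by
      rw [Subgroup.card_bot] at hd
      exact absurd (Nat.dvd_one.mp hd) hq.one_lt.ne')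
  obtain ⟨q, hq⟩ := hκ
  have hK₂1 : K₂ ≠ ⊥ := by
    intro h0
    have := BG19.dvd_card_hall hK₂ hq.1 hq hq.2.1
    rw [h0, Subgroup.card_bot] at this
    exact hq.1.one_lt.ne' (Nat.dvd_one.mp this)
  obtain ⟨-, hcM⟩ := Cfsg.Agent.Lib.Helper2.BG14u.zhat_count hG c.m.hN c.m.hK c.m.hK1
  obtain ⟨-, hcH⟩ := Cfsg.Agent.Lib.Helper2.BG14u.zhat_count hG hH hK₂ hK₂1
  obtain ⟨a, ⟨g, z, hz, rfl⟩, ⟨g', z', hz', hgz⟩⟩ := exists_mem_inter_of_lt hcM hcH
  set t := g⁻¹ * g' with ht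
  have hzt : z = t * z' * t⁻¹ := by
    calc z = g⁻¹ * (g * z * g⁻¹) * g := by group
      _ = g⁻¹ * (g' * z' * g'⁻¹) * g := by rw [hgz]
      _ = t * z' * t⁻¹ := by rw [ht]; group
  -- decompose `z'`
  have hKC : K₂ ≤ Subgroup.centralizer ((kstar H K₂ : Subgroup G) : Set G) :=
    Subgroup.le_centralizer_iff.mp inf_le_right
  obtain ⟨x', hx', y', hy', hxy, hcomm⟩ := Cfsg.Agent.Lib.Helper4.BG21.exists_mul_of_mem_sup hKC hz'.1
  have hy'1 : y' ≠ 1 := by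
    rintro rfl
    apply hz'.2
    left
    rw [hxy, mul_one]
    exact hx'
  have hcop : (orderOf x').Coprime (orderOf y') :=
    Nat.Coprime.coprime_dvd_left (orderOf_dvd_card_of_mem hx')
      (Nat.Coprime.coprime_dvd_right (orderOf_dvd_card_of_mem hy'.1)
        (coprime_card_kappa_hall hG hH hK₂))
  obtain ⟨-, hy'z⟩ := mem_zpowers_mul_of_coprime hcomm hcop
  rw [← hxy] at hy'z
  have hyp : Subgroup.zpowers y' ≠ ⊥ := fun h0 => hy'1 (Subgroup.zpowers_eq_bot.mp h0)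
  obtain ⟨Y, hY, hYp⟩ := exists_prime_le hyp
  have hYσ : Y ≤ sigmaCore H := hY.trans (Subgroup.zpowers_le.mpr hy'.1)
  have hYz : Y ≤ Subgroup.zpowers z' := hY.trans (Subgroup.zpowers_le.mpr hy'z)
  -- conjugate
  have hcYp : (Nat.card (cj t Y)).Prime := by rw [card_cj]; exact hYp
  have hcYσ : cj t Y ≤ sigmaCore (cj t H) := by
    rw [sigmaCore_cj]
    exact cj_mono t hYσ
  have hcYZ : cj t Y ≤ K ⊔ Ks := by
    have h1 : cj t (Subgroup.zpowers z') ≤ K ⊔ Ks := by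
      rintro _ ⟨w, hw, rfl⟩
      obtain ⟨i, rfl⟩ := Subgroup.mem_zpowers_iff.mp hw
      show t * z' ^ i * t⁻¹ ∈ K ⊔ Ks
      have : t * z' ^ i * t⁻¹ = z ^ i := by
        rw [hzt, conj_zpow]
      rw [this]
      have hzZ : z ∈ K ⊔ Ks := by
        have h0 : z ∈ K ⊔ kstar M K := hz.1
        rw [c.hKs] at h0
        exact h0
      exact Subgroup.zpow_mem _ hzZ i
    exact (cj_mono t hYz).trans h1
  rcases c.m.le_or_le hG hcYZ hcYp with h | h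
  · -- `Y^t ≤ K = K**`
    have h' : cj t Y ≤ kstar Ms Ks := by rw [c.hK]; exact h
    have := c.ms.eq_of_sigmaCore_ge hG (isCoatom_cj hH t) hcYp h' hcYσ
    refine ⟨t⁻¹, Or.inr ?_⟩
    rw [← this, cj_inv_cj]
  · have := c.m.eq_of_sigmaCore_ge hG (isCoatom_cj hH t) hcYp h hcYσ
    refine ⟨t⁻¹, Or.inl ?_⟩
    rw [← this, cj_inv_cj]

end Pair

/-- **B and G, Theorem 14.7**: the output, for a maximal subgroup `M` with a Hall
`κ(M)`-subgroup `K ≠ 1`; `K* = kstar M K = M_σ ∩ C_G(K)` -/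
structure T147 (M K Ms : Subgroup G) : Prop where
  pair : Pair M K Ms (kstar M K)
  hM : IsCoatom M
  hK : IsPiHallOf (kappa M) K M
  hK1 : K ≠ ⊥
  hMs : IsCoatom Ms
  hKs : IsPiHallOf (kappa Ms) (kstar M K) Ms
  hKs1 : kstar M K ≠ ⊥
  hKeq : K = sigmaCore Ms ⊓ Subgroup.centralizer ((kstar M K : Subgroup G) : Set G)
  ne : Ms ≠ M
  not_conj : ∀ g : G, Ms ≠ cj g M
  inf_eq : M ⊓ Ms = K ⊔ kstar M K
  cycK : IsCyclic ↥K
  cycKs : IsCyclic ↥(kstar M K)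
  cycZ : IsCyclic ↥(K ⊔ kstar M K)
  kappa_eq : kappa M = tau1 M
  kappa_eq' : kappa Ms = tau1 Ms
  hall_sigma : IsPiHallOf (sigma M) (kstar M K) Ms
  hall_sigma' : IsPiHallOf (sigma Ms) K M
  uniqC : ∀ X : Subgroup G, X ≤ K → (Nat.card X).Prime →
    Subgroup.centralizer (X : Set G) ≤ Ms ∧
      ∀ L : Subgroup G, IsCoatom L → Subgroup.centralizer (X : Set G) ≤ L → L = Ms
  uniqC' : ∀ Y : Subgroup G, Y ≤ kstar M K → (Nat.card Y).Prime →
    Subgroup.centralizer (Y : Set G) ≤ M ∧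
      ∀ L : Subgroup G, IsCoatom L → Subgroup.centralizer (Y : Set G) ≤ L → L = M
  uniq : ∀ M₂ : Subgroup G, IsCoatom M₂ →
    K = sigmaCore M₂ ⊓ Subgroup.centralizer ((kstar M K : Subgroup G) : Set G) →
    IsPiHallOf (kappa M₂) (kstar M K) M₂ → M₂ = Ms
  notP1 : K ⊔ sigmaCore M ≠ M ∨ kstar M K ⊔ sigmaCore Ms ≠ Ms
  prime_left : K ⊔ sigmaCore M ≠ M → (Nat.card K).Prime
  prime_right : kstar M K ⊔ sigmaCore Ms ≠ Ms → (Nat.card (kstar M K)).Prime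
  conj : ∀ H : Subgroup G, IsCoatom H → (kappa H).Nonempty → ∃ g : G, H = cj g M ∨ H = cj g Ms
  centL : ∀ x ∈ K, x ≠ 1 → M ⊓ Subgroup.centralizer ({x} : Set G) = K ⊔ kstar M K
  centR : ∀ y ∈ kstar M K, y ≠ 1 → Ms ⊓ Subgroup.centralizer ({y} : Set G) = K ⊔ kstar M K
  centZ : ∀ x ∈ K, x ≠ 1 → ∀ y ∈ kstar M K, y ≠ 1 →
    Subgroup.centralizer ({x * y} : Set G) = K ⊔ kstar M K

/-- **B and G, Theorem 14.7** -/
theorem t147 (hG : IsMinSimpleOddOrder G) {M K : Subgroup G} (hM : IsCoatom M)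
    (hK : IsPiHallOf (kappa M) K M) (hK1 : K ≠ ⊥) : ∃ Ms : Subgroup G, T147 M K Ms := by
  obtain ⟨Ms, c⟩ := exists_pair hG (tp2 hG) hM hK hK1
  have e : kstar M K ⊔ K = K ⊔ kstar M K := sup_comm _ _
  refine ⟨Ms, ⟨c, hM, hK, hK1, c.ms.hN, c.ms.hK, c.ms.hK1, c.hK.symm, c.ne, ?_, c.inf_eq hG,
    (c.cyclic_left hG).1, (c.cyclic_right hG).1, c.isCyclic_Z hG, ?_, ?_, c.hall_sigma hG,
    c.symm.hall_sigma hG, ?_, ?_, ?_, c.notP1, ?_, ?_, ?_, ?_, ?_, ?_⟩⟩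
  · intro g hg
    exact c.ne (c.m.eq_of_conj c.ms hG hg)
  · exact Set.ext (c.cyclic_left hG).2
  · exact Set.ext (c.cyclic_right hG).2
  · intro X hX hXp
    exact c.ms.uniq hG (c.hK.symm ▸ hX) hXp
  · intro Y hY hYp
    exact c.m.uniq hG hY hYp
  · intro M₂ hM₂ h1 h2
    exact c.eq_of_props hG hM₂ h1 h2
  · intro h
    exact tp2 hG M K hM hK hK1 h
  · intro h
    exact tp2 hG Ms _ c.ms.hN c.ms.hK c.ms.hK1 h
  · intro H hH hκ
    exact c.conj hG hH hκ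
  · intro x hx hx1
    exact c.inf_centralizer_left hG hx hx1
  · intro y hy hy1
    rw [← e]
    exact c.symm.inf_centralizer_left hG hy hy1
  · intro x hx hx1 y hy hy1
    exact c.centralizer_mul hG hx hx1 hy hy1

end Cfsg.Agent.Lib.Helper5.BG147
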