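import Mathlib
import Cfsg.Agent.Lib.Helper5.BG147k
import Cfsg.Agent.S1421
import Cfsg.Agent.S1417

set_option autoImplicit false
set_option linter.style.haveILetI false
set_option linter.unusedSectionVars false
set_option maxHeartbeats 1600000

/-! B and G, Theorem 15.1(a): the centralizer in `M` of a Hall subgroup of `M_σ`. -/

namespace Cfsg.Agent.Lib.Helper5.BG151

open Cfsg Cfsg.Agent.Lib.Lead Cfsg.Agent.Lib.Lead.BG10 Cfsg.Agent.Lib.Helper7 Cfsg.Agent.Lib.Helper4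
open Cfsg.Agent.Lib.Helper4.BG76 Cfsg.Agent.Lib.Helper4.BG8 Cfsg.Agent.Lib.Helper4.BG9
open Cfsg.Agent.Lib.Helper4.BG7 Cfsg.Agent.Lib.Helper4.BG12 Cfsg.Agent.Lib.Helper4.BGConj
open Cfsg.Agent.Lib.Helper4.BG13 Cfsg.Agent.Lib.Lead.BG12q Cfsg.Agent.Lib.Lead.BG13q
open Cfsg.Agent.Lib.Helper4.BG18 Cfsg.Agent.Lib.Helper2.BG13x Cfsg.Agent.Lib.Helper5.BG139
open Cfsg.Agent.Lib.Helper4.BG14 Cfsg.Agent.Lib.Helper2.BG14z Cfsg.Agent.Lib.Helper5.BG143
open Cfsg.Agent.Lib.Helper5.BG144 Cfsg.Agent.Lib.Lead.BG14n Cfsg.Agent.Lib.Helper2.BG14y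
open Cfsg.Agent.Lib.Helper5.BG147
open scoped commutatorElement

universe u

variable {G : Type u} [Group G] [Finite G]

/-- a Hall subgroup `H ≠ 1` of `M_σ` contains, for a prime divisor `q` of its order, a Sylow
`q`-subgroup of `M_σ` -/
theorem exists_sylow_le_hall {M H : Subgroup G} (hH : H ≤ sigmaCore M)
    (hHall : (Nat.card H).Coprime (H.relIndex (sigmaCore M))) {q : ℕ} [hq : Fact q.Prime]
    (hqH : q ∣ Nat.card H) :
    ∃ S : Sylow q ↥(sigmaCore M), (S : Subgroup ↥(sigmaCore M)).map (sigmaCore M).subtype ≤ H := by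
  obtain ⟨Q, -, hQ⟩ := exists_sylIn_ge (p := q) (bot_le : (⊥ : Subgroup G) ≤ H) (IsPGroup.of_bot)
  have hQσ : SylIn q (sigmaCore M) Q := by
    refine ⟨hQ.1.trans hH, hQ.2.1, ?_⟩
    rw [← Subgroup.relIndex_mul_relIndex Q H (sigmaCore M) hQ.1 hH]
    intro hd
    rcases (Nat.Prime.dvd_mul hq.out).mp hd with h | h
    · exact hQ.2.2 h
    · have := Nat.dvd_gcd hqH h
      rw [hHall] at this
      exact hq.out.one_lt.ne' (Nat.dvd_one.mp this)
  obtain ⟨S, hS⟩ := SylIn.exists_sylow hQσ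
  exact ⟨S, hS ▸ hQ.1⟩

/-- a subgroup of order `p ∈ κ(M)` of `M` does not centralize a non-trivial Hall subgroup of
`M_σ` -/
theorem not_le_centralizer_of_kappa (hG : IsMinSimpleOddOrder G) {M H P : Subgroup G}
    (hM : IsCoatom M) (hH : H ≤ sigmaCore M) (hH1 : H ≠ ⊥)
    (hHall : (Nat.card H).Coprime (H.relIndex (sigmaCore M))) (hPM : P ≤ M)
    (hPp : (Nat.card P).Prime) (hPκ : Nat.card P ∈ kappa M) :
    ¬ H ≤ Subgroup.centralizer (P : Set G) := by
  intro hHP
  have hsolv : Group.IsSolvable ↥M := solvable_of_ne_top hG hM.1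
  obtain ⟨K, hK, hPK⟩ := exists_piHallOf_ge hsolv (kappa M) hPM
    (fun q hq hd => by
      rw [(Nat.prime_dvd_prime_iff_eq hq hPp).mp hd]
      exact hPκ)
  have hP1 : P ≠ ⊥ := ne_bot_of_card_prime hPp
  have hK1 : K ≠ ⊥ := fun h => hP1 (le_bot_iff.mp (h ▸ hPK))
  have d := tkdata hG M K hM hK hK1
  obtain ⟨-, -, h3, -⟩ := s1431_of_kdata hG hM d hK.1
  obtain ⟨x, hx, hx1⟩ : ∃ x ∈ P, x ≠ 1 := by
    by_contra hcon
    push Not at hcon
    exact hP1 ((Subgroup.eq_bot_iff_forall P).mpr hcon)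
  have hHk : H ≤ kstar M K := by
    show H ≤ sigmaCore M ⊓ Subgroup.centralizer (K : Set G)
    rw [← d.semiprime x (hPK hx) hx1, ← centralizer_eq_of_card_prime hPp hx hx1]
    exact le_inf hH hHP
  have hc1 : Nat.card H ≠ 1 := fun h => hH1 (Subgroup.card_eq_one.mp h)
  obtain ⟨q, hq, hqd⟩ := Nat.exists_prime_and_dvd hc1
  haveI : Fact q.Prime := ⟨hq⟩
  obtain ⟨S, hS⟩ := exists_sylow_le_hall hH hHall hqd
  exact (h3 q hq (hqd.trans (Subgroup.card_dvd_of_le hHk)) S).2.2 (hS.trans hHk)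


/-- a non-cyclic commutative subgroup contains an elementary abelian subgroup of order `p ^ 2` -/
theorem exists_sq_of_not_cyclic {X : Subgroup G} (hc : IsMulCommutative ↥X) (hnc : ¬ IsCyclic ↥X) :
    ∃ (p : ℕ) (E : Subgroup G), p.Prime ∧ E ≤ X ∧ IsElementaryAbelian p E ∧ Nat.card E = p ^ 2 := by
  classical
  letI : CommGroup ↥X := { (inferInstance : Group ↥X) with mul_comm := hc.is_comm.comm }
  obtain ⟨p, hp, E₀, hE₀card, hE₀exp⟩ := exists_elementary_abelian_sq (A := ↥X) hnc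
  refine ⟨p, E₀.map X.subtype, hp, Subgroup.map_subtype_le E₀, ⟨?_, ?_⟩, ?_⟩
  · constructor
    constructor
    rintro ⟨_, ⟨a, ha, rfl⟩⟩ ⟨_, ⟨b, hb, rfl⟩⟩
    apply Subtype.ext
    have := congrArg Subtype.val (mul_comm a b)
    simpa using this
  · rintro _ ⟨e, he, rfl⟩
    have := hE₀exp e he
    have := congrArg Subtype.val this
    simpa using this
  · rw [card_map_subtype, hE₀card]

/-- **B and G, Theorem 15.1(a)** -/
theorem centralizer_hall (hG : IsMinSimpleOddOrder G) {M H : Subgroup G} (hM : IsCoatom M)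
    (hH : H ≤ sigmaCore M) (hH1 : H ≠ ⊥)
    (hHall : (Nat.card H).Coprime (H.relIndex (sigmaCore M))) :
    ∃ X : Subgroup G, IsCyclic ↥X ∧ (∀ p : ℕ, p.Prime → p ∣ Nat.card X → p ∈ tau2 M) ∧
      M ⊓ Subgroup.centralizer (H : Set G) =
        (sigmaCore M ⊓ Subgroup.centralizer (H : Set G)) ⊔ X := by
  classical
  have hsolvM : Group.IsSolvable ↥M := solvable_of_ne_top hG hM.1
  set D := M ⊓ Subgroup.centralizer (H : Set G) with hD
  have hDM : D ≤ M := inf_le_left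
  have hsolvD : Group.IsSolvable ↥D := solvable_of_ne_top hG (ne_top_of_le_ne_top hM.1 hDM)
  obtain ⟨X, hX, -⟩ := exists_piHallOf_ge hsolvD {q | q ∉ sigma M} (bot_le : (⊥ : Subgroup G) ≤ D)
    (fun q hq hd => by
      rw [Subgroup.card_bot] at hd
      exact absurd (Nat.dvd_one.mp hd) hq.one_lt.ne')
  have hXM : X ≤ M := hX.1.trans hDM
  have hXH : X ≤ Subgroup.centralizer (H : Set G) := hX.1.trans inf_le_right
  have hHX : H ≤ Subgroup.centralizer (X : Set G) := Subgroup.le_centralizer_iff.mp hXH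
  -- the decomposition
  have hdec : (sigmaCore M ⊓ Subgroup.centralizer (H : Set G)) ⊔ X = D := by
    apply BG19.sup_eq_of_cover (inf_le_inf_right _ (sigmaCore_le M)) hX.1
    intro p hp
    by_cases hpσ : p ∈ sigma M
    · left
      have e : sigmaCore M ⊓ Subgroup.centralizer (H : Set G) = sigmaCore M ⊓ D := by
        rw [hD, ← inf_assoc, inf_eq_left.mpr (sigmaCore_le M)]
      rw [e, Subgroup.inf_relIndex_right]
      intro hd
      exact (sigmaCore_hall hG hM).1.2.2 p hp hpσ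
        (hd.trans (BG20.relIndex_dvd_of_normal (sigmaCore_le M) (le_normalizer_sigmaCore M) hDM))
    · exact Or.inr (hX.2.2 p hp hpσ)
  -- the primes of `X`
  have hprimes : ∀ p : ℕ, p.Prime → p ∣ Nat.card X → p ∈ tau2 M := by
    intro p hp hd
    haveI : Fact p.Prime := ⟨hp⟩
    have hpσ : p ∉ sigma M := hX.2.1 p hp hd
    have hpM : p ∣ Nat.card M := hd.trans (Subgroup.card_dvd_of_le hXM)
    obtain ⟨⟨a, ha⟩, hao⟩ := exists_prime_orderOf_dvd_card' p hd
    have hao' : orderOf a = p := by rw [← hao, Subgroup.orderOf_mk]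
    have hPc : Nat.card (Subgroup.zpowers a) = p := by rw [Nat.card_zpowers, hao']
    have hPX : Subgroup.zpowers a ≤ X := Subgroup.zpowers_le.mpr ha
    have hfix : sigmaCore M ⊓ Subgroup.centralizer ((Subgroup.zpowers a : Subgroup G) : Set G) ≠ ⊥ := by
      intro h0
      apply hH1
      rw [eq_bot_iff, ← h0]
      exact le_inf hH (hHX.trans (Subgroup.centralizer_le hPX))
    have hκ : PRankLE p 1 ↥M → False := by
      intro hr1
      have hpκ : p ∈ kappa M := mem_kappa_of_le hG hM hpσ hr1 (hPX.trans hXM) hPc hfix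
      exact not_le_centralizer_of_kappa hG hM hH hH1 hHall (hPX.trans hXM) (hPc ▸ hp) (hPc ▸ hpκ)
        (hHX.trans (Subgroup.centralizer_le hPX))
    rcases BG19.tau_cases hG hM hp hpM hpσ with h | h | h
    · exact absurd h.2.2.2.2 (fun h' => hκ h')
    · exact h
    · exact absurd h.2.2.2 (fun h' => hκ h')
  -- `X` is commutative
  have hXσ : (Nat.card X).Coprime (Nat.card (sigmaCore M)) := by
    apply Nat.coprime_of_dvd
    intro q hq h1 h2
    exact hX.2.1 q hq h1 ((sigmaCore_hall hG hM).1.2.1 q hq h2)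
  obtain ⟨h₀, hh₀, hh₀1⟩ : ∃ x ∈ H, x ≠ 1 := by
    by_contra hcon
    push Not at hcon
    exact hH1 ((Subgroup.eq_bot_iff_forall H).mpr hcon)
  have hcomm : ∀ a ∈ X, ∀ b ∈ X, a * b = b * a := by
    by_cases hκ : (kappa M).Nonempty
    · obtain ⟨K, hK, -⟩ := exists_piHallOf_ge hsolvM (kappa M) (bot_le : (⊥ : Subgroup G) ≤ M)
        (fun q hq hd => by
          rw [Subgroup.card_bot] at hd
          exact absurd (Nat.dvd_one.mp hd) hq.one_lt.ne')
      obtain ⟨q, hq⟩ := hκ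
      have hK1 : K ≠ ⊥ := by
        intro h0
        have := BG19.dvd_card_hall hK hq.1 hq hq.2.1
        rw [h0, Subgroup.card_bot] at this
        exact hq.1.one_lt.ne' (Nat.dvd_one.mp this)
      obtain ⟨U, hUc, hU, -, -⟩ := (tkdata hG M K hM hK hK1).exU
      obtain ⟨k, hk, hkX⟩ := exists_cj_le_hall hsolvM _ hU hXM
        (fun p hp hd => ⟨hp, not_kappa_of_tau2 (hprimes p hp hd), (hprimes p hp hd).2.1⟩)
      intro a ha b hb
      have h1 : k * a * k⁻¹ ∈ U := hkX ⟨a, ha, rfl⟩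
      have h2 : k * b * k⁻¹ ∈ U := hkX ⟨b, hb, rfl⟩
      have h3 := congrArg Subtype.val (hUc.is_comm.comm ⟨k * a * k⁻¹, h1⟩ ⟨k * b * k⁻¹, h2⟩)
      have h4 : k * a * k⁻¹ * (k * b * k⁻¹) = k * b * k⁻¹ * (k * a * k⁻¹) := h3
      calc a * b = k⁻¹ * (k * a * k⁻¹ * (k * b * k⁻¹)) * k := by group
        _ = k⁻¹ * (k * b * k⁻¹ * (k * a * k⁻¹)) * k := by rw [h4]
        _ = b * a := by group
    · rw [Set.not_nonempty_iff_eq_empty] at hκ
      obtain ⟨E, hE, hXE⟩ := exists_complIn_ge hG hM hXM hXσ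
      have hreg : ∀ e ∈ E, e ≠ 1 → (∀ p : ℕ, p.Prime → p ∣ orderOf e → p ∈ tau1 M ∪ tau3 M) →
          sigmaCore M ⊓ Subgroup.centralizer ({e} : Set G) = ⊥ := by
        intro e he he1 hpe
        by_contra hne
        obtain ⟨⟨y, hy⟩, hy1⟩ := (Subgroup.ne_bot_iff_exists_ne_one).mp hne
        have hy1' : y ≠ 1 := fun h0 => hy1 (Subtype.ext h0)
        have ho : orderOf e ≠ 1 := fun h => he1 (orderOf_eq_one_iff.mp h)
        obtain ⟨p, hp, hpd⟩ := Nat.exists_prime_and_dvd ho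
        haveI : Fact p.Prime := ⟨hp⟩
        have hyo : orderOf (e ^ (orderOf e / p)) = p := exists_pow_orderOf_eq hp hpd
        have hey : e * y = y * e := by
          have := Subgroup.mem_centralizer_iff.mp hy.2 e rfl
          exact this
        have hcom : e ^ (orderOf e / p) * y = y * e ^ (orderOf e / p) :=
          (Commute.pow_left (show Commute e y from hey) _).eq
        have hpσ : p ∉ sigma M ∧ PRankLE p 1 ↥M := by
          rcases hpe p hp hpd with h | h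
          · exact ⟨h.2.1, h.2.2.2.2⟩
          · exact ⟨h.2.1, h.2.2.2⟩
        have : p ∈ kappa M := mem_kappa_of_fixed hG hM hpσ.1 hpσ.2 (M.pow_mem (hE.1 he) _) hyo
          hy.1 hy1' hcom
        rw [hκ] at this
        exact this
      obtain ⟨⟨A₀, hA₀E, -, hA₀c, hA₀⟩, -⟩ := Cfsg.Agent.S1421.result hG M hM E hE hreg
      have hXA : X ≤ A₀ := by
        refine le_trans ?_ (hA₀ h₀ (hH hh₀) hh₀1)
        refine le_inf hXE (hXH.trans (Subgroup.centralizer_le ?_))
        rintro _ rfl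
        exact hh₀
      intro a ha b hb
      exact congrArg Subtype.val (hA₀c.is_comm.comm ⟨a, hXA ha⟩ ⟨b, hXA hb⟩)
  have hXc : IsMulCommutative ↥X :=
    ⟨⟨fun a b => Subtype.ext (hcomm a a.2 b b.2)⟩⟩
  refine ⟨X, ?_, hprimes, hdec.symm⟩
  by_contra hnc
  obtain ⟨p, E, hp, hEX, hEe, hEc⟩ := exists_sq_of_not_cyclic hXc hnc
  haveI : Fact p.Prime := ⟨hp⟩
  have hpX : p ∣ Nat.card X := by
    have h1 : Nat.card E ∣ Nat.card X := Subgroup.card_dvd_of_le hEX
    rw [hEc] at h1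
    exact (dvd_pow_self p (by norm_num : (2 : ℕ) ≠ 0)).trans h1
  obtain ⟨-, -, -, h4, -⟩ := Cfsg.Agent.S1417.result hG M hM p (hprimes p hp hpX) E
    ⟨hEX.trans hXM, hEe, hEc⟩
  apply hH1
  rw [eq_bot_iff, ← h4]
  exact le_inf hH (hHX.trans (Subgroup.centralizer_le hEX))

end Cfsg.Agent.Lib.Helper5.BG151
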