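import Mathlib
import Cfsg.Agent.Lib.Helper5.BG151a

set_option autoImplicit false
set_option linter.style.haveILetI false
set_option linter.unusedSectionVars false
set_option maxHeartbeats 1600000

/-! B and G, Theorem 15.1(b): fusion of elements of a Hall subgroup of `M_σ`. -/

namespace Cfsg.Agent.Lib.Helper5.BG151

open Cfsg Cfsg.Agent.Lib.Lead Cfsg.Agent.Lib.Lead.BG10 Cfsg.Agent.Lib.Helper7 Cfsg.Agent.Lib.Helper4
open Cfsg.Agent.Lib.Helper4.BG76 Cfsg.Agent.Lib.Helper4.BG8 Cfsg.Agent.Lib.Helper4.BG9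
open Cfsg.Agent.Lib.Helper4.BG7 Cfsg.Agent.Lib.Helper4.BG12 Cfsg.Agent.Lib.Helper4.BGConj
open Cfsg.Agent.Lib.Helper4.BG13 Cfsg.Agent.Lib.Lead.BG12q Cfsg.Agent.Lib.Lead.BG13q
open Cfsg.Agent.Lib.Helper4.BG18 Cfsg.Agent.Lib.Helper2.BG13x Cfsg.Agent.Lib.Helper5.BG139
open Cfsg.Agent.Lib.Helper4.BG14 Cfsg.Agent.Lib.Helper2.BG14z Cfsg.Agent.Lib.Helper5.BG143
open Cfsg.Agent.Lib.Helper5.BG144 Cfsg.Agent.Lib.Lead.BG14n Cfsg.Agent.Lib.Helper2.BG14y
open Cfsg.Agent.Lib.Helper5.BG147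
open scoped commutatorElement

universe u

variable {G : Type u} [Group G] [Finite G]

/-- a subgroup of order prime to its index is a Hall subgroup for its set of prime divisors -/
theorem isPiHallOf_of_coprime {H L : Subgroup G} (hHL : H ≤ L)
    (hHall : (Nat.card H).Coprime (H.relIndex L)) :
    IsPiHallOf {p | p.Prime ∧ p ∣ Nat.card H} H L := by
  refine ⟨hHL, fun p hp hd => ⟨hp, hd⟩, ?_⟩
  rintro p hp ⟨-, hd⟩ hd'
  have := Nat.dvd_gcd hd hd'
  rw [hHall] at this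
  exact hp.one_lt.ne' (Nat.dvd_one.mp this)

/-- Frattini argument for Hall subgroups of a solvable normal subgroup -/
theorem frattini_hall {K T H : Subgroup G} {π : Set ℕ} (hsolv : Group.IsSolvable ↥T)
    (hKT : K ≤ Subgroup.normalizer (T : Set G)) (hH : IsPiHallOf π H T) {k : G} (hk : k ∈ K) :
    ∃ t ∈ T, t⁻¹ * k ∈ Subgroup.normalizer (H : Set G) := by
  have hcj : cj k T = T := mem_normalizer_iff_cj.mp (hKT hk)
  have hH' : IsPiHallOf π (cj k H) T := by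
    refine ⟨?_, ?_, ?_⟩
    · rw [← hcj]; exact cj_mono k hH.1
    · intro p hp hd; rw [card_cj] at hd; exact hH.2.1 p hp hd
    · intro p hp hpπ hd
      have h2 : (cj k H).relIndex (cj k T) = H.relIndex T := relIndex_cj k H T
      rw [hcj] at h2
      rw [h2] at hd
      exact hH.2.2 p hp hpπ hd
  obtain ⟨t, ht, hteq⟩ := hall_conj hsolv π hH hH'
  refine ⟨t, ht, ?_⟩
  rw [mem_normalizer_iff_cj, Helper7.cj_mul, ← hteq, cj_inv_cj]


/-- a nilpotent group is generated by its `π`-core and its `π'`-core -/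
theorem nilpotent_sup_piCoreOf {F : Subgroup G} (hF : Group.IsNilpotent ↥F) (π : Set ℕ) :
    piCoreOf π F ⊔ piCoreOf {p | p.Prime ∧ p ∉ π} F = F := by
  apply BG19.sup_eq_of_cover (piCoreOf_le _ _) (piCoreOf_le _ _)
  intro p hp
  haveI : Fact p.Prime := ⟨hp⟩
  obtain ⟨P, -, hP⟩ := exists_sylIn_ge (bot_le : (⊥ : Subgroup G) ≤ F) (IsPGroup.of_bot (p := p))
  have hFP : F ≤ Subgroup.normalizer (P : Set G) := sylIn_normal_of_isNilpotent hF hP
  by_cases hpπ : p ∈ π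
  · left
    have hPA : P ≤ piCoreOf π F := by
      apply le_piCoreOf hP.1 hFP
      intro q hq hd
      obtain ⟨k, hk⟩ := (IsPGroup.iff_card.mp hP.2.1)
      rw [hk] at hd
      rw [(Nat.prime_dvd_prime_iff_eq hq hp).mp (hq.dvd_of_dvd_pow hd)]
      exact hpπ
    intro hd
    exact hP.2.2 (hd.trans (Subgroup.relIndex_dvd_of_le_left F hPA))
  · right
    have hPA : P ≤ piCoreOf {p | p.Prime ∧ p ∉ π} F := by
      apply le_piCoreOf hP.1 hFP
      intro q hq hd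
      obtain ⟨k, hk⟩ := (IsPGroup.iff_card.mp hP.2.1)
      rw [hk] at hd
      rw [(Nat.prime_dvd_prime_iff_eq hq hp).mp (hq.dvd_of_dvd_pow hd)]
      exact ⟨hp, hpπ⟩
    intro hd
    exact hP.2.2 (hd.trans (Subgroup.relIndex_dvd_of_le_left F hPA))

/-- if `cj g H ≤ H` then `g` normalizes `H` -/
theorem mem_normalizer_of_cj_le {g : G} {H : Subgroup G} (h : cj g H ≤ H) :
    g ∈ Subgroup.normalizer (H : Set G) := by
  rw [mem_normalizer_iff_cj]
  apply Subgroup.eq_of_le_of_card_ge h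
  rw [card_cj]


/-- **fusion in Hall subgroups of a normal subgroup `L` which is nilpotent modulo a normal
nilpotent subgroup `F`** (the group-theoretic core of B and G, Theorem 15.1(b)) -/
theorem fusion_hall {M L F H : Subgroup G} (hsolv : Group.IsSolvable ↥M) (hLM : L ≤ M)
    (hML : M ≤ Subgroup.normalizer (L : Set G)) (hFL : F ≤ L)
    (hLF : L ≤ Subgroup.normalizer (F : Set G)) (hFnil : Group.IsNilpotent ↥F)
    (hCC : ∀ a ∈ L, ∀ b ∈ L, (orderOf a).Coprime (orderOf b) → a * b * a⁻¹ * b⁻¹ ∈ F)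
    (hHL : H ≤ L) (hHall : (Nat.card H).Coprime (H.relIndex L))
    {x : G} (hx : x ∈ H) {m : G} (hm : m ∈ M) (hmx : m * x * m⁻¹ ∈ H) :
    ∃ n ∈ M ⊓ Subgroup.normalizer (H : Set G), n * x * n⁻¹ = m * x * m⁻¹ := by
  classical
  set π : Set ℕ := {p | p.Prime ∧ p ∣ Nat.card H} with hπ
  set π' : Set ℕ := {p | p.Prime ∧ p ∉ π} with hπ'
  have hHπ : IsPiHallOf π H L := isPiHallOf_of_coprime hHL hHall
  have hsolvL : Group.IsSolvable ↥L :=
    Group.isSolvable_of_isSolvable_injective (Subgroup.inclusion_injective hLM)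
  -- first Frattini argument
  obtain ⟨l, hl, hn₁⟩ := frattini_hall hsolvL hML hHπ hm
  have hn₁M : l⁻¹ * m ∈ M := M.mul_mem (M.inv_mem (hLM hl)) hm
  have hx'H : (l⁻¹ * m) * x * (l⁻¹ * m)⁻¹ ∈ H := conj_mem_of_mem_normalizer hn₁ hx
  have hy : l * ((l⁻¹ * m) * x * (l⁻¹ * m)⁻¹) * l⁻¹ = m * x * m⁻¹ := by group
  generalize hn₁def : l⁻¹ * m = n₁ at hn₁ hn₁M hx'H hy
  generalize hx'def : n₁ * x * n₁⁻¹ = x' at hx'H hy
  -- a Hall `π'`-subgroup of `L`
  obtain ⟨J, hJ, -⟩ := exists_hall_ge hsolvL π' (bot_le : (⊥ : Subgroup G) ≤ L)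
    (fun p hp hd => by
      rw [Subgroup.card_bot] at hd
      exact absurd (Nat.dvd_one.mp hd) hp.one_lt.ne')
  have hJH : J ⊔ H = L := sup_eq_of_hall_hall hHπ hJ
    (fun q hq _ => by
      by_cases h : q ∈ π
      · exact Or.inl h
      · exact Or.inr ⟨hq, h⟩)
  have hcop : (Nat.card J).Coprime (Nat.card H) := by
    apply Nat.coprime_of_dvd
    intro k hk h1 h2
    exact (hJ.2.1 k hk h1).2 ⟨hk, h2⟩
  -- `T = H ⊔ F` is normal in `L`
  have hHF : H ≤ Subgroup.normalizer (F : Set G) := hHL.trans hLF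
  have hLT : L ≤ Subgroup.normalizer ((F ⊔ H : Subgroup G) : Set G) := by
    rw [← hJH]
    apply sup_le _ (le_sup_right.trans Subgroup.le_normalizer)
    intro j hj
    apply mem_normalizer_of_cj_le
    rw [cj_sup]
    apply sup_le
    · rw [mem_normalizer_iff_cj.mp (hLF (hJ.1 hj))]
      exact le_sup_left
    · rintro _ ⟨h, hh, rfl⟩
      have h1 : j * h * j⁻¹ * h⁻¹ ∈ F := by
        apply hCC j (hJ.1 hj) h (hHL hh)
        exact Nat.Coprime.coprime_dvd_left (Subgroup.orderOf_dvd_natCard J hj)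
          (Nat.Coprime.coprime_dvd_right (Subgroup.orderOf_dvd_natCard H hh) hcop)
      have h2 : j * h * j⁻¹ = (j * h * j⁻¹ * h⁻¹) * h := by group
      show j * h * j⁻¹ ∈ F ⊔ H
      rw [h2]
      exact Subgroup.mul_mem _ (Subgroup.mem_sup_left h1) (Subgroup.mem_sup_right hh)
  have hTL : F ⊔ H ≤ L := sup_le hFL hHL
  have hsolvT : Group.IsSolvable ↥(F ⊔ H : Subgroup G) :=
    Group.isSolvable_of_isSolvable_injective (Subgroup.inclusion_injective hTL)
  have hHT : IsPiHallOf π H (F ⊔ H) := by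
    refine ⟨le_sup_right, hHπ.2.1, ?_⟩
    intro p hp hpπ hd
    apply hHπ.2.2 p hp hpπ
    rw [← Subgroup.relIndex_mul_relIndex H (F ⊔ H) L le_sup_right hTL]
    exact hd.mul_right _
  -- second Frattini argument
  obtain ⟨t, ht, hn₃⟩ := frattini_hall hsolvT hLT hHT hl
  obtain ⟨f, hf, h, hh, rfl⟩ := exists_mul_of_mem_sup hHF ht
  have hx''H : (h * ((f * h)⁻¹ * l)) * x' * (h * ((f * h)⁻¹ * l))⁻¹ ∈ H :=
    conj_mem_of_mem_normalizer
      ((Subgroup.normalizer (H : Set G)).mul_mem (Subgroup.le_normalizer hh) hn₃) hx'H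
  have hn₃L : h * ((f * h)⁻¹ * l) ∈ L :=
    L.mul_mem (hHL hh) (L.mul_mem (L.inv_mem (hTL ht)) hl)
  have hn₃N : h * ((f * h)⁻¹ * l) ∈ Subgroup.normalizer (H : Set G) :=
    (Subgroup.normalizer (H : Set G)).mul_mem (Subgroup.le_normalizer hh) hn₃
  have hy' : f * ((h * ((f * h)⁻¹ * l)) * x' * (h * ((f * h)⁻¹ * l))⁻¹) * f⁻¹ = m * x * m⁻¹ := by
    rw [← hy]; group
  generalize h * ((f * h)⁻¹ * l) = n₃ at hx''H hn₃L hn₃N hy'
  generalize hx''def : n₃ * x' * n₃⁻¹ = x'' at hx''H hy'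
  -- split `f` into its `π`-part and its `π'`-part
  have hAB := nilpotent_sup_piCoreOf hFnil π
  have hAH : piCoreOf π F ≤ H := by
    obtain ⟨k, hk, hkA⟩ := exists_cj_le_hall hsolvL π hHπ ((piCoreOf_le π F).trans hFL)
      (isPiNum_card_piCoreOf π F)
    rwa [mem_normalizer_iff_cj.mp
      (((hLF.trans (normalizer_le_normalizer_piCoreOf π F))) hk)] at hkA
  have hBn : L ≤ Subgroup.normalizer (piCoreOf π' F : Set G) :=
    hLF.trans (normalizer_le_normalizer_piCoreOf π' F)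
  have hf' : f ∈ piCoreOf π' F ⊔ piCoreOf π F := by
    rw [sup_comm, hAB]; exact hf
  obtain ⟨b, hb, a, ha, rfl⟩ := exists_mul_of_mem_sup
    (((piCoreOf_le π F).trans hFL).trans hBn) hf'
  have haH : a ∈ H := hAH ha
  have hx₃H : a * x'' * a⁻¹ ∈ H := H.mul_mem (H.mul_mem haH hx''H) (H.inv_mem haH)
  have hy'' : b * (a * x'' * a⁻¹) * b⁻¹ = m * x * m⁻¹ := by rw [← hy']; group
  generalize hx₃def : a * x'' * a⁻¹ = x₃ at hx₃H hy''
  have hBH : piCoreOf π' F ⊓ H = ⊥ := by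
    apply (Subgroup.disjoint_of_coprime_natCard _).eq_bot
    apply Nat.coprime_of_dvd
    intro k hk h1 h2
    exact (isPiNum_card_piCoreOf π' F k hk h1).2 ⟨hk, h2⟩
  have h1 : b * x₃ * b⁻¹ * x₃⁻¹ ∈ piCoreOf π' F ⊓ H := by
    constructor
    · have h2 : b * x₃ * b⁻¹ * x₃⁻¹ = b * (x₃ * b⁻¹ * x₃⁻¹) := by group
      rw [h2]
      exact Subgroup.mul_mem _ hb
        (conj_mem_of_mem_normalizer (hBn (hHL hx₃H)) (Subgroup.inv_mem _ hb))
    · rw [hy'']
      exact H.mul_mem hmx (H.inv_mem hx₃H)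
  rw [hBH, Subgroup.mem_bot] at h1
  have h3 : b * x₃ * b⁻¹ = x₃ := by
    have : b * x₃ * b⁻¹ = (b * x₃ * b⁻¹ * x₃⁻¹) * x₃ := by group
    rw [this, h1, one_mul]
  refine ⟨a * n₃ * n₁, ⟨?_, ?_⟩, ?_⟩
  · exact M.mul_mem (M.mul_mem (hLM (hHL haH)) (hLM hn₃L)) hn₁M
  · exact Subgroup.mul_mem _ (Subgroup.mul_mem _ (Subgroup.le_normalizer haH) hn₃N) hn₁
  · rw [← hy'', h3, ← hx₃def, ← hx''def, ← hx'def]
    group


/-- coprime elements of `M_σ` commute modulo `M_F`, if `M_σ ≤ M'` and `M' / M_F` is nilpotent -/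
theorem cc_of_nilpotent {M : Subgroup G} (hσ : sigmaCore M ≤ ⁅M, M⁆)
    (hnil : Group.IsNilpotent
      ↥((commutator ↥M).map (QuotientGroup.mk' (fittingHall ↥M)))) :
    ∀ a ∈ sigmaCore M, ∀ b ∈ sigmaCore M, (orderOf a).Coprime (orderOf b) →
      a * b * a⁻¹ * b⁻¹ ∈ fittingHallOf M := by
  intro a ha b hb hab
  have ha' := hσ ha
  have hb' := hσ hb
  rw [← Subgroup.map_subtype_commutator] at ha' hb'
  obtain ⟨a', ha'c, rfl⟩ := ha'
  obtain ⟨b', hb'c, rfl⟩ := hb'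
  set N := (commutator ↥M).map (QuotientGroup.mk' (fittingHall ↥M)) with hN
  let qa : ↥N := ⟨QuotientGroup.mk' (fittingHall ↥M) a', Subgroup.mem_map_of_mem _ ha'c⟩
  let qb : ↥N := ⟨QuotientGroup.mk' (fittingHall ↥M) b', Subgroup.mem_map_of_mem _ hb'c⟩
  have hoa : orderOf qa ∣ orderOf (M.subtype a') := by
    rw [← Subgroup.orderOf_coe qa]
    show orderOf (QuotientGroup.mk' (fittingHall ↥M) a') ∣ _
    rw [Subgroup.coe_subtype, Subgroup.orderOf_coe]
    exact orderOf_map_dvd _ _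
  have hob : orderOf qb ∣ orderOf (M.subtype b') := by
    rw [← Subgroup.orderOf_coe qb]
    show orderOf (QuotientGroup.mk' (fittingHall ↥M) b') ∣ _
    rw [Subgroup.coe_subtype, Subgroup.orderOf_coe]
    exact orderOf_map_dvd _ _
  haveI := hnil
  have hcomm : Commute qa qb :=
    Cfsg.Agent.Lib.Helper5.NilSym.commute_of_coprime ↥N qa qb (isOfFinOrder_of_finite _)
      (isOfFinOrder_of_finite _)
      (Nat.Coprime.coprime_dvd_left hoa (Nat.Coprime.coprime_dvd_right hob hab))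
  have h1 : QuotientGroup.mk' (fittingHall ↥M) a' * QuotientGroup.mk' (fittingHall ↥M) b' =
      QuotientGroup.mk' (fittingHall ↥M) b' * QuotientGroup.mk' (fittingHall ↥M) a' :=
    congrArg Subtype.val hcomm.eq
  have h2 : a' * b' * a'⁻¹ * b'⁻¹ ∈ fittingHall ↥M := by
    rw [← QuotientGroup.eq_one_iff, ← QuotientGroup.mk'_apply]
    rw [map_mul, map_mul, map_mul, h1, map_inv, map_inv]
    group
  exact ⟨a' * b' * a'⁻¹ * b'⁻¹, h2, by simp⟩

/-- **Bender–Glauberman, Theorem 15.1(b)**, from Theorem 15.2(a) -/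
theorem fusion_of_nilpotent (hG : IsMinSimpleOddOrder G) {M : Subgroup G} (hM : IsCoatom M)
    (hnil : Group.IsNilpotent
      ↥((commutator ↥M).map (QuotientGroup.mk' (fittingHall ↥M))))
    {H : Subgroup G} (hH : H ≤ sigmaCore M)
    (hHall : (Nat.card H).Coprime (H.relIndex (sigmaCore M))) :
    ∀ x ∈ H, ∀ g : G, g * x * g⁻¹ ∈ H →
      ∃ n ∈ M ⊓ Subgroup.normalizer (H : Set G), n * x * n⁻¹ = g * x * g⁻¹ := by
  intro x hx g hgx
  have hsolv : Group.IsSolvable ↥M := solvable_of_ne_top hG hM.1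
  obtain ⟨m, hm, hmx⟩ := BG144.fusion hG hM (hH hx) ((sigmaCore_le M) (hH hgx))
  rw [← hmx] at hgx ⊢
  exact fusion_hall hsolv (sigmaCore_le M) (le_normalizer_sigmaCore M)
    (BG144.fittingHallOf_le_sigmaCore hG hM)
    ((sigmaCore_le M).trans (le_normalizer_fittingHallOf M)) (isNilpotent_fittingHallOf M)
    (cc_of_nilpotent (sigmaCore_le_commutator hG hM) hnil) hH hHall hx hm hgx

end Cfsg.Agent.Lib.Helper5.BG151
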