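import Mathlib
import Cfsg.Agent.Lib.Helper5.BG151b
import Cfsg.Agent.S1439
import Cfsg.Agent.S1426

set_option autoImplicit false
set_option linter.style.haveILetI false
set_option linter.unusedSectionVars false
set_option maxHeartbeats 1600000

/-! B and G, Theorem 15.7: maximal subgroups `M` for which `F(M)` is not a TI-subgroup.
Part 1: `X = F(M) ∩ F(M)^g ≤ M_σ ∩ M_σ^g`. -/

namespace Cfsg.Agent.Lib.Helper5.BG157

open Cfsg Cfsg.Agent.Lib.Lead Cfsg.Agent.Lib.Lead.BG10 Cfsg.Agent.Lib.Helper7 Cfsg.Agent.Lib.Helper4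
open Cfsg.Agent.Lib.Helper4.BG76 Cfsg.Agent.Lib.Helper4.BG8 Cfsg.Agent.Lib.Helper4.BG9
open Cfsg.Agent.Lib.Helper4.BG7 Cfsg.Agent.Lib.Helper4.BG12 Cfsg.Agent.Lib.Helper4.BGConj
open Cfsg.Agent.Lib.Helper4.BG13 Cfsg.Agent.Lib.Lead.BG12q Cfsg.Agent.Lib.Lead.BG13q
open Cfsg.Agent.Lib.Helper4.BG18 Cfsg.Agent.Lib.Helper2.BG13x Cfsg.Agent.Lib.Helper5.BG139
open Cfsg.Agent.Lib.Helper4.BG14 Cfsg.Agent.Lib.Helper2.BG14z Cfsg.Agent.Lib.Helper5.BG143
open Cfsg.Agent.Lib.Helper5.BG144 Cfsg.Agent.Lib.Lead.BG14n Cfsg.Agent.Lib.Helper2.BG14y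
open Cfsg.Agent.Lib.Helper5.BG147 Cfsg.Agent.Lib.Helper5.BG151
open scoped commutatorElement

universe u

variable {G : Type u} [Group G] [Finite G]

/-- an element of prime order `l ∉ σ(M)` of `F(M)` generates a subgroup normalized by `M` -/
theorem le_normalizer_zpowers_of_not_sigma (hG : IsMinSimpleOddOrder G) {M : Subgroup G}
    (hM : IsCoatom M) {x : G} (hx : x ∈ fittingOf M) {l : ℕ} (hl : l.Prime) (hxl : orderOf x = l)
    (hlσ : l ∉ sigma M) :
    M ≤ Subgroup.normalizer ((Subgroup.zpowers x : Subgroup G) : Set G) := by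
  haveI : Fact l.Prime := ⟨hl⟩
  obtain ⟨hYc, -, -⟩ := Cfsg.Agent.S1439.result hG M hM
  set F := fittingOf M with hF
  set Y := piCoreOf {q | q.Prime ∧ q ∉ sigma M} F with hY
  have hFnil : Group.IsNilpotent ↥F := isNilpotent_fittingOf M
  have hxp : IsPGroup l ↥(Subgroup.zpowers x) := by
    apply IsPGroup.of_card (n := 1)
    rw [Nat.card_zpowers, hxl, pow_one]
  obtain ⟨L, hxL, hL⟩ := exists_sylIn_ge (p := l) ((Subgroup.zpowers_le).mpr hx) hxp
  have hFL : F ≤ Subgroup.normalizer (L : Set G) := sylIn_normal_of_isNilpotent hFnil hL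
  have hLY : L ≤ Y := by
    apply le_piCoreOf hL.1 hFL
    intro q hq hd
    obtain ⟨k, hk⟩ := (IsPGroup.iff_card.mp hL.2.1)
    rw [hk] at hd
    rw [(Nat.prime_dvd_prime_iff_eq hq hl).mp (hq.dvd_of_dvd_pow hd)]
    exact ⟨hl, hlσ⟩
  have hxY : Subgroup.zpowers x ≤ Y := hxL.trans hLY
  have hMY : M ≤ Subgroup.normalizer (Y : Set G) :=
    (le_normalizer_fittingOf M).trans (BG7.normalizer_le_normalizer_piCoreOf _ F)
  intro m hm
  rw [mem_normalizer_iff_cj]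
  apply eq_of_card_eq_of_le_cyclic hYc _ hxY (card_cj _ _)
  have := cj_mono m hxY
  rwa [mem_normalizer_iff_cj.mp (hMY hm)] at this


/-- the primes of `F(M) ∩ F(M)^g`, `g ∉ M`, lie in `σ(M)` -/
theorem mem_sigma_of_dvd_card_inter (hG : IsMinSimpleOddOrder G) {M : Subgroup G}
    (hM : IsCoatom M) {g : G} (hg : g ∉ M) {l : ℕ} (hl : l.Prime)
    (hd : l ∣ Nat.card ↥(fittingOf M ⊓ cj g (fittingOf M) : Subgroup G)) : l ∈ sigma M := by
  by_contra hlσ
  haveI : Fact l.Prime := ⟨hl⟩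
  obtain ⟨⟨x, hxX⟩, hxo⟩ := exists_prime_orderOf_dvd_card' l hd
  rw [Subgroup.orderOf_mk] at hxo
  have hx1 : x ≠ 1 := by
    intro h
    rw [h, orderOf_one] at hxo
    exact hl.one_lt.ne hxo
  have hM1 : M ≠ ⊥ := Cfsg.Agent.Lib.Helper2.BG11.coatom_ne_bot hG hM
  have h1 := le_normalizer_zpowers_of_not_sigma hG hM hxX.1 hl hxo hlσ
  have hMg : IsCoatom (cj g M) := isCoatom_cj hM g
  have hxg : x ∈ fittingOf (cj g M) := by rw [fittingOf_cj]; exact hxX.2
  have h2 := le_normalizer_zpowers_of_not_sigma hG hMg hxg hl hxo (by rw [sigma_cj]; exact hlσ)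
  have hz1 : Subgroup.zpowers x ≠ ⊥ := by
    intro h
    exact hx1 (Subgroup.zpowers_eq_bot.mp h)
  have hzM : Subgroup.zpowers x ≤ M :=
    (Subgroup.zpowers_le).mpr (fittingOf_le M hxX.1)
  have hzMg : Subgroup.zpowers x ≤ cj g M :=
    (Subgroup.zpowers_le).mpr (fittingOf_le (cj g M) hxg)
  have e1 := normalizer_eq_of_isCoatom hG hM hz1 hzM h1
  have e2 := normalizer_eq_of_isCoatom hG hMg hz1 hzMg h2
  have e3 : cj g M = M := e2.symm.trans e1
  have h3 : g ∈ Subgroup.normalizer (M : Set G) := mem_normalizer_iff_cj.mpr e3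
  rw [normalizer_coatom hG hM hM1] at h3
  exact hg h3

/-- `F(M) ∩ F(M)^g ≤ M_σ ∩ M_σ^g` for `g ∉ M` -/
theorem inter_le_sigmaCore (hG : IsMinSimpleOddOrder G) {M : Subgroup G}
    (hM : IsCoatom M) {g : G} (hg : g ∉ M) :
    fittingOf M ⊓ cj g (fittingOf M) ≤ sigmaCore M ⊓ cj g (sigmaCore M) := by
  apply le_inf
  · apply le_sigmaCore_of_piNum hG hM (inf_le_left.trans (fittingOf_le M))
    intro l hl hd
    exact mem_sigma_of_dvd_card_inter hG hM hg hl hd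
  · rw [← sigmaCore_cj]
    apply le_sigmaCore_of_piNum hG (isCoatom_cj hM g)
      (inf_le_right.trans (cj_mono g (fittingOf_le M)))
    intro l hl hd
    rw [sigma_cj]
    exact mem_sigma_of_dvd_card_inter hG hM hg hl hd


/-- `F(M)` is not a TI-subset if `F(M) ∩ F(M)^g ≠ 1` for some `g ∉ M` -/
theorem not_isTISubset_fittingOf (hG : IsMinSimpleOddOrder G) {M : Subgroup G}
    (hM : IsCoatom M) {g : G} (hg : g ∉ M) (hX : fittingOf M ⊓ cj g (fittingOf M) ≠ ⊥) :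
    ¬ IsTISubset (fittingOf M : Set G) := by
  intro hTI
  obtain ⟨⟨x, hxX⟩, hx1⟩ := (Subgroup.ne_bot_iff_exists_ne_one).mp hX
  have hx1' : x ≠ 1 := fun h => hx1 (Subtype.ext h)
  have hF1 : fittingOf M ≠ ⊥ := by
    intro h
    rw [h, bot_inf_eq] at hX
    exact hX rfl
  have hN := normalizer_eq_of_isCoatom hG hM hF1 (fittingOf_le M) (le_normalizer_fittingOf M)
  have hg' : g⁻¹ ∉ Subgroup.normalizer ((fittingOf M : Subgroup G) : Set G) := by
    rw [hN]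
    intro h
    exact hg (inv_inv g ▸ M.inv_mem h)
  apply hx1'
  apply hTI g⁻¹ hg' x hxX.1
  have := (mem_cj g x (fittingOf M)).mp hxX.2
  rwa [inv_inv]

/-- **B and G, Theorem 15.7(a),(b)**, from Theorem 15.2 (`h1357`) and the TI-property of `F(M)` for
the groups of type `P₂` (`h1372`) -/
theorem structure_of_inter (hG : IsMinSimpleOddOrder G) {M K U : Subgroup G}
    (hM : IsCoatom M) {g : G} (hg : g ∉ M)
    (hX : fittingOf M ⊓ cj g (fittingOf M) ≠ ⊥)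
    (h1357 : fittingHallOf M ≠ sigmaCore M → IsTISubset (fittingOf M : Set G))
    (h1372 : K ≠ ⊥ → U ≠ ⊥ → IsTISubset (fittingOf M : Set G)) :
    fittingHallOf M = sigmaCore M ∧ (K = ⊥ ∨ U = ⊥) ∧
      fittingOf M ⊓ cj g (fittingOf M) ≤ sigmaCore M ⊓ cj g M ∧
      IsCyclic ↥(fittingOf M ⊓ cj g (fittingOf M) : Subgroup G) ∧
      (∀ p : ℕ, p.Prime → p ∣ Nat.card ↥(fittingOf M ⊓ cj g (fittingOf M) : Subgroup G) →
        p ∈ sigma M ∧ p ∉ beta M) ∧
      (fittingOf M ⊓ cj g (fittingOf M)) ⊓ ⁅sigmaCore M, sigmaCore M⁆ = ⊥ := by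
  have hnTI := not_isTISubset_fittingOf hG hM hg hX
  have hle : fittingOf M ⊓ cj g (fittingOf M) ≤ sigmaCore M ⊓ cj g M :=
    (inter_le_sigmaCore hG hM hg).trans (inf_le_inf_left _ (cj_mono g (sigmaCore_le M)))
  obtain ⟨E, hE, -⟩ := exists_complIn_ge hG hM (bot_le : (⊥ : Subgroup G) ≤ M)
    (by rw [Subgroup.card_bot]; exact Nat.coprime_one_left _)
  obtain ⟨-, -, h3⟩ := Cfsg.Agent.S1426.result hG M hM E hE
  obtain ⟨hc, hβ, hd⟩ := h3 g hg
  refine ⟨?_, ?_, hle, ?_, ?_, ?_⟩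
  · by_contra h
    exact hnTI (h1357 h)
  · by_contra h
    push Not at h
    exact hnTI (h1372 h.1 h.2)
  · haveI := hc
    exact isCyclic_of_injective (Subgroup.inclusion hle) (Subgroup.inclusion_injective hle)
  · intro p hp hpd
    exact ⟨mem_sigma_of_dvd_card_inter hG hM hg hp hpd,
      hβ p hp (hpd.trans (Subgroup.card_dvd_of_le hle))⟩
  · rw [eq_bot_iff, ← hd]
    exact inf_le_inf_right _ hle

end Cfsg.Agent.Lib.Helper5.BG157
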