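import Mathlib
import Cfsg.Agent.Lib.Helper5.BG157a
import Cfsg.Agent.S1420

set_option autoImplicit false
set_option linter.style.haveILetI false
set_option linter.unusedSectionVars false
set_option maxHeartbeats 1600000

/-! B and G, Theorem 15.7, part 2: the configuration `x ∈ M_σ` of prime order `p`, `M_σ` nilpotent,
`C_G(x) ≰ M`, and the maximal subgroup `N` containing `C_G(x)`. -/

namespace Cfsg.Agent.Lib.Helper5.BG157

open Cfsg Cfsg.Agent.Lib.Lead Cfsg.Agent.Lib.Lead.BG10 Cfsg.Agent.Lib.Helper7 Cfsg.Agent.Lib.Helper4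
open Cfsg.Agent.Lib.Helper4.BG76 Cfsg.Agent.Lib.Helper4.BG8 Cfsg.Agent.Lib.Helper4.BG9
open Cfsg.Agent.Lib.Helper4.BG7 Cfsg.Agent.Lib.Helper4.BG12 Cfsg.Agent.Lib.Helper4.BGConj
open Cfsg.Agent.Lib.Helper4.BG13 Cfsg.Agent.Lib.Lead.BG12q Cfsg.Agent.Lib.Lead.BG13q
open Cfsg.Agent.Lib.Helper4.BG18 Cfsg.Agent.Lib.Helper2.BG13x Cfsg.Agent.Lib.Helper5.BG139
open Cfsg.Agent.Lib.Helper4.BG14 Cfsg.Agent.Lib.Helper2.BG14z Cfsg.Agent.Lib.Helper5.BG143
open Cfsg.Agent.Lib.Helper5.BG144 Cfsg.Agent.Lib.Lead.BG14n Cfsg.Agent.Lib.Helper2.BG14y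
open Cfsg.Agent.Lib.Helper5.BG147 Cfsg.Agent.Lib.Helper5.BG151
open scoped commutatorElement

universe u

variable {G : Type u} [Group G] [Finite G]

/-- the configuration of Theorem 15.7 -/
structure Cfg (M N : Subgroup G) (x : G) (p : ℕ) : Prop where
  hG : IsMinSimpleOddOrder G
  hM : IsCoatom M
  hnil : Group.IsNilpotent ↥(sigmaCore M)
  hx : x ∈ sigmaCore M
  hp : p.Prime
  hxp : orderOf x = p
  hCM : ¬ Subgroup.centralizer ({x} : Set G) ≤ M
  hN : IsCoatom N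
  hCN : Subgroup.centralizer ({x} : Set G) ≤ N
  uniq : ∀ L : Subgroup G, IsCoatom L → Subgroup.centralizer ({x} : Set G) ≤ L → L = N
  hτ : p ∈ tau2 N
  hE : IsComplIn (M ⊓ N) (sigmaCore N) N
  not_conj : ∀ g : G, N ≠ cj g M

/-- the configuration exists for every element of prime order of `M_σ ∩ M^g`, `g ∉ M` -/
theorem exists_cfg (hG : IsMinSimpleOddOrder G) {M : Subgroup G} (hM : IsCoatom M)
    (hnil : Group.IsNilpotent ↥(sigmaCore M)) {x : G} (hx : x ∈ sigmaCore M) {p : ℕ}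
    (hp : p.Prime) (hxp : orderOf x = p) {g : G} (hg : g ∉ M) (hxg : x ∈ cj g M) :
    ∃ N : Subgroup G, Cfg M N x p := by
  have hx1 : x ≠ 1 := by
    intro h
    rw [h, orderOf_one] at hxp
    exact hp.one_lt.ne hxp
  have hM1 : M ≠ ⊥ := Cfsg.Agent.Lib.Helper2.BG11.coatom_ne_bot hG hM
  have hCM : ¬ Subgroup.centralizer ({x} : Set G) ≤ M := by
    intro hC
    obtain ⟨c, hc, hcg⟩ := BG14n.exists_centralizer_cj hG hM hx hxg
    rw [Helper7.cj_eq_self_of_mem (hC hc)] at hcg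
    have h3 : g ∈ Subgroup.normalizer (M : Set G) := mem_normalizer_iff_cj.mpr hcg
    rw [normalizer_coatom hG hM hM1] at h3
    exact hg h3
  obtain ⟨N, ⟨hN, hCN⟩, huniq, -⟩ := theorem_14_4_c hG hM hx hx1 hCM
  obtain ⟨N', hN', hCN', hnc, hτ, hE⟩ :=
    exists_coatom_of_prime hG hM hx hCM hp (hxp ▸ dvd_rfl)
  have e : N' = N := huniq N' hN' hCN'
  subst e
  exact ⟨N', ⟨hG, hM, hnil, hx, hp, hxp, hCM, hN, hCN, huniq, hτ, hE, hnc⟩⟩

/-- rank at most one implies rank at most two -/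
theorem prankLE_mono_one {H : Type*} [Group H] {r : ℕ} (hr : r.Prime) (h : PRankLE r 1 H) :
    PRankLE r 2 H := by
  intro A hA hAe
  exact (h A hA hAe).trans (Nat.pow_le_pow_right hr.pos (by norm_num))

/-- the `r`-rank of a group of order prime to `r` is zero -/
theorem prankLE_of_not_dvd {H : Type*} [Group H] [Finite H] {r : ℕ} (hr : r.Prime)
    (h : ¬ r ∣ Nat.card H) (k : ℕ) : PRankLE r k H := by
  intro A hA hAe
  have h1 : Nat.card A = 1 := by
    by_contra hne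
    obtain ⟨q, hq, hqd⟩ := Nat.exists_prime_and_dvd hne
    haveI : Fact q.Prime := ⟨hq⟩
    obtain ⟨a, ha⟩ := exists_prime_orderOf_dvd_card' q hqd
    have h2 : orderOf a ∣ r := orderOf_dvd_of_pow_eq_one (Subtype.ext (by simpa using hAe a a.2))
    rw [ha] at h2
    have h3 : q = r := (Nat.prime_dvd_prime_iff_eq hq hr).mp h2
    subst h3
    exact h (hqd.trans (Subgroup.card_subgroup_dvd_card A))
  rw [h1]
  exact Nat.one_le_pow _ _ hr.pos

namespace Cfg

variable {M N : Subgroup G} {x : G} {p : ℕ}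

theorem hx1 (c : Cfg M N x p) : x ≠ 1 := by
  intro h
  have := c.hxp
  rw [h, orderOf_one] at this
  exact c.hp.one_lt.ne this

/-- the primes of `M ∩ N` are not in `σ(N)` -/
theorem not_sigma_of_dvd (c : Cfg M N x p) {r : ℕ} (hr : r.Prime)
    (hd : r ∣ Nat.card ↥(M ⊓ N : Subgroup G)) : r ∉ sigma N := by
  intro hσ
  rw [card_complIn_sigmaCore c.hE] at hd
  exact (sigmaCore_hall c.hG c.hN).1.2.2 r hr hσ hd

/-- `C_{M_σ}(x) ≤ M ∩ N` -/
theorem cent_le (c : Cfg M N x p) :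
    sigmaCore M ⊓ Subgroup.centralizer ({x} : Set G) ≤ M ⊓ N :=
  inf_le_inf (sigmaCore_le M) c.hCN

/-- `C_{M_σ}(x)` is abelian -/
theorem cent_comm (c : Cfg M N x p) :
    ∀ a ∈ sigmaCore M ⊓ Subgroup.centralizer ({x} : Set G),
      ∀ b ∈ sigmaCore M ⊓ Subgroup.centralizer ({x} : Set G), a * b = b * a := by
  apply Cfsg.Agent.Lib.Helper2.BG11.comm_of_nilpotent_of_sigma' c.hG c.hN (c.cent_le.trans inf_le_right)
    (isNilpotent_of_le c.hnil inf_le_left)
  intro r hr hd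
  exact c.not_sigma_of_dvd hr (hd.trans (Subgroup.card_dvd_of_le c.cent_le))

/-- subgroups of `M ∩ N` have rank at most two -/
theorem prankLE_two (c : Cfg M N x p) {Y : Subgroup G} (hY : Y ≤ M ⊓ N) {r : ℕ} (hr : r.Prime)
    (hd : r ∣ Nat.card Y) : PRankLE r 2 ↥Y := by
  have hrN : r ∣ Nat.card N := hd.trans (Subgroup.card_dvd_of_le (hY.trans inf_le_right))
  have hσ := c.not_sigma_of_dvd hr (hd.trans (Subgroup.card_dvd_of_le hY))
  have h2 : PRankLE r 2 ↥N := by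
    rcases BG19.tau_cases c.hG c.hN hr hrN hσ with h | h | h
    · exact prankLE_mono_one hr h.2.2.2.2
    · exact h.2.2.1
    · exact prankLE_mono_one hr h.2.2.2
  haveI : Fact r.Prime := ⟨hr⟩
  exact Cfsg.Agent.Lib.Helper4.Rk2.prankLE_of_injective
    (Subgroup.inclusion (hY.trans inf_le_right)) (Subgroup.inclusion_injective _) h2

variable {P : Subgroup G}

/-- the Sylow `p`-subgroup of `M_σ` is normal in `M` -/
theorem P_normal (c : Cfg M N x p) (hP : SylIn p (sigmaCore M) P) :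
    M ≤ Subgroup.normalizer (P : Set G) :=
  haveI : Fact p.Prime := ⟨c.hp⟩
  Cfsg.Agent.Lib.Lead.BG11.le_normalizer_of_sylIn_nilpotent c.hnil hP (le_normalizer_sigmaCore M)

theorem x_pgroup (c : Cfg M N x p) : IsPGroup p ↥(Subgroup.zpowers x) := by
  haveI : Fact p.Prime := ⟨c.hp⟩
  apply IsPGroup.of_card (n := 1)
  rw [Nat.card_zpowers, c.hxp, pow_one]

/-- a `p`-subgroup of `M_σ` lies in `P` -/
theorem le_P (c : Cfg M N x p) (hP : SylIn p (sigmaCore M) P) {Q : Subgroup G}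
    (hQ : Q ≤ sigmaCore M) (hQp : IsPGroup p Q) : Q ≤ P :=
  haveI : Fact p.Prime := ⟨c.hp⟩
  SylIn.le_of_normal hP ((sigmaCore_le M).trans (c.P_normal hP)) hQ hQp

theorem x_mem_P (c : Cfg M N x p) (hP : SylIn p (sigmaCore M) P) : x ∈ P :=
  c.le_P hP ((Subgroup.zpowers_le).mpr c.hx) c.x_pgroup (Subgroup.mem_zpowers x)

/-- `M` does not normalize `⟨x⟩` -/
theorem not_le_normalizer_zpowers (c : Cfg M N x p) :
    ¬ M ≤ Subgroup.normalizer ((Subgroup.zpowers x : Subgroup G) : Set G) := by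
  intro h
  have hz1 : Subgroup.zpowers x ≠ ⊥ := fun h0 => c.hx1 (Subgroup.zpowers_eq_bot.mp h0)
  have hzM : Subgroup.zpowers x ≤ M := (Subgroup.zpowers_le).mpr (sigmaCore_le M c.hx)
  have e1 := normalizer_eq_of_isCoatom c.hG c.hM hz1 hzM h
  apply c.hCM
  rw [← e1, ← centralizer_zpowers' x]
  exact Subgroup.centralizer_le_normalizer _

/-- `P` is not cyclic -/
theorem P_not_cyclic (c : Cfg M N x p) (hP : SylIn p (sigmaCore M) P) : ¬ IsCyclic ↥P := by
  intro hc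
  apply c.not_le_normalizer_zpowers
  intro m hm
  rw [mem_normalizer_iff_cj]
  have hxP : Subgroup.zpowers x ≤ P := (Subgroup.zpowers_le).mpr (c.x_mem_P hP)
  apply eq_of_card_eq_of_le_cyclic hc _ hxP (card_cj _ _)
  have := cj_mono m hxP
  rwa [mem_normalizer_iff_cj.mp (c.P_normal hP hm)] at this

/-- the elements of `M_σ` of order prime to `p` centralize `x` -/
theorem mem_centralizer_of_coprime (c : Cfg M N x p) {a : G} (ha : a ∈ sigmaCore M)
    (hap : (orderOf a).Coprime p) : a ∈ Subgroup.centralizer ({x} : Set G) := by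
  haveI := c.hnil
  have h1 := Cfsg.Agent.Lib.Helper5.NilSym.commute_of_coprime ↥(sigmaCore M)
    ⟨a, ha⟩ ⟨x, c.hx⟩ (isOfFinOrder_of_finite _) (isOfFinOrder_of_finite _)
    (by rw [Subgroup.orderOf_mk, Subgroup.orderOf_mk, c.hxp]; exact hap)
  rw [Subgroup.mem_centralizer_iff]
  intro y hy
  rw [Set.mem_singleton_iff] at hy
  subst hy
  exact (congrArg Subtype.val h1.eq).symm

/-- `O_{p'}(M_σ) ≤ C_G(x)` -/
theorem C_le_centralizer (c : Cfg M N x p) :
    piCoreOf {q | q.Prime ∧ q ∉ ({p} : Set ℕ)} (sigmaCore M) ≤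
      Subgroup.centralizer ({x} : Set G) := by
  intro a ha
  apply c.mem_centralizer_of_coprime (piCoreOf_le _ _ ha)
  apply Nat.Coprime.symm
  rw [Nat.Prime.coprime_iff_not_dvd c.hp]
  intro hd
  have h1 := isPiNum_card_piCoreOf {q | q.Prime ∧ q ∉ ({p} : Set ℕ)} (sigmaCore M) p c.hp
    (hd.trans (Subgroup.orderOf_dvd_natCard _ ha))
  exact h1.2 rfl

end Cfg

end Cfsg.Agent.Lib.Helper5.BG157
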