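import Mathlib
import Cfsg.Agent.Lib.Helper5.BG157b
import Cfsg.Agent.S1354
import Cfsg.Agent.S1365

set_option autoImplicit false
set_option linter.style.haveILetI false
set_option linter.unusedSectionVars false
set_option maxHeartbeats 1600000

/-! B and G, Theorem 15.7, part 3: the case where the Sylow `p`-subgroup of `M_σ` is abelian. -/

namespace Cfsg.Agent.Lib.Helper5.BG157

open Cfsg Cfsg.Agent.Lib.Lead Cfsg.Agent.Lib.Lead.BG10 Cfsg.Agent.Lib.Helper7 Cfsg.Agent.Lib.Helper4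
open Cfsg.Agent.Lib.Helper4.BG76 Cfsg.Agent.Lib.Helper4.BG8 Cfsg.Agent.Lib.Helper4.BG9
open Cfsg.Agent.Lib.Helper4.BG7 Cfsg.Agent.Lib.Helper4.BG12 Cfsg.Agent.Lib.Helper4.BGConj
open Cfsg.Agent.Lib.Helper4.BG13 Cfsg.Agent.Lib.Lead.BG12q Cfsg.Agent.Lib.Lead.BG13q
open Cfsg.Agent.Lib.Helper4.BG18 Cfsg.Agent.Lib.Helper2.BG13x Cfsg.Agent.Lib.Helper5.BG139
open Cfsg.Agent.Lib.Helper4.BG14 Cfsg.Agent.Lib.Helper2.BG14z Cfsg.Agent.Lib.Helper5.BG143
open Cfsg.Agent.Lib.Helper5.BG144 Cfsg.Agent.Lib.Lead.BG14n Cfsg.Agent.Lib.Helper2.BG14y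
open Cfsg.Agent.Lib.Helper5.BG147 Cfsg.Agent.Lib.Helper5.BG151
open scoped commutatorElement

universe u

variable {G : Type u} [Group G] [Finite G]

namespace Cfg

variable {M N : Subgroup G} {x : G} {p : ℕ} {P : Subgroup G}

/-- `M_σ = P × O_{p'}(M_σ)` -/
theorem P_sup_C (c : Cfg M N x p) (hP : SylIn p (sigmaCore M) P) :
    P ⊔ piCoreOf {q | q.Prime ∧ q ∉ ({p} : Set ℕ)} (sigmaCore M) = sigmaCore M := by
  apply le_antisymm (sup_le hP.1 (piCoreOf_le _ _))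
  have h := nilpotent_sup_piCoreOf c.hnil ({p} : Set ℕ)
  refine h.ge.trans (sup_le_sup_right ?_ _)
  apply c.le_P hP (piCoreOf_le _ _)
  haveI : Fact p.Prime := ⟨c.hp⟩
  have h1 := isPiNum_card_piCoreOf ({p} : Set ℕ) (sigmaCore M)
  apply IsPGroup.of_card
    (n := (Nat.card ↥(piCoreOf ({p} : Set ℕ) (sigmaCore M))).primeFactorsList.length)
  apply Nat.eq_prime_pow_of_unique_prime_dvd Nat.card_pos.ne'
  intro d hd hdd
  exact h1 d hd hdd

/-- if `P` is abelian then `M_σ ≤ C_G(x)` -/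
theorem sigmaCore_le_centralizer (c : Cfg M N x p) (hP : SylIn p (sigmaCore M) P)
    (hPab : ∀ a ∈ P, ∀ b ∈ P, a * b = b * a) :
    sigmaCore M ≤ Subgroup.centralizer ({x} : Set G) := by
  rw [← c.P_sup_C hP]
  apply sup_le _ c.C_le_centralizer
  intro a ha
  rw [Subgroup.mem_centralizer_iff]
  intro y hy
  rw [Set.mem_singleton_iff] at hy
  subst hy
  exact hPab _ (c.x_mem_P hP) _ ha

/-- **the abelian case**: `M_σ` is abelian of rank exactly two -/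
theorem abelian_case (c : Cfg M N x p) (hP : SylIn p (sigmaCore M) P)
    (hPab : ∀ a ∈ P, ∀ b ∈ P, a * b = b * a) :
    (∀ a ∈ sigmaCore M, ∀ b ∈ sigmaCore M, a * b = b * a) ∧ RankLE 2 ↥(sigmaCore M) ∧
      ¬ RankLE 1 ↥(sigmaCore M) := by
  haveI : Fact p.Prime := ⟨c.hp⟩
  have hle := c.sigmaCore_le_centralizer hP hPab
  refine ⟨?_, ?_, ?_⟩
  · intro a ha b hb
    exact c.cent_comm a ⟨ha, hle ha⟩ b ⟨hb, hle hb⟩
  · intro r hr
    by_cases hd : r ∣ Nat.card ↥(sigmaCore M)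
    · exact c.prankLE_two (le_inf (sigmaCore_le M) (hle.trans c.hCN)) hr hd
    · exact prankLE_of_not_dvd hr hd 2
  · intro h1
    exact c.P_not_cyclic hP (Cfsg.Agent.Lib.Helper2.BG12.isCyclic_of_sylIn_rank_one c.hG hP (h1 p c.hp))

end Cfg

/-- if `M_σ` is abelian and `U = 1` then `K = 1` -/
theorem K_eq_bot_of_abelian (hG : IsMinSimpleOddOrder G) {M K U : Subgroup G} (hM : IsCoatom M)
    (hKU : IsSigmaDecomposition M K U) (hU : U = ⊥)
    (hab : ∀ a ∈ sigmaCore M, ∀ b ∈ sigmaCore M, a * b = b * a) : K = ⊥ := by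
  by_contra hK1
  obtain ⟨h1, h2⟩ := Cfsg.Agent.S1365.result hG M hM K U hKU hK1
  have h3 := (Cfsg.Agent.S1354.result hG M hM K hKU.cyclic hKU.hall).1
  apply h3
  rw [eq_bot_iff]
  refine h2.trans ?_
  rw [h1, hU, bot_sup_eq, Subgroup.commutator_le]
  intro a ha b hb
  rw [Subgroup.mem_bot, commutatorElement_def, hab a ha b hb]
  group

end Cfsg.Agent.Lib.Helper5.BG157
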