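import Mathlib
import Cfsg.Agent.Lib.Helper5.BG157c
import Cfsg.Agent.S1419

set_option autoImplicit false
set_option linter.style.haveILetI false
set_option linter.unusedSectionVars false
set_option maxHeartbeats 1600000

/-! B and G, Theorem 15.7, part 4: the case where the Sylow `p`-subgroup of `M_σ` is not abelian. -/

namespace Cfsg.Agent.Lib.Helper5.BG157

open Cfsg Cfsg.Agent.Lib.Lead Cfsg.Agent.Lib.Lead.BG10 Cfsg.Agent.Lib.Helper7 Cfsg.Agent.Lib.Helper4
open Cfsg.Agent.Lib.Helper4.BG76 Cfsg.Agent.Lib.Helper4.BG8 Cfsg.Agent.Lib.Helper4.BG9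
open Cfsg.Agent.Lib.Helper4.BG7 Cfsg.Agent.Lib.Helper4.BG12 Cfsg.Agent.Lib.Helper4.BGConj
open Cfsg.Agent.Lib.Helper4.BG13 Cfsg.Agent.Lib.Lead.BG12q Cfsg.Agent.Lib.Lead.BG13q
open Cfsg.Agent.Lib.Helper4.BG18 Cfsg.Agent.Lib.Helper2.BG13x Cfsg.Agent.Lib.Helper5.BG139
open Cfsg.Agent.Lib.Helper4.BG14 Cfsg.Agent.Lib.Helper2.BG14z Cfsg.Agent.Lib.Helper5.BG143
open Cfsg.Agent.Lib.Helper5.BG144 Cfsg.Agent.Lib.Lead.BG14n Cfsg.Agent.Lib.Helper2.BG14y
open Cfsg.Agent.Lib.Helper5.BG147 Cfsg.Agent.Lib.Helper5.BG151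
open scoped commutatorElement

universe u

variable {G : Type u} [Group G] [Finite G]

/-- if one Sylow `p`-subgroup of `G` is not abelian, none is -/
theorem not_comm_sylow {p : ℕ} [Fact p.Prime] {P : Subgroup G} (hP : IsPGroup p P)
    (hidx : ¬ p ∣ P.index) (hna : ¬ ∀ a ∈ P, ∀ b ∈ P, a * b = b * a) :
    ∀ S : Sylow p G, ¬ IsMulCommutative ↥(S : Subgroup G) := by
  intro S hS
  apply hna
  obtain ⟨g, hg⟩ := MulAction.exists_smul_eq G S (hP.toSylow hidx)
  intro a ha b hb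
  have ha' : a ∈ ((g • S : Sylow p G) : Subgroup G) := by rw [hg]; exact ha
  have hb' : b ∈ ((g • S : Sylow p G) : Subgroup G) := by rw [hg]; exact hb
  rw [Sylow.coe_subgroup_smul, Subgroup.mem_pointwise_smul_iff_inv_smul_mem] at ha' hb'
  have h1 := hS.is_comm.comm ⟨_, ha'⟩ ⟨_, hb'⟩
  have h2 := congrArg Subtype.val h1
  simp only [Subgroup.coe_mul, MulAut.smul_def, MulAut.conj_inv_apply] at h2
  have h3 : a * b = g * ((g⁻¹ * a * g) * (g⁻¹ * b * g)) * g⁻¹ := by group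
  rw [h3, h2]
  group


/-- a non-trivial `p`-group has a central element of order `p` -/
theorem exists_central_of_order {p : ℕ} [hp : Fact p.Prime] {P : Subgroup G} (hP : IsPGroup p P)
    (hP1 : P ≠ ⊥) : ∃ z ∈ P, orderOf z = p ∧ ∀ a ∈ P, a * z = z * a := by
  haveI : Nontrivial ↥P := (Subgroup.nontrivial_iff_ne_bot P).mpr hP1
  have h1 : (⊥ : Subgroup ↥P) < Subgroup.center ↥P := hP.bot_lt_center
  have hZp : IsPGroup p ↥(Subgroup.center ↥P) := hP.to_subgroup _
  have hd : p ∣ Nat.card ↥(Subgroup.center ↥P) := by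
    obtain ⟨k, hk⟩ := IsPGroup.iff_card.mp hZp
    rw [hk]
    apply dvd_pow_self
    rintro rfl
    rw [pow_zero] at hk
    have : Subgroup.center ↥P = ⊥ := (Subgroup.card_eq_one).mp hk
    rw [this] at h1
    exact lt_irrefl _ h1
  obtain ⟨⟨z, hz⟩, hzo⟩ := exists_prime_orderOf_dvd_card' p hd
  rw [Subgroup.orderOf_mk] at hzo
  refine ⟨(z : G), z.2, ?_, ?_⟩
  · rw [Subgroup.orderOf_coe]; exact hzo
  · intro a ha
    have := (Subgroup.mem_center_iff.mp hz) ⟨a, ha⟩
    exact congrArg Subtype.val this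

namespace Cfg

variable {M N : Subgroup G} {x : G} {p : ℕ} {P : Subgroup G}

theorem p_mem_sigma (c : Cfg M N x p) : p ∈ sigma M :=
  BG14n.mem_sigma_of_dvd_orderOf c.hG c.hM c.hx c.hp (c.hxp ▸ dvd_rfl)

/-- `P` is a Sylow `p`-subgroup of `G` -/
theorem P_index (c : Cfg M N x p) (hP : SylIn p (sigmaCore M) P) : ¬ p ∣ P.index := by
  rw [← Subgroup.relIndex_mul_index hP.1]
  intro h
  rcases (Nat.Prime.dvd_mul c.hp).mp h with h | h
  · exact hP.2.2 h
  · exact (sigmaCore_hall c.hG c.hM).2.1.2 p c.hp c.p_mem_sigma h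

/-- if `P` is not abelian then `x` is not central in `P` -/
theorem x_not_central (c : Cfg M N x p) (hP : SylIn p (sigmaCore M) P)
    (hna : ¬ ∀ a ∈ P, ∀ b ∈ P, a * b = b * a) : ¬ ∀ a ∈ P, a * x = x * a := by
  intro h
  apply hna
  have hle : P ≤ sigmaCore M ⊓ Subgroup.centralizer ({x} : Set G) := by
    apply le_inf hP.1
    intro a ha
    rw [Subgroup.mem_centralizer_iff]
    intro y hy
    rw [Set.mem_singleton_iff] at hy
    subst hy
    exact (h a ha).symm
  intro a ha b hb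
  exact c.cent_comm a (hle ha) b (hle hb)

/-- the elementary abelian subgroup `A = ⟨x⟩ × ⟨z⟩`, `z ∈ Z(P)` -/
theorem exists_A (c : Cfg M N x p) (hP : SylIn p (sigmaCore M) P)
    (hna : ¬ ∀ a ∈ P, ∀ b ∈ P, a * b = b * a) :
    ∃ z ∈ P, orderOf z = p ∧ (∀ a ∈ P, a * z = z * a) ∧ z ∉ Subgroup.zpowers x ∧
      IsElementaryAbelian p (Subgroup.zpowers x ⊔ Subgroup.zpowers z) ∧
      Nat.card ↥(Subgroup.zpowers x ⊔ Subgroup.zpowers z : Subgroup G) = p ^ 2 ∧
      Subgroup.zpowers x ⊔ Subgroup.zpowers z ≤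
        sigmaCore M ⊓ Subgroup.centralizer ({x} : Set G) := by
  haveI : Fact p.Prime := ⟨c.hp⟩
  have hxP := c.x_mem_P hP
  have hP1 : P ≠ ⊥ := by
    rintro rfl
    exact c.hx1 (Subgroup.mem_bot.mp hxP)
  obtain ⟨z, hzP, hzo, hzc⟩ := exists_central_of_order hP.2.1 hP1
  have hzx : z ∉ Subgroup.zpowers x := by
    intro hz
    apply c.x_not_central hP hna
    have h1 : Subgroup.zpowers z = Subgroup.zpowers x := by
      apply Subgroup.eq_of_le_of_card_ge ((Subgroup.zpowers_le).mpr hz)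
      rw [Nat.card_zpowers, Nat.card_zpowers, hzo, c.hxp]
    have h2 : x ∈ Subgroup.zpowers z := h1 ▸ Subgroup.mem_zpowers x
    obtain ⟨k, rfl⟩ := h2
    intro a ha
    have h3 : Commute a z := hzc a ha
    exact (h3.zpow_right k).eq
  have hz1 : z ≠ 1 := by
    intro h
    rw [h, orderOf_one] at hzo
    exact c.hp.one_lt.ne hzo
  have hpair := pair_elementary (p := p) (hzc x hxP) c.hx1
    (by rw [← c.hxp]; exact pow_orderOf_eq_one x) (by rw [← hzo]; exact pow_orderOf_eq_one z) hzx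
  refine ⟨z, hzP, hzo, hzc, hzx, hpair.1, hpair.2, ?_⟩
  apply sup_le
  · rw [Subgroup.zpowers_le]
    refine ⟨c.hx, ?_⟩
    show x ∈ Subgroup.centralizer ({x} : Set G)
    rw [Subgroup.mem_centralizer_iff]
    intro y hy
    rw [Set.mem_singleton_iff] at hy
    subst hy
    rfl
  · rw [Subgroup.zpowers_le]
    refine ⟨hP.1 hzP, ?_⟩
    show z ∈ Subgroup.centralizer ({x} : Set G)
    rw [Subgroup.mem_centralizer_iff]
    intro y hy
    rw [Set.mem_singleton_iff] at hy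
    subst hy
    exact hzc y hxP

/-- **the non-abelian case**: `τ₂(N) = {p}`, `x` centralizes `N_σ` and `F(N) = N_σ × ⟨x⟩` -/
theorem nonabelian_facts (c : Cfg M N x p) (hP : SylIn p (sigmaCore M) P)
    (hna : ¬ ∀ a ∈ P, ∀ b ∈ P, a * b = b * a) :
    tau2 N = {p} ∧ sigmaCore N ≤ Subgroup.centralizer ({x} : Set G) ∧
      fittingOf N = sigmaCore N ⊔ Subgroup.zpowers x := by
  haveI : Fact p.Prime := ⟨c.hp⟩
  obtain ⟨z, hzP, hzo, hzc, hzx, hAe, hAc, hAle⟩ := c.exists_A hP hna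
  have hS := not_comm_sylow hP.2.1 (c.P_index hP) hna
  obtain ⟨h1, ⟨h2, h2'⟩, h3⟩ := Cfsg.Agent.S1419.result c.hG N c.hN (M ⊓ N) c.hE p c.hτ hS
    (Subgroup.zpowers x ⊔ Subgroup.zpowers z) ⟨hAle.trans c.cent_le, hAe, hAc⟩
  have hxE : Subgroup.zpowers x ≤ M ⊓ N :=
    (le_sup_left.trans hAle).trans c.cent_le
  have hxc : Nat.card ↥(Subgroup.zpowers x) = p := by rw [Nat.card_zpowers, c.hxp]
  have heq : Subgroup.zpowers x = (Subgroup.zpowers x ⊔ Subgroup.zpowers z) ⊓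
      Subgroup.centralizer (sigmaCore N : Set G) := by
    by_contra hne
    apply (h3 _ hxE hxc hne).2
    rw [centralizer_zpowers']
    exact c.hCN
  refine ⟨h1, ?_, ?_⟩
  · have hx' : x ∈ Subgroup.centralizer (sigmaCore N : Set G) := by
      have : x ∈ Subgroup.zpowers x := Subgroup.mem_zpowers x
      rw [heq] at this
      exact this.2
    intro a ha
    rw [Subgroup.mem_centralizer_iff]
    intro y hy
    rw [Set.mem_singleton_iff] at hy
    subst hy
    exact (Subgroup.mem_centralizer_iff.mp hx' a ha).symm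
  · rw [h2', ← heq]

/-- in the non-abelian case, `O_{p'}(M_σ)` is cyclic -/
theorem C_cyclic (c : Cfg M N x p) (hP : SylIn p (sigmaCore M) P)
    (hna : ¬ ∀ a ∈ P, ∀ b ∈ P, a * b = b * a) :
    IsCyclic ↥(piCoreOf {q | q.Prime ∧ q ∉ ({p} : Set ℕ)} (sigmaCore M)) := by
  set C := piCoreOf {q | q.Prime ∧ q ∉ ({p} : Set ℕ)} (sigmaCore M) with hC
  obtain ⟨hτ, -, -⟩ := c.nonabelian_facts hP hna
  have hCle : C ≤ M ⊓ N := (le_inf (piCoreOf_le _ _) c.C_le_centralizer).trans c.cent_le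
  have hr1 : RankLE 1 ↥C := by
    intro s hs
    by_cases hd : s ∣ Nat.card ↥C
    · have hsp : s ≠ p := by
        intro hsp
        exact (isPiNum_card_piCoreOf {q | q.Prime ∧ q ∉ ({p} : Set ℕ)} (sigmaCore M) s hs hd).2 hsp
      have hsN : s ∣ Nat.card N := hd.trans (Subgroup.card_dvd_of_le (hCle.trans inf_le_right))
      have hσ := c.not_sigma_of_dvd hs (hd.trans (Subgroup.card_dvd_of_le hCle))
      have h1 : PRankLE s 1 ↥N := by
        rcases BG19.tau_cases c.hG c.hN hs hsN hσ with h | h | h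
        · exact h.2.2.2.2
        · rw [hτ] at h
          exact absurd h hsp
        · exact h.2.2.2
      haveI : Fact s.Prime := ⟨hs⟩
      exact Cfsg.Agent.Lib.Helper4.Rk2.prankLE_of_injective
        (Subgroup.inclusion (hCle.trans inf_le_right)) (Subgroup.inclusion_injective _) h1
    · exact prankLE_of_not_dvd hs hd 1
  haveI : IsZGroup ↥C := isZGroup_of_rankLE_one (odd_card_sub c.hG C) hr1
  haveI : Group.IsNilpotent ↥C := isNilpotent_of_le c.hnil (piCoreOf_le _ _)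
  infer_instance

end Cfg

end Cfsg.Agent.Lib.Helper5.BG157
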