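import Mathlib

set_option autoImplicit false
set_option linter.style.haveILetI false
set_option linter.unusedSectionVars false
set_option maxHeartbeats 1600000

/-! B and G, Theorem 15.7, part 5: two general counting lemmas. -/

namespace Cfsg.Agent.Lib.Helper5.BG157

universe u

/-- a free action of a finite group on a finite set: the order of the group divides the number of
points -/
theorem card_dvd_of_free {A X : Type*} [Group A] [Finite A] [MulAction A X] [Finite X]
    (h : ∀ x : X, MulAction.stabilizer A x = ⊥) : Nat.card A ∣ Nat.card X := by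
  classical
  haveI : Fintype A := Fintype.ofFinite A
  haveI : Fintype X := Fintype.ofFinite X
  haveI : Fintype (MulAction.orbitRel.Quotient A X) := Fintype.ofFinite _
  have h1 := MulAction.card_eq_sum_card_group_div_card_stabilizer A X
  have h2 : ∀ ω : MulAction.orbitRel.Quotient A X,
      Fintype.card A / Fintype.card (MulAction.stabilizer A ω.out) = Fintype.card A := by
    intro ω
    have : Fintype.card (MulAction.stabilizer A ω.out) = 1 := by
      rw [← Nat.card_eq_fintype_card, h, Subgroup.card_bot]
    rw [this, Nat.div_one]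
  rw [Nat.card_eq_fintype_card, Nat.card_eq_fintype_card, h1]
  simp_rw [h2]
  rw [Finset.sum_const, smul_eq_mul]
  exact Dvd.intro_left _ rfl

variable {G : Type u} [Group G]

/-- an element normalizing a subgroup of prime order `p`: its `(p-1)`-th power centralizes it -/
theorem pow_pred_mem_centralizer {p : ℕ} [hp : Fact p.Prime] {T : Subgroup G}
    (hT : Nat.card T = p) {a : G} (ha : a ∈ Subgroup.normalizer (T : Set G)) :
    a ^ (p - 1) ∈ Subgroup.centralizer (T : Set G) := by
  haveI : IsCyclic T := isCyclic_of_prime_card hT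
  haveI : Finite T := Nat.finite_of_card_ne_zero (by rw [hT]; exact hp.out.ne_zero)
  have hcard : Nat.card (MulAut T) = p - 1 := by
    rw [IsCyclic.card_mulAut, hT, Nat.totient_prime hp.out]
  haveI : Finite (MulAut T) := Nat.finite_of_card_ne_zero (by
    rw [hcard]; have := hp.out.two_le; omega)
  have h1 : (T.normalizerMonoidHom ⟨a, ha⟩ : MulAut T) ^ (p - 1) = 1 := by
    rw [← hcard]; exact pow_card_eq_one'
  rw [← map_pow] at h1
  rw [Subgroup.mem_centralizer_iff]
  intro z hz
  have h2 := congrArg (fun φ : MulAut T => ((φ ⟨z, hz⟩ : T) : G)) h1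
  simp only [MulAut.one_apply] at h2
  have h3 : ((T.normalizerMonoidHom (⟨a, ha⟩ ^ (p - 1)) ⟨z, hz⟩ : T) : G)
      = a ^ (p - 1) * z * (a ^ (p - 1))⁻¹ := rfl
  rw [h3] at h2
  exact (mul_inv_eq_iff_eq_mul.mp h2).symm

end Cfsg.Agent.Lib.Helper5.BG157
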