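import Mathlib
import Cfsg.Agent.Lib.Helper5.BG157e
import Cfsg.Agent.Lib.Helper7.Conj
import Cfsg.Agent.Lib.Lead.Coprime
import Cfsg.Agent.Lib.Lead.CoprimeTools
import Cfsg.Agent.Lib.Lead.CoprimeAction2
import Cfsg.Agent.Lib.Lead.Special
import Cfsg.Agent.Lib.Helper9.P3Class1
import Cfsg.Agent.Lib.Helper4.ZP19

set_option autoImplicit false
set_option linter.style.haveILetI false
set_option linter.unusedSectionVars false
set_option maxHeartbeats 1600000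

/-! B and G, Theorem 15.7, part 6: a cyclic group of odd order acting on a nonabelian group of order
`p ^ 3`, centralizing the centre and acting freely on the rest: its order divides `p - 1` or `p + 1`.
First part: basic facts. -/

namespace Cfsg.Agent.Lib.Helper5.BG157

open Cfsg.Agent.Lib.Helper7 Cfsg.Agent.Lib.Lead
open scoped commutatorElement

universe u

variable {G : Type u} [Group G] [Finite G]

/-- the hypotheses -/
structure Cube (p : ℕ) (P Z K : Subgroup G) : Prop where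
  cardP : Nat.card P = p ^ 3
  hna : ¬ ∀ a ∈ P, ∀ b ∈ P, a * b = b * a
  hZP : Z ≤ P
  hZ1 : Z ≠ ⊥
  hZc : Z ≤ ⁅P, P⁆
  hKn : K ≤ Subgroup.normalizer (P : Set G)
  hKc : IsCyclic K
  hKodd : Odd (Nat.card K)
  hcop : (Nat.card K).Coprime p
  hcent : ∀ y ∈ K, y ≠ 1 → P ⊓ Subgroup.centralizer ({y} : Set G) = Z

namespace Cube

variable {p : ℕ} [hp : Fact p.Prime] {P Z K : Subgroup G}

theorem hna' (c : Cube p P Z K) : ¬ ∀ a b : ↥P, a * b = b * a := by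
  intro h
  apply c.hna
  intro a ha b hb
  exact congrArg Subtype.val (h ⟨a, ha⟩ ⟨b, hb⟩)

/-- `Z` is the centre of `P` -/
theorem Z_eq (c : Cube p P Z K) : Z = (Subgroup.center ↥P).map P.subtype := by
  obtain ⟨h1, h2, -⟩ := Cfsg.Agent.H9P3.nonab_center p c.cardP c.hna'
  have hle : ⁅P, P⁆ ≤ (Subgroup.center ↥P).map P.subtype := by
    rw [Subgroup.commutator_le]
    intro a ha b hb
    exact ⟨⁅(⟨a, ha⟩ : ↥P), ⟨b, hb⟩⁆, h2 _ _, rfl⟩
  have hcard : Nat.card ↥((Subgroup.center ↥P).map P.subtype) = p := by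
    rw [Subgroup.card_map_of_injective P.subtype_injective, h1]
  apply Subgroup.eq_of_le_of_card_ge (c.hZc.trans hle)
  rw [hcard]
  have h3 : Nat.card Z ∣ p := hcard ▸ Subgroup.card_dvd_of_le (c.hZc.trans hle)
  rcases (Nat.dvd_prime hp.out).mp h3 with h | h
  · exact absurd (Subgroup.card_eq_one.mp h) c.hZ1
  · exact h.ge

theorem cardZ (c : Cube p P Z K) : Nat.card Z = p := by
  obtain ⟨h1, -, -⟩ := Cfsg.Agent.H9P3.nonab_center p c.cardP c.hna'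
  rw [c.Z_eq, Subgroup.card_map_of_injective P.subtype_injective, h1]

theorem central (c : Cube p P Z K) {a z : G} (ha : a ∈ P) (hz : z ∈ Z) : a * z = z * a := by
  rw [c.Z_eq] at hz
  obtain ⟨z', hz', rfl⟩ := hz
  have := Subgroup.mem_center_iff.mp hz' ⟨a, ha⟩
  exact congrArg Subtype.val this

theorem mem_Z_of_central (c : Cube p P Z K) {a : G} (ha : a ∈ P) (h : ∀ b ∈ P, b * a = a * b) :
    a ∈ Z := by
  rw [c.Z_eq]
  refine ⟨⟨a, ha⟩, ?_, rfl⟩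
  rw [SetLike.mem_coe, Subgroup.mem_center_iff]
  intro b
  exact Subtype.ext (h b b.2)

theorem comm_mem (c : Cube p P Z K) {a b : G} (ha : a ∈ P) (hb : b ∈ P) : ⁅a, b⁆ ∈ Z := by
  obtain ⟨-, h2, -⟩ := Cfsg.Agent.H9P3.nonab_center p c.cardP c.hna'
  rw [c.Z_eq]
  exact ⟨⁅(⟨a, ha⟩ : ↥P), ⟨b, hb⟩⁆, h2 _ _, rfl⟩

/-- `K` centralizes `Z` -/
theorem K_central (c : Cube p P Z K) {y z : G} (hy : y ∈ K) (hz : z ∈ Z) : y * z = z * y := by
  by_cases hy1 : y = 1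
  · rw [hy1, one_mul, mul_one]
  · have h1 : z ∈ P ⊓ Subgroup.centralizer ({y} : Set G) := by rw [c.hcent y hy hy1]; exact hz
    exact Subgroup.mem_centralizer_iff.mp h1.2 y rfl

theorem pgroup (c : Cube p P Z K) : IsPGroup p ↥P := IsPGroup.of_card c.cardP

/-- the centralizer in `P` of a noncentral element has order `p ^ 2` -/
theorem card_cent (c : Cube p P Z K) {a : G} (ha : a ∈ P) (haZ : a ∉ Z) :
    Nat.card ↥(P ⊓ Subgroup.centralizer ({a} : Set G)) = p ^ 2 := by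
  set L := P ⊓ Subgroup.centralizer ({a} : Set G) with hL
  have hLP : L ≤ P := inf_le_left
  have hZL : Z ≤ L := by
    intro z hz
    refine ⟨c.hZP hz, ?_⟩
    show z ∈ Subgroup.centralizer ({a} : Set G)
    rw [Subgroup.mem_centralizer_iff]
    intro b hb
    rw [Set.mem_singleton_iff] at hb
    subst hb
    exact c.central ha hz
  have haL : a ∈ L := by
    refine ⟨ha, ?_⟩
    show a ∈ Subgroup.centralizer ({a} : Set G)
    rw [Subgroup.mem_centralizer_iff]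
    intro b hb
    rw [Set.mem_singleton_iff] at hb
    subst hb
    rfl
  have hd : Nat.card L ∣ p ^ 3 := c.cardP ▸ Subgroup.card_dvd_of_le hLP
  obtain ⟨k, hk, hk'⟩ := (Nat.dvd_prime_pow hp.out).mp hd
  have hk1 : 1 < k := by
    by_contra hcon
    have hle : Nat.card L ≤ Nat.card Z := by
      rw [hk', c.cardZ]
      calc p ^ k ≤ p ^ 1 := Nat.pow_le_pow_right hp.out.pos (by omega)
        _ = p := pow_one p
    have : Z = L := Subgroup.eq_of_le_of_card_ge hZL hle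
    exact haZ (this ▸ haL)
  have hk3 : k ≠ 3 := by
    intro h3
    have hLe : L = P := by
      apply Subgroup.eq_of_le_of_card_ge hLP
      rw [hk', h3, c.cardP]
    apply haZ
    apply c.mem_Z_of_central ha
    intro b hb
    have hb' : b ∈ L := hLe ▸ hb
    exact Subgroup.mem_centralizer_iff.mp hb'.2 a rfl |>.symm
  have : k = 2 := by omega
  rw [hk', this]

/-- subgroups of order `p ^ 2` are abelian -/
theorem comm_of_card (c : Cube p P Z K) {L : Subgroup G} (hL : Nat.card L = p ^ 2) {a b : G}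
    (ha : a ∈ L) (hb : b ∈ L) : a * b = b * a := by
  have h := IsPGroup.isMulCommutative_of_card_eq_prime_sq hL
  exact congrArg Subtype.val (h.is_comm.comm (⟨a, ha⟩ : ↥L) ⟨b, hb⟩)

/-- a subgroup of order `p ^ 2` of `P` is the centralizer of each of its noncentral elements -/
theorem eq_cent (c : Cube p P Z K) {L : Subgroup G} (hLP : L ≤ P) (hL : Nat.card L = p ^ 2)
    {a : G} (ha : a ∈ L) (haZ : a ∉ Z) : L = P ⊓ Subgroup.centralizer ({a} : Set G) := by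
  apply Subgroup.eq_of_le_of_card_ge
  · intro b hb
    refine ⟨hLP hb, ?_⟩
    show b ∈ Subgroup.centralizer ({a} : Set G)
    rw [Subgroup.mem_centralizer_iff]
    intro x hx
    rw [Set.mem_singleton_iff] at hx
    subst hx
    exact c.comm_of_card hL ha hb
  · rw [c.card_cent (hLP ha) haZ, hL]

/-- the eigen-subgroup `[L, Y]` of a `Y`-invariant subgroup `L` of order `p ^ 2` containing `Z` -/
theorem eigen (c : Cube p P Z K) {Y L : Subgroup G} (hYK : Y ≤ K) (hY1 : Y ≠ ⊥)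
    (hZL : Z ≤ L) (hLP : L ≤ P) (hL : Nat.card L = p ^ 2)
    (hYL : Y ≤ Subgroup.normalizer (L : Set G)) :
    ⁅L, Y⁆ ≤ L ∧ ⁅L, Y⁆ ⊓ Z = ⊥ ∧ Nat.card ↥⁅L, Y⁆ = p ∧
      Y ≤ Subgroup.normalizer ((⁅L, Y⁆ : Subgroup G) : Set G) := by
  haveI : IsMulCommutative ↥L := IsPGroup.isMulCommutative_of_card_eq_prime_sq hL
  have hcop : (Nat.card Y).Coprime (Nat.card L) := by
    rw [hL]
    exact Nat.Coprime.pow_right 2
      (Nat.Coprime.coprime_dvd_left (Subgroup.card_dvd_of_le hYK) c.hcop)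
  obtain ⟨hd1, hd2⟩ := coprime_abelian_decomp Y L hYL hcop
  have hCZ : L ⊓ Subgroup.centralizer (Y : Set G) = Z := by
    apply le_antisymm
    · obtain ⟨y, hy, hy1⟩ : ∃ y ∈ Y, y ≠ 1 := by
        by_contra hcon
        push Not at hcon
        exact hY1 ((Subgroup.eq_bot_iff_forall _).mpr hcon)
      intro x hx
      rw [← c.hcent y (hYK hy) hy1]
      refine ⟨hLP hx.1, ?_⟩
      show x ∈ Subgroup.centralizer ({y} : Set G)
      rw [Subgroup.mem_centralizer_iff]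
      intro b hb
      rw [Set.mem_singleton_iff] at hb
      subst hb
      exact Subgroup.mem_centralizer_iff.mp hx.2 b hy
    · intro z hz
      refine ⟨hZL hz, ?_⟩
      show z ∈ Subgroup.centralizer (Y : Set G)
      rw [Subgroup.mem_centralizer_iff]
      intro y hy
      exact c.K_central (hYK hy) hz
  rw [hCZ] at hd1 hd2
  have hTL : ⁅L, Y⁆ ≤ L := commutator_le_left_of_le_normalizer L Y hYL
  have hZn : Z ≤ Subgroup.normalizer ((⁅L, Y⁆ : Subgroup G) : Set G) := by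
    intro z hz
    rw [Subgroup.mem_normalizer_iff]
    intro x
    have key : ∀ t ∈ L, z * t * z⁻¹ = t := by
      intro t ht
      have h1 : z * t = t * z := c.comm_of_card hL (hZL hz) ht
      rw [h1, mul_assoc, mul_inv_cancel, mul_one]
    constructor
    · intro hx
      rw [key x (hTL hx)]
      exact hx
    · intro hx
      have h2 : x ∈ L := by
        have h3 := hTL hx
        have h4 : x = z⁻¹ * (z * x * z⁻¹) * z := by group
        rw [h4]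
        exact L.mul_mem (L.mul_mem (L.inv_mem (hZL hz)) h3) (hZL hz)
      rw [key x h2] at hx
      exact hx
  have hcard := card_sup_of_disjoint Z ⁅L, Y⁆ hZn hd1
  rw [hd2, hL, c.cardZ] at hcard
  refine ⟨hTL, ?_, ?_, le_normalizer_commutator_right L Y hYL⟩
  · rw [inf_comm]; exact hd1
  · have hp0 : 0 < p := hp.out.pos
    have : p * p = p * Nat.card ↥⁅L, Y⁆ := by rw [← hcard]; ring
    exact (Nat.eq_of_mul_eq_mul_left hp0 this).symm

end Cube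

/-- the subgroups of order `p ^ 2` of `P` containing `Z` -/
def Lines (p : ℕ) (P Z : Subgroup G) : Set (Subgroup G) :=
  {L | Z ≤ L ∧ L ≤ P ∧ Nat.card L = p ^ 2}

/-- in a group where the commutator of `a` and `b` is central, `⁅a ^ m, b ^ n⁆ = ⁅a, b⁆ ^ (m * n)` -/
theorem comm_pow_pow {a b : G} (h1 : Commute ⁅a, b⁆ a) (h2 : Commute ⁅a, b⁆ b) (m n : ℕ) :
    ⁅a ^ m, b ^ n⁆ = ⁅a, b⁆ ^ (m * n) := by
  have e1 : ⁅a ^ m, b⁆ = ⁅a, b⁆ ^ m := commutatorElement_pow_left a b h1 m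
  have h3 : Commute ⁅b, a ^ m⁆ b := by
    rw [← commutatorElement_inv, e1]
    exact (h2.pow_left m).inv_left
  have e2 : ⁅b ^ n, a ^ m⁆ = ⁅b, a ^ m⁆ ^ n := commutatorElement_pow_left b (a ^ m) h3 n
  rw [← commutatorElement_inv (b ^ n) (a ^ m), e2, ← commutatorElement_inv (a ^ m) b, e1, inv_pow,
    inv_inv, ← pow_mul]

namespace Cube

variable {p : ℕ} [hp : Fact p.Prime] {P Z K : Subgroup G}

/-- an eigen-element of `y` in a `y`-invariant line -/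
theorem exists_eigen (c : Cube p P Z K) {y : G} (hy : y ∈ K) (hy1 : y ≠ 1) {L : Subgroup G}
    (hL : L ∈ Lines p P Z) (hyL : y ∈ Subgroup.normalizer (L : Set G)) :
    ∃ t ∈ L, t ∉ Z ∧ orderOf t = p ∧ ∃ l : ℕ, y * t * y⁻¹ = t ^ l := by
  have hYK : Subgroup.zpowers y ≤ K := Subgroup.zpowers_le.mpr hy
  have hY1 : Subgroup.zpowers y ≠ ⊥ := by
    intro h
    exact hy1 (Subgroup.zpowers_eq_bot.mp h)
  have hYL : Subgroup.zpowers y ≤ Subgroup.normalizer (L : Set G) := Subgroup.zpowers_le.mpr hyL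
  obtain ⟨hTL, hTZ, hTc, hYT⟩ := c.eigen hYK hY1 hL.1 hL.2.1 hL.2.2 hYL
  set T := ⁅L, Subgroup.zpowers y⁆ with hT
  have hT1 : T ≠ ⊥ := by
    intro h
    rw [h, Subgroup.card_bot] at hTc
    exact hp.out.one_lt.ne hTc
  obtain ⟨t, ht, ht1⟩ : ∃ t ∈ T, t ≠ 1 := by
    by_contra hcon
    push Not at hcon
    exact hT1 ((Subgroup.eq_bot_iff_forall _).mpr hcon)
  have hgen : Subgroup.zpowers t = T :=
    Cfsg.Agent.Lib.Helper4.ZP.zpowers_eq_of_prime_card T (hTc ▸ hp.out) t ht ht1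
  have hto : orderOf t = p := by rw [← Nat.card_zpowers, hgen, hTc]
  refine ⟨t, hTL ht, ?_, hto, ?_⟩
  · intro htZ
    have : t ∈ T ⊓ Z := ⟨ht, htZ⟩
    rw [hTZ, Subgroup.mem_bot] at this
    exact ht1 this
  · have h1 : y * t * y⁻¹ ∈ T :=
      (Subgroup.mem_normalizer_iff.mp (hYT (Subgroup.mem_zpowers y)) t).mp ht
    rw [← hgen, ← mem_powers_iff_mem_zpowers] at h1
    obtain ⟨l, hl⟩ := h1
    exact ⟨l, hl.symm⟩

/-- two noncentral commuting elements lie on the same line -/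
theorem line_eq_of_commute (c : Cube p P Z K) {L₁ L₂ : Subgroup G} (h₁ : L₁ ∈ Lines p P Z)
    (h₂ : L₂ ∈ Lines p P Z) {t₁ t₂ : G} (ht₁ : t₁ ∈ L₁) (ht₁Z : t₁ ∉ Z) (ht₂ : t₂ ∈ L₂)
    (ht₂Z : t₂ ∉ Z) (hcomm : t₁ * t₂ = t₂ * t₁) : L₁ = L₂ := by
  have e1 := c.eq_cent h₁.2.1 h₁.2.2 ht₁ ht₁Z
  have h3 : t₂ ∈ L₁ := by
    rw [e1]
    refine ⟨h₂.2.1 ht₂, ?_⟩
    show t₂ ∈ Subgroup.centralizer ({t₁} : Set G)
    rw [Subgroup.mem_centralizer_iff]
    intro b hb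
    rw [Set.mem_singleton_iff] at hb
    subst hb
    exact hcomm
  rw [c.eq_cent h₁.2.1 h₁.2.2 h3 ht₂Z, c.eq_cent h₂.2.1 h₂.2.2 ht₂ ht₂Z]

/-- the product of the eigenvalues on two distinct invariant lines is `1` -/
theorem eigen_mul (c : Cube p P Z K) {y : G} (hy : y ∈ K) {L₁ L₂ : Subgroup G}
    (h₁ : L₁ ∈ Lines p P Z) (h₂ : L₂ ∈ Lines p P Z) (hne : L₁ ≠ L₂) {t₁ t₂ : G}
    (ht₁ : t₁ ∈ L₁) (ht₁Z : t₁ ∉ Z) (ht₂ : t₂ ∈ L₂) (ht₂Z : t₂ ∉ Z) {l₁ l₂ : ℕ}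
    (e₁ : y * t₁ * y⁻¹ = t₁ ^ l₁) (e₂ : y * t₂ * y⁻¹ = t₂ ^ l₂) : l₁ * l₂ ≡ 1 [MOD p] := by
  have hP₁ : t₁ ∈ P := h₁.2.1 ht₁
  have hP₂ : t₂ ∈ P := h₂.2.1 ht₂
  have hzZ : ⁅t₁, t₂⁆ ∈ Z := c.comm_mem hP₁ hP₂
  have hz1 : ⁅t₁, t₂⁆ ≠ 1 := by
    intro h
    rw [commutatorElement_eq_one_iff_mul_comm] at h
    exact hne (c.line_eq_of_commute h₁ h₂ ht₁ ht₁Z ht₂ ht₂Z h)
  have hzo : orderOf ⁅t₁, t₂⁆ = p := by
    have h1 : orderOf ⁅t₁, t₂⁆ ∣ p := by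
      have := Subgroup.orderOf_dvd_natCard Z hzZ
      rwa [c.cardZ] at this
    rcases (Nat.dvd_prime hp.out).mp h1 with h | h
    · exact absurd (orderOf_eq_one_iff.mp h) hz1
    · exact h
  have hc1 : Commute ⁅t₁, t₂⁆ t₁ := (c.central hP₁ hzZ).symm
  have hc2 : Commute ⁅t₁, t₂⁆ t₂ := (c.central hP₂ hzZ).symm
  have h1 : y * ⁅t₁, t₂⁆ * y⁻¹ = ⁅t₁, t₂⁆ := by
    rw [c.K_central hy hzZ, mul_assoc, mul_inv_cancel, mul_one]
  have h2 : y * ⁅t₁, t₂⁆ * y⁻¹ = ⁅y * t₁ * y⁻¹, y * t₂ * y⁻¹⁆ := by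
    simp only [commutatorElement_def]; group
  rw [e₁, e₂, comm_pow_pow hc1 hc2] at h2
  have h3 : ⁅t₁, t₂⁆ ^ (l₁ * l₂) = ⁅t₁, t₂⁆ ^ 1 := by rw [← h2, h1, pow_one]
  have h4 := pow_eq_pow_iff_modEq.mp h3
  rwa [hzo] at h4

/-- **the key lemma**: a nonidentity element of `K` normalizes at most two lines -/
theorem crux (c : Cube p P Z K) {y : G} (hy : y ∈ K) (hy1 : y ≠ 1) {L₁ L₂ L₃ : Subgroup G}
    (h₁ : L₁ ∈ Lines p P Z) (h₂ : L₂ ∈ Lines p P Z) (h₃ : L₃ ∈ Lines p P Z)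
    (hy₁ : y ∈ Subgroup.normalizer (L₁ : Set G)) (hy₂ : y ∈ Subgroup.normalizer (L₂ : Set G))
    (hy₃ : y ∈ Subgroup.normalizer (L₃ : Set G)) (h12 : L₁ ≠ L₂) (h13 : L₁ ≠ L₃)
    (h23 : L₂ ≠ L₃) : False := by
  obtain ⟨t₁, ht₁, ht₁Z, ho₁, l₁, e₁⟩ := c.exists_eigen hy hy1 h₁ hy₁
  obtain ⟨t₂, ht₂, ht₂Z, ho₂, l₂, e₂⟩ := c.exists_eigen hy hy1 h₂ hy₂
  obtain ⟨t₃, ht₃, ht₃Z, ho₃, l₃, e₃⟩ := c.exists_eigen hy hy1 h₃ hy₃
  have m12 := c.eigen_mul hy h₁ h₂ h12 ht₁ ht₁Z ht₂ ht₂Z e₁ e₂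
  have m13 := c.eigen_mul hy h₁ h₃ h13 ht₁ ht₁Z ht₃ ht₃Z e₁ e₃
  have m23 := c.eigen_mul hy h₂ h₃ h23 ht₂ ht₂Z ht₃ ht₃Z e₂ e₃
  -- `l₁ ^ 2 ≡ 1`
  have hsq : l₁ * l₁ ≡ 1 [MOD p] := by
    have h1 : (l₁ * l₂) * (l₁ * l₃) ≡ 1 * 1 [MOD p] := m12.mul m13
    have h2 : (l₁ * l₁) * (l₂ * l₃) ≡ (l₁ * l₁) * 1 [MOD p] := Nat.ModEq.mul_left _ m23
    have h3 : (l₁ * l₂) * (l₁ * l₃) = (l₁ * l₁) * (l₂ * l₃) := by ring
    rw [h3] at h1
    calc l₁ * l₁ = (l₁ * l₁) * 1 := (mul_one _).symm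
      _ ≡ (l₁ * l₁) * (l₂ * l₃) [MOD p] := h2.symm
      _ ≡ 1 * 1 [MOD p] := h1
      _ = 1 := mul_one 1
  -- `y ^ 2` centralizes `t₁`
  have h4 : (y * y) * t₁ * (y * y)⁻¹ = t₁ := by
    have : (y * y) * t₁ * (y * y)⁻¹ = y * (y * t₁ * y⁻¹) * y⁻¹ := by group
    rw [this, e₁, ← conj_pow, e₁, ← pow_mul]
    have h5 : t₁ ^ (l₁ * l₁) = t₁ ^ 1 := by
      rw [pow_eq_pow_iff_modEq, ho₁]; exact hsq
    rw [h5, pow_one]
  have hyy1 : y * y ≠ 1 := by
    intro h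
    have h5 : orderOf y ∣ 2 := orderOf_dvd_of_pow_eq_one (by rw [pow_two]; exact h)
    have h6 : orderOf y ∣ Nat.card K := by
      have := orderOf_dvd_natCard (⟨y, hy⟩ : ↥K)
      rwa [Subgroup.orderOf_mk] at this
    have h7 : Odd (orderOf y) := Odd.of_dvd_nat c.hKodd h6
    rcases (Nat.dvd_prime Nat.prime_two).mp h5 with h8 | h8
    · exact hy1 (orderOf_eq_one_iff.mp h8)
    · rw [h8] at h7
      exact absurd h7 (by decide)
  have h5 : t₁ ∈ P ⊓ Subgroup.centralizer ({y * y} : Set G) := by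
    refine ⟨h₁.2.1 ht₁, ?_⟩
    show t₁ ∈ Subgroup.centralizer ({y * y} : Set G)
    rw [Subgroup.mem_centralizer_iff]
    intro b hb
    rw [Set.mem_singleton_iff] at hb
    subst hb
    exact (mul_inv_eq_iff_eq_mul.mp h4)
  rw [c.hcent (y * y) (K.mul_mem hy hy) hyy1] at h5
  exact ht₁Z h5

end Cube

end Cfsg.Agent.Lib.Helper5.BG157
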