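import Mathlib
import Cfsg.Agent.Lib.Helper5.BG157f

set_option autoImplicit false
set_option linter.style.haveILetI false
set_option linter.unusedSectionVars false
set_option maxHeartbeats 1600000

/-! B and G, Theorem 15.7, part 7: a cyclic group of odd order acting on a nonabelian group of order
`p ^ 3`: counting the lines, and the conclusion. -/

namespace Cfsg.Agent.Lib.Helper5.BG157

open Cfsg.Agent.Lib.Helper7 Cfsg.Agent.Lib.Lead
open scoped commutatorElement

universe u

variable {G : Type u} [Group G] [Finite G]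

namespace Cube

variable {p : ℕ} [hp : Fact p.Prime] {P Z K : Subgroup G}

/-- if `K` normalizes a line, its order divides `p - 1` -/
theorem dvd_pred_of_fixed (c : Cube p P Z K) {L : Subgroup G} (hL : L ∈ Lines p P Z)
    (hKL : K ≤ Subgroup.normalizer (L : Set G)) : Nat.card K ∣ p - 1 := by
  by_cases hK1 : K = ⊥
  · rw [hK1, Subgroup.card_bot]; exact one_dvd _
  obtain ⟨hTL, hTZ, hTc, hKT⟩ := c.eigen le_rfl hK1 hL.1 hL.2.1 hL.2.2 hKL
  haveI := c.hKc
  obtain ⟨g, hg⟩ := IsCyclic.exists_generator (α := ↥K)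
  have hgo : orderOf (g : G) = Nat.card K := by
    rw [Subgroup.orderOf_coe]
    exact orderOf_eq_card_of_forall_mem_zpowers hg
  have h1 : (g : G) ^ (p - 1) ∈ Subgroup.centralizer ((⁅L, K⁆ : Subgroup G) : Set G) :=
    pow_pred_mem_centralizer hTc (hKT g.2)
  have h2 : (g : G) ^ (p - 1) = 1 := by
    by_contra hne
    have h3 : ⁅L, K⁆ ≤ Z := by
      rw [← c.hcent _ (K.pow_mem g.2 (p - 1)) hne]
      intro t ht
      refine ⟨hL.2.1 (hTL ht), ?_⟩
      show t ∈ Subgroup.centralizer ({(g : G) ^ (p - 1)} : Set G)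
      rw [Subgroup.mem_centralizer_iff]
      intro b hb
      rw [Set.mem_singleton_iff] at hb
      subst hb
      exact (Subgroup.mem_centralizer_iff.mp h1 t ht).symm
    have h4 : ⁅L, K⁆ = ⊥ := by
      rw [eq_bot_iff, ← hTZ]
      exact le_inf le_rfl h3
    rw [h4, Subgroup.card_bot] at hTc
    exact hp.out.one_lt.ne hTc
  rw [← hgo]
  exact orderOf_dvd_of_pow_eq_one h2

/-- the number of lines is `p + 1` -/
theorem card_lines (c : Cube p P Z K) : Nat.card ↥(Lines p P Z) = p + 1 := by
  classical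
  set S := {a : G // a ∈ P ∧ a ∉ Z} with hS
  have hcent_mem : ∀ a : S, P ⊓ Subgroup.centralizer ({a.1} : Set G) ∈ Lines p P Z := by
    intro a
    refine ⟨?_, inf_le_left, c.card_cent a.2.1 a.2.2⟩
    intro z hz
    refine ⟨c.hZP hz, ?_⟩
    show z ∈ Subgroup.centralizer ({a.1} : Set G)
    rw [Subgroup.mem_centralizer_iff]
    intro b hb
    rw [Set.mem_singleton_iff] at hb
    subst hb
    exact c.central a.2.1 hz
  let f : S → ↥(Lines p P Z) := fun a => ⟨P ⊓ Subgroup.centralizer ({a.1} : Set G), hcent_mem a⟩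
  have hdiff : ∀ L : Subgroup G, Z ≤ L → Nat.card {a : G // a ∈ L ∧ a ∉ Z} = Nat.card L - p := by
    intro L hZL
    have e : {a : G // a ∈ L ∧ a ∉ Z} ≃ ↥((L : Set G) \ (Z : Set G)) := Equiv.refl _
    rw [Nat.card_congr e, Nat.card_coe_set_eq, Set.ncard_sdiff (by exact_mod_cast hZL)
      (Set.toFinite _), ← Nat.card_coe_set_eq, ← Nat.card_coe_set_eq]
    have h1 : Nat.card ↥(Z : Set G) = p := c.cardZ
    have h2 : Nat.card ↥(L : Set G) = Nat.card L := rfl
    rw [h1, h2]
  have hfib : ∀ L : ↥(Lines p P Z), Nat.card {a : S // f a = L} = p ^ 2 - p := by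
    intro L
    have e : {a : S // f a = L} ≃ {a : G // a ∈ L.1 ∧ a ∉ Z} :=
      { toFun := fun a => ⟨a.1.1, by
          have h1 : (f a.1).1 = L.1 := congrArg Subtype.val a.2
          rw [← h1]
          refine ⟨⟨a.1.2.1, ?_⟩, a.1.2.2⟩
          show a.1.1 ∈ Subgroup.centralizer ({a.1.1} : Set G)
          rw [Subgroup.mem_centralizer_iff]
          intro b hb
          rw [Set.mem_singleton_iff] at hb
          rw [hb]⟩
        invFun := fun x => ⟨⟨x.1, L.2.2.1 x.2.1, x.2.2⟩, by
          apply Subtype.ext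
          exact (c.eq_cent L.2.2.1 L.2.2.2 x.2.1 x.2.2).symm⟩
        left_inv := fun a => rfl
        right_inv := fun x => rfl }
    rw [Nat.card_congr e, hdiff L.1 L.2.1, L.2.2.2]
  have hsum : Nat.card S = Nat.card ↥(Lines p P Z) * (p ^ 2 - p) := by
    haveI : Fintype ↥(Lines p P Z) := Fintype.ofFinite _
    rw [Nat.card_congr (Equiv.sigmaFiberEquiv f).symm, Nat.card_sigma]
    simp_rw [hfib]
    rw [Finset.sum_const, smul_eq_mul, Finset.card_univ, Nat.card_eq_fintype_card]
  have hS' : Nat.card S = p ^ 3 - p := by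
    rw [hdiff P c.hZP, c.cardP]
  rw [hS'] at hsum
  have hp1 := hp.out.one_lt
  have h1 : p ^ 3 - p = (p + 1) * (p ^ 2 - p) := by
    have h2 : p ≤ p ^ 2 := by nlinarith
    have h3 : p ≤ p ^ 3 := by nlinarith [pow_pos hp.out.pos 2]
    zify [h2, h3]
    ring
  have h4 : 0 < p ^ 2 - p := by
    have : p < p ^ 2 := by nlinarith
    omega
  rw [h1] at hsum
  exact (Nat.eq_of_mul_eq_mul_right h4 hsum).symm

/-- conjugation by an element of `K` maps lines to lines -/
theorem cj_mem_lines (c : Cube p P Z K) {y : G} (hy : y ∈ K) {L : Subgroup G}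
    (hL : L ∈ Lines p P Z) : cj y L ∈ Lines p P Z := by
  refine ⟨?_, ?_, ?_⟩
  · intro z hz
    rw [mem_cj]
    have h1 : y⁻¹ * z * y = z := by
      rw [mul_assoc, ← c.K_central hy hz, ← mul_assoc, inv_mul_cancel, one_mul]
    rw [h1]
    exact hL.1 hz
  · intro x hx
    rw [mem_cj] at hx
    have h1 := (Subgroup.mem_normalizer_iff.mp (c.hKn hy) (y⁻¹ * x * y)).mp (hL.2.1 hx)
    have h2 : y * (y⁻¹ * x * y) * y⁻¹ = x := by group
    rwa [h2] at h1
  · rw [Subgroup.card_map_of_injective (MulAut.conj y).injective]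
    exact hL.2.2

/-- the action of `K` on the lines -/
@[instance_reducible]
noncomputable def linesAction (c : Cube p P Z K) : MulAction ↥K ↥(Lines p P Z) where
  smul y L := ⟨cj (y : G) L.1, c.cj_mem_lines y.2 L.2⟩
  one_smul L := Subtype.ext (cj_one L.1)
  mul_smul a b L := Subtype.ext (cj_mul (a : G) (b : G) L.1)

/-- **the conclusion**: `|K|` divides `p - 1` or `p + 1` -/
theorem card_dvd (c : Cube p P Z K) : Nat.card K ∣ p - 1 ∨ Nat.card K ∣ p + 1 := by
  letI := c.linesAction
  have hsmul : ∀ (y : ↥K) (L : ↥(Lines p P Z)), ((y • L : ↥(Lines p P Z)) : Subgroup G) =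
      cj (y : G) L.1 := fun _ _ => rfl
  by_cases hfree : ∀ L : ↥(Lines p P Z), MulAction.stabilizer ↥K L = ⊥
  · right
    rw [← c.card_lines]
    exact card_dvd_of_free hfree
  · left
    push Not at hfree
    obtain ⟨L, hL⟩ := hfree
    obtain ⟨y, hy, hy1⟩ : ∃ y ∈ MulAction.stabilizer ↥K L, y ≠ 1 := by
      by_contra hcon
      push Not at hcon
      exact hL ((Subgroup.eq_bot_iff_forall _).mpr hcon)
    rw [MulAction.mem_stabilizer_iff] at hy
    have hyL : cj (y : G) L.1 = L.1 := by rw [← hsmul, hy]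
    have hy1' : (y : G) ≠ 1 := fun h => hy1 (Subtype.ext h)
    haveI := c.hKc
    letI : CommGroup ↥K := IsCyclic.commGroup
    obtain ⟨g, hg⟩ := IsCyclic.exists_generator (α := ↥K)
    -- `y` normalizes every `K`-conjugate of `L`
    have hinv : ∀ k : ↥K, (y : G) ∈ Subgroup.normalizer ((cj (k : G) L.1 : Subgroup G) : Set G) := by
      intro k
      rw [mem_normalizer_iff_cj, ← cj_mul]
      have h1 : (y : G) * (k : G) = (k : G) * (y : G) := congrArg Subtype.val (mul_comm y k)
      rw [h1, cj_mul, hyL]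
    have key : cj (g : G) L.1 = L.1 := by
      by_contra hne
      have h12 : L.1 ≠ cj (g : G) L.1 := fun h => hne h.symm
      have h23 : cj (g : G) L.1 ≠ cj ((g * g : ↥K) : G) L.1 := by
        intro h
        rw [Subgroup.coe_mul, cj_mul] at h
        apply hne
        have h2 := congrArg (cj (g : G)⁻¹) h
        rw [cj_inv_cj, cj_inv_cj] at h2
        exact h2.symm
      have h13 : L.1 ≠ cj ((g * g : ↥K) : G) L.1 := by
        intro h
        apply hne
        -- `g * g` normalizes `L`, hence so does `g`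
        have h2 : ((g * g : ↥K) : G) ∈ Subgroup.normalizer ((L.1 : Subgroup G) : Set G) :=
          mem_normalizer_iff_cj.mpr h.symm
        have hodd : Odd (orderOf (g : G)) := by
          rw [Subgroup.orderOf_coe, orderOf_eq_card_of_forall_mem_zpowers hg]
          exact c.hKodd
        obtain ⟨m, hm⟩ := hodd
        have h3 : (((g * g : ↥K) : G)) ^ (m + 1) = (g : G) := by
          rw [Subgroup.coe_mul, ← pow_two, ← pow_mul]
          have : 2 * (m + 1) = orderOf (g : G) + 1 := by omega
          rw [this, pow_succ, pow_orderOf_eq_one, one_mul]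
        have h4 : (g : G) ∈ Subgroup.normalizer ((L.1 : Subgroup G) : Set G) := by
          rw [← h3]
          exact Subgroup.pow_mem _ h2 _
        exact mem_normalizer_iff_cj.mp h4
      have hy₁ : (y : G) ∈ Subgroup.normalizer ((L.1 : Subgroup G) : Set G) :=
        mem_normalizer_iff_cj.mpr hyL
      exact c.crux y.2 hy1' L.2 (c.cj_mem_lines g.2 L.2) (c.cj_mem_lines (g * g).2 L.2) hy₁
        (hinv g) (hinv (g * g)) h12 h13 h23
    apply c.dvd_pred_of_fixed L.2
    intro k hk
    obtain ⟨i, hi⟩ := Subgroup.mem_zpowers_iff.mp (hg ⟨k, hk⟩)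
    have h1 : k = (g : G) ^ i := by
      have := congrArg Subtype.val hi
      simpa using this.symm
    rw [h1]
    exact Subgroup.zpow_mem _ (mem_normalizer_iff_cj.mpr key) i

end Cube

end Cfsg.Agent.Lib.Helper5.BG157
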