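import Mathlib
import Cfsg.Agent.Lib.Helper5.BG157g
import Cfsg.Agent.Lib.Helper4.NR6
import Cfsg.Agent.Lib.Helper4.BG18e
import Cfsg.Agent.Lib.Lead.BG10g
import Cfsg.Agent.Lib.Lead.BG10o
import Cfsg.Agent.Lib.Helper9.Hyperfocal1
import Cfsg.Agent.Lib.Helper2.BG13x1

set_option autoImplicit false
set_option linter.style.haveILetI false
set_option linter.unusedSectionVars false
set_option maxHeartbeats 1600000

/-! B and G, Theorem 15.7, part 8: a nonabelian `p`-group of rank at most two with a coprime operator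
whose fixed points form a nontrivial subgroup of the derived group has order `p ^ 3`. -/

namespace Cfsg.Agent.Lib.Helper5.BG157

open Cfsg Cfsg.Agent.Lib.Helper7 Cfsg.Agent.Lib.Lead Cfsg.Agent.Lib.Helper4.RT
open scoped commutatorElement

universe u

variable {G : Type u} [Group G] [Finite G]

/-- commutators modulo central factors -/
theorem comm_mul_mul {a b a' b' : G} (h1 : b * (a' * b') = (a' * b') * b) (h2 : a * b' = b' * a) :
    ⁅a * b, a' * b'⁆ = ⁅a, a'⁆ := by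
  rw [commutatorElement_mul_left_eq_conj_mul]
  have e1 : ⁅b, a' * b'⁆ = 1 := commutatorElement_eq_one_iff_mul_comm.mpr h1
  rw [e1, mul_one, mul_inv_cancel, one_mul, commutatorElement_mul_right_eq_mul_conj]
  have e2 : ⁅a, b'⁆ = 1 := commutatorElement_eq_one_iff_mul_comm.mpr h2
  rw [e2, mul_one, mul_inv_cancel_right]

/-- the derived group of a central product with an abelian factor -/
theorem commutator_sup_le {P C : Subgroup G} (hcomm : ∀ a ∈ P, ∀ b ∈ C, a * b = b * a)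
    (hC : ∀ a ∈ C, ∀ b ∈ C, a * b = b * a) : ⁅P ⊔ C, P ⊔ C⁆ ≤ ⁅P, P⁆ := by
  rw [Subgroup.commutator_le]
  intro x hx x' hx'
  obtain ⟨a, ha, b, hb, rfl⟩ := Cfsg.Agent.Lib.Helper4.NR.exists_mul_of_mem_sup_of_comm hcomm hx
  obtain ⟨a', ha', b', hb', rfl⟩ :=
    Cfsg.Agent.Lib.Helper4.NR.exists_mul_of_mem_sup_of_comm hcomm hx'
  rw [comm_mul_mul]
  · exact Subgroup.commutator_mem_commutator ha ha'
  · rw [← mul_assoc, ← hcomm a' ha' b hb, mul_assoc, hC b hb b' hb', ← mul_assoc]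
  · exact hcomm a ha b' hb'

/-- `[P, y] = P` when the fixed points of `y` lie in the derived group -/
theorem commutator_eq_of_fixed_le {p : ℕ} [hp : Fact p.Prime] {P Z : Subgroup G} {y : G}
    (hP : IsPGroup p P) (hy : y ∈ Subgroup.normalizer (P : Set G)) (hyo : (orderOf y).Coprime p)
    (hcent : P ⊓ Subgroup.centralizer ({y} : Set G) = Z) (hZc : Z ≤ ⁅P, P⁆) :
    ⁅P, Subgroup.zpowers y⁆ = P := by
  set A := Subgroup.zpowers y with hA
  have hAP : A ≤ Subgroup.normalizer (P : Set G) := Subgroup.zpowers_le.mpr hy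
  obtain ⟨k, hk⟩ := IsPGroup.iff_card.mp hP
  have hcop : (Nat.card A).Coprime (Nat.card P) := by
    rw [hk, hA, Nat.card_zpowers]
    exact Nat.Coprime.pow_right k hyo
  have hsolv : Group.IsSolvable ↥A ∨ Group.IsSolvable ↥P := Or.inl inferInstance
  have h1 := coprime_commutator_sup_centralizer A P hAP hcop hsolv
  have h2 : P ⊓ Subgroup.centralizer (A : Set G) = Z := by
    rw [← hcent, hA, Cfsg.Agent.Lib.Helper2.BG13x.centralizer_zpowers']
  rw [h2] at h1
  have hle : ⁅P, A⁆ ≤ P := commutator_le_left_of_le_normalizer P A hAP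
  apply le_antisymm hle
  apply Cfsg.Agent.Lib.Helper9.le_of_le_sup_commutator P ⁅P, A⁆ hP hle
    (le_normalizer_commutator_left P A)
  exact h1.ge.trans (sup_le_sup_left hZc _)

/-- **order `p ^ 3`**: a nonabelian `p`-group `P` of rank at most two with an odd coprime operator
`y` whose fixed points form a nontrivial subgroup of `P'` has order `p ^ 3` and exponent `p` -/
theorem card_eq_cube_of_fixed {p : ℕ} [hp : Fact p.Prime] (hp2 : p ≠ 2) {P Z : Subgroup G} {y : G}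
    (hP : IsPGroup p P) (hr : PRankLE p 2 ↥P) (hna : ¬ ∀ a ∈ P, ∀ b ∈ P, a * b = b * a)
    (hy : y ∈ Subgroup.normalizer (P : Set G)) (hyo : (orderOf y).Coprime p)
    (hyodd : Odd (orderOf y))
    (hcent : P ⊓ Subgroup.centralizer ({y} : Set G) = Z) (hZ1 : Z ≠ ⊥) (hZc : Z ≤ ⁅P, P⁆) :
    Nat.card P = p ^ 3 := by
  set A := Subgroup.zpowers y with hA
  have hAP : A ≤ Subgroup.normalizer (P : Set G) := Subgroup.zpowers_le.mpr hy
  have hRA : ⁅P, A⁆ = P := commutator_eq_of_fixed_le hP hy hyo hcent hZc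
  have hP1 : P ≠ ⊥ := by
    rintro rfl
    apply hna
    intro a ha b hb
    rw [Subgroup.mem_bot.mp ha, Subgroup.mem_bot.mp hb]
  have hcop : (Nat.card A).Coprime p := by rw [hA, Nat.card_zpowers]; exact hyo
  have hAodd : Odd (Nat.card A) := by rw [hA, Nat.card_zpowers]; exact hyodd
  have hnc : ¬ IsMulCommutative ↥P := by
    intro h
    apply hna
    intro a ha b hb
    exact congrArg Subtype.val (h.is_comm.comm (⟨a, ha⟩ : ↥P) ⟨b, hb⟩)
  obtain ⟨-, hcase⟩ := main_structure hp2 P A hP hP1 hr hAP hcop hAodd hRA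
  rcases hcase with h | ⟨R₁, R₂, hsup, hcomm, hR₁na, hcard, hexp, hcyc, hom⟩
  · exact absurd h hnc
  have hR₁P : R₁ ≤ P := by rw [← hsup]; exact le_sup_left
  have hR₂P : R₂ ≤ P := by rw [← hsup]; exact le_sup_right
  have hexp' : ∀ x ∈ R₁, x ^ p = 1 := by
    intro x hx
    have := Monoid.pow_exponent_eq_one (⟨x, hx⟩ : ↥R₁)
    rw [hexp] at this
    exact congrArg Subtype.val this
  have hmem : ∀ x ∈ P, x ^ p = 1 → x ∈ R₁ := by
    intro x hx hxp
    rw [← hsup] at hx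
    obtain ⟨a, ha, b, hb, rfl⟩ := Cfsg.Agent.Lib.Helper4.NR.exists_mul_of_mem_sup_of_comm hcomm hx
    have hab : Commute a b := hcomm a ha b hb
    rw [hab.mul_pow, hexp' a ha, one_mul] at hxp
    have hb' : b ∈ Subgroup.closure {x : G | x ∈ R₂ ∧ x ^ p = 1} :=
      Subgroup.subset_closure ⟨hb, hxp⟩
    rw [hom] at hb'
    exact R₁.mul_mem ha (commutator_le_left_of_le_normalizer R₁ R₁ Subgroup.le_normalizer hb')
  -- the structure `ES`
  have hna₁ : ∃ u ∈ R₁, ∃ v ∈ R₁, u * v ≠ v * u := by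
    by_contra hcon
    push Not at hcon
    apply hR₁na
    exact ⟨⟨fun a b => Subtype.ext (hcon a a.2 b b.2)⟩⟩
  have hES : ES p P R₁ := ⟨hP, hR₁P, hcard, hexp', hna₁, hmem⟩
  -- `R₂` is commutative
  have hR₂c : ∀ a ∈ R₂, ∀ b ∈ R₂, a * b = b * a := by
    intro a ha b hb
    letI := IsCyclic.commGroup (α := ↥R₂)
    exact congrArg Subtype.val (mul_comm (⟨a, ha⟩ : ↥R₂) ⟨b, hb⟩)
  -- the centre of `P`
  set Zc := P ⊓ Subgroup.centralizer (P : Set G) with hZcdef
  have hZW_le : ZW R₁ ≤ Zc := by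
    intro z hz
    refine ⟨hR₁P hz.1, ?_⟩
    show z ∈ Subgroup.centralizer (P : Set G)
    rw [Subgroup.mem_centralizer_iff]
    intro x hx
    rw [← hsup] at hx
    obtain ⟨a, ha, b, hb, rfl⟩ := Cfsg.Agent.Lib.Helper4.NR.exists_mul_of_mem_sup_of_comm hcomm hx
    have h1 : a * z = z * a := Subgroup.mem_centralizer_iff.mp hz.2 a ha
    have h2 : z * b = b * z := hcomm z hz.1 b hb
    calc a * b * z = a * (b * z) := mul_assoc _ _ _
      _ = a * (z * b) := by rw [h2]
      _ = (a * z) * b := (mul_assoc _ _ _).symm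
      _ = z * a * b := by rw [h1]
      _ = z * (a * b) := mul_assoc _ _ _
  have hR₂Zc : R₂ ≤ Zc := by
    intro r hr₂
    refine ⟨hR₂P hr₂, ?_⟩
    show r ∈ Subgroup.centralizer (P : Set G)
    rw [Subgroup.mem_centralizer_iff]
    intro x hx
    rw [← hsup] at hx
    obtain ⟨a, ha, b, hb, rfl⟩ := Cfsg.Agent.Lib.Helper4.NR.exists_mul_of_mem_sup_of_comm hcomm hx
    have h1 : a * r = r * a := hcomm a ha r hr₂
    have h2 : b * r = r * b := hR₂c b hb r hr₂
    calc a * b * r = a * (b * r) := mul_assoc _ _ _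
      _ = a * (r * b) := by rw [h2]
      _ = (a * r) * b := (mul_assoc _ _ _).symm
      _ = r * a * b := by rw [h1]
      _ = r * (a * b) := mul_assoc _ _ _
  -- `P' ≤ Z(R₁)`
  have hder : ⁅P, P⁆ ≤ ZW R₁ := by
    rw [Subgroup.commutator_le]
    intro x hx x' hx'
    rw [← hsup] at hx hx'
    obtain ⟨a, ha, b, hb, rfl⟩ := Cfsg.Agent.Lib.Helper4.NR.exists_mul_of_mem_sup_of_comm hcomm hx
    obtain ⟨a', ha', b', hb', rfl⟩ :=
      Cfsg.Agent.Lib.Helper4.NR.exists_mul_of_mem_sup_of_comm hcomm hx'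
    have hbZ : b ∈ Zc := hR₂Zc hb
    have hb'Z : b' ∈ Zc := hR₂Zc hb'
    have e : ⁅a * b, a' * b'⁆ = ⁅a, a'⁆ := by
      have c1 : ∀ g ∈ P, g * b = b * g := fun g hg => Subgroup.mem_centralizer_iff.mp hbZ.2 g hg
      have c2 : ∀ g ∈ P, g * b' = b' * g := fun g hg => Subgroup.mem_centralizer_iff.mp hb'Z.2 g hg
      have ha_P := hR₁P ha
      have ha'_P := hR₁P ha'
      rw [commutatorElement_def, commutatorElement_def]
      have e1 : (a * b)⁻¹ = b⁻¹ * a⁻¹ := mul_inv_rev _ _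
      have e2 : (a' * b')⁻¹ = b'⁻¹ * a'⁻¹ := mul_inv_rev _ _
      rw [e1, e2]
      have c3 : b * a' = a' * b := (c1 a' ha'_P).symm
      have c4 : b' * b⁻¹ = b⁻¹ * b' := by
        have := c1 b' hb'Z.1
        calc b' * b⁻¹ = b⁻¹ * (b * b') * b⁻¹ := by group
          _ = b⁻¹ * (b' * b) * b⁻¹ := by rw [this]
          _ = b⁻¹ * b' := by group
      have c5 : b' * a⁻¹ = a⁻¹ * b' := (c2 a⁻¹ (P.inv_mem ha_P)).symm
      have c6 : b * a⁻¹ = a⁻¹ * b := (c1 a⁻¹ (P.inv_mem ha_P)).symm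
      have c7 : b * a'⁻¹ = a'⁻¹ * b := (c1 a'⁻¹ (P.inv_mem ha'_P)).symm
      have c8 : b' * a'⁻¹ = a'⁻¹ * b' := (c2 a'⁻¹ (P.inv_mem ha'_P)).symm
      calc a * b * (a' * b') * (b⁻¹ * a⁻¹) * (b'⁻¹ * a'⁻¹)
          = a * (b * a') * (b' * b⁻¹) * a⁻¹ * (b'⁻¹ * a'⁻¹) := by group
        _ = a * (a' * b) * (b⁻¹ * b') * a⁻¹ * (b'⁻¹ * a'⁻¹) := by rw [c3, c4]
        _ = a * a' * (b' * a⁻¹) * (b'⁻¹ * a'⁻¹) := by group
        _ = a * a' * (a⁻¹ * b') * (b'⁻¹ * a'⁻¹) := by rw [c5]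
        _ = a * a' * a⁻¹ * a'⁻¹ := by group
    rw [e]
    exact hES.comm_mem_ZW ha ha'
  have hZZc : Z ≤ Zc := (hZc.trans hder).trans hZW_le
  -- `Zc` is cyclic
  have hZcP : Zc ≤ P := inf_le_left
  have hZcp : IsPGroup p ↥Zc := hP.to_le hZcP
  have hZcc : ∀ a ∈ Zc, ∀ b ∈ Zc, a * b = b * a := by
    intro a ha b hb
    exact (Subgroup.mem_centralizer_iff.mp hb.2 a ha.1)
  have hcyc : IsCyclic ↥Zc := by
    have hr1 : RankLE 1 ↥Zc := by
      intro s hs
      by_cases hsp : s = p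
      · subst hsp
        intro B _ hBexp
        have hBle : B.map Zc.subtype ≤ ZW R₁ := by
          rintro _ ⟨b, hb, rfl⟩
          have hbp : ((b : ↥Zc) : G) ^ s = 1 := by
            have := hBexp b hb
            exact congrArg Subtype.val this
          have hbR : ((b : ↥Zc) : G) ∈ R₁ := hmem _ (hZcP b.2) hbp
          refine ⟨hbR, ?_⟩
          show ((b : ↥Zc) : G) ∈ Subgroup.centralizer (R₁ : Set G)
          rw [Subgroup.mem_centralizer_iff]
          intro g hg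
          exact Subgroup.mem_centralizer_iff.mp b.2.2 g (hR₁P hg)
        have h1 := Subgroup.card_le_of_le hBle
        rw [Subgroup.card_map_of_injective Zc.subtype_injective, hES.card_ZW] at h1
        rw [pow_one]
        exact h1
      · apply Cfsg.Agent.Lib.Lead.BG10.prankLE_of_not_dvd hs
        intro hd
        obtain ⟨k, hk⟩ := IsPGroup.iff_card.mp hZcp
        rw [hk] at hd
        exact hsp ((Nat.prime_dvd_prime_iff_eq hs hp.out).mp (hs.dvd_of_dvd_pow hd))
    have hodd : Odd (Nat.card ↥Zc) := by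
      obtain ⟨k, hk⟩ := IsPGroup.iff_card.mp hZcp
      rw [hk]
      exact Odd.pow (hp.out.odd_of_ne_two hp2)
    haveI : IsZGroup ↥Zc := Cfsg.Agent.Lib.Lead.BG10.isZGroup_of_rankLE_one hodd hr1
    haveI : Group.IsNilpotent ↥Zc := hZcp.isNilpotent
    infer_instance
  -- `y` centralizes `Zc`
  have hAZc : A ≤ Subgroup.normalizer (Zc : Set G) := by
    intro a ha
    have haP := hAP ha
    have h1 : a ∈ Subgroup.normalizer ((Subgroup.centralizer (P : Set G) : Subgroup G) : Set G) :=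
      normalizer_le_normalizer_centralizer P haP
    rw [Subgroup.mem_normalizer_iff] at haP h1 ⊢
    intro x
    constructor
    · intro hx
      exact ⟨(haP x).mp hx.1, (h1 x).mp hx.2⟩
    · intro hx
      exact ⟨(haP x).mpr hx.1, (h1 x).mpr hx.2⟩
  have hcopZ : (Nat.card A).Coprime (Nat.card Zc) := by
    obtain ⟨k, hk⟩ := IsPGroup.iff_card.mp hZcp
    rw [hk]
    exact Nat.Coprime.pow_right k hcop
  have hfix : Zc ⊓ Subgroup.centralizer (A : Set G) ≠ ⊥ := by
    intro h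
    apply hZ1
    rw [eq_bot_iff, ← h]
    refine le_inf hZZc ?_
    rw [hA, Cfsg.Agent.Lib.Helper2.BG13x.centralizer_zpowers', ← hcent]
    exact inf_le_right
  have h5 : Zc ≤ Subgroup.centralizer (A : Set G) :=
    Cfsg.Agent.Lib.Helper4.BG18.le_centralizer_of_cyclic_of_fixed hZcp hcyc hAZc hcopZ hfix
  have h6 : Zc ≤ Z := by
    rw [← hcent]
    refine le_inf hZcP ?_
    rw [← Cfsg.Agent.Lib.Helper2.BG13x.centralizer_zpowers']
    exact h5
  have h7 : R₂ ≤ R₁ := ((hR₂Zc.trans h6).trans (hZc.trans hder)).trans (ZW_le R₁)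
  have h8 : P = R₁ := by
    rw [← hsup]
    exact sup_eq_left.mpr h7
  rw [h8, hcard]

end Cfsg.Agent.Lib.Helper5.BG157
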