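import Mathlib
import Cfsg.Agent.Lib.Helper5.BG157d
import Cfsg.Agent.Lib.Helper5.BG157h
import Cfsg.Agent.Lib.Helper4.NR7
import Cfsg.Agent.S1354
import Cfsg.Agent.S1365
import Cfsg.Agent.Lib.Helper2.BG12U4
import Cfsg.Agent.Lib.Lead.CoprimeAction3

set_option autoImplicit false
set_option linter.style.haveILetI false
set_option linter.unusedSectionVars false
set_option maxHeartbeats 1600000

/-! B and G, Theorem 15.7, part 9: the case `U = 1`, `K ≠ 1`, with the Sylow `p`-subgroup of `M_σ` not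
abelian: `|K|` divides `p - 1`, or `|P| = p ^ 3` and `|K|` divides `p + 1`. -/

namespace Cfsg.Agent.Lib.Helper5.BG157

open Cfsg Cfsg.Agent.Lib.Lead Cfsg.Agent.Lib.Lead.BG10 Cfsg.Agent.Lib.Helper7 Cfsg.Agent.Lib.Helper4
open Cfsg.Agent.Lib.Helper4.BG76 Cfsg.Agent.Lib.Helper4.BG8 Cfsg.Agent.Lib.Helper4.BG9
open Cfsg.Agent.Lib.Helper4.BG7 Cfsg.Agent.Lib.Helper4.BG12 Cfsg.Agent.Lib.Helper4.BGConj
open Cfsg.Agent.Lib.Helper4.BG13 Cfsg.Agent.Lib.Lead.BG12q Cfsg.Agent.Lib.Lead.BG13q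
open Cfsg.Agent.Lib.Helper4.BG18 Cfsg.Agent.Lib.Helper2.BG13x Cfsg.Agent.Lib.Helper5.BG139
open Cfsg.Agent.Lib.Helper4.BG14 Cfsg.Agent.Lib.Helper2.BG14z Cfsg.Agent.Lib.Helper5.BG143
open Cfsg.Agent.Lib.Helper5.BG144 Cfsg.Agent.Lib.Lead.BG14n Cfsg.Agent.Lib.Helper2.BG14y
open Cfsg.Agent.Lib.Helper5.BG147 Cfsg.Agent.Lib.Helper5.BG151
open scoped commutatorElement

universe u

variable {G : Type u} [Group G] [Finite G]


namespace Cfg

variable {M N : Subgroup G} {x : G} {p : ℕ} {P : Subgroup G}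

theorem p_ne_two (c : Cfg M N x p) : p ≠ 2 := by
  intro h
  have h1 : Odd (Nat.card ↥(Subgroup.zpowers x)) := odd_card_sub c.hG _
  rw [Nat.card_zpowers, c.hxp, h] at h1
  exact absurd h1 (by decide)

/-- a maximal elementary abelian subgroup of order `p ^ 2` of `P` -/
theorem exists_hmax (c : Cfg M N x p) (hP : SylIn p (sigmaCore M) P)
    (hna : ¬ ∀ a ∈ P, ∀ b ∈ P, a * b = b * a) :
    ∃ E : Subgroup ↥P, IsElementaryAbelian p E ∧ Nat.card E = p ^ 2 ∧
      ∀ B : Subgroup ↥P, IsElementaryAbelian p B → E ≤ B → B = E := by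
  haveI : Fact p.Prime := ⟨c.hp⟩
  obtain ⟨z, hzP, hzo, hzc, hzx, hAe, hAc, hAle⟩ := c.exists_A hP hna
  set A := Subgroup.zpowers x ⊔ Subgroup.zpowers z with hA
  have hAP : A ≤ P :=
    sup_le (Subgroup.zpowers_le.mpr (c.x_mem_P hP)) (Subgroup.zpowers_le.mpr hzP)
  have hEc : Nat.card ↥(A.subgroupOf P) = p ^ 2 := by
    rw [Cfsg.Agent.Lib.Lead.card_subgroupOf_of_le hAP, hAc]
  have hxA : x ∈ A := Subgroup.mem_sup_left (Subgroup.mem_zpowers x)
  refine ⟨A.subgroupOf P, ⟨?_, ?_⟩, hEc, ?_⟩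
  · refine ⟨⟨fun a b => ?_⟩⟩
    apply Subtype.ext
    apply Subtype.ext
    have h1 := hAe.1.is_comm.comm (⟨(a : ↥P), a.2⟩ : ↥A) ⟨(b : ↥P), b.2⟩
    exact congrArg (fun t : ↥A => (t : G)) h1
  · intro a ha
    apply Subtype.ext
    have h1 := hAe.2 (a : G) ha
    rw [Subgroup.coe_pow, h1, Subgroup.coe_one]
  · intro B hB hEB
    symm
    apply Subgroup.eq_of_le_of_card_ge hEB
    rw [hEc]
    -- `B` lies in `M ∩ N`, of `p`-rank at most two
    set B' := B.map P.subtype with hB'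
    have hBc : ∀ a ∈ B', ∀ b ∈ B', a * b = b * a := by
      rintro _ ⟨a, ha, rfl⟩ _ ⟨b, hb, rfl⟩
      have h1 := hB.1.is_comm.comm (⟨a, ha⟩ : ↥B) ⟨b, hb⟩
      exact congrArg (fun t : ↥B => ((t : ↥P) : G)) h1
    have hxB : x ∈ B' := by
      refine ⟨⟨x, c.x_mem_P hP⟩, hEB ?_, rfl⟩
      rw [Subgroup.mem_subgroupOf]
      exact hxA
    have hBle : B' ≤ M ⊓ N := by
      refine le_trans ?_ c.cent_le
      intro b hb
      refine ⟨?_, ?_⟩
      · obtain ⟨b', _, rfl⟩ := hb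
        exact hP.1 b'.2
      · show b ∈ Subgroup.centralizer ({x} : Set G)
        rw [Subgroup.mem_centralizer_iff]
        intro y hy
        rw [Set.mem_singleton_iff] at hy
        subst hy
        exact hBc _ hxB _ hb
    have hd : p ∣ Nat.card ↥(M ⊓ N) := by
      have h1 : Subgroup.zpowers x ≤ M ⊓ N := (le_sup_left.trans hAle).trans c.cent_le
      have h2 := Subgroup.card_dvd_of_le h1
      rwa [Nat.card_zpowers, c.hxp] at h2
    have hr := c.prankLE_two (le_refl (M ⊓ N)) c.hp hd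
    have h3 := hr (B'.subgroupOf (M ⊓ N)) ?_ ?_
    · rw [Cfsg.Agent.Lib.Lead.card_subgroupOf_of_le hBle, hB', Subgroup.card_map_of_injective P.subtype_injective] at h3
      exact h3
    · refine ⟨⟨fun a b => ?_⟩⟩
      apply Subtype.ext
      apply Subtype.ext
      exact hBc _ a.2 _ b.2
    · intro a ha
      apply Subtype.ext
      obtain ⟨b, hb, hba⟩ := (Subgroup.mem_subgroupOf.mp ha)
      have h1 := hB.2 b hb
      rw [Subgroup.coe_pow, Subgroup.coe_one]
      have h2 : ((a : ↥(M ⊓ N)) : G) = ((b : ↥P) : G) := hba.symm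
      rw [h2, ← Subgroup.coe_pow, h1, Subgroup.coe_one]

/-- `P` and `O_{p'}(M_σ)` commute elementwise -/
theorem P_C_commute (c : Cfg M N x p) (hP : SylIn p (sigmaCore M) P) :
    ∀ a ∈ P, ∀ b ∈ piCoreOf {q | q.Prime ∧ q ∉ ({p} : Set ℕ)} (sigmaCore M), a * b = b * a := by
  haveI : Fact p.Prime := ⟨c.hp⟩
  intro a ha b hb
  haveI := c.hnil
  have hbσ : b ∈ sigmaCore M := piCoreOf_le _ _ hb
  have hcop : (orderOf a).Coprime (orderOf b) := by
    obtain ⟨k, hk⟩ := (hP.2.1) ⟨a, ha⟩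
    have h1 : orderOf a ∣ p ^ k := by
      apply orderOf_dvd_of_pow_eq_one
      exact congrArg Subtype.val hk
    apply Nat.Coprime.coprime_dvd_left h1
    apply Nat.Coprime.pow_left
    rw [Nat.Prime.coprime_iff_not_dvd c.hp]
    intro hd
    have h2 := isPiNum_card_piCoreOf {q | q.Prime ∧ q ∉ ({p} : Set ℕ)} (sigmaCore M) p c.hp
      (hd.trans (Subgroup.orderOf_dvd_natCard _ hb))
    exact h2.2 rfl
  have h1 := Cfsg.Agent.Lib.Helper5.NilSym.commute_of_coprime ↥(sigmaCore M)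
    ⟨a, hP.1 ha⟩ ⟨b, hbσ⟩ (isOfFinOrder_of_finite _) (isOfFinOrder_of_finite _)
    (by rw [Subgroup.orderOf_mk, Subgroup.orderOf_mk]; exact hcop)
  exact congrArg Subtype.val h1.eq

/-- in the non-abelian case the derived group of `M_σ` is that of `P` -/
theorem commutator_sigmaCore_le (c : Cfg M N x p) (hP : SylIn p (sigmaCore M) P)
    (hna : ¬ ∀ a ∈ P, ∀ b ∈ P, a * b = b * a) :
    ⁅sigmaCore M, sigmaCore M⁆ ≤ ⁅P, P⁆ := by
  rw [← c.P_sup_C hP]
  apply commutator_sup_le (c.P_C_commute hP)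
  intro a ha b hb
  haveI := c.C_cyclic hP hna
  letI := IsCyclic.commGroup
    (α := ↥(piCoreOf {q | q.Prime ∧ q ∉ ({p} : Set ℕ)} (sigmaCore M)))
  exact congrArg Subtype.val
    (mul_comm (⟨a, ha⟩ : ↥(piCoreOf {q | q.Prime ∧ q ∉ ({p} : Set ℕ)} (sigmaCore M))) ⟨b, hb⟩)

/-- the centralizer in `M_σ` of a nonidentity element of `K` is `K*` -/
theorem sigmaCore_inf_centralizer_singleton (c : Cfg M N x p) {K U : Subgroup G}
    (hKU : IsSigmaDecomposition M K U) (hK1 : K ≠ ⊥) {y : G} (hy : y ∈ K) (hy1 : y ≠ 1) :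
    sigmaCore M ⊓ Subgroup.centralizer ({y} : Set G) =
      sigmaCore M ⊓ Subgroup.centralizer (K : Set G) := by
  have h1354 := (Cfsg.Agent.S1354.result c.hG M c.hM K hKU.cyclic hKU.hall).2 hK1 y hy hy1
  apply le_antisymm
  · intro a ha
    have haM : a ∈ M ⊓ Subgroup.centralizer ({y} : Set G) := ⟨sigmaCore_le M ha.1, ha.2⟩
    rw [h1354] at haM
    have hcomm : ∀ k ∈ K, ∀ s ∈ sigmaCore M ⊓ Subgroup.centralizer (K : Set G), k * s = s * k := by
      intro k hk s hs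
      exact Subgroup.mem_centralizer_iff.mp hs.2 k hk
    obtain ⟨k, hk, s, hs, rfl⟩ :=
      Cfsg.Agent.Lib.Helper4.NR.exists_mul_of_mem_sup_of_comm hcomm haM
    have hkσ : k ∈ sigmaCore M := by
      have : k = k * s * s⁻¹ := by group
      rw [this]
      exact (sigmaCore M).mul_mem ha.1 ((sigmaCore M).inv_mem hs.1)
    have hk1 : k ∈ K ⊓ sigmaCore M := ⟨hk, hkσ⟩
    rw [Cfsg.Agent.Lib.Helper2.BG12.sd_K_inf_sigmaCore hKU, Subgroup.mem_bot] at hk1
    rw [hk1, one_mul]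
    exact hs
  · refine inf_le_inf_left _ ?_
    apply Subgroup.centralizer_le
    intro b hb
    rw [Set.mem_singleton_iff] at hb
    rw [hb]
    exact hy

/-- **the case `U = 1`, `K ≠ 1`** -/
theorem card_K_dvd (c : Cfg M N x p) (hP : SylIn p (sigmaCore M) P)
    (hna : ¬ ∀ a ∈ P, ∀ b ∈ P, a * b = b * a) {K U : Subgroup G}
    (hKU : IsSigmaDecomposition M K U) (hK1 : K ≠ ⊥) (hU : U = ⊥) :
    Nat.card K ∣ p - 1 ∨ (Nat.card P = p ^ 3 ∧ Nat.card K ∣ p + 1) := by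
  haveI : Fact p.Prime := ⟨c.hp⟩
  have hp2 := c.p_ne_two
  set Ks := sigmaCore M ⊓ Subgroup.centralizer (K : Set G) with hKs
  have hKM : K ≤ M := hKU.hall.1
  have hKP : K ≤ Subgroup.normalizer (P : Set G) := hKM.trans (c.P_normal hP)
  have hKodd : Odd (Nat.card K) := odd_card_sub c.hG K
  have hcop : (Nat.card K).Coprime p := by
    apply Nat.Coprime.symm
    rw [Nat.Prime.coprime_iff_not_dvd c.hp]
    intro hd
    exact (hKU.hall.2.1 p c.hp hd).2.2.1 c.p_mem_sigma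
  -- `K*`
  have hKs1 : Ks ≠ ⊥ := (Cfsg.Agent.S1354.result c.hG M c.hM K hKU.cyclic hKU.hall).1
  have hKsder : Ks ≤ ⁅P, P⁆ := by
    obtain ⟨h1, h2⟩ := Cfsg.Agent.S1365.result c.hG M c.hM K U hKU hK1
    rw [h1, hU, bot_sup_eq] at h2
    exact h2.trans (c.commutator_sigmaCore_le hP hna)
  have hPP : ⁅P, P⁆ ≤ P := commutator_le_left_of_le_normalizer P P Subgroup.le_normalizer
  have hKsP : Ks ≤ P := hKsder.trans hPP
  have hcent : ∀ y ∈ K, y ≠ 1 → P ⊓ Subgroup.centralizer ({y} : Set G) = Ks := by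
    intro y hy hy1
    have h1 := c.sigmaCore_inf_centralizer_singleton hKU hK1 hy hy1
    apply le_antisymm
    · rw [hKs, ← h1]
      exact inf_le_inf_right _ hP.1
    · refine le_inf hKsP ?_
      rw [hKs, ← h1]
      exact inf_le_right
  -- a generator of `K`
  haveI := hKU.cyclic
  obtain ⟨g, hg⟩ := IsCyclic.exists_generator (α := ↥K)
  have hgo : orderOf (g : G) = Nat.card K := by
    rw [Subgroup.orderOf_coe]
    exact orderOf_eq_card_of_forall_mem_zpowers hg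
  have hg1 : (g : G) ≠ 1 := by
    intro h
    apply hK1
    rw [eq_bot_iff]
    intro k hk
    obtain ⟨i, hi⟩ := Subgroup.mem_zpowers_iff.mp (hg ⟨k, hk⟩)
    have h2 : (g : ↥K) = 1 := Subtype.ext h
    rw [h2, one_zpow] at hi
    rw [Subgroup.mem_bot]
    exact (congrArg Subtype.val hi).symm
  by_cases hr : PRankLE p 2 ↥P
  · -- rank at most two: `|P| = p ^ 3`
    have hcard : Nat.card P = p ^ 3 :=
      card_eq_cube_of_fixed hp2 hP.2.1 hr hna (hKP g.2) (hgo ▸ hcop) (hgo ▸ hKodd)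
        (hcent g g.2 hg1) hKs1 hKsder
    have hcube : Cube p P Ks K :=
      ⟨hcard, hna, hKsP, hKs1, hKsder, hKP, hKU.cyclic, hKodd, hcop, hcent⟩
    rcases hcube.card_dvd with h | h
    · exact Or.inl h
    · exact Or.inr ⟨hcard, h⟩
  · -- rank at least three
    left
    obtain ⟨-, h2⟩ := Cfsg.Agent.Lib.Helper4.NR.rank3_core hp2 P K hP.2.1 hr
      (c.exists_hmax hP hna) hKP
    have h3 := h2 g g.2 (hgo ▸ hcop)
    have h4 : (g : G) ^ (p - 1) = 1 := by
      by_contra hne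
      have h5 := hcent _ (K.pow_mem g.2 (p - 1)) hne
      have h6 : P ≤ Ks := by
        rw [← h5]
        refine le_inf le_rfl ?_
        intro a ha
        rw [Subgroup.mem_centralizer_iff]
        intro b hb
        rw [Set.mem_singleton_iff] at hb
        subst hb
        exact (Subgroup.mem_centralizer_iff.mp h3 a ha).symm
      haveI : Group.IsNilpotent ↥P := hP.2.1.isNilpotent
      have h7 : P = ⊥ := eq_bot_of_le_commutator_nilpotent P P le_rfl (h6.trans hKsder)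
      apply hna
      intro a ha b hb
      rw [h7] at ha hb
      rw [Subgroup.mem_bot.mp ha, Subgroup.mem_bot.mp hb]
    rw [← hgo]
    exact orderOf_dvd_of_pow_eq_one h4

end Cfg

end Cfsg.Agent.Lib.Helper5.BG157
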