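import Mathlib
import Cfsg.Agent.Lib.Helper5.BG157i
import Cfsg.Agent.Lib.Lead.Core

set_option autoImplicit false
set_option linter.style.haveILetI false
set_option linter.unusedSectionVars false
set_option maxHeartbeats 1600000

/-! B and G, Theorem 15.7, part 10: the configuration from a failure of the TI-property, the cores
`O_p` and `O_{p'}` of `M_σ`, and the alternatives in the definition of Type V. -/

namespace Cfsg.Agent.Lib.Helper5.BG157

open Cfsg Cfsg.Agent.Lib.Lead Cfsg.Agent.Lib.Lead.BG10 Cfsg.Agent.Lib.Helper7 Cfsg.Agent.Lib.Helper4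
open Cfsg.Agent.Lib.Helper4.BG76 Cfsg.Agent.Lib.Helper4.BG8 Cfsg.Agent.Lib.Helper4.BG9
open Cfsg.Agent.Lib.Helper4.BG7 Cfsg.Agent.Lib.Helper4.BG12 Cfsg.Agent.Lib.Helper4.BGConj
open Cfsg.Agent.Lib.Helper4.BG13 Cfsg.Agent.Lib.Lead.BG12q Cfsg.Agent.Lib.Lead.BG13q
open Cfsg.Agent.Lib.Helper4.BG18 Cfsg.Agent.Lib.Helper2.BG13x Cfsg.Agent.Lib.Helper5.BG139
open Cfsg.Agent.Lib.Helper4.BG14 Cfsg.Agent.Lib.Helper2.BG14z Cfsg.Agent.Lib.Helper5.BG143
open Cfsg.Agent.Lib.Helper5.BG144 Cfsg.Agent.Lib.Lead.BG14n Cfsg.Agent.Lib.Helper2.BG14y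
open Cfsg.Agent.Lib.Helper5.BG147 Cfsg.Agent.Lib.Helper5.BG151
open scoped commutatorElement

universe u

variable {G : Type u} [Group G] [Finite G]


/-- if `M_σ` is nilpotent and not a TI-subset, the configuration of Theorem 15.7 exists -/
theorem exists_cfg_of_not_ti (hG : IsMinSimpleOddOrder G) {M : Subgroup G} (hM : IsCoatom M)
    (hnil : Group.IsNilpotent ↥(sigmaCore M)) (hti : ¬ IsTISubset (sigmaCore M : Set G)) :
    ∃ (N : Subgroup G) (x : G) (p : ℕ), Cfg M N x p := by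
  unfold IsTISubset at hti
  push Not at hti
  obtain ⟨g, hg, y, hy, hgy, hy1⟩ := hti
  have hgM : g ∉ M := fun h => hg (le_normalizer_sigmaCore M h)
  set x' := g * y * g⁻¹ with hx'
  have hx'1 : x' ≠ 1 := by
    intro h
    apply hy1
    have : y = g⁻¹ * x' * g := by rw [hx']; group
    rw [this, h]; group
  have hx'g : x' ∈ cj g M := by
    rw [Helper7.mem_cj]
    have : g⁻¹ * x' * g = y := by rw [hx']; group
    rw [this]
    exact sigmaCore_le M hy
  obtain ⟨p, hp, hpd⟩ := Nat.exists_prime_and_dvd (orderOf_eq_one_iff.not.mpr hx'1)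
  obtain ⟨m, hm⟩ := hpd
  have hxp : orderOf (x' ^ m) = p := by
    have h0 : orderOf x' ≠ 0 := (orderOf_pos x').ne'
    have hm0 : m ≠ 0 := by
      rintro rfl
      rw [mul_zero] at hm
      exact h0 hm
    rw [orderOf_pow' x' hm0, hm, Nat.gcd_mul_left_left, Nat.mul_div_cancel _ (Nat.pos_of_ne_zero hm0)]
  exact (exists_cfg hG hM hnil ((sigmaCore M).pow_mem hgy m) hp hxp hgM
    ((cj g M).pow_mem hx'g m)).imp fun N h => ⟨_, _, h⟩

/-- `O_p(H)` for a subgroup `H` with a normal Sylow `p`-subgroup `P` -/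
theorem pCore_map_eq {p : ℕ} [Fact p.Prime] {H P : Subgroup G} (hP : SylIn p H P)
    (hn : H ≤ Subgroup.normalizer (P : Set G)) : (pCore p ↥H).map H.subtype = P := by
  apply le_antisymm
  · apply SylIn.le_of_normal hP hn
    · exact (Subgroup.map_subtype_le _)
    · exact (Cfsg.Agent.Lib.Lead.pCore_isPGroup p).map H.subtype
  · have h1 : (P.subgroupOf H).Normal :=
      (Subgroup.normal_subgroupOf_iff_le_normalizer hP.1).mpr hn
    have h2 : IsPGroup p ↥(P.subgroupOf H) :=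
      hP.2.1.comap_of_injective H.subtype H.subtype_injective
    have h3 := Cfsg.Agent.Lib.Lead.le_pCore h1 h2
    have h4 := Subgroup.map_mono (f := H.subtype) h3
    rwa [Subgroup.subgroupOf_map_subtype, inf_eq_left.mpr hP.1] at h4

/-- `O_{p'}` as a `π`-core -/
theorem pPrimeCore_eq_piCore {p : ℕ} (hp : p.Prime) (H : Type*) [Group H] :
    pPrimeCore p H = piCore {q | q.Prime ∧ q ∉ ({p} : Set ℕ)} H := by
  unfold pPrimeCore piCore
  congr 1
  ext N
  simp only [Set.mem_ofPred_eq, Set.mem_singleton_iff]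
  constructor
  · rintro ⟨hN, hc⟩
    refine ⟨hN, fun q hq hqd => ⟨hq, ?_⟩⟩
    rintro rfl
    exact (Nat.Prime.coprime_iff_not_dvd hq).mp hc.symm hqd
  · rintro ⟨hN, h⟩
    refine ⟨hN, ?_⟩
    apply Nat.Coprime.symm
    rw [Nat.Prime.coprime_iff_not_dvd hp]
    intro hd
    exact (h p hp hd).2 rfl

/-- transfer of cyclicity to `O_{p'}` -/
theorem isCyclic_pPrimeCore {p : ℕ} (hp : p.Prime) (H : Subgroup G)
    (h : IsCyclic ↥(piCoreOf {q | q.Prime ∧ q ∉ ({p} : Set ℕ)} H)) :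
    IsCyclic ↥(pPrimeCore p ↥H) := by
  rw [pPrimeCore_eq_piCore hp]
  have e : ↥(piCore {q | q.Prime ∧ q ∉ ({p} : Set ℕ)} ↥H) ≃*
      ↥(piCoreOf {q | q.Prime ∧ q ∉ ({p} : Set ℕ)} H) :=
    Subgroup.equivMapOfInjective _ H.subtype H.subtype_injective
  exact isCyclic_of_surjective e.symm e.symm.surjective

/-- **the alternatives of Type V**: for a maximal subgroup `M` with `U = 1`, `K ≠ 1` and
`M_F = M_σ` -/
theorem typeV_alternatives (hG : IsMinSimpleOddOrder G) {M K U : Subgroup G} (hM : IsCoatom M)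
    (hKU : IsSigmaDecomposition M K U) (hK1 : K ≠ ⊥) (hU : U = ⊥)
    (hF : fittingHallOf M = sigmaCore M) :
    IsTISubset (fittingHallOf M : Set G) ∨
      (∃ p : ℕ, p.Prime ∧ p ∣ Nat.card (fittingHallOf M) ∧ Nat.card K ∣ p - 1 ∧
        IsCyclic (pPrimeCore p (fittingHallOf M))) ∨
      (∃ p : ℕ, p.Prime ∧ p ∣ Nat.card (fittingHallOf M) ∧
        Nat.card (pCore p (fittingHallOf M)) = p ^ 3 ∧ Nat.card K ∣ p + 1 ∧
        IsCyclic (pPrimeCore p (fittingHallOf M))) := by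
  rw [hF]
  by_cases hti : IsTISubset (sigmaCore M : Set G)
  · exact Or.inl hti
  right
  have hnil : Group.IsNilpotent ↥(sigmaCore M) := hF ▸ isNilpotent_fittingHallOf M
  obtain ⟨N, x, p, c⟩ := exists_cfg_of_not_ti hG hM hnil hti
  haveI : Fact p.Prime := ⟨c.hp⟩
  obtain ⟨P, -, hP⟩ := exists_sylIn_ge (p := p) ((Subgroup.zpowers_le).mpr c.hx) c.x_pgroup
  have hpd : p ∣ Nat.card (sigmaCore M) := by
    have := Subgroup.orderOf_dvd_natCard _ c.hx
    rwa [c.hxp] at this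
  by_cases hna : ∀ a ∈ P, ∀ b ∈ P, a * b = b * a
  · exfalso
    exact hK1 (K_eq_bot_of_abelian hG hM hKU hU (c.abelian_case hP hna).1)
  have hcyc := isCyclic_pPrimeCore c.hp (sigmaCore M) (c.C_cyclic hP hna)
  rcases c.card_K_dvd hP hna hKU hK1 hU with h | ⟨h3, h⟩
  · exact Or.inl ⟨p, c.hp, hpd, h, hcyc⟩
  · refine Or.inr ⟨p, c.hp, hpd, ?_, h, hcyc⟩
    rw [← Subgroup.card_map_of_injective (sigmaCore M).subtype_injective,
      pCore_map_eq hP ((sigmaCore_le M).trans (c.P_normal hP)), h3]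

end Cfsg.Agent.Lib.Helper5.BG157
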