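import Mathlib
import Cfsg.Agent.Lib.Helper5.BG147k

set_option autoImplicit false
set_option linter.style.haveILetI false
set_option linter.unusedSectionVars false
set_option maxHeartbeats 1600000

/-! B and G, Theorem 14.7 / 14.6(c): no conjugate of an element of `Ẑ` lies in any `Ñ`. -/

namespace Cfsg.Agent.Lib.Helper5.BG147

open Cfsg Cfsg.Agent.Lib.Lead Cfsg.Agent.Lib.Lead.BG10 Cfsg.Agent.Lib.Helper7 Cfsg.Agent.Lib.Helper4
open Cfsg.Agent.Lib.Helper4.BG76 Cfsg.Agent.Lib.Helper4.BG8 Cfsg.Agent.Lib.Helper4.BG9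
open Cfsg.Agent.Lib.Helper4.BG7 Cfsg.Agent.Lib.Helper4.BG12 Cfsg.Agent.Lib.Helper4.BGConj
open Cfsg.Agent.Lib.Helper4.BG13 Cfsg.Agent.Lib.Lead.BG12q Cfsg.Agent.Lib.Lead.BG13q
open Cfsg.Agent.Lib.Helper4.BG18 Cfsg.Agent.Lib.Helper2.BG13x Cfsg.Agent.Lib.Helper5.BG139
open Cfsg.Agent.Lib.Helper4.BG14 Cfsg.Agent.Lib.Helper2.BG14z Cfsg.Agent.Lib.Helper5.BG143
open Cfsg.Agent.Lib.Helper5.BG144 Cfsg.Agent.Lib.Lead.BG14n Cfsg.Agent.Lib.Helper2.BG14y
open scoped commutatorElement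

universe u

variable {G : Type u} [Group G] [Finite G]

namespace Pair

variable {M K Ms Ks : Subgroup G}

/-- `Ẑ ⊆ T` -/
theorem zhat_subset_Tset (c : Pair M K Ms Ks) {z : G}
    (hz : z ∈ ((↑(K ⊔ Ks) : Set G) \ ((K : Set G) ∪ (Ks : Set G)))) : z ∈ Tset (K ⊔ Ks) := by
  refine ⟨hz.1, ?_⟩
  intro N K' m hzk
  rcases c.only N K' m with h | h
  · subst h
    have hK' : K' = K := c.m.K_eq m
    subst hK'
    rw [c.hKs] at hzk
    exact hz.2 (Or.inr hzk)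
  · subst h
    have hK' : K' = Ks := c.ms.K_eq m
    subst hK'
    rw [c.hK] at hzk
    exact hz.2 (Or.inl hzk)

/-- no conjugate of an element of `Ẑ` lies in any `Ñ` -/
theorem zhat_notMem_tildeOf (c : Pair M K Ms Ks) (hG : IsMinSimpleOddOrder G) {N : Subgroup G}
    (hN : IsCoatom N) (y : G) {z : G}
    (hz : z ∈ ((↑(K ⊔ Ks) : Set G) \ ((K : Set G) ∪ (Ks : Set G)))) :
    y * z * y⁻¹ ∉ tildeOf N ((sigmaCore N : Set G) \ {1}) :=
  c.m.classSupport_Tset_disjoint hG hN ⟨y, z, c.zhat_subset_Tset hz, rfl⟩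

end Pair

/-- **S1379, last conjunct**: for a Hall `κ(M)`-subgroup `K ≠ 1` of a maximal subgroup `M`, no
conjugate of an element of `Ẑ` lies in any `Ñ` -/
theorem zhat_notMem_tildeOf (hG : IsMinSimpleOddOrder G) {M K : Subgroup G} (hM : IsCoatom M)
    (hK : IsPiHallOf (kappa M) K M) (hK1 : K ≠ ⊥) {N : Subgroup G} (hN : IsCoatom N) (y : G)
    {z : G} (hz : z ∈ ((↑(K ⊔ (sigmaCore M ⊓ Subgroup.centralizer (K : Set G))) : Set G) \
      ((K : Set G) ∪ ↑(sigmaCore M ⊓ Subgroup.centralizer (K : Set G))))) :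
    y * z * y⁻¹ ∉ tildeOf N ((sigmaCore N : Set G) \ {1}) := by
  obtain ⟨Ms, h⟩ := t147 hG hM hK hK1
  exact h.pair.zhat_notMem_tildeOf hG hN y hz

end Cfsg.Agent.Lib.Helper5.BG147
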