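import Mathlib
import Cfsg.Agent.Lib.Helper5.BG147l

set_option autoImplicit false
set_option linter.style.haveILetI false
set_option linter.unusedSectionVars false
set_option maxHeartbeats 1600000

/-! B and G, Theorem 14.7: the symmetry of the situation `(M, K) ↔ (M*, K*)`. -/

namespace Cfsg.Agent.Lib.Helper5.BG147

open Cfsg Cfsg.Agent.Lib.Lead Cfsg.Agent.Lib.Lead.BG10 Cfsg.Agent.Lib.Helper7 Cfsg.Agent.Lib.Helper4
open Cfsg.Agent.Lib.Helper4.BG76 Cfsg.Agent.Lib.Helper4.BG8 Cfsg.Agent.Lib.Helper4.BG9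
open Cfsg.Agent.Lib.Helper4.BG7 Cfsg.Agent.Lib.Helper4.BG12 Cfsg.Agent.Lib.Helper4.BGConj
open Cfsg.Agent.Lib.Helper4.BG13 Cfsg.Agent.Lib.Lead.BG12q Cfsg.Agent.Lib.Lead.BG13q
open Cfsg.Agent.Lib.Helper4.BG18 Cfsg.Agent.Lib.Helper2.BG13x Cfsg.Agent.Lib.Helper5.BG139
open Cfsg.Agent.Lib.Helper4.BG14 Cfsg.Agent.Lib.Helper2.BG14z Cfsg.Agent.Lib.Helper5.BG143
open Cfsg.Agent.Lib.Helper5.BG144 Cfsg.Agent.Lib.Lead.BG14n Cfsg.Agent.Lib.Helper2.BG14y
open scoped commutatorElement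

universe u

variable {G : Type u} [Group G] [Finite G]

namespace T147

variable {M K Ms : Subgroup G}

/-- `(K*)* = K` -/
theorem kstar_kstar (t : T147 M K Ms) : kstar Ms (kstar M K) = K := t.hKeq.symm

/-- the situation of Theorem 14.7 is symmetric in `(M, K)` and `(M*, K*)` -/
theorem symm (t : T147 M K Ms) (hG : IsMinSimpleOddOrder G) : T147 Ms (kstar M K) M := by
  have e : kstar Ms (kstar M K) = K := t.kstar_kstar
  have e2 : kstar M K ⊔ K = K ⊔ kstar M K := sup_comm _ _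
  constructor
  · rw [e]; exact t.pair.symm
  · exact t.hMs
  · exact t.hKs
  · exact t.hKs1
  · exact t.hM
  · rw [e]; exact t.hK
  · rw [e]; exact t.hK1
  · rw [e]
  · exact t.ne.symm
  · intro g hg
    apply t.not_conj g⁻¹
    rw [hg, cj_inv_cj]
  · rw [e, inf_comm, e2]; exact t.inf_eq
  · exact t.cycKs
  · rw [e]; exact t.cycK
  · rw [e, e2]; exact t.cycZ
  · exact t.kappa_eq'
  · exact t.kappa_eq
  · rw [e]; exact t.hall_sigma'
  · exact t.hall_sigma
  · exact t.uniqC'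
  · rw [e]; exact t.uniqC
  · intro M₂ hM₂ h1 h2
    rw [e] at h1 h2
    exact t.pair.symm.eq_of_props hG hM₂ h1 h2
  · rw [e]; exact t.notP1.symm
  · exact t.prime_right
  · rw [e]; exact t.prime_left
  · intro H hH hκ
    obtain ⟨g, hg⟩ := t.conj H hH hκ
    exact ⟨g, hg.symm⟩
  · rw [e, e2]; exact t.centR
  · rw [e, e2]; exact t.centL
  · intro y hy hy1 x hx hx1
    rw [e] at hx
    rw [e, e2]
    have hx' : x ∈ kstar Ms (kstar M K) := by rw [e]; exact hx
    have h1 : x * y = y * x := (Subgroup.mem_centralizer_iff.mp hx'.2 y hy).symm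
    rw [← h1]
    exact t.centZ x hx hx1 y hy hy1

/-- the set `Ẑ` of `(M*, K*)` is the set `Ẑ` of `(M, K)` -/
theorem zhat_eq (t : T147 M K Ms) :
    ((↑(kstar M K ⊔ (sigmaCore Ms ⊓ Subgroup.centralizer ((kstar M K : Subgroup G) : Set G))) :
        Set G) \ (((kstar M K : Subgroup G) : Set G) ∪
          ↑(sigmaCore Ms ⊓ Subgroup.centralizer ((kstar M K : Subgroup G) : Set G)))) =
      ((↑(K ⊔ (sigmaCore M ⊓ Subgroup.centralizer (K : Set G))) : Set G) \
        ((K : Set G) ∪ ↑(sigmaCore M ⊓ Subgroup.centralizer (K : Set G)))) := by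
  have e : sigmaCore Ms ⊓ Subgroup.centralizer ((kstar M K : Subgroup G) : Set G) = K :=
    t.kstar_kstar
  rw [e, sup_comm, Set.union_comm]

end T147

end Cfsg.Agent.Lib.Helper5.BG147
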