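import Mathlib
import Cfsg.Agent.Lib.Helper5.PSL2Aut3

set_option autoImplicit false

/-!
The rank one lemma in a general ambient group: an injective endomorphism preserving the images of
the two root subgroups of `SL₂(F)` under a homomorphism with central kernel acts on them through a
scalar and a field automorphism.
-/

namespace Cfsg.Agent.Lib.Helper5.PSL2Aut

open Matrix Matrix.SpecialLinearGroup

section
variable {F : Type*} [Field F]

theorem ym_xm_ym (t : Fˣ) : ym (-((t⁻¹ : Fˣ) : F)) * xm (t : F) * ym (-((t⁻¹ : Fˣ) : F)) = wm t := by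
  unfold xm ym wm
  rw [mk2_mul, mk2_mul]
  have h := units_mul_inv_val t
  have h' : ((t⁻¹ : Fˣ) : F) * (t : F) = 1 := by rw [mul_comm]; exact h
  apply mk2_congr
  · linear_combination -h
  · ring
  · linear_combination ((t⁻¹ : Fˣ) : F) * h'
  · linear_combination -h'

end

section
variable {F : Type*} [Field F] {G : Type*} [Group G]

theorem pi_eq_of_hom_eq (ι : SpecialLinearGroup (Fin 2) F →* G)
    (hker : ∀ g, ι g = 1 → g ∈ Subgroup.center (SpecialLinearGroup (Fin 2) F))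
    {a b : SpecialLinearGroup (Fin 2) F} (h : ι a = ι b) : pi a = pi b := by
  have h1 : ι (a⁻¹ * b) = 1 := by rw [map_mul, map_inv, h, inv_mul_cancel]
  have h2 := hker _ h1
  unfold pi
  exact QuotientGroup.eq.2 h2

end

section
variable {F : Type*} [Field F] [Fintype F] {G : Type*} [Group G]

/-- The rank one lemma. -/
theorem core_gen (ι : SpecialLinearGroup (Fin 2) F →* G)
    (hker : ∀ g, ι g = 1 → g ∈ Subgroup.center (SpecialLinearGroup (Fin 2) F))
    (α : G →* G) (hα : Function.Injective α)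
    (hX : ∀ t : F, ∃ t' : F, α (ι (xm t)) = ι (xm t'))
    (hY : ∀ s : F, ∃ s' : F, α (ι (ym s)) = ι (ym s')) :
    ∃ (u : Fˣ) (σ : F ≃+* F), (∀ t : F, α (ι (xm t)) = ι (xm ((u : F) * σ t))) ∧
      (∀ s : F, α (ι (ym s)) = ι (ym (((u⁻¹ : Fˣ) : F) * σ s))) := by
  have Xinj : ∀ t t' : F, ι (xm t) = ι (xm t') → t = t' := by
    intro t t' h
    exact X_injective (pi_eq_of_hom_eq ι hker h)
  have Yinj : ∀ t t' : F, ι (ym t) = ι (ym t') → t = t' := by
    intro t t' h
    exact Y_injective (pi_eq_of_hom_eq ι hker h)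
  choose a ha using hX
  choose b hb using hY
  have a_add : ∀ t t' : F, a (t + t') = a t + a t' := by
    intro t t'
    apply Xinj
    rw [← ha, xm_add, map_mul, map_mul, ha, ha, xm_add, map_mul]
  have a_zero : a 0 = 0 := by
    have := a_add 0 0
    rw [add_zero] at this
    linear_combination -this
  have b_zero : b 0 = 0 := by
    apply Yinj
    rw [← hb, ym_zero, map_one, map_one]
  have a_inj : Function.Injective a := by
    intro t t' h
    apply Xinj
    apply hα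
    rw [ha, ha, h]
  have a_ne : ∀ t : F, t ≠ 0 → a t ≠ 0 := by
    intro t ht h
    apply ht
    apply a_inj
    rw [h, a_zero]
  -- the braid relation
  have hbraid : ∀ t : Fˣ, a (t : F) * b (-((t⁻¹ : Fˣ) : F)) = -1 := by
    intro t
    have h1 : ι (xm (t : F) * ym (-((t⁻¹ : Fˣ) : F)) * xm (t : F))
        = ι (ym (-((t⁻¹ : Fˣ) : F)) * xm (t : F) * ym (-((t⁻¹ : Fˣ) : F))) := by
      rw [xm_ym_xm, ym_xm_ym]
    have h2 := congrArg α h1
    rw [map_mul, map_mul, map_mul, map_mul, map_mul, map_mul, map_mul, map_mul, ha, hb,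
      ← map_mul, ← map_mul, ← map_mul, ← map_mul] at h2
    have h3 := pi_eq_of_hom_eq ι hker h2
    rw [map_mul, map_mul, map_mul, map_mul] at h3
    exact (braid_iff _ _ (a_ne _ (Units.ne_zero t))).1 h3
  -- the unit-valued version of `a`
  let au : Fˣ → Fˣ := fun t => Units.mk0 (a (t : F)) (a_ne _ (Units.ne_zero t))
  have hau : ∀ t : Fˣ, ((au t : Fˣ) : F) = a (t : F) := fun t => rfl
  have hb' : ∀ t : Fˣ, b (-((t⁻¹ : Fˣ) : F)) = -(((au t)⁻¹ : Fˣ) : F) := by
    intro t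
    have h1 := hbraid t
    have h2 := units_mul_inv_val (au t)
    rw [hau] at h2
    have h3 : a (t : F) * (b (-((t⁻¹ : Fˣ) : F)) + (((au t)⁻¹ : Fˣ) : F)) = 0 := by
      linear_combination h1 + h2
    rcases mul_eq_zero.1 h3 with h | h
    · exact absurd h (a_ne _ (Units.ne_zero t))
    · linear_combination h
  have hw : ∀ t : Fˣ, α (ι (wm t)) = ι (wm (au t)) := by
    intro t
    rw [← xm_ym_xm, map_mul, map_mul, map_mul, map_mul, ha, hb, hb', ← xm_ym_xm, map_mul,
      map_mul, hau]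
  have hh : ∀ t : Fˣ, α (ι (hm t)) = ι (hm (au t * (au 1)⁻¹)) := by
    intro t
    rw [← wm_mul_wm_one_inv, map_mul, map_inv, map_mul, map_inv, hw, hw, ← map_inv, ← map_mul,
      wm_mul_wm_inv]
  have hsq : ∀ (t : Fˣ) (u : F),
      a ((t : F) ^ 2 * u) = (a (t : F) * (((au 1)⁻¹ : Fˣ) : F)) ^ 2 * a u := by
    intro t u
    apply Xinj
    rw [← ha, ← hm_conj_xm, map_mul, map_mul, map_inv, map_mul, map_mul, map_inv, hh, ha,
      ← map_inv, ← map_mul, ← map_mul, hm_conj_xm, Units.val_mul, hau]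
  -- the normalized map
  obtain ⟨c, hc⟩ : ∃ c : Fˣ, c = au 1 := ⟨_, rfl⟩
  rw [← hc] at hsq
  have hc1 : (c : F) = a 1 := by rw [hc, hau, Units.val_one]
  have hcc : (c : F) * ((c⁻¹ : Fˣ) : F) = 1 := units_mul_inv_val c
  have hcc' : ((c⁻¹ : Fˣ) : F) * (c : F) = 1 := by rw [mul_comm]; exact hcc
  obtain ⟨σ₀, hσ₀⟩ : ∃ σ₀ : F → F, ∀ t, σ₀ t = ((c⁻¹ : Fˣ) : F) * a t :=
    ⟨fun t => ((c⁻¹ : Fˣ) : F) * a t, fun t => rfl⟩
  have σ_add : ∀ t t', σ₀ (t + t') = σ₀ t + σ₀ t' := by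
    intro t t'
    rw [hσ₀, hσ₀, hσ₀, a_add]
    ring
  have σ_zero : σ₀ 0 = 0 := by rw [hσ₀, a_zero, mul_zero]
  have σ_one : σ₀ 1 = 1 := by rw [hσ₀, ← hc1, hcc']
  have σ_sq : ∀ t u : F, σ₀ (t ^ 2 * u) = σ₀ t ^ 2 * σ₀ u := by
    intro t u
    by_cases ht : t = 0
    · rw [ht]
      simp [σ_zero]
    · have := hsq (Units.mk0 t ht) u
      rw [Units.val_mk0] at this
      rw [hσ₀, hσ₀, hσ₀, this]
      ring
  have σ_sq1 : ∀ t : F, σ₀ (t ^ 2) = σ₀ t ^ 2 := by
    intro t
    have := σ_sq t 1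
    rw [mul_one, σ_one, mul_one] at this
    exact this
  have σ_mul : ∀ v u : F, σ₀ (v * u) = σ₀ v * σ₀ u := by
    intro v u
    obtain ⟨t₁, t₂, rfl⟩ := exists_sq_add_sq' v
    rw [add_mul, σ_add, σ_sq, σ_sq, σ_add, σ_sq1, σ_sq1]
    ring
  let σr : F →+* F :=
    { toFun := σ₀
      map_one' := σ_one
      map_mul' := σ_mul
      map_zero' := σ_zero
      map_add' := σ_add }
  have hbij : Function.Bijective σr := Finite.injective_iff_bijective.1 σr.injective
  let σ : F ≃+* F := RingEquiv.ofBijective σr hbij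
  have hσ : ∀ t, σ t = σ₀ t := fun t => rfl
  have ha' : ∀ t : F, a t = (c : F) * σ t := by
    intro t
    rw [hσ, hσ₀, ← mul_assoc, hcc, one_mul]
  have hb'' : ∀ s : F, b s = ((c⁻¹ : Fˣ) : F) * σ s := by
    intro s
    by_cases hs : s = 0
    · rw [hs, b_zero, map_zero, mul_zero]
    · have h1 := hb' (-(Units.mk0 s hs)⁻¹)
      have e1 : (-((((-(Units.mk0 s hs)⁻¹)⁻¹ : Fˣ)) : F)) = s := by
        rw [inv_neg, inv_inv, Units.val_neg, Units.val_mk0, neg_neg]
      rw [e1] at h1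
      rw [h1]
      have e2 : ((au (-(Units.mk0 s hs)⁻¹) : Fˣ) : F) = (c : F) * (-(σ s)⁻¹) := by
        rw [hau, ha', Units.val_neg, map_neg, Units.val_inv_eq_inv_val, map_inv₀, Units.val_mk0]
      rw [Units.val_inv_eq_inv_val, e2, Units.val_inv_eq_inv_val]
      have hσs : σ s ≠ 0 := by
        intro h0
        apply hs
        apply σ.injective
        rw [h0, map_zero]
      have hcne : (c : F) ≠ 0 := Units.ne_zero c
      field_simp
  refine ⟨c, σ, fun t => ?_, fun s => ?_⟩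
  · rw [ha, ha']
  · rw [hb, hb'']

end

end Cfsg.Agent.Lib.Helper5.PSL2Aut
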