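import Mathlib
import Cfsg.Agent.Lib.Helper5.SLnRoots

set_option autoImplicit false

/-!
Automorphisms of `PSL_{m+1}(F)`: normalization with respect to the two opposite unitriangular
subgroups and the induced permutation of the simple root subgroups.
-/

namespace Cfsg.Agent.Lib.Helper5.SLnBN

open Matrix Matrix.SpecialLinearGroup Cfsg.Agent.Lib.Helper5.SLnAut

section general
variable {G : Type*} [Group G]

theorem map_eq_of_forall_mem' (β : G ≃* G) (H K : Subgroup G) [Finite K]
    (hcard : Nat.card H = Nat.card K) (h : ∀ x ∈ H, β x ∈ K) : H.map β.toMonoidHom = K := by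
  apply Subgroup.eq_of_le_of_card_ge
  · rintro _ ⟨x, hx, rfl⟩
    exact h x hx
  · rw [Subgroup.card_map_of_injective β.injective, hcard]

theorem map_eq_of_forall_mem (β : G ≃* G) (H : Subgroup G) [Finite H]
    (h : ∀ x ∈ H, β x ∈ H) : H.map β.toMonoidHom = H :=
  map_eq_of_forall_mem' β H H rfl h

theorem mem_map_aut {β : G ≃* G} {H : Subgroup G} {x : G} (hx : x ∈ H) :
    β x ∈ H.map β.toMonoidHom := ⟨x, hx, rfl⟩

end general

section
variable {n : ℕ} {F : Type*} [Field F]

theorem tauAut_transvection {a b : Fin n} (hab : a ≠ b) (t : F) :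
    tauAut (transvection hab t : SpecialLinearGroup (Fin n) F) = transvection hab.symm (-t) := by
  rw [tauAut_apply, transvection_inv]
  apply Subtype.ext
  rw [coe_transpose, transvection_coe, transvection_coe, Matrix.transpose_add,
    Matrix.transpose_one, Matrix.transpose_single]

theorem unipBarNeg_map_tauBar :
    (unipBarNeg n F).map (tauBar : ProjectiveSpecialLinearGroup (Fin n) F ≃* _).toMonoidHom
      = unipBar n F := by
  unfold unipBarNeg
  rw [Subgroup.map_map]
  have : (tauBar : ProjectiveSpecialLinearGroup (Fin n) F ≃* _).toMonoidHom.comp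
      (tauBar : ProjectiveSpecialLinearGroup (Fin n) F ≃* _).toMonoidHom = MonoidHom.id _ := by
    apply MonoidHom.ext
    intro q
    exact tauBar_tauBar q
  rw [this, Subgroup.map_id]

theorem unipBar_map_tauBar :
    (unipBar n F).map (tauBar : ProjectiveSpecialLinearGroup (Fin n) F ≃* _).toMonoidHom
      = unipBarNeg n F := rfl

end

section
variable {m : ℕ} {F : Type*} [Field F]

theorem tauBar_yBar (i : Fin m) (t : F) : tauBar (yBar i t) = xBar i (-t) := by
  unfold yBar xBar
  rw [tauBar_pi, tauAut_transvection]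

theorem tauBar_xBar (i : Fin m) (t : F) : tauBar (xBar i t) = yBar i (-t) := by
  unfold yBar xBar
  rw [tauBar_pi, tauAut_transvection]

end

section
variable {m : ℕ} {F : Type*} [Field F] [Fintype F]

instance finite_unipBar : Finite (unipBar (m + 1) F) := inferInstance

omit [Fintype F] in
theorem card_unipBarNeg : Nat.card (unipBarNeg (m + 1) F) = Nat.card (unipBar (m + 1) F) := by
  unfold unipBarNeg
  exact Subgroup.card_map_of_injective (MulEquiv.injective _)

/-- Every automorphism can be composed with an inner automorphism so as to preserve the two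
opposite unitriangular subgroups. -/
theorem exists_normalize {p f : ℕ} [Fact p.Prime] (hf : 1 ≤ f) (hF : Fintype.card F = p ^ f)
    (hm : 1 ≤ m) (α : MulAut (ProjectiveSpecialLinearGroup (Fin (m + 1)) F)) :
    ∃ c : ProjectiveSpecialLinearGroup (Fin (m + 1)) F,
      (unipBar (m + 1) F).map (MulAut.conj c * α).toMonoidHom = unipBar (m + 1) F ∧
      (unipBarNeg (m + 1) F).map (MulAut.conj c * α).toMonoidHom = unipBarNeg (m + 1) F := by
  -- first step
  obtain ⟨g, hg⟩ := exists_conj_of_isPGroup hf hF (by omega)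
    ((unipBar (m + 1) F).map α.toMonoidHom) ((isPGroup_unipBar hF).map _)
  obtain ⟨α₁, hα₁⟩ : ∃ α₁ : MulAut (ProjectiveSpecialLinearGroup (Fin (m + 1)) F),
      α₁ = MulAut.conj g⁻¹ * α := ⟨_, rfl⟩
  have h1 : ∀ x ∈ unipBar (m + 1) F, α₁ x ∈ unipBar (m + 1) F := by
    intro x hx
    have := hg (α x) (mem_map_aut hx)
    rw [hα₁, MulAut.mul_apply, MulAut.conj_apply, inv_inv]
    exact this
  have E1 := map_eq_of_forall_mem α₁ _ h1
  -- second step
  have hpneg : IsPGroup p (unipBarNeg (m + 1) F) := (isPGroup_unipBar hF).map _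
  obtain ⟨g', hg'⟩ := exists_conj_of_isPGroup hf hF (by omega)
    ((unipBarNeg (m + 1) F).map α₁.toMonoidHom) (hpneg.map _)
  have E2 : ((unipBarNeg (m + 1) F).map α₁.toMonoidHom).map (MulAut.conj g'⁻¹).toMonoidHom
      = unipBar (m + 1) F := by
    apply map_eq_of_forall_mem'
    · rw [Subgroup.card_map_of_injective α₁.injective, card_unipBarNeg]
    · intro k hk
      have := hg' k hk
      rw [MulAut.conj_apply, inv_inv]
      exact this
  have hopp : ∀ x ∈ unipBar (m + 1) F, g' * x * g'⁻¹ ∈ unipBar (m + 1) F → x = 1 := by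
    intro x hx hgx
    have hx' := hx
    rw [← E2] at hx'
    obtain ⟨k, ⟨y', hy', rfl⟩, hk⟩ := hx'
    change MulAut.conj g'⁻¹ (α₁ y') = x at hk
    rw [MulAut.conj_apply, inv_inv] at hk
    have e : g' * x * g'⁻¹ = α₁ y' := by rw [← hk]; group
    rw [e, ← E1] at hgx
    obtain ⟨y, hy, hyy⟩ := hgx
    have hyy' : y = y' := α₁.injective hyy
    have h2 : y' ∈ unipBar (m + 1) F ⊓ unipBarNeg (m + 1) F := ⟨hyy' ▸ hy, hy'⟩
    rw [unipBar_inf_unipBarNeg, Subgroup.mem_bot] at h2
    rw [h2, map_one] at e
    have : x = g'⁻¹ * (g' * x * g'⁻¹) * g' := by group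
    rw [this, e]
    group
  obtain ⟨c, hc, hcu⟩ := exists_borelBar_conj hm g' hopp
  refine ⟨c⁻¹ * g⁻¹, ?_⟩
  have e : MulAut.conj (c⁻¹ * g⁻¹) * α = MulAut.conj c⁻¹ * α₁ := by
    rw [hα₁, map_mul, mul_assoc]
  rw [e]
  constructor
  · apply map_eq_of_forall_mem
    intro x hx
    rw [MulAut.mul_apply, MulAut.conj_apply]
    have h2 := borelBar_le_normalizer ((borelBar (m + 1) F).inv_mem hc)
    exact (Subgroup.mem_normalizer_iff.1 h2 _).1 (h1 x hx)
  · apply map_eq_of_forall_mem
    intro y' hy'
    rw [MulAut.mul_apply, MulAut.conj_apply, inv_inv]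
    have h2 := hg' (α₁ y') (mem_map_aut hy')
    have h3 := hcu _ h2
    have e2 : g' * (g'⁻¹ * α₁ y' * g') * g'⁻¹ = α₁ y' := by group
    rw [e2] at h3
    exact h3

omit [Fintype F] in
/-- An automorphism preserving the two opposite unitriangular subgroups permutes the negative
simple root subgroups. -/
theorem exists_perm_yBar (hm : 1 ≤ m)
    (β : MulAut (ProjectiveSpecialLinearGroup (Fin (m + 1)) F))
    (hU : (unipBar (m + 1) F).map β.toMonoidHom = unipBar (m + 1) F)
    (hV : (unipBarNeg (m + 1) F).map β.toMonoidHom = unipBarNeg (m + 1) F) :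
    ∃ ρ : Fin m → Fin m, Function.Injective ρ ∧
      ∀ (i : Fin m) (t : F), ∃ t' : F, β (yBar i t) = yBar (ρ i) t' := by
  have hB : (borelBar (m + 1) F).map β.toMonoidHom = borelBar (m + 1) F := by
    rw [← normalizer_unipBar hm, Subgroup.map_equiv_normalizer_eq, hU]
  have key : ∀ i : Fin m, ∃ j : Fin m, (Pbar hm i).map β.toMonoidHom = Pbar (F := F) hm j := by
    intro i
    apply exists_eq_Pbar hm
    · rw [← hB]
      exact Subgroup.map_mono (borelBar_le_Pbar hm i)
    · intro h
      rw [← hB] at h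
      exact Pbar_ne_borelBar hm i (Subgroup.map_injective β.injective h)
    · intro K hBK hKM
      have h1 : borelBar (m + 1) F ≤ K.comap β.toMonoidHom := by
        intro x hx
        apply hBK
        rw [← hB]
        exact mem_map_aut hx
      have h2 : K.comap β.toMonoidHom ≤ Pbar hm i := by
        intro x hx
        obtain ⟨y, hy, hyx⟩ := hKM hx
        rw [← β.injective hyx]
        exact hy
      have h3 : K = (K.comap β.toMonoidHom).map β.toMonoidHom :=
        (Subgroup.map_comap_eq_self_of_surjective β.surjective K).symm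
      rcases eq_or_eq_of_le_Pbar hm i _ h1 h2 with h | h
      · left
        rw [h3, h, hB]
      · right
        rw [h3, h]
  choose ρ hρ using key
  refine ⟨ρ, ?_, ?_⟩
  · intro i j hij
    apply Pbar_injective (F := F) hm
    apply Subgroup.map_injective (f := β.toMonoidHom) β.injective
    rw [hρ, hρ, hij]
  · intro i t
    apply exists_eq_yBar hm
    · rw [← hV]
      exact mem_map_aut (yBar_mem_unipBarNeg i t)
    · rw [← hρ]
      exact mem_map_aut (yBar_mem_Pbar hm i t)

omit [Fintype F] in
/-- An automorphism preserving the two opposite unitriangular subgroups permutes the positive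
simple root subgroups. -/
theorem exists_perm_xBar (hm : 1 ≤ m)
    (β : MulAut (ProjectiveSpecialLinearGroup (Fin (m + 1)) F))
    (hU : (unipBar (m + 1) F).map β.toMonoidHom = unipBar (m + 1) F)
    (hV : (unipBarNeg (m + 1) F).map β.toMonoidHom = unipBarNeg (m + 1) F) :
    ∃ ρ : Fin m → Fin m, Function.Injective ρ ∧
      ∀ (i : Fin m) (t : F), ∃ t' : F, β (xBar i t) = xBar (ρ i) t' := by
  have hU' : (unipBar (m + 1) F).map (tauBar * β * tauBar).toMonoidHom = unipBar (m + 1) F := by
    have : (tauBar * β * tauBar : MulAut (ProjectiveSpecialLinearGroup (Fin (m + 1)) F)).toMonoidHom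
        = (tauBar : MulAut _).toMonoidHom.comp (β.toMonoidHom.comp (tauBar : MulAut _).toMonoidHom) :=
      rfl
    rw [this, ← Subgroup.map_map, ← Subgroup.map_map, unipBar_map_tauBar, hV,
      unipBarNeg_map_tauBar]
  have hV' : (unipBarNeg (m + 1) F).map (tauBar * β * tauBar).toMonoidHom
      = unipBarNeg (m + 1) F := by
    have : (tauBar * β * tauBar : MulAut (ProjectiveSpecialLinearGroup (Fin (m + 1)) F)).toMonoidHom
        = (tauBar : MulAut _).toMonoidHom.comp (β.toMonoidHom.comp (tauBar : MulAut _).toMonoidHom) :=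
      rfl
    rw [this, ← Subgroup.map_map, ← Subgroup.map_map, unipBarNeg_map_tauBar, hU,
      unipBar_map_tauBar]
  obtain ⟨ρ, hρ, h⟩ := exists_perm_yBar hm _ hU' hV'
  refine ⟨ρ, hρ, fun i t => ?_⟩
  obtain ⟨t', ht'⟩ := h i (-t)
  refine ⟨-t', ?_⟩
  rw [MulAut.mul_apply, MulAut.mul_apply, tauBar_yBar, neg_neg] at ht'
  have := congrArg tauBar ht'
  rw [tauBar_tauBar, tauBar_yBar] at this
  exact this

end

end Cfsg.Agent.Lib.Helper5.SLnBN
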