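import Mathlib
import Cfsg.Agent.Lib.Helper5.SLnAutMain1

set_option autoImplicit false

/-!
Automorphisms of `PSL_{m+1}(F)`: the permutation of the simple root subgroups is trivial or the
reversal; the graph automorphism.
-/

namespace Cfsg.Agent.Lib.Helper5.SLnBN

open Matrix Matrix.SpecialLinearGroup Cfsg.Agent.Lib.Helper5.SLnAut

/-- An injective self-map of a path preserving adjacency is the identity or the reversal. -/
theorem path_auto (m : ℕ) (ρ : Fin m → Fin m) (hinj : Function.Injective ρ)
    (hadj : ∀ i j : Fin m, j.val = i.val + 1 →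
      (ρ j).val = (ρ i).val + 1 ∨ (ρ i).val = (ρ j).val + 1) :
    (∀ i, ρ i = i) ∨ (∀ i, ρ i = Fin.rev i) := by
  by_cases hm : m < 2
  · left
    intro i
    have h1 := i.2
    have h2 := (ρ i).2
    apply Fin.ext
    omega
  have hm2 : 2 ≤ m := by omega
  -- the natural number valued version
  obtain ⟨f, hf⟩ : ∃ f : ℕ → ℕ, ∀ (k : ℕ) (h : k < m), f k = (ρ ⟨k, h⟩).val :=
    ⟨fun k => if h : k < m then (ρ ⟨k, h⟩).val else 0, fun k h => by simp [h]⟩
  have hfinj : ∀ k l : ℕ, k < m → l < m → f k = f l → k = l := by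
    intro k l hk hl h
    rw [hf k hk, hf l hl] at h
    have := hinj (Fin.ext h)
    exact congrArg Fin.val this
  have hfadj : ∀ k : ℕ, k + 1 < m → f (k + 1) = f k + 1 ∨ f k = f (k + 1) + 1 := by
    intro k hk
    rw [hf k (by omega), hf (k + 1) hk]
    exact hadj ⟨k, by omega⟩ ⟨k + 1, hk⟩ rfl
  have hflt : ∀ k : ℕ, k < m → f k < m := by
    intro k hk
    rw [hf k hk]
    exact (ρ ⟨k, hk⟩).2
  rcases hfadj 0 (by omega) with hup | hdown
  · left
    have key : ∀ k : ℕ, k < m → f k = f 0 + k := by
      intro k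
      induction k using Nat.strong_induction_on with
      | _ k ih =>
        intro hk
        rcases k with _ | _ | k
        · rfl
        · rw [zero_add]; exact hup
        · have h1 := ih k (by omega) (by omega)
          have h2 := ih (k + 1) (by omega) (by omega)
          rcases hfadj (k + 1) hk with h | h
          · rw [h, h2]
            ring
          · exfalso
            have : f (k + 1 + 1) = f k := by omega
            have := hfinj _ _ hk (by omega) this
            omega
    have h0 : f 0 = 0 := by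
      have h1 := key (m - 1) (by omega)
      have h2 := hflt (m - 1) (by omega)
      omega
    intro i
    apply Fin.ext
    rw [← hf i.val i.2, key i.val i.2, h0, zero_add]
  · right
    have key : ∀ k : ℕ, k < m → f k + k = f 0 := by
      intro k
      induction k using Nat.strong_induction_on with
      | _ k ih =>
        intro hk
        rcases k with _ | _ | k
        · rfl
        · rw [zero_add]; exact hdown.symm
        · have h1 := ih k (by omega) (by omega)
          have h2 := ih (k + 1) (by omega) (by omega)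
          rcases hfadj (k + 1) hk with h | h
          · exfalso
            have : f (k + 1 + 1) = f k := by omega
            have := hfinj _ _ hk (by omega) this
            omega
          · omega
    have h0 : f 0 = m - 1 := by
      have h1 := key (m - 1) (by omega)
      have h2 := hflt 0 (by omega)
      omega
    intro i
    apply Fin.ext
    rw [← hf i.val i.2, Fin.val_rev]
    have := key i.val i.2
    have := i.2
    omega

section
variable {ι : Type*} [Fintype ι] [DecidableEq ι] {F : Type*} [Field F]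

theorem transvection_congr {a b a' b' : ι} (ha : a = a') (hb : b = b') (hab : a ≠ b)
    (hab' : a' ≠ b') (t : F) :
    (transvection hab t : SpecialLinearGroup ι F) = transvection hab' t := by
  subst ha hb
  rfl

theorem rootBar_congr {a b a' b' : ι} (ha : a = a') (hb : b = b') (hab : a ≠ b)
    (hab' : a' ≠ b') (t : F) : rootBar hab t = rootBar hab' t := by
  subst ha hb
  rfl

end

section
variable {m : ℕ} {F : Type*} [Field F]

theorem xBar_ne_one (i : Fin m) {t : F} (ht : t ≠ 0) : xBar i t ≠ 1 := by
  rw [xBar_eq]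
  intro h
  exact ht ((rootBar_eq_one_iff _ _).1 h)

theorem yBar_ne_one (i : Fin m) {t : F} (ht : t ≠ 0) : yBar i t ≠ 1 := by
  rw [yBar_eq]
  intro h
  exact ht ((rootBar_eq_one_iff _ _).1 h)

theorem xBar_one_eq (i : Fin m) : xBar i (0 : F) = 1 := rootBar_zero _

theorem not_commute_xBar_yBar (hm2 : 2 ≤ m) (i : Fin m) {t s : F} (ht : t ≠ 0) (hs : s ≠ 0) :
    ¬ Commute (xBar i t) (yBar i s) := by
  intro h
  obtain ⟨c, hca, hcb⟩ := Cfsg.Agent.Lib.Helper1.exists_third (n := m + 1) (by omega)
    i.castSucc i.succ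
  rw [xBar_eq, yBar_eq] at h
  have := mul_eq_zero_of_commute_opp (castSucc_ne_succ i) hca hcb t s h
  rcases mul_eq_zero.1 this with h | h
  · exact ht h
  · exact hs h

theorem commute_xBar_yBar_of_ne {i j : Fin m} (hij : i ≠ j) (t s : F) :
    Commute (xBar i t) (yBar j s) := by
  rw [xBar_eq, yBar_eq]
  apply rootBar_commute
  · intro e
    exact hij (Fin.succ_injective _ e)
  · intro e
    exact hij (Fin.castSucc_injective _ e)

theorem not_commute_xBar_adj {i j : Fin m} (hij : j.val = i.val + 1) {t s : F} (ht : t ≠ 0)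
    (hs : s ≠ 0) : ¬ Commute (xBar i t) (xBar j s) := by
  intro h
  have e : j.castSucc = i.succ := Fin.ext (by simp [hij])
  have hbc : i.succ ≠ j.succ := by
    intro e'
    have := congrArg Fin.val e'
    simp at this
    omega
  have hac : i.castSucc ≠ j.succ := by
    intro e'
    have := congrArg Fin.val e'
    simp at this
    omega
  rw [xBar_eq, xBar_eq, rootBar_congr e rfl (castSucc_ne_succ j) hbc] at h
  have := mul_eq_zero_of_commute_adj (castSucc_ne_succ i) hbc hac t s h
  rcases mul_eq_zero.1 this with h | h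
  · exact ht h
  · exact hs h

theorem commute_xBar_of_not_adj {i j : Fin m} (h1 : j.val ≠ i.val + 1) (h2 : i.val ≠ j.val + 1)
    (t s : F) : Commute (xBar i t) (xBar j s) := by
  rw [xBar_eq, xBar_eq]
  apply rootBar_commute
  · intro e
    have := congrArg Fin.val e
    simp at this
    omega
  · intro e
    have := congrArg Fin.val e
    simp at this
    omega

end

section
variable {m : ℕ} {F : Type*} [Field F]

/-- An automorphism preserving the two opposite unitriangular subgroups permutes the simple root
subgroups and their opposites through the identity or the reversal. -/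
theorem exists_perm_common (hm2 : 2 ≤ m)
    (β : MulAut (ProjectiveSpecialLinearGroup (Fin (m + 1)) F))
    (hU : (unipBar (m + 1) F).map β.toMonoidHom = unipBar (m + 1) F)
    (hV : (unipBarNeg (m + 1) F).map β.toMonoidHom = unipBarNeg (m + 1) F) :
    ∃ ρ : Fin m → Fin m, ((∀ i, ρ i = i) ∨ (∀ i, ρ i = Fin.rev i)) ∧
      (∀ (i : Fin m) (t : F), ∃ t' : F, β (xBar i t) = xBar (ρ i) t') ∧
      (∀ (i : Fin m) (t : F), ∃ t' : F, β (yBar i t) = yBar (ρ i) t') := by
  obtain ⟨ρ, hρ, hy⟩ := exists_perm_yBar (by omega) β hU hV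
  obtain ⟨ρ', hρ', hx⟩ := exists_perm_xBar (by omega) β hU hV
  have hne : ∀ (i : Fin m), ∃ t' : F, t' ≠ 0 ∧ β (xBar i 1) = xBar (ρ' i) t' := by
    intro i
    obtain ⟨t', ht'⟩ := hx i 1
    refine ⟨t', ?_, ht'⟩
    rintro rfl
    rw [xBar_one_eq] at ht'
    have := β.injective (ht'.trans (map_one β).symm)
    exact xBar_ne_one i one_ne_zero this
  have hne' : ∀ (i : Fin m), ∃ t' : F, t' ≠ 0 ∧ β (yBar i 1) = yBar (ρ i) t' := by
    intro i
    obtain ⟨t', ht'⟩ := hy i 1
    refine ⟨t', ?_, ht'⟩
    rintro rfl
    rw [yBar_eq (ρ i), rootBar_zero] at ht'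
    have := β.injective (ht'.trans (map_one β).symm)
    exact yBar_ne_one i one_ne_zero this
  have heq : ∀ i, ρ' i = ρ i := by
    intro i
    by_contra hcon
    obtain ⟨a, ha, hxa⟩ := hne i
    obtain ⟨b, hb, hyb⟩ := hne' i
    have h1 := commute_xBar_yBar_of_ne hcon a b
    rw [← hxa, ← hyb] at h1
    have h2 : Commute (xBar i (1 : F)) (yBar i (1 : F)) := by
      unfold Commute SemiconjBy at h1 ⊢
      apply β.injective
      rw [map_mul, map_mul]
      exact h1
    exact not_commute_xBar_yBar hm2 i one_ne_zero one_ne_zero h2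
  have hadj : ∀ i j : Fin m, j.val = i.val + 1 →
      (ρ' j).val = (ρ' i).val + 1 ∨ (ρ' i).val = (ρ' j).val + 1 := by
    intro i j hij
    by_contra hcon
    rw [not_or] at hcon
    obtain ⟨a, ha, hxa⟩ := hne i
    obtain ⟨b, hb, hxb⟩ := hne j
    have h1 := commute_xBar_of_not_adj hcon.1 hcon.2 a b
    rw [← hxa, ← hxb] at h1
    have h2 : Commute (xBar i (1 : F)) (xBar j (1 : F)) := by
      unfold Commute SemiconjBy at h1 ⊢
      apply β.injective
      rw [map_mul, map_mul]
      exact h1
    exact not_commute_xBar_adj hij one_ne_zero one_ne_zero h2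
  refine ⟨ρ', path_auto m ρ' hρ' hadj, hx, fun i t => ?_⟩
  rw [heq]
  exact hy i t

/-- Every permutation is the permutation of some monomial element of `SL_{m+1}(F)`. -/
theorem exists_mono_perm (σ : Equiv.Perm (Fin (m + 1))) :
    ∃ g : SpecialLinearGroup (Fin (m + 1)) F,
      IsMono (g : Matrix (Fin (m + 1)) (Fin (m + 1)) F) σ := by
  induction σ using Submonoid.induction_of_closure_eq_top_left
    (Equiv.Perm.mclosure_swap_castSucc_succ m) with
  | one => exact ⟨1, by rw [Matrix.SpecialLinearGroup.coe_one]; exact IsMono.one⟩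
  | mul_left x hx y ih =>
    obtain ⟨i, rfl⟩ := hx
    obtain ⟨g, hg⟩ := ih
    exact ⟨sRef i * g, by
      rw [Matrix.SpecialLinearGroup.coe_mul]
      exact (sRef_isMono i).mul hg⟩

/-- The graph automorphism attached to a monomial element. -/
def graphAut (w : SpecialLinearGroup (Fin (m + 1)) F) :
    MulAut (ProjectiveSpecialLinearGroup (Fin (m + 1)) F) :=
  quotAut (MulAut.conj w * tauAut)

theorem graphAut_xBar {w : SpecialLinearGroup (Fin (m + 1)) F}
    (hw : IsMono (w : Matrix (Fin (m + 1)) (Fin (m + 1)) F) Fin.revPerm) (i : Fin m) (t : F) :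
    ∃ t' : F, graphAut w (xBar i t) = xBar (Fin.rev i) t' := by
  unfold graphAut xBar
  rw [quotAut_pi, MulAut.mul_apply, tauAut_transvection, MulAut.conj_apply,
    mono_conj_transvection hw]
  refine ⟨-t * (w : Matrix (Fin (m + 1)) (Fin (m + 1)) F) (Fin.revPerm i.succ) i.succ *
    ((w⁻¹ : SpecialLinearGroup (Fin (m + 1)) F) : Matrix (Fin (m + 1)) (Fin (m + 1)) F)
      i.castSucc (Fin.revPerm i.castSucc), ?_⟩
  congr 1
  apply transvection_congr
  · rw [Fin.revPerm_apply, Fin.rev_succ]
  · rw [Fin.revPerm_apply, Fin.rev_castSucc]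

theorem graphAut_yBar {w : SpecialLinearGroup (Fin (m + 1)) F}
    (hw : IsMono (w : Matrix (Fin (m + 1)) (Fin (m + 1)) F) Fin.revPerm) (i : Fin m) (t : F) :
    ∃ t' : F, graphAut w (yBar i t) = yBar (Fin.rev i) t' := by
  unfold graphAut yBar
  rw [quotAut_pi, MulAut.mul_apply, tauAut_transvection, MulAut.conj_apply,
    mono_conj_transvection hw]
  refine ⟨-t * (w : Matrix (Fin (m + 1)) (Fin (m + 1)) F) (Fin.revPerm i.castSucc) i.castSucc *
    ((w⁻¹ : SpecialLinearGroup (Fin (m + 1)) F) : Matrix (Fin (m + 1)) (Fin (m + 1)) F)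
      i.succ (Fin.revPerm i.succ), ?_⟩
  congr 1
  apply transvection_congr
  · rw [Fin.revPerm_apply, Fin.rev_castSucc]
  · rw [Fin.revPerm_apply, Fin.rev_succ]

end

end Cfsg.Agent.Lib.Helper5.SLnBN
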