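import Mathlib
import Cfsg.Agent.Lib.Helper5.CoreGen
import Cfsg.Agent.Lib.Helper5.SLnAutMain2

set_option autoImplicit false

/-!
Automorphisms of `PSL_{m+1}(F)`: an automorphism preserving every simple root subgroup and its
opposite is diagonal-times-field.
-/

namespace Cfsg.Agent.Lib.Helper5.SLnBN

open Matrix Matrix.SpecialLinearGroup Cfsg.Agent.Lib.Helper5.SLnAut
open Cfsg.Agent.Lib.Helper5.PSL2Aut (xm ym core_gen)
open scoped commutatorElement

section
variable {ι : Type*} [Fintype ι] [DecidableEq ι] {F : Type*} [Field F]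

/-- The diagonal element of `GL_n(F)` with prescribed diagonal. -/
def diagGL (d : ι → Fˣ) : GL ι F :=
  ⟨Matrix.diagonal (fun k => (d k : F)), Matrix.diagonal (fun k => (((d k)⁻¹ : Fˣ) : F)), by
    rw [Matrix.diagonal_mul_diagonal]
    simp, by
    rw [Matrix.diagonal_mul_diagonal]
    simp⟩

theorem diagGL_coe (d : ι → Fˣ) :
    ((diagGL d : GL ι F) : Matrix ι ι F) = Matrix.diagonal (fun k => (d k : F)) := rfl

theorem diagGL_inv_coe (d : ι → Fˣ) :
    (((diagGL d)⁻¹ : GL ι F) : Matrix ι ι F)
      = Matrix.diagonal (fun k => (((d k)⁻¹ : Fˣ) : F)) := rfl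

theorem glConj_diagGL_transvection (d : ι → Fˣ) {a b : ι} (hab : a ≠ b) (t : F) :
    glConj (diagGL d) (transvection hab t : SpecialLinearGroup ι F)
      = transvection hab ((d a : F) * t * (((d b)⁻¹ : Fˣ) : F)) := by
  apply Subtype.ext
  rw [glConj_coe, diagGL_coe, diagGL_inv_coe, transvection_coe, transvection_coe]
  ext k l
  rw [Matrix.mul_diagonal, Matrix.diagonal_mul, Matrix.add_apply, Matrix.add_apply,
    Matrix.one_apply, Matrix.single_apply, Matrix.single_apply]
  by_cases hkl : k = l
  · subst hkl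
    rw [if_pos rfl, if_neg (fun h => hab (h.1.trans h.2.symm)),
      if_neg (fun h => hab (h.1.trans h.2.symm)), add_zero, mul_one,
      Units.mul_inv]
  · rw [if_neg hkl, zero_add, zero_add]
    by_cases h : a = k ∧ b = l
    · obtain ⟨rfl, rfl⟩ := h
      rw [if_pos ⟨rfl, rfl⟩, if_pos ⟨rfl, rfl⟩]
    · rw [if_neg h, if_neg h, mul_zero, zero_mul]

theorem fieldAut_transvection (σ : F ≃+* F) {a b : ι} (hab : a ≠ b) (t : F) :
    fieldAut σ (transvection hab t : SpecialLinearGroup ι F) = transvection hab (σ t) := by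
  apply Subtype.ext
  ext k l
  rw [fieldAut_apply_coe, transvection_coe, transvection_coe, Matrix.add_apply, Matrix.add_apply,
    Matrix.one_apply, Matrix.single_apply, Matrix.single_apply, map_add]
  congr 1
  · split_ifs <;> simp
  · split_ifs <;> simp

theorem semi_rootBar (d : ι → Fˣ) (σ : F ≃+* F) {a b : ι} (hab : a ≠ b) (t : F) :
    semi (diagGL d) σ (rootBar hab t)
      = rootBar hab ((d a : F) * σ t * (((d b)⁻¹ : Fˣ) : F)) := by
  unfold rootBar
  rw [semi_pi, fieldAut_transvection, glConj_diagGL_transvection]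

theorem aut_mul_conj {G : Type*} [Group G] (β : MulAut G) (q : G) :
    β * MulAut.conj q = MulAut.conj (β q) * β := by
  apply MulEquiv.ext
  intro x
  rw [MulAut.mul_apply, MulAut.mul_apply, MulAut.conj_apply, MulAut.conj_apply, map_mul, map_mul,
    map_inv]

theorem fieldAut_one_apply (x : SpecialLinearGroup ι F) : fieldAut (1 : F ≃+* F) x = x := by
  rw [map_one]
  rfl

theorem conj_piN_eq_semi (x : SpecialLinearGroup ι F) :
    MulAut.conj (piN x) = semi (Matrix.SpecialLinearGroup.toGL x) (1 : F ≃+* F) := by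
  apply MulEquiv.ext
  intro q
  obtain ⟨y, rfl⟩ := piN_surjective q
  rw [semi_pi, fieldAut_one_apply, glConj_toGL, MulAut.conj_apply, map_mul, map_mul, map_inv]

theorem semi_one_mul_semi (g g' : GL ι F) (σ : F ≃+* F) :
    semi g (1 : F ≃+* F) * semi g' σ = semi (g * g') σ := by
  unfold semi
  rw [map_one, mul_one, ← map_mul, map_mul glConj, mul_assoc]


theorem semi_eq_mul (g : GL ι F) (σ : F ≃+* F) :
    semi g σ = semi g (1 : F ≃+* F) * semi (1 : GL ι F) σ := by
  rw [semi_one_mul_semi, mul_one]

end

section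
variable {m : ℕ} {F : Type*} [Field F]

/-- The rank one subgroups of `PSL_{m+1}(F)`. -/
def rankOne (i : Fin m) :
    SpecialLinearGroup (Fin 2) F →* ProjectiveSpecialLinearGroup (Fin (m + 1)) F :=
  piN.comp (blockEmb i.castSucc i.succ (castSucc_ne_succ i))

theorem rankOne_xm (i : Fin m) (t : F) : rankOne i (xm t) = xBar i t := by
  unfold rankOne xBar
  rw [MonoidHom.comp_apply, blockEmb_xm]

theorem rankOne_ym (i : Fin m) (t : F) : rankOne i (ym t) = yBar i t := by
  unfold rankOne yBar
  rw [MonoidHom.comp_apply, blockEmb_ym]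

theorem rankOne_ker (i : Fin m) (g : SpecialLinearGroup (Fin 2) F)
    (hg : rankOne (m := m) i g = 1) : g ∈ Subgroup.center (SpecialLinearGroup (Fin 2) F) := by
  unfold rankOne at hg
  rw [MonoidHom.comp_apply, piN_eq_one_iff] at hg
  rw [Subgroup.mem_center_iff]
  intro h
  apply blockEmb_injective i.castSucc i.succ (castSucc_ne_succ i)
  rw [map_mul, map_mul]
  exact Subgroup.mem_center_iff.1 hg _

/-- The diagonal attached to a family of simple root scalars. -/
def diagOf (u : Fin m → Fˣ) (k : Fin (m + 1)) : Fˣ :=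
  ∏ j : Fin m, if k.val ≤ j.val then u j else 1

theorem diagOf_castSucc (u : Fin m → Fˣ) (i : Fin m) :
    diagOf u i.castSucc = u i * diagOf u i.succ := by
  unfold diagOf
  have h : ∀ j : Fin m, (if i.castSucc.val ≤ j.val then u j else 1)
      = (if j = i then u i else 1) * (if i.succ.val ≤ j.val then u j else 1) := by
    intro j
    by_cases hji : j = i
    · subst hji
      simp
    · have hne : j.val ≠ i.val := fun e => hji (Fin.ext e)
      rw [if_neg hji, one_mul]
      simp only [Fin.val_castSucc, Fin.val_succ]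
      by_cases hle : i.val ≤ j.val
      · rw [if_pos hle, if_pos (by omega)]
      · rw [if_neg hle, if_neg (by omega)]
  rw [Finset.prod_congr rfl (fun j _ => h j), Finset.prod_mul_distrib, Finset.prod_ite_eq'
    Finset.univ i (fun _ => u i), if_pos (Finset.mem_univ i)]

end

section
variable {m : ℕ} {F : Type*} [Field F] [Fintype F]

/-- An automorphism preserving every simple root subgroup and its opposite is the composite of a
diagonal automorphism and a field automorphism. -/
theorem eq_semi_of_pres (hm : 1 ≤ m)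
    (β : MulAut (ProjectiveSpecialLinearGroup (Fin (m + 1)) F))
    (hx : ∀ (i : Fin m) (t : F), ∃ t' : F, β (xBar i t) = xBar i t')
    (hy : ∀ (i : Fin m) (t : F), ∃ t' : F, β (yBar i t) = yBar i t') :
    ∃ (d : Fin (m + 1) → Fˣ) (σ : F ≃+* F), β = semi (diagGL d) σ := by
  have key : ∀ i : Fin m, ∃ (u : Fˣ) (σ : F ≃+* F),
      (∀ t : F, β (xBar i t) = xBar i ((u : F) * σ t)) ∧
      (∀ s : F, β (yBar i s) = yBar i (((u⁻¹ : Fˣ) : F) * σ s)) := by
    intro i
    have := core_gen (rankOne (F := F) i) (rankOne_ker i) β.toMonoidHom β.injective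
      (fun t => by
        obtain ⟨t', ht'⟩ := hx i t
        exact ⟨t', by rw [rankOne_xm, rankOne_xm]; exact ht'⟩)
      (fun t => by
        obtain ⟨t', ht'⟩ := hy i t
        exact ⟨t', by rw [rankOne_ym, rankOne_ym]; exact ht'⟩)
    obtain ⟨u, σ, h1, h2⟩ := this
    refine ⟨u, σ, fun t => ?_, fun s => ?_⟩
    · have := h1 t
      rw [rankOne_xm, rankOne_xm] at this
      exact this
    · have := h2 s
      rw [rankOne_ym, rankOne_ym] at this
      exact this
  choose u σ hux huy using key
  -- adjacent field automorphisms agree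
  have hadj : ∀ i j : Fin m, j.val = i.val + 1 → σ i = σ j := by
    intro i j hij
    have e : j.castSucc = i.succ := Fin.ext (by simp [hij])
    have hbc : i.succ ≠ j.succ := by
      intro e'
      have := congrArg Fin.val e'
      simp at this
      omega
    have hac : i.castSucc ≠ j.succ := by
      intro e'
      have := congrArg Fin.val e'
      simp at this
      omega
    have hxj : ∀ t : F, xBar j t = rootBar hbc t := fun t =>
      rootBar_congr e rfl (castSucc_ne_succ j) hbc t
    have h1 : ∀ t s : F, β (rootBar hac (t * s))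
        = rootBar hac ((u i : F) * σ i t * ((u j : F) * σ j s)) := by
      intro t s
      rw [← rootBar_commutator (castSucc_ne_succ i) hbc hac, map_commutatorElement, ← xBar_eq,
        ← hxj, hux, hux, xBar_eq, hxj, rootBar_commutator (castSucc_ne_succ i) hbc hac]
    apply RingEquiv.ext
    intro r
    have h2 := h1 r 1
    have h3 := h1 1 r
    rw [mul_one] at h2
    rw [one_mul, h2] at h3
    have h4 := rootBar_injective hac h3
    rw [map_one, map_one] at h4
    have hui : (u i : F) ≠ 0 := Units.ne_zero _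
    have huj : (u j : F) ≠ 0 := Units.ne_zero _
    have h5 : (u i : F) * (u j : F) * (σ i r - σ j r) = 0 := by linear_combination h4
    rcases mul_eq_zero.1 h5 with h | h
    · exact absurd h (mul_ne_zero hui huj)
    · exact sub_eq_zero.1 h
  have hall : ∀ (k : ℕ) (hk : k < m), σ ⟨k, hk⟩ = σ ⟨0, by omega⟩ := by
    intro k
    induction k with
    | zero => intro _; rfl
    | succ k ih =>
      intro hk
      rw [← ih (by omega)]
      exact (hadj ⟨k, by omega⟩ ⟨k + 1, hk⟩ rfl).symm
  have hσ : ∀ i : Fin m, σ i = σ ⟨0, by omega⟩ := fun i => hall i.val i.2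
  refine ⟨diagOf u, σ ⟨0, by omega⟩, ?_⟩
  have hhom : (β : ProjectiveSpecialLinearGroup (Fin (m + 1)) F →*
      ProjectiveSpecialLinearGroup (Fin (m + 1)) F)
      = ((semi (diagGL (diagOf u)) (σ ⟨0, by omega⟩) :
        MulAut (ProjectiveSpecialLinearGroup (Fin (m + 1)) F)) :
        ProjectiveSpecialLinearGroup (Fin (m + 1)) F →*
          ProjectiveSpecialLinearGroup (Fin (m + 1)) F) := by
    apply hom_ext_simple hm
    · intro i t
      change β (xBar i t) = semi (diagGL (diagOf u)) (σ ⟨0, by omega⟩) (xBar i t)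
      rw [hux, xBar_eq, xBar_eq, semi_rootBar, diagOf_castSucc, hσ i]
      congr 1
      rw [Units.val_mul]
      have := Units.mul_inv (diagOf u i.succ)
      linear_combination (-(u i : F) * (σ ⟨0, by omega⟩) t) * this
    · intro i t
      change β (yBar i t) = semi (diagGL (diagOf u)) (σ ⟨0, by omega⟩) (yBar i t)
      rw [huy, yBar_eq, yBar_eq, semi_rootBar, diagOf_castSucc, hσ i]
      congr 1
      rw [mul_inv, Units.val_mul]
      have := Units.mul_inv (diagOf u i.succ)
      linear_combination (-((u i)⁻¹ : Fˣ) * (σ ⟨0, by omega⟩) t) * this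
  apply MulEquiv.ext
  intro q
  exact DFunLike.congr_fun hhom q

end

end Cfsg.Agent.Lib.Helper5.SLnBN
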