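import Mathlib
import Cfsg.Agent.Lib.Helper5.SLnAutMain3

set_option autoImplicit false

/-!
Automorphisms of `PSL_{m+1}(F)`, `m ≥ 2`: every automorphism is induced by a semilinear map,
possibly composed with the inverse transpose.
-/

namespace Cfsg.Agent.Lib.Helper5.SLnBN

open Matrix Matrix.SpecialLinearGroup Cfsg.Agent.Lib.Helper5.SLnAut

section
variable {m : ℕ} {F : Type*} [Field F] [Fintype F]

omit [Fintype F] in
theorem graphAut_eq (w : SpecialLinearGroup (Fin (m + 1)) F) :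
    graphAut w = MulAut.conj (piN w) * tauBar := by
  unfold graphAut tauBar
  rw [map_mul, quotAut_conj]

omit [Fintype F] in
theorem conj_mul_semi (q : ProjectiveSpecialLinearGroup (Fin (m + 1)) F)
    (g : GL (Fin (m + 1)) F) (σ : F ≃+* F) :
    ∃ g' : GL (Fin (m + 1)) F, MulAut.conj q * semi g σ = semi g' σ := by
  obtain ⟨x, rfl⟩ := piN_surjective q
  exact ⟨Matrix.SpecialLinearGroup.toGL x * g, by rw [conj_piN_eq_semi, semi_one_mul_semi]⟩

/-- Every automorphism of `PSL_{m+1}(F)`, `m ≥ 2`, is induced by a semilinear map, possibly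
composed with the inverse transpose. -/
theorem exists_semi_tau {p f : ℕ} [Fact p.Prime] (hf : 1 ≤ f) (hF : Fintype.card F = p ^ f)
    (hm2 : 2 ≤ m) (α : MulAut (ProjectiveSpecialLinearGroup (Fin (m + 1)) F)) :
    ∃ (g : GL (Fin (m + 1)) F) (σ : F ≃+* F), α = semi g σ ∨ α = semi g σ * tauBar := by
  obtain ⟨c, hU, hV⟩ := exists_normalize hf hF (by omega) α
  obtain ⟨β, hβ⟩ : ∃ β : MulAut (ProjectiveSpecialLinearGroup (Fin (m + 1)) F),
      β = MulAut.conj c * α := ⟨_, rfl⟩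
  rw [← hβ] at hU hV
  have hα : α = MulAut.conj c⁻¹ * β := by
    rw [hβ, ← mul_assoc, ← map_mul, inv_mul_cancel, map_one, one_mul]
  obtain ⟨ρ, hρ, hx, hy⟩ := exists_perm_common hm2 β hU hV
  rcases hρ with hρ | hρ
  · -- no graph automorphism
    have hx' : ∀ (i : Fin m) (t : F), ∃ t' : F, β (xBar i t) = xBar i t' := by
      intro i t
      obtain ⟨t', ht'⟩ := hx i t
      exact ⟨t', by rw [ht', hρ]⟩
    have hy' : ∀ (i : Fin m) (t : F), ∃ t' : F, β (yBar i t) = yBar i t' := by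
      intro i t
      obtain ⟨t', ht'⟩ := hy i t
      exact ⟨t', by rw [ht', hρ]⟩
    obtain ⟨d, σ, hd⟩ := eq_semi_of_pres (by omega) β hx' hy'
    obtain ⟨g', hg'⟩ := conj_mul_semi c⁻¹ (diagGL d) σ
    exact ⟨g', σ, Or.inl (by rw [hα, hd, hg'])⟩
  · -- compose with the graph automorphism
    obtain ⟨w, hw⟩ := exists_mono_perm (F := F) (m := m) Fin.revPerm
    have hx' : ∀ (i : Fin m) (t : F), ∃ t' : F, (β * graphAut w) (xBar i t) = xBar i t' := by
      intro i t
      obtain ⟨t₁, ht₁⟩ := graphAut_xBar hw i t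
      obtain ⟨t', ht'⟩ := hx (Fin.rev i) t₁
      exact ⟨t', by rw [MulAut.mul_apply, ht₁, ht', hρ, Fin.rev_rev]⟩
    have hy' : ∀ (i : Fin m) (t : F), ∃ t' : F, (β * graphAut w) (yBar i t) = yBar i t' := by
      intro i t
      obtain ⟨t₁, ht₁⟩ := graphAut_yBar hw i t
      obtain ⟨t', ht'⟩ := hy (Fin.rev i) t₁
      exact ⟨t', by rw [MulAut.mul_apply, ht₁, ht', hρ, Fin.rev_rev]⟩
    obtain ⟨d, σ, hd⟩ := eq_semi_of_pres (by omega) (β * graphAut w) hx' hy'
    -- unwind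
    have h1 : β = semi (diagGL d) σ * (graphAut w)⁻¹ := by
      rw [← hd]
      group
    have h2 : (graphAut w)⁻¹ = MulAut.conj (tauBar (piN w⁻¹)) * tauBar := by
      rw [graphAut_eq, _root_.mul_inv_rev, ← map_inv, ← aut_mul_conj, ← map_inv]
      congr 1
    have h3 : α = MulAut.conj (c⁻¹ * semi (diagGL d) σ (tauBar (piN w⁻¹))) * semi (diagGL d) σ
        * tauBar := by
      rw [hα, h1, h2, map_mul, ← mul_assoc, ← mul_assoc, mul_assoc (MulAut.conj c⁻¹),
        aut_mul_conj]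
      group
    obtain ⟨g', hg'⟩ := conj_mul_semi (c⁻¹ * semi (diagGL d) σ (tauBar (piN w⁻¹))) (diagGL d) σ
    exact ⟨g', σ, Or.inr (by rw [h3, hg'])⟩

end

end Cfsg.Agent.Lib.Helper5.SLnBN
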