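import Mathlib
import Cfsg.Prelude.Def_LieTypeDatum
import Cfsg.Agent.Lib.Helper5.PSL2Aut4
import Cfsg.Agent.Lib.Helper5.SLnAutMain4

set_option autoImplicit false

/-!
The automorphisms `semi g σ` and `tauBar` of `PSL_n(F)` satisfy the predicates of the statements;
the factorization of an arbitrary automorphism for all `n ≥ 2`.
-/

namespace Cfsg.Agent.Lib.Helper5.SLnBN

open Matrix Matrix.SpecialLinearGroup Cfsg.Agent.Lib.Helper5.SLnAut

section
variable {n : ℕ} {F : Type*} [Field F]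

theorem isInducedBySemilinear_semi (g : GL (Fin n) F) (σ : F ≃+* F) :
    Cfsg.IsInducedBySemilinearPSL g σ (semi g σ) := by
  intro s s' h
  change semi g σ (piN s) = piN s'
  rw [semi_pi]
  congr 1
  apply Subtype.ext
  rw [h, glConj_coe, fieldAut_coe]

theorem isInnerDiagonal_semi_one (g : GL (Fin n) F) :
    Cfsg.IsInnerDiagonalAutPSL (semi g (1 : F ≃+* F)) := by
  refine ⟨g, fun s s' h => ?_⟩
  change semi g 1 (piN s) = piN s'
  rw [semi_pi, fieldAut_one_apply]
  congr 1
  apply Subtype.ext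
  rw [h, glConj_coe]

theorem isStdFieldAut_semi_one (σ : F ≃+* F) :
    Cfsg.IsStdFieldAutPSL σ (semi (1 : GL (Fin n) F) σ) := by
  intro s s' h
  change semi 1 σ (piN s) = piN s'
  rw [semi_pi, map_one]
  congr 1
  apply Subtype.ext
  rw [h]
  rfl

theorem isInverseTranspose_tauBar :
    Cfsg.IsInverseTransposeAutPSL (tauBar : MulAut (ProjectiveSpecialLinearGroup (Fin n) F)) := by
  intro s s' h
  change tauBar (piN s) = piN s'
  rw [tauBar_pi]
  congr 1
  apply Subtype.ext
  rw [h, tauAut_coe]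

end

section
variable {F : Type*} [Field F]

theorem semi_two_eq (g : GL (Fin 2) F) (σ : F ≃+* F) :
    Cfsg.Agent.Lib.Helper5.PSL2Aut.semi g σ = semi g σ := by
  apply MulEquiv.ext
  intro q
  obtain ⟨x, rfl⟩ := piN_surjective q
  rfl

end

section
variable {F : Type*} [Field F] [Fintype F]

/-- Every automorphism of `PSL_n(F)`, `n ≥ 2`, is induced by a semilinear map, possibly composed
with the inverse transpose. -/
theorem exists_semi_tau_all {p f : ℕ} [Fact p.Prime] (hf : 1 ≤ f) (hF : Fintype.card F = p ^ f)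
    {n : ℕ} (hn : 2 ≤ n) (α : MulAut (ProjectiveSpecialLinearGroup (Fin n) F)) :
    ∃ (g : GL (Fin n) F) (σ : F ≃+* F), α = semi g σ ∨ α = semi g σ * tauBar := by
  obtain ⟨m, rfl⟩ : ∃ m, n = m + 1 := ⟨n - 1, by omega⟩
  by_cases hm : m = 1
  · subst hm
    obtain ⟨g, σ, h⟩ := Cfsg.Agent.Lib.Helper5.PSL2Aut.exists_semi hf hF α
    exact ⟨g, σ, Or.inl (by rw [h, semi_two_eq])⟩
  · exact exists_semi_tau hf hF (by omega) α

end

end Cfsg.Agent.Lib.Helper5.SLnBN
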