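import Mathlib
import Cfsg.Agent.Lib.Helper5.SLnAut1

set_option autoImplicit false

/-!
Composition rules for the automorphisms of `SL_n(F)` and `PSL_n(F)` induced by `GL_n(F)`, field
automorphisms and the inverse transpose.
-/

namespace Cfsg.Agent.Lib.Helper5.SLnAut

open Matrix Matrix.SpecialLinearGroup

section
variable {ι : Type*} [Fintype ι] [DecidableEq ι] {F : Type*} [Field F]

theorem fieldAut_coe' (σ : F ≃+* F) (x : SpecialLinearGroup ι F) :
    (fieldAut σ x : Matrix ι ι F) = (σ : F →+* F).mapMatrix (x : Matrix ι ι F) := rfl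

theorem fieldAut_glConj (σ : F ≃+* F) (g : GL ι F) (x : SpecialLinearGroup ι F) :
    fieldAut σ (glConj g x)
      = glConj (Matrix.GeneralLinearGroup.map (σ : F →+* F) g) (fieldAut σ x) := by
  apply Subtype.ext
  rw [fieldAut_coe', glConj_coe, glConj_coe, map_mul, map_mul, fieldAut_coe', ← map_inv]
  rfl

theorem semi_mul_semi (g g' : GL ι F) (σ σ' : F ≃+* F) :
    semi g σ * semi g' σ'
      = semi (g * Matrix.GeneralLinearGroup.map (σ : F →+* F) g') (σ * σ') := by
  apply MulEquiv.ext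
  intro q
  obtain ⟨x, rfl⟩ := piN_surjective q
  rw [MulAut.mul_apply, semi_pi, semi_pi, semi_pi, map_mul, MulAut.mul_apply, fieldAut_glConj,
    map_mul, MulAut.mul_apply]

/-- The inverse transpose on `GL_n(F)`. -/
def tauGL (g : GL ι F) : GL ι F :=
  ⟨((g⁻¹ : GL ι F) : Matrix ι ι F).transpose, (g : Matrix ι ι F).transpose, by
    rw [← Matrix.transpose_mul, ← Units.val_mul, mul_inv_cancel, Units.val_one,
      Matrix.transpose_one], by
    rw [← Matrix.transpose_mul, ← Units.val_mul, inv_mul_cancel, Units.val_one,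
      Matrix.transpose_one]⟩

theorem tauGL_coe (g : GL ι F) :
    ((tauGL g : GL ι F) : Matrix ι ι F) = ((g⁻¹ : GL ι F) : Matrix ι ι F).transpose := rfl

theorem tauGL_inv_coe (g : GL ι F) :
    (((tauGL g)⁻¹ : GL ι F) : Matrix ι ι F) = (g : Matrix ι ι F).transpose := rfl

theorem coe_inv_mul_coe (x : SpecialLinearGroup ι F) :
    ((x⁻¹ : SpecialLinearGroup ι F) : Matrix ι ι F) * (x : Matrix ι ι F) = 1 := by
  rw [← Matrix.SpecialLinearGroup.coe_mul, inv_mul_cancel, Matrix.SpecialLinearGroup.coe_one]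

theorem coe_mul_coe_inv (x : SpecialLinearGroup ι F) :
    (x : Matrix ι ι F) * ((x⁻¹ : SpecialLinearGroup ι F) : Matrix ι ι F) = 1 := by
  rw [← Matrix.SpecialLinearGroup.coe_mul, mul_inv_cancel, Matrix.SpecialLinearGroup.coe_one]

theorem glConj_inv_coe (g : GL ι F) (x : SpecialLinearGroup ι F) :
    (((glConj g x)⁻¹ : SpecialLinearGroup ι F) : Matrix ι ι F)
      = (g : Matrix ι ι F) * ((x⁻¹ : SpecialLinearGroup ι F) : Matrix ι ι F) *
        ((g⁻¹ : GL ι F) : Matrix ι ι F) := by
  rw [← map_inv, glConj_coe]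

theorem tauAut_glConj (g : GL ι F) (x : SpecialLinearGroup ι F) :
    tauAut (glConj g x) = glConj (tauGL g) (tauAut x) := by
  apply Subtype.ext
  rw [tauAut_coe, glConj_inv_coe, glConj_coe, tauGL_coe, tauGL_inv_coe, tauAut_coe,
    Matrix.transpose_mul, Matrix.transpose_mul, Matrix.mul_assoc]

theorem tauAut_fieldAut (σ : F ≃+* F) (x : SpecialLinearGroup ι F) :
    tauAut (fieldAut σ x) = fieldAut σ (tauAut x) := by
  apply Subtype.ext
  rw [tauAut_coe, ← map_inv, fieldAut_coe, fieldAut_coe, tauAut_coe, Matrix.transpose_map]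

theorem tauBar_mul_semi (g : GL ι F) (σ : F ≃+* F) :
    tauBar * semi g σ = semi (tauGL g) σ * tauBar := by
  apply MulEquiv.ext
  intro q
  obtain ⟨x, rfl⟩ := piN_surjective q
  rw [MulAut.mul_apply, MulAut.mul_apply, semi_pi, tauBar_pi, tauBar_pi, semi_pi, tauAut_glConj,
    tauAut_fieldAut]

theorem glConj_scalar (z : Fˣ) :
    glConj (Matrix.GeneralLinearGroup.scalar ι z : GL ι F) = 1 := by
  apply MulEquiv.ext
  intro x
  apply Subtype.ext
  rw [glConj_coe, ← map_inv, Matrix.GeneralLinearGroup.coe_scalar,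
    Matrix.GeneralLinearGroup.coe_scalar,
    (Matrix.scalar_commute (z : F) (fun r' => Commute.all _ _) (x : Matrix ι ι F)).eq,
    Matrix.mul_assoc, ← map_mul, ← Units.val_mul, mul_inv_cancel, Units.val_one, map_one,
    Matrix.mul_one]
  rfl

theorem glConj_eq_of_smul (g g' : GL ι F) (z : F) (hz : z ≠ 0)
    (h : (g : Matrix ι ι F) = z • (g' : Matrix ι ι F)) : glConj g = glConj g' := by
  have hg : g = Matrix.GeneralLinearGroup.scalar ι (Units.mk0 z hz) * g' := by
    apply Units.ext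
    rw [Units.val_mul, Matrix.GeneralLinearGroup.coe_scalar, h, Units.val_mk0,
      Matrix.scalar_apply, ← Matrix.smul_eq_diagonal_mul]
  rw [hg, map_mul, glConj_scalar, one_mul]

theorem semi_eq_of_smul (g g' : GL ι F) (σ : F ≃+* F) (z : F) (hz : z ≠ 0)
    (h : (g : Matrix ι ι F) = z • (g' : Matrix ι ι F)) : semi g σ = semi g' σ := by
  unfold semi
  rw [glConj_eq_of_smul g g' z hz h]

end

end Cfsg.Agent.Lib.Helper5.SLnAut
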