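import Mathlib
import Cfsg.Agent.Lib.Helper1.SLn
import Cfsg.Agent.Lib.Helper5.SLnOut1

set_option autoImplicit false

/-!
Uniqueness of the semilinear form of an automorphism of `PSL_n(F)`; the inverse transpose is not
induced by a semilinear map when `n ≥ 3`.
-/

namespace Cfsg.Agent.Lib.Helper5.SLnAut

open Matrix Matrix.SpecialLinearGroup

section
variable {ι : Type*} [Fintype ι] [DecidableEq ι] {F : Type*} [Field F]

theorem conj_transvection_sub_one_sq (g : GL ι F) {a b : ι} (hab : a ≠ b) (r : F) :
    (((glConj g (transvection hab r) : SpecialLinearGroup ι F) : Matrix ι ι F) - 1) *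
      (((glConj g (transvection hab r) : SpecialLinearGroup ι F) : Matrix ι ι F) - 1) = 0 := by
  have h1 : ((g⁻¹ : GL ι F) : Matrix ι ι F) * (g : Matrix ι ι F) = 1 := by
    rw [← Units.val_mul, inv_mul_cancel, Units.val_one]
  have h2 : (g : Matrix ι ι F) * ((g⁻¹ : GL ι F) : Matrix ι ι F) = 1 := by
    rw [← Units.val_mul, mul_inv_cancel, Units.val_one]
  have e : ((glConj g (transvection hab r) : SpecialLinearGroup ι F) : Matrix ι ι F) - 1
      = (g : Matrix ι ι F) * Matrix.single a b r * ((g⁻¹ : GL ι F) : Matrix ι ι F) := by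
    rw [glConj_coe, transvection_coe, Matrix.mul_add, Matrix.add_mul, Matrix.mul_one, h2,
      add_sub_cancel_left]
  rw [e]
  calc (g : Matrix ι ι F) * Matrix.single a b r * ((g⁻¹ : GL ι F) : Matrix ι ι F) *
        ((g : Matrix ι ι F) * Matrix.single a b r * ((g⁻¹ : GL ι F) : Matrix ι ι F))
      = (g : Matrix ι ι F) * Matrix.single a b r * (((g⁻¹ : GL ι F) : Matrix ι ι F) *
        (g : Matrix ι ι F)) * Matrix.single a b r * ((g⁻¹ : GL ι F) : Matrix ι ι F) := by
        simp only [Matrix.mul_assoc]
    _ = (g : Matrix ι ι F) * (Matrix.single a b r * Matrix.single a b r) *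
        ((g⁻¹ : GL ι F) : Matrix ι ι F) := by
        rw [h1, Matrix.mul_one]
        simp only [Matrix.mul_assoc]
    _ = 0 := by
        rw [Matrix.single_mul_single_of_ne _ _ _ _ hab.symm, Matrix.mul_zero, Matrix.zero_mul]

theorem eq_one_of_smul_transvection_sq {c d : ι} (hcd : c ≠ d) (s η : F)
    (h : (η • (1 + Matrix.single c d s : Matrix ι ι F) - 1) *
      (η • (1 + Matrix.single c d s : Matrix ι ι F) - 1) = 0) : η = 1 := by
  have e : η • (1 + Matrix.single c d s : Matrix ι ι F) - 1
      = (η - 1) • (1 : Matrix ι ι F) + Matrix.single c d (η * s) := by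
    rw [smul_add, Matrix.smul_single, smul_eq_mul, sub_smul, one_smul]
    abel
  rw [e] at h
  have h1 := congrFun (congrFun h c) c
  rw [Matrix.mul_apply] at h1
  have h2 : ∀ k : ι, ((η - 1) • (1 : Matrix ι ι F) + Matrix.single c d (η * s)) k c
      = if k = c then η - 1 else 0 := by
    intro k
    have hs : Matrix.single c d (η * s) k c = 0 := by
      rw [Matrix.single_apply, if_neg]
      rintro ⟨_, h⟩
      exact hcd h.symm
    rw [Matrix.add_apply, Matrix.smul_apply, hs, add_zero, smul_eq_mul, Matrix.one_apply]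
    by_cases hk : k = c
    · rw [if_pos hk, if_pos hk, mul_one]
    · rw [if_neg hk, if_neg hk, mul_zero]
  simp only [h2] at h1
  rw [Finset.sum_eq_single c] at h1
  · have hs : Matrix.single c d (η * s) c c = 0 := by
      rw [Matrix.single_apply, if_neg]
      rintro ⟨_, h⟩
      exact hcd h.symm
    rw [if_pos rfl, Matrix.add_apply, Matrix.smul_apply, Matrix.one_apply_eq, hs, add_zero,
      smul_eq_mul, mul_one, Matrix.zero_apply] at h1
    have h3 : η - 1 = 0 := by
      rcases mul_eq_zero.1 h1 with h | h <;> exact h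
    linear_combination h3
  · intro k _ hk
    rw [if_neg hk, mul_zero]
  · intro h
    exact absurd (Finset.mem_univ _) h

theorem fieldAut_transvection' (σ : F ≃+* F) {a b : ι} (hab : a ≠ b) (t : F) :
    fieldAut σ (transvection hab t : SpecialLinearGroup ι F) = transvection hab (σ t) := by
  apply Subtype.ext
  ext k l
  rw [fieldAut_apply_coe, transvection_coe, transvection_coe, Matrix.add_apply, Matrix.add_apply,
    Matrix.one_apply, Matrix.single_apply, Matrix.single_apply, map_add]
  congr 1
  · split_ifs <;> simp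
  · split_ifs <;> simp

theorem tauAut_transvection' {a b : ι} (hab : a ≠ b) (t : F) :
    tauAut (transvection hab t : SpecialLinearGroup ι F) = transvection hab.symm (-t) := by
  rw [tauAut_apply, transvection_inv]
  apply Subtype.ext
  rw [coe_transpose, transvection_coe, transvection_coe, Matrix.transpose_add,
    Matrix.transpose_one, Matrix.transpose_single]

/-- A conjugate of a root element which is a root element modulo the center is a root element. -/
theorem glConj_transvection_eq_of_piN_eq (g : GL ι F) {a b c d : ι} (hab : a ≠ b) (hcd : c ≠ d)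
    (r s : F) (h : piN (glConj g (transvection hab r)) = piN (transvection hcd s)) :
    glConj g (transvection hab r) = (transvection hcd s : SpecialLinearGroup ι F) := by
  rw [piN_eq_iff, Matrix.SpecialLinearGroup.mem_center_iff] at h
  obtain ⟨ζ, hζ, hz⟩ := h
  have hζ0 : ζ ≠ 0 := by
    intro h0
    rw [h0] at hζ
    rcases Nat.eq_zero_or_pos (Fintype.card ι) with hc | hc
    · have : IsEmpty ι := Fintype.card_eq_zero_iff.1 hc
      exact this.elim a
    · rw [zero_pow hc.ne'] at hζ
      exact zero_ne_one hζ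
  -- `Y = ζ • X`
  have hY : ((transvection hcd s : SpecialLinearGroup ι F) : Matrix ι ι F)
      = ζ • ((glConj g (transvection hab r) : SpecialLinearGroup ι F) : Matrix ι ι F) := by
    have h1 : ((glConj g (transvection hab r) : SpecialLinearGroup ι F) : Matrix ι ι F) *
        Matrix.scalar ι ζ = ((transvection hcd s : SpecialLinearGroup ι F) : Matrix ι ι F) := by
      rw [hz, Matrix.SpecialLinearGroup.coe_mul, ← Matrix.mul_assoc, coe_mul_coe_inv,
        Matrix.one_mul]
    rw [← h1, Matrix.scalar_apply, ← Matrix.smul_eq_mul_diagonal]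
  have hX : ((glConj g (transvection hab r) : SpecialLinearGroup ι F) : Matrix ι ι F)
      = ζ⁻¹ • ((transvection hcd s : SpecialLinearGroup ι F) : Matrix ι ι F) := by
    rw [hY, smul_smul, inv_mul_cancel₀ hζ0, one_smul]
  have hsq := conj_transvection_sub_one_sq g hab r
  rw [hX, transvection_coe] at hsq
  have hη := eq_one_of_smul_transvection_sq hcd s ζ⁻¹ hsq
  apply Subtype.ext
  rw [hX, hη, one_smul]

theorem glConj_mul_eq (g : GL ι F) (x : SpecialLinearGroup ι F) :
    ((glConj g x : SpecialLinearGroup ι F) : Matrix ι ι F) * (g : Matrix ι ι F)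
      = (g : Matrix ι ι F) * (x : Matrix ι ι F) := by
  rw [glConj_coe, Matrix.mul_assoc, ← Units.val_mul, inv_mul_cancel, Units.val_one,
    Matrix.mul_one]

theorem glConj_inv_glConj (g : GL ι F) (x : SpecialLinearGroup ι F) :
    glConj g⁻¹ (glConj g x) = x := by
  rw [← MulAut.mul_apply, ← map_mul, inv_mul_cancel, map_one]
  rfl

/-- Uniqueness of the semilinear form of an automorphism. -/
theorem semi_eq_semi [Nontrivial ι] (g g' : GL ι F) (σ σ' : F ≃+* F)
    (he : semi g σ = semi g' σ') :
    σ = σ' ∧ ∃ z : F, z ≠ 0 ∧ (g : Matrix ι ι F) = z • (g' : Matrix ι ι F) := by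
  obtain ⟨H, hH⟩ : ∃ H : GL ι F, H = g'⁻¹ * g := ⟨_, rfl⟩
  have key : ∀ {a b : ι} (hab : a ≠ b) (t : F),
      (H : Matrix ι ι F) * Matrix.single a b (σ t)
        = Matrix.single a b (σ' t) * (H : Matrix ι ι F) := by
    intro a b hab t
    have h1 := DFunLike.congr_fun he (piN (transvection hab t))
    rw [semi_pi, semi_pi, fieldAut_transvection', fieldAut_transvection'] at h1
    have h2 := congrArg (quotAut (glConj g'⁻¹)) h1
    rw [quotAut_pi, quotAut_pi, glConj_inv_glConj, ← MulAut.mul_apply, ← map_mul, ← hH] at h2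
    have h3 := glConj_transvection_eq_of_piN_eq H hab hab _ _ h2
    have h4 := glConj_mul_eq H (transvection hab (σ t))
    rw [h3, transvection_coe, transvection_coe, Matrix.add_mul, Matrix.mul_add, Matrix.one_mul,
      Matrix.mul_one] at h4
    exact (add_left_cancel h4).symm
  -- off-diagonal entries vanish
  have hoff : ∀ k a : ι, k ≠ a → (H : Matrix ι ι F) k a = 0 := by
    intro k a hka
    obtain ⟨b, hb⟩ := exists_ne a
    have h1 := congrFun (congrFun (key hb.symm 1) k) b
    rw [Matrix.mul_single_apply_same, Matrix.single_mul_apply_of_ne _ _ _ _ _ hka, map_one,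
      mul_one] at h1
    exact h1
  have hdiag : ∀ a b : ι, a ≠ b → ∀ t : F,
      (H : Matrix ι ι F) a a * σ t = σ' t * (H : Matrix ι ι F) b b := by
    intro a b hab t
    have h1 := congrFun (congrFun (key hab t) a) b
    rw [Matrix.mul_single_apply_same, Matrix.single_mul_apply_same] at h1
    exact h1
  obtain ⟨a₀⟩ : Nonempty ι := inferInstance
  obtain ⟨z, hz⟩ : ∃ z : F, z = (H : Matrix ι ι F) a₀ a₀ := ⟨_, rfl⟩
  have hzall : ∀ a : ι, (H : Matrix ι ι F) a a = z := by
    intro a
    by_cases ha : a = a₀
    · rw [ha, hz]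
    · have := hdiag a a₀ ha 1
      rw [map_one, map_one, mul_one, one_mul] at this
      rw [this, hz]
  have hHz : (H : Matrix ι ι F) = z • (1 : Matrix ι ι F) := by
    ext k l
    rw [Matrix.smul_apply, Matrix.one_apply, smul_eq_mul]
    by_cases hkl : k = l
    · rw [hkl, hzall, if_pos rfl, mul_one]
    · rw [hoff k l hkl, if_neg hkl, mul_zero]
  have hz0 : z ≠ 0 := by
    intro h0
    rw [h0, zero_smul] at hHz
    have h1 : (H : Matrix ι ι F) * ((H⁻¹ : GL ι F) : Matrix ι ι F) = 1 := by
      rw [← Units.val_mul, mul_inv_cancel, Units.val_one]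
    rw [hHz, Matrix.zero_mul] at h1
    have := congrFun (congrFun h1 a₀) a₀
    rw [Matrix.zero_apply, Matrix.one_apply_eq] at this
    exact zero_ne_one this
  refine ⟨?_, z, hz0, ?_⟩
  · apply RingEquiv.ext
    intro t
    obtain ⟨b, hb⟩ := exists_ne a₀
    have := hdiag a₀ b hb.symm t
    rw [hzall, hzall, mul_comm (σ' t)] at this
    exact mul_left_cancel₀ hz0 this
  · have h1 : (g : Matrix ι ι F) = (g' : Matrix ι ι F) * (H : Matrix ι ι F) := by
      rw [hH, ← Units.val_mul, mul_inv_cancel_left]
    rw [h1, hHz, Matrix.mul_smul, Matrix.mul_one]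

end

section
variable {n : ℕ} {F : Type*} [Field F]

/-- For `n ≥ 3` the inverse transpose is not induced by a semilinear map. -/
theorem tauBar_ne_semi (hn : 3 ≤ n) (g : GL (Fin n) F) (σ : F ≃+* F) :
    (tauBar : MulAut (ProjectiveSpecialLinearGroup (Fin n) F)) ≠ semi g σ := by
  intro he
  have key : ∀ {a b : Fin n} (hab : a ≠ b),
      (g : Matrix (Fin n) (Fin n) F) * Matrix.single a b (1 : F)
        = Matrix.single b a (-1 : F) * (g : Matrix (Fin n) (Fin n) F) := by
    intro a b hab
    have h1 := DFunLike.congr_fun he (piN (transvection hab 1))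
    rw [semi_pi, tauBar_pi, fieldAut_transvection', tauAut_transvection', map_one] at h1
    have h3 := glConj_transvection_eq_of_piN_eq g hab hab.symm _ _ h1.symm
    have h4 := glConj_mul_eq g (transvection hab (1 : F))
    rw [h3, transvection_coe, transvection_coe, Matrix.add_mul, Matrix.mul_add, Matrix.one_mul,
      Matrix.mul_one] at h4
    exact (add_left_cancel h4).symm
  have hzero : ∀ k a : Fin n, (g : Matrix (Fin n) (Fin n) F) k a = 0 := by
    intro k a
    obtain ⟨b, hbk, hba⟩ := Cfsg.Agent.Lib.Helper1.exists_third hn k a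
    have h1 := congrFun (congrFun (key hba.symm) k) b
    rw [Matrix.mul_single_apply_same, Matrix.single_mul_apply_of_ne _ _ _ _ _ hbk.symm,
      mul_one] at h1
    exact h1
  have h1 : (g : Matrix (Fin n) (Fin n) F) * ((g⁻¹ : GL (Fin n) F) : Matrix (Fin n) (Fin n) F)
      = 1 := by
    rw [← Units.val_mul, mul_inv_cancel, Units.val_one]
  have hg0 : (g : Matrix (Fin n) (Fin n) F) = 0 := by
    ext k a
    exact hzero k a
  rw [hg0, Matrix.zero_mul] at h1
  have := congrFun (congrFun h1 ⟨0, by omega⟩) ⟨0, by omega⟩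
  rw [Matrix.zero_apply, Matrix.one_apply_eq] at this
  exact zero_ne_one this

end

end Cfsg.Agent.Lib.Helper5.SLnAut
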