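import Mathlib
import Cfsg.Agent.Lib.Helper5.SLnOut2
import Cfsg.Agent.Lib.Helper5.SLnAutPred

set_option autoImplicit false

/-!
The homomorphism from `Aut(PSL_n(F))`, `n ≥ 3`, to the product of the group of field
automorphisms and a group of order two.
-/

namespace Cfsg.Agent.Lib.Helper5.SLnAut

open Matrix Matrix.SpecialLinearGroup

section
variable {n : ℕ} {F : Type*} [Field F]

/-- Powers of the inverse transpose indexed by `ZMod 2`. -/
def tauPow (ε : ZMod 2) : MulAut (ProjectiveSpecialLinearGroup (Fin n) F) :=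
  if ε = 0 then 1 else tauBar

theorem tauPow_zero : tauPow (0 : ZMod 2) = (1 : MulAut (ProjectiveSpecialLinearGroup (Fin n) F)) :=
  if_pos rfl

theorem tauPow_one : tauPow (1 : ZMod 2)
    = (tauBar : MulAut (ProjectiveSpecialLinearGroup (Fin n) F)) :=
  if_neg (by decide)

theorem zmod2_cases (ε : ZMod 2) : ε = 0 ∨ ε = 1 := by
  revert ε
  decide

theorem tauPow_add (a b : ZMod 2) :
    (tauPow (a + b) : MulAut (ProjectiveSpecialLinearGroup (Fin n) F)) = tauPow a * tauPow b := by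
  rcases zmod2_cases a with rfl | rfl <;> rcases zmod2_cases b with rfl | rfl
  · rw [add_zero, tauPow_zero, one_mul]
  · rw [zero_add, tauPow_zero, one_mul]
  · rw [add_zero, tauPow_zero, mul_one]
  · have : (1 : ZMod 2) + 1 = 0 := by decide
    rw [this, tauPow_zero, tauPow_one, tauBar_mul_self]

/-- The standard form of an automorphism. -/
def std (g : GL (Fin n) F) (σ : F ≃+* F) (ε : ZMod 2) :
    MulAut (ProjectiveSpecialLinearGroup (Fin n) F) :=
  semi g σ * tauPow ε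

theorem tauPow_mul_semi (ε : ZMod 2) (g : GL (Fin n) F) (σ : F ≃+* F) :
    ∃ g' : GL (Fin n) F, tauPow ε * semi g σ = semi g' σ * tauPow ε := by
  rcases zmod2_cases ε with rfl | rfl
  · exact ⟨g, by rw [tauPow_zero, one_mul, mul_one]⟩
  · exact ⟨tauGL g, by rw [tauPow_one, tauBar_mul_semi]⟩

theorem std_mul_std (g g' : GL (Fin n) F) (σ σ' : F ≃+* F) (ε ε' : ZMod 2) :
    ∃ g'' : GL (Fin n) F, std g σ ε * std g' σ' ε' = std g'' (σ * σ') (ε + ε') := by
  obtain ⟨g₁, hg₁⟩ := tauPow_mul_semi ε g' σ'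
  refine ⟨g * Matrix.GeneralLinearGroup.map (σ : F →+* F) g₁, ?_⟩
  unfold std
  rw [tauPow_add, ← semi_mul_semi, mul_assoc, ← mul_assoc (tauPow ε), hg₁]
  simp only [mul_assoc]

theorem semi_inv (g : GL (Fin n) F) (σ : F ≃+* F) :
    ∃ g' : GL (Fin n) F, (semi g σ)⁻¹ = semi g' σ⁻¹ := by
  refine ⟨Matrix.GeneralLinearGroup.map ((σ⁻¹ : F ≃+* F) : F →+* F) g⁻¹, ?_⟩
  apply inv_eq_of_mul_eq_one_left
  rw [semi_mul_semi, ← map_mul, inv_mul_cancel, map_one, inv_mul_cancel, semi_one_one]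

theorem std_eq_std (hn : 3 ≤ n) (g g' : GL (Fin n) F) (σ σ' : F ≃+* F) (ε ε' : ZMod 2)
    (h : std g σ ε = std g' σ' ε') : σ = σ' ∧ ε = ε' := by
  have : Nontrivial (Fin n) := Fin.nontrivial_iff_two_le.2 (by omega)
  unfold std at h
  rcases zmod2_cases ε with rfl | rfl <;> rcases zmod2_cases ε' with rfl | rfl
  · rw [tauPow_zero, mul_one, mul_one] at h
    exact ⟨(semi_eq_semi _ _ _ _ h).1, rfl⟩
  · exfalso
    rw [tauPow_zero, tauPow_one, mul_one] at h
    obtain ⟨g₁, hg₁⟩ := semi_inv g' σ'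
    have h1 : (tauBar : MulAut (ProjectiveSpecialLinearGroup (Fin n) F))
        = (semi g' σ')⁻¹ * semi g σ := by
      rw [h]
      group
    rw [hg₁, semi_mul_semi] at h1
    exact tauBar_ne_semi hn _ _ h1
  · exfalso
    rw [tauPow_zero, tauPow_one, mul_one] at h
    obtain ⟨g₁, hg₁⟩ := semi_inv g σ
    have h1 : (tauBar : MulAut (ProjectiveSpecialLinearGroup (Fin n) F))
        = (semi g σ)⁻¹ * semi g' σ' := by
      rw [← h]
      group
    rw [hg₁, semi_mul_semi] at h1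
    exact tauBar_ne_semi hn _ _ h1
  · rw [tauPow_one] at h
    exact ⟨(semi_eq_semi _ _ _ _ (mul_right_cancel h)).1, rfl⟩

end

section
variable {n : ℕ} {F : Type*} [Field F] [Fintype F]

theorem exists_std {p f : ℕ} [Fact p.Prime] (hf : 1 ≤ f) (hF : Fintype.card F = p ^ f)
    (hn : 2 ≤ n) (α : MulAut (ProjectiveSpecialLinearGroup (Fin n) F)) :
    ∃ (g : GL (Fin n) F) (σ : F ≃+* F) (ε : ZMod 2), α = std g σ ε := by
  obtain ⟨g, σ, h | h⟩ := Cfsg.Agent.Lib.Helper5.SLnBN.exists_semi_tau_all hf hF hn α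
  · exact ⟨g, σ, 0, by rw [h]; unfold std; rw [tauPow_zero, mul_one]⟩
  · exact ⟨g, σ, 1, by rw [h]; unfold std; rw [tauPow_one]⟩

/-- The field automorphism and the graph component of an automorphism. -/
noncomputable def sigEps {p f : ℕ} [Fact p.Prime] (hf : 1 ≤ f) (hF : Fintype.card F = p ^ f)
    (hn : 2 ≤ n) (α : MulAut (ProjectiveSpecialLinearGroup (Fin n) F)) :
    (F ≃+* F) × Multiplicative (ZMod 2) :=
  (Classical.choose (Classical.choose_spec (exists_std hf hF hn α)),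
    Multiplicative.ofAdd
      (Classical.choose (Classical.choose_spec (Classical.choose_spec (exists_std hf hF hn α)))))

theorem sigEps_spec {p f : ℕ} [Fact p.Prime] (hf : 1 ≤ f) (hF : Fintype.card F = p ^ f)
    (hn : 2 ≤ n) (α : MulAut (ProjectiveSpecialLinearGroup (Fin n) F)) :
    ∃ g : GL (Fin n) F, α = std g (sigEps hf hF hn α).1 (sigEps hf hF hn α).2.toAdd :=
  ⟨_, Classical.choose_spec (Classical.choose_spec (Classical.choose_spec
    (exists_std hf hF hn α)))⟩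

theorem sigEps_std {p f : ℕ} [Fact p.Prime] (hf : 1 ≤ f) (hF : Fintype.card F = p ^ f)
    (hn : 3 ≤ n) (g : GL (Fin n) F) (σ : F ≃+* F) (ε : ZMod 2) :
    sigEps hf hF (by omega) (std g σ ε) = (σ, Multiplicative.ofAdd ε) := by
  obtain ⟨g', hg'⟩ := sigEps_spec hf hF (by omega : 2 ≤ n) (std g σ ε)
  obtain ⟨h1, h2⟩ := std_eq_std hn _ _ _ _ _ _ hg'
  apply Prod.ext
  · exact h1.symm
  · exact (congrArg Multiplicative.ofAdd h2).symm

/-- The homomorphism from `Aut(PSL_n(F))` to the product of the group of field automorphisms and a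
group of order two. -/
noncomputable def sigEpsHom {p f : ℕ} [Fact p.Prime] (hf : 1 ≤ f) (hF : Fintype.card F = p ^ f)
    (hn : 3 ≤ n) :
    MulAut (ProjectiveSpecialLinearGroup (Fin n) F) →* (F ≃+* F) × Multiplicative (ZMod 2) where
  toFun := sigEps hf hF (by omega)
  map_one' := by
    have : (1 : MulAut (ProjectiveSpecialLinearGroup (Fin n) F)) = std 1 1 0 := by
      unfold std
      rw [semi_one_one, tauPow_zero, mul_one]
    rw [this, sigEps_std hf hF hn]
    rfl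
  map_mul' α β := by
    obtain ⟨g, hg⟩ := sigEps_spec hf hF (by omega : 2 ≤ n) α
    obtain ⟨g', hg'⟩ := sigEps_spec hf hF (by omega : 2 ≤ n) β
    obtain ⟨g'', hg''⟩ := std_mul_std g g' (sigEps hf hF (by omega : 2 ≤ n) α).1
      (sigEps hf hF (by omega : 2 ≤ n) β).1 (sigEps hf hF (by omega : 2 ≤ n) α).2.toAdd
      (sigEps hf hF (by omega : 2 ≤ n) β).2.toAdd
    conv_lhs => rw [hg, hg', hg'', sigEps_std hf hF hn]
    rfl

theorem sigEpsHom_std {p f : ℕ} [Fact p.Prime] (hf : 1 ≤ f) (hF : Fintype.card F = p ^ f)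
    (hn : 3 ≤ n) (g : GL (Fin n) F) (σ : F ≃+* F) (ε : ZMod 2) :
    sigEpsHom hf hF hn (std g σ ε) = (σ, Multiplicative.ofAdd ε) :=
  sigEps_std hf hF hn g σ ε

theorem sigEpsHom_semi {p f : ℕ} [Fact p.Prime] (hf : 1 ≤ f) (hF : Fintype.card F = p ^ f)
    (hn : 3 ≤ n) (g : GL (Fin n) F) (σ : F ≃+* F) :
    sigEpsHom hf hF hn (semi g σ) = (σ, 1) := by
  have : semi g σ = std g σ 0 := by
    unfold std
    rw [tauPow_zero, mul_one]
  rw [this, sigEpsHom_std]
  rfl

theorem sigEpsHom_surjective {p f : ℕ} [Fact p.Prime] (hf : 1 ≤ f)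
    (hF : Fintype.card F = p ^ f) (hn : 3 ≤ n) :
    Function.Surjective (sigEpsHom (n := n) (F := F) hf hF hn) := by
  rintro ⟨σ, ε⟩
  exact ⟨std 1 σ ε.toAdd, sigEpsHom_std hf hF hn 1 σ ε.toAdd⟩

theorem mem_ker_sigEpsHom_iff {p f : ℕ} [Fact p.Prime] (hf : 1 ≤ f)
    (hF : Fintype.card F = p ^ f) (hn : 3 ≤ n)
    (α : MulAut (ProjectiveSpecialLinearGroup (Fin n) F)) :
    α ∈ (sigEpsHom (n := n) (F := F) hf hF hn).ker ↔ ∃ g : GL (Fin n) F, α = semi g 1 := by
  rw [MonoidHom.mem_ker]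
  constructor
  · intro h
    obtain ⟨g, hg⟩ := sigEps_spec hf hF (by omega : 2 ≤ n) α
    refine ⟨g, ?_⟩
    have h' : sigEps hf hF (by omega : 2 ≤ n) α = 1 := h
    rw [h'] at hg
    rw [hg]
    unfold std
    have : ((1 : (F ≃+* F) × Multiplicative (ZMod 2)).2).toAdd = (0 : ZMod 2) := rfl
    rw [this, tauPow_zero, mul_one]
    rfl
  · rintro ⟨g, rfl⟩
    exact sigEpsHom_semi hf hF hn g 1

end

end Cfsg.Agent.Lib.Helper5.SLnAut
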