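import Mathlib
import Cfsg.Prelude.Def_LieTypeDatum
import Cfsg.Agent.Lib.Helper5.SLnAutPred
import Cfsg.Agent.Lib.Helper5.SLnOut3

set_option autoImplicit false

/-!
The predicates on automorphisms of `PSL_n(F)` determine the automorphism; the inner-diagonal
group is the set of `semi g 1` and is normal in the automorphism group.
-/

namespace Cfsg.Agent.Lib.Helper5.PSLCoset

open Matrix Matrix.SpecialLinearGroup Cfsg.Agent.Lib.Helper5.SLnAut Cfsg.Agent.Lib.Helper5.SLnBN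

section
variable {n : ℕ} {F : Type*} [Field F]

theorem eq_semi_of_induced {g : GL (Fin n) F} {σ : F ≃+* F}
    {β : MulAut (ProjectiveSpecialLinearGroup (Fin n) F)}
    (h : Cfsg.IsInducedBySemilinearPSL g σ β) : β = semi g σ := by
  apply MulEquiv.ext
  intro q
  obtain ⟨s, rfl⟩ := piN_surjective q
  rw [semi_pi]
  exact h s (glConj g (fieldAut σ s)) (by rw [glConj_coe, fieldAut_coe])

theorem eq_semi_of_innerDiagonal {β : MulAut (ProjectiveSpecialLinearGroup (Fin n) F)}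
    (h : Cfsg.IsInnerDiagonalAutPSL β) : ∃ g : GL (Fin n) F, β = semi g (1 : F ≃+* F) := by
  obtain ⟨g, hg⟩ := h
  refine ⟨g, ?_⟩
  apply MulEquiv.ext
  intro q
  obtain ⟨s, rfl⟩ := piN_surjective q
  rw [semi_pi, fieldAut_one_apply]
  exact hg s (glConj g s) (by rw [glConj_coe])

theorem eq_semi_of_stdField {σ : F ≃+* F} {β : MulAut (ProjectiveSpecialLinearGroup (Fin n) F)}
    (h : Cfsg.IsStdFieldAutPSL σ β) : β = semi (1 : GL (Fin n) F) σ := by
  apply MulEquiv.ext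
  intro q
  obtain ⟨s, rfl⟩ := piN_surjective q
  rw [semi_pi, map_one]
  exact h s (fieldAut σ s) (by rw [fieldAut_coe])

theorem eq_tauBar_of_invTranspose {γ : MulAut (ProjectiveSpecialLinearGroup (Fin n) F)}
    (h : Cfsg.IsInverseTransposeAutPSL γ) : γ = tauBar := by
  apply MulEquiv.ext
  intro q
  obtain ⟨s, rfl⟩ := piN_surjective q
  rw [tauBar_pi]
  exact h s (tauAut s) (by rw [tauAut_coe])

theorem semi_one_mul_semi_one (g g' : GL (Fin n) F) :
    semi g (1 : F ≃+* F) * semi g' (1 : F ≃+* F) = semi (g * g') (1 : F ≃+* F) :=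
  semi_one_mul_semi g g' 1

theorem semi_one_inv (g : GL (Fin n) F) :
    (semi g (1 : F ≃+* F))⁻¹ = semi g⁻¹ (1 : F ≃+* F) := by
  apply inv_eq_of_mul_eq_one_left
  rw [semi_one_mul_semi_one, inv_mul_cancel, semi_one_one]

/-- The inner-diagonal automorphisms as a subgroup. -/
def innDiag (n : ℕ) (F : Type*) [Field F] :
    Subgroup (MulAut (ProjectiveSpecialLinearGroup (Fin n) F)) where
  carrier := {β | ∃ g : GL (Fin n) F, β = semi g (1 : F ≃+* F)}
  mul_mem' := by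
    rintro _ _ ⟨g, rfl⟩ ⟨g', rfl⟩
    exact ⟨g * g', semi_one_mul_semi_one g g'⟩
  one_mem' := ⟨1, semi_one_one.symm⟩
  inv_mem' := by
    rintro _ ⟨g, rfl⟩
    exact ⟨g⁻¹, semi_one_inv g⟩

theorem inndiagPSL_eq : Cfsg.inndiagPSL n F = innDiag n F := by
  apply le_antisymm
  · unfold Cfsg.inndiagPSL Cfsg.autSubgroupOf
    rw [Subgroup.closure_le]
    intro β hβ
    exact eq_semi_of_innerDiagonal hβ
  · rintro _ ⟨g, rfl⟩
    exact Subgroup.subset_closure (isInnerDiagonal_semi_one g)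

theorem mem_inndiag_iff {β : MulAut (ProjectiveSpecialLinearGroup (Fin n) F)} :
    β ∈ Cfsg.inndiagPSL n F ↔ ∃ g : GL (Fin n) F, β = semi g (1 : F ≃+* F) := by
  rw [inndiagPSL_eq]
  rfl

theorem semi_mem_inndiag (g : GL (Fin n) F) : semi g (1 : F ≃+* F) ∈ Cfsg.inndiagPSL n F :=
  mem_inndiag_iff.2 ⟨g, rfl⟩

theorem semi_conj_mem (a g : GL (Fin n) F) (τ : F ≃+* F) :
    semi a τ * semi g (1 : F ≃+* F) * (semi a τ)⁻¹ ∈ Cfsg.inndiagPSL n F := by
  obtain ⟨a', ha'⟩ := semi_inv a τ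
  rw [ha', semi_mul_semi, semi_mul_semi, mul_one, mul_inv_cancel]
  exact semi_mem_inndiag _

theorem tauBar_conj_mem (g : GL (Fin n) F) :
    tauBar * semi g (1 : F ≃+* F) * (tauBar)⁻¹ ∈ Cfsg.inndiagPSL n F := by
  rw [tauBar_mul_semi, mul_assoc, mul_inv_cancel, mul_one]
  exact semi_mem_inndiag _

end

section
variable {n : ℕ} {F : Type*} [Field F] [Fintype F]

/-- The inner-diagonal group is normal in the automorphism group. -/
theorem conj_mem_inndiag {p f : ℕ} [Fact p.Prime] (hf : 1 ≤ f) (hF : Fintype.card F = p ^ f)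
    (hn : 2 ≤ n) (α : MulAut (ProjectiveSpecialLinearGroup (Fin n) F))
    {β : MulAut (ProjectiveSpecialLinearGroup (Fin n) F)} (hβ : β ∈ Cfsg.inndiagPSL n F) :
    α * β * α⁻¹ ∈ Cfsg.inndiagPSL n F := by
  obtain ⟨g, rfl⟩ := mem_inndiag_iff.1 hβ
  obtain ⟨a, τ, h | h⟩ := exists_semi_tau_all hf hF hn α
  · rw [h]
    exact semi_conj_mem a g τ
  · rw [h]
    obtain ⟨g', hg'⟩ := mem_inndiag_iff.1 (tauBar_conj_mem g)
    have : semi a τ * tauBar * semi g (1 : F ≃+* F) * (semi a τ * tauBar)⁻¹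
        = semi a τ * (tauBar * semi g (1 : F ≃+* F) * (tauBar)⁻¹) * (semi a τ)⁻¹ := by
      group
    rw [this, hg']
    exact semi_conj_mem a g' τ

theorem conj_mem_inndiag' {p f : ℕ} [Fact p.Prime] (hf : 1 ≤ f) (hF : Fintype.card F = p ^ f)
    (hn : 2 ≤ n) (α : MulAut (ProjectiveSpecialLinearGroup (Fin n) F))
    {β : MulAut (ProjectiveSpecialLinearGroup (Fin n) F)} (hβ : β ∈ Cfsg.inndiagPSL n F) :
    α⁻¹ * β * α ∈ Cfsg.inndiagPSL n F := by
  have := conj_mem_inndiag hf hF hn α⁻¹ hβ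
  rwa [inv_inv] at this

end

end Cfsg.Agent.Lib.Helper5.PSLCoset
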