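import Mathlib
import Cfsg.Agent.Lib.Helper5.PSLCoset1
import Cfsg.Agent.Lib.Helper5.PSLCoset3

set_option autoImplicit false

/-!
Field automorphism cosets of `PSL_n(F)`: an element of order `r` in the coset of a standard field
automorphism of order `r` is conjugate to it under the inner-diagonal group.
-/

namespace Cfsg.Agent.Lib.Helper5.PSLCoset

open Matrix Matrix.SpecialLinearGroup Cfsg.Agent.Lib.Helper5.SLnAut Cfsg.Agent.Lib.Helper5.SLnBN

section
variable {n : ℕ} {F : Type*} [Field F]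

theorem coe_map_GL (σ : F ≃+* F) (g : GL (Fin n) F) :
    ((Matrix.GeneralLinearGroup.map (σ : F →+* F) g : GL (Fin n) F) : Matrix (Fin n) (Fin n) F)
      = (g : Matrix (Fin n) (Fin n) F).map σ := rfl

/-- Twisted partial products in `GL_n`. -/
def twGL (σ : F ≃+* F) (g : GL (Fin n) F) : ℕ → GL (Fin n) F
  | 0 => 1
  | (k + 1) => g * Matrix.GeneralLinearGroup.map (σ : F →+* F) (twGL σ g k)

theorem coe_twGL (σ : F ≃+* F) (g : GL (Fin n) F) (k : ℕ) :
    ((twGL σ g k : GL (Fin n) F) : Matrix (Fin n) (Fin n) F)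
      = tw σ (g : Matrix (Fin n) (Fin n) F) k := by
  induction k with
  | zero => rfl
  | succ k ih =>
    show ((g * Matrix.GeneralLinearGroup.map (σ : F →+* F) (twGL σ g k) : GL (Fin n) F) :
      Matrix (Fin n) (Fin n) F) = _
    rw [Units.val_mul, coe_map_GL, ih, tw_succ]

theorem semi_pow (g : GL (Fin n) F) (σ : F ≃+* F) (k : ℕ) :
    (semi g σ) ^ k = semi (twGL σ g k) (σ ^ k) := by
  induction k with
  | zero =>
    rw [pow_zero, pow_zero]
    exact semi_one_one.symm
  | succ k ih =>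
    rw [pow_succ', ih, semi_mul_semi, pow_succ']
    rfl

/-- The scalar multiple of an invertible matrix, as an invertible matrix. -/
noncomputable def smulGL (a : F) (ha : a ≠ 0) (g : GL (Fin n) F) : GL (Fin n) F :=
  Matrix.GeneralLinearGroup.scalar (Fin n) (Units.mk0 a ha) * g

theorem coe_smulGL (a : F) (ha : a ≠ 0) (g : GL (Fin n) F) :
    ((smulGL a ha g : GL (Fin n) F) : Matrix (Fin n) (Fin n) F)
      = a • (g : Matrix (Fin n) (Fin n) F) := by
  unfold smulGL
  rw [Units.val_mul, Matrix.GeneralLinearGroup.coe_scalar, Units.val_mk0,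
    Matrix.scalar_apply, ← Matrix.smul_eq_diagonal_mul]

theorem semi_smulGL (a : F) (ha : a ≠ 0) (g : GL (Fin n) F) (σ : F ≃+* F) :
    semi (smulGL a ha g) σ = semi g σ :=
  semi_eq_of_smul _ _ σ a ha (coe_smulGL a ha g)

end

section
variable {n : ℕ} {F : Type*} [Field F] [Finite F]

theorem field_conj (hn : 2 ≤ n) (g : GL (Fin n) F) (σ : F ≃+* F) (r : ℕ)
    (hr : orderOf σ = r) (hr0 : 0 < r) (hy : (semi g σ) ^ r = 1) :
    ∃ h : GL (Fin n) F,
      semi g σ = semi h (1 : F ≃+* F) * semi (1 : GL (Fin n) F) σ * (semi h (1 : F ≃+* F))⁻¹ := by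
  have : Nontrivial (Fin n) := Fin.nontrivial_iff_two_le.2 hn
  have hσr : σ ^ r = 1 := by
    rw [← hr]
    exact pow_orderOf_eq_one σ
  rw [semi_pow, hσr, ← semi_one_one] at hy
  obtain ⟨-, z, hz0, hz⟩ := semi_eq_semi _ _ _ _ hy
  rw [coe_twGL, Units.val_one] at hz
  -- `z` is fixed by `σ`
  have hzfix : σ z = z := by
    have h1 := tw_succ σ (g : Matrix (Fin n) (Fin n) F) r
    rw [tw_succ', hz, hσr] at h1
    have h2 : (g : Matrix (Fin n) (Fin n) F).map ((1 : F ≃+* F)) = g := by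
      ext i j
      rfl
    have h3 : (z • (1 : Matrix (Fin n) (Fin n) F)).map σ = σ z • 1 := by
      ext i j
      by_cases hij : i = j
      · simp [Matrix.one_apply, hij]
      · simp [Matrix.one_apply, hij]
    rw [h2, h3, Matrix.smul_mul, Matrix.one_mul, Matrix.mul_smul, Matrix.mul_one] at h1
    have h4 := congrArg (fun M => ((g⁻¹ : GL (Fin n) F) : Matrix (Fin n) (Fin n) F) * M) h1
    simp only [Matrix.mul_smul] at h4
    rw [← Units.val_mul, inv_mul_cancel, Units.val_one] at h4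
    have h5 := congrFun (congrFun h4 ⟨0, by omega⟩) ⟨0, by omega⟩
    simpa using h5.symm
  have hzinv : σ z⁻¹ = z⁻¹ := by rw [map_inv₀, hzfix]
  obtain ⟨a, ha0, ha⟩ := exists_nrm_eq σ r hr hr0 z⁻¹ (inv_ne_zero hz0) hzinv
  have htw : tw σ ((smulGL a ha0 g : GL (Fin n) F) : Matrix (Fin n) (Fin n) F) r = 1 := by
    rw [coe_smulGL, tw_smul, hz, ha, smul_smul, inv_mul_cancel₀ hz0, one_smul]
  obtain ⟨h, hu, hh⟩ := hilbert90_matrix σ _ r hr hr0 htw
  refine ⟨hu.unit, ?_⟩
  rw [← semi_smulGL a ha0 g σ]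
  apply eq_mul_inv_of_mul_eq
  rw [semi_mul_semi, semi_mul_semi, mul_one, one_mul, Matrix.GeneralLinearGroup.map_one, mul_one]
  congr 1
  apply Units.ext
  rw [Units.val_mul, coe_map_GL]
  exact hh

end

end Cfsg.Agent.Lib.Helper5.PSLCoset
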