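import Mathlib
import Cfsg.Agent.Lib.Helper5.PSLCoset4
import Cfsg.Agent.Lib.Helper5.PSLCoset5

set_option autoImplicit false

/-!
Graph-field automorphism cosets of `PSL_n(F)`: an involution in the coset of a standard
graph-field involution is conjugate to it under the inner-diagonal group.
-/

namespace Cfsg.Agent.Lib.Helper5.PSLCoset

open Matrix Matrix.SpecialLinearGroup Cfsg.Agent.Lib.Helper5.SLnAut Cfsg.Agent.Lib.Helper5.SLnBN

section
variable {n : ℕ} {F : Type*} [Field F]

theorem tauGL_one : tauGL (1 : GL (Fin n) F) = 1 := by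
  apply Units.ext
  rw [tauGL_coe, inv_one, Units.val_one, Matrix.transpose_one]

theorem commute_semi_tauBar (σ : F ≃+* F) :
    Commute (semi (1 : GL (Fin n) F) σ) tauBar := by
  show semi (1 : GL (Fin n) F) σ * tauBar = tauBar * semi (1 : GL (Fin n) F) σ
  rw [tauBar_mul_semi, tauGL_one]

theorem semi_tauBar_sq (g : GL (Fin n) F) (σ : F ≃+* F) :
    (semi g σ * tauBar) ^ 2
      = semi (g * Matrix.GeneralLinearGroup.map (σ : F →+* F) (tauGL g)) (σ * σ) := by
  rw [pow_two, ← semi_mul_semi]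
  calc semi g σ * tauBar * (semi g σ * tauBar)
      = semi g σ * (tauBar * semi g σ) * tauBar := by group
    _ = semi g σ * (semi (tauGL g) σ * tauBar) * tauBar := by rw [tauBar_mul_semi]
    _ = semi g σ * semi (tauGL g) σ * (tauBar * tauBar) := by group
    _ = semi g σ * semi (tauGL g) σ := by rw [tauBar_mul_self, mul_one]

theorem semi_one_pow (σ : F ≃+* F) (k : ℕ) :
    (semi (1 : GL (Fin n) F) σ) ^ k = semi (1 : GL (Fin n) F) (σ ^ k) := by
  induction k with
  | zero => rw [pow_zero, pow_zero, semi_one_one]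
  | succ k ih =>
    rw [pow_succ, ih, semi_mul_semi, Matrix.GeneralLinearGroup.map_one, mul_one, pow_succ]

theorem tauBar_pow_odd {k : ℕ} (hk : Odd k) :
    (tauBar : MulAut (ProjectiveSpecialLinearGroup (Fin n) F)) ^ k = tauBar := by
  obtain ⟨m, rfl⟩ := hk
  rw [pow_succ, pow_mul, pow_two, tauBar_mul_self, one_pow, one_mul]

/-- A standard graph-field automorphism of prime order has order two, and so does its field
automorphism. -/
theorem graphfield_order (hn : 3 ≤ n) (σ : F ≃+* F) (hσ : σ ≠ 1) {r : ℕ} (hr : r.Prime)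
    (hx : orderOf (semi (1 : GL (Fin n) F) σ * tauBar) = r) : r = 2 ∧ orderOf σ = 2 := by
  have : Nontrivial (Fin n) := Fin.nontrivial_iff_two_le.2 (by omega)
  have hpow : (semi (1 : GL (Fin n) F) σ * tauBar) ^ r = 1 := by
    rw [← hx]
    exact pow_orderOf_eq_one _
  have hr2 : r = 2 := by
    rcases hr.eq_two_or_odd' with h2 | hodd
    · exact h2
    · exfalso
      rw [(commute_semi_tauBar σ).mul_pow, semi_one_pow, tauBar_pow_odd hodd] at hpow
      obtain ⟨g', hg'⟩ := semi_inv (1 : GL (Fin n) F) (σ ^ r)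
      have := eq_inv_of_mul_eq_one_right hpow
      rw [hg'] at this
      exact tauBar_ne_semi hn _ _ this
  refine ⟨hr2, ?_⟩
  rw [hr2, semi_tauBar_sq, tauGL_one, Matrix.GeneralLinearGroup.map_one, mul_one,
    ← semi_one_one] at hpow
  have h1 : σ * σ = 1 := (semi_eq_semi _ _ _ _ hpow).1
  apply orderOf_eq_prime
  · rw [pow_two]
    exact h1
  · exact hσ

end

section
variable {n : ℕ} {F : Type*} [Field F] [Finite F]

theorem graphfield_conj (hn : 3 ≤ n) (g : GL (Fin n) F) (σ : F ≃+* F) (hσ : orderOf σ = 2)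
    (hy : (semi g σ * tauBar) ^ 2 = 1) :
    ∃ h : GL (Fin n) F, semi g σ * tauBar
      = semi h (1 : F ≃+* F) * (semi (1 : GL (Fin n) F) σ * tauBar)
        * (semi h (1 : F ≃+* F))⁻¹ := by
  have : Nontrivial (Fin n) := Fin.nontrivial_iff_two_le.2 (by omega)
  have hσσ : σ * σ = 1 := by
    rw [← pow_two, ← hσ]
    exact pow_orderOf_eq_one σ
  have hσ2 : ∀ a : F, σ (σ a) = a := fun a => DFunLike.congr_fun hσσ a
  rw [semi_tauBar_sq, hσσ, ← semi_one_one] at hy
  obtain ⟨-, z, hz0, hz⟩ := semi_eq_semi _ _ _ _ hy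
  rw [Units.val_one, Units.val_mul, coe_map_GL, tauGL_coe] at hz
  -- `g = z σ(g)ᵀ`
  have hg : ∀ k l, (g : Matrix (Fin n) (Fin n) F) k l
      = z * σ ((g : Matrix (Fin n) (Fin n) F) l k) := by
    have h1 := congrArg (fun M => M * ((g : Matrix (Fin n) (Fin n) F).transpose).map σ) hz
    beta_reduce at h1
    rw [Matrix.mul_assoc, ← Matrix.map_mul, ← Matrix.transpose_mul, ← Units.val_mul,
      mul_inv_cancel, Units.val_one, Matrix.transpose_one] at h1
    have h2 : (1 : Matrix (Fin n) (Fin n) F).map σ = 1 :=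
      Matrix.map_one _ (map_zero σ) (map_one σ)
    rw [h2, Matrix.mul_one, Matrix.smul_mul, Matrix.one_mul] at h1
    intro k l
    have := congrFun (congrFun h1 k) l
    rw [this]
    rfl
  -- `z σ(z) = 1`
  have hzz : z * σ z = 1 := by
    obtain ⟨k, l, hkl⟩ : ∃ k l, (g : Matrix (Fin n) (Fin n) F) k l ≠ 0 := by
      by_contra hcon
      push Not at hcon
      have h0 : (g : Matrix (Fin n) (Fin n) F) = 0 := by
        ext k l
        exact hcon k l
      have h1 : (1 : Matrix (Fin n) (Fin n) F) = 0 := by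
        rw [← Units.val_one (α := Matrix (Fin n) (Fin n) F), ← mul_inv_cancel g, Units.val_mul,
          h0, Matrix.zero_mul]
      have := congrFun (congrFun h1 ⟨0, by omega⟩) ⟨0, by omega⟩
      rw [Matrix.one_apply_eq, Matrix.zero_apply] at this
      exact one_ne_zero this
    have h1 := hg k l
    rw [hg l k, map_mul, hσ2, ← mul_assoc] at h1
    have h2 : (z * σ z - 1) * (g : Matrix (Fin n) (Fin n) F) k l = 0 := by
      rw [sub_mul, one_mul, ← h1, sub_self]
    rcases mul_eq_zero.1 h2 with h3 | h3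
    · exact sub_eq_zero.1 h3
    · exact absurd h3 hkl
  have hnrm : nrm σ 2 z⁻¹ = 1 := by
    unfold nrm
    rw [Finset.prod_range_succ, Finset.prod_range_one, pow_zero, pow_one]
    show z⁻¹ * σ z⁻¹ = 1
    rw [map_inv₀, ← mul_inv, hzz, inv_one]
  obtain ⟨b, hb0, hb⟩ := hilbert90_scalar σ 2 hσ (by norm_num) z⁻¹ hnrm
  have hb' : σ b = z * b := by
    calc σ b = z * (z⁻¹ * σ b) := by rw [← mul_assoc, mul_inv_cancel₀ hz0, one_mul]
      _ = z * b := by rw [hb]
  -- the Hermitian matrix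
  obtain ⟨g', hg'⟩ : ∃ g' : GL (Fin n) F, g' = smulGL b hb0 g := ⟨_, rfl⟩
  have hg'coe : (g' : Matrix (Fin n) (Fin n) F) = b • (g : Matrix (Fin n) (Fin n) F) := by
    rw [hg', coe_smulGL]
  have hherm : ∀ k l, σ ((g' : Matrix (Fin n) (Fin n) F) k l)
      = (g' : Matrix (Fin n) (Fin n) F) l k := by
    intro k l
    rw [hg'coe, Matrix.smul_apply, Matrix.smul_apply, smul_eq_mul, smul_eq_mul, map_mul, hb',
      hg l k]
    ring
  obtain ⟨E, hE⟩ := exists_congr_one hσ hherm ⟨g', rfl⟩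
  have hEu : IsUnit E := by
    rw [Matrix.mul_assoc] at hE
    exact (Matrix.isUnit_iff_isUnit_det _).2 (Matrix.isUnit_det_of_right_inverse hE)
  obtain ⟨EG, hEG⟩ : ∃ EG : GL (Fin n) F, (EG : Matrix (Fin n) (Fin n) F) = E :=
    ⟨hEu.unit, rfl⟩
  have key : EG * g' = Matrix.GeneralLinearGroup.map (σ : F →+* F) (tauGL EG) := by
    rw [← mul_inv_eq_one, ← Matrix.GeneralLinearGroup.map_inv]
    apply Units.ext
    rw [Units.val_mul, Units.val_mul, coe_map_GL, tauGL_inv_coe, hEG, Units.val_one,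
      Matrix.transpose_map]
    exact hE
  refine ⟨EG⁻¹, ?_⟩
  rw [← semi_one_inv, inv_inv]
  symm
  have h1 : semi EG (1 : F ≃+* F) * (semi g σ * tauBar) = semi (EG * g') σ * tauBar := by
    rw [← mul_assoc, hg', ← semi_one_mul_semi EG (smulGL b hb0 g) σ, semi_smulGL]
  have h2 : semi (1 : GL (Fin n) F) σ * tauBar * semi EG (1 : F ≃+* F)
      = semi (EG * g') σ * tauBar := by
    rw [mul_assoc, tauBar_mul_semi, ← mul_assoc, semi_mul_semi, one_mul, mul_one, key]
  calc (semi EG (1 : F ≃+* F))⁻¹ * (semi (1 : GL (Fin n) F) σ * tauBar)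
        * semi EG (1 : F ≃+* F)
      = (semi EG (1 : F ≃+* F))⁻¹ * (semi (1 : GL (Fin n) F) σ * tauBar
        * semi EG (1 : F ≃+* F)) := by group
    _ = (semi EG (1 : F ≃+* F))⁻¹ * (semi EG (1 : F ≃+* F) * (semi g σ * tauBar)) := by
        rw [h2, h1]
    _ = semi g σ * tauBar := by group

end

end Cfsg.Agent.Lib.Helper5.PSLCoset
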