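import Mathlib
import Cfsg.Agent.Lib.Helper5.PSLCoset3

set_option autoImplicit false

/-!
Cardinality of the fixed field of an automorphism of a finite field, the norm homomorphism on
units, and an index computation in finite cyclic groups.
-/

namespace Cfsg.Agent.Lib.Helper5.PSLCoset

section
variable {G : Type*} [CommGroup G] [Finite G] [IsCyclic G]

/-- In a finite cyclic group the subgroup generated by the `n`-th powers and a subgroup `W` has
index `gcd(|G : W|, n)`. -/
theorem index_pow_sup (n : ℕ) (W : Subgroup G) :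
    ((powMonoidHom n : G →* G).range ⊔ W).index = Nat.gcd W.index n := by
  have hsurj : Function.Surjective (QuotientGroup.mk' W) := QuotientGroup.mk'_surjective W
  have h1 : (((powMonoidHom n : G →* G).range ⊔ W).map (QuotientGroup.mk' W)).index
      = ((powMonoidHom n : G →* G).range ⊔ W).index := by
    apply Subgroup.index_map_eq _ hsurj
    rw [QuotientGroup.ker_mk']
    exact le_sup_right
  have h2 : ((powMonoidHom n : G →* G).range ⊔ W).map (QuotientGroup.mk' W)
      = (powMonoidHom n : G ⧸ W →* G ⧸ W).range := by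
    rw [Subgroup.map_sup]
    have h3 : W.map (QuotientGroup.mk' W) = ⊥ :=
      (Subgroup.map_eq_bot_iff W).2 (QuotientGroup.ker_mk' W).ge
    rw [h3, sup_bot_eq]
    ext q
    constructor
    · rintro ⟨_, ⟨g, rfl⟩, rfl⟩
      exact ⟨QuotientGroup.mk' W g, by simp⟩
    · rintro ⟨q', rfl⟩
      obtain ⟨g, rfl⟩ := hsurj q'
      exact ⟨g ^ n, ⟨g, rfl⟩, by simp⟩
  rw [← h1, h2, IsCyclic.index_powMonoidHom_range]
  rfl

end

section
variable {F : Type*} [Field F]

/-- The units fixed by `σ`. -/
def fixU (σ : F ≃+* F) : Subgroup Fˣ where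
  carrier := {u | σ (u : F) = u}
  mul_mem' := by
    intro a b ha hb
    show σ ((a * b : Fˣ) : F) = ((a * b : Fˣ) : F)
    rw [Units.val_mul, map_mul, ha, hb]
  one_mem' := by
    show σ ((1 : Fˣ) : F) = ((1 : Fˣ) : F)
    rw [Units.val_one, map_one]
  inv_mem' := by
    intro a ha
    show σ ((a⁻¹ : Fˣ) : F) = ((a⁻¹ : Fˣ) : F)
    rw [Units.val_inv_eq_inv_val, map_inv₀, ha]

theorem mem_fixU {σ : F ≃+* F} {u : Fˣ} : u ∈ fixU σ ↔ σ (u : F) = u := Iff.rfl

/-- The norm as a homomorphism on units. -/
noncomputable def nrmHom (σ : F ≃+* F) (r : ℕ) : Fˣ →* Fˣ where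
  toFun a := Units.mk0 (nrm σ r (a : F)) (nrm_ne_zero σ r a.ne_zero)
  map_one' := by
    apply Units.ext
    simp [nrm_one]
  map_mul' := by
    intro a b
    apply Units.ext
    simp [nrm_mul]

theorem coe_nrmHom (σ : F ≃+* F) (r : ℕ) (a : Fˣ) : ((nrmHom σ r a : Fˣ) : F) = nrm σ r a := rfl

end

section
variable {F : Type*} [Field F] [Finite F]

theorem range_nrmHom (σ : F ≃+* F) (r : ℕ) (hr : orderOf σ = r) (hr0 : 0 < r) :
    (nrmHom σ r).range = fixU σ := by
  have hσr : σ ^ r = 1 := by
    rw [← hr]
    exact pow_orderOf_eq_one σ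
  apply le_antisymm
  · rintro _ ⟨a, rfl⟩
    rw [mem_fixU, coe_nrmHom]
    exact map_nrm σ r hσr _
  · intro u hu
    obtain ⟨a, ha0, ha⟩ := exists_nrm_eq σ r hr hr0 (u : F) u.ne_zero hu
    exact ⟨Units.mk0 a ha0, Units.ext ha⟩

end

section
variable {F : Type*} [Field F] [Fintype F]

/-- The fixed field of an automorphism of order `r` of a field with `p^f` elements has `p^(f/r)`
elements. -/
theorem card_fixed {p f : ℕ} [Fact p.Prime] (hF : Fintype.card F = p ^ f) (σ : F ≃+* F) (r : ℕ)
    (hr : orderOf σ = r) (hr0 : 0 < r) :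
    r ∣ f ∧ Nat.card {a : F // σ a = a} = p ^ (f / r) := by
  classical
  have hp : p.Prime := Fact.out
  haveI : Finite (F ≃+* F) :=
    Finite.of_injective (fun e : F ≃+* F => (e : F → F)) DFunLike.coe_injective
  haveI : Fintype (Subgroup.zpowers σ) := Fintype.ofFinite _
  have h1 : Module.finrank (FixedPoints.subfield (Subgroup.zpowers σ) F) F = r := by
    rw [FixedPoints.finrank_eq_card, ← Nat.card_eq_fintype_card, Nat.card_zpowers, hr]
  have h2 := Module.card_eq_pow_finrank (K := FixedPoints.subfield (Subgroup.zpowers σ) F) (V := F)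
  rw [h1, hF] at h2
  have h3 : Fintype.card (FixedPoints.subfield (Subgroup.zpowers σ) F) ∣ p ^ f := by
    rw [h2]
    exact dvd_pow_self _ (by omega)
  obtain ⟨k, -, hk⟩ := (Nat.dvd_prime_pow hp).1 h3
  rw [hk, ← pow_mul] at h2
  have h4 : f = k * r := Nat.pow_right_injective hp.two_le h2
  have hmem : ∀ a : F, a ∈ FixedPoints.subfield (Subgroup.zpowers σ) F ↔ σ a = a := by
    intro a
    constructor
    · intro h
      exact h ⟨σ, Subgroup.mem_zpowers σ⟩
    · intro h g
      have hle : Subgroup.zpowers σ ≤ MulAction.stabilizer (F ≃+* F) a := by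
        rw [Subgroup.zpowers_le]
        exact h
      exact hle g.2
  refine ⟨⟨k, by rw [h4, mul_comm]⟩, ?_⟩
  have h5 : Nat.card {a : F // σ a = a}
      = Nat.card (FixedPoints.subfield (Subgroup.zpowers σ) F) := by
    apply Nat.card_congr
    exact Equiv.subtypeEquivRight (fun a => (hmem a).symm)
  rw [h5, Nat.card_eq_fintype_card, hk, h4, Nat.mul_div_cancel _ hr0]

theorem card_fixU {p f : ℕ} [Fact p.Prime] (hF : Fintype.card F = p ^ f) (σ : F ≃+* F) (r : ℕ)
    (hr : orderOf σ = r) (hr0 : 0 < r) : Nat.card (fixU σ) = p ^ (f / r) - 1 := by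
  classical
  obtain ⟨-, h⟩ := card_fixed hF σ r hr hr0
  rw [← h]
  have e : {a : F // σ a = a} ≃ Option (fixU σ) :=
    { toFun := fun a => if h : a.1 = 0 then none else some ⟨Units.mk0 a.1 h, a.2⟩
      invFun := fun o => match o with
        | none => ⟨0, map_zero σ⟩
        | some u => ⟨(u.1 : F), u.2⟩
      left_inv := by
        intro a
        by_cases h : a.1 = 0
        · simp only [h, dite_true]
          exact Subtype.ext h.symm
        · simp only [h, dite_false]
          rfl
      right_inv := by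
        intro o
        cases o with
        | none => simp
        | some u =>
          have : ((u : Fˣ) : F) ≠ 0 := u.1.ne_zero
          simp only [this, dite_false]
          congr 1
          apply Subtype.ext
          apply Units.ext
          rfl }
  rw [Nat.card_congr e, Finite.card_option]
  omega

end

end Cfsg.Agent.Lib.Helper5.PSLCoset
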