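import Mathlib
import Cfsg.Prelude.Def_LieTypeDatum

set_option autoImplicit false

/-!
The number of classes into which a class splits, as the index of a subgroup.
-/

namespace Cfsg.Agent.Lib.Helper5.PSLCoset

section
variable {X : Type*} [Group X] {G : Type*} [Group G]

/-- The preimage of the centralizer of an element. -/
def commSub (ρ : G →* X) (x : X) : Subgroup G := (Subgroup.centralizer {x}).comap ρ

theorem mem_commSub {ρ : G →* X} {x : X} {c : G} : c ∈ commSub ρ x ↔ ρ c * x = x * ρ c := by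
  unfold commSub
  rw [Subgroup.mem_comap, Subgroup.mem_centralizer_iff]
  constructor
  · intro h
    exact (h x rfl).symm
  · intro h y hy
    rw [Set.mem_singleton_iff.1 hy]
    exact h.symm

theorem conj_eq_of_mem_commSub {ρ : G →* X} {x : X} {c : G} (hc : c ∈ commSub ρ x) :
    ρ c * x * (ρ c)⁻¹ = x := by
  rw [mem_commSub.1 hc, mul_assoc, mul_inv_cancel, mul_one]

theorem related_iff (ρ : G →* X) (S : Subgroup G) [S.Normal] (x : X) (g g' : G) :
    Cfsg.IsConjUnder (S.map ρ) (ρ g * x * (ρ g)⁻¹) (ρ g' * x * (ρ g')⁻¹)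
      ↔ g⁻¹ * g' ∈ S ⊔ commSub ρ x := by
  constructor
  · rintro ⟨_, ⟨s, hs, rfl⟩, h⟩
    have hc : (s * g)⁻¹ * g' ∈ commSub ρ x := by
      rw [mem_commSub]
      have h1 : ρ ((s * g)⁻¹ * g') * x * (ρ ((s * g)⁻¹ * g'))⁻¹ = x := by
        simp only [map_mul, map_inv, mul_inv_rev, inv_inv]
        have h2 : (ρ g)⁻¹ * (ρ s)⁻¹ * ρ g' * x * ((ρ g')⁻¹ * (ρ s * ρ g))
            = (ρ g)⁻¹ * (ρ s)⁻¹ * (ρ g' * x * (ρ g')⁻¹) * ρ s * ρ g := by group
        rw [h2, h]
        group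
      calc ρ ((s * g)⁻¹ * g') * x
          = ρ ((s * g)⁻¹ * g') * x * (ρ ((s * g)⁻¹ * g'))⁻¹ * ρ ((s * g)⁻¹ * g') := by group
        _ = x * ρ ((s * g)⁻¹ * g') := by rw [h1]
    have h3 : g⁻¹ * g' = (g⁻¹ * s * g) * ((s * g)⁻¹ * g') := by group
    rw [h3]
    apply Subgroup.mul_mem
    · apply Subgroup.mem_sup_left
      have := (inferInstance : S.Normal).conj_mem s hs g⁻¹
      rwa [inv_inv] at this
    · exact Subgroup.mem_sup_right hc
  · intro h
    have h1 : g⁻¹ * g' ∈ (↑(S ⊔ commSub ρ x) : Set G) := h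
    rw [Subgroup.normal_mul] at h1
    obtain ⟨s, hs, c, hc, hsc⟩ := Set.mem_mul.1 h1
    have hg' : g' = g * s * c := by
      have hsc' : s * c = g⁻¹ * g' := hsc
      rw [mul_assoc, hsc']
      group
    refine ⟨ρ (g * s * g⁻¹), ⟨g * s * g⁻¹, (inferInstance : S.Normal).conj_mem s hs g, rfl⟩, ?_⟩
    rw [hg']
    have h2 : ρ (g * s * c) * x * (ρ (g * s * c))⁻¹
        = ρ (g * s) * (ρ c * x * (ρ c)⁻¹) * (ρ (g * s))⁻¹ := by
      simp only [map_mul, mul_inv_rev]
      group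
    rw [h2, conj_eq_of_mem_commSub hc]
    simp only [map_mul, map_inv, mul_inv_rev, inv_inv]
    group

theorem splitClassCount_eq (ρ : G →* X) (S : Subgroup G) [S.Normal] (x : X) :
    Cfsg.splitClassCount ρ.range (S.map ρ) x = (S ⊔ commSub ρ x).index := by
  classical
  unfold Cfsg.splitClassCount Subgroup.index
  have hrep : ∀ y : {y : X // Cfsg.IsConjUnder ρ.range x y},
      ∃ g : G, y.1 = ρ g * x * (ρ g)⁻¹ := by
    rintro ⟨y, _, ⟨g, rfl⟩, hy⟩
    exact ⟨g, hy⟩
  choose rep hrepspec using hrep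
  have hwd : ∀ y z : {y : X // Cfsg.IsConjUnder ρ.range x y},
      Cfsg.IsConjUnder (S.map ρ) y.1 z.1 →
      (QuotientGroup.mk (rep y) : G ⧸ (S ⊔ commSub ρ x)) = QuotientGroup.mk (rep z) := by
    intro y z hyz
    rw [hrepspec y, hrepspec z] at hyz
    exact QuotientGroup.eq.2 ((related_iff ρ S x _ _).1 hyz)
  apply Nat.card_congr
  refine Equiv.ofBijective (Quot.lift (fun y => (QuotientGroup.mk (rep y) :
    G ⧸ (S ⊔ commSub ρ x))) hwd) ⟨?_, ?_⟩
  · intro a b
    refine Quot.induction_on₂ a b ?_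
    intro y z h
    apply Quot.sound
    have h1 : (QuotientGroup.mk (rep y) : G ⧸ (S ⊔ commSub ρ x)) = QuotientGroup.mk (rep z) := h
    have h2 := (related_iff ρ S x _ _).2 (QuotientGroup.eq.1 h1)
    rw [← hrepspec y, ← hrepspec z] at h2
    exact h2
  · intro q
    obtain ⟨g, rfl⟩ := QuotientGroup.mk_surjective q
    refine ⟨Quot.mk _ ⟨ρ g * x * (ρ g)⁻¹, ρ g, ⟨g, rfl⟩, rfl⟩, ?_⟩
    show (QuotientGroup.mk (rep ⟨ρ g * x * (ρ g)⁻¹, ρ g, ⟨g, rfl⟩, rfl⟩) :
      G ⧸ (S ⊔ commSub ρ x)) = QuotientGroup.mk g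
    apply QuotientGroup.eq.2
    apply (related_iff ρ S x _ _).1
    rw [← hrepspec]
    exact ⟨1, one_mem _, by simp⟩

/-- If the normal subgroup is the kernel of a surjective homomorphism `d`, the count is the index
of the image of the commuting subgroup. -/
theorem splitClassCount_eq_index_map {A : Type*} [Group A] (ρ : G →* X) (d : G →* A)
    (hd : Function.Surjective d) (x : X) :
    Cfsg.splitClassCount ρ.range (d.ker.map ρ) x = ((commSub ρ x).map d).index := by
  rw [splitClassCount_eq, Subgroup.index_map, d.range_eq_top_of_surjective hd, Subgroup.index_top,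
    mul_one, sup_comm]

end

end Cfsg.Agent.Lib.Helper5.PSLCoset
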