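import Mathlib
import Cfsg.Agent.Lib.Helper5.PSL2Aut4

set_option autoImplicit false

/-!
Automorphisms of `PSL₂(F)`, part 5: composition and uniqueness of the semilinear form, and the
homomorphism to the group of field automorphisms.
-/

namespace Cfsg.Agent.Lib.Helper5.PSL2Aut

open Matrix Matrix.SpecialLinearGroup

section
variable {F : Type*} [Field F]

theorem fieldAut_coe (σ : F ≃+* F) (x : SpecialLinearGroup (Fin 2) F) :
    (fieldAut σ x : Matrix (Fin 2) (Fin 2) F)
      = (σ : F →+* F).mapMatrix (x : Matrix (Fin 2) (Fin 2) F) := rfl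

theorem fieldAut_glConj (σ : F ≃+* F) (g : GL (Fin 2) F) (x : SpecialLinearGroup (Fin 2) F) :
    fieldAut σ (glConj g x)
      = glConj (Matrix.GeneralLinearGroup.map (σ : F →+* F) g) (fieldAut σ x) := by
  apply Subtype.ext
  rw [fieldAut_coe, glConj_apply, glConj_apply, glConjFun_coe, glConjFun_coe, map_mul, map_mul,
    fieldAut_coe, ← map_inv]
  rfl

theorem semi_mul_semi (g g' : GL (Fin 2) F) (σ σ' : F ≃+* F) :
    semi g σ * semi g' σ'
      = semi (g * Matrix.GeneralLinearGroup.map (σ : F →+* F) g') (σ * σ') := by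
  apply MulEquiv.ext
  intro q
  obtain ⟨x, rfl⟩ := pi_surjective q
  rw [MulAut.mul_apply, semi_pi, semi_pi, semi_pi, map_mul, MulAut.mul_apply, fieldAut_glConj,
    map_mul, MulAut.mul_apply]

theorem eq_of_pi_eq_of_trace {a b c d a' b' c' d' : F} {h : a * d - b * c = 1}
    {h' : a' * d' - b' * c' = 1} (hpi : pi (mk2 a b c d h) = pi (mk2 a' b' c' d' h'))
    (ht : a + d = 2) (ht' : a' + d' = 2) : mk2 a b c d h = mk2 a' b' c' d' h' := by
  rw [pi_mk2_eq_iff] at hpi
  rcases hpi with ⟨h1, h2, h3, h4⟩ | ⟨h1, h2, h3, h4⟩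
  · exact mk2_congr h1 h2 h3 h4
  · have e4 : (2 : F) * 2 = 0 := by linear_combination -ht - ht' + h1 + h4
    have e2 : (2 : F) = 0 := by
      rcases mul_eq_zero.1 e4 with h | h <;> exact h
    have e1 : (1 : F) = -1 := by linear_combination e2
    apply mk2_congr
    · rw [h1, neg_eq_self_of_one_eq_neg_one e1]
    · rw [h2, neg_eq_self_of_one_eq_neg_one e1]
    · rw [h3, neg_eq_self_of_one_eq_neg_one e1]
    · rw [h4, neg_eq_self_of_one_eq_neg_one e1]

omit [Field F] in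
theorem of_eq_of_iff (a b c d a' b' c' d' : F) :
    (!![a, b; c, d] : Matrix (Fin 2) (Fin 2) F) = !![a', b'; c', d']
      ↔ a = a' ∧ b = b' ∧ c = c' ∧ d = d' := by
  constructor
  · intro e
    have h00 := congrFun (congrFun e 0) 0
    have h01 := congrFun (congrFun e 0) 1
    have h10 := congrFun (congrFun e 1) 0
    have h11 := congrFun (congrFun e 1) 1
    simp at h00 h01 h10 h11
    exact ⟨h00, h01, h10, h11⟩
  · rintro ⟨rfl, rfl, rfl, rfl⟩
    rfl

theorem trace_mk2 (a b c d : F) (h : a * d - b * c = 1) :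
    (mk2 a b c d h : Matrix (Fin 2) (Fin 2) F).trace = a + d := by
  rw [mk2_coe, Matrix.trace_fin_two_of]

theorem trace_glConj (g : GL (Fin 2) F) (x : SpecialLinearGroup (Fin 2) F) :
    (glConj g x : Matrix (Fin 2) (Fin 2) F).trace = (x : Matrix (Fin 2) (Fin 2) F).trace := by
  rw [glConj_apply, glConjFun_coe]
  exact Matrix.trace_units_conj g _

/-- If `pi (glConj h x) = pi y` with `x`, `y` of trace `2`, then `h x = y h` as matrices. -/
theorem mul_eq_of_pi_glConj_eq (h : GL (Fin 2) F) (x y : SpecialLinearGroup (Fin 2) F)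
    (hx : (x : Matrix (Fin 2) (Fin 2) F).trace = 2) (hy : (y : Matrix (Fin 2) (Fin 2) F).trace = 2)
    (hpi : pi (glConj h x) = pi y) :
    (h : Matrix (Fin 2) (Fin 2) F) * (x : Matrix (Fin 2) (Fin 2) F)
      = (y : Matrix (Fin 2) (Fin 2) F) * (h : Matrix (Fin 2) (Fin 2) F) := by
  have htr := trace_glConj h x
  rw [hx] at htr
  obtain ⟨a, b, c, d, hdet, e1⟩ := exists_mk2 (glConj h x)
  obtain ⟨a', b', c', d', hdet', e2⟩ := exists_mk2 y
  rw [e1, trace_mk2] at htr
  rw [e2, trace_mk2] at hy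
  rw [e1, e2] at hpi
  have e3 := eq_of_pi_eq_of_trace hpi htr hy
  rw [← e1, ← e2] at e3
  have e4 := congrArg (fun z : SpecialLinearGroup (Fin 2) F => (z : Matrix (Fin 2) (Fin 2) F)) e3
  simp only [glConj_apply, glConjFun_coe] at e4
  rw [← e4, Matrix.mul_assoc, ← Units.val_mul, inv_mul_cancel, Units.val_one, Matrix.mul_one]

theorem trace_xm (t : F) : (xm t : Matrix (Fin 2) (Fin 2) F).trace = 2 := by
  unfold xm
  rw [trace_mk2]
  norm_num

theorem trace_ym (t : F) : (ym t : Matrix (Fin 2) (Fin 2) F).trace = 2 := by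
  unfold ym
  rw [trace_mk2]
  norm_num

theorem fieldAut_xm (σ : F ≃+* F) (t : F) : fieldAut σ (xm t) = xm (σ t) := by
  unfold xm
  rw [fieldAut_mk2]
  apply mk2_congr
  · rw [map_one]
  · rfl
  · rw [map_zero]
  · rw [map_one]

theorem fieldAut_ym (σ : F ≃+* F) (t : F) : fieldAut σ (ym t) = ym (σ t) := by
  unfold ym
  rw [fieldAut_mk2]
  apply mk2_congr
  · rw [map_one]
  · rw [map_zero]
  · rfl
  · rw [map_one]

/-- Uniqueness of the semilinear form of an automorphism. -/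
theorem semi_eq_semi (g g' : GL (Fin 2) F) (σ σ' : F ≃+* F) (he : semi g σ = semi g' σ') :
    σ = σ' ∧ ∃ z : F, z ≠ 0 ∧
      (g : Matrix (Fin 2) (Fin 2) F) = z • (g' : Matrix (Fin 2) (Fin 2) F) := by
  have key : ∀ x : SpecialLinearGroup (Fin 2) F,
      pi (glConj (g'⁻¹ * g) (fieldAut σ x)) = pi (fieldAut σ' x) := by
    intro x
    have h1 := DFunLike.congr_fun he (pi x)
    rw [semi_pi, semi_pi] at h1
    have h2 := congrArg (quotAut (glConj g'⁻¹)) h1
    rw [quotAut_pi, quotAut_pi] at h2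
    have e1 : ∀ y, glConj g'⁻¹ (glConj g y) = glConj (g'⁻¹ * g) y := fun y => by
      rw [map_mul]; rfl
    have e2 : ∀ y, glConj g'⁻¹ (glConj g' y) = y := fun y => by
      rw [← MulAut.mul_apply, ← map_mul, inv_mul_cancel, map_one]; rfl
    rw [e1, e2] at h2
    exact h2
  obtain ⟨H, hH⟩ : ∃ H : Matrix (Fin 2) (Fin 2) F,
      H = ((g'⁻¹ * g : GL (Fin 2) F) : Matrix (Fin 2) (Fin 2) F) := ⟨_, rfl⟩
  have hx : ∀ t : F, H * (xm (σ t) : Matrix (Fin 2) (Fin 2) F)
      = (xm (σ' t) : Matrix (Fin 2) (Fin 2) F) * H := by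
    intro t
    rw [hH]
    apply mul_eq_of_pi_glConj_eq _ _ _ (trace_xm _) (trace_xm _)
    have := key (xm t)
    rw [fieldAut_xm, fieldAut_xm] at this
    exact this
  have hy : ∀ t : F, H * (ym (σ t) : Matrix (Fin 2) (Fin 2) F)
      = (ym (σ' t) : Matrix (Fin 2) (Fin 2) F) * H := by
    intro t
    rw [hH]
    apply mul_eq_of_pi_glConj_eq _ _ _ (trace_ym _) (trace_ym _)
    have := key (ym t)
    rw [fieldAut_ym, fieldAut_ym] at this
    exact this
  have hHeta : H = !![H 0 0, H 0 1; H 1 0, H 1 1] := Matrix.eta_fin_two H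
  obtain ⟨p, hp⟩ : ∃ p, H 0 0 = p := ⟨_, rfl⟩
  obtain ⟨q, hq⟩ : ∃ q, H 0 1 = q := ⟨_, rfl⟩
  obtain ⟨r, hr⟩ : ∃ r, H 1 0 = r := ⟨_, rfl⟩
  obtain ⟨s, hs⟩ : ∃ s, H 1 1 = s := ⟨_, rfl⟩
  rw [hp, hq, hr, hs] at hHeta
  have hx' : ∀ t : F, r * σ t = 0 ∧ p * σ t = σ' t * s ∧ σ' t * r = 0 := by
    intro t
    have h1 := hx t
    unfold xm at h1
    rw [mk2_coe, mk2_coe, hHeta, Matrix.mul_fin_two, Matrix.mul_fin_two, of_eq_of_iff] at h1
    obtain ⟨h00, h01, h10, h11⟩ := h1
    exact ⟨by linear_combination h11, by linear_combination h01, by linear_combination -h00⟩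
  have hy' : ∀ t : F, q * σ t = 0 := by
    intro t
    have h1 := hy t
    unfold ym at h1
    rw [mk2_coe, mk2_coe, hHeta, Matrix.mul_fin_two, Matrix.mul_fin_two, of_eq_of_iff] at h1
    obtain ⟨h00, h01, h10, h11⟩ := h1
    linear_combination h00
  have hr0 : r = 0 := by
    have := (hx' 1).1
    rw [map_one, mul_one] at this
    exact this
  have hq0 : q = 0 := by
    have := hy' 1
    rw [map_one, mul_one] at this
    exact this
  have hps : p = s := by
    have := (hx' 1).2.1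
    rw [map_one, map_one, mul_one, one_mul] at this
    exact this
  have hdetH : H.det ≠ 0 := by
    rw [hH]
    have h1 : IsUnit ((g'⁻¹ * g : GL (Fin 2) F) : Matrix (Fin 2) (Fin 2) F).det :=
      (Matrix.isUnit_iff_isUnit_det _).1 (Units.isUnit _)
    exact h1.ne_zero
  have hp0 : p ≠ 0 := by
    intro hp0
    apply hdetH
    rw [hHeta, Matrix.det_fin_two_of, hp0, hr0]
    ring
  refine ⟨?_, p, hp0, ?_⟩
  · apply RingEquiv.ext
    intro t
    have := (hx' t).2.1
    rw [← hps, mul_comm (σ' t)] at this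
    exact mul_left_cancel₀ hp0 this
  · have h1 : (g : Matrix (Fin 2) (Fin 2) F) = (g' : Matrix (Fin 2) (Fin 2) F) * H := by
      rw [hH, ← Units.val_mul, mul_inv_cancel_left]
    rw [h1, hHeta, hr0, hq0, ← hps]
    have : !![p, 0; 0, p] = p • (1 : Matrix (Fin 2) (Fin 2) F) := by
      rw [Matrix.one_fin_two, Matrix.smul_of]
      simp
    rw [this, Matrix.mul_smul, Matrix.mul_one]

end

section
variable {F : Type*} [Field F] [Fintype F]

/-- The field automorphism attached to an automorphism of `PSL₂(F)`. -/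
noncomputable def sigmaOf {p f : ℕ} [Fact p.Prime] (hf : 1 ≤ f) (hF : Fintype.card F = p ^ f)
    (α : MulAut (ProjectiveSpecialLinearGroup (Fin 2) F)) : F ≃+* F :=
  Classical.choose (Classical.choose_spec (exists_semi hf hF α))

theorem sigmaOf_spec {p f : ℕ} [Fact p.Prime] (hf : 1 ≤ f) (hF : Fintype.card F = p ^ f)
    (α : MulAut (ProjectiveSpecialLinearGroup (Fin 2) F)) :
    ∃ g : GL (Fin 2) F, α = semi g (sigmaOf hf hF α) :=
  ⟨_, Classical.choose_spec (Classical.choose_spec (exists_semi hf hF α))⟩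

theorem sigmaOf_semi {p f : ℕ} [Fact p.Prime] (hf : 1 ≤ f) (hF : Fintype.card F = p ^ f)
    (g : GL (Fin 2) F) (σ : F ≃+* F) : sigmaOf hf hF (semi g σ) = σ := by
  obtain ⟨g', hg'⟩ := sigmaOf_spec hf hF (semi g σ)
  exact ((semi_eq_semi _ _ _ _ hg').1).symm

/-- The homomorphism from `Aut(PSL₂(F))` to the group of field automorphisms. -/
noncomputable def sigmaHom {p f : ℕ} [Fact p.Prime] (hf : 1 ≤ f)
    (hF : Fintype.card F = p ^ f) :
    MulAut (ProjectiveSpecialLinearGroup (Fin 2) F) →* (F ≃+* F) where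
  toFun := sigmaOf hf hF
  map_one' := by
    rw [← semi_one_one, sigmaOf_semi]
  map_mul' α β := by
    obtain ⟨g, hg⟩ := sigmaOf_spec hf hF α
    obtain ⟨g', hg'⟩ := sigmaOf_spec hf hF β
    conv_lhs => rw [hg, hg', semi_mul_semi, sigmaOf_semi]

theorem sigmaHom_semi {p f : ℕ} [Fact p.Prime] (hf : 1 ≤ f) (hF : Fintype.card F = p ^ f)
    (g : GL (Fin 2) F) (σ : F ≃+* F) : sigmaHom hf hF (semi g σ) = σ :=
  sigmaOf_semi hf hF g σ

theorem sigmaHom_surjective {p f : ℕ} [Fact p.Prime] (hf : 1 ≤ f)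
    (hF : Fintype.card F = p ^ f) : Function.Surjective (sigmaHom (F := F) hf hF) :=
  fun σ => ⟨semi 1 σ, sigmaHom_semi hf hF 1 σ⟩

theorem mem_ker_sigmaHom_iff {p f : ℕ} [Fact p.Prime] (hf : 1 ≤ f)
    (hF : Fintype.card F = p ^ f) (α : MulAut (ProjectiveSpecialLinearGroup (Fin 2) F)) :
    α ∈ (sigmaHom (F := F) hf hF).ker ↔ ∃ g : GL (Fin 2) F, α = semi g 1 := by
  rw [MonoidHom.mem_ker]
  constructor
  · intro h
    obtain ⟨g, hg⟩ := sigmaOf_spec hf hF α
    refine ⟨g, ?_⟩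
    have h' : sigmaOf hf hF α = 1 := h
    rw [h'] at hg
    exact hg
  · rintro ⟨g, rfl⟩
    exact sigmaHom_semi hf hF g 1

end

end Cfsg.Agent.Lib.Helper5.PSL2Aut
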