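import Mathlib
import Cfsg.Agent.Lib.Helper5.PSL2Aut5

set_option autoImplicit false

/-!
Automorphisms of `PSL₂(F)`, part 6: the group of field automorphisms of a finite field.
-/

namespace Cfsg.Agent.Lib.Helper5.PSL2Aut

section
variable {F : Type*} [Field F] [Fintype F]

theorem charP_of_card {p f : ℕ} [Fact p.Prime] (hf : 1 ≤ f) (hF : Fintype.card F = p ^ f) :
    CharP F p := by
  have hp : p.Prime := Fact.out
  obtain ⟨n, hr, hn⟩ := FiniteField.card F (ringChar F)
  have h1 : p ∣ ringChar F ^ (n : ℕ) := by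
    rw [← hn, hF]
    exact dvd_pow_self p (by omega)
  have h2 : p ∣ ringChar F := hp.dvd_of_dvd_pow h1
  have h3 : p = ringChar F := (Nat.prime_dvd_prime_iff_eq hp hr).1 h2
  rw [h3]
  exact ringChar.charP F

/-- Ring automorphisms of a finite field of characteristic `p` are algebra automorphisms over the
prime field. -/
noncomputable def ringAutEquiv (p : ℕ) [Fact p.Prime] [CharP F p] :
    letI := ZMod.algebra F p
    (F ≃+* F) ≃* (F ≃ₐ[ZMod p] F) :=
  letI := ZMod.algebra F p
  { toFun := fun σ => AlgEquiv.ofRingEquiv (f := σ) (by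
      intro r
      have h : ((σ : F →+* F).comp (algebraMap (ZMod p) F)) = algebraMap (ZMod p) F :=
        Subsingleton.elim _ _
      exact DFunLike.congr_fun h r)
    invFun := fun τ => τ.toRingEquiv
    left_inv := fun σ => by
      apply RingEquiv.ext
      intro x
      rfl
    right_inv := fun τ => by
      apply AlgEquiv.ext
      intro x
      rfl
    map_mul' := fun σ τ => by
      apply AlgEquiv.ext
      intro x
      rfl }

theorem ringAut_cyclic_card {p f : ℕ} [Fact p.Prime] (hf : 1 ≤ f)
    (hF : Fintype.card F = p ^ f) : IsCyclic (F ≃+* F) ∧ Nat.card (F ≃+* F) = f := by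
  have hp : p.Prime := Fact.out
  have : CharP F p := charP_of_card hf hF
  let _ := ZMod.algebra F p
  have e := ringAutEquiv (F := F) p
  have hcyc : IsCyclic (F ≃ₐ[ZMod p] F) := inferInstance
  refine ⟨isCyclic_of_surjective e.symm e.symm.surjective, ?_⟩
  rw [Nat.card_congr e.toEquiv, IsGalois.card_aut_eq_finrank]
  have h1 := Module.card_eq_pow_finrank (K := ZMod p) (V := F)
  rw [hF, ZMod.card] at h1
  exact (Nat.pow_right_injective hp.two_le h1).symm

theorem exists_ringAut_iso {p f : ℕ} [Fact p.Prime] (hf : 1 ≤ f)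
    (hF : Fintype.card F = p ^ f) : Nonempty ((F ≃+* F) ≃* Multiplicative (ZMod f)) := by
  obtain ⟨hcyc, hcard⟩ := ringAut_cyclic_card hf hF
  have e := zmodCyclicMulEquiv hcyc
  rw [hcard] at e
  exact ⟨e.symm⟩

end

end Cfsg.Agent.Lib.Helper5.PSL2Aut
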