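import Mathlib
import Cfsg.Prelude.Def_KGroupFacts
import Cfsg.Agent.Lib.Helper5.PSL2Aut6
import Cfsg.Agent.Lib.Helper5.SLnOut3

set_option autoImplicit false

/-!
The structure of `Out(PSL_n(F))` for `n ≥ 3`.
-/

namespace Cfsg.Agent.Lib.Helper5.SLnAut

open Matrix Matrix.SpecialLinearGroup Cfsg.Agent.Lib.Helper5.SLnBN

section
variable {ι : Type*} [Fintype ι] [DecidableEq ι] {F : Type*} [Field F]

theorem diagGL_mul (d d' : ι → Fˣ) : (diagGL (d * d') : GL ι F) = diagGL d * diagGL d' := by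
  apply Units.ext
  rw [Units.val_mul, diagGL_coe, diagGL_coe, diagGL_coe, Matrix.diagonal_mul_diagonal]
  rfl

theorem diagGL_one : (diagGL (1 : ι → Fˣ) : GL ι F) = 1 := by
  apply Units.ext
  rw [diagGL_coe, Units.val_one]
  exact Matrix.diagonal_one

/-- The diagonal embedding of `(Fˣ)^n` in `GL_n(F)`. -/
def diagGLHom : (ι → Fˣ) →* GL ι F where
  toFun := diagGL
  map_one' := diagGL_one
  map_mul' := diagGL_mul

theorem det_diagGL (d : ι → Fˣ) : Matrix.GeneralLinearGroup.det (diagGL d : GL ι F) = ∏ k, d k := by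
  apply Units.ext
  rw [Matrix.GeneralLinearGroup.val_det_apply, diagGL_coe, Matrix.det_diagonal, Units.coe_prod]

/-- The embedding `u ↦ diag(u, 1, …, 1)`. -/
def dgNHom (i₀ : ι) : Fˣ →* GL ι F := diagGLHom.comp (MonoidHom.mulSingle (fun _ : ι => Fˣ) i₀)

theorem det_dgNHom (i₀ : ι) (u : Fˣ) :
    Matrix.GeneralLinearGroup.det (dgNHom (F := F) i₀ u) = u := by
  change Matrix.GeneralLinearGroup.det (diagGL (Pi.mulSingle i₀ u) : GL ι F) = u
  rw [det_diagGL, Finset.prod_pi_mulSingle' i₀ u Finset.univ, if_pos (Finset.mem_univ _)]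

theorem exists_dgN_mul (i₀ : ι) (g : GL ι F) :
    ∃ (u : Fˣ) (s : SpecialLinearGroup ι F),
      g = dgNHom i₀ u * Matrix.SpecialLinearGroup.toGL s := by
  obtain ⟨u, hu⟩ : ∃ u : Fˣ, u = Matrix.GeneralLinearGroup.det g := ⟨_, rfl⟩
  have hdet : Matrix.GeneralLinearGroup.det ((dgNHom i₀ u)⁻¹ * g) = 1 := by
    rw [map_mul, map_inv, det_dgNHom, hu, inv_mul_cancel]
  have hdet' : (((dgNHom i₀ u)⁻¹ * g : GL ι F) : Matrix ι ι F).det = 1 := by
    rw [← Matrix.GeneralLinearGroup.val_det_apply, hdet, Units.val_one]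
  refine ⟨u, ⟨(((dgNHom i₀ u)⁻¹ * g : GL ι F) : Matrix ι ι F), hdet'⟩, ?_⟩
  have e : Matrix.SpecialLinearGroup.toGL
      (⟨(((dgNHom i₀ u)⁻¹ * g : GL ι F) : Matrix ι ι F), hdet'⟩ :
        SpecialLinearGroup ι F) = (dgNHom i₀ u)⁻¹ * g := Units.ext rfl
  rw [e, mul_inv_cancel_left]

/-- The diagonal automorphisms of `PSL_n(F)`. -/
def diagAutN (i₀ : ι) : Fˣ →* MulAut (ProjectiveSpecialLinearGroup ι F) :=
  quotAut.comp (glConj.comp (dgNHom i₀))

theorem diagAutN_apply (i₀ : ι) (u : Fˣ) :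
    diagAutN (F := F) i₀ u = semi (dgNHom i₀ u) (1 : F ≃+* F) := by
  unfold semi diagAutN
  rw [map_one, mul_one]
  rfl

theorem diagAutN_mem_inn_iff [Nontrivial ι] (i₀ : ι) (u : Fˣ) :
    diagAutN (F := F) i₀ u ∈ Cfsg.Inn (ProjectiveSpecialLinearGroup ι F)
      ↔ ∃ z : Fˣ, z ^ Fintype.card ι = u := by
  constructor
  · rintro ⟨q, hq⟩
    obtain ⟨s, rfl⟩ := piN_surjective q
    rw [diagAutN_apply, conj_piN_eq_semi] at hq
    obtain ⟨_, z, hz, hzm⟩ := semi_eq_semi _ _ _ _ hq.symm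
    refine ⟨Units.mk0 z hz, ?_⟩
    apply Units.ext
    have h1 := congrArg Matrix.det hzm
    rw [Matrix.det_smul, Matrix.SpecialLinearGroup.coe_GL_coe_matrix, s.2, mul_one,
      ← Matrix.GeneralLinearGroup.val_det_apply, det_dgNHom] at h1
    rw [Units.val_pow_eq_pow_val, Units.val_mk0, ← h1]
  · rintro ⟨z, rfl⟩
    have hdet : (((z⁻¹ : Fˣ) : F) • ((dgNHom i₀ (z ^ Fintype.card ι) : GL ι F) :
        Matrix ι ι F)).det = 1 := by
      rw [Matrix.det_smul, ← Matrix.GeneralLinearGroup.val_det_apply, det_dgNHom,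
        Units.val_pow_eq_pow_val, ← mul_pow, Units.inv_mul, one_pow]
    obtain ⟨s, hs⟩ : ∃ s : SpecialLinearGroup ι F, (s : Matrix ι ι F)
        = ((z⁻¹ : Fˣ) : F) • ((dgNHom i₀ (z ^ Fintype.card ι) : GL ι F) : Matrix ι ι F) :=
      ⟨⟨_, hdet⟩, rfl⟩
    refine ⟨piN s, ?_⟩
    change MulAut.conj (piN s) = _
    rw [diagAutN_apply, conj_piN_eq_semi]
    symm
    apply semi_eq_of_smul _ _ _ (z : F) (Units.ne_zero z)
    rw [Matrix.SpecialLinearGroup.coe_GL_coe_matrix, hs, smul_smul, Units.mul_inv, one_smul]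

end

section
variable {n : ℕ} {F : Type*} [Field F] [Fintype F]

theorem inn_le_ker {p f : ℕ} [Fact p.Prime] (hf : 1 ≤ f) (hF : Fintype.card F = p ^ f)
    (hn : 3 ≤ n) :
    Cfsg.Inn (ProjectiveSpecialLinearGroup (Fin n) F)
      ≤ (sigEpsHom (n := n) (F := F) hf hF hn).ker := by
  rintro _ ⟨q, rfl⟩
  obtain ⟨s, rfl⟩ := piN_surjective q
  rw [MonoidHom.mem_ker, conj_piN_eq_semi, sigEpsHom_semi]
  rfl

/-- The structure of `Out(PSL_n(F))`, `n ≥ 3`. -/
theorem out_structure {p f : ℕ} [Fact p.Prime] (hf : 1 ≤ f) (hF : Fintype.card F = p ^ f)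
    (hn : 3 ≤ n) :
    ∃ φ : Cfsg.Out (ProjectiveSpecialLinearGroup (Fin n) F) →*
        Multiplicative (ZMod f × ZMod 2),
      Function.Surjective φ ∧ IsCyclic φ.ker ∧ Nat.card φ.ker = Nat.gcd n (p ^ f - 1) := by
  have : Nontrivial (Fin n) := Fin.nontrivial_iff_two_le.2 (by omega)
  obtain ⟨e₀⟩ := Cfsg.Agent.Lib.Helper5.PSL2Aut.exists_ringAut_iso hf hF
  obtain ⟨e, he⟩ : ∃ e : (F ≃+* F) × Multiplicative (ZMod 2) ≃* Multiplicative (ZMod f × ZMod 2),
      e = (MulEquiv.prodCongr e₀ (MulEquiv.refl _)).trans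
        (MulEquiv.prodMultiplicative (G := ZMod f) (H := ZMod 2)).symm := ⟨_, rfl⟩
  obtain ⟨φ₀, hφ₀⟩ : ∃ φ₀ : Cfsg.Out (ProjectiveSpecialLinearGroup (Fin n) F) →*
      (F ≃+* F) × Multiplicative (ZMod 2),
      φ₀ = QuotientGroup.lift (Cfsg.Inn (ProjectiveSpecialLinearGroup (Fin n) F))
        (sigEpsHom (n := n) (F := F) hf hF hn) (inn_le_ker hf hF hn) := ⟨_, rfl⟩
  have hφ₀mk : ∀ α : MulAut (ProjectiveSpecialLinearGroup (Fin n) F),
      φ₀ (QuotientGroup.mk α) = sigEpsHom hf hF hn α := by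
    intro α
    rw [hφ₀]
    rfl
  have hφ₀surj : Function.Surjective φ₀ := by
    rw [hφ₀]
    exact QuotientGroup.lift_surjective_of_surjective _ _ (sigEpsHom_surjective hf hF hn) _
  obtain ⟨i₀, hi₀⟩ : ∃ i₀ : Fin n, i₀ = ⟨0, by omega⟩ := ⟨_, rfl⟩
  obtain ⟨ψ₀, hψ₀⟩ : ∃ ψ₀ : Fˣ →* Cfsg.Out (ProjectiveSpecialLinearGroup (Fin n) F),
      ψ₀ = (QuotientGroup.mk' (Cfsg.Inn (ProjectiveSpecialLinearGroup (Fin n) F))).comp
        (diagAutN i₀) := ⟨_, rfl⟩
  have hψ₀apply : ∀ u : Fˣ, ψ₀ u = QuotientGroup.mk (diagAutN i₀ u) := by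
    intro u
    rw [hψ₀]
    rfl
  refine ⟨e.toMonoidHom.comp φ₀, ?_, ?_⟩
  · exact e.surjective.comp hφ₀surj
  have hkr : (e.toMonoidHom.comp φ₀).ker = ψ₀.range := by
    ext q
    rw [MonoidHom.mem_ker, MonoidHom.comp_apply]
    constructor
    · intro hq
      have hq' : φ₀ q = 1 := by
        apply e.injective
        rw [map_one]
        exact hq
      obtain ⟨α, rfl⟩ := QuotientGroup.mk_surjective q
      rw [hφ₀mk] at hq'
      obtain ⟨g, hg⟩ := (mem_ker_sigEpsHom_iff hf hF hn α).1 hq'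
      obtain ⟨u, s, hus⟩ := exists_dgN_mul i₀ g
      refine ⟨u, ?_⟩
      rw [hψ₀apply, hg, hus, ← semi_one_mul_semi, ← conj_piN_eq_semi, ← diagAutN_apply,
        QuotientGroup.mk_mul]
      have : (QuotientGroup.mk (MulAut.conj (piN s)) :
          Cfsg.Out (ProjectiveSpecialLinearGroup (Fin n) F)) = 1 := by
        rw [QuotientGroup.eq_one_iff]
        exact ⟨piN s, rfl⟩
      rw [this, mul_one]
    · rintro ⟨u, rfl⟩
      rw [hψ₀apply, hφ₀mk, diagAutN_apply, sigEpsHom_semi]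
      exact map_one e
  have hψker : ψ₀.ker = (powMonoidHom n : Fˣ →* Fˣ).range := by
    ext u
    rw [MonoidHom.mem_ker, hψ₀apply, QuotientGroup.eq_one_iff, diagAutN_mem_inn_iff,
      MonoidHom.mem_range, Fintype.card_fin]
    rfl
  rw [hkr]
  refine ⟨isCyclic_of_surjective ψ₀.rangeRestrict ψ₀.rangeRestrict_surjective, ?_⟩
  rw [← Subgroup.index_ker, hψker, IsCyclic.index_powMonoidHom_range, Nat.card_units,
    Nat.card_eq_fintype_card, hF, Nat.gcd_comm]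

end

end Cfsg.Agent.Lib.Helper5.SLnAut
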