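import Mathlib
import Cfsg.Agent.Lib.Helper5.PSLCoset1
import Cfsg.Agent.Lib.Helper5.PSLCoset7
import Cfsg.Agent.Lib.Helper5.SLnOut4

set_option autoImplicit false

/-!
The class splitting count for `PSL_n(F)`: the `Inndiag`-class of an automorphism `x` splits into
`|Fˣ : det(C̃(x))|` inner classes, where `C̃(x)` is the group of matrices inducing automorphisms
commuting with `x`.
-/

namespace Cfsg.Agent.Lib.Helper5.PSLCoset

open Matrix Matrix.SpecialLinearGroup Cfsg.Agent.Lib.Helper5.SLnAut Cfsg.Agent.Lib.Helper5.SLnBN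

section
variable {n : ℕ} {F : Type*} [Field F]

/-- The homomorphism `g ↦ semi g 1` from `GL_n(F)` to the automorphism group of `PSL_n(F)`. -/
def semiHom (n : ℕ) (F : Type*) [Field F] :
    GL (Fin n) F →* MulAut (ProjectiveSpecialLinearGroup (Fin n) F) where
  toFun g := semi g (1 : F ≃+* F)
  map_one' := semi_one_one
  map_mul' g g' := (semi_one_mul_semi_one g g').symm

theorem semiHom_apply (g : GL (Fin n) F) : semiHom n F g = semi g (1 : F ≃+* F) := rfl

theorem range_semiHom : (semiHom n F).range = Cfsg.inndiagPSL n F := by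
  ext β
  rw [mem_inndiag_iff]
  constructor
  · rintro ⟨g, rfl⟩
    exact ⟨g, rfl⟩
  · rintro ⟨g, rfl⟩
    exact ⟨g, rfl⟩

theorem map_ker_det :
    (Matrix.GeneralLinearGroup.det (n := Fin n) (R := F)).ker.map (semiHom n F)
      = Cfsg.Inn (ProjectiveSpecialLinearGroup (Fin n) F) := by
  ext β
  constructor
  · rintro ⟨g, hg, rfl⟩
    rw [SetLike.mem_coe, MonoidHom.mem_ker] at hg
    have hdet : (g : Matrix (Fin n) (Fin n) F).det = 1 := by
      rw [← Matrix.GeneralLinearGroup.val_det_apply, hg, Units.val_one]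
    obtain ⟨s, e⟩ : ∃ s : SpecialLinearGroup (Fin n) F,
        Matrix.SpecialLinearGroup.toGL s = g :=
      ⟨⟨(g : Matrix (Fin n) (Fin n) F), hdet⟩, Units.ext rfl⟩
    refine ⟨piN s, ?_⟩
    rw [conj_piN_eq_semi, e]
    rfl
  · rintro ⟨q, rfl⟩
    obtain ⟨s, rfl⟩ := piN_surjective q
    refine ⟨Matrix.SpecialLinearGroup.toGL s, ?_, ?_⟩
    · rw [SetLike.mem_coe, MonoidHom.mem_ker]
      apply Units.ext
      rw [Matrix.GeneralLinearGroup.val_det_apply, Units.val_one]
      exact s.2
    · rw [conj_piN_eq_semi]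
      rfl

theorem det_surjective (hn : 1 ≤ n) :
    Function.Surjective (Matrix.GeneralLinearGroup.det (n := Fin n) (R := F)) := by
  intro u
  exact ⟨dgNHom ⟨0, by omega⟩ u, det_dgNHom _ u⟩

theorem splitCount_eq (hn : 1 ≤ n) (x : MulAut (ProjectiveSpecialLinearGroup (Fin n) F)) :
    Cfsg.splitClassCount (Cfsg.inndiagPSL n F)
      (Cfsg.Inn (ProjectiveSpecialLinearGroup (Fin n) F)) x
      = ((commSub (semiHom n F) x).map
        (Matrix.GeneralLinearGroup.det (n := Fin n) (R := F))).index := by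
  rw [← range_semiHom, ← map_ker_det]
  exact splitClassCount_eq_index_map (semiHom n F) _ (det_surjective hn) x

end

section
variable {X : Type*} [Group X] {G : Type*} [Group G] {A : Type*} [CommGroup A]

theorem map_commSub_conj (ρ : G →* X) (d : G →* A) (h : G) (x : X) :
    (commSub ρ (ρ h * x * (ρ h)⁻¹)).map d = (commSub ρ x).map d := by
  have key : ∀ c : G, c ∈ commSub ρ (ρ h * x * (ρ h)⁻¹) ↔ h⁻¹ * c * h ∈ commSub ρ x := by
    intro c
    rw [mem_commSub, mem_commSub]
    simp only [map_mul, map_inv]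
    constructor
    · intro hc
      have h1 : (ρ h)⁻¹ * ρ c * ρ h * x
          = (ρ h)⁻¹ * (ρ c * (ρ h * x * (ρ h)⁻¹)) * ρ h := by group
      rw [h1, hc]
      group
    · intro hc
      have h1 : ρ c * (ρ h * x * (ρ h)⁻¹)
          = ρ h * ((ρ h)⁻¹ * ρ c * ρ h * x) * (ρ h)⁻¹ := by group
      rw [h1, hc]
      group
  ext a
  constructor
  · rintro ⟨c, hc, rfl⟩
    refine ⟨h⁻¹ * c * h, (key c).1 hc, ?_⟩
    rw [map_mul, map_mul, map_inv, mul_comm _ (d c), mul_assoc, inv_mul_cancel, mul_one]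
  · rintro ⟨c, hc, rfl⟩
    refine ⟨h * c * h⁻¹, (key _).2 (by
      have : h⁻¹ * (h * c * h⁻¹) * h = c := by group
      rw [this]
      exact hc), ?_⟩
    rw [map_mul, map_mul, map_inv, mul_comm (d h), mul_assoc, mul_inv_cancel, mul_one]

end

end Cfsg.Agent.Lib.Helper5.PSLCoset
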