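import Mathlib
import Cfsg.Agent.Lib.Helper5.PSLCoset6
import Cfsg.Agent.Lib.Helper5.PSLCoset8
import Cfsg.Agent.Lib.Helper5.PSLCoset9

set_option autoImplicit false

/-!
The matrices commuting with a standard graph-field involution of `PSL_n(F)`, and the resulting
class splitting count.
-/

namespace Cfsg.Agent.Lib.Helper5.PSLCoset

open Matrix Matrix.SpecialLinearGroup Cfsg.Agent.Lib.Helper5.SLnAut Cfsg.Agent.Lib.Helper5.SLnBN

section
variable {n : ℕ} {F : Type*} [Field F]

theorem coe_eq_smul_iff (c X : GL (Fin n) F) (z : F) :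
    (c : Matrix (Fin n) (Fin n) F) = z • (X : Matrix (Fin n) (Fin n) F)
      ↔ (c : Matrix (Fin n) (Fin n) F) * ((X⁻¹ : GL (Fin n) F) : Matrix (Fin n) (Fin n) F)
        = z • 1 := by
  constructor
  · intro h
    rw [h, Matrix.smul_mul, ← Units.val_mul, mul_inv_cancel, Units.val_one]
  · intro h
    have h1 := congrArg (fun M => M * (X : Matrix (Fin n) (Fin n) F)) h
    beta_reduce at h1
    rw [Matrix.mul_assoc, ← Units.val_mul, inv_mul_cancel, Units.val_one, Matrix.mul_one,
      Matrix.smul_mul, Matrix.one_mul] at h1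
    exact h1

theorem coe_map_tauGL_inv (σ : F ≃+* F) (c : GL (Fin n) F) :
    (((Matrix.GeneralLinearGroup.map (σ : F →+* F) (tauGL c))⁻¹ : GL (Fin n) F) :
      Matrix (Fin n) (Fin n) F) = ((c : Matrix (Fin n) (Fin n) F).map σ)ᵀ := by
  rw [← Matrix.GeneralLinearGroup.map_inv, coe_map_GL, tauGL_inv_coe, Matrix.transpose_map]

theorem mem_commSub_graphfield [Nontrivial (Fin n)] (σ : F ≃+* F) (c : GL (Fin n) F) :
    c ∈ commSub (semiHom n F) (semi (1 : GL (Fin n) F) σ * tauBar) ↔
      ∃ z : F, z ≠ 0 ∧ (c : Matrix (Fin n) (Fin n) F)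
        * ((c : Matrix (Fin n) (Fin n) F).map σ)ᵀ = z • 1 := by
  rw [mem_commSub, semiHom_apply]
  have h1 : semi c (1 : F ≃+* F) * (semi (1 : GL (Fin n) F) σ * tauBar)
      = semi c σ * tauBar := by
    rw [← mul_assoc, semi_one_mul_semi, mul_one]
  have h2 : semi (1 : GL (Fin n) F) σ * tauBar * semi c (1 : F ≃+* F)
      = semi (Matrix.GeneralLinearGroup.map (σ : F →+* F) (tauGL c)) σ * tauBar := by
    rw [mul_assoc, tauBar_mul_semi, ← mul_assoc, semi_mul_semi, one_mul, mul_one]
  rw [h1, h2]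
  constructor
  · intro h
    obtain ⟨-, z, hz0, hz⟩ := semi_eq_semi _ _ _ _ (mul_right_cancel h)
    refine ⟨z, hz0, ?_⟩
    rw [coe_eq_smul_iff, coe_map_tauGL_inv] at hz
    exact hz
  · rintro ⟨z, hz0, hz⟩
    congr 1
    apply semi_eq_of_smul _ _ σ z hz0
    rw [coe_eq_smul_iff, coe_map_tauGL_inv]
    exact hz

end

section
variable {n : ℕ} {F : Type*} [Field F] [Finite F]

/-- A matrix commuting with a standard graph-field involution is a scalar multiple of a unitary
matrix. -/
theorem exists_unitary_smul (hn : 2 ≤ n) (σ : F ≃+* F) (hσ : orderOf σ = 2) (c : GL (Fin n) F)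
    (hc : c ∈ commSub (semiHom n F) (semi (1 : GL (Fin n) F) σ * tauBar)) :
    ∃ (a : F) (ha0 : a ≠ 0) (c' : GL (Fin n) F),
      (c : Matrix (Fin n) (Fin n) F) = a • (c' : Matrix (Fin n) (Fin n) F) ∧
      (c' : Matrix (Fin n) (Fin n) F) * ((c' : Matrix (Fin n) (Fin n) F).map σ)ᵀ = 1 := by
  have : Nontrivial (Fin n) := Fin.nontrivial_iff_two_le.2 hn
  have hσσ : σ * σ = 1 := by
    rw [← pow_two, ← hσ]
    exact pow_orderOf_eq_one σ
  have hσ2 : ∀ a : F, σ (σ a) = a := fun a => DFunLike.congr_fun hσσ a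
  have hnrm2 : ∀ a : F, nrm σ 2 a = a * σ a := by
    intro a
    unfold nrm
    rw [Finset.prod_range_succ, Finset.prod_range_one, pow_zero, pow_one]
    rfl
  obtain ⟨z, hz0, hz⟩ := (mem_commSub_graphfield σ c).1 hc
  -- `z` is fixed
  have hzfix : σ z = z := by
    have h1 := congrArg (fun M : Matrix (Fin n) (Fin n) F => (M.map σ)ᵀ) hz
    beta_reduce at h1
    rw [Matrix.map_mul, Matrix.transpose_mul] at h1
    have h2 : (((c : Matrix (Fin n) (Fin n) F).map σ)ᵀ.map σ)ᵀ
        = (c : Matrix (Fin n) (Fin n) F) := by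
      ext i j
      simp [hσ2]
    have h3 : ((z • (1 : Matrix (Fin n) (Fin n) F)).map σ)ᵀ = σ z • 1 := by
      ext i j
      by_cases hij : i = j
      · simp [hij]
      · simp [hij, Ne.symm hij]
    rw [h2, h3, hz] at h1
    have h5 := congrFun (congrFun h1 ⟨0, by omega⟩) ⟨0, by omega⟩
    simpa using h5.symm
  obtain ⟨a, ha0, ha⟩ := exists_nrm_eq σ 2 hσ (by norm_num) z hz0 hzfix
  rw [hnrm2] at ha
  -- rescale
  obtain ⟨c', hc'⟩ : ∃ c' : GL (Fin n) F, c' = smulGL a⁻¹ (inv_ne_zero ha0) c := ⟨_, rfl⟩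
  have hc'coe : (c' : Matrix (Fin n) (Fin n) F) = a⁻¹ • (c : Matrix (Fin n) (Fin n) F) := by
    rw [hc', coe_smulGL]
  have hccoe : (c : Matrix (Fin n) (Fin n) F) = a • (c' : Matrix (Fin n) (Fin n) F) := by
    rw [hc'coe, smul_smul, mul_inv_cancel₀ ha0, one_smul]
  refine ⟨a, ha0, c', hccoe, ?_⟩
  have h1 : ((a⁻¹ • (c : Matrix (Fin n) (Fin n) F)).map σ)
      = σ a⁻¹ • (c : Matrix (Fin n) (Fin n) F).map σ := by
    ext i j
    simp
  rw [hc'coe, h1, Matrix.transpose_smul, Matrix.smul_mul, Matrix.mul_smul, hz, smul_smul,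
    smul_smul, map_inv₀, ← ha]
  have : a⁻¹ * (σ a)⁻¹ * (a * σ a) = 1 := by
    have hσa : σ a ≠ 0 := (map_ne_zero_iff _ σ.injective).2 ha0
    field_simp
  rw [this, one_smul]

/-- The determinants of the matrices commuting with a standard graph-field involution. -/
theorem map_det_commSub_graphfield (hn : 2 ≤ n) (σ : F ≃+* F) (hσ : orderOf σ = 2) :
    (commSub (semiHom n F) (semi (1 : GL (Fin n) F) σ * tauBar)).map
        (Matrix.GeneralLinearGroup.det (n := Fin n) (R := F))
      = (powMonoidHom n : Fˣ →* Fˣ).range ⊔ (nrmHom σ 2).ker := by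
  have : Nontrivial (Fin n) := Fin.nontrivial_iff_two_le.2 hn
  have hnrm2 : ∀ a : F, nrm σ 2 a = a * σ a := by
    intro a
    unfold nrm
    rw [Finset.prod_range_succ, Finset.prod_range_one, pow_zero, pow_one]
    rfl
  apply le_antisymm
  · rintro _ ⟨c, hc, rfl⟩
    obtain ⟨a, ha0, c', hccoe, hunit⟩ := exists_unitary_smul hn σ hσ c hc
    have hdet : Matrix.GeneralLinearGroup.det c
        = (Units.mk0 a ha0) ^ n * Matrix.GeneralLinearGroup.det c' := by
      apply Units.ext
      rw [Units.val_mul, Matrix.GeneralLinearGroup.val_det_apply,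
        Matrix.GeneralLinearGroup.val_det_apply, hccoe, Matrix.det_smul, Fintype.card_fin,
        Units.val_pow_eq_pow_val, Units.val_mk0]
    rw [SetLike.mem_coe] at hc
    show Matrix.GeneralLinearGroup.det c ∈ _
    rw [hdet]
    apply Subgroup.mul_mem
    · exact Subgroup.mem_sup_left ⟨Units.mk0 a ha0, rfl⟩
    · apply Subgroup.mem_sup_right
      rw [MonoidHom.mem_ker]
      apply Units.ext
      rw [coe_nrmHom, hnrm2, Units.val_one, Matrix.GeneralLinearGroup.val_det_apply]
      have h2 := congrArg Matrix.det hunit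
      rw [Matrix.det_mul, Matrix.det_transpose, Matrix.det_one] at h2
      rw [← h2]
      congr 1
      have := (RingHom.map_det (σ : F →+* F) (c' : Matrix (Fin n) (Fin n) F))
      exact this
  · rw [sup_le_iff]
    constructor
    · rintro _ ⟨u, rfl⟩
      refine ⟨Matrix.GeneralLinearGroup.scalar (Fin n) u, ?_, ?_⟩
      · rw [SetLike.mem_coe, mem_commSub_graphfield]
        refine ⟨(u : F) * σ (u : F), mul_ne_zero u.ne_zero
          ((map_ne_zero_iff _ σ.injective).2 u.ne_zero), ?_⟩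
        rw [Matrix.GeneralLinearGroup.coe_scalar]
        ext i j
        by_cases hij : i = j
        · subst hij
          simp [Matrix.mul_apply, Matrix.diagonal_apply]
        · simp [Matrix.mul_apply, Matrix.diagonal_apply, hij, Ne.symm hij]
      · apply Units.ext
        rw [Matrix.GeneralLinearGroup.val_det_apply, Matrix.GeneralLinearGroup.coe_scalar]
        simp
    · intro w hw
      rw [MonoidHom.mem_ker] at hw
      have hw' : (w : F) * σ (w : F) = 1 := by
        have := congrArg Units.val hw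
        rwa [coe_nrmHom, hnrm2, Units.val_one] at this
      refine ⟨dgNHom ⟨0, by omega⟩ w, ?_, det_dgNHom _ w⟩
      rw [SetLike.mem_coe, mem_commSub_graphfield]
      refine ⟨1, one_ne_zero, ?_⟩
      rw [one_smul]
      change (diagGL (Pi.mulSingle (⟨0, by omega⟩ : Fin n) w) : Matrix (Fin n) (Fin n) F)
        * ((diagGL (Pi.mulSingle (⟨0, by omega⟩ : Fin n) w) : Matrix (Fin n) (Fin n) F).map σ)ᵀ
        = 1
      rw [diagGL_coe]
      have h1 : ((Matrix.diagonal fun k : Fin n =>
          ((Pi.mulSingle (⟨0, by omega⟩ : Fin n) w : Fin n → Fˣ) k : F)).map σ)ᵀ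
          = Matrix.diagonal fun k : Fin n =>
            σ ((Pi.mulSingle (⟨0, by omega⟩ : Fin n) w : Fin n → Fˣ) k : F) := by
        rw [Matrix.diagonal_map (map_zero σ), Matrix.diagonal_transpose]
      rw [h1, Matrix.diagonal_mul_diagonal, ← Matrix.diagonal_one]
      congr 1
      ext k
      by_cases hk : k = ⟨0, by omega⟩
      · subst hk
        rw [Pi.mulSingle_eq_same]
        exact hw'
      · rw [Pi.mulSingle_eq_of_ne hk, Units.val_one, map_one, mul_one]

end

end Cfsg.Agent.Lib.Helper5.PSLCoset
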