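import Mathlib
import Cfsg.Agent.Lib.Helper5.PSLCoset10

set_option autoImplicit false

/-!
The class splitting count of a standard graph-field involution, the identification of the
involutory field automorphism with a Frobenius power, and the centralizer as a projective
unitary group.
-/

namespace Cfsg.Agent.Lib.Helper5.PSLCoset

open Matrix Matrix.SpecialLinearGroup Cfsg.Agent.Lib.Helper5.SLnAut Cfsg.Agent.Lib.Helper5.SLnBN

section
variable {n : ℕ} {F : Type*} [Field F] [Fintype F]

theorem splitCount_graphfield {p f : ℕ} [Fact p.Prime] (hF : Fintype.card F = p ^ f) (hn : 2 ≤ n)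
    (σ : F ≃+* F) (hσ : orderOf σ = 2) :
    Cfsg.splitClassCount (Cfsg.inndiagPSL n F)
      (Cfsg.Inn (ProjectiveSpecialLinearGroup (Fin n) F)) (semi (1 : GL (Fin n) F) σ * tauBar)
      = Nat.gcd n (p ^ (f / 2) - 1) := by
  rw [splitCount_eq (by omega), map_det_commSub_graphfield hn σ hσ, index_pow_sup,
    Subgroup.index_ker, range_nrmHom σ 2 hσ (by norm_num), card_fixU hF σ 2 hσ (by norm_num),
    Nat.gcd_comm]

/-- In a finite cyclic group there is at most one element of order two. -/
theorem eq_of_orderOf_two {G : Type*} [Group G] [Finite G] [IsCyclic G] {a b : G}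
    (ha : orderOf a = 2) (hb : orderOf b = 2) : a = b := by
  classical
  haveI : Fintype G := Fintype.ofFinite G
  by_contra hab
  have h := IsCyclic.card_pow_eq_one_le (α := G) (n := 2) (by norm_num)
  have ha2 : a ^ 2 = 1 := by rw [← ha]; exact pow_orderOf_eq_one a
  have hb2 : b ^ 2 = 1 := by rw [← hb]; exact pow_orderOf_eq_one b
  have ha1 : a ≠ 1 := by
    intro h1
    rw [h1, orderOf_one] at ha
    omega
  have hb1 : b ≠ 1 := by
    intro h1
    rw [h1, orderOf_one] at hb
    omega
  have hsub : ({1, a, b} : Finset G) ⊆ Finset.univ.filter (fun g : G => g ^ 2 = 1) := by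
    intro g hg
    simp only [Finset.mem_insert, Finset.mem_singleton] at hg
    rw [Finset.mem_filter]
    refine ⟨Finset.mem_univ _, ?_⟩
    rcases hg with rfl | rfl | rfl
    · exact one_pow 2
    · exact ha2
    · exact hb2
  have hcard : ({1, a, b} : Finset G).card = 3 := by
    rw [Finset.card_insert_of_notMem, Finset.card_insert_of_notMem, Finset.card_singleton]
    · simpa using hab
    · simp only [Finset.mem_insert, Finset.mem_singleton, not_or]
      exact ⟨Ne.symm ha1, Ne.symm hb1⟩
  have := Finset.card_le_card hsub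
  omega

/-- The involutory automorphism of a field with `p^f` elements is the `p^(f/2)`-th power map. -/
theorem sigma_eq_pow {p f : ℕ} [Fact p.Prime] (hf : 1 ≤ f) (hF : Fintype.card F = p ^ f)
    (σ : F ≃+* F) (hσ : orderOf σ = 2) : ∀ a : F, σ a = a ^ (p ^ (f / 2)) := by
  have hp : p.Prime := Fact.out
  haveI : CharP F p := Cfsg.Agent.Lib.Helper5.PSL2Aut.charP_of_card hf hF
  obtain ⟨⟨k, hk⟩, -⟩ := card_fixed hF σ 2 hσ (by norm_num)
  have hk2 : f / 2 = k := by omega
  rw [hk2]
  have hk1 : 1 ≤ k := by omega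
  -- the Frobenius power as an automorphism
  have hbij : Function.Bijective (iterateFrobenius F p k) :=
    Finite.injective_iff_bijective.1 (iterateFrobenius F p k).injective
  obtain ⟨φ, hφ⟩ : ∃ φ : F ≃+* F, φ = RingEquiv.ofBijective (iterateFrobenius F p k) hbij :=
    ⟨_, rfl⟩
  have hφa : ∀ a : F, φ a = a ^ (p ^ k) := by
    intro a
    rw [hφ]
    rfl
  have hφ2 : φ ^ 2 = 1 := by
    apply RingEquiv.ext
    intro a
    rw [pow_two]
    show φ (φ a) = a
    rw [hφa, hφa, ← pow_mul, ← pow_add, ← two_mul, ← hk, ← hF]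
    exact FiniteField.pow_card a
  have hφ1 : φ ≠ 1 := by
    intro h1
    obtain ⟨g, hg⟩ := IsCyclic.exists_ofOrder_eq_natCard (α := Fˣ)
    have h2 : (g : F) ^ (p ^ k) = g := by
      rw [← hφa, h1]
      rfl
    have h3 : g ^ (p ^ k - 1) = 1 := by
      apply Units.ext
      rw [Units.val_pow_eq_pow_val, Units.val_one]
      have hg0 : (g : F) ≠ 0 := g.ne_zero
      have h4 : (g : F) ^ (p ^ k - 1) * g = 1 * g := by
        rw [← pow_succ, Nat.sub_add_cancel (Nat.one_le_pow _ _ hp.pos), h2, one_mul]
      exact mul_right_cancel₀ hg0 h4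
    have h5 := orderOf_dvd_of_pow_eq_one h3
    rw [hg, Nat.card_units, Nat.card_eq_fintype_card, hF] at h5
    have h6 : p ^ k < p ^ f := Nat.pow_lt_pow_right hp.one_lt (by omega)
    have h7 : 2 ≤ p ^ k := by
      calc 2 ≤ p := hp.two_le
        _ = p ^ 1 := (pow_one p).symm
        _ ≤ p ^ k := Nat.pow_le_pow_right hp.pos hk1
    have h8 := Nat.le_of_dvd (by omega) h5
    omega
  have hφord : orderOf φ = 2 := orderOf_eq_prime hφ2 hφ1
  obtain ⟨hcyc, -⟩ := Cfsg.Agent.Lib.Helper5.PSL2Aut.ringAut_cyclic_card hf hF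
  haveI : Finite (F ≃+* F) :=
    Finite.of_injective (fun e : F ≃+* F => (e : F → F)) DFunLike.coe_injective
  have := eq_of_orderOf_two hσ hφord
  intro a
  rw [this, hφa]

end

end Cfsg.Agent.Lib.Helper5.PSLCoset
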