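import Mathlib
import Cfsg.Agent.Lib.Helper5.PSLCoset11

set_option autoImplicit false

/-!
The centralizer of a standard graph-field involution in the inner-diagonal group is the projective
general unitary group.
-/

namespace Cfsg.Agent.Lib.Helper5.PSLCoset

open Matrix Matrix.SpecialLinearGroup Cfsg.Agent.Lib.Helper5.SLnAut Cfsg.Agent.Lib.Helper5.SLnBN

section
variable {X : Type*} [Group X]

theorem mem_centralizer_singleton {x a : X} :
    a ∈ Subgroup.centralizer {x} ↔ a * x = x * a := by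
  rw [Subgroup.mem_centralizer_iff]
  constructor
  · intro h
    exact (h x rfl).symm
  · intro h y hy
    rw [Set.mem_singleton_iff.1 hy]
    exact h.symm

/-- Conjugate elements have isomorphic centralizers in a subgroup containing the conjugator. -/
theorem centralizer_conj_equiv (H : Subgroup X) (η x₀ : X) (hη : η ∈ H) :
    Nonempty (↥(H ⊓ Subgroup.centralizer {η * x₀ * η⁻¹}) ≃* ↥(H ⊓ Subgroup.centralizer {x₀})) := by
  refine ⟨{ toFun := fun a => ⟨η⁻¹ * a.1 * η, ?_⟩
            invFun := fun a => ⟨η * a.1 * η⁻¹, ?_⟩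
            left_inv := ?_
            right_inv := ?_
            map_mul' := ?_ }⟩
  · refine Subgroup.mem_inf.2 ⟨H.mul_mem (H.mul_mem (H.inv_mem hη) (Subgroup.mem_inf.1 a.2).1) hη,
      ?_⟩
    have h1 := mem_centralizer_singleton.1 (Subgroup.mem_inf.1 a.2).2
    rw [mem_centralizer_singleton]
    have h2 : η⁻¹ * a.1 * η * x₀ = η⁻¹ * (a.1 * (η * x₀ * η⁻¹)) * η := by group
    rw [h2, h1]
    group
  · refine Subgroup.mem_inf.2 ⟨H.mul_mem (H.mul_mem hη (Subgroup.mem_inf.1 a.2).1) (H.inv_mem hη),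
      ?_⟩
    have h1 := mem_centralizer_singleton.1 (Subgroup.mem_inf.1 a.2).2
    rw [mem_centralizer_singleton]
    have h2 : η * a.1 * η⁻¹ * (η * x₀ * η⁻¹) = η * (a.1 * x₀) * η⁻¹ := by group
    rw [h2, h1]
    group
  · intro a
    apply Subtype.ext
    show η * (η⁻¹ * a.1 * η) * η⁻¹ = a.1
    group
  · intro a
    apply Subtype.ext
    show η⁻¹ * (η * a.1 * η⁻¹) * η = a.1
    group
  · intro a b
    apply Subtype.ext
    show η⁻¹ * (a.1 * b.1) * η = (η⁻¹ * a.1 * η) * (η⁻¹ * b.1 * η)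
    group

end

section
variable {n : ℕ} {F : Type*} [Field F]

theorem hermForm_eq (σ : F ≃+* F) (q : ℕ) (hσq : ∀ a : F, σ a = a ^ q) (u v : Fin n → F) :
    Cfsg.hermForm n F q u v = u ⬝ᵥ (fun i => σ (v i)) := by
  unfold Cfsg.hermForm dotProduct
  apply Finset.sum_congr rfl
  intro i _
  show u i * v i ^ q = u i * σ (v i)
  rw [hσq]

theorem mem_GU_iff (σ : F ≃+* F) (q : ℕ) (hσq : ∀ a : F, σ a = a ^ q) (g : GL (Fin n) F) :
    g ∈ Cfsg.GU n F q ↔
      (g : Matrix (Fin n) (Fin n) F)ᵀ * (g : Matrix (Fin n) (Fin n) F).map σ = 1 := by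
  have hmap : ∀ v : Fin n → F, (fun i => σ (((g : Matrix (Fin n) (Fin n) F) *ᵥ v) i))
      = (g : Matrix (Fin n) (Fin n) F).map σ *ᵥ (fun i => σ (v i)) := by
    intro v
    ext i
    simp [Matrix.mulVec, dotProduct, map_sum, map_mul]
  have hform : ∀ u v : Fin n → F,
      Cfsg.hermForm n F q ((g : Matrix (Fin n) (Fin n) F) *ᵥ u)
        ((g : Matrix (Fin n) (Fin n) F) *ᵥ v)
      = u ⬝ᵥ (((g : Matrix (Fin n) (Fin n) F)ᵀ * (g : Matrix (Fin n) (Fin n) F).map σ)
        *ᵥ (fun i => σ (v i))) := by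
    intro u v
    rw [hermForm_eq σ q hσq, hmap]
    conv_rhs => rw [← Matrix.mulVec_mulVec, Matrix.dotProduct_mulVec, Matrix.vecMul_transpose]
  constructor
  · intro hg
    have hg' : ∀ u v : Fin n → F,
        Cfsg.hermForm n F q ((g : Matrix (Fin n) (Fin n) F) *ᵥ u)
          ((g : Matrix (Fin n) (Fin n) F) *ᵥ v) = Cfsg.hermForm n F q u v := hg
    ext i j
    have h1 := hg' (Pi.single i 1) (fun k => σ.symm ((Pi.single j (1 : F) : Fin n → F) k))
    rw [hform, hermForm_eq σ q hσq] at h1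
    simp only [RingEquiv.apply_symm_apply] at h1
    rw [Matrix.mulVec_single_one, single_one_dotProduct, single_one_dotProduct,
      Matrix.col_apply, Pi.single_apply] at h1
    rw [Matrix.one_apply, h1]
  · intro h u v
    show Cfsg.hermForm n F q ((g : Matrix (Fin n) (Fin n) F) *ᵥ u)
      ((g : Matrix (Fin n) (Fin n) F) *ᵥ v) = Cfsg.hermForm n F q u v
    rw [hform, h, Matrix.one_mulVec, hermForm_eq σ q hσq]

theorem mem_GU_iff' (σ : F ≃+* F) (q : ℕ) (hσq : ∀ a : F, σ a = a ^ q) (g : GL (Fin n) F) :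
    g ∈ Cfsg.GU n F q ↔
      (g : Matrix (Fin n) (Fin n) F) * ((g : Matrix (Fin n) (Fin n) F).map σ)ᵀ = 1 := by
  rw [mem_GU_iff σ q hσq, mul_eq_one_comm, ← Matrix.transpose_eq_one, Matrix.transpose_mul,
    Matrix.transpose_transpose]

end

end Cfsg.Agent.Lib.Helper5.PSLCoset
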