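import Mathlib
import Cfsg.Agent.Lib.Helper5.SSOrderU1
import Cfsg.Agent.Lib.Helper5.PrimeOrderGL
import Cfsg.Agent.S2587
import Cfsg.Agent.S2588

set_option autoImplicit false

namespace Cfsg.Agent.Lib.Helper5.SSOrder

open Polynomial
open Cfsg.Agent.Lib.Helper5.Pal Cfsg.Agent.Lib.Helper5.SpReal Cfsg.Agent.S0278
  Cfsg.Agent.Lib.Helper5.Wall

universe u

variable {K : Type u} [Field K] [Fintype K] {q n : ℕ}

theorem charpoly_ct (hK : Fintype.card K = q ^ 2) (A : Matrix (Fin n) (Fin n) K) :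
    (ct hK A).charpoly = A.charpoly.map (powQ hK) := by
  rw [ct, Matrix.charpoly_transpose, Matrix.charpoly_map]

theorem charpoly_inv_eq_rc_matrix (M N : Matrix (Fin n) (Fin n) K) (hMN : M * N = 1) :
    N.charpoly = rc M.charpoly := by
  classical
  have hNinv : N = M⁻¹ := (Matrix.inv_eq_right_inv hMN).symm
  have hMu : IsUnit M := ⟨⟨M, N, hMN, mul_eq_one_comm.1 hMN⟩, rfl⟩
  have hdet : M.det ≠ 0 := by
    have := (Matrix.isUnit_iff_isUnit_det M).1 hMu
    exact this.ne_zero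
  rw [hNinv, Matrix.charpoly_inv M hMu, rc, ← Matrix.reverse_charpoly]
  have h3 : M.charpoly.coeff 0 = (-1) ^ Fintype.card (Fin n) * M.det := by
    rw [Matrix.det_eq_sign_charpoly_coeff M, ← mul_assoc, ← mul_pow]
    simp
  rw [h3, Ring.inverse_eq_inv', mul_inv, C_mul]
  congr 2
  rw [← inv_pow]
  simp

theorem coeff_zero_charpoly_ne_zero (g : GL (Fin n) K) :
    (g : Matrix (Fin n) (Fin n) K).charpoly.coeff 0 ≠ 0 := by
  intro h
  have h1 := Matrix.det_eq_sign_charpoly_coeff (g : Matrix (Fin n) (Fin n) K)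
  rw [h, mul_zero] at h1
  have h2 : IsUnit (g : Matrix (Fin n) (Fin n) K).det :=
    (Matrix.isUnit_iff_isUnit_det _).1 g.isUnit
  rw [h1] at h2
  exact not_isUnit_zero h2

theorem dag_charpoly_of_mem_GU (hK : Fintype.card K = q ^ 2) (g : GL (Fin n) K)
    (hg : g ∈ Cfsg.GU n K q) :
    dag hK (g : Matrix (Fin n) (Fin n) K).charpoly = (g : Matrix (Fin n) (Fin n) K).charpoly := by
  rw [mem_GU_iff hK] at hg
  have h1 : (g : Matrix (Fin n) (Fin n) K) * ct hK (g : Matrix (Fin n) (Fin n) K) = 1 :=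
    mul_eq_one_comm.1 hg
  have h2 := charpoly_inv_eq_rc_matrix _ _ h1
  rw [charpoly_ct] at h2
  rw [dag, h2, rc_rc (Matrix.charpoly_monic _) (coeff_zero_charpoly_ne_zero g)]

theorem ct_pow (hK : Fintype.card K = q ^ 2) (A : Matrix (Fin n) (Fin n) K) (k : ℕ) :
    ct hK (A ^ k) = ct hK A ^ k := by
  induction k with
  | zero => rw [pow_zero, pow_zero, ct_one]
  | succ k ih => rw [pow_succ, pow_succ', ct_mul, ih]

theorem exists_GU_of_charpoly (hK : Fintype.card K = q ^ 2) (p : ℕ) [Fact p.Prime] [CharP K p]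
    (r : ℕ) (hr : r.Prime) (hrp : r ≠ p) (f : K[X]) (hf : f.Monic) (hdeg : f.natDegree = n)
    (m : ℕ) (hm : f ∣ (X ^ r - 1 : K[X]) ^ m) (hdag : dag hK f = f) :
    ∃ B : ↥(Cfsg.GU n K q), B ^ r = 1 ∧
      ((B : GL (Fin n) K) : Matrix (Fin n) (Fin n) K).charpoly = f := by
  obtain ⟨A, hAr, hAf⟩ := exists_gl_of_charpoly_dvd p r hr f hf hdeg m hm
  -- the element `ct A⁻¹`
  have h1 : (A : Matrix (Fin n) (Fin n) K) * ((A⁻¹ : GL (Fin n) K) : Matrix (Fin n) (Fin n) K) = 1 :=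
    Units.mul_inv A
  have h2 : ((A⁻¹ : GL (Fin n) K) : Matrix (Fin n) (Fin n) K) * (A : Matrix (Fin n) (Fin n) K) = 1 :=
    Units.inv_mul A
  set A' : GL (Fin n) K := ⟨ct hK ((A⁻¹ : GL (Fin n) K) : Matrix (Fin n) (Fin n) K),
    ct hK (A : Matrix (Fin n) (Fin n) K), by rw [← ct_mul, h1, ct_one],
    by rw [← ct_mul, h2, ct_one]⟩ with hA'
  have hA'r : A' ^ r = 1 := by
    apply Units.ext
    rw [Units.val_pow_eq_pow_val, Units.val_one]
    show ct hK ((A⁻¹ : GL (Fin n) K) : Matrix (Fin n) (Fin n) K) ^ r = 1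
    rw [← ct_pow, ← Units.val_pow_eq_pow_val, inv_pow, hAr, inv_one, Units.val_one, ct_one]
  have hA'c : (A' : Matrix (Fin n) (Fin n) K).charpoly = f := by
    show (ct hK ((A⁻¹ : GL (Fin n) K) : Matrix (Fin n) (Fin n) K)).charpoly = f
    rw [charpoly_ct, charpoly_inv_eq_rc_matrix _ _ h1, hAf, ← rc_map_powQ]
    exact hdag
  have hconj : IsConj A A' := isConj_of_charpoly_eq p r hr hrp A A' hAr hA'r (by rw [hAf, hA'c])
  have hconjM : IsConj (A : Matrix (Fin n) (Fin n) K)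
      (((A : Matrix (Fin n) (Fin n) K).map (fun x : K => x ^ q)).transpose)⁻¹ := by
    have h3 : (((A : Matrix (Fin n) (Fin n) K).map (fun x : K => x ^ q)).transpose)⁻¹ =
        (A' : Matrix (Fin n) (Fin n) K) := by
      apply Matrix.inv_eq_right_inv
      show ct hK (A : Matrix (Fin n) (Fin n) K) *
        ct hK ((A⁻¹ : GL (Fin n) K) : Matrix (Fin n) (Fin n) K) = 1
      rw [← ct_mul, h2, ct_one]
    rw [h3]
    exact (Units.coeHom (Matrix (Fin n) (Fin n) K)).map_isConj hconj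
  obtain ⟨B, hB⟩ := (Cfsg.Agent.S2588.result hK A).2 hconjM
  rw [isConj_iff] at hB
  obtain ⟨c, hc⟩ := hB
  refine ⟨B, ?_, ?_⟩
  · apply Subtype.ext
    rw [SubgroupClass.coe_pow, ← hc, conj_pow, hAr, mul_one, mul_inv_cancel]
    rfl
  · rw [← hc, Units.val_mul, Units.val_mul, Matrix.coe_units_inv, Matrix.charpoly_units_conj, hAf]

end Cfsg.Agent.Lib.Helper5.SSOrder
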