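import Mathlib
import Cfsg.Agent.Lib.Helper5.PSL2Aut6

set_option autoImplicit false

/-!
Finite field extensions given by cardinalities: an algebra structure and the nondegeneracy of
the trace.
-/

namespace Cfsg.Agent.Lib.Helper5.FieldExt

open Module

theorem exists_algebra {K F : Type*} [Field K] [Fintype K] [Field F] [Fintype F] {q : ℕ}
    (d : ℕ) (hd : 0 < d) (hK : Fintype.card K = q ^ d) (hF : Fintype.card F = q) :
    ∃ _ : Algebra F K, Module.finrank F K = d := by
  classical
  obtain ⟨⟨n, hn0⟩, hp, hn⟩ := FiniteField.card F (ringChar F)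
  set p := ringChar F with hpdef
  have : Fact p.Prime := ⟨hp⟩
  have hn' : Fintype.card F = p ^ n := hn
  have : CharP F p := ringChar.charP F
  have hK' : Fintype.card K = p ^ (n * d) := by rw [hK, ← hF, hn', pow_mul]
  have : CharP K p := Cfsg.Agent.Lib.Helper5.PSL2Aut.charP_of_card
    (Nat.mul_pos hn0 hd) hK'
  let : Algebra (ZMod p) F := ZMod.algebra _ _
  let : Algebra (ZMod p) K := ZMod.algebra _ _
  have hfF : Module.finrank (ZMod p) F = n := by
    have := FiniteField.pow_finrank_eq_card p F
    rw [hn'] at this
    exact Nat.pow_right_injective hp.two_le this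
  have hfK : Module.finrank (ZMod p) K = n * d := by
    have := FiniteField.pow_finrank_eq_card p K
    rw [hK'] at this
    exact Nat.pow_right_injective hp.two_le this
  obtain ⟨f⟩ := FiniteField.nonempty_algHom_of_finrank_dvd (F := ZMod p) (K := F) (L := K)
    (by rw [hfF, hfK]; exact dvd_mul_right _ _)
  let alg : Algebra F K := f.toRingHom.toAlgebra
  refine ⟨alg, ?_⟩
  have h1 := Module.card_eq_pow_finrank (K := F) (V := K)
  rw [hK, hF] at h1
  have hq : 2 ≤ q := by
    rw [← hF]
    exact Fintype.one_lt_card
  exact (Nat.pow_right_injective hq h1).symm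

theorem exists_trace_ne_zero {K F : Type*} [Field K] [Finite K] [Field F] [Algebra F K]
    (z : K) (hz : z ≠ 0) : ∃ c : K, Algebra.trace F K (c * z) ≠ 0 := by
  have : Finite F := Finite.of_injective _ (algebraMap F K).injective
  have : FiniteDimensional F K := Module.Finite.of_finite
  obtain ⟨t, ht⟩ := Algebra.trace_surjective F K 1
  refine ⟨t / z, ?_⟩
  rw [div_mul_cancel₀ _ hz, ht]
  exact one_ne_zero

end Cfsg.Agent.Lib.Helper5.FieldExt
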