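import Mathlib
import Cfsg.Agent.Lib.Helper4.Deg11_Defs

/-!
# S0679 swarm, sub-lemmas of package P1 (requested by helper2)
-/

set_option autoImplicit false

namespace Cfsg.Agent.Lib.Helper5.Deg11P1x

open Cfsg.Agent.Lib.Deg11 Equiv

theorem d11n_eq_swaps : d11n = swap (1 : Fin 11) 10 * swap 2 9 * swap 3 8 * swap 4 7 * swap 5 6 := by
  decide

theorem sign_d11n : Perm.sign d11n = -1 := by
  rw [d11n_eq_swaps]
  simp only [map_mul]
  rw [Perm.sign_swap (by decide), Perm.sign_swap (by decide), Perm.sign_swap (by decide),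
    Perm.sign_swap (by decide), Perm.sign_swap (by decide)]
  decide

theorem d11c_pow : d11c ^ 11 = 1 := by decide

theorem sign_d11c : Perm.sign d11c = 1 := by
  have h1 : (Perm.sign d11c) ^ 11 = 1 := by rw [← map_pow, d11c_pow, map_one]
  rcases Int.units_eq_one_or (Perm.sign d11c) with h | h
  · exact h
  · rw [h] at h1
    exact absurd h1 (by decide)

theorem d11c_ne_one : d11c ≠ 1 := by decide

/-- (L1) -/
theorem not_simple_of_d11n_mem (G : Subgroup (Perm (Fin 11))) (hc : d11c ∈ G) (hn : d11n ∈ G) :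
    ¬ IsSimpleGroup G := by
  intro hs
  set K : Subgroup G := (Perm.sign.comp G.subtype).ker with hK
  have hKn : K.Normal := MonoidHom.normal_ker _
  rcases hKn.eq_bot_or_eq_top with h | h
  · have hcK : (⟨d11c, hc⟩ : G) ∈ K := by
      rw [hK, MonoidHom.mem_ker]
      exact sign_d11c
    rw [h, Subgroup.mem_bot] at hcK
    exact d11c_ne_one (congrArg Subtype.val hcK)
  · have hnK : (⟨d11n, hn⟩ : G) ∈ K := by rw [h]; exact Subgroup.mem_top _
    rw [hK, MonoidHom.mem_ker] at hnK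
    have h1 : Perm.sign d11n = 1 := hnK
    rw [sign_d11n] at h1
    exact absurd h1 (by decide)

theorem pow_apply_of_mul (g : Perm (Fin 11)) (n : Fin 11) (hgn : ∀ j, g j = n * j) (i : ℕ) :
    ∀ j, (g ^ i) j = n ^ i * j := by
  induction i with
  | zero => intro j; simp
  | succ i ih =>
    intro j
    rw [pow_succ', Perm.mul_apply, ih, hgn, pow_succ', mul_assoc]

theorem ne_one_of_mul (g : Perm (Fin 11)) (n : Fin 11) (hgn : ∀ j, g j = n * j) (h1 : g ≠ 1) :
    n ≠ 1 := by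
  intro hn1
  apply h1
  ext j
  rw [hgn, hn1, one_mul, Perm.one_apply]

/-- (L2a) -/
theorem d11d_mem_of_mul (G : Subgroup (Perm (Fin 11))) (g : Perm (Fin 11)) (hg : g ∈ G)
    (n : Fin 11) (hgn : ∀ j, g j = n * j) (h5 : g ^ 5 = 1) (h1 : g ≠ 1) : d11d ∈ G := by
  have hn5 : n ^ 5 = 1 := by
    have := pow_apply_of_mul g n hgn 5 1
    rw [h5, Perm.one_apply, mul_one] at this
    exact this.symm
  have hn1 := ne_one_of_mul g n hgn h1
  have hdec : ∀ n : Fin 11, n ^ 5 = 1 → n ≠ 1 → ∃ i : Fin 5, n ^ (i : ℕ) = 3 := by decide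
  obtain ⟨i, hi⟩ := hdec n hn5 hn1
  have hd : d11d = g ^ (i : ℕ) := by
    ext j
    rw [pow_apply_of_mul g n hgn, hi, d11d_apply]
  rw [hd]
  exact G.pow_mem hg _

/-- (L2b) -/
theorem d11n_mem_of_mul (G : Subgroup (Perm (Fin 11))) (g : Perm (Fin 11)) (hg : g ∈ G)
    (n : Fin 11) (hgn : ∀ j, g j = n * j) (h2 : g ^ 2 = 1) (h1 : g ≠ 1) : d11n ∈ G := by
  have hn2 : n ^ 2 = 1 := by
    have := pow_apply_of_mul g n hgn 2 1
    rw [h2, Perm.one_apply, mul_one] at this
    exact this.symm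
  have hn1 := ne_one_of_mul g n hgn h1
  have hdec : ∀ n : Fin 11, n ^ 2 = 1 → n ≠ 1 → n = 10 := by decide
  have hn10 := hdec n hn2 hn1
  have hd : d11n = g := by
    ext j
    rw [hgn, hn10, d11n_apply]
    revert j
    decide
  rw [hd]
  exact hg

theorem d11z_eq : d11z = (d11n * d11d) ^ 7 := by decide

/-- (L2c) -/
theorem d11z_mem_of_mem (G : Subgroup (Perm (Fin 11))) (hd : d11d ∈ G) (hn : d11n ∈ G) :
    d11z ∈ G := by
  rw [d11z_eq]
  exact G.pow_mem (G.mul_mem hn hd) _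

end Cfsg.Agent.Lib.Helper5.Deg11P1x
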