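import Mathlib
import Cfsg.Agent.Lib.Helper5.FieldExt

set_option autoImplicit false

/-!
Restriction of scalars for matrix groups: the action of matrices over `K` on `K^ι` regarded as a
space over a subfield `F`, and forms obtained by composing with the trace.
-/

namespace Cfsg.Agent.Lib.Helper5.ScalarRes

open Module Matrix

variable {F K : Type*} [Field F] [Field K] [Algebra F K] {ι : Type*} [Fintype ι] [DecidableEq ι]

/-- The action of a matrix over `K` as an `F`-linear endomorphism. -/
def matEnd (F : Type*) {K : Type*} [Field F] [Field K] [Algebra F K] {ι : Type*} [Fintype ι]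
    [DecidableEq ι] : Matrix ι ι K →* Module.End F (ι → K) where
  toFun A := (Matrix.mulVecLin A).restrictScalars F
  map_one' := by
    apply LinearMap.ext
    intro v
    show (1 : Matrix ι ι K) *ᵥ v = v
    rw [Matrix.one_mulVec]
  map_mul' A B := by
    apply LinearMap.ext
    intro v
    show (A * B) *ᵥ v = A *ᵥ (B *ᵥ v)
    rw [Matrix.mulVec_mulVec]

theorem matEnd_apply (A : Matrix ι ι K) (v : ι → K) : matEnd F A v = A *ᵥ v := rfl

theorem matEnd_injective : Function.Injective (matEnd F : Matrix ι ι K →* Module.End F (ι → K)) := by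
  intro A B h
  apply Matrix.mulVec_injective
  funext v
  have := congrArg (fun f : Module.End F (ι → K) => f v) h
  exact this

theorem smul_eq (c : F) (u : ι → K) : c • u = (algebraMap F K c) • u := by
  funext i
  show c • u i = algebraMap F K c * u i
  rw [Algebra.smul_def]

theorem finrank_fun [FiniteDimensional F K] (d : ℕ) (h : finrank F K = d) :
    finrank F (ι → K) = Fintype.card ι * d := by
  rw [Module.finrank_pi_fintype, Finset.sum_const, h, Finset.card_univ, smul_eq_mul]

/-- The trace of a multiple of a form. -/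
noncomputable def trForm (l : K) (f : (ι → K) → (ι → K) → K)
    (hal : ∀ u u' v, f (u + u') v = f u v + f u' v)
    (hsl : ∀ (c : K) u v, f (c • u) v = c * f u v)
    (har : ∀ u v v', f u (v + v') = f u v + f u v')
    (hsr : ∀ (c : F) u v, f u (algebraMap F K c • v) = algebraMap F K c * f u v) :
    LinearMap.BilinForm F (ι → K) :=
  LinearMap.mk₂ F (fun u v => Algebra.trace F K (l * f u v))
    (fun u u' v => by rw [hal, mul_add, map_add])
    (fun c u v => by
      rw [smul_eq, hsl, ← mul_assoc, mul_comm l, mul_assoc, ← Algebra.smul_def, map_smul])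
    (fun u v v' => by rw [har, mul_add, map_add])
    (fun c u v => by
      rw [smul_eq, hsr, ← mul_assoc, mul_comm l, mul_assoc, ← Algebra.smul_def, map_smul])

theorem trForm_apply (l : K) (f : (ι → K) → (ι → K) → K) hal hsl har hsr (u v : ι → K) :
    trForm (F := F) l f hal hsl har hsr u v = Algebra.trace F K (l * f u v) := rfl

theorem trForm_nondegenerate [Finite K] (l : K) (hl : l ≠ 0) (f : (ι → K) → (ι → K) → K)
    hal hsl har hsr
    (hnd : ∀ x, x ≠ 0 → ∃ y, f x y ≠ 0)
    (hscale : ∀ x y (w : K), ∃ y', f x y' = w * f x y) :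
    ∀ x, (∀ y, trForm (F := F) l f hal hsl har hsr x y = 0) → x = 0 := by
  intro x hx
  by_contra hx0
  obtain ⟨y, hy⟩ := hnd x hx0
  obtain ⟨c, hc⟩ := FieldExt.exists_trace_ne_zero (F := F) (l * f x y) (mul_ne_zero hl hy)
  obtain ⟨y', hy'⟩ := hscale x y c
  apply hc
  have := hx y'
  rw [trForm_apply, hy'] at this
  rw [← this]
  congr 1
  ring

end Cfsg.Agent.Lib.Helper5.ScalarRes
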