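import Mathlib
import Cfsg.Prelude.Def_Classical
import Cfsg.Agent.Lib.Helper5.ScalarRes

set_option autoImplicit false

/-!
The Hermitian form `Σ u_i v_i^q` over a field `K` with `q²` elements, regarded over the subfield
`F` with `q` elements.
-/

namespace Cfsg.Agent.Lib.Helper5.HermRes

open Module Matrix Polynomial

variable {F K : Type*} [Field F] [Fintype F] [Field K] [Fintype K] [Algebra F K]

theorem pow_card_add (x y : K) :
    (x + y) ^ Fintype.card F = x ^ Fintype.card F + y ^ Fintype.card F :=
  map_add (FiniteField.frobeniusAlgHom F K) x y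

theorem pow_card_sum {ι : Type*} (s : Finset ι) (g : ι → K) :
    (∑ i ∈ s, g i) ^ Fintype.card F = ∑ i ∈ s, g i ^ Fintype.card F :=
  map_sum (FiniteField.frobeniusAlgHom F K) g s

theorem pow_card_algebraMap (c : F) :
    (algebraMap F K c) ^ Fintype.card F = algebraMap F K c := by
  rw [← map_pow, FiniteField.pow_card]

theorem pow_card_pow_card (hK : Fintype.card K = Fintype.card F ^ 2) (x : K) :
    (x ^ Fintype.card F) ^ Fintype.card F = x := by
  rw [← pow_mul, ← pow_two, ← hK, FiniteField.pow_card]

theorem pow_card_surjective (w : K) : ∃ w' : K, w' ^ Fintype.card F = w := by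
  have hinj : Function.Injective (FiniteField.frobeniusAlgHom F K) :=
    (FiniteField.frobeniusAlgHom F K).toRingHom.injective
  exact Finite.surjective_of_injective hinj w

/-- The fixed points of the Frobenius of `F` in `K` are the elements of `F`. -/
theorem mem_range_of_pow_card_eq {x : K} (hx : x ^ Fintype.card F = x) :
    x ∈ Set.range (algebraMap F K) := by
  classical
  set q := Fintype.card F with hq
  have hq1 : 1 < q := Fintype.one_lt_card
  set P : K[X] := X ^ q - X with hP
  have hP0 : P ≠ 0 := FiniteField.X_pow_card_sub_X_ne_zero K hq1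
  have hdeg : P.natDegree = q := FiniteField.X_pow_card_sub_X_natDegree_eq K hq1
  have hsub : Finset.univ.image (algebraMap F K) ⊆ P.roots.toFinset := by
    intro y hy
    rw [Finset.mem_image] at hy
    obtain ⟨c, -, rfl⟩ := hy
    rw [Multiset.mem_toFinset, mem_roots hP0, IsRoot.def, hP, eval_sub, eval_pow, eval_X,
      pow_card_algebraMap, sub_self]
  have hcard : P.roots.toFinset.card ≤ (Finset.univ.image (algebraMap F K)).card := by
    rw [Finset.card_image_of_injective _ (algebraMap F K).injective, Finset.card_univ]
    calc P.roots.toFinset.card ≤ Multiset.card P.roots := Multiset.toFinset_card_le _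
      _ ≤ P.natDegree := card_roots' P
      _ = q := hdeg
  have heq := Finset.eq_of_subset_of_card_le hsub hcard
  have hxr : x ∈ P.roots.toFinset := by
    rw [Multiset.mem_toFinset, mem_roots hP0, IsRoot.def, hP, eval_sub, eval_pow, eval_X, hx,
      sub_self]
  rw [← heq, Finset.mem_image] at hxr
  obtain ⟨c, -, hc⟩ := hxr
  exact ⟨c, hc⟩

variable {n : ℕ}

theorem herm_add_left (u u' v : Fin n → K) :
    Cfsg.hermForm n K (Fintype.card F) (u + u') v =
      Cfsg.hermForm n K (Fintype.card F) u v + Cfsg.hermForm n K (Fintype.card F) u' v := by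
  unfold Cfsg.hermForm
  rw [← Finset.sum_add_distrib]
  exact Finset.sum_congr rfl fun i _ => by rw [Pi.add_apply, add_mul]

theorem herm_smul_left (c : K) (u v : Fin n → K) :
    Cfsg.hermForm n K (Fintype.card F) (c • u) v = c * Cfsg.hermForm n K (Fintype.card F) u v := by
  unfold Cfsg.hermForm
  rw [Finset.mul_sum]
  exact Finset.sum_congr rfl fun i _ => by rw [Pi.smul_apply, smul_eq_mul, mul_assoc]

theorem herm_add_right (u v v' : Fin n → K) :
    Cfsg.hermForm n K (Fintype.card F) u (v + v') =
      Cfsg.hermForm n K (Fintype.card F) u v + Cfsg.hermForm n K (Fintype.card F) u v' := by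
  unfold Cfsg.hermForm
  rw [← Finset.sum_add_distrib]
  exact Finset.sum_congr rfl fun i _ => by rw [Pi.add_apply, pow_card_add, mul_add]

theorem herm_smul_right (c : K) (u v : Fin n → K) :
    Cfsg.hermForm n K (Fintype.card F) u (c • v) =
      c ^ Fintype.card F * Cfsg.hermForm n K (Fintype.card F) u v := by
  unfold Cfsg.hermForm
  rw [Finset.mul_sum]
  exact Finset.sum_congr rfl fun i _ => by rw [Pi.smul_apply, smul_eq_mul, mul_pow]; ring

theorem herm_smul_right_F (c : F) (u v : Fin n → K) :
    Cfsg.hermForm n K (Fintype.card F) u (algebraMap F K c • v) =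
      algebraMap F K c * Cfsg.hermForm n K (Fintype.card F) u v := by
  rw [herm_smul_right, pow_card_algebraMap]

theorem herm_self_mem (hK : Fintype.card K = Fintype.card F ^ 2) (v : Fin n → K) :
    Cfsg.hermForm n K (Fintype.card F) v v ∈ Set.range (algebraMap F K) := by
  apply mem_range_of_pow_card_eq
  unfold Cfsg.hermForm
  rw [pow_card_sum]
  refine Finset.sum_congr rfl fun i _ => ?_
  rw [mul_pow, pow_card_pow_card hK, mul_comm]

theorem herm_single (x : Fin n → K) (i : Fin n) :
    Cfsg.hermForm n K (Fintype.card F) x (Pi.single i 1) = x i := by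
  classical
  unfold Cfsg.hermForm
  rw [Finset.sum_eq_single i]
  · rw [Pi.single_eq_same, one_pow, mul_one]
  · intro j _ hji
    rw [Pi.single_eq_of_ne hji, zero_pow Fintype.card_ne_zero, mul_zero]
  · intro h
    exact absurd (Finset.mem_univ _) h

end Cfsg.Agent.Lib.Helper5.HermRes
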