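import Mathlib
import Cfsg.Agent.Lib.Helper5.HermRes
import Cfsg.Agent.Lib.Helper5.QuadFin
import Cfsg.Agent.Lib.Helper1.GUBasic

set_option autoImplicit false

/-!
The quadratic form `v ↦ Σ v_i^(q+1)` on `K^n` over the subfield `F` with `q` elements
(`K` has `q²` elements).
-/

namespace Cfsg.Agent.Lib.Helper5.HermQuad

open Module Matrix Cfsg.Agent.Lib.Helper5.ScalarRes Cfsg.Agent.Lib.Helper5.HermRes

variable {F K : Type*} [Field F] [Fintype F] [Field K] [Fintype K] [Algebra F K]

/-- The Hermitian form as an `F`-bilinear map with values in `K`. -/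
def hermBil (F : Type*) {K : Type*} [Field F] [Fintype F] [Field K] [Fintype K] [Algebra F K]
    (n : ℕ) : (Fin n → K) →ₗ[F] (Fin n → K) →ₗ[F] K :=
  LinearMap.mk₂ F (Cfsg.hermForm n K (Fintype.card F)) herm_add_left
    (fun c u v => by rw [smul_eq, herm_smul_left, Algebra.smul_def]) herm_add_right
    (fun c u v => by rw [smul_eq, herm_smul_right_F, Algebra.smul_def])

theorem hermBil_apply (n : ℕ) (u v : Fin n → K) :
    hermBil F n u v = Cfsg.hermForm n K (Fintype.card F) u v := rfl

theorem exists_retraction (F K : Type*) [Field F] [Field K] [Algebra F K] :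
    ∃ π : K →ₗ[F] F, ∀ x, π (algebraMap F K x) = x := by
  obtain ⟨g, hg⟩ := LinearMap.exists_leftInverse_of_injective (Algebra.linearMap F K)
    (LinearMap.ker_eq_bot.2 (algebraMap F K).injective)
  refine ⟨g, fun x => ?_⟩
  have := LinearMap.congr_fun hg x
  simpa using this

/-- An `F`-linear retraction of the inclusion of `F` in `K`. -/
noncomputable def retr (F K : Type*) [Field F] [Field K] [Algebra F K] : K →ₗ[F] F :=
  Classical.choose (exists_retraction F K)

omit [Fintype F] [Fintype K] in
theorem retr_algebraMap (x : F) : retr F K (algebraMap F K x) = x :=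
  Classical.choose_spec (exists_retraction F K) x

/-- The quadratic form `v ↦ Σ v_i^(q+1)` over `F`. -/
noncomputable def hermQuad (F : Type*) {K : Type*} [Field F] [Fintype F] [Field K] [Fintype K]
    [Algebra F K] (n : ℕ) : QuadraticForm F (Fin n → K) :=
  (retr F K).compQuadraticMap (LinearMap.BilinMap.toQuadraticMap (hermBil F (K := K) n))

theorem hermQuad_apply (n : ℕ) (v : Fin n → K) :
    hermQuad F n v = retr F K (Cfsg.hermForm n K (Fintype.card F) v v) := rfl

theorem algebraMap_hermQuad (hK : Fintype.card K = Fintype.card F ^ 2) (n : ℕ) (v : Fin n → K) :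
    algebraMap F K (hermQuad F n v) = Cfsg.hermForm n K (Fintype.card F) v v := by
  obtain ⟨c, hc⟩ := herm_self_mem hK v
  rw [hermQuad_apply, ← hc, retr_algebraMap]

theorem algebraMap_polar (hK : Fintype.card K = Fintype.card F ^ 2) (n : ℕ) (u v : Fin n → K) :
    algebraMap F K (QuadraticMap.polar (hermQuad F n) u v)
      = Cfsg.hermForm n K (Fintype.card F) u v + Cfsg.hermForm n K (Fintype.card F) v u := by
  unfold QuadraticMap.polar
  rw [map_sub, map_sub, algebraMap_hermQuad hK, algebraMap_hermQuad hK, algebraMap_hermQuad hK,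
    herm_add_left, herm_add_right, herm_add_right]
  ring

theorem herm_symm (hK : Fintype.card K = Fintype.card F ^ 2) (n : ℕ) (u v : Fin n → K) :
    Cfsg.hermForm n K (Fintype.card F) v u
      = (Cfsg.hermForm n K (Fintype.card F) u v) ^ Fintype.card F := by
  unfold Cfsg.hermForm
  rw [pow_card_sum]
  refine Finset.sum_congr rfl fun i _ => ?_
  rw [mul_pow, pow_card_pow_card hK, mul_comm]


theorem exists_trace_ne (hK : Fintype.card K = Fintype.card F ^ 2) :
    ∃ μ : K, μ + μ ^ Fintype.card F ≠ 0 :=
  Cfsg.Agent.Lib.Helper1.GUBasic.exists_trace_ne_zero hK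

/-- if the polar form of `u` with everything vanishes then `u = 0`. -/
theorem eq_zero_of_polar (hK : Fintype.card K = Fintype.card F ^ 2) (n : ℕ) (u : Fin n → K)
    (hu : ∀ v, QuadraticMap.polar (hermQuad F n) u v = 0) : u = 0 := by
  classical
  have h1 : ∀ v, Cfsg.hermForm n K (Fintype.card F) u v
      + (Cfsg.hermForm n K (Fintype.card F) u v) ^ Fintype.card F = 0 := by
    intro v
    rw [← herm_symm hK, ← algebraMap_polar hK, hu, map_zero]
  have h2 : ∀ v, Cfsg.hermForm n K (Fintype.card F) u v = 0 := by
    intro v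
    by_contra hz
    obtain ⟨μ, hμ⟩ := exists_trace_ne (F := F) hK
    obtain ⟨c, hc⟩ := pow_card_surjective (F := F)
      (μ / Cfsg.hermForm n K (Fintype.card F) u v)
    have h3 := h1 (c • v)
    rw [herm_smul_right, hc, div_mul_cancel₀ _ hz] at h3
    exact hμ h3
  funext i
  have := h2 (Pi.single i 1)
  rw [herm_single] at this
  exact this

theorem nondegenerate (hK : Fintype.card K = Fintype.card F ^ 2) (n : ℕ) :
    (QuadraticMap.polarBilin (hermQuad F (K := K) n)).Nondegenerate := by
  refine ⟨fun u hu => eq_zero_of_polar hK n u hu, fun u hu => eq_zero_of_polar hK n u ?_⟩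
  intro v
  rw [QuadraticMap.polar_comm]
  exact hu v

theorem finrank_eq (h2 : finrank F K = 2) (n : ℕ) : finrank F (Fin n → K) = 2 * n := by
  have : Module.Finite F K := Module.Finite.of_finite
  rw [finrank_fun 2 h2, Fintype.card_fin, mul_comm]

end Cfsg.Agent.Lib.Helper5.HermQuad
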