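import Mathlib
import Cfsg.Agent.Lib.Helper5.HermQuad
import Cfsg.Agent.Lib.Helper5.QuadGlue
import Cfsg.Agent.Lib.Helper5.WittIndex
import Cfsg.Agent.Lib.Helper1.HermCount
import Cfsg.Agent.S2616

set_option autoImplicit false

/-!
The quadratic form `v ↦ Σ v_i^(q+1)` on `K^m` over `F` is of plus type when `m` is even.
-/

namespace Cfsg.Agent.Lib.Helper5.HermQuad

open Module Matrix Cfsg.Agent.Lib.Helper5.ScalarRes Cfsg.Agent.Lib.Helper5.HermRes
  Cfsg.Agent.Lib.Helper5.QuadGlue

variable {F K : Type*} [Field F] [Fintype F] [Field K] [Fintype K] [Algebra F K]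

/-- an element of norm `-1`. -/
theorem exists_norm_neg_one (hK : Fintype.card K = Fintype.card F ^ 2) :
    ∃ z : K, z * z ^ Fintype.card F = -1 := by
  classical
  have hmem : (-1 : K) ∈ Cfsg.Agent.Lib.Helper1.HermCount.fixedUnits K (Fintype.card F) := by
    simp only [Cfsg.Agent.Lib.Helper1.HermCount.fixedUnits, Finset.mem_filter, Finset.mem_univ,
      true_and]
    refine ⟨neg_ne_zero.2 one_ne_zero, ?_⟩
    rw [Cfsg.Agent.Lib.Helper1.HermCount.neg_pow_q hK, one_pow]
  obtain ⟨x, -, hx⟩ := Cfsg.Agent.Lib.Helper1.HermCount.exists_nrm_eq hK hmem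
  exact ⟨x, hx⟩

/-- The doubling map `x ↦ (x, z x)`. -/
def dbl (F : Type*) {K : Type*} [Field F] [Field K] [Algebra F K] (h : ℕ) (z : K) :
    (Fin h → K) →ₗ[F] (Fin (h + h) → K) where
  toFun x := Fin.append x (z • x)
  map_add' x y := by
    funext i
    refine Fin.addCases (fun j => ?_) (fun j => ?_) i
    · simp only [Fin.append_left, Pi.add_apply]
    · simp only [Fin.append_right, Pi.add_apply, Pi.smul_apply, smul_eq_mul, mul_add]
  map_smul' c x := by
    funext i
    refine Fin.addCases (fun j => ?_) (fun j => ?_) i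
    · simp only [Fin.append_left, Pi.smul_apply, RingHom.id_apply]
    · simp only [Fin.append_right, Pi.smul_apply, RingHom.id_apply, smul_eq_mul]
      rw [Algebra.smul_def, Algebra.smul_def]
      ring

omit [Fintype F] [Fintype K] in
theorem dbl_apply (h : ℕ) (z : K) (x : Fin h → K) : dbl F h z x = Fin.append x (z • x) := rfl

omit [Fintype F] [Fintype K] in
theorem dbl_injective (h : ℕ) (z : K) : Function.Injective (dbl F h z) := by
  intro x y hxy
  funext j
  have := congrFun hxy (Fin.castAdd h j)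
  rw [dbl_apply, dbl_apply, Fin.append_left, Fin.append_left] at this
  exact this

theorem herm_dbl (h : ℕ) (z : K) (hz : z * z ^ Fintype.card F = -1) (x : Fin h → K) :
    Cfsg.hermForm (h + h) K (Fintype.card F) (dbl F h z x) (dbl F h z x) = 0 := by
  unfold Cfsg.hermForm
  rw [Fin.sum_univ_add, ← Finset.sum_add_distrib]
  apply Finset.sum_eq_zero
  intro j _
  rw [dbl_apply, Fin.append_left, Fin.append_right, Pi.smul_apply, smul_eq_mul, mul_pow]
  have : z * x j * (z ^ Fintype.card F * x j ^ Fintype.card F)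
      = (z * z ^ Fintype.card F) * (x j * x j ^ Fintype.card F) := by ring
  rw [this, hz]
  ring

theorem exists_plus_equiv (hK : Fintype.card K = Fintype.card F ^ 2) (h2 : finrank F K = 2)
    (h : ℕ) (hh : 1 ≤ h) :
    ∃ E : (Fin (h + h) → K) ≃ₗ[F] (Fin (h + h) ⊕ Fin (h + h) → F),
      ∀ w, Cfsg.quadFormPlus (h + h) F (E w) = hermQuad F (h + h) w := by
  classical
  have : Module.Finite F K := Module.Finite.of_finite
  rcases Cfsg.Agent.S2616.result (m := h + h) (by omega) (finrank_eq h2 (h + h))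
    (hermQuad F (K := K) (h + h)) (nondegenerate hK (h + h)) with
    ⟨b, h0, h1, h2'⟩ | ⟨b, ζ, hζ, h0, h1, h2', h3, h4, h5, h6⟩
  · exact ⟨b.equivFun, fun w => (plus_glue _ b h0 h1 h2' w).symm⟩
  · exfalso
    have hglue := minus_glue (hermQuad F (K := K) (h + h)) b 1 ζ h0 h1 h2' h3 h4 h5 h6
    obtain ⟨z, hz⟩ := exists_norm_neg_one (F := F) hK
    obtain ⟨U, hU⟩ : ∃ U : Submodule F ((Fin (h + h - 1) ⊕ Fin (h + h - 1)) ⊕ Fin 2 → F),
        U = (LinearMap.range (dbl F h z)).map b.equivFun.toLinearMap := ⟨_, rfl⟩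
    have hts : ∀ u ∈ U, Cfsg.quadFormMinus (h + h - 1) F 1 ζ u = 0 := by
      rw [hU]
      rintro _ ⟨_, ⟨x, rfl⟩, rfl⟩
      rw [LinearEquiv.coe_coe, ← hglue]
      apply (algebraMap F K).injective
      rw [algebraMap_hermQuad hK, herm_dbl h z hz, map_zero]
    have hdim : finrank F U = h + h := by
      rw [hU, LinearEquiv.finrank_map_eq, LinearMap.finrank_range_of_inj (dbl_injective h z)]
      have := finrank_eq (F := F) (K := K) h2 h
      omega
    have hle := Cfsg.Agent.Lib.Helper5.finrank_le_of_totallySingular_minus ζ hζ U hts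
    omega

end Cfsg.Agent.Lib.Helper5.HermQuad
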