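import Mathlib
import Cfsg.Agent.Lib.Helper5.HermQuad2

set_option autoImplicit false

/-!
The quadratic form `v ↦ Σ v_i^(q+1)` on `K^m` over `F` is of minus type when `m` is odd.
-/

namespace Cfsg.Agent.Lib.Helper5.HermQuad

open Module Matrix Polynomial Cfsg.Agent.Lib.Helper5.ScalarRes Cfsg.Agent.Lib.Helper5.HermRes
  Cfsg.Agent.Lib.Helper5.QuadGlue

variable {F K : Type*} [Field F] [Fintype F] [Field K] [Fintype K] [Algebra F K]

theorem pow_card_sub (x y : K) :
    (x - y) ^ Fintype.card F = x ^ Fintype.card F - y ^ Fintype.card F :=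
  map_sub (FiniteField.frobeniusAlgHom F K) x y

/-- A root `θ` of an anisotropic quadratic, with its conjugate `θ^q`. -/
theorem exists_root_conj (h2 : finrank F K = 2) (a c : F)
    (hac : ∀ z₁ z₂ : F, z₁ ^ 2 + a * z₁ * z₂ + c * z₂ ^ 2 = 0 → z₁ = 0 ∧ z₂ = 0) :
    ∃ θ : K, θ ^ Fintype.card F ≠ θ ∧ θ + θ ^ Fintype.card F = -(algebraMap F K a) ∧
      θ * θ ^ Fintype.card F = algebraMap F K c := by
  classical
  have hnoroot : ∀ x : F, x ^ 2 + a * x + c ≠ 0 := by
    intro x hx
    have := hac x 1 (by rw [mul_one, one_pow, mul_one]; exact hx)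
    exact one_ne_zero this.2
  obtain ⟨f, hf⟩ : ∃ f : F[X], f = X ^ 2 + C a * X + C c := ⟨_, rfl⟩
  have hdeg : f.natDegree = 2 := by
    rw [hf]
    compute_degree!
  have hmonic : f.Monic := by
    rw [hf]
    monicity!
  have hirr : Irreducible f := by
    rw [Polynomial.Monic.irreducible_iff_roots_eq_zero_of_degree_le_three hmonic (by omega)
      (by omega)]
    apply Multiset.eq_zero_of_forall_notMem
    intro x hx
    rw [mem_roots hmonic.ne_zero, IsRoot, hf] at hx
    simp only [eval_add, eval_pow, eval_X, eval_mul, eval_C] at hx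
    exact hnoroot x hx
  have : Fact (Irreducible f) := ⟨hirr⟩
  have hfin : Module.finrank F (AdjoinRoot f) = 2 := by
    rw [(AdjoinRoot.powerBasis hmonic.ne_zero).finrank, AdjoinRoot.powerBasis_dim, hdeg]
  obtain ⟨ψ⟩ := FiniteField.nonempty_algHom_of_finrank_dvd (F := F) (K := AdjoinRoot f) (L := K)
    (by rw [hfin, h2])
  obtain ⟨θ, hθ⟩ : ∃ θ : K, θ = ψ (AdjoinRoot.root f) := ⟨_, rfl⟩
  have hroot : θ ^ 2 + algebraMap F K a * θ + algebraMap F K c = 0 := by
    have h1 : aeval θ f = 0 := by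
      rw [hθ, Polynomial.aeval_algHom_apply, AdjoinRoot.aeval_eq, AdjoinRoot.mk_self, map_zero]
    rw [hf] at h1
    simpa using h1
  obtain ⟨θ', hθ'⟩ : ∃ θ' : K, θ' = θ ^ Fintype.card F := ⟨_, rfl⟩
  have hroot' : θ' ^ 2 + algebraMap F K a * θ' + algebraMap F K c = 0 := by
    have h1 : (θ ^ 2 + algebraMap F K a * θ + algebraMap F K c) ^ Fintype.card F
        = (0 : K) ^ Fintype.card F := by rw [hroot]
    rw [pow_card_add, pow_card_add, mul_pow, pow_card_algebraMap, pow_card_algebraMap,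
      ← pow_mul, mul_comm 2, pow_mul, ← hθ', zero_pow Fintype.card_ne_zero] at h1
    exact h1
  have hne : θ' ≠ θ := by
    intro h
    rw [hθ'] at h
    obtain ⟨x, hx⟩ := mem_range_of_pow_card_eq (F := F) h
    apply hnoroot x
    apply (algebraMap F K).injective
    rw [map_add, map_add, map_pow, map_mul, hx, map_zero]
    exact hroot
  have hsum : θ + θ' + algebraMap F K a = 0 := by
    have h1 : (θ - θ') * (θ + θ' + algebraMap F K a) = 0 := by
      linear_combination hroot - hroot'
    rcases mul_eq_zero.1 h1 with h | h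
    · exact absurd (sub_eq_zero.1 h).symm hne
    · exact h
  rw [hθ'] at hne hsum
  refine ⟨θ, hne, ?_, ?_⟩
  · linear_combination hsum
  · rw [hθ'] at hroot'
    linear_combination -hroot + θ * hsum

/-- The norm `x ↦ x^(q+1)` with values in `F`. -/
noncomputable def Nrm (F : Type*) {K : Type*} [Field F] [Fintype F] [Field K] [Algebra F K]
    (x : K) : F := retr F K (x * x ^ Fintype.card F)

theorem algebraMap_Nrm (hK : Fintype.card K = Fintype.card F ^ 2) (x : K) :
    algebraMap F K (Nrm F x) = x * x ^ Fintype.card F := by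
  have hmem : x * x ^ Fintype.card F ∈ Set.range (algebraMap F K) := by
    apply mem_range_of_pow_card_eq
    rw [mul_pow, pow_card_pow_card hK, mul_comm]
  obtain ⟨c, hc⟩ := hmem
  unfold Nrm
  rw [← hc, retr_algebraMap]

theorem hermQuad_succ (hK : Fintype.card K = Fintype.card F ^ 2) (k : ℕ) (w : Fin (k + 1) → K) :
    hermQuad F (k + 1) w = hermQuad F k (fun i => w i.castSucc) + Nrm F (w (Fin.last k)) := by
  apply (algebraMap F K).injective
  rw [map_add, algebraMap_hermQuad hK, algebraMap_hermQuad hK, algebraMap_Nrm hK]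
  unfold Cfsg.hermForm
  rw [Fin.sum_univ_castSucc]

/-- The binary parametrisation `z ↦ z₀ - θ z₁`. -/
def binMap (F : Type*) {K : Type*} [Field F] [Field K] [Algebra F K] (θ : K) :
    (Fin 2 → F) →ₗ[F] K where
  toFun z := algebraMap F K (z 0) - θ * algebraMap F K (z 1)
  map_add' u v := by
    simp only [Pi.add_apply, map_add]
    ring
  map_smul' c u := by
    simp only [Pi.smul_apply, smul_eq_mul, map_mul, RingHom.id_apply, Algebra.smul_def]
    ring

omit [Fintype F] [Fintype K] in
theorem binMap_apply (θ : K) (z : Fin 2 → F) :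
    binMap F θ z = algebraMap F K (z 0) - θ * algebraMap F K (z 1) := rfl

theorem binMap_injective (θ : K) (hθ : θ ^ Fintype.card F ≠ θ) :
    Function.Injective (binMap F θ) := by
  rw [← LinearMap.ker_eq_bot, LinearMap.ker_eq_bot']
  intro z hz
  rw [binMap_apply, sub_eq_zero] at hz
  have h1 : z 1 = 0 := by
    by_contra h1
    apply hθ
    have h2 : θ = algebraMap F K (z 0 / z 1) := by
      rw [map_div₀, hz, mul_div_assoc, div_self, mul_one]
      rw [Ne, map_eq_zero]
      exact h1
    rw [h2, pow_card_algebraMap]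
  have h0 : z 0 = 0 := by
    rw [h1, map_zero, mul_zero] at hz
    exact (map_eq_zero _).1 hz
  funext i
  fin_cases i
  · exact h0
  · exact h1

theorem Nrm_binMap (hK : Fintype.card K = Fintype.card F ^ 2) (a c : F) (θ : K)
    (hs : θ + θ ^ Fintype.card F = -(algebraMap F K a))
    (hp : θ * θ ^ Fintype.card F = algebraMap F K c) (z : Fin 2 → F) :
    Nrm F (binMap F θ z) = z 0 ^ 2 + a * z 0 * z 1 + c * z 1 ^ 2 := by
  apply (algebraMap F K).injective
  rw [algebraMap_Nrm hK, binMap_apply, pow_card_sub, mul_pow, pow_card_algebraMap,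
    pow_card_algebraMap]
  simp only [map_add, map_mul, map_pow]
  linear_combination (-(algebraMap F K (z 0) * algebraMap F K (z 1))) * hs
    + (algebraMap F K (z 1)) ^ 2 * hp

/-- The binary equivalence. -/
noncomputable def binEquiv (h2 : finrank F K = 2) (θ : K) (hθ : θ ^ Fintype.card F ≠ θ) :
    (Fin 2 → F) ≃ₗ[F] K :=
  have : Module.Finite F K := Module.Finite.of_finite
  LinearMap.linearEquivOfInjective (binMap F θ) (binMap_injective θ hθ) (by
    rw [Module.finrank_fintype_fun_eq_card, Fintype.card_fin, h2])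

theorem binEquiv_apply (h2 : finrank F K = 2) (θ : K) (hθ : θ ^ Fintype.card F ≠ θ)
    (z : Fin 2 → F) : binEquiv h2 θ hθ z = binMap F θ z := rfl


theorem exists_plus_equiv' (hK : Fintype.card K = Fintype.card F ^ 2) (h2 : finrank F K = 2)
    (n : ℕ) (hn : Even n) :
    ∃ E : (Fin n → K) ≃ₗ[F] (Fin n ⊕ Fin n → F),
      ∀ w, Cfsg.quadFormPlus n F (E w) = hermQuad F n w := by
  obtain ⟨h, rfl⟩ := hn
  rcases Nat.eq_zero_or_pos h with h0 | hpos
  · subst h0
    have e1 : Subsingleton (Fin (0 + 0) → K) := ⟨fun u v => funext fun i => absurd i.2 (by omega)⟩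
    have e2 : Subsingleton (Fin (0 + 0) ⊕ Fin (0 + 0) → F) :=
      ⟨fun u v => funext fun i => by
        rcases i with i | i <;> exact absurd i.2 (by omega)⟩
    refine ⟨LinearEquiv.ofSubsingleton _ _, fun w => ?_⟩
    have h1 : Cfsg.quadFormPlus (0 + 0) F
        ((LinearEquiv.ofSubsingleton (R := F) (Fin (0 + 0) → K) (Fin (0 + 0) ⊕ Fin (0 + 0) → F)) w)
        = 0 := by
      unfold Cfsg.quadFormPlus
      apply Finset.sum_eq_zero
      intro i _
      exact absurd i.2 (by omega)
    rw [h1]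
    apply (algebraMap F K).injective
    rw [algebraMap_hermQuad hK, map_zero]
    unfold Cfsg.hermForm
    symm
    apply Finset.sum_eq_zero
    intro i _
    exact absurd i.2 (by omega)
  · exact exists_plus_equiv hK h2 h hpos

/-- The map to minus-type coordinates. -/
def minusMap (k : ℕ) (E₀ : (Fin k → K) →ₗ[F] (Fin k ⊕ Fin k → F)) (β : K →ₗ[F] (Fin 2 → F)) :
    (Fin (k + 1) → K) →ₗ[F] ((Fin k ⊕ Fin k) ⊕ Fin 2 → F) where
  toFun w := Sum.elim (E₀ (fun i => w i.castSucc)) (β (w (Fin.last k)))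
  map_add' u v := by
    have h1 : (fun i : Fin k => (u + v) i.castSucc)
        = (fun i : Fin k => u i.castSucc) + (fun i : Fin k => v i.castSucc) := rfl
    funext j
    rcases j with j | j
    · show E₀ (fun i : Fin k => (u + v) i.castSucc) j = _
      rw [h1, map_add]
      rfl
    · simp only [Sum.elim_inr, Pi.add_apply, map_add]
  map_smul' c u := by
    have h1 : (fun i : Fin k => (c • u) i.castSucc) = c • (fun i : Fin k => u i.castSucc) := rfl
    funext j
    rcases j with j | j
    · show E₀ (fun i : Fin k => (c • u) i.castSucc) j = _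
      rw [h1, map_smul]
      rfl
    · simp only [Sum.elim_inr, Pi.smul_apply, map_smul, RingHom.id_apply]

omit [Fintype F] [Fintype K] in
theorem minusMap_inl (k : ℕ) (E₀ : (Fin k → K) →ₗ[F] (Fin k ⊕ Fin k → F))
    (β : K →ₗ[F] (Fin 2 → F)) (w : Fin (k + 1) → K) (j : Fin k ⊕ Fin k) :
    minusMap k E₀ β w (Sum.inl j) = E₀ (fun i => w i.castSucc) j := rfl

omit [Fintype F] [Fintype K] in
theorem minusMap_inr (k : ℕ) (E₀ : (Fin k → K) →ₗ[F] (Fin k ⊕ Fin k → F))
    (β : K →ₗ[F] (Fin 2 → F)) (w : Fin (k + 1) → K) (j : Fin 2) :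
    minusMap k E₀ β w (Sum.inr j) = β (w (Fin.last k)) j := rfl

omit [Fintype F] [Fintype K] in
theorem minusMap_injective (k : ℕ) (E₀ : (Fin k → K) →ₗ[F] (Fin k ⊕ Fin k → F))
    (β : K →ₗ[F] (Fin 2 → F)) (hE₀ : Function.Injective E₀) (hβ : Function.Injective β) :
    Function.Injective (minusMap k E₀ β) := by
  rw [← LinearMap.ker_eq_bot, LinearMap.ker_eq_bot']
  intro w hw
  have h1 : E₀ (fun i => w i.castSucc) = 0 := by
    funext j
    rw [← minusMap_inl k E₀ β, hw]
    rfl
  have h2 : β (w (Fin.last k)) = 0 := by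
    funext j
    rw [← minusMap_inr k E₀ β, hw]
    rfl
  have h3 := hE₀ (h1.trans (map_zero E₀).symm)
  have h4 := hβ (h2.trans (map_zero β).symm)
  funext i
  refine Fin.lastCases ?_ (fun j => ?_) i
  · exact h4
  · exact congrFun h3 j

theorem exists_minus_equiv (hK : Fintype.card K = Fintype.card F ^ 2) (h2 : finrank F K = 2)
    (k : ℕ) (hk : Even k) (a c : F)
    (hac : ∀ z₁ z₂ : F, z₁ ^ 2 + a * z₁ * z₂ + c * z₂ ^ 2 = 0 → z₁ = 0 ∧ z₂ = 0) :
    ∃ E : (Fin (k + 1) → K) ≃ₗ[F] ((Fin k ⊕ Fin k) ⊕ Fin 2 → F),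
      ∀ w, Cfsg.quadFormMinus k F a c (E w) = hermQuad F (k + 1) w := by
  classical
  have : Module.Finite F K := Module.Finite.of_finite
  obtain ⟨E₀, hE₀⟩ := exists_plus_equiv' (F := F) (K := K) hK h2 k hk
  obtain ⟨θ, hθ, hs, hp⟩ := exists_root_conj (K := K) h2 a c hac
  obtain ⟨β, hβ⟩ : ∃ β : K ≃ₗ[F] (Fin 2 → F), β = (binEquiv h2 θ hθ).symm := ⟨_, rfl⟩
  have hinj := minusMap_injective k E₀.toLinearMap β.toLinearMap E₀.injective β.injective
  refine ⟨LinearMap.linearEquivOfInjective (minusMap k E₀.toLinearMap β.toLinearMap) hinj ?_,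
    fun w => ?_⟩
  · rw [Module.finrank_fintype_fun_eq_card, finrank_eq h2]
    simp only [Fintype.card_sum, Fintype.card_fin]
    ring
  · show Cfsg.quadFormMinus k F a c (minusMap k E₀.toLinearMap β.toLinearMap w) = _
    unfold Cfsg.quadFormMinus
    simp only [minusMap_inl, minusMap_inr]
    rw [hermQuad_succ hK, ← hE₀]
    congr 1
    have h3 : w (Fin.last k) = binMap F θ (β (w (Fin.last k))) := by
      rw [← binEquiv_apply h2 θ hθ, hβ, LinearEquiv.apply_symm_apply]
    conv_rhs => rw [h3]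
    rw [Nrm_binMap hK a c θ hs hp]
    rfl

end Cfsg.Agent.Lib.Helper5.HermQuad
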