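import Mathlib

/-!
Permutation matrices, coordinate subspaces, and the rank invariant separating the double cosets
of block triangular subgroups of `GL_n`.
-/

namespace Cfsg.Agent.Lib.Helper5.GLBruhat

open Matrix Finset

variable {ι : Type*} [Fintype ι] [DecidableEq ι] {F : Type*} [Field F]

/-- The permutation matrix sending the basis vector `e_j` to `e_{σ j}`. -/
def pmat (σ : Equiv.Perm ι) : Matrix ι ι F := Matrix.of fun i j => if i = σ j then 1 else 0

theorem pmat_apply (σ : Equiv.Perm ι) (i j : ι) :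
    (pmat σ : Matrix ι ι F) i j = if i = σ j then 1 else 0 := rfl

theorem pmat_mul (σ τ : Equiv.Perm ι) : (pmat σ : Matrix ι ι F) * pmat τ = pmat (σ * τ) := by
  ext i j
  rw [Matrix.mul_apply]
  simp only [pmat_apply]
  rw [Finset.sum_eq_single (τ j)]
  · rw [if_pos rfl, mul_one]
    rfl
  · intro k _ hk
    rw [if_neg hk, mul_zero]
  · intro h
    exact absurd (mem_univ _) h

theorem pmat_one : (pmat 1 : Matrix ι ι F) = 1 := by
  ext i j
  rw [pmat_apply, Matrix.one_apply]
  rfl

/-- Permutation matrices as a homomorphism into `GL`. -/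
def permGL : Equiv.Perm ι →* GL ι F where
  toFun σ := ⟨pmat σ, pmat σ⁻¹, by rw [pmat_mul, mul_inv_cancel, pmat_one],
    by rw [pmat_mul, inv_mul_cancel, pmat_one]⟩
  map_one' := Units.ext pmat_one
  map_mul' σ τ := Units.ext (pmat_mul σ τ).symm

theorem coe_permGL (σ : Equiv.Perm ι) : ((permGL σ : GL ι F) : Matrix ι ι F) = pmat σ := rfl

theorem pmat_mulVec (σ : Equiv.Perm ι) (v : ι → F) (x : ι) :
    ((pmat σ : Matrix ι ι F) *ᵥ v) x = v (σ⁻¹ x) := by
  rw [Matrix.mulVec, dotProduct]
  simp only [pmat_apply]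
  rw [Finset.sum_eq_single (σ⁻¹ x)]
  · simp
  · intro j _ hj
    rw [if_neg, zero_mul]
    intro h
    apply hj
    rw [h]
    simp
  · intro h
    exact absurd (mem_univ _) h

/-- The coordinate subspace spanned by the basis vectors indexed by `S`. -/
def coordSub (S : Finset ι) : Submodule F (ι → F) where
  carrier := {v | ∀ x, x ∉ S → v x = 0}
  add_mem' := fun {a} {b} ha hb x hx => by
    rw [Pi.add_apply, ha x hx, hb x hx, add_zero]
  zero_mem' := fun _ _ => rfl
  smul_mem' := fun c {a} ha x hx => by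
    rw [Pi.smul_apply, ha x hx, smul_zero]

theorem mem_coordSub {S : Finset ι} {v : ι → F} : v ∈ coordSub S ↔ ∀ x, x ∉ S → v x = 0 := Iff.rfl

theorem coordSub_inf (S T : Finset ι) :
    (coordSub S ⊓ coordSub T : Submodule F (ι → F)) = coordSub (S ∩ T) := by
  ext v
  rw [Submodule.mem_inf, mem_coordSub, mem_coordSub, mem_coordSub]
  constructor
  · rintro ⟨h1, h2⟩ x hx
    rw [Finset.mem_inter, not_and_or] at hx
    rcases hx with hx | hx
    · exact h1 x hx
    · exact h2 x hx
  · intro h
    exact ⟨fun x hx => h x fun hx' => hx (Finset.mem_inter.mp hx').1,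
      fun x hx => h x fun hx' => hx (Finset.mem_inter.mp hx').2⟩

/-- The coordinate subspace is isomorphic to the function space on `S`. -/
def coordEquiv (S : Finset ι) : (coordSub S : Submodule F (ι → F)) ≃ₗ[F] (S → F) where
  toFun v := fun s => v.1 s
  map_add' _ _ := rfl
  map_smul' _ _ := rfl
  invFun w := ⟨fun x => if h : x ∈ S then w ⟨x, h⟩ else 0, fun x hx => by simp [hx]⟩
  left_inv v := by
    apply Subtype.ext
    funext x
    by_cases hx : x ∈ S
    · simp [hx]
    · simp only [hx, dite_false]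
      exact (v.2 x hx).symm
  right_inv w := by
    funext s
    simp [s.2]

theorem finrank_coordSub (S : Finset ι) :
    Module.finrank F (coordSub S : Submodule F (ι → F)) = S.card := by
  rw [LinearEquiv.finrank_eq (coordEquiv S), Module.finrank_fintype_fun_eq_card, Fintype.card_coe]

theorem map_pmat_coordSub_le (σ : Equiv.Perm ι) (S : Finset ι) :
    (coordSub S : Submodule F (ι → F)).map (Matrix.mulVecLin (pmat σ)) ≤ coordSub (S.image σ) := by
  rintro w ⟨v, hv, rfl⟩
  intro x hx
  rw [Matrix.mulVecLin_apply, pmat_mulVec]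
  apply hv
  intro h
  apply hx
  rw [Finset.mem_image]
  exact ⟨σ⁻¹ x, h, by simp⟩

theorem map_pmat_coordSub (σ : Equiv.Perm ι) (S : Finset ι) :
    (coordSub S : Submodule F (ι → F)).map (Matrix.mulVecLin (pmat σ)) = coordSub (S.image σ) := by
  apply le_antisymm (map_pmat_coordSub_le σ S)
  intro w hw
  refine ⟨Matrix.mulVecLin (pmat σ⁻¹) w, ?_, ?_⟩
  · have := map_pmat_coordSub_le (F := F) σ⁻¹ (S.image σ) ⟨w, hw, rfl⟩
    have himg : (S.image σ).image (σ⁻¹ : Equiv.Perm ι) = S := by
      rw [Finset.image_image]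
      ext x
      simp
    rwa [himg] at this
  · rw [← LinearMap.comp_apply, ← Matrix.mulVecLin_mul, pmat_mul, mul_inv_cancel, pmat_one,
      Matrix.mulVecLin_one]
    rfl

/-- The rank invariant. -/
noncomputable def dinv (g : Matrix ι ι F) (S T : Finset ι) : ℕ :=
  Module.finrank F ↥((coordSub S : Submodule F (ι → F)).map (Matrix.mulVecLin g) ⊓ coordSub T)

theorem dinv_pmat (σ : Equiv.Perm ι) (S T : Finset ι) :
    dinv (pmat σ : Matrix ι ι F) S T = (S.filter fun y => σ y ∈ T).card := by
  unfold dinv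
  rw [map_pmat_coordSub, coordSub_inf, finrank_coordSub]
  have : S.image σ ∩ T = (S.filter fun y => σ y ∈ T).image σ := by
    ext x
    simp only [Finset.mem_inter, Finset.mem_image, Finset.mem_filter]
    constructor
    · rintro ⟨⟨y, hy, rfl⟩, hT⟩
      exact ⟨y, ⟨hy, hT⟩, rfl⟩
    · rintro ⟨y, ⟨hy, hT⟩, rfl⟩
      exact ⟨⟨y, hy, rfl⟩, hT⟩
  rw [this, Finset.card_image_of_injective _ σ.injective]

theorem dinv_mul_right (g p : Matrix ι ι F) (S T : Finset ι)
    (h : (coordSub S : Submodule F (ι → F)).map (Matrix.mulVecLin p) = coordSub S) :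
    dinv (g * p) S T = dinv g S T := by
  unfold dinv
  rw [Matrix.mulVecLin_mul, Submodule.map_comp, h]

theorem dinv_mul_left (p g : Matrix ι ι F) (S T : Finset ι)
    (hinj : Function.Injective (Matrix.mulVecLin p))
    (h : (coordSub T : Submodule F (ι → F)).map (Matrix.mulVecLin p) = coordSub T) :
    dinv (p * g) S T = dinv g S T := by
  unfold dinv
  rw [Matrix.mulVecLin_mul, Submodule.map_comp]
  conv_lhs => rw [← h]
  rw [← Submodule.map_inf _ hinj]
  exact LinearEquiv.finrank_eq (Submodule.equivMapOfInjective _ hinj _).symm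

theorem mulVecLin_injective_of_GL (g : GL ι F) :
    Function.Injective (Matrix.mulVecLin (g : Matrix ι ι F)) := by
  intro v w h
  have h2 := congrArg (Matrix.mulVecLin ((g⁻¹ : GL ι F) : Matrix ι ι F)) h
  rw [← LinearMap.comp_apply, ← LinearMap.comp_apply, ← Matrix.mulVecLin_mul] at h2
  have : ((g⁻¹ : GL ι F) : Matrix ι ι F) * (g : Matrix ι ι F) = 1 := by
    rw [← Units.val_mul, inv_mul_cancel, Units.val_one]
  rw [this, Matrix.mulVecLin_one] at h2
  exact h2

/-- A matrix that is block triangular for a labelling preserves the coordinate subspaces of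
initial segments of labels. -/
theorem map_coordSub_le_of_blockTriangular (b : ι → ℕ) (p : Matrix ι ι F)
    (hp : p.BlockTriangular b) (k : ℕ) :
    (coordSub (univ.filter fun x => b x ≤ k) : Submodule F (ι → F)).map (Matrix.mulVecLin p)
      ≤ coordSub (univ.filter fun x => b x ≤ k) := by
  rintro w ⟨v, hv, rfl⟩
  intro x hx
  rw [Finset.mem_filter, not_and] at hx
  have hx' : k < b x := not_le.mp (hx (mem_univ _))
  rw [Matrix.mulVecLin_apply, Matrix.mulVec, dotProduct]
  apply Finset.sum_eq_zero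
  intro y _
  by_cases hy : b y ≤ k
  · rw [hp (lt_of_le_of_lt hy hx'), zero_mul]
  · rw [hv y (by rw [Finset.mem_filter, not_and]; exact fun _ => hy), mul_zero]

theorem map_coordSub_of_blockTriangular (b : ι → ℕ) (p : GL ι F)
    (hp : (p : Matrix ι ι F).BlockTriangular b)
    (hp' : ((p⁻¹ : GL ι F) : Matrix ι ι F).BlockTriangular b) (k : ℕ) :
    (coordSub (univ.filter fun x => b x ≤ k) : Submodule F (ι → F)).map
        (Matrix.mulVecLin (p : Matrix ι ι F))
      = coordSub (univ.filter fun x => b x ≤ k) := by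
  apply le_antisymm (map_coordSub_le_of_blockTriangular b _ hp k)
  intro w hw
  refine ⟨Matrix.mulVecLin ((p⁻¹ : GL ι F) : Matrix ι ι F) w,
    map_coordSub_le_of_blockTriangular b _ hp' k ⟨w, hw, rfl⟩, ?_⟩
  rw [← LinearMap.comp_apply, ← Matrix.mulVecLin_mul]
  have : (p : Matrix ι ι F) * ((p⁻¹ : GL ι F) : Matrix ι ι F) = 1 := by
    rw [← Units.val_mul, mul_inv_cancel, Units.val_one]
  rw [this, Matrix.mulVecLin_one]
  rfl

end Cfsg.Agent.Lib.Helper5.GLBruhat
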