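import Mathlib

/-!
Double cosets of Young subgroups and contingency tables (generic combinatorics).
-/

namespace Cfsg.Agent.Lib.Helper5.YoungDC

open Finset

theorem perm_apply_inv {X : Type*} (v : Equiv.Perm X) (y : X) : v (v⁻¹ y) = y := by simp

theorem perm_inv_apply {X : Type*} (v : Equiv.Perm X) (y : X) : v⁻¹ (v y) = y := by simp

section transfer
variable {G W : Type*} [Group G] [Group W]

/-- Transfer of double coset counts along a map compatible with the double coset relations. -/
theorem card_dc_eq (H K : Subgroup G) (H' K' : Subgroup W) (φ : W → G)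
    (h1 : ∀ g, ∃ w, ∃ h ∈ H, ∃ k ∈ K, g = h * φ w * k)
    (h2 : ∀ w w', (∃ h ∈ H', ∃ k ∈ K', w' = h * w * k) ↔ (∃ h ∈ H, ∃ k ∈ K, φ w' = h * φ w * k)) :
    Nat.card (DoubleCoset.Quotient (H' : Set W) K') = Nat.card (DoubleCoset.Quotient (H : Set G) K) := by
  let f : DoubleCoset.Quotient (H' : Set W) K' → DoubleCoset.Quotient (H : Set G) K :=
    Quotient.lift (fun w : W => DoubleCoset.mk H K (φ w)) (by
      intro a b hab
      have hab' : DoubleCoset.setoid (H' : Set W) K' a b := hab
      rw [DoubleCoset.rel_iff] at hab'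
      rw [DoubleCoset.eq]
      exact (h2 a b).mp hab')
  apply Nat.card_eq_of_bijective f
  constructor
  · intro x y hxy
    induction x using Quotient.inductionOn with | _ a => ?_
    induction y using Quotient.inductionOn with | _ b => ?_
    have h3 : DoubleCoset.mk H K (φ a) = DoubleCoset.mk H K (φ b) := hxy
    rw [DoubleCoset.eq] at h3
    apply Quotient.sound
    show DoubleCoset.setoid (H' : Set W) K' a b
    rw [DoubleCoset.rel_iff]
    exact (h2 a b).mpr h3
  · intro y
    induction y using Quotient.inductionOn with | _ g => ?_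
    obtain ⟨w, h, hh, k, hk, hg⟩ := h1 g
    refine ⟨Quotient.mk'' w, ?_⟩
    show DoubleCoset.mk H K (φ w) = DoubleCoset.mk H K g
    rw [DoubleCoset.eq]
    exact ⟨h, hh, k, hk, hg⟩

end transfer

section young
variable {X I J : Type*} [Fintype X] [DecidableEq X] [DecidableEq I] [DecidableEq J]

/-- The Young subgroup of a labelling: permutations preserving the labels. -/
def young (la : X → I) : Subgroup (Equiv.Perm X) where
  carrier := {σ | ∀ x, la (σ x) = la x}
  mul_mem' := fun {a} {b} ha hb x => by
    show la (a (b x)) = la x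
    rw [ha, hb]
  one_mem' := fun _ => rfl
  inv_mem' := fun {a} ha x => by
    have h := ha (a⁻¹ x)
    have e : a (a⁻¹ x) = x := by simp
    rw [e] at h
    exact h.symm

theorem mem_young {la : X → I} {σ : Equiv.Perm X} : σ ∈ young la ↔ ∀ x, la (σ x) = la x := Iff.rfl

/-- The contingency table of a permutation with respect to two labellings. -/
def cm (la : X → I) (lb : X → J) (σ : Equiv.Perm X) (i : I) (j : J) : ℕ :=
  (univ.filter fun y => lb y = j ∧ la (σ y) = i).card

theorem cm_mul (la : X → I) (lb : X → J) (σ u v : Equiv.Perm X) (hu : u ∈ young la)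
    (hv : v ∈ young lb) : cm la lb (u * σ * v) = cm la lb σ := by
  funext i j
  unfold cm
  apply Finset.card_bij (fun y _ => v y)
  · intro y hy
    rw [mem_filter] at hy ⊢
    refine ⟨mem_univ _, ?_, ?_⟩
    · rw [hv y]; exact hy.2.1
    · have := hy.2.2
      rw [Equiv.Perm.mul_apply, Equiv.Perm.mul_apply, hu] at this
      exact this
  · intro y _ y' _ h
    exact v.injective h
  · intro y hy
    rw [mem_filter] at hy
    refine ⟨v⁻¹ y, ?_, by simp⟩
    rw [mem_filter]
    refine ⟨mem_univ _, ?_, ?_⟩
    · have := hv (v⁻¹ y)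
      rw [perm_apply_inv] at this
      rw [← this]; exact hy.2.1
    · rw [Equiv.Perm.mul_apply, Equiv.Perm.mul_apply, perm_apply_inv, hu]
      exact hy.2.2

/-- Two functions with equal fibre cardinalities differ by a bijection. -/
theorem exists_equiv_of_fiber_card {Y Z : Type*} [Fintype Y] [DecidableEq Z] (f : X → Z) (g : Y → Z)
    (h : ∀ z, (univ.filter fun x => f x = z).card = (univ.filter fun y => g y = z).card) :
    ∃ e : X ≃ Y, ∀ x, g (e x) = f x := by
  have he : ∀ z, Nonempty ({x // f x = z} ≃ {y // g y = z}) := by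
    intro z
    apply Fintype.card_eq.mp
    rw [Fintype.card_subtype, Fintype.card_subtype]
    exact h z
  exact ⟨Equiv.ofFiberEquiv fun z => (he z).some, fun x => Equiv.ofFiberEquiv_map _ x⟩

theorem exists_mul_of_cm_eq (la : X → I) (lb : X → J) (σ τ : Equiv.Perm X)
    (h : cm la lb σ = cm la lb τ) : ∃ u ∈ young la, ∃ v ∈ young lb, τ = u * σ * v := by
  obtain ⟨v, hv⟩ := exists_equiv_of_fiber_card (fun y => (la (τ y), lb y)) (fun y => (la (σ y), lb y))
    (by
      rintro ⟨i, j⟩
      have := congrFun (congrFun h i) j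
      unfold cm at this
      rw [← (show (univ.filter fun y => lb y = j ∧ la (τ y) = i)
          = univ.filter fun y => (la (τ y), lb y) = (i, j) from by
            ext y; simp [and_comm]),
        ← (show (univ.filter fun y => lb y = j ∧ la (σ y) = i)
          = univ.filter fun y => (la (σ y), lb y) = (i, j) from by
            ext y; simp [and_comm])]
      exact this.symm)
  have hv1 : ∀ y, la (σ (v y)) = la (τ y) := fun y => (Prod.ext_iff.mp (hv y)).1
  have hv2 : ∀ y, lb (v y) = lb y := fun y => (Prod.ext_iff.mp (hv y)).2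
  refine ⟨τ * (σ * v)⁻¹, ?_, v, hv2, by group⟩
  intro z
  have hz : z = σ (v ((σ * v)⁻¹ z)) := by
    have : (σ * v) ((σ * v)⁻¹ z) = z := perm_apply_inv _ _
    exact this.symm
  rw [Equiv.Perm.mul_apply]
  conv_rhs => rw [hz]
  rw [hv1]

theorem sum_cm_right [Fintype J] (la : X → I) (lb : X → J) (σ : Equiv.Perm X) (i : I) :
    ∑ j, cm la lb σ i j = (univ.filter fun x => la x = i).card := by
  have h1 : (univ.filter fun y => la (σ y) = i).card = (univ.filter fun x => la x = i).card := by
    apply Finset.card_bij (fun y _ => σ y)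
    · intro y hy
      rw [mem_filter] at hy ⊢
      exact ⟨mem_univ _, hy.2⟩
    · intro y _ y' _ h
      exact σ.injective h
    · intro x hx
      rw [mem_filter] at hx
      refine ⟨σ⁻¹ x, ?_, by simp⟩
      rw [mem_filter]
      exact ⟨mem_univ _, by simpa using hx.2⟩
  rw [← h1, Finset.card_eq_sum_card_fiberwise (f := lb) (t := univ) (fun _ _ => mem_univ _)]
  refine Finset.sum_congr rfl fun j _ => ?_
  unfold cm
  congr 1
  ext y
  simp [and_comm]

theorem sum_cm_left [Fintype I] (la : X → I) (lb : X → J) (σ : Equiv.Perm X) (j : J) :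
    ∑ i, cm la lb σ i j = (univ.filter fun y => lb y = j).card := by
  rw [Finset.card_eq_sum_card_fiberwise (f := fun y => la (σ y)) (t := univ)
    (fun _ _ => mem_univ _)]
  refine Finset.sum_congr rfl fun i _ => ?_
  unfold cm
  congr 1
  ext y
  simp

/-- Every contingency table with the right margins is realised by a permutation. -/
theorem exists_cm_eq [Fintype I] [Fintype J] (la : X → I) (lb : X → J) (M : I → J → ℕ)
    (hr : ∀ i, ∑ j, M i j = (univ.filter fun x => la x = i).card)
    (hc : ∀ j, ∑ i, M i j = (univ.filter fun y => lb y = j).card) :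
    ∃ σ : Equiv.Perm X, cm la lb σ = M := by
  classical
  let T : Finset (Σ _ : I × J, ℕ) := (univ : Finset (I × J)).sigma fun p => Finset.range (M p.1 p.2)
  have hcardJ : ∀ j, (univ.filter fun t : T => t.1.1.2 = j).card = ∑ i, M i j := by
    intro j
    have e1 : (univ.filter fun t : T => t.1.1.2 = j).card
        = (T.filter fun t => t.1.2 = j).card := by
      rw [← Finset.card_map (Function.Embedding.subtype _)]
      congr 1
      ext t
      simp only [mem_map, mem_filter, mem_univ, true_and, Function.Embedding.coe_subtype,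
        Subtype.exists, exists_and_right, exists_eq_right]
      constructor
      · rintro ⟨ht, h⟩; exact ⟨ht, h⟩
      · rintro ⟨ht, h⟩; exact ⟨ht, h⟩
    have e2 : T.filter (fun t => t.1.2 = j)
        = ((univ : Finset (I × J)).filter fun p => p.2 = j).sigma
            fun p => Finset.range (M p.1 p.2) := by
      ext ⟨p, k⟩
      simp only [T, mem_filter, mem_sigma, mem_univ, true_and, mem_range]
      tauto
    rw [e1, e2, Finset.card_sigma]
    simp only [Finset.card_range]
    rw [Finset.sum_filter, Fintype.sum_prod_type]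
    simp only
    rw [Finset.sum_congr rfl fun i _ => Finset.sum_ite_eq' univ j fun j' => M i j']
    simp
  have hcardI : ∀ i, (univ.filter fun t : T => t.1.1.1 = i).card = ∑ j, M i j := by
    intro i
    have e1 : (univ.filter fun t : T => t.1.1.1 = i).card
        = (T.filter fun t => t.1.1 = i).card := by
      rw [← Finset.card_map (Function.Embedding.subtype _)]
      congr 1
      ext t
      simp only [mem_map, mem_filter, mem_univ, true_and, Function.Embedding.coe_subtype,
        Subtype.exists, exists_and_right, exists_eq_right]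
      constructor
      · rintro ⟨ht, h⟩; exact ⟨ht, h⟩
      · rintro ⟨ht, h⟩; exact ⟨ht, h⟩
    have e2 : T.filter (fun t => t.1.1 = i)
        = ((univ : Finset (I × J)).filter fun p => p.1 = i).sigma
            fun p => Finset.range (M p.1 p.2) := by
      ext ⟨p, k⟩
      simp only [T, mem_filter, mem_sigma, mem_univ, true_and, mem_range]
      tauto
    rw [e1, e2, Finset.card_sigma]
    simp only [Finset.card_range]
    rw [Finset.sum_filter, Fintype.sum_prod_type]
    simp only
    rw [Finset.sum_eq_single i]
    · simp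
    · intro i' _ hi'
      simp [hi']
    · intro h; exact absurd (mem_univ i) h
  obtain ⟨e₁, he₁⟩ := exists_equiv_of_fiber_card lb (fun t : T => t.1.1.2)
    (fun j => by rw [hcardJ j, hc j])
  obtain ⟨e₂, he₂⟩ := exists_equiv_of_fiber_card (fun t : T => t.1.1.1) la
    (fun i => by rw [hcardI i, hr i])
  refine ⟨e₁.trans e₂, ?_⟩
  funext i j
  unfold cm
  have e3 : (univ.filter fun y => lb y = j ∧ la ((e₁.trans e₂) y) = i).card
      = (univ.filter fun t : T => t.1.1.2 = j ∧ t.1.1.1 = i).card := by
    apply Finset.card_bij (fun y _ => e₁ y)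
    · intro y hy
      rw [mem_filter] at hy ⊢
      refine ⟨mem_univ _, ?_, ?_⟩
      · rw [he₁]; exact hy.2.1
      · rw [← he₂]; exact hy.2.2
    · intro y _ y' _ h
      exact e₁.injective h
    · intro t ht
      rw [mem_filter] at ht
      refine ⟨e₁.symm t, ?_, by simp⟩
      rw [mem_filter]
      refine ⟨mem_univ _, ?_, ?_⟩
      · rw [← he₁, Equiv.apply_symm_apply]; exact ht.2.1
      · rw [Equiv.trans_apply, Equiv.apply_symm_apply, he₂]; exact ht.2.2
  rw [e3]
  have e4 : (univ.filter fun t : T => t.1.1.2 = j ∧ t.1.1.1 = i).card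
      = (T.filter fun t => t.1.2 = j ∧ t.1.1 = i).card := by
    rw [← Finset.card_map (Function.Embedding.subtype _)]
    congr 1
    ext t
    simp only [mem_map, mem_filter, mem_univ, true_and, Function.Embedding.coe_subtype,
      Subtype.exists, exists_and_right, exists_eq_right]
    constructor
    · rintro ⟨⟨ht, h1⟩, h2⟩; exact ⟨ht, h1, h2⟩
    · rintro ⟨ht, h1, h2⟩; exact ⟨⟨ht, h1⟩, h2⟩
  have e5 : T.filter (fun t => t.1.2 = j ∧ t.1.1 = i)
      = ({(i, j)} : Finset (I × J)).sigma fun p => Finset.range (M p.1 p.2) := by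
    ext ⟨p, k⟩
    simp only [T, mem_filter, mem_sigma, mem_univ, true_and, mem_range, mem_singleton]
    constructor
    · rintro ⟨hk, h2, h1⟩
      exact ⟨Prod.ext h1 h2, hk⟩
    · rintro ⟨rfl, hk⟩
      exact ⟨hk, rfl, rfl⟩
  rw [e4, e5, Finset.card_sigma]
  simp

end young

end Cfsg.Agent.Lib.Helper5.YoungDC
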