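import Mathlib
import Cfsg.Prelude.Def_LinearParabolics
import Cfsg.Agent.Lib.Helper5.GLBruhat1
import Cfsg.Agent.Lib.Helper5.YoungDC
import Cfsg.Agent.Lib.Helper5.SLnOpp

/-!
Bruhat decomposition of `GL_n` with permutation matrices and the parametrisation of the double
cosets of standard parabolic subgroups by double cosets of Young subgroups.
-/

namespace Cfsg.Agent.Lib.Helper5.GLBruhat

open Matrix Finset
open Cfsg.Agent.Lib.Helper5.SLnBN
open Cfsg.Agent.Lib.Helper5.YoungDC

variable {n : ℕ} {F : Type*} [Field F]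

theorem compLabel_mono (μ : Fin n → ℕ) {i j : Fin n} (h : i ≤ j) :
    Cfsg.compLabel μ i ≤ Cfsg.compLabel μ j := by
  unfold Cfsg.compLabel
  apply Finset.card_le_card
  intro k hk
  rw [Finset.mem_filter] at hk ⊢
  exact ⟨hk.1, hk.2.trans h⟩

theorem upperTriangularGL_le_parabolicGL (μ : Fin n → ℕ) :
    Cfsg.upperTriangularGL n F ≤ Cfsg.parabolicGL n F μ := by
  intro g hg
  have hg' : (g : Matrix (Fin n) (Fin n) F).BlockTriangular id := hg
  show (g : Matrix (Fin n) (Fin n) F).BlockTriangular (Cfsg.compLabel μ)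
  intro i j hij
  apply hg'
  by_contra hle
  have : i ≤ j := not_lt.mp hle
  exact absurd (compLabel_mono μ this) (not_le.mpr hij)

theorem permGL_mem_parabolicGL (μ : Fin n → ℕ) {σ : Equiv.Perm (Fin n)}
    (hσ : σ ∈ Cfsg.youngSubgroup μ) : (permGL σ : GL (Fin n) F) ∈ Cfsg.parabolicGL n F μ := by
  show ((permGL σ : GL (Fin n) F) : Matrix (Fin n) (Fin n) F).BlockTriangular (Cfsg.compLabel μ)
  intro i j hij
  rw [coe_permGL, pmat_apply, if_neg]
  rintro rfl
  have : Cfsg.compLabel μ (σ j) = Cfsg.compLabel μ j := hσ j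
  omega

theorem youngSubgroup_eq (μ : Fin n → ℕ) : Cfsg.youngSubgroup μ = young (Cfsg.compLabel μ) := rfl

/-- A diagonal element of `GL` with prescribed first entry. -/
def diagFirst {m : ℕ} (d : Fˣ) : GL (Fin (m + 1)) F :=
  ⟨Matrix.diagonal (Function.update (fun _ => (1 : F)) 0 (d : F)),
   Matrix.diagonal (Function.update (fun _ => (1 : F)) 0 ((d⁻¹ : Fˣ) : F)), by
    rw [Matrix.diagonal_mul_diagonal, ← Matrix.diagonal_one]
    congr 1
    funext i
    by_cases hi : i = 0
    · subst hi; simp
    · simp [Function.update_of_ne hi], by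
    rw [Matrix.diagonal_mul_diagonal, ← Matrix.diagonal_one]
    congr 1
    funext i
    by_cases hi : i = 0
    · subst hi; simp
    · simp [Function.update_of_ne hi]⟩

theorem det_diagFirst {m : ℕ} (d : Fˣ) :
    ((diagFirst d : GL (Fin (m + 1)) F) : Matrix (Fin (m + 1)) (Fin (m + 1)) F).det = d := by
  show (Matrix.diagonal (Function.update (fun _ => (1 : F)) 0 (d : F))).det = d
  rw [Matrix.det_diagonal, Finset.prod_update_of_mem (mem_univ _)]
  simp

theorem diagFirst_mem {m : ℕ} (d : Fˣ) :
    (diagFirst d : GL (Fin (m + 1)) F) ∈ Cfsg.upperTriangularGL (m + 1) F := by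
  show (Matrix.diagonal (Function.update (fun _ => (1 : F)) 0 (d : F))).BlockTriangular id
  exact Matrix.blockTriangular_diagonal _

theorem toGL_mem_upper {g : SpecialLinearGroup (Fin n) F} (hg : g ∈ borel n F) :
    (Matrix.SpecialLinearGroup.toGL g : GL (Fin n) F) ∈ Cfsg.upperTriangularGL n F := by
  show ((Matrix.SpecialLinearGroup.toGL g : GL (Fin n) F) : Matrix (Fin n) (Fin n) F).BlockTriangular id
  intro i j hij
  exact hg i j hij

/-- Bruhat decomposition of `GL_n(F)`. -/
theorem exists_bruhat_GL (g : GL (Fin n) F) :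
    ∃ σ : Equiv.Perm (Fin n), ∃ p ∈ Cfsg.upperTriangularGL n F, ∃ p' ∈ Cfsg.upperTriangularGL n F,
      g = p * permGL σ * p' := by
  rcases Nat.lt_or_ge n 2 with hn | hn
  · refine ⟨1, g, ?_, 1, one_mem _, by simp⟩
    show (g : Matrix (Fin n) (Fin n) F).BlockTriangular id
    intro i j hij
    exfalso
    have h1 := i.2
    have h2 := j.2
    have h3 : (j : ℕ) < i := hij
    omega
  · obtain ⟨m, rfl⟩ : ∃ m, n = m + 1 := ⟨n - 1, by omega⟩
    have hm : 1 ≤ m := by omega
    let d : Fˣ := Matrix.GeneralLinearGroup.det g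
    let D : GL (Fin (m + 1)) F := diagFirst d
    have hdet : ((D⁻¹ * g : GL (Fin (m + 1)) F) : Matrix (Fin (m + 1)) (Fin (m + 1)) F).det = 1 := by
      have h1 : Matrix.GeneralLinearGroup.det (D⁻¹ * g) = 1 := by
        rw [map_mul, map_inv]
        have : Matrix.GeneralLinearGroup.det D = d := by
          apply Units.ext
          exact det_diagFirst d
        rw [this]
        exact inv_mul_cancel d
      have h2 := congrArg Units.val h1
      exact h2
    let s : SpecialLinearGroup (Fin (m + 1)) F := ⟨_, hdet⟩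
    obtain ⟨b, hb, w, hw, b', hb', hs⟩ := exists_bruhat hm s
    obtain ⟨σ, hσ⟩ := hw
    have hsGL : (Matrix.SpecialLinearGroup.toGL s : GL (Fin (m + 1)) F) = D⁻¹ * g := by
      apply Units.ext
      rfl
    refine ⟨σ, D * Matrix.SpecialLinearGroup.toGL b, ?_,
      (permGL σ)⁻¹ * Matrix.SpecialLinearGroup.toGL w * Matrix.SpecialLinearGroup.toGL b', ?_, ?_⟩
    · exact Subgroup.mul_mem _ (diagFirst_mem d) (toGL_mem_upper hb)
    · refine Subgroup.mul_mem _ ?_ (toGL_mem_upper hb')
      show ((((permGL σ)⁻¹ * Matrix.SpecialLinearGroup.toGL w : GL (Fin (m + 1)) F)) :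
        Matrix (Fin (m + 1)) (Fin (m + 1)) F).BlockTriangular id
      intro i j hij
      have hne : i ≠ j := ne_of_gt hij
      rw [← map_inv, Units.val_mul, coe_permGL, Matrix.mul_apply]
      apply Finset.sum_eq_zero
      intro k _
      rw [pmat_apply]
      by_cases hk : i = σ⁻¹ k
      · rw [if_pos hk, one_mul]
        apply hσ
        intro hkj
        apply hne
        rw [hk, hkj]
        simp
      · rw [if_neg hk, zero_mul]
    · have h1 : D * Matrix.SpecialLinearGroup.toGL b * permGL σ *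
          ((permGL σ)⁻¹ * Matrix.SpecialLinearGroup.toGL w * Matrix.SpecialLinearGroup.toGL b')
          = D * Matrix.SpecialLinearGroup.toGL (b * w * b') := by
        rw [map_mul, map_mul]
        group
      rw [h1, ← hs, hsGL]
      group

end Cfsg.Agent.Lib.Helper5.GLBruhat
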