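import Mathlib

/-!
Counting linearly independent tuples whose entries lie in a nested family of subspaces.
-/

namespace Cfsg.Agent.Lib.Helper5.FlagCount

open Module

section nested
variable {K V : Type*} [Field K] [Fintype K] [AddCommGroup V] [Module K V] [Finite V]

theorem natCard_submodule (W : Submodule K V) :
    Nat.card W = Fintype.card K ^ finrank K W := by
  classical
  have : Fintype W := Fintype.ofFinite W
  rw [Nat.card_eq_fintype_card, Module.card_eq_pow_finrank (K := K)]

theorem card_diff (W S : Submodule K V) (hSW : S ≤ W) :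
    Nat.card {v : V // v ∈ W ∧ v ∉ S}
      = Fintype.card K ^ finrank K W - Fintype.card K ^ finrank K S := by
  classical
  have h1 : Nat.card {v : V // v ∈ W ∧ v ∉ S} = ((W : Set V) \ (S : Set V)).ncard := by
    rw [← Nat.card_coe_set_eq]
    rfl
  rw [h1, Set.ncard_diff (show (S : Set V) ⊆ W from hSW) (Set.toFinite _),
    ← Nat.card_coe_set_eq, ← Nat.card_coe_set_eq]
  have e1 : Nat.card ((W : Set V)) = Nat.card W := rfl
  have e2 : Nat.card ((S : Set V)) = Nat.card S := rfl
  rw [e1, e2, natCard_submodule, natCard_submodule]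

/-- Peeling off the last vector. -/
def snocEquiv (k : ℕ) (W : Fin (k + 1) → Submodule K V) :
    {s : Fin (k + 1) → V // LinearIndependent K s ∧ ∀ j, s j ∈ W j} ≃
      Σ s : {s : Fin k → V // LinearIndependent K s ∧ ∀ j, s j ∈ W j.castSucc},
        {v : V // v ∈ W (Fin.last k) ∧ v ∉ Submodule.span K (Set.range s.1)} where
  toFun s := ⟨⟨fun j => s.1 j.castSucc, by
      have h := s.2.1
      rw [← Fin.snoc_init_self s.1, linearIndependent_finSnoc] at h
      exact ⟨h.1, fun j => s.2.2 j.castSucc⟩⟩,
    ⟨s.1 (Fin.last k), s.2.2 _, by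
      have h := s.2.1
      rw [← Fin.snoc_init_self s.1, linearIndependent_finSnoc] at h
      exact h.2⟩⟩
  invFun t := ⟨Fin.snoc (α := fun _ => V) t.1.1 t.2.1, by
    refine ⟨linearIndependent_finSnoc.mpr ⟨t.1.2.1, t.2.2.2⟩, ?_⟩
    intro j
    refine Fin.lastCases ?_ (fun j => ?_) j
    · rw [Fin.snoc_last]
      exact t.2.2.1
    · rw [Fin.snoc_castSucc]
      exact t.1.2.2 j⟩
  left_inv s := by
    apply Subtype.ext
    exact Fin.snoc_init_self s.1
  right_inv t := by
    obtain ⟨⟨s, hs⟩, ⟨v, hv⟩⟩ := t
    have h1 : (fun j : Fin k => Fin.snoc (α := fun _ => V) s v j.castSucc) = s :=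
      funext fun j => Fin.snoc_castSucc (α := fun _ => V) v s j
    refine Sigma.ext (Subtype.ext h1) ?_
    apply (Subtype.heq_iff_coe_eq ?_).mpr
    · exact Fin.snoc_last (α := fun _ => V) v s
    · intro x
      simp only [Fin.snoc_castSucc]

theorem card_nested : ∀ (k : ℕ) (W : Fin k → Submodule K V) (_hW : Monotone W),
    Nat.card {s : Fin k → V // LinearIndependent K s ∧ ∀ j, s j ∈ W j}
      = ∏ j : Fin k, (Fintype.card K ^ finrank K (W j) - Fintype.card K ^ j.val) := by
  classical
  intro k
  induction k with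
  | zero =>
    intro W _
    have : Unique {s : Fin 0 → V // LinearIndependent K s ∧ ∀ j, s j ∈ W j} :=
      { default := ⟨fun j => j.elim0, linearIndependent_empty_type, fun j => j.elim0⟩
        uniq := fun s => Subtype.ext (funext fun j => j.elim0) }
    simp
  | succ k ih =>
    intro W hW
    have : Fintype {s : Fin k → V // LinearIndependent K s ∧ ∀ j, s j ∈ W j.castSucc} :=
      Fintype.ofFinite _
    rw [Nat.card_congr (snocEquiv k W), Nat.card_sigma]
    have hfib : ∀ s : {s : Fin k → V // LinearIndependent K s ∧ ∀ j, s j ∈ W j.castSucc},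
        Nat.card {v : V // v ∈ W (Fin.last k) ∧ v ∉ Submodule.span K (Set.range s.1)}
          = Fintype.card K ^ finrank K (W (Fin.last k)) - Fintype.card K ^ k := by
      intro s
      have hle : Submodule.span K (Set.range s.1) ≤ W (Fin.last k) := by
        rw [Submodule.span_le]
        rintro _ ⟨j, rfl⟩
        exact hW (Fin.le_last _) (s.2.2 j)
      rw [card_diff _ _ hle, finrank_span_eq_card s.2.1, Fintype.card_fin]
    rw [Finset.sum_congr rfl fun s _ => hfib s, Finset.sum_const, Finset.card_univ,
      ← Nat.card_eq_fintype_card, ih (fun j => W j.castSucc)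
        (fun i j hij => hW (Fin.castSucc_le_castSucc_iff.mpr hij)),
      Fin.prod_univ_castSucc, smul_eq_mul]
    rfl

end nested

end Cfsg.Agent.Lib.Helper5.FlagCount
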