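import Mathlib
import Cfsg.Agent.Lib.Helper4.PPDefs
import Cfsg.Agent.Lib.Helper4.SecMod
import Cfsg.Agent.Lib.Lead.CoprimeFrattini
import Cfsg.Agent.Lib.Lead.Frattini
import Cfsg.Agent.Lib.Helper1.PPGA

set_option autoImplicit false
set_option linter.unusedVariables false
set_option linter.unusedSectionVars false

/-! S3793 (Shult–Gross), package G-B: `[Q, τ]` centralises the normal `r`-subgroup `R`
(module theorem on `R/Φ(R)` + Burnside's coprime-action lemma on the Frattini quotient). -/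

namespace Cfsg.Agent.Lib.Helper5.PPGB

open Cfsg.Agent.Lib.Helper4.PP Cfsg.Agent.Lib.Helper4.SecMod Cfsg.Agent.Lib.Lead
open Cfsg.Agent.Lib.Helper1.PPGA

open scoped commutatorElement

universe u

section

variable {Γ : Type u} [Group Γ] [Finite Γ]

/-- the Frattini section of a normal `r`-subgroup, as a `Sec` normalised by everything. -/
theorem ppgb_sec (R : Subgroup Γ) [R.Normal] (r : ℕ) [Fact r.Prime] (hR : IsPGroup r R) :
    Sec R ((frattini ↥R).map R.subtype) (⊤ : Subgroup Γ) where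
  le := Subgroup.map_subtype_le _
  comm := by
    intro a ha b hb
    have h1 : ⁅(⟨a, ha⟩ : R), ⟨b, hb⟩⁆ ∈ frattini ↥R :=
      commutator_le_frattini_of_isPGroup hR
        (Subgroup.commutator_mem_commutator (Subgroup.mem_top _) (Subgroup.mem_top _))
    refine ⟨_, h1, ?_⟩
    simp [commutatorElement_def]
  normX := fun g _ a ha => ‹R.Normal›.conj_mem a ha g
  normU := by
    intro g _ a ha
    have h1 : g ∈ Subgroup.normalizer (((frattini ↥R).map R.subtype : Subgroup Γ) : Set Γ) := by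
      apply le_normalizer_map_characteristic R (frattini ↥R)
      rw [Subgroup.normalizer_eq_top]
      exact Subgroup.mem_top g
    exact (Subgroup.mem_normalizer_iff.1 h1 a).1 ha

end

section

variable {Γ : Type u} [Group Γ] [Finite Γ] {G : Subgroup Γ} {x : Γ} {p : ℕ}

/-- a nontrivial element of a `q`-subgroup of `G` forces `q ≠ p`. -/
theorem ppgb_prime_ne (h : PPS G x p) (Q : Subgroup Γ) (hQG : Q ≤ G) (q : ℕ) (hq : q.Prime)
    (hQ : IsPGroup q Q) (u : Γ) (hu : u ∈ Q) (hu1 : u ≠ 1) : q ≠ p := by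
  rintro rfl
  haveI : Fact q.Prime := ⟨hq⟩
  apply PPS.not_dvd h
  rcases hQ.card_eq_or_dvd with h1 | h1
  · exfalso
    apply hu1
    have h2 : Q = ⊥ := Subgroup.card_eq_one.1 h1
    rw [h2, Subgroup.mem_bot] at hu
    exact hu
  · exact h1.trans (Subgroup.card_dvd_of_le hQG)

/-- `[Q, τ]` centralises the normal `r`-subgroup `R` (module theorem on `R/Φ(R)` + Burnside). -/
theorem comm_centralizes (hMT : MTStatement.{u}) (h : PPS G x p) (n : ℕ)
    (hx : ∀ g ∈ G, x ^ (p ^ (n + 1)) * g = g * x ^ (p ^ (n + 1)))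
    (R : Subgroup Γ) [R.Normal] (hRG : R ≤ G) (r : ℕ) (hr : r.Prime) (hR : IsPGroup r R)
    (Q : Subgroup Γ) (hQG : Q ≤ G) (q : ℕ) (hq : q.Prime) (hqr : q ≠ r) (hQ : IsPGroup q Q)
    (hxQ : ∀ u ∈ Q, x * u * x⁻¹ ∈ Q) :
    ∀ u ∈ Q, ∀ v ∈ R, (u⁻¹ * x ^ (p ^ n) * u * (x ^ (p ^ n))⁻¹) * v =
      v * (u⁻¹ * x ^ (p ^ n) * u * (x ^ (p ^ n))⁻¹) := by
  intro u hu v hv
  by_cases hu1 : u = 1
  · subst hu1; simp
  by_cases hv1 : v = 1
  · subst hv1; simp
  haveI : Fact r.Prime := ⟨hr⟩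
  have hqp : q ≠ p := ppgb_prime_ne h Q hQG q hq hQ u hu hu1
  have hrp : r ≠ p := ppgb_prime_ne h R hRG r hr hR v hv hv1
  set Φ : Subgroup Γ := (frattini ↥R).map R.subtype with hΦ
  have hsec : Sec R Φ (⊤ : Subgroup Γ) := ppgb_sec R r hR
  have hΦR : Φ ≤ R := hsec.le
  -- exponent `r`
  have hexp : ∀ m : hsec.M, r • m = 0 := by
    apply hsec.nsmul_eq_zero
    intro a ha
    refine ⟨(⟨a, ha⟩ : R) ^ r, pow_mem_frattini_of_isPGroup hR _, ?_⟩
    simp
  -- the acting group and its elements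
  let x' : ↥(⊤ : Subgroup Γ) := ⟨x, Subgroup.mem_top x⟩
  let Q' : Subgroup ↥(⊤ : Subgroup Γ) := Q.comap (⊤ : Subgroup Γ).subtype
  have hx'pow : ∀ k : ℕ, x' ^ k = ⟨x ^ k, Subgroup.mem_top _⟩ := fun k => Subtype.ext (by simp [x'])
  have hx'p : ∃ N : ℕ, x' ^ (p ^ N) = 1 := by
    obtain ⟨N, hN⟩ := h.hxp
    exact ⟨N, by rw [hx'pow]; exact Subtype.ext hN⟩
  have hx'triv : ∀ m : hsec.M, x' ^ (p ^ (n + 1)) • m = m := by
    intro m
    obtain ⟨a, ha, rfl⟩ := hsec.cls_surj m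
    rw [hx'pow, hsec.smul_cls_eq_iff (Subgroup.mem_top _) ha, hx a (hRG ha)]
    have e : a * x ^ p ^ (n + 1) * (x ^ p ^ (n + 1))⁻¹ * a⁻¹ = 1 := by group
    rw [e]
    exact Φ.one_mem
  have hnormΦ : ∀ g : Γ, ∀ a ∈ Φ, g * a * g⁻¹ ∈ Φ := fun g a ha =>
    hsec.normU g (Subgroup.mem_top g) a ha
  have hx'fpf : ∀ m : hsec.M, x' • m = m → m = 0 := by
    intro m
    obtain ⟨a, ha, rfl⟩ := hsec.cls_surj m
    intro hm
    rw [hsec.smul_cls_eq_iff (Subgroup.mem_top _) ha] at hm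
    rw [hsec.cls_eq_zero]
    refine PPS.mem_of_comm_mem h R Φ hRG hΦR ?_ (fun k hk => ‹R.Normal›.conj_mem k hk x)
      (fun k hk => hnormΦ x k hk) a ha hm
    intro g _
    rw [Subgroup.mem_normalizer_iff]
    intro a
    constructor
    · exact hnormΦ g a
    · intro h1
      have h2 := hnormΦ g⁻¹ _ h1
      have e : g⁻¹ * (g * a * g⁻¹) * g⁻¹⁻¹ = a := by group
      rwa [e] at h2
  have hQ' : IsPGroup q Q' := hQ.comap_of_injective _ (Subgroup.subtype_injective _)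
  have hxQ' : ∀ w ∈ Q', x' * w * x'⁻¹ ∈ Q' := by
    intro w hw
    rw [Subgroup.mem_comap] at hw ⊢
    exact hxQ _ hw
  have hfpfQ' : ∀ w ∈ Q', x' * w = w * x' → w = 1 := by
    intro w hw hc
    rw [Subgroup.mem_comap] at hw
    apply Subtype.ext
    exact h.hfpf _ (hQG hw) (congrArg Subtype.val hc)
  have key := hMT (A := ↥(⊤ : Subgroup Γ)) (M := hsec.M) r p q n hr h.hp h.hp2 hq hqp hqr hrp.symm
    hexp x' hx'p hx'triv hx'fpf Q' hQ' hxQ' hfpfQ'
  -- the commutator acts trivially on the Frattini quotient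
  set c : Γ := u⁻¹ * x ^ (p ^ n) * u * (x ^ (p ^ n))⁻¹ with hc
  let u' : ↥(⊤ : Subgroup Γ) := ⟨u, Subgroup.mem_top u⟩
  have hu' : u' ∈ Q' := by rw [Subgroup.mem_comap]; exact hu
  let c' : ↥(⊤ : Subgroup Γ) := u'⁻¹ * x' ^ (p ^ n) * u' * (x' ^ (p ^ n))⁻¹
  have hc'val : (c' : Γ) = c := by simp [c', u', x', hc]
  have hc'fix : ∀ m : hsec.M, c' • m = m := by
    intro m
    have h1 := key u' hu' ((x' ^ (p ^ n))⁻¹ • m)
    rw [smul_inv_smul] at h1
    show (u'⁻¹ * x' ^ (p ^ n) * u' * (x' ^ (p ^ n))⁻¹) • m = m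
    rw [mul_smul, mul_smul, mul_smul, h1, inv_smul_smul]
  have hcQ : c ∈ Q := by
    have h1 : ∀ k : ℕ, ∀ w ∈ Q, x ^ k * w * (x ^ k)⁻¹ ∈ Q := by
      intro k
      induction k with
      | zero => intro w hw; simpa using hw
      | succ k ih =>
        intro w hw
        have h2 := hxQ _ (ih w hw)
        have e : x ^ (k + 1) * w * (x ^ (k + 1))⁻¹ = x * (x ^ k * w * (x ^ k)⁻¹) * x⁻¹ := by
          rw [pow_succ']; group
        rw [e]; exact h2
    have e : c = u⁻¹ * (x ^ (p ^ n) * u * (x ^ (p ^ n))⁻¹) := by rw [hc]; group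
    rw [e]
    exact Q.mul_mem (Q.inv_mem hu) (h1 _ u hu)
  have hcent : Subgroup.zpowers c ≤ Subgroup.centralizer (R : Set Γ) := by
    apply coprime_trivial_on_frattini_quotient (Subgroup.zpowers c) R
    · rw [Subgroup.normalizer_eq_top]; exact le_top
    · have h1 : IsPGroup q (Subgroup.zpowers c) := hQ.to_le (Subgroup.zpowers_le.2 hcQ)
      have h2 : IsPGroup r (frattini ↥R) := hR.to_subgroup _
      haveI : Fact q.Prime := ⟨hq⟩
      exact IsPGroup.coprime_card_of_ne q r hqr _ _ h1 h2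
    · intro a ha k hk
      obtain ⟨z, rfl⟩ := Subgroup.mem_zpowers_iff.1 ha
      have h1 : c' ^ z ∈ MulAction.stabilizer ↥(⊤ : Subgroup Γ) (hsec.cls k hk) :=
        Subgroup.zpow_mem _ (MulAction.mem_stabilizer_iff.2 (hc'fix _)) z
      have h2 := MulAction.mem_stabilizer_iff.1 h1
      have h3 : c' ^ z = ⟨c ^ z, Subgroup.mem_top _⟩ := Subtype.ext (by simp [hc'val])
      rw [h3, hsec.smul_cls_eq_iff (Subgroup.mem_top _) hk] at h2
      exact h2
  have h1 := hcent (Subgroup.mem_zpowers c)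
  exact (Subgroup.mem_centralizer_iff.1 h1 v hv).symm

end

end Cfsg.Agent.Lib.Helper5.PPGB
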