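import Cfsg.Agent.Lib.Helper1.Stem17

set_option autoImplicit false

/-! # Stem extensions: restriction to a subgroup of index prime to `p`

The restriction of a stem extension with a `p`-group as kernel to the preimage of a subgroup of
index prime to `p` is a stem extension of that subgroup with the same kernel (transfer), so a bound
for the kernels of the stem extensions of the subgroup is a bound for those of the group. -/

namespace Cfsg.Agent.Lib.Helper5.StemRes

open Cfsg.Agent.Lib.Helper1

universe u v

variable {Γ : Type u} {G : Type v} [Group Γ] [Group G] [Finite Γ] (σ : Γ →* G)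

/-- the restriction of a stem extension with a `p`-group as kernel to the preimage of a subgroup
of index prime to `p` is a stem extension -/
theorem isStem_subgroupComap (hσ : Cfsg.IsStemExtension σ) (p : ℕ) [hp : Fact p.Prime]
    (hk : IsPGroup p σ.ker) (H : Subgroup G) (hH : ¬ p ∣ H.index) :
    Cfsg.IsStemExtension (σ.subgroupComap H) := by
  refine ⟨MonoidHom.subgroupComap_surjective_of_surjective σ H hσ.1, ?_, ?_⟩
  · intro x hx
    rw [Subgroup.mem_center_iff]
    intro y
    apply Subtype.ext
    have hx' : (x : Γ) ∈ σ.ker := by
      rw [MonoidHom.mem_ker] at hx ⊢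
      exact congrArg Subtype.val hx
    exact Subgroup.mem_center_iff.mp (hσ.2.1 hx') y
  · intro x hx
    have hx' : (x : Γ) ∈ σ.ker := by
      rw [MonoidHom.mem_ker] at hx ⊢
      exact congrArg Subtype.val hx
    have h1 := Stem.ker_le_commutator_comap σ hσ p hk H hH hx'
    rw [← Subgroup.map_subtype_commutator] at h1
    obtain ⟨y, hy, hyx⟩ := h1
    have : y = x := Subtype.ext hyx
    rw [← this]
    exact hy

omit [Finite Γ] in
/-- the kernel of the restriction has the same order -/
theorem card_ker_subgroupComap (H : Subgroup G) :
    Nat.card (σ.subgroupComap H).ker = Nat.card σ.ker := by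
  apply Nat.card_congr
  exact
    { toFun := fun x => ⟨x.1.1, by
        have h2 := x.2
        rw [MonoidHom.mem_ker] at h2 ⊢
        exact congrArg Subtype.val h2⟩
      invFun := fun y => ⟨⟨y.1, by
          rw [Subgroup.mem_comap, MonoidHom.mem_ker.mp y.2]; exact H.one_mem⟩, by
        rw [MonoidHom.mem_ker]
        apply Subtype.ext
        exact MonoidHom.mem_ker.mp y.2⟩
      left_inv := fun x => rfl
      right_inv := fun y => rfl }

/-- the kernel of the restriction is a `p`-group -/
theorem isPGroup_ker_subgroupComap (p : ℕ) [hp : Fact p.Prime] (hk : IsPGroup p σ.ker)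
    (H : Subgroup G) : IsPGroup p (σ.subgroupComap H).ker := by
  obtain ⟨n, hn⟩ := IsPGroup.iff_card.mp hk
  apply IsPGroup.of_card (n := n)
  rw [card_ker_subgroupComap, hn]

/-- **a bound for the stem extensions of a subgroup of index prime to `p` is a bound for those of
the group** (for the kernels which are `p`-groups) -/
theorem card_ker_le_of_index_coprime (hσ : Cfsg.IsStemExtension σ) (p : ℕ) [hp : Fact p.Prime]
    (hk : IsPGroup p σ.ker) (H : Subgroup G) (hH : ¬ p ∣ H.index) (t : ℕ)
    (hT : ∀ (Γ' : Type u) [Group Γ'] [Finite Γ'] (σ' : Γ' →* ↥H),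
      Cfsg.IsStemExtension σ' → IsPGroup p σ'.ker → Nat.card σ'.ker ≤ t) :
    Nat.card σ.ker ≤ t := by
  rw [← card_ker_subgroupComap σ H]
  exact hT _ (σ.subgroupComap H) (isStem_subgroupComap σ hσ p hk H hH)
    (isPGroup_ker_subgroupComap σ p hk H)

end Cfsg.Agent.Lib.Helper5.StemRes
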