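import Mathlib
import Cfsg.Agent.Lib.Lead.Hx3Calc

/-!
# S2933 + S1237 swarm, package CW (`cw_bound`)

A finite group `T` with a central subgroup `V` of order four and exponent two which contains all
squares and all commutators, and in which `g ^ 2 = 1` forces `g ∈ V`, has order at most `64`.
Proof: five elements independent modulo `V` would give two quadratic polynomials in five variables
over `ZMod 2` with only the trivial common zero, against Chevalley–Warning.
-/

set_option autoImplicit false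
set_option linter.style.haveILetI false
set_option linter.unusedSimpArgs false

open scoped commutatorElement
open MvPolynomial

namespace Cfsg.Agent.Lib.Lead.Hx3

variable {T : Type*} [Group T]

/-- pure Chevalley–Warning over `ZMod 2`: two quadratic forms (with linear parts) in five
variables have a common nonzero root. -/
theorem cw_poly (s₁ s₂ : Fin 5 → ZMod 2) (c₁ c₂ : Fin 5 → Fin 5 → ZMod 2) :
    ∃ a : Fin 5 → ZMod 2, a ≠ 0 ∧
      (∑ i, s₁ i * a i + ∑ i, ∑ j, (if i < j then c₁ i j * a i * a j else 0)) = 0 ∧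
      (∑ i, s₂ i * a i + ∑ i, ∑ j, (if i < j then c₂ i j * a i * a j else 0)) = 0 := by
  classical
  let F : (Fin 5 → ZMod 2) → (Fin 5 → Fin 5 → ZMod 2) → MvPolynomial (Fin 5) (ZMod 2) :=
    fun s c => ∑ i, C (s i) * X i + ∑ i, ∑ j, (if i < j then C (c i j) * X i * X j else 0)
  have hdeg : ∀ s c, (F s c).totalDegree ≤ 2 := by
    intro s c
    refine (totalDegree_add _ _).trans (max_le ?_ ?_)
    · refine totalDegree_finsetSum_le (fun i _ => ?_)
      refine (totalDegree_mul _ _).trans ?_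
      rw [totalDegree_C, totalDegree_X]
      omega
    · refine totalDegree_finsetSum_le (fun i _ => ?_)
      refine totalDegree_finsetSum_le (fun j _ => ?_)
      split_ifs
      · refine (totalDegree_mul _ _).trans ?_
        have := totalDegree_mul (C (c i j)) (X i : MvPolynomial (Fin 5) (ZMod 2))
        rw [totalDegree_C, totalDegree_X] at this
        rw [totalDegree_X]
        omega
      · simp
  have heval : ∀ s c (a : Fin 5 → ZMod 2), eval a (F s c) =
      ∑ i, s i * a i + ∑ i, ∑ j, (if i < j then c i j * a i * a j else 0) := by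
    intro s c a
    simp only [F, map_add, map_sum, map_mul, eval_C, eval_X]
    congr 1
    refine Finset.sum_congr rfl (fun i _ => Finset.sum_congr rfl (fun j _ => ?_))
    split_ifs <;> simp
  have hlt : (F s₁ c₁).totalDegree + (F s₂ c₂).totalDegree < Fintype.card (Fin 5) := by
    have h1 := hdeg s₁ c₁
    have h2 := hdeg s₂ c₂
    simp only [Fintype.card_fin]
    omega
  have hdvd := char_dvd_card_solutions_of_add_lt (K := ZMod 2) 2 hlt
  -- the zero vector is a solution
  have h0 : eval (0 : Fin 5 → ZMod 2) (F s₁ c₁) = 0 ∧ eval (0 : Fin 5 → ZMod 2) (F s₂ c₂) = 0 := by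
    constructor <;> (rw [heval]; simp)
  by_contra hcon
  simp only [not_exists, not_and] at hcon
  have huniq : ∀ x : { x : Fin 5 → ZMod 2 // eval x (F s₁ c₁) = 0 ∧ eval x (F s₂ c₂) = 0 },
      x = ⟨0, h0⟩ := by
    rintro ⟨x, hx1, hx2⟩
    by_contra hne
    have hx0 : x ≠ 0 := fun h => hne (Subtype.ext h)
    rw [heval] at hx1 hx2
    exact hcon x hx0 hx1 hx2
  have hcard : Fintype.card { x : Fin 5 → ZMod 2 // eval x (F s₁ c₁) = 0 ∧ eval x (F s₂ c₂) = 0 } = 1 :=
    Fintype.card_eq_one_iff.mpr ⟨⟨0, h0⟩, huniq⟩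
  rw [hcard] at hdvd
  omega

/-- two additive characters separating the points of a central four-group of exponent two -/
theorem cw_chars [Finite T] (V : Subgroup T) (hVc : V ≤ Subgroup.center T) (hV4 : Nat.card V = 4)
    (hVsq : ∀ v ∈ V, v ^ 2 = 1) :
    ∃ χ₁ χ₂ : V → ZMod 2, (∀ v w : V, χ₁ (v * w) = χ₁ v + χ₁ w) ∧
      (∀ v w : V, χ₂ (v * w) = χ₂ v + χ₂ w) ∧ ∀ v : V, χ₁ v = 0 → χ₂ v = 0 → v = 1 := by
  classical
  letI : CommGroup V :=
    { (inferInstance : Group V) with
      mul_comm := fun a b => Subtype.ext (by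
        have := Subgroup.mem_center_iff.mp (hVc a.2) b.1
        simpa using this.symm) }
  have h2 : ∀ x : Additive V, 2 • x = 0 := by
    intro x
    have := hVsq x.toMul.1 x.toMul.2
    apply Additive.toMul.injective
    apply Subtype.ext
    simpa [pow_two, two_nsmul] using this
  letI : Module (ZMod 2) (Additive V) := AddCommGroup.zmodModule h2
  haveI : Finite (Additive V) := inferInstanceAs (Finite V)
  have hfr : Module.finrank (ZMod 2) (Additive V) = 2 := by
    have h := Module.natCard_eq_pow_finrank (K := ZMod 2) (V := Additive V)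
    have hc : Nat.card (Additive V) = 4 := hV4
    rw [hc, Nat.card_zmod] at h
    have : (2:ℕ) ^ 2 = 2 ^ Module.finrank (ZMod 2) (Additive V) := by simpa using h
    exact (Nat.pow_right_injective (le_refl 2) this).symm
  let b := Module.finBasisOfFinrankEq (ZMod 2) (Additive V) hfr
  refine ⟨fun v => b.coord 0 (Additive.ofMul v), fun v => b.coord 1 (Additive.ofMul v), ?_, ?_, ?_⟩
  · intro v w
    have : (Additive.ofMul (v * w) : Additive V) = Additive.ofMul v + Additive.ofMul w := rfl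
    simp only [this, map_add]
  · intro v w
    have : (Additive.ofMul (v * w) : Additive V) = Additive.ofMul v + Additive.ofMul w := rfl
    simp only [this, map_add]
  · intro v h0 h1
    have hz : (Additive.ofMul v : Additive V) = 0 := by
      apply b.ext_elem
      intro i
      fin_cases i
      · simpa using h0
      · simpa using h1
    exact Additive.ofMul.injective hz

/-- five elements independent modulo `V` when `T` is large -/
theorem cw_indep [Finite T] (V : Subgroup T) (hVc : V ≤ Subgroup.center T) (hV4 : Nat.card V = 4)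
    (hsq : ∀ g : T, g ^ 2 ∈ V) (hcomm : ∀ g k : T, ⁅g, k⁆ ∈ V) (hbig : 64 < Nat.card T) :
    ∃ g : Fin 5 → T, ∀ a : Fin 5 → ZMod 2,
      g 0 ^ (a 0).val * g 1 ^ (a 1).val * g 2 ^ (a 2).val * g 3 ^ (a 3).val * g 4 ^ (a 4).val ∈ V →
        a = 0 := by
  classical
  haveI : V.Normal := ⟨fun n hn g => by
    have := Subgroup.mem_center_iff.mp (hVc hn) g
    rw [this]; simpa using hn⟩
  letI : CommGroup (T ⧸ V) :=
    { (inferInstance : Group (T ⧸ V)) with
      mul_comm := fun a b => by
        induction a using QuotientGroup.induction_on with | _ a => ?_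
        induction b using QuotientGroup.induction_on with | _ b => ?_
        rw [← QuotientGroup.mk_mul, ← QuotientGroup.mk_mul, QuotientGroup.eq]
        have := hcomm b⁻¹ a⁻¹
        rw [commutatorElement_def] at this
        simpa [mul_assoc] using this }
  have h2 : ∀ x : Additive (T ⧸ V), 2 • x = 0 := by
    intro x
    induction x using Additive.rec with | _ x => ?_
    induction x using QuotientGroup.induction_on with | _ x => ?_
    apply Additive.toMul.injective
    show ((x : T ⧸ V)) ^ 2 = 1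
    rw [← QuotientGroup.mk_pow, QuotientGroup.eq_one_iff]
    exact hsq x
  letI : Module (ZMod 2) (Additive (T ⧸ V)) := AddCommGroup.zmodModule h2
  haveI : Finite (Additive (T ⧸ V)) := inferInstanceAs (Finite (T ⧸ V))
  have hfr : 5 ≤ Module.finrank (ZMod 2) (Additive (T ⧸ V)) := by
    have h := Module.natCard_eq_pow_finrank (K := ZMod 2) (V := Additive (T ⧸ V))
    have hc : Nat.card (Additive (T ⧸ V)) = Nat.card (T ⧸ V) := rfl
    have hidx : Nat.card (T ⧸ V) * Nat.card V = Nat.card T := by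
      rw [← Subgroup.index_eq_card, mul_comm]; exact Subgroup.card_mul_index V
    rw [hc, Nat.card_zmod] at h
    by_contra hlt
    have hle : Module.finrank (ZMod 2) (Additive (T ⧸ V)) ≤ 4 := by omega
    have : Nat.card (T ⧸ V) ≤ 2 ^ 4 := by
      rw [h]; exact Nat.pow_le_pow_right (by norm_num) hle
    rw [hV4] at hidx
    omega
  let b := Module.finBasis (ZMod 2) (Additive (T ⧸ V))
  let e : Fin 5 → Additive (T ⧸ V) := fun i => b (Fin.castLE hfr i)
  have hli : LinearIndependent (ZMod 2) e :=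
    b.linearIndependent.comp _ (Fin.castLE_injective hfr)
  refine ⟨fun i => (Additive.toMul (e i)).out, fun a ha => ?_⟩
  have hmk : ∀ i, ((Additive.toMul (e i)).out : T ⧸ V) = Additive.toMul (e i) := fun i =>
    QuotientGroup.out_eq' _
  have hsum : ∑ i, a i • e i = 0 := by
    rw [Fin.sum_univ_five]
    have h1 := (QuotientGroup.eq_one_iff _).mpr ha
    simp only [QuotientGroup.mk_mul, QuotientGroup.mk_pow, hmk] at h1
    apply Additive.toMul.injective
    rw [toMul_zero, ← h1]
    have hs : ∀ (c : ZMod 2) (x : Additive (T ⧸ V)), Additive.toMul (c • x) = Additive.toMul x ^ c.val := by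
      intro c x
      have : c • x = c.val • x := by
        conv_lhs => rw [← ZMod.natCast_zmod_val c]
        exact Nat.cast_smul_eq_nsmul (ZMod 2) c.val x
      rw [this]; rfl
    simp only [toMul_add, hs]
  have := Fintype.linearIndependent_iff.mp hli a hsum
  funext i; exact this i

/-- evaluation of an additive character on the square of a five-fold product -/
theorem cw_eval (V : Subgroup T) (hVc : V ≤ Subgroup.center T)
    (hsq : ∀ g : T, g ^ 2 ∈ V) (hcomm : ∀ g k : T, ⁅g, k⁆ ∈ V)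
    (χ : V → ZMod 2) (hχ : ∀ v w : V, χ (v * w) = χ v + χ w) (g : Fin 5 → T)
    (a : Fin 5 → ZMod 2) :
    χ ⟨(g 0 ^ (a 0).val * g 1 ^ (a 1).val * g 2 ^ (a 2).val * g 3 ^ (a 3).val *
        g 4 ^ (a 4).val) ^ 2, hsq _⟩ =
      ∑ i, χ ⟨g i ^ 2, hsq _⟩ * a i +
        ∑ i, ∑ j, (if i < j then χ ⟨⁅g j, g i⁆, hcomm _ _⟩ * a i * a j else 0) := by
  have hC2 : C2 T := fun x y => hVc (hcomm x y)
  set φ : T → ZMod 2 := fun x => χ ⟨x ^ 2, hsq x⟩ with hφ
  set β : T → T → ZMod 2 := fun x y => χ ⟨⁅x, y⁆, hcomm x y⟩ with hβ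
  have hχ1 : χ 1 = 0 := by
    have := hχ 1 1
    rw [mul_one] at this
    have h2 : χ 1 + χ 1 = χ 1 + 0 := by rw [add_zero]; exact this.symm
    exact add_left_cancel h2
  have ha : ∀ x y : T, φ (x * y) = φ x + φ y + β y x := by
    intro x y
    have : (⟨(x * y) ^ 2, hsq _⟩ : V) = ⟨x ^ 2, hsq x⟩ * ⟨y ^ 2, hsq y⟩ * ⟨⁅y, x⁆, hcomm y x⟩ :=
      Subtype.ext (C2.mul_sq hC2 x y)
    simp only [hφ, hβ, this, hχ]
  have hbl : ∀ x y z : T, β (x * y) z = β x z + β y z := by
    intro x y z
    have : (⟨⁅x * y, z⁆, hcomm _ _⟩ : V) = ⟨⁅x, z⁆, hcomm _ _⟩ * ⟨⁅y, z⁆, hcomm _ _⟩ :=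
      Subtype.ext (C2.comm_mul_left hC2 x y z)
    simp only [hβ, this, hχ]
  have hbr : ∀ x y z : T, β x (y * z) = β x y + β x z := by
    intro x y z
    have : (⟨⁅x, y * z⁆, hcomm _ _⟩ : V) = ⟨⁅x, y⁆, hcomm _ _⟩ * ⟨⁅x, z⁆, hcomm _ _⟩ :=
      Subtype.ext (C2.comm_mul_right hC2 x y z)
    simp only [hβ, this, hχ]
  have hφ1 : φ 1 = 0 := by
    have : (⟨(1 : T) ^ 2, hsq _⟩ : V) = 1 := Subtype.ext (by simp)
    simp only [hφ, this, hχ1]
  have hβ1l : ∀ z : T, β 1 z = 0 := by
    intro z
    have : (⟨⁅(1 : T), z⁆, hcomm _ _⟩ : V) = 1 := Subtype.ext (C2.comm_one_left z)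
    simp only [hβ, this, hχ1]
  have hβ1r : ∀ z : T, β z 1 = 0 := by
    intro z
    have : (⟨⁅z, (1 : T)⁆, hcomm _ _⟩ : V) = 1 := Subtype.ext (C2.comm_one_right z)
    simp only [hβ, this, hχ1]
  have h01 : ∀ c : ZMod 2, c = 0 ∨ c = 1 := by decide
  have hφp : ∀ (c : ZMod 2) (x : T), φ (x ^ c.val) = φ x * c := by
    intro c x
    rcases h01 c with rfl | rfl
    · simp [hφ1]
    · simp [ZMod.val_one]
  have hβp : ∀ (c d : ZMod 2) (x y : T), β (x ^ c.val) (y ^ d.val) = β x y * d * c := by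
    intro c d x y
    rcases h01 c with rfl | rfl <;> rcases h01 d with rfl | rfl <;>
      simp [hβ1l, hβ1r, ZMod.val_one]
  have key : φ (g 0 ^ (a 0).val * g 1 ^ (a 1).val * g 2 ^ (a 2).val * g 3 ^ (a 3).val *
        g 4 ^ (a 4).val) =
      ∑ i, φ (g i) * a i + ∑ i, ∑ j, (if i < j then β (g j) (g i) * a i * a j else 0) := by
    simp only [ha, hbr, hφp, hβp, Fin.sum_univ_five]
    simp only [Fin.isValue, lt_self_iff_false, if_false, add_zero, zero_add]
    simp (decide := true) only [if_true, if_false, add_zero, zero_add]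
    ring
  exact key

/-- CW: paper (CW). -/
theorem cw_bound [Finite T] (V : Subgroup T) (hVc : V ≤ Subgroup.center T) (hV4 : Nat.card V = 4)
    (hVsq : ∀ v ∈ V, v ^ 2 = 1) (hsq : ∀ g : T, g ^ 2 ∈ V) (hcomm : ∀ g k : T, ⁅g, k⁆ ∈ V)
    (hinv : ∀ g : T, g ^ 2 = 1 → g ∈ V) : Nat.card T ≤ 64 := by
  by_contra hbig
  rw [not_le] at hbig
  obtain ⟨χ₁, χ₂, h1, h2, hsep⟩ := cw_chars V hVc hV4 hVsq
  obtain ⟨g, hg⟩ := cw_indep V hVc hV4 hsq hcomm hbig
  obtain ⟨a, ha0, e1, e2⟩ := cw_poly (fun i => χ₁ ⟨g i ^ 2, hsq _⟩) (fun i => χ₂ ⟨g i ^ 2, hsq _⟩)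
    (fun i j => χ₁ ⟨⁅g j, g i⁆, hcomm _ _⟩) (fun i j => χ₂ ⟨⁅g j, g i⁆, hcomm _ _⟩)
  have E1 := cw_eval V hVc hsq hcomm χ₁ h1 g a
  have E2 := cw_eval V hVc hsq hcomm χ₂ h2 g a
  rw [e1] at E1
  rw [e2] at E2
  have h := hsep _ E1 E2
  have hP2 : (g 0 ^ (a 0).val * g 1 ^ (a 1).val * g 2 ^ (a 2).val * g 3 ^ (a 3).val *
      g 4 ^ (a 4).val) ^ 2 = 1 := congrArg Subtype.val h
  exact ha0 (hg a (hinv _ hP2))

end Cfsg.Agent.Lib.Lead.Hx3
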