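import Mathlib
import Cfsg.Agent.Lib.Helper5.OmegaAdjust

set_option autoImplicit false

namespace Cfsg.Agent.Lib.Helper5.InvSplit

open Cfsg.Agent.Lib.Helper2 Cfsg.Agent.Lib.Helper2.CDG Cfsg.Agent.Lib.Helper2.ReflGen Matrix
open Cfsg.Agent.Lib.Helper2.Dickson
open Cfsg.Agent.Lib.Helper5.OmegaCrit Cfsg.Agent.Lib.Helper5.MaxTS
open Cfsg.Agent.Lib.Helper5.OmegaAdjust Module

variable {F : Type*} [Field F] {ι : Type} [Fintype ι] [DecidableEq ι]
variable {Q : QuadraticForm F (ι → F)}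

/-- a reflection in a fixed vector commutes with the isometry -/
theorem refl_comm_of_fix (t : ↥(Cfsg.isometryGroup F ⇑Q)) (w : ι → F) (hw : Q w ≠ 0)
    (hwt : w ∈ Fix t) : t * refl Q w hw = refl Q w hw * t := by
  have h := Spinor.conj_refl t w hw
  have h1 : refl Q (((t : Matrix.GeneralLinearGroup ι F) : Matrix ι ι F) *ᵥ w)
      (by rw [iso_Q]; exact hw) = refl Q w hw := by
    congr 1
  rw [h1] at h
  exact mul_inv_eq_iff_eq_mul.1 h

/-- the image of `t - 1` is fixed by an involution (characteristic two) -/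
theorem range_le_Fix (h2 : (2 : F) = 0) (t : ↥(Cfsg.isometryGroup F ⇑Q)) (ht : t * t = 1) :
    LinearMap.range (Matrix.mulVecLin (((t : Matrix.GeneralLinearGroup ι F) : Matrix ι ι F) - 1))
      ≤ Fix t := by
  rintro y ⟨v, rfl⟩
  rw [mem_Fix, Matrix.mulVecLin_apply, Matrix.sub_mulVec, Matrix.one_mulVec, Matrix.mulVec_sub,
    ← mul_mulVec, ht, one_mulVec']
  rw [OrthTwo.vsub₂ h2, OrthTwo.vsub₂ h2, add_comm]

/-- `v + t v = (t - 1) v` in characteristic two -/
theorem add_eq_sub (h2 : (2 : F) = 0) (t : ↥(Cfsg.isometryGroup F ⇑Q)) (v : ι → F) :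
    v + ((t : Matrix.GeneralLinearGroup ι F) : Matrix ι ι F) *ᵥ v =
      (((t : Matrix.GeneralLinearGroup ι F) : Matrix ι ι F) - 1) *ᵥ v := by
  rw [Matrix.sub_mulVec, Matrix.one_mulVec, OrthTwo.vsub₂ h2, add_comm]

/-- dichotomy: either the involution fixes a nonsingular vector, or its fixed space is a
Lagrangian equal to the image of `t - 1` -/
theorem fix_dichotomy (h2 : (2 : F) = 0) (hQ : (QuadraticMap.polarBilin Q).Nondegenerate)
    (t : ↥(Cfsg.isometryGroup F ⇑Q)) (ht : t * t = 1) :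
    (∃ w ∈ Fix t, Q w ≠ 0) ∨
    (IsLag Q (Fix t) ∧ LinearMap.range
      (Matrix.mulVecLin (((t : Matrix.GeneralLinearGroup ι F) : Matrix ι ι F) - 1)) = Fix t) := by
  by_cases hex : ∃ w ∈ Fix t, Q w ≠ 0
  · exact Or.inl hex
  right
  push Not at hex
  have hts : IsTS Q (Fix t) := hex
  have hle : Fix t ≤ LinearMap.BilinForm.orthogonal (QuadraticMap.polarBilin Q) (Fix t) := by
    intro y hy u hu
    exact hts.polar hu hy
  have hfr := LinearMap.BilinForm.finrank_orthogonal hQ (Fix t)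
  rw [Module.finrank_fintype_fun_eq_card] at hfr
  have h1 := Submodule.finrank_mono hle
  have h3 := finrank_Fix_add_rank t
  have h4 := Submodule.finrank_mono (range_le_Fix h2 t ht)
  have h5 : finrank F ↥(LinearMap.range
      (Matrix.mulVecLin (((t : Matrix.GeneralLinearGroup ι F) : Matrix ι ι F) - 1))) =
      (((t : Matrix.GeneralLinearGroup ι F) : Matrix ι ι F) - 1).rank := rfl
  have hle' : finrank F ↥(Fix t) ≤ Fintype.card ι := by
    have := Submodule.finrank_le (Fix t)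
    rw [Module.finrank_fintype_fun_eq_card] at this
    exact this
  refine ⟨⟨hts, by omega⟩, ?_⟩
  apply Submodule.eq_of_le_of_finrank_eq (range_le_Fix h2 t ht)
  omega

variable [Fintype F]

/-- adjusting a conjugating element by a commuting reflection -/
theorem conj_adjust (h2 : (2 : F) = 0) (hQ : (QuadraticMap.polarBilin Q).Nondegenerate)
    (hex : Fintype.card F ≠ 2 ∨ Fintype.card ι ≠ 4) (hn : 2 ≤ Fintype.card ι)
    (t s g : ↥(Cfsg.isometryGroup F ⇑Q)) (hg : g * t * g⁻¹ = s)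
    (w : ι → F) (hw : Q w ≠ 0) (hwt : w ∈ Fix t) :
    ∃ g' ∈ commutator ↥(Cfsg.isometryGroup F ⇑Q), g' * t * g'⁻¹ = s := by
  by_cases hd : dfun g = 0
  · exact ⟨g, (mem_commutator_iff₂ h2 hQ hex hn g).2 hd, hg⟩
  · refine ⟨g * refl Q w hw, (mem_commutator_iff₂ h2 hQ hex hn _).2 ?_, ?_⟩
    · have hgen := OrthTwo.closure_R_eq_top₂ h2 hQ hex hn
      rw [dfun_mul hQ hgen, dfun_refl hQ]
      have hx : ∀ a : ZMod 2, a ≠ 0 → a + 1 = 0 := by decide
      exact hx _ hd
    · rw [← hg, _root_.mul_inv_rev, refl_inv]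
      have hc := refl_comm_of_fix t w hw hwt
      calc g * refl Q w hw * t * (refl Q w hw * g⁻¹)
          = g * (refl Q w hw * t * refl Q w hw) * g⁻¹ := by group
        _ = g * (t * (refl Q w hw * refl Q w hw)) * g⁻¹ := by rw [← hc]; group
        _ = g * t * g⁻¹ := by rw [refl_mul_self, mul_one]

/-- membership in `Ω` via a Lagrangian (characteristic two) -/
theorem mem_commutator_iff_lag (h2 : (2 : F) = 0) (hQ : (QuadraticMap.polarBilin Q).Nondegenerate)
    (hex : Fintype.card F ≠ 2 ∨ Fintype.card ι ≠ 4) (hn : 2 ≤ Fintype.card ι)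
    {E : Submodule F (ι → F)} (hE : IsLag Q E) (g : ↥(Cfsg.isometryGroup F ⇑Q)) :
    g ∈ commutator ↥(Cfsg.isometryGroup F ⇑Q) ↔
      Even (finrank F ↥E - finrank F ↥(E ⊓ act g E)) := by
  obtain ⟨vs, hvs, hgm⟩ := exists_list (closure_R_all hQ hex hn) g
  have h1 := even_sub_iff hQ hE vs hvs g hgm
  show _ ↔ Even (finrank F ↥E - finrank F ↥(E ⊓ E.map (Matrix.mulVecLin
      ((g : Matrix.GeneralLinearGroup ι F) : Matrix ι ι F))))
  rw [h1, mem_commutator_iff₂ h2 hQ hex hn, dfun_prod hQ vs hvs g hgm,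
    ZMod.natCast_eq_zero_iff_even]

/-- conjugation transports the image of `t - 1` -/
theorem act_range (t s g : ↥(Cfsg.isometryGroup F ⇑Q)) (hg : g * t * g⁻¹ = s) :
    act g (LinearMap.range
      (Matrix.mulVecLin (((t : Matrix.GeneralLinearGroup ι F) : Matrix ι ι F) - 1))) =
    LinearMap.range
      (Matrix.mulVecLin (((s : Matrix.GeneralLinearGroup ι F) : Matrix ι ι F) - 1)) := by
  have hgt : g * t = s * g := by rw [← hg]; group
  have key : ∀ v : ι → F, ((g : Matrix.GeneralLinearGroup ι F) : Matrix ι ι F) *ᵥ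
      ((((t : Matrix.GeneralLinearGroup ι F) : Matrix ι ι F) - 1) *ᵥ v) =
      (((s : Matrix.GeneralLinearGroup ι F) : Matrix ι ι F) - 1) *ᵥ
        (((g : Matrix.GeneralLinearGroup ι F) : Matrix ι ι F) *ᵥ v) := by
    intro v
    rw [Matrix.sub_mulVec, Matrix.sub_mulVec, Matrix.one_mulVec, Matrix.one_mulVec,
      Matrix.mulVec_sub, ← mul_mulVec, ← mul_mulVec, hgt]
  ext y
  rw [mem_act]
  constructor
  · rintro ⟨x, ⟨v, rfl⟩, rfl⟩
    exact ⟨((g : Matrix.GeneralLinearGroup ι F) : Matrix ι ι F) *ᵥ v, (key v).symm⟩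
  · rintro ⟨v, rfl⟩
    refine ⟨_, ⟨((g⁻¹ : ↥(Cfsg.isometryGroup F ⇑Q)) : Matrix.GeneralLinearGroup ι F).1 *ᵥ v, rfl⟩, ?_⟩
    rw [Matrix.mulVecLin_apply, key, ← mul_mulVec, mul_inv_cancel, one_mulVec']
    rfl

end Cfsg.Agent.Lib.Helper5.InvSplit
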