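import Mathlib
import Cfsg.Agent.Lib.Helper5.InvSplit

set_option autoImplicit false

namespace Cfsg.Agent.Lib.Helper5.InvSplit2

open Cfsg.Agent.Lib.Helper2 Cfsg.Agent.Lib.Helper2.CDG Cfsg.Agent.Lib.Helper2.ReflGen Matrix
open Cfsg.Agent.Lib.Helper2.Dickson
open Cfsg.Agent.Lib.Helper5.OmegaCrit Cfsg.Agent.Lib.Helper5.MaxTS
open Cfsg.Agent.Lib.Helper5.OmegaAdjust Cfsg.Agent.Lib.Helper5.InvSplit Module

variable {F : Type*} [Field F] [Fintype F] {ι : Type} [Fintype ι] [DecidableEq ι]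
variable {Q : QuadraticForm F (ι → F)}

/-- an involution which is not of Lagrangian type commutes with an element outside `Ω` -/
theorem exists_comm_not_mem (h2 : (2 : F) = 0) (hQ : (QuadraticMap.polarBilin Q).Nondegenerate)
    (hex : Fintype.card F ≠ 2 ∨ Fintype.card ι ≠ 4) (hn : 2 ≤ Fintype.card ι)
    (t : ↥(Cfsg.isometryGroup F ⇑Q)) (ht : t * t = 1)
    (hnot : ¬ (2 * (((t : Matrix.GeneralLinearGroup ι F) : Matrix ι ι F) - 1).rank = Fintype.card ι ∧
      ∀ v : ι → F, Q ((((t : Matrix.GeneralLinearGroup ι F) : Matrix ι ι F) - 1) *ᵥ v) = 0)) :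
    ∃ c : ↥(Cfsg.isometryGroup F ⇑Q), c * t = t * c ∧
      c ∉ commutator ↥(Cfsg.isometryGroup F ⇑Q) := by
  rcases fix_dichotomy h2 hQ t ht with ⟨w, hwt, hw⟩ | ⟨hlag, hrange⟩
  · refine ⟨refl Q w hw, (refl_comm_of_fix t w hw hwt).symm, ?_⟩
    rw [mem_commutator_iff₂ h2 hQ hex hn, dfun_refl hQ]
    exact one_ne_zero
  · exfalso
    apply hnot
    constructor
    · have h5 : finrank F ↥(LinearMap.range
          (Matrix.mulVecLin (((t : Matrix.GeneralLinearGroup ι F) : Matrix ι ι F) - 1))) =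
          (((t : Matrix.GeneralLinearGroup ι F) : Matrix ι ι F) - 1).rank := rfl
      rw [← h5, hrange]
      exact hlag.dim
    · intro v
      apply hlag.ts
      rw [← hrange]
      exact ⟨v, rfl⟩

/-- the centralizer of an involution of Lagrangian type lies in `Ω` -/
theorem comm_mem_of_lag (h2 : (2 : F) = 0) (hQ : (QuadraticMap.polarBilin Q).Nondegenerate)
    (hex : Fintype.card F ≠ 2 ∨ Fintype.card ι ≠ 4) (hn : 2 ≤ Fintype.card ι)
    (t : ↥(Cfsg.isometryGroup F ⇑Q))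
    (h : 2 * (((t : Matrix.GeneralLinearGroup ι F) : Matrix ι ι F) - 1).rank = Fintype.card ι ∧
      ∀ v : ι → F, Q ((((t : Matrix.GeneralLinearGroup ι F) : Matrix ι ι F) - 1) *ᵥ v) = 0)
    (c : ↥(Cfsg.isometryGroup F ⇑Q)) (hc : c * t = t * c) :
    c ∈ commutator ↥(Cfsg.isometryGroup F ⇑Q) := by
  have hE : IsLag Q (LinearMap.range
      (Matrix.mulVecLin (((t : Matrix.GeneralLinearGroup ι F) : Matrix ι ι F) - 1))) := by
    constructor
    · rintro _ ⟨v, rfl⟩
      exact h.2 v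
    · exact h.1
  have hact := act_range t t c (by rw [hc]; group)
  rw [mem_commutator_iff_lag h2 hQ hex hn hE c, hact, inf_idem, Nat.sub_self]
  exact Even.zero

/-- the index of `Ω` -/
theorem index_commutator (h2 : (2 : F) = 0) (hQ : (QuadraticMap.polarBilin Q).Nondegenerate)
    (hex : Fintype.card F ≠ 2 ∨ Fintype.card ι ≠ 4) (hn : 2 ≤ Fintype.card ι) :
    (commutator ↥(Cfsg.isometryGroup F ⇑Q)).index = 2 := by
  rw [Subgroup.index_eq_card]
  exact card_abelianization₂ h2 hQ hex hn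

end Cfsg.Agent.Lib.Helper5.InvSplit2
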