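import Mathlib
import Cfsg.Agent.Lib.Helper2.Witt3
import Cfsg.Agent.Lib.Helper5.OmegaAdjust

set_option autoImplicit false

namespace Cfsg.Agent.Lib.Helper5.InvConj

open Cfsg.Agent.Lib.Helper2 Cfsg.Agent.Lib.Helper2.CDG Matrix
open Cfsg.Agent.Lib.Helper5.OmegaAdjust Module

variable {F : Type*} [Field F] {ι : Type} [Fintype ι] [DecidableEq ι]
variable {Q : QuadraticForm F (ι → F)}

/-- in characteristic two, `Q (t v - v) = B (t v - v, v)` for an isometry `t` -/
theorem Q_sub_fix (h2 : (2 : F) = 0) (t : ↥(Cfsg.isometryGroup F ⇑Q)) (v : ι → F) :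
    Q (((t : Matrix.GeneralLinearGroup ι F) : Matrix ι ι F) *ᵥ v - v) =
      QuadraticMap.polar (⇑Q) (((t : Matrix.GeneralLinearGroup ι F) : Matrix ι ι F) *ᵥ v - v) v := by
  have h : QuadraticMap.polar (⇑Q) (((t : Matrix.GeneralLinearGroup ι F) : Matrix ι ι F) *ᵥ v - v) v
      = Q (((t : Matrix.GeneralLinearGroup ι F) : Matrix ι ι F) *ᵥ v - v + v)
        - Q (((t : Matrix.GeneralLinearGroup ι F) : Matrix ι ι F) *ᵥ v - v) - Q v := rfl
  rw [sub_add_cancel, iso_Q] at h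
  have h' : (2 : F) * Q (((t : Matrix.GeneralLinearGroup ι F) : Matrix ι ι F) *ᵥ v - v) = 0 := by
    rw [h2, zero_mul]
  rw [h]
  linear_combination h'

/-- an involution is self-adjoint for the polar form -/
theorem polar_invol (s : ↥(Cfsg.isometryGroup F ⇑Q)) (hss : s * s = 1) (x y : ι → F) :
    QuadraticMap.polar (⇑Q) (((s : Matrix.GeneralLinearGroup ι F) : Matrix ι ι F) *ᵥ x) y =
      QuadraticMap.polar (⇑Q) x (((s : Matrix.GeneralLinearGroup ι F) : Matrix ι ι F) *ᵥ y) := by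
  have h := iso_polar s x (((s : Matrix.GeneralLinearGroup ι F) : Matrix ι ι F) *ᵥ y)
  rw [← mul_mulVec, hss, one_mulVec'] at h
  exact h

/-- involutions of `O(Q)` (characteristic two) which are conjugate under an invertible matrix
preserving the polar form are conjugate in `O(Q)` -/
theorem conj_of_polar_conj (h2 : (2 : F) = 0) (hQ : (QuadraticMap.polarBilin Q).Nondegenerate)
    (t s : ↥(Cfsg.isometryGroup F ⇑Q)) (hss : s * s = 1)
    (g : Matrix.GeneralLinearGroup ι F)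
    (hg : ∀ u v, QuadraticMap.polar (⇑Q) ((g : Matrix ι ι F) *ᵥ u) ((g : Matrix ι ι F) *ᵥ v) =
      QuadraticMap.polar (⇑Q) u v)
    (hconj : g * (t : Matrix.GeneralLinearGroup ι F) * g⁻¹ = (s : Matrix.GeneralLinearGroup ι F)) :
    IsConj t s := by
  have hGT : ∀ v, (g : Matrix ι ι F) *ᵥ
      (((t : Matrix.GeneralLinearGroup ι F) : Matrix ι ι F) *ᵥ v) =
      ((s : Matrix.GeneralLinearGroup ι F) : Matrix ι ι F) *ᵥ ((g : Matrix ι ι F) *ᵥ v) := by
    intro v
    have h1 : g * (t : Matrix.GeneralLinearGroup ι F) = (s : Matrix.GeneralLinearGroup ι F) * g :=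
      mul_inv_eq_iff_eq_mul.1 hconj
    have h2' : (g : Matrix ι ι F) * ((t : Matrix.GeneralLinearGroup ι F) : Matrix ι ι F) =
        ((s : Matrix.GeneralLinearGroup ι F) : Matrix ι ι F) * (g : Matrix ι ι F) := by
      have := congrArg (fun x : Matrix.GeneralLinearGroup ι F => (x : Matrix ι ι F)) h1
      simpa using this
    rw [Matrix.mulVec_mulVec, Matrix.mulVec_mulVec, h2']
  have hGN : ∀ v, (g : Matrix ι ι F) *ᵥ
      (((t : Matrix.GeneralLinearGroup ι F) : Matrix ι ι F) *ᵥ v - v) =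
      ((s : Matrix.GeneralLinearGroup ι F) : Matrix ι ι F) *ᵥ ((g : Matrix ι ι F) *ᵥ v) -
        (g : Matrix ι ι F) *ᵥ v := by
    intro v
    rw [Matrix.mulVec_sub, hGT]
  have hinjG : ∀ x, (g : Matrix ι ι F) *ᵥ x = 0 → x = 0 := by
    intro x hx
    have := congrArg (fun y => ((g⁻¹ : Matrix.GeneralLinearGroup ι F) : Matrix ι ι F) *ᵥ y) hx
    simp only [Matrix.mulVec_mulVec, Matrix.mulVec_zero] at this
    rw [← Matrix.GeneralLinearGroup.coe_mul, inv_mul_cancel] at this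
    simpa using this
  have hsurjG : ∀ y, ∃ x, (g : Matrix ι ι F) *ᵥ x = y := by
    intro y
    refine ⟨((g⁻¹ : Matrix.GeneralLinearGroup ι F) : Matrix ι ι F) *ᵥ y, ?_⟩
    rw [Matrix.mulVec_mulVec, ← Matrix.GeneralLinearGroup.coe_mul, mul_inv_cancel]
    simp
  set X : Submodule F (ι → F) := LinearMap.range
    (Matrix.mulVecLin (((t : Matrix.GeneralLinearGroup ι F) : Matrix ι ι F) - 1)) with hX
  have hXmem : ∀ v, ((t : Matrix.GeneralLinearGroup ι F) : Matrix ι ι F) *ᵥ v - v ∈ X := by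
    intro v
    refine ⟨v, ?_⟩
    rw [Matrix.mulVecLin_apply, Matrix.sub_mulVec, Matrix.one_mulVec]
  obtain ⟨h, hh1, hh2⟩ := Witt.witt Q hQ X (Matrix.mulVecLin (g : Matrix ι ι F))
    (by
      rintro x ⟨v, rfl⟩
      rw [Matrix.mulVecLin_apply, Matrix.mulVecLin_apply, Matrix.sub_mulVec, Matrix.one_mulVec,
        hGN, Q_sub_fix h2 s, Q_sub_fix h2 t, ← hGN, hg])
    (fun x _ hx => hinjG x hx)
  obtain ⟨h₀, hh₀⟩ := exists_iso_of_linearEquiv h hh1
  have hHN : ∀ v, ((h₀ : Matrix.GeneralLinearGroup ι F) : Matrix ι ι F) *ᵥ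
      (((t : Matrix.GeneralLinearGroup ι F) : Matrix ι ι F) *ᵥ v - v) =
      ((s : Matrix.GeneralLinearGroup ι F) : Matrix ι ι F) *ᵥ ((g : Matrix ι ι F) *ᵥ v) -
        (g : Matrix ι ι F) *ᵥ v := by
    intro v
    rw [hh₀, hh2 _ (hXmem v), Matrix.mulVecLin_apply, hGN]
  -- the difference `h₀ w - g w` is fixed by `s`
  have hfix : ∀ w, ((s : Matrix.GeneralLinearGroup ι F) : Matrix ι ι F) *ᵥ
      (((h₀ : Matrix.GeneralLinearGroup ι F) : Matrix ι ι F) *ᵥ w - (g : Matrix ι ι F) *ᵥ w) =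
      ((h₀ : Matrix.GeneralLinearGroup ι F) : Matrix ι ι F) *ᵥ w - (g : Matrix ι ι F) *ᵥ w := by
    intro w
    rw [← sub_eq_zero]
    apply hQ.1
    intro y
    show QuadraticMap.polar (⇑Q) _ y = 0
    obtain ⟨v, rfl⟩ := hsurjG y
    rw [QuadraticMap.polar_sub_left, polar_invol s hss, ← QuadraticMap.polar_sub_right, ← hGN,
      QuadraticMap.polar_sub_left, hg]
    have h3 := hHN v
    rw [← hGN] at h3
    rw [← h3, iso_polar, sub_self]
  have hcomm : h₀ * t = s * h₀ := by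
    apply iso_ext
    intro w
    rw [mul_mulVec, mul_mulVec]
    have h3 := hHN w
    rw [Matrix.mulVec_sub] at h3
    have h4 := hfix w
    rw [Matrix.mulVec_sub] at h4
    have h5 : ((h₀ : Matrix.GeneralLinearGroup ι F) : Matrix ι ι F) *ᵥ
        (((t : Matrix.GeneralLinearGroup ι F) : Matrix ι ι F) *ᵥ w) =
        (((s : Matrix.GeneralLinearGroup ι F) : Matrix ι ι F) *ᵥ ((g : Matrix ι ι F) *ᵥ w) -
          (g : Matrix ι ι F) *ᵥ w) + ((h₀ : Matrix.GeneralLinearGroup ι F) : Matrix ι ι F) *ᵥ w := by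
      rw [← h3, sub_add_cancel]
    have h6 : ((s : Matrix.GeneralLinearGroup ι F) : Matrix ι ι F) *ᵥ
        (((h₀ : Matrix.GeneralLinearGroup ι F) : Matrix ι ι F) *ᵥ w) =
        ((h₀ : Matrix.GeneralLinearGroup ι F) : Matrix ι ι F) *ᵥ w - (g : Matrix ι ι F) *ᵥ w +
          ((s : Matrix.GeneralLinearGroup ι F) : Matrix ι ι F) *ᵥ ((g : Matrix ι ι F) *ᵥ w) := by
      rw [← h4, sub_add_cancel]
    rw [h5, h6]
    abel
  exact isConj_iff.2 ⟨h₀, by rw [hcomm, mul_inv_cancel_right]⟩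

/-- involutions of `O(Q)` in characteristic two are conjugate in `O(Q)` iff they are conjugate
under the group preserving the polar form -/
theorem conj_iff (h2 : (2 : F) = 0) (hQ : (QuadraticMap.polarBilin Q).Nondegenerate)
    (t s : ↥(Cfsg.isometryGroup F ⇑Q)) (hs : orderOf s = 2) :
    IsConj t s ↔ ∃ g ∈ Cfsg.preserving (Units.coeHom (Matrix ι ι F))
      (fun u v => Q (u + v) - Q u - Q v),
      g * (t : Matrix.GeneralLinearGroup ι F) * g⁻¹ = (s : Matrix.GeneralLinearGroup ι F) := by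
  constructor
  · intro h
    obtain ⟨c, hc⟩ := isConj_iff.1 h
    refine ⟨(c : Matrix.GeneralLinearGroup ι F), ?_, ?_⟩
    · intro u v
      show Q (((c : Matrix.GeneralLinearGroup ι F) : Matrix ι ι F) *ᵥ u +
          ((c : Matrix.GeneralLinearGroup ι F) : Matrix ι ι F) *ᵥ v) -
          Q (((c : Matrix.GeneralLinearGroup ι F) : Matrix ι ι F) *ᵥ u) -
          Q (((c : Matrix.GeneralLinearGroup ι F) : Matrix ι ι F) *ᵥ v) = Q (u + v) - Q u - Q v
      rw [← Matrix.mulVec_add, iso_Q, iso_Q, iso_Q]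
    · rw [← hc]
      rfl
  · rintro ⟨g, hg, hconj⟩
    have hss : s * s = 1 := by
      have h := pow_orderOf_eq_one s
      rw [hs, pow_two] at h
      exact h
    exact conj_of_polar_conj h2 hQ t s hss g (fun u v => hg u v) hconj

end Cfsg.Agent.Lib.Helper5.InvConj
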