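import Mathlib
import Cfsg.Agent.Lib.Helper5.AltForm

set_option autoImplicit false

/-!
Symmetric bilinear forms over perfect fields of characteristic two: a nondegenerate
non-alternating form has an orthonormal basis.
-/

namespace Cfsg.Agent.Lib.Helper5.Char2Form

open Module

universe u v

variable {F : Type u} [Field F] [CharP F 2]

theorem add_self_eq_zero' (a : F) : a + a = 0 := CharTwo.add_self_eq_zero a

section onb
variable {W : Type v} [AddCommGroup W] [Module F W]

/-- An orthonormal family is linearly independent. -/
theorem linearIndependent_of_orthonormal {ι : Type*} [DecidableEq ι] (B : LinearMap.BilinForm F W) (b : ι → W)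
    (hb : ∀ i j, B (b i) (b j) = if i = j then 1 else 0) : LinearIndependent F b := by
  classical
  rw [linearIndependent_iff']
  intro s c hc i hi
  have h1 := congrArg (fun w => B w (b i)) hc
  simp only [map_sum, map_smul, LinearMap.sum_apply, LinearMap.smul_apply, hb, smul_eq_mul,
    map_zero, LinearMap.zero_apply] at h1
  rw [Finset.sum_eq_single i] at h1
  · simpa using h1
  · intro j _ hji
    rw [if_neg hji, mul_zero]
  · intro h; exact absurd hi h

theorem exists_orthonormal_aux (hsq : ∀ a : F, ∃ b : F, b * b = a) (n : ℕ) :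
    ∀ (W : Type v) [AddCommGroup W] [Module F W] [FiniteDimensional F W]
      (B : LinearMap.BilinForm F W), finrank F W = n → (∀ x y, B x y = B y x) →
      (∀ x, (∀ y, B x y = 0) → x = 0) → (∃ x, B x x ≠ 0) →
      ∃ b : Fin n → W, ∀ i j, B (b i) (b j) = if i = j then 1 else 0 := by
  induction n with
  | zero =>
    intro W _ _ _ B hn _ _ hx
    exfalso
    obtain ⟨x, hx⟩ := hx
    have : x = 0 := by
      have := finrank_zero_iff.1 hn
      exact Subsingleton.elim _ _
    simp [this] at hx
  | succ n ih =>
    intro W _ _ _ B hn hsymm hnd hx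
    -- a vector of norm one
    obtain ⟨x₀, hx₀⟩ := hx
    obtain ⟨c, hc⟩ := hsq (B x₀ x₀)⁻¹
    have hx1 : ∃ x, B x x = 1 := by
      refine ⟨c • x₀, ?_⟩
      simp only [map_smul, LinearMap.smul_apply, smul_eq_mul]
      rw [← mul_assoc, hc, inv_mul_cancel₀ hx₀]
    -- the main step, for a norm-one vector whose complement is not alternating (or zero)
    have step : ∀ x, B x x = 1 → (n = 0 ∨ ∃ y, B x y = 0 ∧ B y y ≠ 0) →
        ∃ b : Fin (n + 1) → W, ∀ i j, B (b i) (b j) = if i = j then 1 else 0 := by
      intro x hx hcase
      obtain ⟨U, hU⟩ : ∃ U : Submodule F W, U = LinearMap.ker (B x) := ⟨_, rfl⟩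
      have hUmem : ∀ w, w ∈ U ↔ B x w = 0 := by
        intro w; rw [hU, LinearMap.mem_ker]
      have hUdim : finrank F U = n := by
        rw [hU]
        have h1 := LinearMap.finrank_range_add_finrank_ker (B x)
        have h2 : finrank F (LinearMap.range (B x)) = 1 := by
          have : LinearMap.range (B x) = ⊤ := by
            rw [LinearMap.range_eq_top]
            intro a
            exact ⟨a • x, by rw [map_smul, smul_eq_mul, hx, mul_one]⟩
          rw [this, finrank_top, finrank_self]
        rw [hn, h2] at h1
        omega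
      have hUnd : ∀ u : U, (∀ u' : U, B.restrict U u u' = 0) → u = 0 := by
        intro u hu
        apply Subtype.ext
        apply hnd
        intro w
        -- decompose w = (B x w) x + (w - (B x w) x)
        have hw : w - (B x w) • x ∈ U := by
          rw [hUmem, map_sub, map_smul, smul_eq_mul, hx, mul_one, sub_self]
        have h1 : B (u : W) (w - (B x w) • x) = 0 := hu ⟨_, hw⟩
        simp only [map_sub, map_smul, smul_eq_mul] at h1
        have h2 : B (u : W) x = 0 := by
          rw [hsymm]
          exact (hUmem _).1 u.2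
        rw [h2, mul_zero, sub_zero] at h1
        exact h1
      rcases hcase with h0 | ⟨y, hy1, hy2⟩
      · subst h0
        refine ⟨fun _ => x, fun i j => ?_⟩
        have hij : i = j := Fin.ext (by omega)
        rw [if_pos hij]
        exact hx
      · obtain ⟨b, hb⟩ := ih U (B.restrict U) hUdim (fun u u' => hsymm _ _) hUnd
          ⟨⟨y, (hUmem y).2 hy1⟩, hy2⟩
        refine ⟨Fin.cons x (fun i => (b i : W)), fun i j => ?_⟩
        have hbU : ∀ k, B x (b k : W) = 0 := by
          intro k
          exact (hUmem _).1 (b k).2
        refine Fin.cases ?_ (fun i' => ?_) i <;> refine Fin.cases ?_ (fun j' => ?_) j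
        · simp only [Fin.cons_zero, if_true]
          exact hx
        · simp only [Fin.cons_zero, Fin.cons_succ]
          rw [if_neg (Fin.succ_ne_zero j').symm]
          exact hbU j'
        · simp only [Fin.cons_zero, Fin.cons_succ]
          rw [if_neg (Fin.succ_ne_zero i'), hsymm]
          exact hbU i'
        · simp only [Fin.cons_succ]
          have : B (b i' : W) (b j' : W) = if i' = j' then 1 else 0 := hb i' j'
          rw [this]
          simp only [Fin.succ_inj]
    obtain ⟨x, hx⟩ := hx1
    by_cases hn0 : n = 0
    · exact step x hx (Or.inl hn0)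
    by_cases halt : ∃ y, B x y = 0 ∧ B y y ≠ 0
    · exact step x hx (Or.inr halt)
    · push Not at halt
      -- the complement is alternating: change x
      have hex : ∃ e, B x e = 0 ∧ e ≠ 0 := by
        have h1 := LinearMap.finrank_range_add_finrank_ker (B x)
        have h2 : finrank F (LinearMap.range (B x)) ≤ 1 := by
          have := Submodule.finrank_le (LinearMap.range (B x))
          rw [finrank_self] at this
          exact this
        have h3 : 0 < finrank F (LinearMap.ker (B x)) := by
          rw [hn] at h1
          omega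
        obtain ⟨e, he⟩ := (Submodule.ne_bot_iff _).1 (Submodule.one_le_finrank_iff.1 h3)
        exact ⟨e, he.1, he.2⟩
      obtain ⟨e, he1, he0⟩ := hex
      have hee : B e e = 0 := halt e he1
      -- a partner f in the complement with B e f = 1
      have hexf : ∃ f, B x f = 0 ∧ B e f = 1 := by
        by_contra hcon
        push Not at hcon
        apply he0
        apply hnd
        intro w
        have hw : B x (w - (B x w) • x) = 0 := by
          rw [map_sub, map_smul, smul_eq_mul, hx, mul_one, sub_self]
        by_contra hne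
        have hne' : B e (w - (B x w) • x) ≠ 0 := by
          rw [map_sub, map_smul, smul_eq_mul]
          have : B e x = 0 := by rw [hsymm]; exact he1
          rw [this, mul_zero, sub_zero]
          exact hne
        apply hcon ((B e (w - (B x w) • x))⁻¹ • (w - (B x w) • x))
        · rw [map_smul, smul_eq_mul, hw, mul_zero]
        · rw [map_smul, smul_eq_mul, inv_mul_cancel₀ hne']
      obtain ⟨f, hf1, hf2⟩ := hexf
      have hff : B f f = 0 := halt f hf1
      have hex' : B e x = 0 := by rw [hsymm]; exact he1
      have hfx : B f x = 0 := by rw [hsymm]; exact hf1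
      have hfe : B f e = 1 := by rw [hsymm]; exact hf2
      apply step (x + e)
      · simp only [map_add, LinearMap.add_apply]
        rw [hx, he1, hex', hee]
        ring
      · right
        refine ⟨x + f, ?_, ?_⟩
        · simp only [map_add, LinearMap.add_apply]
          rw [hx, hf1, hex', hf2]
          have := add_self_eq_zero' (1 : F)
          linear_combination this
        · simp only [map_add, LinearMap.add_apply]
          rw [hx, hf1, hfx, hff]
          simp

/-- A nondegenerate symmetric non-alternating form over a perfect field of characteristic two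
has an orthonormal basis. -/
theorem exists_orthonormal_basis [FiniteDimensional F W] (hsq : ∀ a : F, ∃ b : F, b * b = a)
    (B : LinearMap.BilinForm F W) (hsymm : ∀ x y, B x y = B y x)
    (hnd : ∀ x, (∀ y, B x y = 0) → x = 0) (hna : ∃ x, B x x ≠ 0) :
    ∃ b : Basis (Fin (finrank F W)) F W, ∀ i j, B (b i) (b j) = if i = j then 1 else 0 := by
  obtain ⟨b, hb⟩ := exists_orthonormal_aux hsq (finrank F W) W B rfl hsymm hnd hna
  have hli := linearIndependent_of_orthonormal B b hb
  have hspan : ⊤ ≤ Submodule.span F (Set.range b) := by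
    rw [hli.span_eq_top_of_card_eq_finrank' (by rw [Fintype.card_fin])]
  refine ⟨Basis.mk hli hspan, ?_⟩
  intro i j
  rw [Basis.coe_mk]
  exact hb i j

end onb

section isometry
variable {W : Type v} [AddCommGroup W] [Module F W] [FiniteDimensional F W]
variable {W' : Type v} [AddCommGroup W'] [Module F W'] [FiniteDimensional F W']

/-- Two bases with the same Gram matrix give an isometry. -/
theorem isometry_of_bases {ι : Type*} (B : LinearMap.BilinForm F W) (B' : LinearMap.BilinForm F W')
    (b : Basis ι F W) (b' : Basis ι F W') (h : ∀ i j, B' (b' i) (b' j) = B (b i) (b j)) :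
    ∃ L : W ≃ₗ[F] W', ∀ x y, B' (L x) (L y) = B x y := by
  refine ⟨b.equiv b' (Equiv.refl ι), ?_⟩
  have h1 : B'.comp (b.equiv b' (Equiv.refl ι) : W →ₗ[F] W') (b.equiv b' (Equiv.refl ι) : W →ₗ[F] W')
      = B := by
    apply LinearMap.BilinForm.ext_basis b
    intro i j
    rw [LinearMap.BilinForm.comp_apply]
    simp only [LinearEquiv.coe_coe, Basis.equiv_apply, Equiv.refl_apply]
    exact h i j
  intro x y
  have := congrArg (fun C : LinearMap.BilinForm F W => C x y) h1
  simpa [LinearMap.BilinForm.comp_apply] using this

/-- Nondegenerate symmetric forms of the same dimension and the same type are isometric. -/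
theorem exists_isometry_nondeg (hsq : ∀ a : F, ∃ b : F, b * b = a)
    (B : LinearMap.BilinForm F W) (B' : LinearMap.BilinForm F W')
    (hsymm : ∀ x y, B x y = B y x) (hsymm' : ∀ x y, B' x y = B' y x)
    (hnd : ∀ x, (∀ y, B x y = 0) → x = 0) (hnd' : ∀ x, (∀ y, B' x y = 0) → x = 0)
    (hdim : finrank F W = finrank F W') (halt : (∀ x, B x x = 0) ↔ (∀ x, B' x x = 0)) :
    ∃ L : W ≃ₗ[F] W', ∀ x y, B' (L x) (L y) = B x y := by
  by_cases ha : ∀ x, B x x = 0
  · have ha' := halt.1 ha
    obtain ⟨m, b, hm, hb⟩ := Cfsg.Agent.Lib.Helper5.AltForm.exists_symplectic_basis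
      (B := B) ha hnd
    obtain ⟨m', b', hm', hb'⟩ := Cfsg.Agent.Lib.Helper5.AltForm.exists_symplectic_basis
      (B := B') ha' hnd'
    obtain rfl : m = m' := by omega
    exact isometry_of_bases B B' b b' (fun i j => by rw [hb, hb'])
  · have ha' : ¬ ∀ x, B' x x = 0 := fun h => ha (halt.2 h)
    push Not at ha ha'
    obtain ⟨b, hb⟩ := exists_orthonormal_basis hsq B hsymm hnd ha
    obtain ⟨b', hb'⟩ := exists_orthonormal_basis hsq B' hsymm' hnd' ha'
    refine isometry_of_bases B B' b (b'.reindex (finCongr hdim.symm)) (fun i j => ?_)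
    rw [hb, Basis.reindex_apply, Basis.reindex_apply, hb']
    simp

/-- The radical of a symmetric form. -/
def rad (B : LinearMap.BilinForm F W) : Submodule F W := LinearMap.ker B

omit [CharP F 2] [FiniteDimensional F W] in
theorem mem_rad (B : LinearMap.BilinForm F W) (x : W) : x ∈ rad B ↔ ∀ y, B x y = 0 := by
  unfold rad
  rw [LinearMap.mem_ker]
  constructor
  · intro h y; rw [h, LinearMap.zero_apply]
  · intro h; ext y; rw [h y, LinearMap.zero_apply]

/-- Symmetric forms of the same dimension, the same rank and the same type are isometric. -/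
theorem exists_isometry (hsq : ∀ a : F, ∃ b : F, b * b = a)
    (B : LinearMap.BilinForm F W) (B' : LinearMap.BilinForm F W')
    (hsymm : ∀ x y, B x y = B y x) (hsymm' : ∀ x y, B' x y = B' y x)
    (hdim : finrank F W = finrank F W') (hrad : finrank F (rad B) = finrank F (rad B'))
    (halt : (∀ x, B x x = 0) ↔ (∀ x, B' x x = 0)) :
    ∃ L : W ≃ₗ[F] W', ∀ x y, B' (L x) (L y) = B x y := by
  obtain ⟨C, hC⟩ := Submodule.exists_isCompl (rad B)
  obtain ⟨C', hC'⟩ := Submodule.exists_isCompl (rad B')
  have hd : finrank F (rad B) + finrank F C = finrank F W :=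
    Submodule.finrank_add_eq_of_isCompl hC
  have hd' : finrank F (rad B') + finrank F C' = finrank F W' :=
    Submodule.finrank_add_eq_of_isCompl hC'
  -- decomposition of values
  have hval : ∀ (r r₁ : rad B) (c c₁ : C), B ((r : W) + c) ((r₁ : W) + c₁) = B (c : W) (c₁ : W) := by
    intro r r₁ c c₁
    have h1 := (mem_rad B _).1 r.2
    have h2 := (mem_rad B _).1 r₁.2
    simp only [map_add, LinearMap.add_apply]
    rw [h1, h1, hsymm (c : W) (r₁ : W), h2]
    ring
  have hval' : ∀ (r r₁ : rad B') (c c₁ : C'),
      B' ((r : W') + c) ((r₁ : W') + c₁) = B' (c : W') (c₁ : W') := by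
    intro r r₁ c c₁
    have h1 := (mem_rad B' _).1 r.2
    have h2 := (mem_rad B' _).1 r₁.2
    simp only [map_add, LinearMap.add_apply]
    rw [h1, h1, hsymm' (c : W') (r₁ : W'), h2]
    ring
  have hndC : ∀ c : C, (∀ c₁ : C, B.restrict C c c₁ = 0) → c = 0 := by
    intro c hc
    have hmem : (c : W) ∈ rad B := by
      rw [mem_rad]
      intro y
      have := (Submodule.prodEquivOfIsCompl _ _ hC).apply_symm_apply y
      rw [Submodule.coe_prodEquivOfIsCompl'] at this
      rw [← this]
      have h3 := hval 0 ((Submodule.prodEquivOfIsCompl _ _ hC).symm y).1 c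
        ((Submodule.prodEquivOfIsCompl _ _ hC).symm y).2
      rw [Submodule.coe_zero, zero_add] at h3
      rw [h3]
      exact hc _
    have : (c : W) ∈ rad B ⊓ C := ⟨hmem, c.2⟩
    rw [hC.inf_eq_bot, Submodule.mem_bot] at this
    exact Subtype.ext this
  have hndC' : ∀ c : C', (∀ c₁ : C', B'.restrict C' c c₁ = 0) → c = 0 := by
    intro c hc
    have hmem : (c : W') ∈ rad B' := by
      rw [mem_rad]
      intro y
      have := (Submodule.prodEquivOfIsCompl _ _ hC').apply_symm_apply y
      rw [Submodule.coe_prodEquivOfIsCompl'] at this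
      rw [← this]
      have h3 := hval' 0 ((Submodule.prodEquivOfIsCompl _ _ hC').symm y).1 c
        ((Submodule.prodEquivOfIsCompl _ _ hC').symm y).2
      rw [Submodule.coe_zero, zero_add] at h3
      rw [h3]
      exact hc _
    have : (c : W') ∈ rad B' ⊓ C' := ⟨hmem, c.2⟩
    rw [hC'.inf_eq_bot, Submodule.mem_bot] at this
    exact Subtype.ext this
  have haltC : (∀ c : C, B.restrict C c c = 0) ↔ (∀ c : C', B'.restrict C' c c = 0) := by
    constructor
    · intro h c
      apply halt.1 _ (c : W')
      intro x
      have := (Submodule.prodEquivOfIsCompl _ _ hC).apply_symm_apply x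
      rw [Submodule.coe_prodEquivOfIsCompl'] at this
      rw [← this, hval]
      exact h _
    · intro h c
      apply halt.2 _ (c : W)
      intro x
      have := (Submodule.prodEquivOfIsCompl _ _ hC').apply_symm_apply x
      rw [Submodule.coe_prodEquivOfIsCompl'] at this
      rw [← this, hval']
      exact h _
  obtain ⟨LC, hLC⟩ := exists_isometry_nondeg hsq (B.restrict C) (B'.restrict C')
    (fun x y => hsymm _ _) (fun x y => hsymm' _ _) hndC hndC' (by omega) haltC
  set Lr : rad B ≃ₗ[F] rad B' := LinearEquiv.ofFinrankEq _ _ hrad with hLr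
  refine ⟨(Submodule.prodEquivOfIsCompl _ _ hC).symm ≪≫ₗ (Lr.prodCongr LC) ≪≫ₗ
    (Submodule.prodEquivOfIsCompl _ _ hC'), ?_⟩
  intro x y
  have hx := (Submodule.prodEquivOfIsCompl _ _ hC).apply_symm_apply x
  have hy := (Submodule.prodEquivOfIsCompl _ _ hC).apply_symm_apply y
  rw [Submodule.coe_prodEquivOfIsCompl'] at hx hy
  conv_rhs => rw [← hx, ← hy, hval]
  simp only [LinearEquiv.trans_apply, Submodule.coe_prodEquivOfIsCompl', LinearEquiv.prodCongr_apply]
  rw [hval']
  exact hLC _ _

end isometry

end Cfsg.Agent.Lib.Helper5.Char2Form
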