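import Mathlib
import Cfsg.Agent.Lib.Helper5.Char2Form
import Cfsg.Agent.Lib.Helper2.SpIsom
import Cfsg.Agent.Lib.Helper1.SpCard
import Cfsg.Agent.S0749

set_option autoImplicit false

/-!
Involutions of the symplectic group in characteristic two: every involution is conjugate to a
block unipotent matrix `[[1, S], [0, 1]]` with `S` symmetric.
-/

namespace Cfsg.Agent.Lib.Helper5.SpInv2

open Matrix Module Cfsg.Agent.Lib.Helper2.Symp Cfsg.Agent.Lib.Helper1.SpBasic
  Cfsg.Agent.Lib.Helper2.SpIsom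

variable {F : Type*} [Field F] {m : ℕ}

/-- The block unipotent matrix `[[1, S], [0, 1]]`. -/
def uMat (S : Matrix (Fin m) (Fin m) F) : Matrix (Fin m ⊕ Fin m) (Fin m ⊕ Fin m) F :=
  Matrix.fromBlocks 1 S 0 1

theorem uMat_mem_iff (S : Matrix (Fin m) (Fin m) F) :
    uMat S ∈ Matrix.symplecticGroup (Fin m) F ↔ Sᵀ = S := by
  rw [SymplecticGroup.mem_iff]
  unfold uMat Matrix.J
  rw [Matrix.fromBlocks_transpose, Matrix.fromBlocks_multiply, Matrix.fromBlocks_multiply]
  simp only [Matrix.one_mul, Matrix.mul_one, Matrix.zero_mul, Matrix.mul_zero, add_zero, zero_add,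
    Matrix.transpose_one, Matrix.transpose_zero, Matrix.mul_neg, neg_zero, Matrix.neg_mul]
  constructor
  · intro h
    have h1 := congrArg Matrix.toBlocks₁₁ h
    simp only [Matrix.toBlocks_fromBlocks₁₁] at h1
    have h2 : S - Sᵀ = 0 := by
      rw [← h1]; abel
    exact (sub_eq_zero.1 h2).symm
  · intro h
    rw [h]
    congr 1
    abel

/-- The block unipotent element of the symplectic group. -/
def uS (S : Matrix (Fin m) (Fin m) F) (hS : Sᵀ = S) : Matrix.symplecticGroup (Fin m) F :=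
  ⟨uMat S, (uMat_mem_iff S).2 hS⟩

/-- The block diagonal matrix `diag(P, Qᵀ)`. -/
def dMat (P Q : Matrix (Fin m) (Fin m) F) : Matrix (Fin m ⊕ Fin m) (Fin m ⊕ Fin m) F :=
  Matrix.fromBlocks P 0 0 Qᵀ

theorem dMat_mem (P Q : Matrix (Fin m) (Fin m) F) (h : P * Q = 1) :
    dMat P Q ∈ Matrix.symplecticGroup (Fin m) F := by
  have h' : Q * P = 1 := _root_.mul_eq_one_comm.1 h
  rw [SymplecticGroup.mem_iff]
  unfold dMat Matrix.J
  rw [Matrix.fromBlocks_transpose, Matrix.fromBlocks_multiply, Matrix.fromBlocks_multiply]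
  simp only [Matrix.one_mul, Matrix.mul_one, Matrix.zero_mul, Matrix.mul_zero, add_zero, zero_add,
    Matrix.transpose_zero, Matrix.mul_neg, neg_zero, Matrix.transpose_transpose, Matrix.neg_mul]
  rw [h, ← Matrix.transpose_mul, h, Matrix.transpose_one]

/-- The block diagonal element of the symplectic group. -/
def dS (P Q : Matrix (Fin m) (Fin m) F) (h : P * Q = 1) : Matrix.symplecticGroup (Fin m) F :=
  ⟨dMat P Q, dMat_mem P Q h⟩

theorem dS_conj (P Q : Matrix (Fin m) (Fin m) F) (h : P * Q = 1) (S : Matrix (Fin m) (Fin m) F)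
    (hS : Sᵀ = S) (hS' : (P * S * Pᵀ)ᵀ = P * S * Pᵀ) :
    dS P Q h * uS S hS * (dS P Q h)⁻¹ = uS (P * S * Pᵀ) hS' := by
  have h' : Q * P = 1 := _root_.mul_eq_one_comm.1 h
  rw [mul_inv_eq_iff_eq_mul]
  apply Subtype.ext
  show dMat P Q * uMat S = uMat (P * S * Pᵀ) * dMat P Q
  unfold dMat uMat
  rw [Matrix.fromBlocks_multiply, Matrix.fromBlocks_multiply]
  simp only [Matrix.one_mul, Matrix.mul_one, Matrix.zero_mul, Matrix.mul_zero, add_zero, zero_add]
  congr 1
  rw [Matrix.mul_assoc, ← Matrix.transpose_mul, h', Matrix.transpose_one, Matrix.mul_one]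

section half

/-- The embedding of the first half of the coordinates. -/
def inlLin (m : ℕ) (F : Type*) [Field F] : (Fin m → F) →ₗ[F] (Fin m ⊕ Fin m → F) where
  toFun x := Sum.elim x 0
  map_add' x y := by funext i; rcases i with i | i <;> simp
  map_smul' c x := by funext i; rcases i with i | i <;> simp

theorem inlLin_apply (x : Fin m → F) : inlLin m F x = Sum.elim x 0 := rfl

theorem inlLin_injective : Function.Injective (inlLin m F) := by
  intro x y h
  funext i
  exact congrFun h (Sum.inl i)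

theorem form_elim_zero (v : Fin m ⊕ Fin m → F) (a : Fin m → F) :
    Cfsg.sympForm m F v (Sum.elim a 0) = (fun i => v (Sum.inr i)) ⬝ᵥ a := by
  unfold Cfsg.sympForm
  rw [dotProduct, Fintype.sum_sum_type]
  simp only [J_mulVec_apply_inl, J_mulVec_apply_inr, Sum.elim_inl, Sum.elim_inr, Pi.zero_apply,
    neg_zero, mul_zero, Finset.sum_const_zero, zero_add]
  rfl

theorem form_inl_inl (a b : Fin m → F) :
    Cfsg.sympForm m F (Sum.elim a 0) (Sum.elim b 0) = 0 := by
  rw [form_elim_zero]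
  simp [dotProduct]

/-- A vector in the first half. -/
theorem eq_elim_of_inr_zero (v : Fin m ⊕ Fin m → F) (hv : ∀ i, v (Sum.inr i) = 0) :
    v = Sum.elim (fun i => v (Sum.inl i)) 0 := by
  funext i
  rcases i with i | i
  · rfl
  · exact hv i

end half

section inv
variable [CharP F 2]

theorem neg_eq_self (a : F) : -a = a := by
  have := CharTwo.add_self_eq_zero a
  exact neg_eq_of_add_eq_zero_left this

/-- `t - 1` for a symplectic element. -/
def nil (t : Matrix.symplecticGroup (Fin m) F) : Matrix (Fin m ⊕ Fin m) (Fin m ⊕ Fin m) F :=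
  (t : Matrix (Fin m ⊕ Fin m) (Fin m ⊕ Fin m) F) - 1

omit [CharP F 2] in
theorem coe_mulVec_eq (t : Matrix.symplecticGroup (Fin m) F) (x : Fin m ⊕ Fin m → F) :
    (t : Matrix (Fin m ⊕ Fin m) (Fin m ⊕ Fin m) F) *ᵥ x = x + nil t *ᵥ x := by
  unfold nil
  rw [Matrix.sub_mulVec, Matrix.one_mulVec]
  abel

theorem nil_nil (t : Matrix.symplecticGroup (Fin m) F) (ht : t * t = 1) (x : Fin m ⊕ Fin m → F) :
    nil t *ᵥ (nil t *ᵥ x) = 0 := by
  have h1 := coe_mul_mulVec t t x
  rw [ht, coe_one_mulVec, coe_mulVec_eq t x, coe_mulVec_eq t (x + nil t *ᵥ x),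
    Matrix.mulVec_add] at h1
  have h2 : nil t *ᵥ x + nil t *ᵥ x = 0 := by
    funext i
    exact CharTwo.add_self_eq_zero _
  have h3 : x + (nil t *ᵥ x + nil t *ᵥ x) + nil t *ᵥ (nil t *ᵥ x) = x := by
    calc x + (nil t *ᵥ x + nil t *ᵥ x) + nil t *ᵥ (nil t *ᵥ x)
        = x + nil t *ᵥ x + (nil t *ᵥ x + nil t *ᵥ (nil t *ᵥ x)) := by abel
      _ = x := h1.symm
  rw [h2, add_zero] at h3
  exact (add_eq_left.1 h3)

theorem nil_form (t : Matrix.symplecticGroup (Fin m) F) (x y : Fin m ⊕ Fin m → F) :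
    Cfsg.sympForm m F (nil t *ᵥ x) y + Cfsg.sympForm m F x (nil t *ᵥ y) +
      Cfsg.sympForm m F (nil t *ᵥ x) (nil t *ᵥ y) = 0 := by
  have h1 := form_mulVec t x y
  rw [coe_mulVec_eq, coe_mulVec_eq, sympForm_add_left, sympForm_add_right, sympForm_add_right] at h1
  linear_combination h1

theorem nil_iso (t : Matrix.symplecticGroup (Fin m) F) (ht : t * t = 1)
    (x y : Fin m ⊕ Fin m → F) : Cfsg.sympForm m F (nil t *ᵥ x) (nil t *ᵥ y) = 0 := by
  have h1 := nil_form t x (nil t *ᵥ y)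
  rw [nil_nil t ht y] at h1
  have h0 : ∀ z : Fin m ⊕ Fin m → F, Cfsg.sympForm m F z 0 = 0 := by
    intro z
    have := sympForm_smul_right (0 : F) z 0
    rw [zero_smul, zero_mul] at this
    exact this
  rw [h0, h0, add_zero, add_zero] at h1
  exact h1

theorem nil_adj (t : Matrix.symplecticGroup (Fin m) F) (ht : t * t = 1)
    (x y : Fin m ⊕ Fin m → F) :
    Cfsg.sympForm m F (nil t *ᵥ x) y = Cfsg.sympForm m F x (nil t *ᵥ y) := by
  have h1 := nil_form t x y
  rw [nil_iso t ht, add_zero] at h1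
  rw [← neg_eq_self (Cfsg.sympForm m F x (nil t *ᵥ y))]
  exact eq_neg_of_add_eq_zero_left h1

theorem sympBilin_nondegenerate : (sympBilin m F).Nondegenerate := by
  refine ⟨fun x hx => ?_, fun y hy => ?_⟩
  · apply sympForm_nondeg x
    intro y
    rw [← sympBilin_apply]
    exact hx y
  · apply sympForm_nondeg y
    intro x
    rw [sympForm_swap, ← sympBilin_apply, hy x, neg_zero]

/-- Every involution of the symplectic group in characteristic two is conjugate to a block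
unipotent matrix. -/
theorem exists_conj_uMat (t : Matrix.symplecticGroup (Fin m) F) (ht : t * t = 1) :
    ∃ (g : Matrix.symplecticGroup (Fin m) F) (S : Matrix (Fin m) (Fin m) F),
      Sᵀ = S ∧ ((g * t * g⁻¹ : Matrix.symplecticGroup (Fin m) F) :
        Matrix (Fin m ⊕ Fin m) (Fin m ⊕ Fin m) F) = uMat S := by
  classical
  have hA : (sympBilin m F).IsAlt := sympBilin_isAlt
  have hB : (sympBilin m F).Nondegenerate := sympBilin_nondegenerate
  obtain ⟨R, hR⟩ : ∃ R : Submodule F (Fin m ⊕ Fin m → F),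
      R = LinearMap.range (nil t).mulVecLin := ⟨_, rfl⟩
  have hRmem : ∀ x, nil t *ᵥ x ∈ R := by
    intro x; rw [hR]; exact ⟨x, rfl⟩
  have hRiso : ∀ x ∈ R, ∀ y ∈ R, sympBilin m F x y = 0 := by
    intro x hx y hy
    rw [hR] at hx hy
    obtain ⟨x', rfl⟩ := hx
    obtain ⟨y', rfl⟩ := hy
    rw [sympBilin_apply]
    exact nil_iso t ht x' y'
  have hRle : R ≤ (sympBilin m F).orthogonal R := by
    intro x hx
    rw [LinearMap.BilinForm.mem_orthogonal_iff]
    intro y hy
    exact hRiso y hy x hx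
  have hdim : finrank F R ≤ finrank F (Fin m → F) := by
    have h1 := LinearMap.BilinForm.finrank_orthogonal hB R
    have h2 := Submodule.finrank_mono hRle
    have h3 : finrank F (Fin m ⊕ Fin m → F) = m + m := by
      rw [Module.finrank_fintype_fun_eq_card, Fintype.card_sum, Fintype.card_fin]
    have h4 : finrank F (Fin m → F) = m := by
      rw [Module.finrank_fintype_fun_eq_card, Fintype.card_fin]
    rw [h1, h3] at h2
    rw [h4]
    omega
  obtain ⟨j, hj⟩ := finrank_le_iff_exists_linearMap.1 hdim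
  have hg₀ : Function.Injective ((inlLin m F).comp j) := inlLin_injective.comp hj
  have hφ : ∀ x x' : R, sympBilin m F
      ((LinearEquiv.ofInjective ((inlLin m F).comp j) hg₀ x : LinearMap.range ((inlLin m F).comp j)) :
        Fin m ⊕ Fin m → F)
      ((LinearEquiv.ofInjective ((inlLin m F).comp j) hg₀ x' : LinearMap.range ((inlLin m F).comp j)) :
        Fin m ⊕ Fin m → F) = sympBilin m F (x : Fin m ⊕ Fin m → F) (x' : Fin m ⊕ Fin m → F) := by
    intro x x'
    rw [LinearEquiv.ofInjective_apply, LinearEquiv.ofInjective_apply, hRiso _ x.2 _ x'.2,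
      sympBilin_apply, LinearMap.comp_apply, LinearMap.comp_apply, inlLin_apply, inlLin_apply,
      form_inl_inl]
  obtain ⟨g, hg1, hg2⟩ := Cfsg.Agent.S0749.result (sympBilin m F) hB hA R
    (LinearMap.range ((inlLin m F).comp j)) (LinearEquiv.ofInjective ((inlLin m F).comp j) hg₀) hφ
  have hGmem : LinearMap.toMatrix' (g : (Fin m ⊕ Fin m → F) →ₗ[F] (Fin m ⊕ Fin m → F)) ∈
      Matrix.symplecticGroup (Fin m) F := by
    rw [Cfsg.Agent.Lib.Helper1.SpCard.mem_symplectic_iff_form]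
    intro x y
    rw [LinearMap.toMatrix'_mulVec, LinearMap.toMatrix'_mulVec, ← sympBilin_apply,
      ← sympBilin_apply]
    exact hg1 x y
  obtain ⟨gS, hgS⟩ : ∃ gS : Matrix.symplecticGroup (Fin m) F,
      (gS : Matrix (Fin m ⊕ Fin m) (Fin m ⊕ Fin m) F) =
        LinearMap.toMatrix' (g : (Fin m ⊕ Fin m → F) →ₗ[F] (Fin m ⊕ Fin m → F)) := ⟨⟨_, hGmem⟩, rfl⟩
  have hgSv : ∀ x, (gS : Matrix (Fin m ⊕ Fin m) (Fin m ⊕ Fin m) F) *ᵥ x = g x := by
    intro x
    rw [hgS, LinearMap.toMatrix'_mulVec]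
    rfl
  obtain ⟨t', ht'def⟩ : ∃ t' : Matrix.symplecticGroup (Fin m) F, t' = gS * t * gS⁻¹ := ⟨_, rfl⟩
  have ht' : t' * t' = 1 := by
    rw [ht'def]
    have : gS * t * gS⁻¹ * (gS * t * gS⁻¹) = gS * (t * t) * gS⁻¹ := by group
    rw [this, ht]
    group
  -- the nilpotent part of the conjugate
  have key : ∀ x, nil t' *ᵥ x = g (nil t *ᵥ
      (((gS⁻¹ : Matrix.symplecticGroup (Fin m) F) : Matrix (Fin m ⊕ Fin m) (Fin m ⊕ Fin m) F) *ᵥ x)) := by
    intro x
    have h1 : nil t' *ᵥ x = (t' : Matrix (Fin m ⊕ Fin m) (Fin m ⊕ Fin m) F) *ᵥ x - x := by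
      unfold nil
      rw [Matrix.sub_mulVec, Matrix.one_mulVec]
    rw [h1, ht'def, coe_mul_mulVec, coe_mul_mulVec, coe_mulVec_eq t, Matrix.mulVec_add,
      mulVec_inv_mulVec, hgSv]
    abel
  have claim1 : ∀ x, ∃ a : Fin m → F, nil t' *ᵥ x = Sum.elim a 0 := by
    intro x
    have h2 := hg2 ⟨_, hRmem
      (((gS⁻¹ : Matrix.symplecticGroup (Fin m) F) : Matrix (Fin m ⊕ Fin m) (Fin m ⊕ Fin m) F) *ᵥ x)⟩
    rw [LinearEquiv.ofInjective_apply, LinearMap.comp_apply, inlLin_apply] at h2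
    exact ⟨_, (key x).trans h2⟩
  have claim2 : ∀ a : Fin m → F, nil t' *ᵥ (Sum.elim a 0) = 0 := by
    intro a
    apply sympForm_nondeg
    intro y
    obtain ⟨b, hb⟩ := claim1 y
    rw [nil_adj t' ht', hb, form_inl_inl]
  have hcol : ∀ (k : Fin m ⊕ Fin m) (l : Fin m ⊕ Fin m),
      nil t' k l = (nil t' *ᵥ Pi.single l 1) k := by
    intro k l
    rw [Matrix.mulVec_single_one]
    rfl
  have h11 : (nil t').toBlocks₁₁ = 0 := by
    ext i i'
    rw [Matrix.toBlocks₁₁, Matrix.of_apply, hcol]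
    have : (Pi.single (Sum.inl i') (1 : F) : Fin m ⊕ Fin m → F) = Sum.elim (Pi.single i' 1) 0 := by
      funext k
      rcases k with k | k
      · simp [Pi.single_apply]
      · simp
    rw [this, claim2]
    rfl
  have h21 : (nil t').toBlocks₂₁ = 0 := by
    ext i i'
    rw [Matrix.toBlocks₂₁, Matrix.of_apply, hcol]
    obtain ⟨a, ha⟩ := claim1 (Pi.single (Sum.inl i') 1)
    rw [ha]
    rfl
  have h22 : (nil t').toBlocks₂₂ = 0 := by
    ext i i'
    rw [Matrix.toBlocks₂₂, Matrix.of_apply, hcol]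
    obtain ⟨a, ha⟩ := claim1 (Pi.single (Sum.inr i') 1)
    rw [ha]
    rfl
  have hT' : (t' : Matrix (Fin m ⊕ Fin m) (Fin m ⊕ Fin m) F) = uMat (nil t').toBlocks₁₂ := by
    have h5 : (t' : Matrix (Fin m ⊕ Fin m) (Fin m ⊕ Fin m) F) = 1 + nil t' := by
      unfold nil; abel
    rw [h5]
    conv_lhs => rw [← Matrix.fromBlocks_toBlocks (nil t'), h11, h21, h22, ← Matrix.fromBlocks_one,
      Matrix.fromBlocks_add]
    unfold uMat
    simp
  refine ⟨gS, (nil t').toBlocks₁₂, ?_, ?_⟩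
  · rw [← uMat_mem_iff, ← hT']
    exact t'.2
  · rw [← ht'def]
    exact hT'

end inv

section invariants

theorem uMat_sub_one (S : Matrix (Fin m) (Fin m) F) :
    uMat S - 1 = Matrix.fromBlocks 0 S 0 0 := by
  ext i j
  rcases i with i | i <;> rcases j with j | j <;>
    simp [uMat, Matrix.sub_apply, Matrix.one_apply]

theorem uMat_mulVec (S : Matrix (Fin m) (Fin m) F) (v : Fin m ⊕ Fin m → F) :
    uMat S *ᵥ v = v + Sum.elim (S *ᵥ fun i => v (Sum.inr i)) 0 := by
  unfold uMat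
  rw [Matrix.fromBlocks_mulVec]
  funext k
  rcases k with k | k
  · simp only [Sum.elim_inl, Pi.add_apply, Matrix.one_mulVec, Function.comp_apply]
    rfl
  · simp only [Sum.elim_inr, Pi.add_apply, Matrix.one_mulVec, Matrix.zero_mulVec,
      Function.comp_apply, Pi.zero_apply, zero_add, add_zero]

theorem rank_uMat_sub_one (S : Matrix (Fin m) (Fin m) F) : (uMat S - 1).rank = S.rank := by
  rw [uMat_sub_one]
  unfold Matrix.rank
  have h1 : LinearMap.range (Matrix.fromBlocks (0 : Matrix (Fin m) (Fin m) F) S 0 0).mulVecLin =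
      (LinearMap.range S.mulVecLin).map (inlLin m F) := by
    ext y
    constructor
    · rintro ⟨v, rfl⟩
      refine ⟨S *ᵥ (fun i => v (Sum.inr i)), ⟨_, rfl⟩, ?_⟩
      rw [Matrix.mulVecLin_apply, Matrix.fromBlocks_mulVec, inlLin_apply]
      funext k
      rcases k with k | k
      · simp only [Sum.elim_inl, Matrix.zero_mulVec, zero_add]
        rfl
      · simp only [Sum.elim_inr, Matrix.zero_mulVec, zero_add, Pi.zero_apply]
    · rintro ⟨_, ⟨w, rfl⟩, rfl⟩
      refine ⟨Sum.elim 0 w, ?_⟩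
      rw [Matrix.mulVecLin_apply, Matrix.fromBlocks_mulVec, inlLin_apply]
      funext k
      rcases k with k | k
      · simp only [Sum.elim_inl, Matrix.zero_mulVec, zero_add]
        rfl
      · simp only [Sum.elim_inr, Matrix.zero_mulVec, zero_add, Pi.zero_apply]
  rw [h1]
  exact (Submodule.equivMapOfInjective (inlLin m F) inlLin_injective _).finrank_eq.symm

theorem rank_conj_sub_one (g t : Matrix.symplecticGroup (Fin m) F) :
    (((g * t * g⁻¹ : Matrix.symplecticGroup (Fin m) F) :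
      Matrix (Fin m ⊕ Fin m) (Fin m ⊕ Fin m) F) - 1).rank =
    ((t : Matrix (Fin m ⊕ Fin m) (Fin m ⊕ Fin m) F) - 1).rank := by
  have h1 : (g : Matrix (Fin m ⊕ Fin m) (Fin m ⊕ Fin m) F) *
      ((g⁻¹ : Matrix.symplecticGroup (Fin m) F) : Matrix (Fin m ⊕ Fin m) (Fin m ⊕ Fin m) F) = 1 := by
    rw [← Submonoid.coe_mul, mul_inv_cancel, Submonoid.coe_one]
  have hu : IsUnit (g : Matrix (Fin m ⊕ Fin m) (Fin m ⊕ Fin m) F).det :=
    isUnit_iff_ne_zero.2 (left_ne_zero_of_mul_eq_one (by rw [← Matrix.det_mul, h1, Matrix.det_one]))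
  have hu' : IsUnit ((g⁻¹ : Matrix.symplecticGroup (Fin m) F) :
      Matrix (Fin m ⊕ Fin m) (Fin m ⊕ Fin m) F).det :=
    isUnit_iff_ne_zero.2 (right_ne_zero_of_mul_eq_one (by rw [← Matrix.det_mul, h1, Matrix.det_one]))
  have h2 : ((g * t * g⁻¹ : Matrix.symplecticGroup (Fin m) F) :
      Matrix (Fin m ⊕ Fin m) (Fin m ⊕ Fin m) F) - 1 =
      (g : Matrix (Fin m ⊕ Fin m) (Fin m ⊕ Fin m) F) *
        ((t : Matrix (Fin m ⊕ Fin m) (Fin m ⊕ Fin m) F) - 1) *
        ((g⁻¹ : Matrix.symplecticGroup (Fin m) F) : Matrix (Fin m ⊕ Fin m) (Fin m ⊕ Fin m) F) := by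
    rw [Submonoid.coe_mul, Submonoid.coe_mul, Matrix.mul_sub, Matrix.sub_mul, Matrix.mul_one, h1]
  rw [h2, Matrix.rank_mul_eq_left_of_isUnit_det _ _ hu', Matrix.rank_mul_eq_right_of_isUnit_det _ _ hu]

/-- The type of an involution: whether `v ↦ f(v, t v)` vanishes identically. -/
def IsAltInv (t : Matrix.symplecticGroup (Fin m) F) : Prop :=
  ∀ v, Cfsg.sympForm m F v ((t : Matrix (Fin m ⊕ Fin m) (Fin m ⊕ Fin m) F) *ᵥ v) = 0

theorem isAltInv_conj (g t : Matrix.symplecticGroup (Fin m) F) :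
    IsAltInv (g * t * g⁻¹) ↔ IsAltInv t := by
  have key : ∀ (g t : Matrix.symplecticGroup (Fin m) F), IsAltInv t → IsAltInv (g * t * g⁻¹) := by
    intro g t h v
    rw [coe_mul_mulVec, coe_mul_mulVec, ← form_inv_mulVec]
    exact h _
  constructor
  · intro h
    have := key g⁻¹ _ h
    have h2 : g⁻¹ * (g * t * g⁻¹) * g⁻¹⁻¹ = t := by group
    rw [h2] at this
    exact this
  · exact key g t

theorem isAltInv_uS (S : Matrix (Fin m) (Fin m) F) (hS : Sᵀ = S) :
    IsAltInv (uS S hS) ↔ ∀ y : Fin m → F, y ⬝ᵥ S *ᵥ y = 0 := by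
  have key : ∀ v : Fin m ⊕ Fin m → F, Cfsg.sympForm m F v
      (((uS S hS : Matrix.symplecticGroup (Fin m) F) :
        Matrix (Fin m ⊕ Fin m) (Fin m ⊕ Fin m) F) *ᵥ v) =
      (fun i => v (Sum.inr i)) ⬝ᵥ S *ᵥ (fun i => v (Sum.inr i)) := by
    intro v
    show Cfsg.sympForm m F v (uMat S *ᵥ v) = _
    rw [uMat_mulVec, sympForm_add_right, sympForm_self, zero_add, form_elim_zero]
  constructor
  · intro h y
    have := h (Sum.elim 0 y)
    rw [key] at this
    exact this
  · intro h v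
    rw [key]
    exact h _

end invariants

section conj
open Cfsg.Agent.Lib.Helper5.Char2Form

theorem toBilin'_symm (S : Matrix (Fin m) (Fin m) F) (hS : Sᵀ = S) (x y : Fin m → F) :
    Matrix.toBilin' S x y = Matrix.toBilin' S y x := by
  rw [Matrix.toBilin'_apply', Matrix.toBilin'_apply', Matrix.dotProduct_mulVec,
    ← Matrix.mulVec_transpose, hS, dotProduct_comm]

theorem finrank_rad_toBilin' (S : Matrix (Fin m) (Fin m) F) (hS : Sᵀ = S) :
    finrank F (rad (Matrix.toBilin' S)) + S.rank = m := by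
  have h1 : rad (Matrix.toBilin' S) = LinearMap.ker S.mulVecLin := by
    ext x
    rw [mem_rad, LinearMap.mem_ker, Matrix.mulVecLin_apply]
    constructor
    · intro h
      funext i
      have := h (Pi.single i 1)
      rw [toBilin'_symm S hS, Matrix.toBilin'_apply', single_dotProduct, one_mul] at this
      exact this
    · intro h y
      rw [toBilin'_symm S hS, Matrix.toBilin'_apply', h, dotProduct_zero]
  rw [h1]
  unfold Matrix.rank
  have h2 := LinearMap.finrank_range_add_finrank_ker S.mulVecLin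
  rw [Module.finrank_fintype_fun_eq_card, Fintype.card_fin] at h2
  omega

/-- Two involutions of the same rank and type are conjugate. -/
theorem conj_of_same_type [CharP F 2] (hsq : ∀ a : F, ∃ b : F, b * b = a)
    (a b : Matrix.symplecticGroup (Fin m) F) (ha : a * a = 1) (hb : b * b = 1)
    (hrank : ((a : Matrix (Fin m ⊕ Fin m) (Fin m ⊕ Fin m) F) - 1).rank =
      ((b : Matrix (Fin m ⊕ Fin m) (Fin m ⊕ Fin m) F) - 1).rank)
    (halt : IsAltInv a ↔ IsAltInv b) : IsConj a b := by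
  obtain ⟨ga, Sa, hSa, hga⟩ := exists_conj_uMat a ha
  obtain ⟨gb, Sb, hSb, hgb⟩ := exists_conj_uMat b hb
  have hga' : ga * a * ga⁻¹ = uS Sa hSa := Subtype.ext hga
  have hgb' : gb * b * gb⁻¹ = uS Sb hSb := Subtype.ext hgb
  have hrk : Sa.rank = Sb.rank := by
    rw [← rank_uMat_sub_one Sa, ← rank_uMat_sub_one Sb, ← hga, ← hgb, rank_conj_sub_one,
      rank_conj_sub_one, hrank]
  have halt' : (∀ x : Fin m → F, Matrix.toBilin' Sb x x = 0) ↔
      (∀ x : Fin m → F, Matrix.toBilin' Sa x x = 0) := by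
    have h1 : IsAltInv (uS Sa hSa) ↔ IsAltInv (uS Sb hSb) := by
      rw [← hga', ← hgb', isAltInv_conj, isAltInv_conj]
      exact halt
    rw [isAltInv_uS, isAltInv_uS] at h1
    constructor
    · intro h x
      rw [Matrix.toBilin'_apply']
      apply h1.2
      intro y
      rw [← Matrix.toBilin'_apply']
      exact h y
    · intro h x
      rw [Matrix.toBilin'_apply']
      apply h1.1
      intro y
      rw [← Matrix.toBilin'_apply']
      exact h y
  have hradeq : finrank F (rad (Matrix.toBilin' Sb)) = finrank F (rad (Matrix.toBilin' Sa)) := by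
    have h1 := finrank_rad_toBilin' Sa hSa
    have h2 := finrank_rad_toBilin' Sb hSb
    omega
  obtain ⟨L, hL⟩ := exists_isometry hsq (Matrix.toBilin' Sb) (Matrix.toBilin' Sa)
    (toBilin'_symm Sb hSb) (toBilin'_symm Sa hSa) rfl hradeq halt'
  -- matrices
  obtain ⟨M, hM⟩ : ∃ M : Matrix (Fin m) (Fin m) F,
      M = LinearMap.toMatrix' (L : (Fin m → F) →ₗ[F] (Fin m → F)) := ⟨_, rfl⟩
  obtain ⟨M', hM'⟩ : ∃ M' : Matrix (Fin m) (Fin m) F,
      M' = LinearMap.toMatrix' (L.symm : (Fin m → F) →ₗ[F] (Fin m → F)) := ⟨_, rfl⟩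
  have hMM' : M * M' = 1 := by
    rw [hM, hM', ← LinearMap.toMatrix'_comp]
    have : (L : (Fin m → F) →ₗ[F] (Fin m → F)) ∘ₗ (L.symm : (Fin m → F) →ₗ[F] (Fin m → F)) =
        LinearMap.id := by
      ext x
      simp
    rw [this, LinearMap.toMatrix'_id]
  have hLin : Matrix.toLin' M = (L : (Fin m → F) →ₗ[F] (Fin m → F)) := by
    rw [hM, Matrix.toLin'_toMatrix']
  have hSeq : Sb = Mᵀ * Sa * M := by
    apply Matrix.toBilin'.injective
    rw [← Matrix.toBilin'_comp, hLin]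
    refine LinearMap.ext fun x => LinearMap.ext fun y => ?_
    rw [LinearMap.BilinForm.comp_apply]
    exact (hL _ _).symm
  -- conjugate
  have hPQ : Mᵀ * M'ᵀ = 1 := by
    rw [← Matrix.transpose_mul, _root_.mul_eq_one_comm.1 hMM', Matrix.transpose_one]
  have hS' : (Mᵀ * Sa * Mᵀᵀ)ᵀ = Mᵀ * Sa * Mᵀᵀ := by
    rw [Matrix.transpose_transpose, ← hSeq, hSb]
  have h3 := dS_conj Mᵀ M'ᵀ hPQ Sa hSa hS'
  have h4 : uS (Mᵀ * Sa * Mᵀᵀ) hS' = uS Sb hSb := by
    apply Subtype.ext
    show uMat (Mᵀ * Sa * Mᵀᵀ) = uMat Sb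
    rw [Matrix.transpose_transpose, ← hSeq]
  rw [h4, ← hga', ← hgb'] at h3
  rw [isConj_iff]
  refine ⟨gb⁻¹ * dS Mᵀ M'ᵀ hPQ * ga, ?_⟩
  have h5 : b = gb⁻¹ * (gb * b * gb⁻¹) * gb := by group
  rw [h5, ← h3]
  group

end conj

end Cfsg.Agent.Lib.Helper5.SpInv2
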