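import Mathlib
import Cfsg.Agent.S2595

namespace Cfsg.Agent.Lib.Helper5.O2Sp

open Matrix Module Cfsg.Agent.Lib.Helper2.Symp Cfsg.Agent.Lib.Helper1.SpBasic
  Cfsg.Agent.Lib.Helper5.SpInv2 Cfsg.Agent.Lib.Helper5.InvConj Cfsg.Agent.S2595

variable {F : Type*} [Field F] {m : ℕ}

/-- quadratic forms on the standard symplectic space whose polar form is the symplectic form -/
def PolSymp (Qf : QuadraticForm F (Fin m ⊕ Fin m → F)) : Prop :=
  ∀ u v, Qf (u + v) - Qf u - Qf v = Cfsg.sympForm m F u v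

variable {Qf : QuadraticForm F (Fin m ⊕ Fin m → F)}

theorem PolSymp.nondeg (h : PolSymp Qf) : (QuadraticMap.polarBilin Qf).Nondegenerate := by
  have hleft : ∀ u : Fin m ⊕ Fin m → F,
      (∀ v, QuadraticMap.polar (⇑Qf) u v = 0) → u = 0 := by
    intro u hu
    apply Cfsg.Agent.Lib.Helper2.SpIsom.sympForm_nondeg
    intro y
    rw [← h]
    exact hu y
  constructor
  · intro u hu
    exact hleft u hu
  · intro v hv
    apply hleft v
    intro u
    rw [QuadraticMap.polar_comm]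
    exact hv u

theorem iso_mem_sp (h : PolSymp Qf) (t : ↥(Cfsg.isometryGroup F ⇑Qf)) :
    ((t : Matrix.GeneralLinearGroup (Fin m ⊕ Fin m) F) :
      Matrix (Fin m ⊕ Fin m) (Fin m ⊕ Fin m) F) ∈ Matrix.symplecticGroup (Fin m) F := by
  rw [Cfsg.Agent.Lib.Helper1.SpCard.mem_symplectic_iff_form]
  intro x y
  have ht : ∀ v, Qf (((t : Matrix.GeneralLinearGroup (Fin m ⊕ Fin m) F) :
      Matrix (Fin m ⊕ Fin m) (Fin m ⊕ Fin m) F) *ᵥ v) = Qf v :=
    fun v => t.2 v v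
  rw [← h, ← h, ← Matrix.mulVec_add, ht, ht, ht]

/-- the orthogonal group inside the symplectic group -/
def toSpQ (h : PolSymp Qf) :
    ↥(Cfsg.isometryGroup F ⇑Qf) →* Matrix.symplecticGroup (Fin m) F where
  toFun t := ⟨_, iso_mem_sp h t⟩
  map_one' := rfl
  map_mul' _ _ := rfl

theorem toSpQ_coe (h : PolSymp Qf) (t : ↥(Cfsg.isometryGroup F ⇑Qf)) :
    ((toSpQ h t : Matrix.symplecticGroup (Fin m) F) : Matrix (Fin m ⊕ Fin m) (Fin m ⊕ Fin m) F) =
      ((t : Matrix.GeneralLinearGroup (Fin m ⊕ Fin m) F) :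
        Matrix (Fin m ⊕ Fin m) (Fin m ⊕ Fin m) F) := rfl

theorem toSpQ_injective (h : PolSymp Qf) : Function.Injective (toSpQ h) := by
  intro t s hts
  apply Subtype.ext
  apply Units.ext
  exact congrArg Subtype.val hts

theorem spToGL_toSpQ (h : PolSymp Qf) (t : ↥(Cfsg.isometryGroup F ⇑Qf)) :
    spToGL m F (toSpQ h t) = (t : Matrix.GeneralLinearGroup (Fin m ⊕ Fin m) F) :=
  Units.ext rfl

/-- conjugacy in `O(Q)` is detected in `Sp` -/
theorem conj_of_sp_conj [CharP F 2] (h : PolSymp Qf) (t s : ↥(Cfsg.isometryGroup F ⇑Qf))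
    (hs : orderOf s = 2) (hc : IsConj (toSpQ h t) (toSpQ h s)) : IsConj t s := by
  have h2 : (2 : F) = 0 := CharTwo.two_eq_zero
  rw [conj_iff h2 h.nondeg t s hs]
  obtain ⟨c, hc⟩ := isConj_iff.1 hc
  refine ⟨spToGL m F c, ?_, ?_⟩
  · intro u v
    show Qf (c.1 *ᵥ u + c.1 *ᵥ v) - Qf (c.1 *ᵥ u) - Qf (c.1 *ᵥ v) = Qf (u + v) - Qf u - Qf v
    rw [h, h]
    exact form_mulVec c u v
  · rw [← spToGL_toSpQ h t, ← spToGL_toSpQ h s, ← map_inv, ← map_mul, ← map_mul, hc]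

/-- an element of `Sp` preserving `Q`, as an element of `O(Q)` -/
def ofSp (c : Matrix.symplecticGroup (Fin m) F) (hc : ∀ v, Qf (c.1 *ᵥ v) = Qf v) :
    ↥(Cfsg.isometryGroup F ⇑Qf) :=
  ⟨spToGL m F c, fun u _ => hc u⟩

theorem toSpQ_ofSp (h : PolSymp Qf) (c : Matrix.symplecticGroup (Fin m) F)
    (hc : ∀ v, Qf (c.1 *ᵥ v) = Qf v) : toSpQ h (ofSp c hc) = c := Subtype.ext rfl

/-- alternating type means the image of `t - 1` is totally singular -/
theorem Q_sub_of_alt [CharP F 2] (h : PolSymp Qf) (t : ↥(Cfsg.isometryGroup F ⇑Qf))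
    (halt : IsAltInv (toSpQ h t)) (v : Fin m ⊕ Fin m → F) :
    Qf ((((t : Matrix.GeneralLinearGroup (Fin m ⊕ Fin m) F) :
      Matrix (Fin m ⊕ Fin m) (Fin m ⊕ Fin m) F) - 1) *ᵥ v) = 0 := by
  have h2 : (2 : F) = 0 := CharTwo.two_eq_zero
  rw [Matrix.sub_mulVec, Matrix.one_mulVec, Q_sub_fix h2 t v]
  unfold QuadraticMap.polar
  rw [h, sympForm_sub_left, sympForm_self, sub_zero, sympForm_swap]
  have := halt v
  rw [toSpQ_coe] at this
  rw [this, neg_zero]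

end Cfsg.Agent.Lib.Helper5.O2Sp
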