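import Mathlib
import Cfsg.Agent.Lib.Helper5.SpInv2
import Cfsg.Agent.Lib.Helper2.SpFrames

set_option autoImplicit false

/-!
Centralizers of involutions in the symplectic group in characteristic two: the counting identity
`|C(t)| * #frames = |O(S₁)| * |Sp|`.
-/

namespace Cfsg.Agent.Lib.Helper5.SpCent

open Matrix Module Cfsg.Agent.Lib.Helper2.Symp Cfsg.Agent.Lib.Helper1.SpBasic
  Cfsg.Agent.Lib.Helper2.SpIsom Cfsg.Agent.Lib.Helper5.SpInv2

variable {F : Type*} [Field F] {m s : ℕ}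

/-- The matrix whose columns are the vectors of a tuple. -/
def colMat (u : Fin s → (Fin m ⊕ Fin m → F)) : Matrix (Fin m ⊕ Fin m) (Fin s) F :=
  Matrix.of fun k i => u i k

theorem colMat_apply (u : Fin s → (Fin m ⊕ Fin m → F)) (k : Fin m ⊕ Fin m) (i : Fin s) :
    colMat u k i = u i k := rfl

theorem colMat_injective : Function.Injective (colMat : (Fin s → (Fin m ⊕ Fin m → F)) → _) := by
  intro u u' h
  funext i k
  exact congrFun (congrFun h k) i

theorem colMat_mulVec (g : Matrix (Fin m ⊕ Fin m) (Fin m ⊕ Fin m) F)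
    (u : Fin s → (Fin m ⊕ Fin m → F)) :
    colMat (fun i => g *ᵥ u i) = g * colMat u := by
  ext k i
  rw [colMat_apply, Matrix.mul_apply]
  rfl

theorem colMat_mul_apply (u : Fin s → (Fin m ⊕ Fin m → F)) (X : Matrix (Fin s) (Fin s) F) :
    ∃ u' : Fin s → (Fin m ⊕ Fin m → F), colMat u' = colMat u * X :=
  ⟨fun i k => (colMat u * X) k i, rfl⟩

theorem isotropic_iff (u : Fin s → (Fin m ⊕ Fin m → F)) :
    (colMat u)ᵀ * Matrix.J (Fin m) F * colMat u = 0 ↔
      ∀ i j, Cfsg.sympForm m F (u i) (u j) = 0 := by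
  have key : ∀ i j, ((colMat u)ᵀ * Matrix.J (Fin m) F * colMat u) i j =
      Cfsg.sympForm m F (u i) (u j) := by
    intro i j
    unfold Cfsg.sympForm
    rw [Matrix.mul_assoc, Matrix.mul_apply, dotProduct]
    apply Finset.sum_congr rfl
    intro k _
    rw [Matrix.transpose_apply, colMat_apply, Matrix.mul_apply, Matrix.mulVec, dotProduct]
    rfl
  constructor
  · intro h i j
    rw [← key, h]
    rfl
  · intro h
    ext i j
    rw [key, h]
    rfl

/-- The nilpotent part. -/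
def nMat (S₁ : Matrix (Fin s) (Fin s) F) (u : Fin s → (Fin m ⊕ Fin m → F)) :
    Matrix (Fin m ⊕ Fin m) (Fin m ⊕ Fin m) F :=
  colMat u * S₁ * (colMat u)ᵀ * Matrix.J (Fin m) F

/-- The involution attached to a frame and a symmetric matrix. -/
def tMat (S₁ : Matrix (Fin s) (Fin s) F) (u : Fin s → (Fin m ⊕ Fin m → F)) :
    Matrix (Fin m ⊕ Fin m) (Fin m ⊕ Fin m) F :=
  1 + nMat S₁ u

theorem J_mul_J : Matrix.J (Fin m) F * Matrix.J (Fin m) F = -1 := by
  rw [Matrix.J_squared]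

theorem J_tr : (Matrix.J (Fin m) F)ᵀ = -Matrix.J (Fin m) F := Matrix.J_transpose _ _

theorem tMat_mem (S₁ : Matrix (Fin s) (Fin s) F) (hS₁ : S₁ᵀ = S₁)
    (u : Fin s → (Fin m ⊕ Fin m → F))
    (hu : (colMat u)ᵀ * Matrix.J (Fin m) F * colMat u = 0) :
    tMat S₁ u ∈ Matrix.symplecticGroup (Fin m) F := by
  rw [SymplecticGroup.mem_iff]
  unfold tMat nMat
  set U := colMat u with hU
  set J := Matrix.J (Fin m) F with hJ
  have hJJ : J * J = -1 := J_mul_J
  have hJt : Jᵀ = -J := J_tr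
  rw [Matrix.transpose_add, Matrix.transpose_one, Matrix.transpose_mul, Matrix.transpose_mul,
    Matrix.transpose_mul, Matrix.transpose_transpose, hS₁, hJt]
  have e1 : U * S₁ * Uᵀ * J * J = -(U * S₁ * Uᵀ) := by
    rw [Matrix.mul_assoc _ J J, hJJ, Matrix.mul_neg, Matrix.mul_one]
  have e2 : J * (-J * (U * (S₁ * Uᵀ))) = U * S₁ * Uᵀ := by
    rw [← Matrix.mul_assoc, Matrix.mul_neg, hJJ, neg_neg, Matrix.one_mul, Matrix.mul_assoc]
  have e3 : U * S₁ * Uᵀ * J * J * (-J * (U * (S₁ * Uᵀ))) = 0 := by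
    rw [e1, Matrix.neg_mul, Matrix.neg_mul, Matrix.mul_neg, neg_neg]
    have : U * S₁ * Uᵀ * (J * (U * (S₁ * Uᵀ))) = U * S₁ * (Uᵀ * J * U) * (S₁ * Uᵀ) := by
      simp only [Matrix.mul_assoc]
    rw [this, hu, Matrix.mul_zero, Matrix.zero_mul]
  rw [Matrix.add_mul, Matrix.one_mul, Matrix.mul_add, Matrix.mul_one, Matrix.add_mul, e2, e3, e1]
  abel

theorem conj_tMat (S₁ : Matrix (Fin s) (Fin s) F) (g : Matrix.symplecticGroup (Fin m) F)
    (u : Fin s → (Fin m ⊕ Fin m → F)) :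
    (g : Matrix (Fin m ⊕ Fin m) (Fin m ⊕ Fin m) F) * tMat S₁ u =
      tMat S₁ (fun i => (g : Matrix (Fin m ⊕ Fin m) (Fin m ⊕ Fin m) F) *ᵥ u i) *
        (g : Matrix (Fin m ⊕ Fin m) (Fin m ⊕ Fin m) F) := by
  have hg : (g : Matrix (Fin m ⊕ Fin m) (Fin m ⊕ Fin m) F)ᵀ * Matrix.J (Fin m) F *
      (g : Matrix (Fin m ⊕ Fin m) (Fin m ⊕ Fin m) F) = Matrix.J (Fin m) F :=
    SymplecticGroup.mem_iff'.1 g.2
  unfold tMat nMat
  rw [colMat_mulVec, Matrix.mul_add, Matrix.add_mul, Matrix.mul_one, Matrix.one_mul,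
    Matrix.transpose_mul]
  congr 1
  set G := (g : Matrix (Fin m ⊕ Fin m) (Fin m ⊕ Fin m) F)
  set U := colMat u
  have : G * U * S₁ * (Uᵀ * Gᵀ) * Matrix.J (Fin m) F * G =
      G * U * S₁ * Uᵀ * (Gᵀ * Matrix.J (Fin m) F * G) := by
    simp only [Matrix.mul_assoc]
  rw [this, hg]
  simp only [Matrix.mul_assoc]

theorem J_isUnit : IsUnit (Matrix.J (Fin m) F) := by
  refine ⟨⟨Matrix.J (Fin m) F, -Matrix.J (Fin m) F, ?_, ?_⟩, rfl⟩
  · rw [Matrix.mul_neg, J_mul_J, neg_neg]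
  · rw [Matrix.neg_mul, J_mul_J, neg_neg]

theorem exists_left_inv (u : Fin s → (Fin m ⊕ Fin m → F)) (hu : LinearIndependent F u) :
    ∃ L : Matrix (Fin s) (Fin m ⊕ Fin m) F, L * colMat u = 1 := by
  have h1 : Function.Injective (colMat u).mulVec := by
    rw [Matrix.mulVec_injective_iff]
    exact hu
  have h2 : LinearMap.ker (Matrix.toLin' (colMat u)) = ⊥ := by
    rw [LinearMap.ker_eq_bot]
    exact h1
  obtain ⟨f, hf⟩ := LinearMap.exists_leftInverse_of_injective _ h2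
  refine ⟨LinearMap.toMatrix' f, ?_⟩
  have := congrArg LinearMap.toMatrix' hf
  rw [LinearMap.toMatrix'_comp, LinearMap.toMatrix'_toLin', LinearMap.toMatrix'_id] at this
  exact this

/-- the fibres of `u ↦ tMat S₁ u` -/
theorem tMat_eq_iff (S₁ : Matrix (Fin s) (Fin s) F) (hS₁ : IsUnit S₁)
    (u u' : Fin s → (Fin m ⊕ Fin m → F)) (hu : LinearIndependent F u)
    (hu' : LinearIndependent F u') :
    tMat S₁ u' = tMat S₁ u ↔
      ∃ X : Matrix (Fin s) (Fin s) F, X * S₁ * Xᵀ = S₁ ∧ colMat u' = colMat u * X := by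
  obtain ⟨L, hL⟩ := exists_left_inv u hu
  obtain ⟨L', hL'⟩ := exists_left_inv u' hu'
  obtain ⟨⟨S, Si, hS1, hS2⟩, rfl⟩ := hS₁
  have hLt : (colMat u)ᵀ * Lᵀ = 1 := by
    rw [← Matrix.transpose_mul, hL, Matrix.transpose_one]
  have hLt' : (colMat u')ᵀ * L'ᵀ = 1 := by
    rw [← Matrix.transpose_mul, hL', Matrix.transpose_one]
  have hJ : Matrix.J (Fin m) F * (-Matrix.J (Fin m) F) = 1 := by
    rw [Matrix.mul_neg, J_mul_J, neg_neg]
  show tMat S u' = tMat S u ↔ ∃ X : Matrix (Fin s) (Fin s) F, X * S * Xᵀ = S ∧ _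
  constructor
  · intro h
    have h1 : colMat u' * S * (colMat u')ᵀ = colMat u * S * (colMat u)ᵀ := by
      have h0 : nMat S u' = nMat S u := add_left_cancel h
      unfold nMat at h0
      have := congrArg (fun M => M * (-Matrix.J (Fin m) F)) h0
      simp only [Matrix.mul_assoc, hJ, Matrix.mul_one] at this
      simp only [Matrix.mul_assoc]
      exact this
    have h2 : colMat u' = colMat u * (S * (colMat u)ᵀ * L'ᵀ * Si) := by
      have := congrArg (fun M => M * (L'ᵀ * Si)) h1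
      simp only [Matrix.mul_assoc] at this
      rw [← Matrix.mul_assoc (colMat u')ᵀ, hLt', Matrix.one_mul, hS1, Matrix.mul_one] at this
      rw [this]
      simp only [Matrix.mul_assoc]
    refine ⟨_, ?_, h2⟩
    set X := S * (colMat u)ᵀ * L'ᵀ * Si with hX
    rw [h2, Matrix.transpose_mul] at h1
    have := congrArg (fun M => L * M * Lᵀ) h1
    beta_reduce at this
    have e1 : L * (colMat u * X * S * (Xᵀ * (colMat u)ᵀ)) * Lᵀ =
        (L * colMat u) * X * S * Xᵀ * ((colMat u)ᵀ * Lᵀ) := by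
      simp only [Matrix.mul_assoc]
    have e2 : L * (colMat u * S * (colMat u)ᵀ) * Lᵀ =
        (L * colMat u) * S * ((colMat u)ᵀ * Lᵀ) := by
      simp only [Matrix.mul_assoc]
    rw [e1, e2, hL, hLt, Matrix.one_mul, Matrix.mul_one, Matrix.one_mul, Matrix.mul_one] at this
    exact this
  · rintro ⟨X, hX, hu'X⟩
    unfold tMat nMat
    rw [hu'X, Matrix.transpose_mul]
    congr 2
    have : colMat u * X * S * (Xᵀ * (colMat u)ᵀ) = colMat u * (X * S * Xᵀ) * (colMat u)ᵀ := by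
      simp only [Matrix.mul_assoc]
    rw [this, hX]

section count

open Cfsg.Agent.Lib.Helper2.IsoFrames Cfsg.Agent.Lib.Helper2.SpFrames
  Cfsg.Agent.Lib.Helper2.IsomDecomp

theorem smul_tup_def (g : Matrix.symplecticGroup (Fin m) F) (u : Fin s → (Fin m ⊕ Fin m → F)) :
    g • u = fun i => (g : Matrix (Fin m ⊕ Fin m) (Fin m ⊕ Fin m) F) *ᵥ u i := rfl

theorem smul_mem_frame' (g : Matrix.symplecticGroup (Fin m) F)
    (u : Fin s → (Fin m ⊕ Fin m → F)) (hu : u ∈ Frame (Cfsg.sympForm m F) s) :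
    g • u ∈ Frame (Cfsg.sympForm m F) s :=
  smul_mem_frame (spHom_mem_isom g) hu

theorem frame_trans' (u u' : Fin s → (Fin m ⊕ Fin m → F))
    (hu : u ∈ Frame (Cfsg.sympForm m F) s) (hu' : u' ∈ Frame (Cfsg.sympForm m F) s) :
    ∃ g : Matrix.symplecticGroup (Fin m) F, g • u = u' := by
  obtain ⟨g, hg, hgu⟩ := frame_trans u hu u' hu'
  obtain ⟨A, hA⟩ := exists_sp_of_isom hg
  refine ⟨A, ?_⟩
  funext i
  rw [← hgu i, ← hA]
  rfl

/-- tuples obtained by a change of basis -/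
def mulTup (u : Fin s → (Fin m ⊕ Fin m → F)) (X : Matrix (Fin s) (Fin s) F) :
    Fin s → (Fin m ⊕ Fin m → F) := fun i k => (colMat u * X) k i

theorem colMat_mulTup (u : Fin s → (Fin m ⊕ Fin m → F)) (X : Matrix (Fin s) (Fin s) F) :
    colMat (mulTup u X) = colMat u * X := rfl

theorem linearIndependent_of_left_inv (u : Fin s → (Fin m ⊕ Fin m → F))
    (L : Matrix (Fin s) (Fin m ⊕ Fin m) F) (hL : L * colMat u = 1) : LinearIndependent F u := by
  have h1 : Function.Injective (colMat u).mulVec := by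
    intro x y hxy
    have := congrArg (fun z => L *ᵥ z) hxy
    simp only [Matrix.mulVec_mulVec, hL, Matrix.one_mulVec] at this
    exact this
  rw [Matrix.mulVec_injective_iff] at h1
  exact h1

theorem mulTup_mem_frame (u : Fin s → (Fin m ⊕ Fin m → F))
    (hu : u ∈ Frame (Cfsg.sympForm m F) s) (X Y : Matrix (Fin s) (Fin s) F) (hYX : Y * X = 1) :
    mulTup u X ∈ Frame (Cfsg.sympForm m F) s := by
  obtain ⟨L, hL⟩ := exists_left_inv u hu.1
  refine ⟨linearIndependent_of_left_inv _ (Y * L) ?_, ?_⟩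
  · rw [colMat_mulTup, Matrix.mul_assoc, ← Matrix.mul_assoc L, hL, Matrix.one_mul, hYX]
  · rw [← isotropic_iff, colMat_mulTup, Matrix.transpose_mul]
    have : Xᵀ * (colMat u)ᵀ * Matrix.J (Fin m) F * (colMat u * X) =
        Xᵀ * ((colMat u)ᵀ * Matrix.J (Fin m) F * colMat u) * X := by
      simp only [Matrix.mul_assoc]
    rw [this, (isotropic_iff u).2 hu.2, Matrix.mul_zero, Matrix.zero_mul]

/-- the element of the symplectic group attached to a frame -/
def tS (S₁ : Matrix (Fin s) (Fin s) F) (hS₁ : S₁ᵀ = S₁) (u : Fin s → (Fin m ⊕ Fin m → F))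
    (hu : u ∈ Frame (Cfsg.sympForm m F) s) : Matrix.symplecticGroup (Fin m) F :=
  ⟨tMat S₁ u, tMat_mem S₁ hS₁ u ((isotropic_iff u).2 hu.2)⟩

theorem conj_tS (S₁ : Matrix (Fin s) (Fin s) F) (hS₁ : S₁ᵀ = S₁)
    (u : Fin s → (Fin m ⊕ Fin m → F)) (hu : u ∈ Frame (Cfsg.sympForm m F) s)
    (g : Matrix.symplecticGroup (Fin m) F) :
    g * tS S₁ hS₁ u hu = tS S₁ hS₁ (g • u) (smul_mem_frame' g u hu) * g := by
  apply Subtype.ext
  exact conj_tMat S₁ g u

theorem card_centralizer_tS [Fintype F] {q : ℕ} (hF : Fintype.card F = q)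
    (S₁ : Matrix (Fin s) (Fin s) F) (hS₁ : S₁ᵀ = S₁) (hS₁u : IsUnit S₁)
    (u₀ : Fin s → (Fin m ⊕ Fin m → F)) (hu₀ : u₀ ∈ Frame (Cfsg.sympForm m F) s) :
    Nat.card ↥(Subgroup.centralizer ({tS S₁ hS₁ u₀ hu₀} : Set (Matrix.symplecticGroup (Fin m) F))) *
      ∏ j ∈ Finset.range s, (q ^ (2 * m - j) - q ^ j) =
    Nat.card {X : Matrix (Fin s) (Fin s) F // X * S₁ * Xᵀ = S₁} *
      Nat.card (Matrix.symplecticGroup (Fin m) F) := by
  classical
  set t₀ := tS S₁ hS₁ u₀ hu₀ with ht₀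
  -- orbit of u₀ under G
  have h1 := Cfsg.Agent.Lib.Helper1.StabCard.card_eq_ncard_orbit_mul (G := Matrix.symplecticGroup (Fin m) F) u₀
  have horb : MulAction.orbit (Matrix.symplecticGroup (Fin m) F) u₀ = Frame (Cfsg.sympForm m F) s := by
    ext r
    rw [MulAction.mem_orbit_iff]
    constructor
    · rintro ⟨g, rfl⟩
      exact smul_mem_frame' g u₀ hu₀
    · intro hr
      exact frame_trans' u₀ r hu₀ hr
  rw [horb, ncard_frame hF] at h1
  -- orbit of u₀ under the centralizer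
  set O : Set (Fin s → (Fin m ⊕ Fin m → F)) :=
    {r | r ∈ Frame (Cfsg.sympForm m F) s ∧ tMat S₁ r = tMat S₁ u₀} with hO
  have hcent : ∀ g : Matrix.symplecticGroup (Fin m) F, g ∈ Subgroup.centralizer ({t₀} : Set (Matrix.symplecticGroup (Fin m) F)) ↔
      tMat S₁ (g • u₀) = tMat S₁ u₀ := by
    intro g
    rw [Subgroup.mem_centralizer_singleton_iff]
    have hc := conj_tS S₁ hS₁ u₀ hu₀ g
    constructor
    · intro h
      rw [← ht₀, h] at hc
      have := mul_right_cancel hc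
      exact (congrArg Subtype.val this).symm
    · intro h
      rw [← ht₀] at hc
      rw [hc]
      congr 1
      apply Subtype.ext
      exact h
  have h2 := Cfsg.Agent.Lib.Helper1.StabCard.card_subgroup_eq_orbit_mul
    (Subgroup.centralizer ({t₀} : Set (Matrix.symplecticGroup (Fin m) F))) u₀ O (by
      intro r
      constructor
      · rintro ⟨hr, hrt⟩
        obtain ⟨g, rfl⟩ := frame_trans' u₀ r hu₀ hr
        exact ⟨g, (hcent g).2 hrt, rfl⟩
      · rintro ⟨g, hg, rfl⟩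
        exact ⟨smul_mem_frame' g u₀ hu₀, (hcent g).1 hg⟩)
  have h3 : Subgroup.centralizer ({t₀} : Set (Matrix.symplecticGroup (Fin m) F)) ⊓
        MulAction.stabilizer (Matrix.symplecticGroup (Fin m) F) u₀ =
      MulAction.stabilizer (Matrix.symplecticGroup (Fin m) F) u₀ := by
    apply inf_eq_right.2
    intro g hg
    rw [MulAction.mem_stabilizer_iff] at hg
    rw [hcent, hg]
  rw [h3] at h2
  -- the orbit and the orthogonal group
  obtain ⟨L₀, hL₀⟩ := exists_left_inv u₀ hu₀.1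
  have hinv : ∀ X : Matrix (Fin s) (Fin s) F, X * S₁ * Xᵀ = S₁ → ∃ Y, Y * X = 1 := by
    intro X hX
    obtain ⟨⟨S, Si, hS1, hS2⟩, hSS⟩ := hS₁u
    refine ⟨S₁ * Xᵀ * Si, ?_⟩
    apply _root_.mul_eq_one_comm.1
    change S = S₁ at hSS
    rw [← Matrix.mul_assoc, ← Matrix.mul_assoc, hX, ← hSS, hS1]
  have h4 : O.ncard = Nat.card {X : Matrix (Fin s) (Fin s) F // X * S₁ * Xᵀ = S₁} := by
    rw [← Nat.card_coe_set_eq]
    symm
    apply Nat.card_congr
    refine Equiv.ofBijective (fun X => ⟨mulTup u₀ X.1, ?_, ?_⟩) ⟨?_, ?_⟩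
    · obtain ⟨Y, hY⟩ := hinv X.1 X.2
      exact mulTup_mem_frame u₀ hu₀ X.1 Y hY
    · obtain ⟨Y, hY⟩ := hinv X.1 X.2
      exact (tMat_eq_iff S₁ hS₁u u₀ _ hu₀.1 (mulTup_mem_frame u₀ hu₀ X.1 Y hY).1).2
        ⟨X.1, X.2, rfl⟩
    · intro X X' h
      have h' := congrArg (fun r => colMat r.1) h
      simp only [colMat_mulTup] at h'
      have := congrArg (fun M => L₀ * M) h'
      simp only [← Matrix.mul_assoc, hL₀, Matrix.one_mul] at this
      exact Subtype.ext this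
    · rintro ⟨r, hr, hrt⟩
      obtain ⟨X, hX, hrX⟩ := (tMat_eq_iff S₁ hS₁u u₀ r hu₀.1 hr.1).1 hrt
      refine ⟨⟨X, hX⟩, ?_⟩
      apply Subtype.ext
      apply colMat_injective
      rw [hrX]
      rfl
  rw [h2, h4, h1]
  ring

end count

section props

open Cfsg.Agent.Lib.Helper2.IsoFrames

theorem nMat_mul_nMat (S₁ : Matrix (Fin s) (Fin s) F) (u : Fin s → (Fin m ⊕ Fin m → F))
    (hu : (colMat u)ᵀ * Matrix.J (Fin m) F * colMat u = 0) : nMat S₁ u * nMat S₁ u = 0 := by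
  unfold nMat
  have : colMat u * S₁ * (colMat u)ᵀ * Matrix.J (Fin m) F *
      (colMat u * S₁ * (colMat u)ᵀ * Matrix.J (Fin m) F) =
      colMat u * S₁ * ((colMat u)ᵀ * Matrix.J (Fin m) F * colMat u) *
        (S₁ * (colMat u)ᵀ * Matrix.J (Fin m) F) := by
    simp only [Matrix.mul_assoc]
  rw [this, hu, Matrix.mul_zero, Matrix.zero_mul]

theorem tS_mul_self [CharP F 2] (S₁ : Matrix (Fin s) (Fin s) F) (hS₁ : S₁ᵀ = S₁)
    (u : Fin s → (Fin m ⊕ Fin m → F)) (hu : u ∈ Frame (Cfsg.sympForm m F) s) :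
    tS S₁ hS₁ u hu * tS S₁ hS₁ u hu = 1 := by
  apply Subtype.ext
  show tMat S₁ u * tMat S₁ u = 1
  unfold tMat
  have h2 : nMat S₁ u + nMat S₁ u = 0 := by
    ext i j
    exact CharTwo.add_self_eq_zero _
  rw [Matrix.add_mul, Matrix.mul_add, Matrix.mul_add, Matrix.one_mul, Matrix.mul_one,
    Matrix.one_mul, nMat_mul_nMat S₁ u ((isotropic_iff u).2 hu.2), add_zero, add_assoc, h2,
    add_zero]

theorem rank_tS (S₁ : Matrix (Fin s) (Fin s) F) (hS₁ : S₁ᵀ = S₁) (hS₁u : IsUnit S₁)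
    (u : Fin s → (Fin m ⊕ Fin m → F)) (hu : u ∈ Frame (Cfsg.sympForm m F) s) :
    ((tS S₁ hS₁ u hu : Matrix (Fin m ⊕ Fin m) (Fin m ⊕ Fin m) F) - 1).rank = s := by
  have h0 : (tS S₁ hS₁ u hu : Matrix (Fin m ⊕ Fin m) (Fin m ⊕ Fin m) F) - 1 = nMat S₁ u := by
    show tMat S₁ u - 1 = _
    unfold tMat
    rw [add_sub_cancel_left]
  rw [h0]
  obtain ⟨L, hL⟩ := exists_left_inv u hu.1
  have hLt : (colMat u)ᵀ * Lᵀ = 1 := by
    rw [← Matrix.transpose_mul, hL, Matrix.transpose_one]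
  have hJ : Matrix.J (Fin m) F * (-Matrix.J (Fin m) F) = 1 := by
    rw [Matrix.mul_neg, J_mul_J, neg_neg]
  apply le_antisymm
  · unfold nMat
    rw [Matrix.mul_assoc, Matrix.mul_assoc]
    refine (Matrix.rank_mul_le_left _ _).trans ?_
    have := Matrix.rank_le_card_width (colMat u)
    rw [Fintype.card_fin] at this
    exact this
  · have h1 : S₁ = L * nMat S₁ u * (-Matrix.J (Fin m) F * Lᵀ) := by
      unfold nMat
      have : L * (colMat u * S₁ * (colMat u)ᵀ * Matrix.J (Fin m) F) *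
          (-Matrix.J (Fin m) F * Lᵀ) =
          (L * colMat u) * S₁ * ((colMat u)ᵀ * ((Matrix.J (Fin m) F * -Matrix.J (Fin m) F) * Lᵀ)) := by
        simp only [Matrix.mul_assoc]
      rw [this, hJ, Matrix.one_mul, hLt, hL, Matrix.one_mul, Matrix.mul_one]
    have h2 : S₁.rank = s := by
      have := Matrix.rank_of_isUnit S₁ hS₁u
      rw [Fintype.card_fin] at this
      exact this
    calc s = S₁.rank := h2.symm
      _ = (L * nMat S₁ u * (-Matrix.J (Fin m) F * Lᵀ)).rank := by rw [← h1]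
      _ ≤ (L * nMat S₁ u).rank := Matrix.rank_mul_le_left _ _
      _ ≤ (nMat S₁ u).rank := Matrix.rank_mul_le_right _ _

theorem isAltInv_tS (S₁ : Matrix (Fin s) (Fin s) F) (hS₁ : S₁ᵀ = S₁)
    (u : Fin s → (Fin m ⊕ Fin m → F)) (hu : u ∈ Frame (Cfsg.sympForm m F) s) :
    IsAltInv (tS S₁ hS₁ u hu) ↔ ∀ z : Fin s → F, z ⬝ᵥ S₁ *ᵥ z = 0 := by
  obtain ⟨L, hL⟩ := exists_left_inv u hu.1
  have hLt : (colMat u)ᵀ * Lᵀ = 1 := by
    rw [← Matrix.transpose_mul, hL, Matrix.transpose_one]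
  have hJ : Matrix.J (Fin m) F * (-Matrix.J (Fin m) F) = 1 := by
    rw [Matrix.mul_neg, J_mul_J, neg_neg]
  have key : ∀ v : Fin m ⊕ Fin m → F, Cfsg.sympForm m F v
      ((tS S₁ hS₁ u hu : Matrix (Fin m ⊕ Fin m) (Fin m ⊕ Fin m) F) *ᵥ v) =
      -(((colMat u)ᵀ * Matrix.J (Fin m) F) *ᵥ v ⬝ᵥ S₁ *ᵥ (((colMat u)ᵀ * Matrix.J (Fin m) F) *ᵥ v)) := by
    intro v
    show Cfsg.sympForm m F v (tMat S₁ u *ᵥ v) = _
    unfold tMat
    rw [Matrix.add_mulVec, Matrix.one_mulVec, sympForm_add_right, sympForm_self, zero_add]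
    unfold Cfsg.sympForm nMat
    rw [Matrix.mulVec_mulVec, Matrix.dotProduct_mulVec]
    have e1 : Matrix.J (Fin m) F * (colMat u * S₁ * (colMat u)ᵀ * Matrix.J (Fin m) F) =
        (Matrix.J (Fin m) F * colMat u) * (S₁ * ((colMat u)ᵀ * Matrix.J (Fin m) F)) := by
      simp only [Matrix.mul_assoc]
    rw [e1, ← Matrix.vecMul_vecMul, ← Matrix.dotProduct_mulVec, ← Matrix.mulVec_mulVec]
    have e2 : v ᵥ* (Matrix.J (Fin m) F * colMat u) =
        -(((colMat u)ᵀ * Matrix.J (Fin m) F) *ᵥ v) := by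
      rw [← Matrix.mulVec_transpose, Matrix.transpose_mul, J_tr, Matrix.mul_neg, Matrix.neg_mulVec]
    rw [e2, neg_dotProduct]
  constructor
  · intro h z
    have h1 := h ((-Matrix.J (Fin m) F * Lᵀ) *ᵥ z)
    rw [key, Matrix.mulVec_mulVec] at h1
    have e3 : (colMat u)ᵀ * Matrix.J (Fin m) F * (-Matrix.J (Fin m) F * Lᵀ) = 1 := by
      rw [Matrix.mul_assoc, ← Matrix.mul_assoc (Matrix.J (Fin m) F), hJ, Matrix.one_mul, hLt]
    rw [e3, Matrix.one_mulVec, neg_eq_zero] at h1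
    exact h1
  · intro h v
    rw [key, h, neg_zero]

end props

section general

open Cfsg.Agent.Lib.Helper2.IsoFrames

theorem card_centralizer_of_isConj {G : Type*} [Group G] (a b : G) (h : IsConj a b) :
    Nat.card ↥(Subgroup.centralizer ({a} : Set G)) =
      Nat.card ↥(Subgroup.centralizer ({b} : Set G)) := by
  obtain ⟨c, hc⟩ := isConj_iff.1 h
  subst hc
  apply Nat.card_congr
  refine ⟨fun x => ⟨c * x.1 * c⁻¹, ?_⟩, fun x => ⟨c⁻¹ * x.1 * c, ?_⟩, ?_, ?_⟩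
  · have hx := Subgroup.mem_centralizer_singleton_iff.1 x.2
    rw [Subgroup.mem_centralizer_singleton_iff]
    calc c * x.1 * c⁻¹ * (c * a * c⁻¹) = c * (x.1 * a) * c⁻¹ := by group
      _ = c * (a * x.1) * c⁻¹ := by rw [hx]
      _ = c * a * c⁻¹ * (c * x.1 * c⁻¹) := by group
  · have hx := Subgroup.mem_centralizer_singleton_iff.1 x.2
    rw [Subgroup.mem_centralizer_singleton_iff]
    calc c⁻¹ * x.1 * c * a = c⁻¹ * (x.1 * (c * a * c⁻¹)) * c := by group
      _ = c⁻¹ * (c * a * c⁻¹ * x.1) * c := by rw [hx]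
      _ = a * (c⁻¹ * x.1 * c) := by group
  · intro x
    apply Subtype.ext
    show c⁻¹ * (c * x.1 * c⁻¹) * c = x.1
    group
  · intro x
    apply Subtype.ext
    show c * (c⁻¹ * x.1 * c) * c⁻¹ = x.1
    group

/-- the standard frame -/
def stdFrame (hsm : s ≤ m) : Fin s → (Fin m ⊕ Fin m → F) :=
  fun i => Pi.single (Sum.inl (Fin.castLE hsm i)) 1

theorem stdFrame_mem (hsm : s ≤ m) :
    (stdFrame hsm : Fin s → (Fin m ⊕ Fin m → F)) ∈ Frame (Cfsg.sympForm m F) s := by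
  constructor
  · have h1 := (Pi.basisFun F (Fin m ⊕ Fin m)).linearIndependent.comp
      (fun i : Fin s => (Sum.inl (Fin.castLE hsm i) : Fin m ⊕ Fin m))
      (fun a b hab => Fin.castLE_injective hsm (Sum.inl_injective hab))
    have h2 : (⇑(Pi.basisFun F (Fin m ⊕ Fin m)) ∘ fun i : Fin s =>
        (Sum.inl (Fin.castLE hsm i) : Fin m ⊕ Fin m)) = stdFrame hsm := by
      funext i
      simp only [Function.comp_apply, Pi.basisFun_apply]
      rfl
    rw [h2] at h1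
    exact h1
  · intro i j
    unfold stdFrame
    rw [sympForm_single_inl, Pi.single_apply, if_neg (by simp)]

theorem le_of_rank [CharP F 2] (t : Matrix.symplecticGroup (Fin m) F) (ht : t * t = 1)
    (hs : ((t : Matrix (Fin m ⊕ Fin m) (Fin m ⊕ Fin m) F) - 1).rank = s) : s ≤ m := by
  obtain ⟨g, S, hS, hg⟩ := exists_conj_uMat t ht
  have h1 := rank_conj_sub_one g t
  rw [hg, rank_uMat_sub_one, hs] at h1
  rw [← h1]
  have := Matrix.rank_le_card_width S
  rw [Fintype.card_fin] at this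
  exact this

theorem card_centralizer_mul [Fintype F] [CharP F 2] {q : ℕ} (hF : Fintype.card F = q)
    (S₁ : Matrix (Fin s) (Fin s) F) (hS₁ : S₁ᵀ = S₁) (hS₁u : IsUnit S₁)
    (t : Matrix.symplecticGroup (Fin m) F) (ht : t * t = 1)
    (hs : ((t : Matrix (Fin m ⊕ Fin m) (Fin m ⊕ Fin m) F) - 1).rank = s)
    (halt : IsAltInv t ↔ ∀ z : Fin s → F, z ⬝ᵥ S₁ *ᵥ z = 0) :
    Nat.card ↥(Subgroup.centralizer ({t} : Set (Matrix.symplecticGroup (Fin m) F))) *
      ∏ j ∈ Finset.range s, (q ^ (2 * m - j) - q ^ j) =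
    Nat.card {X : Matrix (Fin s) (Fin s) F // X * S₁ * Xᵀ = S₁} *
      Nat.card (Matrix.symplecticGroup (Fin m) F) := by
  have hsm : s ≤ m := le_of_rank t ht hs
  have hsq : ∀ a : F, ∃ b : F, b * b = a := by
    intro a
    obtain ⟨c, hc⟩ := isSquare_of_charTwo' a
    exact ⟨c, hc.symm⟩
  have hu₀ := stdFrame_mem (F := F) hsm
  have hconj := conj_of_same_type hsq t (tS S₁ hS₁ (stdFrame hsm) hu₀) ht
    (tS_mul_self S₁ hS₁ _ hu₀) (by rw [hs, rank_tS S₁ hS₁ hS₁u _ hu₀])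
    (by rw [isAltInv_tS, halt])
  rw [card_centralizer_of_isConj _ _ hconj]
  exact card_centralizer_tS hF S₁ hS₁ hS₁u _ hu₀

end general

end Cfsg.Agent.Lib.Helper5.SpCent
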