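import Mathlib
import Cfsg.Agent.Lib.Helper5.SpCent1

set_option autoImplicit false

/-!
Centralizers of involutions in the symplectic group in characteristic two: general index types,
and the orders of the orthogonal groups of the three canonical symmetric forms.
-/

namespace Cfsg.Agent.Lib.Helper5.SpCent

open Matrix Module Cfsg.Agent.Lib.Helper2.Symp Cfsg.Agent.Lib.Helper1.SpBasic
  Cfsg.Agent.Lib.Helper2.SpIsom Cfsg.Agent.Lib.Helper5.SpInv2

variable {F : Type*} [Field F] {m s : ℕ}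

section reindex

variable {ι : Type*} [Fintype ι] [DecidableEq ι]

theorem card_orth_reindex (e : ι ≃ Fin s) (S' : Matrix ι ι F) :
    Nat.card {X : Matrix (Fin s) (Fin s) F //
      X * Matrix.reindex e e S' * Xᵀ = Matrix.reindex e e S'} =
    Nat.card {Y : Matrix ι ι F // Y * S' * Yᵀ = S'} := by
  apply Nat.card_congr
  refine Equiv.subtypeEquiv (Matrix.reindex e.symm e.symm) ?_
  intro X
  have h0 : (Matrix.reindex e e S').submatrix e e = S' := by
    simp only [Matrix.reindex_apply, Matrix.submatrix_submatrix, Equiv.symm_comp_self,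
      Matrix.submatrix_id_id]
  have key : (X * Matrix.reindex e e S' * Xᵀ).submatrix e e =
      X.submatrix e e * S' * (X.submatrix e e)ᵀ := by
    rw [← Matrix.submatrix_mul_equiv _ _ _ e, ← Matrix.submatrix_mul_equiv _ _ _ e, h0,
      Matrix.transpose_submatrix]
  rw [← (Matrix.reindex e.symm e.symm).injective.eq_iff]
  simp only [Matrix.reindex_apply, Equiv.symm_symm]
  simp only [Matrix.reindex_apply] at key h0
  rw [key, h0]

theorem card_centralizer_mul' [Fintype F] [CharP F 2] {q : ℕ} (hF : Fintype.card F = q)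
    (hι : Fintype.card ι = s)
    (S' : Matrix ι ι F) (hS' : S'ᵀ = S') (hS'u : IsUnit S')
    (t : Matrix.symplecticGroup (Fin m) F) (ht : t * t = 1)
    (hs : ((t : Matrix (Fin m ⊕ Fin m) (Fin m ⊕ Fin m) F) - 1).rank = s)
    (halt : IsAltInv t ↔ ∀ z : ι → F, z ⬝ᵥ S' *ᵥ z = 0) :
    Nat.card ↥(Subgroup.centralizer ({t} : Set (Matrix.symplecticGroup (Fin m) F))) *
      ∏ j ∈ Finset.range s, (q ^ (2 * m - j) - q ^ j) =
    Nat.card {Y : Matrix ι ι F // Y * S' * Yᵀ = S'} *
      Nat.card (Matrix.symplecticGroup (Fin m) F) := by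
  set e : ι ≃ Fin s := Fintype.equivFinOfCardEq hι with he
  rw [← card_orth_reindex e S']
  apply card_centralizer_mul hF _ _ _ t ht hs
  · rw [halt]
    simp only [Matrix.reindex_apply]
    have key : ∀ z : Fin s → F, z ⬝ᵥ S'.submatrix e.symm e.symm *ᵥ z =
        (z ∘ e) ⬝ᵥ S' *ᵥ (z ∘ e) := by
      intro z
      rw [Matrix.submatrix_mulVec_equiv, Equiv.symm_symm]
      have : z = (z ∘ e) ∘ e.symm := by
        funext i
        simp
      conv_lhs => rw [this]
      rw [comp_equiv_symm_dotProduct]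
      simp [Function.comp_assoc]
    constructor
    · intro h z
      rw [key]
      exact h _
    · intro h z
      have := h (z ∘ e.symm)
      rw [key] at this
      have e2 : (z ∘ e.symm) ∘ e = z := by
        funext i
        simp
      rw [e2] at this
      exact this
  · simp only [Matrix.reindex_apply]
    rw [Matrix.transpose_submatrix, hS']
  · simp only [Matrix.reindex_apply]
    exact (Matrix.isUnit_submatrix_equiv e.symm e.symm).2 hS'u

end reindex

section parity

open Cfsg.Agent.Lib.Helper5.Char2Form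

theorem even_rank_of_isAltInv [CharP F 2] (t : Matrix.symplecticGroup (Fin m) F) (ht : t * t = 1)
    (hs : ((t : Matrix (Fin m ⊕ Fin m) (Fin m ⊕ Fin m) F) - 1).rank = s) (halt : IsAltInv t) :
    Even s := by
  obtain ⟨g, S, hS, hg⟩ := exists_conj_uMat t ht
  have hg' : g * t * g⁻¹ = uS S hS := Subtype.ext hg
  have h1 := rank_conj_sub_one g t
  rw [hg, rank_uMat_sub_one, hs] at h1
  have h2 : IsAltInv (uS S hS) := by
    rw [← hg', isAltInv_conj]
    exact halt
  rw [isAltInv_uS] at h2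
  have h3 : (Matrix.toBilin' S).IsAlt := by
    intro x
    rw [Matrix.toBilin'_apply']
    exact h2 x
  have h4 := Cfsg.Agent.Lib.Helper5.AltForm.even_finrank_sub_ker h3
  have h5 := finrank_rad_toBilin' S hS
  rw [Module.finrank_fintype_fun_eq_card, Fintype.card_fin] at h4
  have h6 : m - finrank F ↥(LinearMap.ker (Matrix.toBilin' S)) = s := by
    unfold rad at h5
    omega
  rw [h6] at h4
  exact h4

end parity

section typeA

theorem J_symm [CharP F 2] (h : ℕ) : (Matrix.J (Fin h) F)ᵀ = Matrix.J (Fin h) F := by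
  rw [J_tr]
  ext i j
  rw [Matrix.neg_apply]
  exact neg_eq_self _

theorem J_alt (h : ℕ) (z : Fin h ⊕ Fin h → F) : z ⬝ᵥ Matrix.J (Fin h) F *ᵥ z = 0 :=
  sympForm_self z

theorem card_orth_J (h : ℕ) :
    Nat.card {Y : Matrix (Fin h ⊕ Fin h) (Fin h ⊕ Fin h) F //
      Y * Matrix.J (Fin h) F * Yᵀ = Matrix.J (Fin h) F} =
    Nat.card (Matrix.symplecticGroup (Fin h) F) :=
  Nat.card_congr (Equiv.subtypeEquivRight (fun _ => SymplecticGroup.mem_iff.symm))

/-- type `a`: the counting identity -/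
theorem card_centralizer_typeA [Fintype F] [CharP F 2] {q : ℕ} (hF : Fintype.card F = q)
    (h : ℕ) (t : Matrix.symplecticGroup (Fin m) F) (ht : t * t = 1)
    (hs : ((t : Matrix (Fin m ⊕ Fin m) (Fin m ⊕ Fin m) F) - 1).rank = 2 * h)
    (halt : IsAltInv t) :
    Nat.card ↥(Subgroup.centralizer ({t} : Set (Matrix.symplecticGroup (Fin m) F))) *
      ∏ j ∈ Finset.range (2 * h), (q ^ (2 * m - j) - q ^ j) =
    Nat.card (Matrix.symplecticGroup (Fin h) F) *
      Nat.card (Matrix.symplecticGroup (Fin m) F) := by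
  rw [← card_orth_J]
  apply card_centralizer_mul' hF _ _ (J_symm h) J_isUnit t ht hs
  · exact ⟨fun _ => J_alt h, fun _ => halt⟩
  · rw [Fintype.card_sum, Fintype.card_fin, two_mul]

end typeA

section rankone

variable {ι : Type*} [Fintype ι] [DecidableEq ι]

theorem mul_mul_transpose_diag (A Y : Matrix ι ι F) (i : ι) :
    (Y * A * Yᵀ) i i = Y i ⬝ᵥ A *ᵥ Y i := by
  rw [Matrix.mul_apply, Matrix.dotProduct_mulVec, dotProduct]
  apply Finset.sum_congr rfl
  intro k _
  rw [Matrix.transpose_apply, Matrix.mul_apply_eq_vecMul]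

theorem conj_vecMulVec (Y : Matrix ι ι F) (w : ι → F) :
    Y * Matrix.vecMulVec w w * Yᵀ = Matrix.vecMulVec (Y *ᵥ w) (Y *ᵥ w) := by
  rw [Matrix.mul_vecMulVec, Matrix.vecMulVec_mul, Matrix.vecMul_transpose]

theorem sq_eq_sq_char2 [CharP F 2] (a b : F) (h : a * a = b * b) : a = b := by
  have h1 : (a + b) * (a + b) = 0 := by
    have : (a + b) * (a + b) = a * a + b * b + (a * b + a * b) := by ring
    rw [this, CharTwo.add_self_eq_zero, add_zero, h, CharTwo.add_self_eq_zero]
  have h2 : a + b = 0 := by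
    rcases mul_eq_zero.1 h1 with h | h <;> exact h
  exact CharTwo.add_eq_zero.1 h2

theorem orth_add_vecMulVec_iff [CharP F 2] (A : Matrix ι ι F) (hA : ∀ z : ι → F, z ⬝ᵥ A *ᵥ z = 0)
    (w : ι → F) (Y : Matrix ι ι F) :
    Y * (A + Matrix.vecMulVec w w) * Yᵀ = A + Matrix.vecMulVec w w ↔
      Y * A * Yᵀ = A ∧ Y *ᵥ w = w := by
  constructor
  · intro h
    rw [Matrix.mul_add, Matrix.add_mul, conj_vecMulVec] at h
    have hw : Y *ᵥ w = w := by
      funext i
      have := congrFun (congrFun h i) i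
      rw [Matrix.add_apply, Matrix.add_apply, mul_mul_transpose_diag, hA, zero_add,
        Matrix.vecMulVec_apply, Matrix.vecMulVec_apply] at this
      have hAii : A i i = 0 := by
        have := hA (Pi.single i 1)
        rw [Matrix.mulVec_single_one, single_dotProduct, one_mul] at this
        exact this
      rw [hAii, zero_add] at this
      exact sq_eq_sq_char2 _ _ this
    rw [hw] at h
    exact ⟨add_right_cancel h, hw⟩
  · rintro ⟨h1, h2⟩
    rw [Matrix.mul_add, Matrix.add_mul, conj_vecMulVec, h1, h2]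

end rankone

section typeC

open Cfsg.Agent.Lib.Helper2.IsoFrames Cfsg.Agent.Lib.Helper2.SpFrames

/-- the non-alternating form of even dimension -/
def cMat (h : ℕ) (F : Type*) [Field F] (w : Fin h ⊕ Fin h → F) :
    Matrix (Fin h ⊕ Fin h) (Fin h ⊕ Fin h) F :=
  Matrix.J (Fin h) F + Matrix.vecMulVec w w

theorem cMat_symm [CharP F 2] (h : ℕ) (w : Fin h ⊕ Fin h → F) : (cMat h F w)ᵀ = cMat h F w := by
  unfold cMat
  rw [Matrix.transpose_add, J_symm, Matrix.transpose_vecMulVec]

theorem vecMulVec_J_vecMulVec (h : ℕ) (w : Fin h ⊕ Fin h → F) :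
    Matrix.vecMulVec w w * Matrix.J (Fin h) F * Matrix.vecMulVec w w = 0 := by
  rw [Matrix.vecMulVec_mul, Matrix.vecMulVec_mul_vecMulVec, ← Matrix.dotProduct_mulVec, J_alt,
    zero_smul]
  ext i j
  simp [Matrix.vecMulVec_apply]

theorem cMat_isUnit (h : ℕ) (w : Fin h ⊕ Fin h → F) : IsUnit (cMat h F w) := by
  have h1 : cMat h F w * (-Matrix.J (Fin h) F -
      Matrix.J (Fin h) F * Matrix.vecMulVec w w * Matrix.J (Fin h) F) = 1 := by
    unfold cMat
    set J := Matrix.J (Fin h) F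
    set W := Matrix.vecMulVec w w
    have hJJ : J * J = -1 := J_mul_J
    have hW : W * J * W = 0 := vecMulVec_J_vecMulVec h w
    have e1 : J * (J * W * J) = -(W * J) := by
      rw [← Matrix.mul_assoc, ← Matrix.mul_assoc, hJJ, Matrix.neg_mul, Matrix.neg_mul,
        Matrix.one_mul]
    have e2 : W * (J * W * J) = 0 := by
      rw [← Matrix.mul_assoc, ← Matrix.mul_assoc, hW, Matrix.zero_mul]
    rw [Matrix.add_mul, Matrix.mul_sub, Matrix.mul_sub, Matrix.mul_neg, Matrix.mul_neg, hJJ, e1,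
      e2, neg_neg, sub_neg_eq_add, sub_zero]
    abel
  exact ⟨⟨_, _, h1, _root_.mul_eq_one_comm.1 h1⟩, rfl⟩

theorem cMat_not_alt (h : ℕ) (i₀ : Fin h ⊕ Fin h) :
    ¬ ∀ z : Fin h ⊕ Fin h → F, z ⬝ᵥ cMat h F (Pi.single i₀ 1) *ᵥ z = 0 := by
  intro hall
  have := hall (Pi.single i₀ 1)
  unfold cMat at this
  rw [Matrix.add_mulVec, dotProduct_add, J_alt, zero_add, Matrix.vecMulVec_mulVec,
    single_dotProduct, one_mul] at this
  have h2 : (Pi.single i₀ (1 : F) : Fin h ⊕ Fin h → F) ⬝ᵥ Pi.single i₀ 1 = 1 := by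
    rw [single_dotProduct, one_mul, Pi.single_eq_same]
  rw [h2, MulOpposite.op_one, one_smul, Pi.single_eq_same] at this
  exact one_ne_zero this

theorem card_stab_vec [Fintype F] {q : ℕ} (hF : Fintype.card F = q) (h : ℕ)
    (w : Fin h ⊕ Fin h → F) (hw : w ≠ 0) :
    Nat.card (Matrix.symplecticGroup (Fin h) F) =
      (q ^ (2 * h) - 1) * Nat.card {g : Matrix.symplecticGroup (Fin h) F //
        (g : Matrix (Fin h ⊕ Fin h) (Fin h ⊕ Fin h) F) *ᵥ w = w} := by
  set u₁ : Fin 1 → (Fin h ⊕ Fin h → F) := fun _ => w with hu₁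
  have hu₁F : u₁ ∈ Frame (Cfsg.sympForm h F) 1 := by
    refine ⟨?_, fun i j => sympForm_self w⟩
    rw [linearIndependent_unique_iff]
    exact hw
  have h1 := Cfsg.Agent.Lib.Helper1.StabCard.card_eq_ncard_orbit_mul
    (G := Matrix.symplecticGroup (Fin h) F) u₁
  have horb : MulAction.orbit (Matrix.symplecticGroup (Fin h) F) u₁ =
      Frame (Cfsg.sympForm h F) 1 := by
    ext r
    rw [MulAction.mem_orbit_iff]
    constructor
    · rintro ⟨g, rfl⟩
      exact smul_mem_frame' g u₁ hu₁F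
    · intro hr
      exact frame_trans' u₁ r hu₁F hr
  rw [horb, ncard_frame hF, Finset.prod_range_one, pow_zero, Nat.sub_zero] at h1
  rw [h1]
  congr 1
  apply Nat.card_congr
  refine Equiv.subtypeEquivRight (fun g => ?_)
  rw [MulAction.mem_stabilizer_iff]
  constructor
  · intro hg
    exact congrFun hg 0
  · intro hg
    funext i
    exact hg

theorem card_orth_cMat [CharP F 2] (h : ℕ) (w : Fin h ⊕ Fin h → F) :
    Nat.card {Y : Matrix (Fin h ⊕ Fin h) (Fin h ⊕ Fin h) F //
      Y * cMat h F w * Yᵀ = cMat h F w} =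
    Nat.card {g : Matrix.symplecticGroup (Fin h) F //
        (g : Matrix (Fin h ⊕ Fin h) (Fin h ⊕ Fin h) F) *ᵥ w = w} := by
  apply Nat.card_congr
  refine ⟨fun Y => ⟨⟨Y.1, ?_⟩, ?_⟩, fun g => ⟨g.1.1, ?_⟩, ?_, ?_⟩
  · have := (orth_add_vecMulVec_iff _ (J_alt h) w Y.1).1 Y.2
    exact SymplecticGroup.mem_iff.2 this.1
  · exact ((orth_add_vecMulVec_iff _ (J_alt h) w Y.1).1 Y.2).2
  · exact (orth_add_vecMulVec_iff _ (J_alt h) w g.1.1).2 ⟨SymplecticGroup.mem_iff.1 g.1.2, g.2⟩
  · intro Y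
    rfl
  · intro g
    rfl

/-- type `c`: the counting identity -/
theorem card_centralizer_typeC [Fintype F] [CharP F 2] {q : ℕ} (hF : Fintype.card F = q)
    (h : ℕ) (t : Matrix.symplecticGroup (Fin m) F) (ht : t * t = 1)
    (hs : ((t : Matrix (Fin m ⊕ Fin m) (Fin m ⊕ Fin m) F) - 1).rank = 2 * (h + 1))
    (halt : ¬ IsAltInv t) :
    Nat.card ↥(Subgroup.centralizer ({t} : Set (Matrix.symplecticGroup (Fin m) F))) *
      (∏ j ∈ Finset.range (2 * (h + 1)), (q ^ (2 * m - j) - q ^ j)) * (q ^ (2 * (h + 1)) - 1) =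
    Nat.card (Matrix.symplecticGroup (Fin (h + 1)) F) *
      Nat.card (Matrix.symplecticGroup (Fin m) F) := by
  set w : Fin (h + 1) ⊕ Fin (h + 1) → F := Pi.single (Sum.inr 0) 1 with hw
  have hw0 : w ≠ 0 := by
    intro h0
    have := congrFun h0 (Sum.inr 0)
    rw [hw, Pi.single_eq_same] at this
    exact one_ne_zero this
  have h1 := card_centralizer_mul' hF (s := 2 * (h + 1))
    (by rw [Fintype.card_sum, Fintype.card_fin, two_mul]) (cMat (h + 1) F w) (cMat_symm _ w)
    (cMat_isUnit _ w) t ht hs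
    ⟨fun h' => absurd h' halt, fun h' => absurd h' (cMat_not_alt (h + 1) (Sum.inr 0))⟩
  rw [card_orth_cMat] at h1
  rw [h1, card_stab_vec hF (h + 1) w hw0]
  ring

end typeC

section typeB

/-- the non-alternating form of odd dimension -/
def bMat (h : ℕ) (F : Type*) [Field F] :
    Matrix (Unit ⊕ (Fin h ⊕ Fin h)) (Unit ⊕ (Fin h ⊕ Fin h)) F :=
  Matrix.fromBlocks 1 0 0 (Matrix.J (Fin h) F)

/-- its alternating part -/
def bAlt (h : ℕ) (F : Type*) [Field F] :
    Matrix (Unit ⊕ (Fin h ⊕ Fin h)) (Unit ⊕ (Fin h ⊕ Fin h)) F :=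
  Matrix.fromBlocks 0 0 0 (Matrix.J (Fin h) F)

/-- the distinguished vector -/
def bVec (h : ℕ) (F : Type*) [Field F] : Unit ⊕ (Fin h ⊕ Fin h) → F :=
  Sum.elim (fun _ => 1) (fun _ => 0)

theorem bMat_eq (h : ℕ) : bMat h F = bAlt h F + Matrix.vecMulVec (bVec h F) (bVec h F) := by
  ext i j
  rcases i with i | i <;> rcases j with j | j <;>
    simp [bMat, bAlt, bVec, Matrix.vecMulVec_apply, Matrix.one_apply]

theorem bAlt_alt (h : ℕ) (z : Unit ⊕ (Fin h ⊕ Fin h) → F) : z ⬝ᵥ bAlt h F *ᵥ z = 0 := by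
  unfold bAlt
  rw [Matrix.fromBlocks_mulVec, dotProduct, Fintype.sum_sum_type]
  simp only [Sum.elim_inl, Sum.elim_inr, Matrix.zero_mulVec, Pi.add_apply, Pi.zero_apply,
    add_zero, mul_zero, Finset.sum_const_zero, zero_add]
  exact J_alt h (z ∘ Sum.inr)

theorem bMat_symm [CharP F 2] (h : ℕ) : (bMat h F)ᵀ = bMat h F := by
  unfold bMat
  rw [Matrix.fromBlocks_transpose, J_symm]
  simp only [Matrix.transpose_one, Matrix.transpose_zero]

theorem bMat_isUnit (h : ℕ) : IsUnit (bMat h F) := by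
  have h1 : bMat h F * Matrix.fromBlocks 1 0 0 (-Matrix.J (Fin h) F) = 1 := by
    unfold bMat
    rw [Matrix.fromBlocks_multiply]
    simp only [Matrix.one_mul, Matrix.mul_zero, Matrix.zero_mul, add_zero, zero_add,
      Matrix.mul_neg, J_mul_J, neg_neg, neg_zero, Matrix.fromBlocks_one]
  exact ⟨⟨_, _, h1, _root_.mul_eq_one_comm.1 h1⟩, rfl⟩

theorem bMat_not_alt (h : ℕ) :
    ¬ ∀ z : Unit ⊕ (Fin h ⊕ Fin h) → F, z ⬝ᵥ bMat h F *ᵥ z = 0 := by
  intro hall
  have := hall (bVec h F)
  rw [bMat_eq, Matrix.add_mulVec, dotProduct_add, bAlt_alt, zero_add, Matrix.vecMulVec_mulVec] at this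
  have h2 : bVec h F ⬝ᵥ bVec h F = 1 := by
    rw [dotProduct, Fintype.sum_sum_type]
    simp [bVec]
  rw [h2, MulOpposite.op_one, one_smul, h2] at this
  exact one_ne_zero this

theorem card_orth_bMat [CharP F 2] (h : ℕ) :
    Nat.card {Y : Matrix (Unit ⊕ (Fin h ⊕ Fin h)) (Unit ⊕ (Fin h ⊕ Fin h)) F //
      Y * bMat h F * Yᵀ = bMat h F} =
    Nat.card (Matrix.symplecticGroup (Fin h) F) := by
  symm
  apply Nat.card_congr
  refine Equiv.ofBijective (fun D => ⟨Matrix.fromBlocks 1 0 0 D.1, ?_⟩) ⟨?_, ?_⟩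
  · have hD := SymplecticGroup.mem_iff.1 D.2
    unfold bMat
    rw [Matrix.fromBlocks_multiply, Matrix.fromBlocks_transpose, Matrix.fromBlocks_multiply]
    simp only [Matrix.one_mul, Matrix.mul_zero, Matrix.zero_mul, add_zero, zero_add,
      Matrix.transpose_one, Matrix.transpose_zero, Matrix.mul_one, hD]
  · intro D D' hDD'
    have := congrArg (fun Y => Y.1.toBlocks₂₂) hDD'
    simp only [Matrix.toBlocks_fromBlocks₂₂] at this
    exact Subtype.ext this
  · rintro ⟨Y, hY⟩
    rw [bMat_eq, orth_add_vecMulVec_iff _ (bAlt_alt h)] at hY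
    obtain ⟨hY1, hY2⟩ := hY
    -- first column
    have hcol : ∀ i, Y i (Sum.inl ()) = bVec h F i := by
      intro i
      have := congrFun hY2 i
      rw [← this, Matrix.mulVec, dotProduct, Fintype.sum_sum_type]
      simp [bVec]
    have h11 : Y.toBlocks₁₁ = 1 := by
      ext i j
      rw [Matrix.toBlocks₁₁, Matrix.of_apply, hcol]
      simp [bVec, Matrix.one_apply]
    have h21 : Y.toBlocks₂₁ = 0 := by
      ext i j
      rw [Matrix.toBlocks₂₁, Matrix.of_apply, hcol]
      simp [bVec]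
    have hYb : Y = Matrix.fromBlocks 1 Y.toBlocks₁₂ 0 Y.toBlocks₂₂ := by
      conv_lhs => rw [← Matrix.fromBlocks_toBlocks Y, h11, h21]
    set b := Y.toBlocks₁₂ with hb
    set D := Y.toBlocks₂₂ with hDdef
    rw [hYb] at hY1
    unfold bAlt at hY1
    rw [Matrix.fromBlocks_multiply, Matrix.fromBlocks_transpose, Matrix.fromBlocks_multiply] at hY1
    simp only [Matrix.one_mul, Matrix.mul_zero, Matrix.zero_mul, add_zero, zero_add,
      Matrix.transpose_one, Matrix.transpose_zero, Matrix.mul_one] at hY1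
    rw [Matrix.fromBlocks_inj] at hY1
    obtain ⟨-, h12, -, h22⟩ := hY1
    have hDmem : D ∈ Matrix.symplecticGroup (Fin h) F := SymplecticGroup.mem_iff.2 h22
    have hb0 : b = 0 := by
      have h1 : Dᵀ * Matrix.J (Fin h) F * D = Matrix.J (Fin h) F :=
        SymplecticGroup.mem_iff'.1 hDmem
      have h2 : b * Matrix.J (Fin h) F * Dᵀ * (Matrix.J (Fin h) F * D) = -b := by
        have : b * Matrix.J (Fin h) F * Dᵀ * (Matrix.J (Fin h) F * D) =
            b * Matrix.J (Fin h) F * (Dᵀ * Matrix.J (Fin h) F * D) := by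
          simp only [Matrix.mul_assoc]
        rw [this, h1, Matrix.mul_assoc, J_mul_J, Matrix.mul_neg, Matrix.mul_one]
      rw [h12, Matrix.zero_mul] at h2
      exact (neg_eq_zero.1 h2.symm)
    refine ⟨⟨D, hDmem⟩, ?_⟩
    apply Subtype.ext
    show Matrix.fromBlocks 1 0 0 D = Y
    rw [hYb, hb0]

/-- type `b`: the counting identity -/
theorem card_centralizer_typeB [Fintype F] [CharP F 2] {q : ℕ} (hF : Fintype.card F = q)
    (h : ℕ) (t : Matrix.symplecticGroup (Fin m) F) (ht : t * t = 1)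
    (hs : ((t : Matrix (Fin m ⊕ Fin m) (Fin m ⊕ Fin m) F) - 1).rank = 2 * h + 1) :
    Nat.card ↥(Subgroup.centralizer ({t} : Set (Matrix.symplecticGroup (Fin m) F))) *
      ∏ j ∈ Finset.range (2 * h + 1), (q ^ (2 * m - j) - q ^ j) =
    Nat.card (Matrix.symplecticGroup (Fin h) F) *
      Nat.card (Matrix.symplecticGroup (Fin m) F) := by
  have halt : ¬ IsAltInv t := by
    intro hcon
    have := even_rank_of_isAltInv t ht hs hcon
    rw [Nat.even_add_one] at this
    exact this (even_two_mul h)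
  rw [← card_orth_bMat (F := F) h]
  apply card_centralizer_mul' hF _ _ (bMat_symm h) (bMat_isUnit h) t ht hs
  · exact ⟨fun h' => absurd h' halt, fun h' => absurd h' (bMat_not_alt h)⟩
  · rw [Fintype.card_sum, Fintype.card_sum, Fintype.card_fin, Fintype.card_unit]
    omega

end typeB

end Cfsg.Agent.Lib.Helper5.SpCent
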