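import Mathlib
import Cfsg.Agent.Lib.Helper5.SpCent2
import Cfsg.Agent.Lib.Helper5.O2Sp

set_option autoImplicit false

/-!
Centralizers of involutions in orthogonal groups in characteristic two: frames with prescribed
values of the quadratic form.
-/

namespace Cfsg.Agent.Lib.Helper5.OCent

open Matrix Module Cfsg.Agent.Lib.Helper2.Symp Cfsg.Agent.Lib.Helper1.SpBasic
  Cfsg.Agent.Lib.Helper2.SpIsom Cfsg.Agent.Lib.Helper5.SpInv2 Cfsg.Agent.Lib.Helper5.SpCent
  Cfsg.Agent.Lib.Helper5.O2Sp Cfsg.Agent.Lib.Helper2.IsoFrames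

variable {F : Type*} [Field F] {m s : ℕ}

/-- every involution of the symplectic group comes from a frame -/
theorem exists_frame_of_invol [Fintype F] [CharP F 2]
    (S₁ : Matrix (Fin s) (Fin s) F) (hS₁ : S₁ᵀ = S₁) (hS₁u : IsUnit S₁)
    (t : Matrix.symplecticGroup (Fin m) F) (ht : t * t = 1)
    (hs : ((t : Matrix (Fin m ⊕ Fin m) (Fin m ⊕ Fin m) F) - 1).rank = s)
    (halt : IsAltInv t ↔ ∀ z : Fin s → F, z ⬝ᵥ S₁ *ᵥ z = 0) :
    ∃ u : Fin s → (Fin m ⊕ Fin m → F), u ∈ Frame (Cfsg.sympForm m F) s ∧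
      (t : Matrix (Fin m ⊕ Fin m) (Fin m ⊕ Fin m) F) = tMat S₁ u := by
  have hsm : s ≤ m := le_of_rank t ht hs
  have hsq : ∀ a : F, ∃ b : F, b * b = a := by
    intro a
    obtain ⟨c, hc⟩ := isSquare_of_charTwo' a
    exact ⟨c, hc.symm⟩
  have hu₀ := stdFrame_mem (F := F) hsm
  have hconj := conj_of_same_type hsq (tS S₁ hS₁ (stdFrame hsm) hu₀) t
    (tS_mul_self S₁ hS₁ _ hu₀) ht (by rw [hs, rank_tS S₁ hS₁ hS₁u _ hu₀])
    (by rw [isAltInv_tS, halt])
  obtain ⟨g, hg⟩ := isConj_iff.1 hconj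
  refine ⟨g • stdFrame hsm, smul_mem_frame' g _ hu₀, ?_⟩
  have h1 := conj_tS S₁ hS₁ (stdFrame hsm) hu₀ g
  have h2 : t = tS S₁ hS₁ (g • stdFrame hsm) (smul_mem_frame' g _ hu₀) := by
    rw [← hg, h1]
    group
  exact congrArg Subtype.val h2

/-- the symplectic form of `v` and its image, as a matrix identity -/
theorem form_tMat (S₁ : Matrix (Fin s) (Fin s) F) (u : Fin s → (Fin m ⊕ Fin m → F))
    (v : Fin m ⊕ Fin m → F) :
    Cfsg.sympForm m F v (nMat S₁ u *ᵥ v) =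
      -(((colMat u)ᵀ * Matrix.J (Fin m) F) *ᵥ v ⬝ᵥ
        S₁ *ᵥ (((colMat u)ᵀ * Matrix.J (Fin m) F) *ᵥ v)) := by
  unfold Cfsg.sympForm nMat
  rw [Matrix.mulVec_mulVec, Matrix.dotProduct_mulVec]
  have e1 : Matrix.J (Fin m) F * (colMat u * S₁ * (colMat u)ᵀ * Matrix.J (Fin m) F) =
      (Matrix.J (Fin m) F * colMat u) * (S₁ * ((colMat u)ᵀ * Matrix.J (Fin m) F)) := by
    simp only [Matrix.mul_assoc]
  rw [e1, ← Matrix.vecMul_vecMul, ← Matrix.dotProduct_mulVec, ← Matrix.mulVec_mulVec]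
  have e2 : v ᵥ* (Matrix.J (Fin m) F * colMat u) =
      -(((colMat u)ᵀ * Matrix.J (Fin m) F) *ᵥ v) := by
    rw [← Matrix.mulVec_transpose, Matrix.transpose_mul, J_tr, Matrix.mul_neg, Matrix.neg_mulVec]
  rw [e2, neg_dotProduct]

theorem colMat_mulVec_single (u : Fin s → (Fin m ⊕ Fin m → F)) (i : Fin s) :
    colMat u *ᵥ Pi.single i 1 = u i := by
  rw [Matrix.mulVec_single_one]
  rfl

variable {Qf : QuadraticForm F (Fin m ⊕ Fin m → F)}

theorem Q_add (hP : PolSymp Qf) (a b : Fin m ⊕ Fin m → F) :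
    Qf (a + b) = Qf a + Qf b + Cfsg.sympForm m F a b := by
  rw [← hP a b]
  ring

/-- the values of `Q` on a frame defining an isometry are forced -/
theorem Q_frame_of_preserves [CharP F 2] (hP : PolSymp Qf)
    (S₁ Si : Matrix (Fin s) (Fin s) F) (hSi : S₁ * Si = 1)
    (u : Fin s → (Fin m ⊕ Fin m → F)) (hu : u ∈ Frame (Cfsg.sympForm m F) s)
    (hpres : ∀ v, Qf (tMat S₁ u *ᵥ v) = Qf v) (i : Fin s) : Qf (u i) = Si i i := by
  obtain ⟨L, hL⟩ := exists_left_inv u hu.1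
  have hLt : (colMat u)ᵀ * Lᵀ = 1 := by
    rw [← Matrix.transpose_mul, hL, Matrix.transpose_one]
  have hJ : Matrix.J (Fin m) F * (-Matrix.J (Fin m) F) = 1 := by
    rw [Matrix.mul_neg, J_mul_J, neg_neg]
  set y : Fin s → F := Si *ᵥ Pi.single i 1 with hy
  set v : Fin m ⊕ Fin m → F := (-Matrix.J (Fin m) F * Lᵀ) *ᵥ y with hv
  have e3 : (colMat u)ᵀ * Matrix.J (Fin m) F * (-Matrix.J (Fin m) F * Lᵀ) = 1 := by
    rw [Matrix.mul_assoc, ← Matrix.mul_assoc (Matrix.J (Fin m) F), hJ, Matrix.one_mul, hLt]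
  have hyv : ((colMat u)ᵀ * Matrix.J (Fin m) F) *ᵥ v = y := by
    rw [hv, Matrix.mulVec_mulVec, e3, Matrix.one_mulVec]
  have hSy : S₁ *ᵥ y = Pi.single i 1 := by
    rw [hy, Matrix.mulVec_mulVec, hSi, Matrix.one_mulVec]
  have hNv : nMat S₁ u *ᵥ v = u i := by
    unfold nMat
    have : colMat u * S₁ * (colMat u)ᵀ * Matrix.J (Fin m) F =
        colMat u * (S₁ * ((colMat u)ᵀ * Matrix.J (Fin m) F)) := by
      simp only [Matrix.mul_assoc]
    rw [this, ← Matrix.mulVec_mulVec, ← Matrix.mulVec_mulVec, hyv, hSy, colMat_mulVec_single]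
  have h1 := hpres v
  unfold tMat at h1
  rw [Matrix.add_mulVec, Matrix.one_mulVec, hNv, Q_add hP] at h1
  have h2 := form_tMat S₁ u v
  rw [hNv, hyv, hSy, dotProduct_single, mul_one] at h2
  have h3 : y i = Si i i := by
    rw [hy, Matrix.mulVec_single_one]
    rfl
  rw [h2, h3] at h1
  have h4 : Qf (u i) - Si i i = 0 := by
    have : Qf v + Qf (u i) + -Si i i - Qf v = 0 := by rw [h1, sub_self]
    rw [← this]
    ring
  exact sub_eq_zero.1 h4

/-- Q-frames: isotropic frames with prescribed values of the quadratic form -/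
def QFrame (Qf : QuadraticForm F (Fin m ⊕ Fin m → F)) (c : Fin s → F) :
    Set (Fin s → (Fin m ⊕ Fin m → F)) :=
  {u | u ∈ Frame (Cfsg.sympForm m F) s ∧ ∀ i, Qf (u i) = c i}

theorem colMat_mulVec_eq_sum (u : Fin s → (Fin m ⊕ Fin m → F)) (z : Fin s → F) :
    colMat u *ᵥ z = ∑ i, z i • u i := by
  funext k
  rw [Matrix.mulVec, dotProduct, Finset.sum_apply]
  apply Finset.sum_congr rfl
  intro i _
  rw [colMat_apply, Pi.smul_apply, smul_eq_mul, mul_comm]

theorem Q_sum_isotropic (hP : PolSymp Qf) (u : Fin s → (Fin m ⊕ Fin m → F))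
    (hu : ∀ i j, Cfsg.sympForm m F (u i) (u j) = 0) (z : Fin s → F) (t : Finset (Fin s)) :
    Qf (∑ i ∈ t, z i • u i) = ∑ i ∈ t, z i * z i * Qf (u i) := by
  classical
  induction t using Finset.induction_on with
  | empty => simp
  | insert a t ha ih =>
    rw [Finset.sum_insert ha, Finset.sum_insert ha, Q_add hP, ih, QuadraticMap.map_smul,
      smul_eq_mul]
    have h0 : Cfsg.sympForm m F (z a • u a) (∑ i ∈ t, z i • u i) = 0 := by
      rw [← sympBilin_apply, map_sum]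
      apply Finset.sum_eq_zero
      intro i _
      rw [map_smul, LinearMap.BilinForm.smul_left, sympBilin_apply, hu, mul_zero, smul_zero]
    rw [h0, add_zero]

theorem Q_colMat_mulVec (hP : PolSymp Qf) (u : Fin s → (Fin m ⊕ Fin m → F))
    (hu : ∀ i j, Cfsg.sympForm m F (u i) (u j) = 0) (z : Fin s → F) :
    Qf (colMat u *ᵥ z) = ∑ i, z i * z i * Qf (u i) := by
  rw [colMat_mulVec_eq_sum]
  exact Q_sum_isotropic hP u hu z Finset.univ

/-- transitivity of the orthogonal group on Q-frames -/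
theorem qframe_trans (hP : PolSymp Qf) (c : Fin s → F)
    (u u' : Fin s → (Fin m ⊕ Fin m → F)) (hu : u ∈ QFrame Qf c) (hu' : u' ∈ QFrame Qf c) :
    ∃ g : ↥(Cfsg.isometryGroup F ⇑Qf), ∀ i,
      ((g : Matrix.GeneralLinearGroup (Fin m ⊕ Fin m) F) :
        Matrix (Fin m ⊕ Fin m) (Fin m ⊕ Fin m) F) *ᵥ u i = u' i := by
  obtain ⟨L, hL⟩ := exists_left_inv u hu.1.1
  obtain ⟨L', hL'⟩ := exists_left_inv u' hu'.1.1
  set X : Submodule F (Fin m ⊕ Fin m → F) := LinearMap.range (Matrix.toLin' (colMat u)) with hX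
  set α : (Fin m ⊕ Fin m → F) →ₗ[F] (Fin m ⊕ Fin m → F) := Matrix.toLin' (colMat u' * L) with hα
  have hαU : ∀ z : Fin s → F, α (colMat u *ᵥ z) = colMat u' *ᵥ z := by
    intro z
    rw [hα, Matrix.toLin'_apply, Matrix.mulVec_mulVec, Matrix.mul_assoc, hL, Matrix.mul_one]
  obtain ⟨g, hg1, hg2⟩ := Cfsg.Agent.Lib.Helper2.Witt.witt Qf hP.nondeg X α
    (by
      rintro x ⟨z, rfl⟩
      have hz : Matrix.toLin' (colMat u) z = colMat u *ᵥ z := Matrix.toLin'_apply _ _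
      rw [hz, hαU, Q_colMat_mulVec hP u' hu'.1.2, Q_colMat_mulVec hP u hu.1.2]
      apply Finset.sum_congr rfl
      intro i _
      rw [hu.2, hu'.2])
    (by
      rintro x ⟨z, rfl⟩ h0
      have hz : Matrix.toLin' (colMat u) z = colMat u *ᵥ z := Matrix.toLin'_apply _ _
      rw [hz, hαU] at h0
      have : z = 0 := by
        have := congrArg (fun w => L' *ᵥ w) h0
        simp only [Matrix.mulVec_mulVec, hL', Matrix.one_mulVec, Matrix.mulVec_zero] at this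
        exact this
      rw [this, map_zero])
  obtain ⟨g₀, hg₀⟩ := Cfsg.Agent.Lib.Helper5.OmegaAdjust.exists_iso_of_linearEquiv g hg1
  refine ⟨g₀, fun i => ?_⟩
  rw [hg₀, ← colMat_mulVec_single u i]
  have hmem : colMat u *ᵥ Pi.single i 1 ∈ X := ⟨Pi.single i 1, by rw [Matrix.toLin'_apply]⟩
  rw [hg2 _ hmem, hαU, colMat_mulVec_single]

end Cfsg.Agent.Lib.Helper5.OCent
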