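import Mathlib
import Cfsg.Agent.Lib.Helper5.OCent1

set_option autoImplicit false

/-!
Centralizers of involutions in orthogonal groups in characteristic two: the counting identity
`|C(x)| * #Q-frames = |O(S₁)| * |O(Q)|`.
-/

namespace Cfsg.Agent.Lib.Helper5.OCent

open Matrix Module Cfsg.Agent.Lib.Helper2.Symp Cfsg.Agent.Lib.Helper1.SpBasic
  Cfsg.Agent.Lib.Helper2.SpIsom Cfsg.Agent.Lib.Helper5.SpInv2 Cfsg.Agent.Lib.Helper5.SpCent
  Cfsg.Agent.Lib.Helper5.O2Sp Cfsg.Agent.Lib.Helper2.IsoFrames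

variable {F : Type*} [Field F] {m s : ℕ} {Qf : QuadraticForm F (Fin m ⊕ Fin m → F)}

theorem smul_tup (g : ↥(Cfsg.isometryGroup F ⇑Qf)) (u : Fin s → (Fin m ⊕ Fin m → F)) :
    g • u = fun i => ((g : Matrix.GeneralLinearGroup (Fin m ⊕ Fin m) F) :
        Matrix (Fin m ⊕ Fin m) (Fin m ⊕ Fin m) F) *ᵥ u i := rfl

theorem smul_tup_toSpQ (hP : PolSymp Qf) (g : ↥(Cfsg.isometryGroup F ⇑Qf))
    (u : Fin s → (Fin m ⊕ Fin m → F)) : g • u = toSpQ hP g • u := rfl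

theorem smul_mem_qframe (hP : PolSymp Qf) (c : Fin s → F) (g : ↥(Cfsg.isometryGroup F ⇑Qf))
    (u : Fin s → (Fin m ⊕ Fin m → F)) (hu : u ∈ QFrame Qf c) : g • u ∈ QFrame Qf c := by
  refine ⟨?_, fun i => ?_⟩
  · rw [smul_tup_toSpQ hP]
    exact smul_mem_frame' _ u hu.1
  · rw [smul_tup]
    show Qf (((g : Matrix.GeneralLinearGroup (Fin m ⊕ Fin m) F) :
        Matrix (Fin m ⊕ Fin m) (Fin m ⊕ Fin m) F) *ᵥ u i) = c i
    rw [← hu.2 i]
    exact g.2 (u i) (u i)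

theorem card_centralizer_O [Fintype F] [CharP F 2] (hP : PolSymp Qf)
    (S₁ Si : Matrix (Fin s) (Fin s) F) (hS₁ : S₁ᵀ = S₁) (hSi : S₁ * Si = 1)
    (x : ↥(Cfsg.isometryGroup F ⇑Qf))
    (u₀ : Fin s → (Fin m ⊕ Fin m → F)) (hu₀ : u₀ ∈ Frame (Cfsg.sympForm m F) s)
    (hx : ((x : Matrix.GeneralLinearGroup (Fin m ⊕ Fin m) F) :
        Matrix (Fin m ⊕ Fin m) (Fin m ⊕ Fin m) F) = tMat S₁ u₀) :
    Nat.card ↥(Subgroup.centralizer ({x} : Set ↥(Cfsg.isometryGroup F ⇑Qf))) *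
      (QFrame Qf (fun i => Si i i)).ncard =
    Nat.card {X : Matrix (Fin s) (Fin s) F // X * S₁ * Xᵀ = S₁} *
      Nat.card ↥(Cfsg.isometryGroup F ⇑Qf) := by
  classical
  have hS₁u : IsUnit S₁ := ⟨⟨S₁, Si, hSi, _root_.mul_eq_one_comm.1 hSi⟩, rfl⟩
  have hpres : ∀ v, Qf (tMat S₁ u₀ *ᵥ v) = Qf v := by
    intro v
    rw [← hx]
    exact x.2 v v
  have hu₀Q : u₀ ∈ QFrame Qf (fun i => Si i i) :=
    ⟨hu₀, fun i => Q_frame_of_preserves hP S₁ Si hSi u₀ hu₀ hpres i⟩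
  -- orbit of u₀ under G
  have h1 := Cfsg.Agent.Lib.Helper1.StabCard.card_eq_ncard_orbit_mul
    (G := ↥(Cfsg.isometryGroup F ⇑Qf)) u₀
  have horb : MulAction.orbit ↥(Cfsg.isometryGroup F ⇑Qf) u₀ = QFrame Qf (fun i => Si i i) := by
    ext r
    rw [MulAction.mem_orbit_iff]
    constructor
    · rintro ⟨g, rfl⟩
      exact smul_mem_qframe hP _ g u₀ hu₀Q
    · intro hr
      obtain ⟨g, hg⟩ := qframe_trans hP _ u₀ r hu₀Q hr
      exact ⟨g, funext hg⟩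
  rw [horb] at h1
  -- orbit of u₀ under the centralizer
  set O : Set (Fin s → (Fin m ⊕ Fin m → F)) :=
    {r | r ∈ QFrame Qf (fun i => Si i i) ∧ tMat S₁ r = tMat S₁ u₀} with hO
  have hcent : ∀ g : ↥(Cfsg.isometryGroup F ⇑Qf),
      g ∈ Subgroup.centralizer ({x} : Set ↥(Cfsg.isometryGroup F ⇑Qf)) ↔
      tMat S₁ (g • u₀) = tMat S₁ u₀ := by
    intro g
    rw [Subgroup.mem_centralizer_singleton_iff]
    have hc := conj_tMat S₁ (toSpQ hP g) u₀
    rw [toSpQ_coe] at hc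
    have hgu : IsUnit ((g : Matrix.GeneralLinearGroup (Fin m ⊕ Fin m) F) :
        Matrix (Fin m ⊕ Fin m) (Fin m ⊕ Fin m) F) :=
      ⟨(g : Matrix.GeneralLinearGroup (Fin m ⊕ Fin m) F), rfl⟩
    have hmat : g * x = x * g ↔
        ((g : Matrix.GeneralLinearGroup (Fin m ⊕ Fin m) F) :
          Matrix (Fin m ⊕ Fin m) (Fin m ⊕ Fin m) F) * tMat S₁ u₀ =
        tMat S₁ u₀ * ((g : Matrix.GeneralLinearGroup (Fin m ⊕ Fin m) F) :
          Matrix (Fin m ⊕ Fin m) (Fin m ⊕ Fin m) F) := by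
      rw [← hx]
      constructor
      · intro h
        have := congrArg (fun y : ↥(Cfsg.isometryGroup F ⇑Qf) =>
          ((y : Matrix.GeneralLinearGroup (Fin m ⊕ Fin m) F) :
            Matrix (Fin m ⊕ Fin m) (Fin m ⊕ Fin m) F)) h
        exact this
      · intro h
        apply Subtype.ext
        apply Units.ext
        exact h
    rw [hmat, hc]
    constructor
    · intro h
      exact hgu.mul_left_injective h
    · intro h
      show tMat S₁ (g • u₀) * _ = _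
      rw [h]
  have h2 := Cfsg.Agent.Lib.Helper1.StabCard.card_subgroup_eq_orbit_mul
    (Subgroup.centralizer ({x} : Set ↥(Cfsg.isometryGroup F ⇑Qf))) u₀ O (by
      intro r
      constructor
      · rintro ⟨hr, hrt⟩
        obtain ⟨g, hg⟩ := qframe_trans hP _ u₀ r hu₀Q hr
        have hgr : g • u₀ = r := funext hg
        subst hgr
        exact ⟨g, (hcent g).2 hrt, rfl⟩
      · rintro ⟨g, hg, rfl⟩
        exact ⟨smul_mem_qframe hP _ g u₀ hu₀Q, (hcent g).1 hg⟩)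
  have h3 : Subgroup.centralizer ({x} : Set ↥(Cfsg.isometryGroup F ⇑Qf)) ⊓
        MulAction.stabilizer ↥(Cfsg.isometryGroup F ⇑Qf) u₀ =
      MulAction.stabilizer ↥(Cfsg.isometryGroup F ⇑Qf) u₀ := by
    apply inf_eq_right.2
    intro g hg
    rw [MulAction.mem_stabilizer_iff] at hg
    rw [hcent, hg]
  rw [h3] at h2
  -- the orbit and the orthogonal group of S₁
  obtain ⟨L₀, hL₀⟩ := exists_left_inv u₀ hu₀.1
  have hinv : ∀ X : Matrix (Fin s) (Fin s) F, X * S₁ * Xᵀ = S₁ → ∃ Y, Y * X = 1 := by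
    intro X hX
    refine ⟨S₁ * Xᵀ * Si, ?_⟩
    apply _root_.mul_eq_one_comm.1
    rw [← Matrix.mul_assoc, ← Matrix.mul_assoc, hX, hSi]
  have hmemO : ∀ X : Matrix (Fin s) (Fin s) F, X * S₁ * Xᵀ = S₁ → mulTup u₀ X ∈ O := by
    intro X hX
    obtain ⟨Y, hY⟩ := hinv X hX
    have hfr := mulTup_mem_frame u₀ hu₀ X Y hY
    have heq : tMat S₁ (mulTup u₀ X) = tMat S₁ u₀ :=
      (tMat_eq_iff S₁ hS₁u u₀ _ hu₀.1 hfr.1).2 ⟨X, hX, rfl⟩
    refine ⟨⟨hfr, fun i => ?_⟩, heq⟩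
    apply Q_frame_of_preserves hP S₁ Si hSi _ hfr
    rw [heq]
    exact hpres
  have h4 : O.ncard = Nat.card {X : Matrix (Fin s) (Fin s) F // X * S₁ * Xᵀ = S₁} := by
    rw [← Nat.card_coe_set_eq]
    symm
    apply Nat.card_congr
    refine Equiv.ofBijective (fun X => ⟨mulTup u₀ X.1, hmemO X.1 X.2⟩) ⟨?_, ?_⟩
    · intro X X' h
      have h' := congrArg (fun r => colMat r.1) h
      simp only [colMat_mulTup] at h'
      have := congrArg (fun M => L₀ * M) h'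
      simp only [← Matrix.mul_assoc, hL₀, Matrix.one_mul] at this
      exact Subtype.ext this
    · rintro ⟨r, hr, hrt⟩
      obtain ⟨X, hX, hrX⟩ := (tMat_eq_iff S₁ hS₁u u₀ r hu₀.1 hr.1.1).1 hrt
      refine ⟨⟨X, hX⟩, ?_⟩
      apply Subtype.ext
      apply colMat_injective
      rw [hrX]
      rfl
  rw [h2, h4, h1]
  ring

end Cfsg.Agent.Lib.Helper5.OCent
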