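import Mathlib
import Cfsg.Agent.Lib.Helper5.OCent2

set_option autoImplicit false

/-!
Counting frames with prescribed values of a quadratic form in characteristic two.
-/

namespace Cfsg.Agent.Lib.Helper5.OCent

open Matrix Module Cfsg.Agent.Lib.Helper2.Symp Cfsg.Agent.Lib.Helper1.SpBasic
  Cfsg.Agent.Lib.Helper2.SpIsom Cfsg.Agent.Lib.Helper5.SpInv2 Cfsg.Agent.Lib.Helper5.SpCent
  Cfsg.Agent.Lib.Helper5.O2Sp Cfsg.Agent.Lib.Helper2.IsoFrames Cfsg.Agent.Lib.Helper2.SpFrames

variable {F : Type*} [Field F] {m : ℕ} {Qf : QuadraticForm F (Fin m ⊕ Fin m → F)}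

/-- vectors orthogonal to a tuple -/
def Perp {j : ℕ} (u : Fin j → (Fin m ⊕ Fin m → F)) : Submodule F (Fin m ⊕ Fin m → F) :=
  (sympBilin m F).orthogonal (Submodule.span F (Set.range u))

theorem mem_Perp {j : ℕ} (u : Fin j → (Fin m ⊕ Fin m → F)) (v : Fin m ⊕ Fin m → F) :
    v ∈ Perp u ↔ ∀ i, Cfsg.sympForm m F (u i) v = 0 := by
  unfold Perp
  rw [LinearMap.BilinForm.mem_orthogonal_iff]
  constructor
  · intro h i
    have := h (u i) (Submodule.subset_span ⟨i, rfl⟩)
    rw [sympBilin_apply] at this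
    exact this
  · intro h n hn
    induction hn using Submodule.span_induction with
    | mem x hx =>
      obtain ⟨i, rfl⟩ := hx
      rw [sympBilin_apply]
      exact h i
    | zero => rw [map_zero, LinearMap.zero_apply]
    | add x y _ _ hx hy => rw [map_add, LinearMap.add_apply, hx, hy, add_zero]
    | smul c x _ hx => rw [map_smul, LinearMap.smul_apply, hx, smul_zero]

theorem finrank_Perp {j : ℕ} (u : Fin j → (Fin m ⊕ Fin m → F)) (hu : LinearIndependent F u) :
    finrank F (Perp u) = 2 * m - j := by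
  unfold Perp
  rw [LinearMap.BilinForm.finrank_orthogonal sympBilin_nondeg, finrank_span_eq_card hu,
    Fintype.card_fin, Module.finrank_fintype_fun_eq_card, Fintype.card_sum, Fintype.card_fin,
    two_mul]

theorem card_Perp [Fintype F] {j : ℕ} (u : Fin j → (Fin m ⊕ Fin m → F))
    (hu : LinearIndependent F u) : Nat.card (Perp u) = Fintype.card F ^ (2 * m - j) := by
  rw [Module.natCard_eq_pow_finrank (K := F), Nat.card_eq_fintype_card, finrank_Perp u hu]

/-- vectors orthogonal to a tuple with a given value of `Q` -/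
def Ac (Qf : QuadraticForm F (Fin m ⊕ Fin m → F)) {j : ℕ} (u : Fin j → (Fin m ⊕ Fin m → F))
    (c : F) : Set (Fin m ⊕ Fin m → F) :=
  {v | v ∈ Perp u ∧ Qf v = c}

theorem mem_Perp_cons {j : ℕ} (u : Fin j → (Fin m ⊕ Fin m → F)) (w v : Fin m ⊕ Fin m → F) :
    v ∈ Perp (Fin.cons w u : Fin (j + 1) → (Fin m ⊕ Fin m → F)) ↔
      v ∈ Perp u ∧ Cfsg.sympForm m F w v = 0 := by
  rw [mem_Perp, mem_Perp]
  constructor
  · intro h
    refine ⟨fun i => ?_, ?_⟩
    · have := h i.succ
      rwa [Fin.cons_succ] at this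
    · have := h 0
      rwa [Fin.cons_zero] at this
  · rintro ⟨h1, h2⟩ i
    refine Fin.cases ?_ (fun i' => ?_) i
    · rw [Fin.cons_zero]; exact h2
    · rw [Fin.cons_succ]; exact h1 i'

theorem ncard_submodule' [Fintype F] (U : Submodule F (Fin m ⊕ Fin m → F)) :
    (U : Set (Fin m ⊕ Fin m → F)).ncard = Nat.card U := by
  rw [← Nat.card_coe_set_eq]
  rfl

theorem ncard_Ac_cons [Fintype F] (hP : PolSymp Qf) {j : ℕ} (u : Fin j → (Fin m ⊕ Fin m → F))
    (w : Fin m ⊕ Fin m → F) (hw : w ∈ Perp u) (hwQ : Qf w = 0)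
    (hli : LinearIndependent F (Fin.cons w u : Fin (j + 1) → (Fin m ⊕ Fin m → F))) (c : F) :
    ∃ K : ℕ, K * Fintype.card F =
        Fintype.card F ^ (2 * m - j) - Fintype.card F ^ (2 * m - (j + 1)) ∧
      (Ac Qf u c).ncard = (Ac Qf (Fin.cons w u : Fin (j + 1) → (Fin m ⊕ Fin m → F)) c).ncard + K := by
  classical
  have hu : LinearIndependent F u := by
    have := hli.comp Fin.succ (Fin.succ_injective j)
    have h2 : (Fin.cons w u : Fin (j + 1) → (Fin m ⊕ Fin m → F)) ∘ Fin.succ = u := by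
      funext i
      simp
    rwa [h2] at this
  set B : Set (Fin m ⊕ Fin m → F) :=
    {v | v ∈ Perp u ∧ Qf v = c ∧ Cfsg.sympForm m F w v ≠ 0} with hB
  set D : Set (Fin m ⊕ Fin m → F) := {v | v ∈ Perp u ∧ Cfsg.sympForm m F w v ≠ 0} with hD
  refine ⟨B.ncard, ?_, ?_⟩
  · -- B × F ≃ D
    have hD1 : D = (Perp u : Set (Fin m ⊕ Fin m → F)) \
        (Perp (Fin.cons w u : Fin (j + 1) → (Fin m ⊕ Fin m → F)) : Set (Fin m ⊕ Fin m → F)) := by
      ext v
      simp only [hD, Set.mem_setOf_eq, Set.mem_diff, SetLike.mem_coe, mem_Perp_cons]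
      tauto
    have hsub : (Perp (Fin.cons w u : Fin (j + 1) → (Fin m ⊕ Fin m → F)) :
        Set (Fin m ⊕ Fin m → F)) ⊆ (Perp u : Set (Fin m ⊕ Fin m → F)) := by
      intro v hv
      exact ((mem_Perp_cons u w v).1 hv).1
    have hDcard : D.ncard =
        Fintype.card F ^ (2 * m - j) - Fintype.card F ^ (2 * m - (j + 1)) := by
      rw [hD1, Set.ncard_sdiff hsub, ncard_submodule', ncard_submodule', card_Perp u hu,
        card_Perp _ hli]
    rw [← hDcard, ← Nat.card_coe_set_eq, ← Nat.card_coe_set_eq, ← Nat.card_eq_fintype_card (α := F),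
      ← Nat.card_prod]
    apply Nat.card_congr
    refine Equiv.ofBijective (fun p => ⟨p.1.1 + p.2 • w, ?_, ?_⟩) ⟨?_, ?_⟩
    · exact (Perp u).add_mem p.1.2.1 ((Perp u).smul_mem _ hw)
    · rw [sympForm_add_right, sympForm_smul_right, sympForm_self, mul_zero, add_zero]
      exact p.1.2.2.2
    · rintro ⟨⟨v, hv1, hv2, hv3⟩, b⟩ ⟨⟨v', hv1', hv2', hv3'⟩, b'⟩ h
      have h1 : v + b • w = v' + b' • w := congrArg Subtype.val h
      have hQ1 : Qf (v + b • w) = c + b * Cfsg.sympForm m F v w := by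
        rw [Q_add hP, QuadraticMap.map_smul, hwQ, hv2, sympForm_smul_right]
        simp
      have hQ2 : Qf (v' + b' • w) = c + b' * Cfsg.sympForm m F v' w := by
        rw [Q_add hP, QuadraticMap.map_smul, hwQ, hv2', sympForm_smul_right]
        simp
      have hf : Cfsg.sympForm m F v w = Cfsg.sympForm m F v' w := by
        have h2 := congrArg (fun z => Cfsg.sympForm m F z w) h1
        simp only [sympForm_add_left, sympForm_smul_left, sympForm_self, mul_zero, add_zero] at h2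
        exact h2
      have hb : b = b' := by
        have h3 : c + b * Cfsg.sympForm m F v w = c + b' * Cfsg.sympForm m F v' w := by
          rw [← hQ1, ← hQ2, h1]
        rw [← hf] at h3
        have h4 : Cfsg.sympForm m F v w ≠ 0 := by
          rw [sympForm_swap]
          exact neg_ne_zero.2 hv3
        exact mul_right_cancel₀ h4 (add_left_cancel h3)
      subst hb
      have hv : v = v' := add_right_cancel h1
      subst hv
      rfl
    · rintro ⟨d, hd1, hd2⟩
      have ha : Cfsg.sympForm m F d w ≠ 0 := by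
        rw [sympForm_swap]
        exact neg_ne_zero.2 hd2
      set b : F := (Qf d - c) / Cfsg.sympForm m F d w with hb
      refine ⟨⟨⟨d - b • w, (Perp u).sub_mem hd1 ((Perp u).smul_mem _ hw), ?_, ?_⟩, b⟩, ?_⟩
      · rw [sub_eq_add_neg, ← neg_smul, Q_add hP, QuadraticMap.map_smul, hwQ, sympForm_smul_right]
        rw [hb]
        field_simp
        ring
      · rw [sympForm_sub_right, sympForm_smul_right, sympForm_self, mul_zero, sub_zero]
        exact hd2
      · apply Subtype.ext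
        show d - b • w + b • w = d
        rw [sub_add_cancel]
  · have hAeq : Ac Qf u c =
        Ac Qf (Fin.cons w u : Fin (j + 1) → (Fin m ⊕ Fin m → F)) c ∪ B := by
      ext v
      simp only [Ac, hB, Set.mem_setOf_eq, Set.mem_union, mem_Perp_cons]
      tauto
    have hdisj : Disjoint (Ac Qf (Fin.cons w u : Fin (j + 1) → (Fin m ⊕ Fin m → F)) c) B := by
      rw [Set.disjoint_left]
      rintro v ⟨hv1, -⟩ ⟨-, -, hv3⟩
      exact hv3 ((mem_Perp_cons u w v).1 hv1).2
    rw [hAeq, Set.ncard_union_eq hdisj (Set.toFinite _) (Set.toFinite _)]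

theorem tail_mem_qframe {j : ℕ} (u : Fin (j + 1) → (Fin m ⊕ Fin m → F))
    (hu : u ∈ QFrame Qf (0 : Fin (j + 1) → F)) :
    Fin.tail u ∈ QFrame Qf (0 : Fin j → F) := by
  have h0 : (Fin.cons (u 0) (Fin.tail u) : Fin (j + 1) → (Fin m ⊕ Fin m → F)) = u :=
    Fin.cons_self_tail u
  have h1 := hu.1
  rw [← h0, cons_mem_iff] at h1
  exact ⟨h1.1, fun i => hu.2 i.succ⟩

/-- the number of vectors orthogonal to a totally singular frame with a given value of `Q` -/
theorem ncard_Ac [Fintype F] (hP : PolSymp Qf) (c : F) :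
    ∀ (j : ℕ) (_ : j ≤ m) (u : Fin j → (Fin m ⊕ Fin m → F)),
      u ∈ QFrame Qf (0 : Fin j → F) →
      (Ac Qf u c).ncard + Fintype.card F ^ (2 * m - 1) =
        {v : Fin m ⊕ Fin m → F | Qf v = c}.ncard + Fintype.card F ^ (2 * m - j - 1) := by
  intro j
  induction j with
  | zero =>
    intro _ u _
    have : Ac Qf u c = {v : Fin m ⊕ Fin m → F | Qf v = c} := by
      ext v
      simp only [Ac, Set.mem_setOf_eq, mem_Perp]
      constructor
      · exact fun h => h.2
      · exact fun h => ⟨fun i => i.elim0, h⟩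
    rw [this, Nat.sub_zero]
  | succ j ih =>
    intro hj u hu
    have htail := tail_mem_qframe u hu
    have h0 : (Fin.cons (u 0) (Fin.tail u) : Fin (j + 1) → (Fin m ⊕ Fin m → F)) = u :=
      Fin.cons_self_tail u
    have hw : u 0 ∈ Perp (Fin.tail u) := by
      rw [mem_Perp]
      intro i
      exact hu.1.2 i.succ 0
    obtain ⟨K, hK, hA⟩ := ncard_Ac_cons hP (Fin.tail u) (u 0) hw (hu.2 0)
      (by rw [h0]; exact hu.1.1) c
    rw [h0] at hA
    have ih' := ih (by omega) (Fin.tail u) htail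
    rw [hA] at ih'
    have hq : 0 < Fintype.card F := Fintype.card_pos
    obtain ⟨a, ha⟩ : ∃ a, 2 * m - (j + 1) - 1 = a := ⟨_, rfl⟩
    have e1 : 2 * m - j = a + 2 := by omega
    have e2 : 2 * m - (j + 1) = a + 1 := by omega
    have e3 : 2 * m - j - 1 = a + 1 := by omega
    rw [e1, e2] at hK
    rw [e3] at ih'
    rw [ha]
    have hK' : K + Fintype.card F ^ a = Fintype.card F ^ (a + 1) := by
      have h1 : Fintype.card F ^ (a + 1) ≤ Fintype.card F ^ (a + 2) :=
        Nat.pow_le_pow_right hq (by omega)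
      have h2 : K * Fintype.card F + Fintype.card F ^ (a + 1) = Fintype.card F ^ (a + 2) := by
        omega
      have h3 : (K + Fintype.card F ^ a) * Fintype.card F =
          Fintype.card F ^ (a + 1) * Fintype.card F := by
        rw [add_mul, ← pow_succ, ← pow_succ]
        exact h2
      exact Nat.eq_of_mul_eq_mul_right hq h3
    omega

/-- extensions of a Q-frame by a vector with a prescribed value of `Q` -/
def QExt (Qf : QuadraticForm F (Fin m ⊕ Fin m → F)) {j : ℕ} (u : Fin j → (Fin m ⊕ Fin m → F))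
    (c₀ : F) : Set (Fin m ⊕ Fin m → F) :=
  {v | v ∈ Extn (Cfsg.sympForm m F) u ∧ Qf v = c₀}

theorem qframe_cons_iff {j : ℕ} (u : Fin j → (Fin m ⊕ Fin m → F)) (v : Fin m ⊕ Fin m → F)
    (c : Fin j → F) (c₀ : F) :
    (Fin.cons v u : Fin (j + 1) → (Fin m ⊕ Fin m → F)) ∈
      QFrame Qf (Fin.cons c₀ c : Fin (j + 1) → F) ↔
      u ∈ QFrame Qf c ∧ v ∈ QExt Qf u c₀ := by
  unfold QFrame QExt
  simp only [Set.mem_setOf_eq]
  rw [cons_mem_iff]
  constructor
  · rintro ⟨⟨h1, h2⟩, h3⟩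
    refine ⟨⟨h1, fun i => ?_⟩, h2, ?_⟩
    · have := h3 i.succ
      simpa using this
    · have := h3 0
      simpa using this
  · rintro ⟨⟨h1, h2⟩, h3, h4⟩
    refine ⟨⟨h1, h3⟩, fun i => ?_⟩
    refine Fin.cases ?_ (fun i' => ?_) i
    · simpa using h4
    · simpa using h2 i'

/-- peeling off the first vector of a Q-frame -/
def qframeEquiv (Qf : QuadraticForm F (Fin m ⊕ Fin m → F)) {j : ℕ} (c : Fin j → F) (c₀ : F) :
    ↥(QFrame Qf (Fin.cons c₀ c : Fin (j + 1) → F)) ≃
      Σ u : ↥(QFrame Qf c), ↥(QExt Qf (u : Fin j → (Fin m ⊕ Fin m → F)) c₀) where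
  toFun r :=
    have h : Fin.tail r.1 ∈ QFrame Qf c ∧ r.1 0 ∈ QExt Qf (Fin.tail r.1) c₀ := by
      rw [← qframe_cons_iff, Fin.cons_self_tail]
      exact r.2
    ⟨⟨Fin.tail r.1, h.1⟩, ⟨r.1 0, h.2⟩⟩
  invFun r := ⟨Fin.cons r.2.1 r.1.1, (qframe_cons_iff r.1.1 r.2.1 c c₀).2 ⟨r.1.2, r.2.2⟩⟩
  left_inv r := by
    apply Subtype.ext
    simp only [Fin.cons_self_tail]
  right_inv := fun ⟨⟨u, hu⟩, ⟨v, hv⟩⟩ => by
    simp only [Fin.cons_zero, Fin.tail_cons]
    rfl

theorem ncard_qframe_cons [Fintype F] {j : ℕ} (c : Fin j → F) (c₀ : F) (e : ℕ)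
    (he : ∀ u ∈ QFrame Qf c, (QExt Qf u c₀).ncard = e) :
    (QFrame Qf (Fin.cons c₀ c : Fin (j + 1) → F)).ncard = (QFrame Qf c).ncard * e := by
  classical
  letI : Fintype ↥(QFrame Qf c) := Fintype.ofFinite _
  rw [← Nat.card_coe_set_eq, Nat.card_congr (qframeEquiv Qf c c₀), Nat.card_sigma]
  simp only [Nat.card_coe_set_eq]
  rw [Finset.sum_congr rfl (fun u _ => he u.1 u.2)]
  rw [Finset.sum_const, Finset.card_univ, smul_eq_mul, ← Nat.card_eq_fintype_card,
    Nat.card_coe_set_eq]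

theorem span_subset_Ac (hP : PolSymp Qf) {j : ℕ} (u : Fin j → (Fin m ⊕ Fin m → F))
    (hu : u ∈ QFrame Qf (0 : Fin j → F)) :
    ((Submodule.span F (Set.range u) : Submodule F (Fin m ⊕ Fin m → F)) :
      Set (Fin m ⊕ Fin m → F)) ⊆ Ac Qf u 0 := by
  intro x hx
  refine ⟨?_, ?_⟩
  · have hle : Submodule.span F (Set.range u) ≤ Perp u := by
      rw [Submodule.span_le]
      rintro _ ⟨k, rfl⟩
      rw [SetLike.mem_coe, mem_Perp]
      intro i
      exact hu.1.2 i k
    exact hle hx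
  · obtain ⟨a, rfl⟩ := (Submodule.mem_span_range_iff_exists_fun F).1 hx
    rw [Q_sum_isotropic hP u hu.1.2 a Finset.univ]
    apply Finset.sum_eq_zero
    intro i _
    rw [hu.2 i]
    simp

theorem ncard_span [Fintype F] {j : ℕ} (u : Fin j → (Fin m ⊕ Fin m → F))
    (hu : LinearIndependent F u) :
    ((Submodule.span F (Set.range u) : Submodule F (Fin m ⊕ Fin m → F)) :
      Set (Fin m ⊕ Fin m → F)).ncard = Fintype.card F ^ j := by
  rw [ncard_submodule', Module.natCard_eq_pow_finrank (K := F), Nat.card_eq_fintype_card,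
    finrank_span_eq_card hu, Fintype.card_fin]

theorem qext_zero_eq {j : ℕ} (u : Fin j → (Fin m ⊕ Fin m → F)) :
    QExt Qf u 0 = Ac Qf u 0 \
      ((Submodule.span F (Set.range u) : Submodule F (Fin m ⊕ Fin m → F)) :
        Set (Fin m ⊕ Fin m → F)) := by
  ext v
  simp only [QExt, Extn, Ac, Set.mem_setOf_eq, Set.mem_diff, SetLike.mem_coe, mem_Perp]
  constructor
  · rintro ⟨⟨h1, -, h3⟩, h4⟩
    exact ⟨⟨fun i => (h3 i).1, h4⟩, h1⟩
  · rintro ⟨⟨h1, h2⟩, h3⟩
    refine ⟨⟨h3, sympForm_self v, fun i => ⟨h1 i, ?_⟩⟩, h2⟩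
    rw [sympForm_swap, h1 i, neg_zero]

theorem ncard_qext_zero [Fintype F] (hP : PolSymp Qf) {j : ℕ} (u : Fin j → (Fin m ⊕ Fin m → F))
    (hu : u ∈ QFrame Qf (0 : Fin j → F)) :
    (QExt Qf u 0).ncard + Fintype.card F ^ j = (Ac Qf u 0).ncard := by
  rw [qext_zero_eq, ← ncard_span u hu.1.1]
  exact Set.ncard_sdiff_add_ncard_of_subset (span_subset_Ac hP u hu) (Set.toFinite _)

theorem qext_ne_zero_eq (hP : PolSymp Qf) {j : ℕ} (u : Fin j → (Fin m ⊕ Fin m → F))
    (hu : u ∈ QFrame Qf (0 : Fin j → F)) (c₀ : F) (hc₀ : c₀ ≠ 0) :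
    QExt Qf u c₀ = Ac Qf u c₀ := by
  ext v
  simp only [QExt, Extn, Ac, Set.mem_setOf_eq, mem_Perp]
  constructor
  · rintro ⟨⟨-, -, h3⟩, h4⟩
    exact ⟨fun i => (h3 i).1, h4⟩
  · rintro ⟨h1, h2⟩
    refine ⟨⟨?_, sympForm_self v, fun i => ⟨h1 i, ?_⟩⟩, h2⟩
    · intro hv
      have := (span_subset_Ac hP u hu hv).2
      rw [h2] at this
      exact hc₀ this
    · rw [sympForm_swap, h1 i, neg_zero]

end Cfsg.Agent.Lib.Helper5.OCent
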