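import Mathlib
import Cfsg.Agent.Lib.Helper5.OCent3
import Cfsg.Agent.Lib.Helper2.OrthCard3
import Cfsg.Agent.S0289

set_option autoImplicit false

/-!
Counting singular frames in the hyperbolic quadratic space in characteristic two.
-/

namespace Cfsg.Agent.Lib.Helper5.OCent

open Matrix Module Cfsg.Agent.Lib.Helper2.Symp Cfsg.Agent.Lib.Helper1.SpBasic
  Cfsg.Agent.Lib.Helper2.SpIsom Cfsg.Agent.Lib.Helper5.SpInv2 Cfsg.Agent.Lib.Helper5.SpCent
  Cfsg.Agent.Lib.Helper5.O2Sp Cfsg.Agent.Lib.Helper2.IsoFrames Cfsg.Agent.Lib.Helper2.SpFrames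
  Cfsg.Agent.Lib.Helper5.QuadGlue

variable {F : Type*} [Field F] {m : ℕ}

theorem QP_polSymp' [CharP F 2] : PolSymp (QP m F) := by
  intro u v
  rw [QP_apply, QP_apply, QP_apply]
  exact Cfsg.Agent.S2595.polar_eq_symp u v

/-- the order of the orthogonal group of plus type -/
noncomputable def gO (F : Type*) [Field F] (k : ℕ) : ℕ :=
  Nat.card ↥(Cfsg.isometryGroup F (Cfsg.quadFormPlus k F))

/-- the number of singular vectors -/
noncomputable def nO (F : Type*) [Field F] (k : ℕ) : ℕ :=
  Nat.card {v : Fin k ⊕ Fin k → F // Cfsg.quadFormPlus k F v = 0}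

theorem gO_succ [Fintype F] (k : ℕ) :
    gO F (k + 1) = (nO F (k + 1) - 1) * (Fintype.card F ^ (2 * k) * gO F k) :=
  Cfsg.Agent.Lib.Helper2.OrthCard.card_plus_succ k

theorem gO_pos [Finite F] (k : ℕ) : 0 < gO F k := Nat.card_pos

theorem nO_add [Fintype F] (k : ℕ) (hk : 1 ≤ k) :
    nO F k + Fintype.card F ^ (k - 1) = Fintype.card F ^ (2 * k - 1) + Fintype.card F ^ k := by
  unfold nO
  rw [Cfsg.Agent.S0289.result (F := F) rfl k hk]
  have h1 : Fintype.card F ^ (k - 1) ≤ Fintype.card F ^ k :=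
    Nat.pow_le_pow_right Fintype.card_pos (by omega)
  omega

theorem ncard_QP_zero [Fintype F] :
    {v : Fin m ⊕ Fin m → F | QP m F v = 0}.ncard = nO F m := by
  unfold nO
  rw [← Nat.card_coe_set_eq]
  apply Nat.card_congr
  refine Equiv.subtypeEquivRight (fun v => ?_)
  rw [Set.mem_setOf_eq, QP_apply]

theorem ncard_QP_one [Fintype F] (hm : 1 ≤ m) :
    {v : Fin m ⊕ Fin m → F | QP m F v = 1}.ncard + Fintype.card F ^ (m - 1) =
      Fintype.card F ^ (2 * m - 1) := by
  classical
  have h := Cfsg.Agent.Lib.Helper1.card_hyperbolic_eq (F := F) m 1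
  rw [if_neg one_ne_zero, zero_add] at h
  have h2 : {v : Fin m ⊕ Fin m → F | QP m F v = 1}.ncard =
      (Finset.univ.filter (fun v : Fin m ⊕ Fin m → F =>
        ∑ i : Fin m, v (.inl i) * v (.inr i) = 1)).card := by
    rw [Set.ncard_eq_toFinset_card']
    congr 1
    ext v
    simp only [Set.mem_toFinset, Set.mem_setOf_eq, Finset.mem_filter, Finset.mem_univ, true_and,
      QP_apply]
    rfl
  rw [h2, h]
  have hq : 1 ≤ Fintype.card F ^ m := Nat.one_le_pow _ _ Fintype.card_pos
  have e : 2 * m - 1 = m + (m - 1) := by omega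
  rw [e, pow_add, Nat.sub_mul, one_mul]
  have : Fintype.card F ^ (m - 1) ≤ Fintype.card F ^ m * Fintype.card F ^ (m - 1) :=
    Nat.le_mul_of_pos_left _ (by omega)
  omega

/-- the exponent sum `Σ_{i<j} 2(m-i-1)` -/
def Esum (m j : ℕ) : ℕ := ∑ i ∈ Finset.range j, 2 * (m - i - 1)

theorem Esum_add (m j : ℕ) (hj : j ≤ m) : Esum m j + j ^ 2 + j = 2 * j * m := by
  induction j with
  | zero => simp [Esum]
  | succ j ih =>
    unfold Esum at *
    rw [Finset.sum_range_succ]
    have := ih (by omega)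
    have e1 : (j + 1) ^ 2 = j ^ 2 + 2 * j + 1 := by ring
    have e2 : 2 * (j + 1) * m = 2 * j * m + 2 * m := by ring
    rw [e1, e2]
    omega

theorem ncard_qframe_nil [Fintype F] (Qf : QuadraticForm F (Fin m ⊕ Fin m → F)) :
    (QFrame Qf (0 : Fin 0 → F)).ncard = 1 := by
  have : QFrame Qf (0 : Fin 0 → F) = Set.univ := by
    ext u
    simp only [QFrame, Frame, Set.mem_setOf_eq, Set.mem_univ, iff_true]
    exact ⟨⟨linearIndependent_empty_type, fun i => i.elim0⟩, fun i => i.elim0⟩
  rw [this, Set.ncard_univ]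
  simp

theorem cons_zero_zero (j : ℕ) : (Fin.cons 0 (0 : Fin j → F) : Fin (j + 1) → F) = 0 := by
  funext i
  refine Fin.cases ?_ (fun i' => ?_) i <;> simp

/-- the number of extensions of a totally singular frame -/
theorem ncard_qext_ts [Fintype F] [CharP F 2] (j : ℕ) (hj : j + 1 ≤ m)
    (u : Fin j → (Fin m ⊕ Fin m → F)) (hu : u ∈ QFrame (QP m F) (0 : Fin j → F)) :
    (QExt (QP m F) u 0).ncard = Fintype.card F ^ j * (nO F (m - j) - 1) := by
  have hP : PolSymp (QP m F) := QP_polSymp'
  have h1 := ncard_qext_zero hP u hu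
  have h2 := ncard_Ac hP 0 j (by omega) u hu
  rw [ncard_QP_zero] at h2
  have h3 := nO_add (F := F) m (by omega)
  have h4 := nO_add (F := F) (m - j) (by omega)
  set q := Fintype.card F with hq
  have hq0 : 0 < q := Fintype.card_pos
  have hn1 : 1 ≤ nO F (m - j) := by
    unfold nO
    have : Nonempty {v : Fin (m - j) ⊕ Fin (m - j) → F // Cfsg.quadFormPlus (m - j) F v = 0} :=
      ⟨⟨0, by simp [Cfsg.quadFormPlus]⟩⟩
    exact Nat.card_pos
  -- multiply h4 by q^j
  have h5 : q ^ j * nO F (m - j) + q ^ (m - 1) = q ^ (2 * m - j - 1) + q ^ m := by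
    have := congrArg (fun t => q ^ j * t) h4
    simp only [mul_add, ← pow_add] at this
    have e1 : j + (m - j - 1) = m - 1 := by omega
    have e2 : j + (2 * (m - j) - 1) = 2 * m - j - 1 := by omega
    have e3 : j + (m - j) = m := by omega
    rw [e1, e2, e3] at this
    exact this
  have h6 : q ^ j * (nO F (m - j) - 1) + q ^ j = q ^ j * nO F (m - j) := by
    rw [← Nat.mul_succ, Nat.succ_eq_add_one, Nat.sub_add_cancel hn1]
  omega

/-- the telescoping identity for the number of totally singular frames -/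
theorem ncard_ts_mul [Fintype F] [CharP F 2] :
    ∀ j, j ≤ m → (QFrame (QP m F) (0 : Fin j → F)).ncard * Fintype.card F ^ Esum m j *
      gO F (m - j) = Fintype.card F ^ (∑ i ∈ Finset.range j, i) * gO F m := by
  intro j
  induction j with
  | zero =>
    intro _
    rw [ncard_qframe_nil]
    simp [Esum]
  | succ j ih =>
    intro hj
    have ih' := ih (by omega)
    rw [← cons_zero_zero j, ncard_qframe_cons (0 : Fin j → F) 0 _
      (fun u hu => ncard_qext_ts j hj u hu)]
    have hg : gO F (m - j) = (nO F (m - j) - 1) *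
        (Fintype.card F ^ (2 * (m - (j + 1))) * gO F (m - (j + 1))) := by
      have := gO_succ (F := F) (m - (j + 1))
      have e : m - (j + 1) + 1 = m - j := by omega
      rw [e] at this
      exact this
    have hE : Esum m (j + 1) = Esum m j + 2 * (m - (j + 1)) := by
      unfold Esum
      rw [Finset.sum_range_succ]
      congr 2
    rw [hE, pow_add, Finset.sum_range_succ, pow_add]
    have h7 : (Fintype.card F ^ ∑ x ∈ Finset.range j, x) * Fintype.card F ^ j * gO F m =
        ((Fintype.card F ^ ∑ x ∈ Finset.range j, x) * gO F m) * Fintype.card F ^ j := by ring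
    rw [h7, ← ih', hg]
    ring

/-- frames with one non-singular vector -/
theorem ncard_qframe_one [Fintype F] [CharP F 2] (j : ℕ) (hj : j + 1 ≤ m) :
    (QFrame (QP m F) (Fin.cons 1 (0 : Fin j → F) : Fin (j + 1) → F)).ncard +
      (QFrame (QP m F) (0 : Fin j → F)).ncard * Fintype.card F ^ (m - 1) =
    (QFrame (QP m F) (0 : Fin j → F)).ncard * Fintype.card F ^ (2 * m - j - 1) := by
  have hP : PolSymp (QP m F) := QP_polSymp'
  have hle : Fintype.card F ^ (m - 1) ≤ Fintype.card F ^ (2 * m - j - 1) :=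
    Nat.pow_le_pow_right Fintype.card_pos (by omega)
  rw [ncard_qframe_cons (0 : Fin j → F) 1
    (Fintype.card F ^ (2 * m - j - 1) - Fintype.card F ^ (m - 1)) (by
      intro u hu
      rw [qext_ne_zero_eq hP u hu 1 one_ne_zero]
      have h2 := ncard_Ac hP 1 j (by omega) u hu
      have h3 := ncard_QP_one (F := F) (m := m) (by omega)
      omega)]
  rw [← Nat.mul_add, Nat.sub_add_cancel hle]

end Cfsg.Agent.Lib.Helper5.OCent
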