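import Mathlib
import Cfsg.Agent.Lib.Helper5.OCent4
import Cfsg.Agent.Lib.Helper5.InvSplit2

set_option autoImplicit false

/-!
Centralizers of involutions in `Ω` versus the full orthogonal group, characteristic two.
-/

namespace Cfsg.Agent.Lib.Helper5.OCent

section grp

variable {G : Type*} [Group G]

theorem card_comm_subgroup (K : Subgroup G) (x : G) :
    Nat.card {g : ↥K // (g : G) * x = x * (g : G)} =
      Nat.card ↥(K.subgroupOf (Subgroup.centralizer ({x} : Set G))) := by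
  apply Nat.card_congr
  refine ⟨fun g => ⟨⟨g.1.1, Subgroup.mem_centralizer_singleton_iff.2 g.2⟩, g.1.2⟩,
    fun c => ⟨⟨c.1.1, c.2⟩, Subgroup.mem_centralizer_singleton_iff.1 c.1.2⟩, ?_, ?_⟩
  · intro g; rfl
  · intro c; rfl

theorem card_comm_of_le (K : Subgroup G) (x : G)
    (hle : Subgroup.centralizer ({x} : Set G) ≤ K) :
    Nat.card {g : ↥K // (g : G) * x = x * (g : G)} =
      Nat.card ↥(Subgroup.centralizer ({x} : Set G)) := by
  rw [card_comm_subgroup]
  have h1 := Subgroup.index_mul_card (K.subgroupOf (Subgroup.centralizer ({x} : Set G)))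
  have h2 : (K.subgroupOf (Subgroup.centralizer ({x} : Set G))).index = 1 :=
    Subgroup.relIndex_eq_one.2 hle
  rw [h2, one_mul] at h1
  exact h1

theorem card_comm_of_not_le (K : Subgroup G) [K.Normal] (hK : K.index = 2) (x : G)
    (hle : ¬ Subgroup.centralizer ({x} : Set G) ≤ K) :
    2 * Nat.card {g : ↥K // (g : G) * x = x * (g : G)} =
      Nat.card ↥(Subgroup.centralizer ({x} : Set G)) := by
  rw [card_comm_subgroup]
  have h1 := Subgroup.index_mul_card (K.subgroupOf (Subgroup.centralizer ({x} : Set G)))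
  have h2 : (K.subgroupOf (Subgroup.centralizer ({x} : Set G))).index = 2 := by
    have h3 : K.relIndex (Subgroup.centralizer ({x} : Set G)) ∣ 2 := by
      rw [← hK]
      exact Subgroup.relIndex_dvd_index_of_normal K _
    have h4 : K.relIndex (Subgroup.centralizer ({x} : Set G)) ≠ 1 := by
      rw [Ne, Subgroup.relIndex_eq_one]
      exact hle
    have h5 : K.relIndex (Subgroup.centralizer ({x} : Set G)) = 1 ∨
        K.relIndex (Subgroup.centralizer ({x} : Set G)) = 2 :=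
      (Nat.dvd_prime Nat.prime_two).1 h3
    rcases h5 with h5 | h5
    · exact absurd h5 h4
    · exact h5
  rw [h2] at h1
  exact h1

end grp

open Matrix Module Cfsg.Agent.Lib.Helper2.Symp Cfsg.Agent.Lib.Helper1.SpBasic
  Cfsg.Agent.Lib.Helper2.SpIsom Cfsg.Agent.Lib.Helper5.SpInv2 Cfsg.Agent.Lib.Helper5.SpCent
  Cfsg.Agent.Lib.Helper5.O2Sp Cfsg.Agent.Lib.Helper2.IsoFrames Cfsg.Agent.Lib.Helper5.InvSplit2

variable {F : Type*} [Field F] {m s : ℕ} {Qf : QuadraticForm F (Fin m ⊕ Fin m → F)}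

section omega

variable [Fintype F]

theorem card_iota' : Fintype.card (Fin m ⊕ Fin m) = 2 * m := by
  rw [Fintype.card_sum, Fintype.card_fin]; ring

theorem card_comm_Omega_not_lag [CharP F 2] (hP : PolSymp Qf) (hm : 1 ≤ m)
    (hex : Fintype.card F ≠ 2 ∨ m ≠ 2) (x : ↥(Cfsg.isometryGroup F ⇑Qf)) (hx : x * x = 1)
    (hnot : ¬ (2 * (((x : Matrix.GeneralLinearGroup (Fin m ⊕ Fin m) F) :
        Matrix (Fin m ⊕ Fin m) (Fin m ⊕ Fin m) F) - 1).rank = 2 * m ∧
      ∀ v : Fin m ⊕ Fin m → F, Qf ((((x : Matrix.GeneralLinearGroup (Fin m ⊕ Fin m) F) :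
        Matrix (Fin m ⊕ Fin m) (Fin m ⊕ Fin m) F) - 1) *ᵥ v) = 0)) :
    2 * Nat.card {g : ↥(Cfsg.Omega F ⇑Qf) // (g : ↥(Cfsg.isometryGroup F ⇑Qf)) * x =
        x * (g : ↥(Cfsg.isometryGroup F ⇑Qf))} =
      Nat.card ↥(Subgroup.centralizer ({x} : Set ↥(Cfsg.isometryGroup F ⇑Qf))) := by
  have h2 : (2 : F) = 0 := CharTwo.two_eq_zero
  have hex' : Fintype.card F ≠ 2 ∨ Fintype.card (Fin m ⊕ Fin m) ≠ 4 := by
    rcases hex with h' | h'
    · exact Or.inl h'
    · right; rw [card_iota']; omega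
  have hn : 2 ≤ Fintype.card (Fin m ⊕ Fin m) := by rw [card_iota']; omega
  have hidx := index_commutator h2 hP.nondeg hex' hn
  apply card_comm_of_not_le (commutator ↥(Cfsg.isometryGroup F ⇑Qf)) hidx x
  intro hle
  obtain ⟨c, hc, hcΩ⟩ := exists_comm_not_mem h2 hP.nondeg hex' hn x hx (by
    rw [card_iota']
    exact hnot)
  exact hcΩ (hle (Subgroup.mem_centralizer_singleton_iff.2 hc))

theorem card_comm_Omega_lag [CharP F 2] (hP : PolSymp Qf) (hm : 1 ≤ m)
    (hex : Fintype.card F ≠ 2 ∨ m ≠ 2) (x : ↥(Cfsg.isometryGroup F ⇑Qf))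
    (hlag : 2 * (((x : Matrix.GeneralLinearGroup (Fin m ⊕ Fin m) F) :
        Matrix (Fin m ⊕ Fin m) (Fin m ⊕ Fin m) F) - 1).rank = 2 * m ∧
      ∀ v : Fin m ⊕ Fin m → F, Qf ((((x : Matrix.GeneralLinearGroup (Fin m ⊕ Fin m) F) :
        Matrix (Fin m ⊕ Fin m) (Fin m ⊕ Fin m) F) - 1) *ᵥ v) = 0) :
    Nat.card {g : ↥(Cfsg.Omega F ⇑Qf) // (g : ↥(Cfsg.isometryGroup F ⇑Qf)) * x =
        x * (g : ↥(Cfsg.isometryGroup F ⇑Qf))} =
      Nat.card ↥(Subgroup.centralizer ({x} : Set ↥(Cfsg.isometryGroup F ⇑Qf))) := by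
  have h2 : (2 : F) = 0 := CharTwo.two_eq_zero
  have hex' : Fintype.card F ≠ 2 ∨ Fintype.card (Fin m ⊕ Fin m) ≠ 4 := by
    rcases hex with h' | h'
    · exact Or.inl h'
    · right; rw [card_iota']; omega
  have hn : 2 ≤ Fintype.card (Fin m ⊕ Fin m) := by rw [card_iota']; omega
  apply card_comm_of_le (commutator ↥(Cfsg.isometryGroup F ⇑Qf)) x
  intro c hc
  exact comm_mem_of_lag h2 hP.nondeg hex' hn x (by rw [card_iota']; exact hlag) c
    (Subgroup.mem_centralizer_singleton_iff.1 hc)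

end omega

section reindex

variable {ι : Type*} [Fintype ι] [DecidableEq ι]

theorem alt_reindex (e : ι ≃ Fin s) (S' : Matrix ι ι F) :
    (∀ z : Fin s → F, z ⬝ᵥ Matrix.reindex e e S' *ᵥ z = 0) ↔
      ∀ z : ι → F, z ⬝ᵥ S' *ᵥ z = 0 := by
  simp only [Matrix.reindex_apply]
  have key : ∀ z : Fin s → F, z ⬝ᵥ S'.submatrix e.symm e.symm *ᵥ z =
      (z ∘ e) ⬝ᵥ S' *ᵥ (z ∘ e) := by
    intro z
    rw [Matrix.submatrix_mulVec_equiv, Equiv.symm_symm]
    have : z = (z ∘ e) ∘ e.symm := by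
      funext i
      simp
    conv_lhs => rw [this]
    rw [comp_equiv_symm_dotProduct]
    simp [Function.comp_assoc]
  constructor
  · intro h z
    have := h (z ∘ e.symm)
    rw [key] at this
    have e2 : (z ∘ e.symm) ∘ e = z := by
      funext i
      simp
    rw [e2] at this
    exact this
  · intro h z
    rw [key]
    exact h _

/-- the counting identity for a general index type -/
theorem card_centralizer_O' [Fintype F] [CharP F 2] (hP : PolSymp Qf) (e : ι ≃ Fin s)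
    (S' Si' : Matrix ι ι F) (hS' : S'ᵀ = S') (hSi' : S' * Si' = 1)
    (x : ↥(Cfsg.isometryGroup F ⇑Qf)) (hx : x * x = 1)
    (hs : (((x : Matrix.GeneralLinearGroup (Fin m ⊕ Fin m) F) :
        Matrix (Fin m ⊕ Fin m) (Fin m ⊕ Fin m) F) - 1).rank = s)
    (halt : IsAltInv (toSpQ hP x) ↔ ∀ z : ι → F, z ⬝ᵥ S' *ᵥ z = 0) :
    Nat.card ↥(Subgroup.centralizer ({x} : Set ↥(Cfsg.isometryGroup F ⇑Qf))) *
      (QFrame Qf (fun i => Si' (e.symm i) (e.symm i))).ncard =
    Nat.card {Y : Matrix ι ι F // Y * S' * Yᵀ = S'} *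
      Nat.card ↥(Cfsg.isometryGroup F ⇑Qf) := by
  have hS₁ : (Matrix.reindex e e S')ᵀ = Matrix.reindex e e S' := by
    simp only [Matrix.reindex_apply]
    rw [Matrix.transpose_submatrix, hS']
  have hSi : Matrix.reindex e e S' * Matrix.reindex e e Si' = 1 := by
    simp only [Matrix.reindex_apply]
    rw [Matrix.submatrix_mul_equiv, hSi', Matrix.submatrix_one_equiv]
  have hS₁u : IsUnit (Matrix.reindex e e S') :=
    ⟨⟨_, _, hSi, _root_.mul_eq_one_comm.1 hSi⟩, rfl⟩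
  have hx' : toSpQ hP x * toSpQ hP x = 1 := by
    rw [← map_mul, hx, map_one]
  obtain ⟨u, hu, hxu⟩ := exists_frame_of_invol (Matrix.reindex e e S') hS₁ hS₁u (toSpQ hP x) hx'
    (by rw [toSpQ_coe]; exact hs) (by rw [halt, alt_reindex])
  rw [toSpQ_coe] at hxu
  have h := card_centralizer_O hP (Matrix.reindex e e S') (Matrix.reindex e e Si') hS₁ hSi x u hu hxu
  rw [card_orth_reindex] at h
  exact h

end reindex

end Cfsg.Agent.Lib.Helper5.OCent
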