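import Mathlib
import Cfsg.Agent.Lib.Helper5.OCent5

set_option autoImplicit false

/-!
Centralizers of involutions in `O⁺` in characteristic two: the counting identities by type.
-/

namespace Cfsg.Agent.Lib.Helper5.OCent

open Matrix Module Cfsg.Agent.Lib.Helper2.Symp Cfsg.Agent.Lib.Helper1.SpBasic
  Cfsg.Agent.Lib.Helper2.SpIsom Cfsg.Agent.Lib.Helper5.SpInv2 Cfsg.Agent.Lib.Helper5.SpCent
  Cfsg.Agent.Lib.Helper5.O2Sp Cfsg.Agent.Lib.Helper2.IsoFrames Cfsg.Agent.Lib.Helper5.InvSplit2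
  Cfsg.Agent.Lib.Helper5.QuadGlue Cfsg.Agent.Lib.Helper5.InvConj

variable {F : Type*} [Field F] {m : ℕ} {Qf : QuadraticForm F (Fin m ⊕ Fin m → F)}

/-- the type of an involution in terms of the quadratic form -/
theorem isAltInv_iff_Q [CharP F 2] (hP : PolSymp Qf) (x : ↥(Cfsg.isometryGroup F ⇑Qf)) :
    IsAltInv (toSpQ hP x) ↔
      ∀ v : Fin m ⊕ Fin m → F, Qf ((((x : Matrix.GeneralLinearGroup (Fin m ⊕ Fin m) F) :
        Matrix (Fin m ⊕ Fin m) (Fin m ⊕ Fin m) F) - 1) *ᵥ v) = 0 := by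
  have h2 : (2 : F) = 0 := CharTwo.two_eq_zero
  constructor
  · intro h v
    exact Q_sub_of_alt hP x h v
  · intro h v
    have h1 := h v
    rw [Matrix.sub_mulVec, Matrix.one_mulVec, Q_sub_fix h2 x v] at h1
    unfold QuadraticMap.polar at h1
    rw [hP, sympForm_sub_left, sympForm_self, sub_zero, sympForm_swap, neg_eq_zero] at h1
    rw [toSpQ_coe]
    exact h1

theorem J_diag (h : ℕ) (k : Fin h ⊕ Fin h) : Matrix.J (Fin h) F k k = 0 := by
  rcases k with k | k <;> simp [Matrix.J]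

/-- an equivalence to `Fin (j + 1)` sending a given point to `0` -/
noncomputable def equivFinZero {ι : Type*} [Fintype ι] [DecidableEq ι] {j : ℕ}
    (hι : Fintype.card ι = j + 1) (i₀ : ι) : ι ≃ Fin (j + 1) :=
  (Fintype.equivFinOfCardEq hι).trans (Equiv.swap (Fintype.equivFinOfCardEq hι i₀) 0)

theorem equivFinZero_apply {ι : Type*} [Fintype ι] [DecidableEq ι] {j : ℕ}
    (hι : Fintype.card ι = j + 1) (i₀ : ι) : equivFinZero hι i₀ i₀ = 0 := by
  unfold equivFinZero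
  rw [Equiv.trans_apply, Equiv.swap_apply_left]

theorem diag_eq_cons {ι : Type*} [Fintype ι] [DecidableEq ι] {j : ℕ}
    (hι : Fintype.card ι = j + 1) (i₀ : ι) (M : Matrix ι ι F)
    (hM : ∀ k, M k k = if k = i₀ then 1 else 0) :
    (fun i => M ((equivFinZero hι i₀).symm i) ((equivFinZero hι i₀).symm i)) =
      (Fin.cons 1 (0 : Fin j → F) : Fin (j + 1) → F) := by
  have h0 : (equivFinZero hι i₀).symm 0 = i₀ := by
    rw [Equiv.symm_apply_eq, equivFinZero_apply]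
  funext i
  refine Fin.cases ?_ (fun i' => ?_) i
  · simp only [Fin.cons_zero]
    rw [h0, hM, if_pos rfl]
  · simp only [Fin.cons_succ, Pi.zero_apply]
    rw [hM, if_neg]
    intro hcon
    rw [Equiv.symm_apply_eq, equivFinZero_apply] at hcon
    exact Fin.succ_ne_zero i' hcon

section typeA

variable [Fintype F] [CharP F 2]

theorem card_centralizer_O_typeA (hP : PolSymp Qf) (h : ℕ)
    (x : ↥(Cfsg.isometryGroup F ⇑Qf)) (hx : x * x = 1)
    (hs : (((x : Matrix.GeneralLinearGroup (Fin m ⊕ Fin m) F) :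
        Matrix (Fin m ⊕ Fin m) (Fin m ⊕ Fin m) F) - 1).rank = 2 * h)
    (halt : ∀ v : Fin m ⊕ Fin m → F, Qf ((((x : Matrix.GeneralLinearGroup (Fin m ⊕ Fin m) F) :
        Matrix (Fin m ⊕ Fin m) (Fin m ⊕ Fin m) F) - 1) *ᵥ v) = 0) :
    Nat.card ↥(Subgroup.centralizer ({x} : Set ↥(Cfsg.isometryGroup F ⇑Qf))) *
      (QFrame Qf (0 : Fin (2 * h) → F)).ncard =
    Nat.card (Matrix.symplecticGroup (Fin h) F) * Nat.card ↥(Cfsg.isometryGroup F ⇑Qf) := by
  have hι : Fintype.card (Fin h ⊕ Fin h) = 2 * h := by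
    rw [Fintype.card_sum, Fintype.card_fin, two_mul]
  set e : Fin h ⊕ Fin h ≃ Fin (2 * h) := Fintype.equivFinOfCardEq hι
  have hJ : Matrix.J (Fin h) F * (-Matrix.J (Fin h) F) = 1 := by
    rw [Matrix.mul_neg, J_mul_J, neg_neg]
  have h1 := card_centralizer_O' hP e (Matrix.J (Fin h) F) (-Matrix.J (Fin h) F) (J_symm h) hJ
    x hx hs ⟨fun _ => J_alt h, fun _ => (isAltInv_iff_Q hP x).2 halt⟩
  rw [card_orth_J] at h1
  have h2 : (fun i => (-Matrix.J (Fin h) F) (e.symm i) (e.symm i)) = (0 : Fin (2 * h) → F) := by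
    funext i
    rw [Matrix.neg_apply, J_diag, neg_zero]
    rfl
  rw [h2] at h1
  exact h1

end typeA

section typeB

variable [Fintype F] [CharP F 2]

theorem bMat_mul_inv (h : ℕ) :
    bMat h F * Matrix.fromBlocks 1 0 0 (-Matrix.J (Fin h) F) = 1 := by
  unfold bMat
  rw [Matrix.fromBlocks_multiply]
  simp only [Matrix.one_mul, Matrix.mul_zero, Matrix.zero_mul, add_zero, zero_add,
    Matrix.mul_neg, J_mul_J, neg_neg, neg_zero, Matrix.fromBlocks_one]

theorem bInv_diag (h : ℕ) (k : Unit ⊕ (Fin h ⊕ Fin h)) :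
    (Matrix.fromBlocks (1 : Matrix Unit Unit F) 0 0 (-Matrix.J (Fin h) F)) k k =
      if k = Sum.inl () then 1 else 0 := by
  rcases k with k | k
  · simp
  · rw [Matrix.fromBlocks_apply₂₂, Matrix.neg_apply, J_diag, neg_zero, if_neg (by simp)]

theorem card_centralizer_O_typeB (hP : PolSymp Qf) (h : ℕ)
    (x : ↥(Cfsg.isometryGroup F ⇑Qf)) (hx : x * x = 1)
    (hs : (((x : Matrix.GeneralLinearGroup (Fin m ⊕ Fin m) F) :
        Matrix (Fin m ⊕ Fin m) (Fin m ⊕ Fin m) F) - 1).rank = 2 * h + 1) :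
    Nat.card ↥(Subgroup.centralizer ({x} : Set ↥(Cfsg.isometryGroup F ⇑Qf))) *
      (QFrame Qf (Fin.cons 1 (0 : Fin (2 * h) → F) : Fin (2 * h + 1) → F)).ncard =
    Nat.card (Matrix.symplecticGroup (Fin h) F) * Nat.card ↥(Cfsg.isometryGroup F ⇑Qf) := by
  have hι : Fintype.card (Unit ⊕ (Fin h ⊕ Fin h)) = 2 * h + 1 := by
    rw [Fintype.card_sum, Fintype.card_sum, Fintype.card_fin, Fintype.card_unit]
    omega
  have hx' : toSpQ hP x * toSpQ hP x = 1 := by
    rw [← map_mul, hx, map_one]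
  have halt : ¬ IsAltInv (toSpQ hP x) := by
    intro hcon
    have := even_rank_of_isAltInv (s := 2 * h + 1) (toSpQ hP x) hx' hs hcon
    rw [Nat.even_add_one] at this
    exact this (even_two_mul h)
  have h1 := card_centralizer_O' hP (equivFinZero hι (Sum.inl ())) (bMat h F)
    (Matrix.fromBlocks 1 0 0 (-Matrix.J (Fin h) F)) (bMat_symm h) (bMat_mul_inv h) x hx hs
    ⟨fun h' => absurd h' halt, fun h' => absurd h' (bMat_not_alt h)⟩
  rw [card_orth_bMat, diag_eq_cons hι (Sum.inl ()) _ (bInv_diag h)] at h1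
  exact h1

end typeB

section typeC

variable [Fintype F] [CharP F 2]

theorem cMat_mul_inv (h : ℕ) (w : Fin h ⊕ Fin h → F) :
    cMat h F w * (-Matrix.J (Fin h) F -
      Matrix.J (Fin h) F * Matrix.vecMulVec w w * Matrix.J (Fin h) F) = 1 := by
  unfold cMat
  set J := Matrix.J (Fin h) F
  set W := Matrix.vecMulVec w w
  have hJJ : J * J = -1 := J_mul_J
  have hW : W * J * W = 0 := vecMulVec_J_vecMulVec h w
  have e1 : J * (J * W * J) = -(W * J) := by
    rw [← Matrix.mul_assoc, ← Matrix.mul_assoc, hJJ, Matrix.neg_mul, Matrix.neg_mul,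
      Matrix.one_mul]
  have e2 : W * (J * W * J) = 0 := by
    rw [← Matrix.mul_assoc, ← Matrix.mul_assoc, hW, Matrix.zero_mul]
  rw [Matrix.add_mul, Matrix.mul_sub, Matrix.mul_sub, Matrix.mul_neg, Matrix.mul_neg, hJJ, e1,
    e2, neg_neg, sub_neg_eq_add, sub_zero]
  abel

theorem cInv_diag (h : ℕ) (k : Fin (h + 1) ⊕ Fin (h + 1)) :
    (-Matrix.J (Fin (h + 1)) F - Matrix.J (Fin (h + 1)) F *
      Matrix.vecMulVec (Pi.single (Sum.inr 0) 1) (Pi.single (Sum.inr 0) 1) *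
      Matrix.J (Fin (h + 1)) F :
        Matrix (Fin (h + 1) ⊕ Fin (h + 1)) (Fin (h + 1) ⊕ Fin (h + 1)) F) k k =
      if k = Sum.inl 0 then 1 else 0 := by
  rw [Matrix.sub_apply, Matrix.neg_apply, J_diag, neg_zero, zero_sub, Matrix.mul_vecMulVec,
    Matrix.vecMulVec_mul, Matrix.vecMulVec_apply, Matrix.mulVec_single_one,
    Matrix.single_one_vecMul]
  rcases k with k | k
  · simp only [Matrix.J, Matrix.col_apply, Matrix.row_apply, Matrix.fromBlocks_apply₁₂,
      Matrix.fromBlocks_apply₂₁, Matrix.neg_apply, Matrix.one_apply, Sum.inl.injEq]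
    by_cases hk : k = 0
    · subst hk
      simp
    · simp [hk]
  · simp [Matrix.J]

theorem card_centralizer_O_typeC (hP : PolSymp Qf) (h : ℕ)
    (x : ↥(Cfsg.isometryGroup F ⇑Qf)) (hx : x * x = 1)
    (hs : (((x : Matrix.GeneralLinearGroup (Fin m ⊕ Fin m) F) :
        Matrix (Fin m ⊕ Fin m) (Fin m ⊕ Fin m) F) - 1).rank = 2 * h + 1 + 1)
    (hna : ¬ ∀ v : Fin m ⊕ Fin m → F, Qf ((((x : Matrix.GeneralLinearGroup (Fin m ⊕ Fin m) F) :
        Matrix (Fin m ⊕ Fin m) (Fin m ⊕ Fin m) F) - 1) *ᵥ v) = 0) :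
    Nat.card ↥(Subgroup.centralizer ({x} : Set ↥(Cfsg.isometryGroup F ⇑Qf))) *
      (QFrame Qf (Fin.cons 1 (0 : Fin (2 * h + 1) → F) : Fin (2 * h + 1 + 1) → F)).ncard *
      (Fintype.card F ^ (2 * (h + 1)) - 1) =
    Nat.card (Matrix.symplecticGroup (Fin (h + 1)) F) *
      Nat.card ↥(Cfsg.isometryGroup F ⇑Qf) := by
  have hι : Fintype.card (Fin (h + 1) ⊕ Fin (h + 1)) = 2 * h + 1 + 1 := by
    rw [Fintype.card_sum, Fintype.card_fin]
    omega
  have halt : ¬ IsAltInv (toSpQ hP x) := by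
    rw [isAltInv_iff_Q]
    exact hna
  set w : Fin (h + 1) ⊕ Fin (h + 1) → F := Pi.single (Sum.inr 0) 1 with hw
  have hw0 : w ≠ 0 := by
    intro h0
    have := congrFun h0 (Sum.inr 0)
    rw [hw, Pi.single_eq_same] at this
    exact one_ne_zero this
  have h1 := card_centralizer_O' hP (equivFinZero hι (Sum.inl 0)) (cMat (h + 1) F w)
    (-Matrix.J (Fin (h + 1)) F - Matrix.J (Fin (h + 1)) F * Matrix.vecMulVec w w *
      Matrix.J (Fin (h + 1)) F) (cMat_symm _ w) (cMat_mul_inv _ w) x hx hs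
    ⟨fun h' => absurd h' halt, fun h' => absurd h' (cMat_not_alt (h + 1) (Sum.inr 0))⟩
  rw [card_orth_cMat, diag_eq_cons hι (Sum.inl 0) _ (cInv_diag h)] at h1
  rw [h1, card_stab_vec rfl (h + 1) w hw0]
  ring

end typeC

end Cfsg.Agent.Lib.Helper5.OCent
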