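import Mathlib

set_option autoImplicit false

/-!
Arithmetic for the centralizer orders of involutions of the symplectic group.
-/

namespace Cfsg.Agent.Lib.Helper5.SpCent

/-- `∏_{i<k} (q^(2(i+1)) - 1)` -/
def PiSp (q k : ℕ) : ℕ := ∏ i ∈ Finset.range k, (q ^ (2 * (i + 1)) - 1)

/-- `∏_{j<s} (q^(2(m-j)) - 1)` -/
def RSp (q m s : ℕ) : ℕ := ∏ j ∈ Finset.range s, (q ^ (2 * (m - j)) - 1)

theorem RSp_pos (q m s : ℕ) (hq : 2 ≤ q) (hsm : s ≤ m) : 0 < RSp q m s := by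
  unfold RSp
  apply Finset.prod_pos
  intro j hj
  rw [Finset.mem_range] at hj
  have h1 : 1 < q ^ (2 * (m - j)) := Nat.one_lt_pow (by omega) (by omega)
  omega

theorem PiSp_split (q m s : ℕ) (hsm : s ≤ m) : PiSp q m = PiSp q (m - s) * RSp q m s := by
  obtain ⟨d, rfl⟩ := Nat.exists_eq_add_of_le' hsm
  unfold PiSp RSp
  rw [Nat.add_sub_cancel, Finset.prod_range_add]
  congr 1
  rw [← Finset.prod_range_reflect]
  apply Finset.prod_congr rfl
  intro j hj
  rw [Finset.mem_range] at hj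
  congr 3
  omega

theorem frames_split (q m s : ℕ) (hsm : s ≤ m) :
    ∏ j ∈ Finset.range s, (q ^ (2 * m - j) - q ^ j) =
      q ^ (∑ j ∈ Finset.range s, j) * RSp q m s := by
  unfold RSp
  rw [← Finset.prod_pow_eq_pow_sum, ← Finset.prod_mul_distrib]
  apply Finset.prod_congr rfl
  intro j hj
  rw [Finset.mem_range] at hj
  have h1 : 2 * m - j = j + 2 * (m - j) := by omega
  rw [h1, pow_add, Nat.mul_sub_one]

theorem gauss (s : ℕ) : (3 * s ^ 2 - s) / 2 = s ^ 2 + ∑ j ∈ Finset.range s, j := by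
  have h1 := Finset.sum_range_id_mul_two s
  have h2 : s * (s - 1) + s = s ^ 2 := by
    rcases s with _ | k
    · rfl
    · rw [Nat.add_sub_cancel]; ring
  have h3 : 3 * s ^ 2 - s = 2 * (s ^ 2 + ∑ j ∈ Finset.range s, j) := by
    omega
  rw [h3, Nat.mul_div_cancel_left _ (by norm_num : 0 < 2)]

theorem exp_identity (m s : ℕ) (hsm : s ≤ m) :
    2 * m * s - (3 * s ^ 2 - s) / 2 + (m - s) ^ 2 + ∑ j ∈ Finset.range s, j = m ^ 2 := by
  rw [gauss]
  obtain ⟨d, rfl⟩ := Nat.exists_eq_add_of_le' hsm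
  rw [Nat.add_sub_cancel]
  have h1 := Finset.sum_range_id_mul_two s
  have h2 : s * (s - 1) ≤ s * s := Nat.mul_le_mul_left _ (Nat.sub_le _ _)
  set T := ∑ j ∈ Finset.range s, j with hT
  have h3 : T ≤ s ^ 2 := by nlinarith
  have h4 : 2 * (d + s) * s = 2 * s ^ 2 + 2 * (d * s) := by ring
  have h5 : (d + s) ^ 2 = s ^ 2 + 2 * (d * s) + d ^ 2 := by ring
  rw [h4, h5]
  omega

theorem arith_main (q m s C O : ℕ) (hq : 2 ≤ q) (hsm : s ≤ m)
    (h : C * ∏ j ∈ Finset.range s, (q ^ (2 * m - j) - q ^ j) = O * (q ^ m ^ 2 * PiSp q m)) :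
    C = q ^ (2 * m * s - (3 * s ^ 2 - s) / 2) * O * (q ^ (m - s) ^ 2 * PiSp q (m - s)) := by
  rw [frames_split q m s hsm, PiSp_split q m s hsm] at h
  have hR := RSp_pos q m s hq hsm
  have hqT : 0 < q ^ (∑ j ∈ Finset.range s, j) := Nat.pow_pos (by omega)
  have h1 : C * q ^ (∑ j ∈ Finset.range s, j) * RSp q m s =
      O * (q ^ m ^ 2 * PiSp q (m - s)) * RSp q m s := by
    rw [mul_assoc, h]
    ring
  have h2 := Nat.eq_of_mul_eq_mul_right hR h1
  rw [← exp_identity m s hsm, pow_add, pow_add] at h2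
  apply Nat.eq_of_mul_eq_mul_right hqT
  rw [h2]
  ring

end Cfsg.Agent.Lib.Helper5.SpCent
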