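import Mathlib
import Cfsg.Agent.Lib.Helper5.SpCent3

set_option autoImplicit false

namespace Cfsg.Agent.Lib.Helper5.SpCent

theorem exp_identity_c (m h : ℕ) (hsm : 2 * (h + 1) ≤ m) :
    2 * m * (2 * (h + 1)) - (3 * (2 * (h + 1)) ^ 2 - 2 * (h + 1)) / 2 + (h + 1) ^ 2 =
      2 * m * (2 * (h + 1)) - (3 * (2 * (h + 1)) ^ 2 - 3 * (2 * (h + 1))) / 2 - 1 + h ^ 2 := by
  have h1 : (2 * (h + 1)) ^ 2 = 4 * h ^ 2 + 8 * h + 4 := by ring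
  have h2 : 2 * m * (2 * (h + 1)) = 4 * (m * h) + 4 * m := by ring
  have h3 : (h + 1) ^ 2 = h ^ 2 + 2 * h + 1 := by ring
  have h4 : (2 * (h + 1)) * h ≤ m * h := Nat.mul_le_mul_right _ hsm
  have h5 : (2 * (h + 1)) * h = 2 * h ^ 2 + 2 * h := by ring
  rw [h1, h2, h3]
  rw [h5] at h4
  generalize h ^ 2 = a at *
  generalize m * h = b at *
  omega

theorem arith_c (q m h C : ℕ) (hq : 2 ≤ q) (hsm : 2 * (h + 1) ≤ m)
    (hC : C * (∏ j ∈ Finset.range (2 * (h + 1)), (q ^ (2 * m - j) - q ^ j)) *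
      (q ^ (2 * (h + 1)) - 1) =
      (q ^ (h + 1) ^ 2 * PiSp q (h + 1)) * (q ^ m ^ 2 * PiSp q m)) :
    C = q ^ (2 * m * (2 * (h + 1)) - (3 * (2 * (h + 1)) ^ 2 - 3 * (2 * (h + 1))) / 2 - 1) *
      (q ^ h ^ 2 * PiSp q h) *
      (q ^ (m - 2 * (h + 1)) ^ 2 * PiSp q (m - 2 * (h + 1))) := by
  have hpos : 0 < q ^ (2 * (h + 1)) - 1 := by
    have h1 : 1 < q ^ (2 * (h + 1)) := Nat.one_lt_pow (by omega) (by omega)
    omega
  have h1 : PiSp q (h + 1) = PiSp q h * (q ^ (2 * (h + 1)) - 1) := by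
    unfold PiSp
    rw [Finset.prod_range_succ]
  rw [h1] at hC
  have h2 : C * (∏ j ∈ Finset.range (2 * (h + 1)), (q ^ (2 * m - j) - q ^ j)) *
      (q ^ (2 * (h + 1)) - 1) =
      (q ^ (h + 1) ^ 2 * PiSp q h) * (q ^ m ^ 2 * PiSp q m) * (q ^ (2 * (h + 1)) - 1) := by
    rw [hC]
    ring
  have h3 := Nat.eq_of_mul_eq_mul_right hpos h2
  have h4 := arith_main q m (2 * (h + 1)) C _ hq hsm h3
  rw [h4]
  have h5 := exp_identity_c m h hsm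
  have h6 : q ^ (2 * m * (2 * (h + 1)) - (3 * (2 * (h + 1)) ^ 2 - 2 * (h + 1)) / 2) *
      q ^ (h + 1) ^ 2 =
      q ^ (2 * m * (2 * (h + 1)) - (3 * (2 * (h + 1)) ^ 2 - 3 * (2 * (h + 1))) / 2 - 1) *
        q ^ h ^ 2 := by
    rw [← pow_add, ← pow_add, h5]
  calc _ = q ^ (2 * m * (2 * (h + 1)) - (3 * (2 * (h + 1)) ^ 2 - 2 * (h + 1)) / 2) *
        q ^ (h + 1) ^ 2 * PiSp q h *
        (q ^ (m - 2 * (h + 1)) ^ 2 * PiSp q (m - 2 * (h + 1))) := by ring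
    _ = _ := by rw [h6]; ring

end Cfsg.Agent.Lib.Helper5.SpCent
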