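import Mathlib
import Cfsg.Agent.Lib.Helper5.OCent6
import Cfsg.Agent.Lib.Helper5.SpCent4

set_option autoImplicit false

/-!
Arithmetic for the centralizer orders of involutions in `Ω⁺` in characteristic two.
-/

namespace Cfsg.Agent.Lib.Helper5.OCent

open Cfsg.Agent.Lib.Helper5.SpCent

theorem cancel1 (C TS Sp gm X Y : ℕ) (h1 : C * TS = Sp * gm) (h2 : TS * X = Y * gm)
    (hg : 0 < gm) : C * Y = Sp * X := by
  apply Nat.eq_of_mul_eq_mul_right hg
  calc C * Y * gm = C * (Y * gm) := by ring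
    _ = C * (TS * X) := by rw [h2]
    _ = (C * TS) * X := by ring
    _ = Sp * gm * X := by rw [h1]
    _ = Sp * X * gm := by ring

theorem gaussT (s : ℕ) : 2 * (∑ i ∈ Finset.range s, i) + s = s * s := by
  have h1 := Finset.sum_range_id_mul_two s
  have h2 : s * (s - 1) + s = s * s := by
    rcases s with _ | k
    · rfl
    · rw [Nat.add_sub_cancel]; ring
  omega

/-- type `a`: `E = e_a + T` -/
theorem expA (m s : ℕ) (hsm : s ≤ m) :
    Esum m s = 2 * m * s - (3 * s ^ 2 + s) / 2 + ∑ i ∈ Finset.range s, i := by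
  have h1 := Esum_add m s hsm
  have h2 := gaussT s
  have h3 : s * s ≤ s * m := Nat.mul_le_mul_left _ hsm
  have e1 : s ^ 2 = s * s := by ring
  have e2 : 2 * m * s = 2 * (s * m) := by ring
  have e3 : 2 * s * m = 2 * (s * m) := by ring
  rw [e1, e3] at h1
  rw [e1, e2]
  generalize s * s = a at *
  generalize s * m = b at *
  generalize ∑ i ∈ Finset.range s, i = T at *
  omega

/-- type `b`: the exponent identity -/
theorem expB (m h : ℕ) (hsm : 2 * h + 1 ≤ m) :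
    2 * m * (2 * h + 1 - 1) - (3 * (2 * h + 1) ^ 2 - 3 * (2 * h + 1)) / 2 +
      (m - (2 * h + 1)) ^ 2 + (m - 1) + ∑ i ∈ Finset.range (2 * h), i =
    Esum m (2 * h) + (m - (2 * h + 1) + 1) * (m - (2 * h + 1)) := by
  obtain ⟨k, rfl⟩ := Nat.exists_eq_add_of_le hsm
  have h1 := Esum_add (2 * h + 1 + k) (2 * h) (by omega)
  have h2 := gaussT (2 * h)
  have e0 : 2 * h + 1 + k - (2 * h + 1) = k := by omega
  have e00 : 2 * h + 1 - 1 = 2 * h := by omega
  rw [e0, e00]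
  have e1 : (2 * h + 1) ^ 2 = 4 * (h * h) + 4 * h + 1 := by ring
  have e2 : 2 * (2 * h + 1 + k) * (2 * h) = 8 * (h * h) + 4 * h + 4 * (h * k) := by ring
  have e3 : (2 * h) ^ 2 = 4 * (h * h) := by ring
  have e4 : 2 * (2 * h) * (2 * h + 1 + k) = 8 * (h * h) + 4 * h + 4 * (h * k) := by ring
  have e5 : 2 * h * (2 * h) = 4 * (h * h) := by ring
  have e6 : (k + 1) * k = k * k + k := by ring
  have e7 : k ^ 2 = k * k := by ring
  rw [e3, e4] at h1
  rw [e5] at h2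
  rw [e1, e2, e6, e7]
  generalize h * h = a at *
  generalize h * k = b at *
  generalize k * k = c at *
  generalize ∑ i ∈ Finset.range (2 * h), i = T at *
  generalize Esum (2 * h + 1 + k) (2 * h) = E at *
  omega

/-- type `c`: the exponent identity -/
theorem expC (m h : ℕ) (hsm : 2 * h + 1 + 1 ≤ m) :
    2 * m * (2 * h + 1 + 1 - 1) - (3 * (2 * h + 1 + 1) ^ 2 - 5 * (2 * h + 1 + 1)) / 2 - 1 +
      h ^ 2 + (m - (2 * h + 1 + 1)) ^ 2 + (m - 1) + ∑ i ∈ Finset.range (2 * h + 1), i =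
    (h + 1) ^ 2 + Esum m (2 * h + 1) +
      (m - (2 * h + 1 + 1) + 1) * (m - (2 * h + 1 + 1)) := by
  obtain ⟨k, rfl⟩ := Nat.exists_eq_add_of_le hsm
  have h1 := Esum_add (2 * h + 1 + 1 + k) (2 * h + 1) (by omega)
  have h2 := gaussT (2 * h + 1)
  have e0 : 2 * h + 1 + 1 + k - (2 * h + 1 + 1) = k := by omega
  have e00 : 2 * h + 1 + 1 - 1 = 2 * h + 1 := by omega
  rw [e0, e00]
  have e1 : (2 * h + 1 + 1) ^ 2 = 4 * (h * h) + 8 * h + 4 := by ring
  have e2 : 2 * (2 * h + 1 + 1 + k) * (2 * h + 1) =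
      8 * (h * h) + 12 * h + 4 * (h * k) + 2 * k + 4 := by ring
  have e3 : (2 * h + 1) ^ 2 = 4 * (h * h) + 4 * h + 1 := by ring
  have e4 : 2 * (2 * h + 1) * (2 * h + 1 + 1 + k) =
      8 * (h * h) + 12 * h + 4 * (h * k) + 2 * k + 4 := by ring
  have e5 : (2 * h + 1) * (2 * h + 1) = 4 * (h * h) + 4 * h + 1 := by ring
  have e6 : (k + 1) * k = k * k + k := by ring
  have e7 : k ^ 2 = k * k := by ring
  have e8 : (h + 1) ^ 2 = h * h + 2 * h + 1 := by ring
  have e9 : h ^ 2 = h * h := by ring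
  rw [e3, e4] at h1
  rw [e5] at h2
  rw [e1, e2, e6, e7, e8, e9]
  generalize h * h = a at *
  generalize h * k = b at *
  generalize k * k = c at *
  generalize ∑ i ∈ Finset.range (2 * h + 1), i = T at *
  generalize Esum (2 * h + 1 + 1 + k) (2 * h + 1) = E at *
  omega

/-- the common arithmetic for the types `b` and `c` -/
theorem arithBC (q N C TS Fr O₁ gm gk1 E T k a P : ℕ) (hq : 2 ≤ q)
    (h2N : 2 * N = C) (hId : C * Fr = O₁ * gm)
    (hFr : Fr + TS * q ^ a = TS * q ^ (a + (k + 1)))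
    (hTS : TS * q ^ E * gk1 = q ^ T * gm)
    (hgk1 : gk1 = 2 * q ^ ((k + 1) * k) * (q ^ (k + 1) - 1) * P) (hgm : 0 < gm) :
    N * q ^ a * q ^ T = O₁ * q ^ E * q ^ ((k + 1) * k) * P := by
  have hpos : 0 < q ^ (k + 1) - 1 := by
    have h1 : 1 < q ^ (k + 1) := Nat.one_lt_pow (by omega) (by omega)
    omega
  have hFr' : Fr = TS * (q ^ a * (q ^ (k + 1) - 1)) := by
    have h1 : TS * q ^ (a + (k + 1)) = TS * q ^ a * q ^ (k + 1) := by rw [pow_add]; ring
    have h2 : TS * (q ^ a * (q ^ (k + 1) - 1)) + TS * q ^ a = TS * q ^ a * q ^ (k + 1) := by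
      rw [Nat.mul_sub_one, Nat.mul_sub, ← Nat.mul_assoc]
      apply Nat.sub_add_cancel
      exact Nat.le_mul_of_pos_right _ (by omega)
    omega
  have h3 : (C * (q ^ a * (q ^ (k + 1) - 1))) * TS = O₁ * gm := by
    rw [← hId, hFr']
    ring
  have h4 := cancel1 (C * (q ^ a * (q ^ (k + 1) - 1))) TS O₁ gm (q ^ E * gk1) (q ^ T) h3
    (by rw [← hTS]; ring) hgm
  rw [← h2N, hgk1] at h4
  have h5 : N * q ^ a * q ^ T * (2 * (q ^ (k + 1) - 1)) =
      O₁ * q ^ E * q ^ ((k + 1) * k) * P * (2 * (q ^ (k + 1) - 1)) := by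
    calc N * q ^ a * q ^ T * (2 * (q ^ (k + 1) - 1)) =
        2 * N * (q ^ a * (q ^ (k + 1) - 1)) * q ^ T := by ring
      _ = O₁ * (q ^ E * (2 * q ^ ((k + 1) * k) * (q ^ (k + 1) - 1) * P)) := h4
      _ = _ := by ring
  exact Nat.eq_of_mul_eq_mul_right (by omega) h5

theorem cancel_pow (q N Z a T : ℕ) (hq : 2 ≤ q) (h : N * q ^ a * q ^ T = Z * q ^ (a + T)) :
    N = Z := by
  rw [pow_add, ← mul_assoc] at h
  have h1 : 0 < q ^ T := Nat.pow_pos (by omega)
  have h2 : 0 < q ^ a := Nat.pow_pos (by omega)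
  exact Nat.eq_of_mul_eq_mul_right h2 (Nat.eq_of_mul_eq_mul_right h1 h)

end Cfsg.Agent.Lib.Helper5.OCent
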