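import Mathlib
import Cfsg.Agent.Lib.Helper5.OCent7
import Cfsg.Agent.S0245

set_option autoImplicit false

/-!
Centralizer orders of involutions in `Ω⁺_{2m}(q)`, `q` even.
-/

namespace Cfsg.Agent.Lib.Helper5.OCent

open Matrix Module Cfsg.Agent.Lib.Helper2.Symp Cfsg.Agent.Lib.Helper1.SpBasic
  Cfsg.Agent.Lib.Helper2.SpIsom Cfsg.Agent.Lib.Helper5.SpInv2 Cfsg.Agent.Lib.Helper5.SpCent
  Cfsg.Agent.Lib.Helper5.O2Sp Cfsg.Agent.Lib.Helper2.IsoFrames Cfsg.Agent.Lib.Helper5.InvSplit2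
  Cfsg.Agent.Lib.Helper5.QuadGlue Cfsg.Agent.Lib.Helper5.InvConj

variable {F : Type*} [Field F] [Fintype F] [CharP F 2] {m : ℕ}

theorem card_G_eq : Nat.card ↥(Cfsg.isometryGroup F ⇑(QP m F)) = gO F m := by
  unfold gO
  rw [Cfsg.Agent.Lib.Helper2.QuadStd.QP_coe]

theorem gO_succ_eq {q : ℕ} (hF : Fintype.card F = q) (k : ℕ) :
    gO F (k + 1) = 2 * q ^ ((k + 1) * k) * (q ^ (k + 1) - 1) * PiSp q k := by
  unfold gO PiSp
  rw [Cfsg.Agent.Lib.Helper2.OrthCard.card_plus k, hF]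

theorem card_sp_eq {q : ℕ} (hF : Fintype.card F = q) (h : ℕ) :
    Nat.card (Matrix.symplecticGroup (Fin h) F) = q ^ h ^ 2 * PiSp q h := by
  unfold PiSp
  exact Cfsg.Agent.S0245.result hF h

theorem rank_le_m (x : ↥(Cfsg.isometryGroup F ⇑(QP m F))) (hx : x * x = 1) {s : ℕ}
    (hs : (((x : Matrix.GeneralLinearGroup (Fin m ⊕ Fin m) F) :
        Matrix (Fin m ⊕ Fin m) (Fin m ⊕ Fin m) F) - 1).rank = s) : s ≤ m := by
  have hP : PolSymp (QP m F) := QP_polSymp'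
  have hx' : toSpQ hP x * toSpQ hP x = 1 := by
    rw [← map_mul, hx, map_one]
  exact le_of_rank (toSpQ hP x) hx' hs

/-- type `b` -/
theorem omega_cent_typeB {q : ℕ} (hF : Fintype.card F = q)
    (hex : Fintype.card F ≠ 2 ∨ m ≠ 2) (h : ℕ)
    (x : ↥(Cfsg.isometryGroup F ⇑(QP m F))) (hx : x * x = 1)
    (hs : (((x : Matrix.GeneralLinearGroup (Fin m ⊕ Fin m) F) :
        Matrix (Fin m ⊕ Fin m) (Fin m ⊕ Fin m) F) - 1).rank = 2 * h + 1) :
    Nat.card {g : ↥(Cfsg.Omega F ⇑(QP m F)) // (g : ↥(Cfsg.isometryGroup F ⇑(QP m F))) * x =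
        x * (g : ↥(Cfsg.isometryGroup F ⇑(QP m F)))} =
      q ^ (2 * m * (2 * h + 1 - 1) - (3 * (2 * h + 1) ^ 2 - 3 * (2 * h + 1)) / 2) *
        (q ^ h ^ 2 * PiSp q h) *
        (q ^ (m - (2 * h + 1)) ^ 2 * PiSp q (m - (2 * h + 1))) := by
  have hP : PolSymp (QP m F) := QP_polSymp'
  have hq : 2 ≤ q := by
    rw [← hF]
    exact Fintype.one_lt_card
  have hsm : 2 * h + 1 ≤ m := rank_le_m x hx hs
  have hx' : toSpQ hP x * toSpQ hP x = 1 := by
    rw [← map_mul, hx, map_one]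
  have halt : ¬ IsAltInv (toSpQ hP x) := by
    intro hcon
    have := even_rank_of_isAltInv (s := 2 * h + 1) (toSpQ hP x) hx' hs hcon
    rw [Nat.even_add_one] at this
    exact this (even_two_mul h)
  have hId := card_centralizer_O_typeB hP h x hx hs
  have h2N := card_comm_Omega_not_lag hP (by omega) hex x hx (by
    rintro ⟨-, h2⟩
    exact halt ((isAltInv_iff_Q hP x).2 h2))
  have hFr := ncard_qframe_one (F := F) (m := m) (2 * h) hsm
  have hTS := ncard_ts_mul (F := F) (m := m) (2 * h) (by omega)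
  rw [card_G_eq, card_sp_eq hF] at hId
  obtain ⟨k, hk⟩ : ∃ k, m = 2 * h + 1 + k := Nat.exists_eq_add_of_le hsm
  have e1 : m - 2 * h = k + 1 := by omega
  have e2 : 2 * m - 2 * h - 1 = (m - 1) + (k + 1) := by omega
  have e3 : m - (2 * h + 1) = k := by omega
  rw [e1] at hTS
  rw [e2] at hFr
  rw [hF] at hFr hTS
  have key := arithBC q _ _ _ _ _ _ _ _ _ k (m - 1) (PiSp q k) hq h2N hId hFr hTS
    (gO_succ_eq hF k) (gO_pos m)
  have hexp := expB m h hsm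
  rw [e3] at hexp ⊢
  apply cancel_pow q _ _ (m - 1) (∑ i ∈ Finset.range (2 * h), i) hq
  rw [key]
  have : q ^ Esum m (2 * h) * q ^ ((k + 1) * k) =
      q ^ (2 * m * (2 * h + 1 - 1) - (3 * (2 * h + 1) ^ 2 - 3 * (2 * h + 1)) / 2) * q ^ k ^ 2 *
        q ^ (m - 1 + ∑ i ∈ Finset.range (2 * h), i) := by
    rw [← pow_add, ← pow_add, ← pow_add, ← hexp]
    congr 1
    ring
  calc q ^ h ^ 2 * PiSp q h * q ^ Esum m (2 * h) * q ^ ((k + 1) * k) * PiSp q k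
      = q ^ h ^ 2 * PiSp q h * (q ^ Esum m (2 * h) * q ^ ((k + 1) * k)) * PiSp q k := by ring
    _ = _ := by rw [this]; ring

/-- type `c` -/
theorem omega_cent_typeC {q : ℕ} (hF : Fintype.card F = q)
    (hex : Fintype.card F ≠ 2 ∨ m ≠ 2) (h : ℕ)
    (x : ↥(Cfsg.isometryGroup F ⇑(QP m F))) (hx : x * x = 1)
    (hs : (((x : Matrix.GeneralLinearGroup (Fin m ⊕ Fin m) F) :
        Matrix (Fin m ⊕ Fin m) (Fin m ⊕ Fin m) F) - 1).rank = 2 * h + 1 + 1)
    (hna : ¬ ∀ v : Fin m ⊕ Fin m → F, QP m F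
      ((((x : Matrix.GeneralLinearGroup (Fin m ⊕ Fin m) F) :
        Matrix (Fin m ⊕ Fin m) (Fin m ⊕ Fin m) F) - 1) *ᵥ v) = 0) :
    Nat.card {g : ↥(Cfsg.Omega F ⇑(QP m F)) // (g : ↥(Cfsg.isometryGroup F ⇑(QP m F))) * x =
        x * (g : ↥(Cfsg.isometryGroup F ⇑(QP m F)))} =
      q ^ (2 * m * (2 * h + 1 + 1 - 1) -
          (3 * (2 * h + 1 + 1) ^ 2 - 5 * (2 * h + 1 + 1)) / 2 - 1) *
        (q ^ h ^ 2 * PiSp q h) *
        (q ^ (m - (2 * h + 1 + 1)) ^ 2 * PiSp q (m - (2 * h + 1 + 1))) := by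
  have hP : PolSymp (QP m F) := QP_polSymp'
  have hq : 2 ≤ q := by
    rw [← hF]
    exact Fintype.one_lt_card
  have hsm : 2 * h + 1 + 1 ≤ m := rank_le_m x hx hs
  have hId := card_centralizer_O_typeC hP h x hx hs hna
  have h2N := card_comm_Omega_not_lag hP (by omega) hex x hx (by
    rintro ⟨-, h2⟩
    exact hna h2)
  have hFr := ncard_qframe_one (F := F) (m := m) (2 * h + 1) hsm
  have hTS := ncard_ts_mul (F := F) (m := m) (2 * h + 1) (by omega)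
  rw [card_G_eq, card_sp_eq hF, hF] at hId
  obtain ⟨k, hk⟩ : ∃ k, m = 2 * h + 1 + 1 + k := Nat.exists_eq_add_of_le hsm
  have e1 : m - (2 * h + 1) = k + 1 := by omega
  have e2 : 2 * m - (2 * h + 1) - 1 = (m - 1) + (k + 1) := by omega
  have e3 : m - (2 * h + 1 + 1) = k := by omega
  rw [e1] at hTS
  rw [e2] at hFr
  rw [hF] at hFr hTS
  -- cancel the factor `q^(2(h+1)) - 1`
  have hpos : 0 < q ^ (2 * (h + 1)) - 1 := by
    have h1 : 1 < q ^ (2 * (h + 1)) := Nat.one_lt_pow (by omega) (by omega)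
    omega
  have hPi : PiSp q (h + 1) = PiSp q h * (q ^ (2 * (h + 1)) - 1) := by
    unfold PiSp
    rw [Finset.prod_range_succ]
  rw [hPi] at hId
  have hId' : Nat.card ↥(Subgroup.centralizer ({x} : Set ↥(Cfsg.isometryGroup F ⇑(QP m F)))) *
      (QFrame (QP m F) (Fin.cons 1 (0 : Fin (2 * h + 1) → F) : Fin (2 * h + 1 + 1) → F)).ncard =
      (q ^ (h + 1) ^ 2 * PiSp q h) * gO F m := by
    apply Nat.eq_of_mul_eq_mul_right hpos
    rw [hId]
    ring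
  have key := arithBC q _ _ _ _ _ _ _ _ _ k (m - 1) (PiSp q k) hq h2N hId' hFr hTS
    (gO_succ_eq hF k) (gO_pos m)
  have hexp := expC m h hsm
  rw [e3] at hexp ⊢
  apply cancel_pow q _ _ (m - 1) (∑ i ∈ Finset.range (2 * h + 1), i) hq
  rw [key]
  have : q ^ (h + 1) ^ 2 * q ^ Esum m (2 * h + 1) * q ^ ((k + 1) * k) =
      q ^ (2 * m * (2 * h + 1 + 1 - 1) -
          (3 * (2 * h + 1 + 1) ^ 2 - 5 * (2 * h + 1 + 1)) / 2 - 1) * q ^ h ^ 2 * q ^ k ^ 2 *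
        q ^ (m - 1 + ∑ i ∈ Finset.range (2 * h + 1), i) := by
    rw [← pow_add, ← pow_add, ← pow_add, ← pow_add, ← pow_add, ← hexp]
    congr 1
    ring
  calc q ^ (h + 1) ^ 2 * PiSp q h * q ^ Esum m (2 * h + 1) * q ^ ((k + 1) * k) * PiSp q k
      = (q ^ (h + 1) ^ 2 * q ^ Esum m (2 * h + 1) * q ^ ((k + 1) * k)) * PiSp q h * PiSp q k := by
        ring
    _ = _ := by rw [this]; ring

theorem eq_one_of_rank_zero {Q : (Fin m ⊕ Fin m → F) → F} (x : ↥(Cfsg.isometryGroup F Q))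
    (hs : (((x : Matrix.GeneralLinearGroup (Fin m ⊕ Fin m) F) :
        Matrix (Fin m ⊕ Fin m) (Fin m ⊕ Fin m) F) - 1).rank = 0) : x = 1 := by
  have h0 : LinearMap.range ((((x : Matrix.GeneralLinearGroup (Fin m ⊕ Fin m) F) :
      Matrix (Fin m ⊕ Fin m) (Fin m ⊕ Fin m) F) - 1).mulVecLin) = ⊥ :=
    Submodule.finrank_eq_zero.1 hs
  rw [LinearMap.range_eq_bot] at h0
  have h1 : ((x : Matrix.GeneralLinearGroup (Fin m ⊕ Fin m) F) :
      Matrix (Fin m ⊕ Fin m) (Fin m ⊕ Fin m) F) - 1 = 0 := by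
    ext i j
    have := congrFun (LinearMap.congr_fun h0 (Pi.single j 1)) i
    rw [Matrix.mulVecLin_apply, Matrix.mulVec_single_one] at this
    exact this
  apply Subtype.ext
  apply Units.ext
  exact sub_eq_zero.1 h1

/-- type `a` -/
theorem omega_cent_typeA {q : ℕ} (hF : Fintype.card F = q)
    (hex : Fintype.card F ≠ 2 ∨ m ≠ 2) (h : ℕ)
    (x : ↥(Cfsg.isometryGroup F ⇑(QP m F))) (hx : x * x = 1) (hx1 : x ≠ 1)
    (hs : (((x : Matrix.GeneralLinearGroup (Fin m ⊕ Fin m) F) :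
        Matrix (Fin m ⊕ Fin m) (Fin m ⊕ Fin m) F) - 1).rank = 2 * h)
    (halt : ∀ v : Fin m ⊕ Fin m → F, QP m F
      ((((x : Matrix.GeneralLinearGroup (Fin m ⊕ Fin m) F) :
        Matrix (Fin m ⊕ Fin m) (Fin m ⊕ Fin m) F) - 1) *ᵥ v) = 0) :
    Nat.card {g : ↥(Cfsg.Omega F ⇑(QP m F)) // (g : ↥(Cfsg.isometryGroup F ⇑(QP m F))) * x =
        x * (g : ↥(Cfsg.isometryGroup F ⇑(QP m F)))} =
      q ^ (2 * m * (2 * h) - (3 * (2 * h) ^ 2 + 2 * h) / 2) * (q ^ h ^ 2 * PiSp q h) *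
        (if 2 * h = m then 1 else q ^ ((m - 2 * h) * (m - 2 * h - 1)) * (q ^ (m - 2 * h) - 1) *
          PiSp q (m - 2 * h - 1)) := by
  have hP : PolSymp (QP m F) := QP_polSymp'
  have hq : 2 ≤ q := by
    rw [← hF]
    exact Fintype.one_lt_card
  have hsm : 2 * h ≤ m := rank_le_m x hx hs
  have hh : 1 ≤ h := by
    by_contra hcon
    have h0 : h = 0 := by omega
    subst h0
    exact hx1 (eq_one_of_rank_zero x hs)
  have hId := card_centralizer_O_typeA hP h x hx hs halt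
  have hTS := ncard_ts_mul (F := F) (m := m) (2 * h) hsm
  rw [card_G_eq, card_sp_eq hF] at hId
  rw [hF] at hTS
  have h4 := cancel1 _ _ _ _ (q ^ Esum m (2 * h) * gO F (m - 2 * h))
    (q ^ (∑ i ∈ Finset.range (2 * h), i)) hId (by rw [← hTS]; ring) (gO_pos m)
  rw [expA m (2 * h) hsm, pow_add] at h4
  have hqT : 0 < q ^ (∑ i ∈ Finset.range (2 * h), i) := Nat.pow_pos (by omega)
  have h5 : Nat.card ↥(Subgroup.centralizer ({x} : Set ↥(Cfsg.isometryGroup F ⇑(QP m F)))) =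
      q ^ h ^ 2 * PiSp q h * q ^ (2 * m * (2 * h) - (3 * (2 * h) ^ 2 + 2 * h) / 2) *
        gO F (m - 2 * h) := by
    apply Nat.eq_of_mul_eq_mul_right hqT
    rw [h4]
    ring
  by_cases hm : 2 * h = m
  · rw [if_pos hm]
    have hlag := card_comm_Omega_lag hP (by omega) hex x ⟨by rw [hs, hm], halt⟩
    rw [hlag, h5]
    have : m - 2 * h = 0 := by omega
    rw [this]
    unfold gO
    rw [Cfsg.Agent.Lib.Helper2.OrthCard.card_plus_zero]
    ring
  · rw [if_neg hm]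
    have h2N := card_comm_Omega_not_lag hP (by omega) hex x hx (by
      rintro ⟨h1, -⟩
      rw [hs] at h1
      omega)
    obtain ⟨k, hk⟩ : ∃ k, m = 2 * h + (k + 1) := ⟨m - 2 * h - 1, by omega⟩
    have e1 : m - 2 * h = k + 1 := by omega
    have e2 : m - 2 * h - 1 = k := by omega
    rw [e1] at h5 ⊢
    rw [gO_succ_eq hF k, ← h2N] at h5
    have : (k + 1 - 1) = k := by omega
    rw [this]
    apply Nat.eq_of_mul_eq_mul_left (by norm_num : 0 < 2)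
    rw [h5]
    ring

end Cfsg.Agent.Lib.Helper5.OCent
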