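import Mathlib
import Cfsg.Agent.Lib.Helper5.OCent8
import Cfsg.Agent.Lib.Helper5.WittIndex
import Cfsg.Agent.Lib.Helper5.OmegaCrit

set_option autoImplicit false

/-!
Elements of prime order of `Ω⁺_{2d}(q)`, `q` even, and fixed nonsingular vectors.
-/

namespace Cfsg.Agent.Lib.Helper5.NsPt

open Matrix Module Cfsg.Agent.Lib.Helper5.SpInv2 Cfsg.Agent.Lib.Helper5.O2Sp
  Cfsg.Agent.Lib.Helper5.QuadGlue Cfsg.Agent.Lib.Helper5.InvSplit2 Cfsg.Agent.Lib.Helper5.OCent

section fixedvec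

variable {F : Type*} [Field F] [CharP F 2] {ι : Type*} [Fintype ι] [DecidableEq ι]

/-- an isometry stabilizing a nonsingular point fixes its vectors (characteristic two) -/
theorem fixed_of_point (Q : (ι → F) → F) (hQs : ∀ (c : F) v, Q (c • v) = c ^ 2 * Q v)
    (x : Matrix ι ι F) (hx : ∀ v, Q (x *ᵥ v) = Q v) (W : Submodule F (ι → F))
    (hW : finrank F W = 1) (v : ι → F) (hv : v ∈ W) (hvQ : Q v ≠ 0)
    (hmap : W.map (Matrix.toLin' x) ≤ W) : x *ᵥ v = v := by
  have hv0 : v ≠ 0 := by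
    rintro rfl
    have := hQs 0 0
    rw [zero_smul, zero_pow (by norm_num), zero_mul] at this
    exact hvQ this
  have h1 : x *ᵥ v ∈ W := hmap ⟨v, hv, by rw [Matrix.toLin'_apply]⟩
  have hne : (⟨v, hv⟩ : W) ≠ 0 := fun h => hv0 (congrArg Subtype.val h)
  obtain ⟨c, hc⟩ := exists_smul_eq_of_finrank_eq_one hW hne ⟨x *ᵥ v, h1⟩
  have hc' : c • v = x *ᵥ v := congrArg Subtype.val hc
  have h2 : c ^ 2 * Q v = Q v := by rw [← hQs, hc', hx]
  have h3 : c ^ 2 = 1 := by
    have : (c ^ 2 - 1) * Q v = 0 := by rw [sub_mul, h2, one_mul, sub_self]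
    rcases mul_eq_zero.1 this with h | h
    · exact sub_eq_zero.1 h
    · exact absurd h hvQ
  have h4 : (c - 1) ^ 2 = 0 := by
    have h2' : (2 : F) = 0 := CharTwo.two_eq_zero
    have : (c - 1) ^ 2 = c ^ 2 - 2 * c + 1 := by ring
    rw [this, h3, h2', zero_mul, sub_zero]
    exact CharTwo.add_self_eq_zero 1
  have h5 : c = 1 := sub_eq_zero.1 (pow_eq_zero_iff (by norm_num) |>.1 h4)
  rw [← hc', h5, one_smul]

end fixedvec

section main

variable {F : Type*} [Field F] [Fintype F] [CharP F 2] {d : ℕ}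

theorem hex_of_le (hd : 3 ≤ d) : Fintype.card F ≠ 2 ∨ Fintype.card (Fin d ⊕ Fin d) ≠ 4 := by
  right
  rw [Fintype.card_sum, Fintype.card_fin]
  omega

theorem hn_of_le (hd : 1 ≤ d) : 2 ≤ Fintype.card (Fin d ⊕ Fin d) := by
  rw [Fintype.card_sum, Fintype.card_fin]
  omega

/-- an involution of `Ω⁺_{2d}`, `d` odd, fixes a nonsingular vector -/
theorem exists_fixed_nonsing (hd : 3 ≤ d) (hodd : Odd d)
    (g : ↥(Cfsg.isometryGroup F ⇑(QP d F)))
    (hg : g ∈ Cfsg.Omega F ⇑(QP d F)) (hg2 : g * g = 1) :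
    ∃ v : Fin d ⊕ Fin d → F,
      ((g : Matrix.GeneralLinearGroup (Fin d ⊕ Fin d) F) :
        Matrix (Fin d ⊕ Fin d) (Fin d ⊕ Fin d) F) *ᵥ v = v ∧ QP d F v ≠ 0 := by
  classical
  by_contra hcon
  push Not at hcon
  have h2 : (2 : F) = 0 := CharTwo.two_eq_zero
  have hP : PolSymp (QP d F) := QP_polSymp'
  set M : Matrix (Fin d ⊕ Fin d) (Fin d ⊕ Fin d) F :=
    ((g : Matrix.GeneralLinearGroup (Fin d ⊕ Fin d) F) :
        Matrix (Fin d ⊕ Fin d) (Fin d ⊕ Fin d) F) with hM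
  have heven : Even (M - 1).rank :=
    (Cfsg.Agent.Lib.Helper5.OmegaCrit.mem_commutator_iff_rank₂ h2 hP.nondeg (hex_of_le hd)
      (hn_of_le (by omega)) g).1 hg
  have hsd : (M - 1).rank ≤ d := rank_le_m g hg2 rfl
  -- the fixed space is totally singular
  have hK : ∀ u ∈ LinearMap.ker (Matrix.toLin' (M - 1)), Cfsg.quadFormPlus d F u = 0 := by
    intro u hu
    rw [LinearMap.mem_ker, Matrix.toLin'_apply, Matrix.sub_mulVec, Matrix.one_mulVec, sub_eq_zero]
      at hu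
    rw [← QP_apply]
    exact hcon u hu
  have h3 := Cfsg.Agent.Lib.Helper5.finrank_le_of_totallySingular_plus _ hK
  have h4 := LinearMap.finrank_range_add_finrank_ker (Matrix.toLin' (M - 1))
  have h5 : finrank F (LinearMap.range (Matrix.toLin' (M - 1))) = (M - 1).rank := by
    rw [Matrix.rank, Matrix.toLin'_apply']
  rw [h5, Module.finrank_fintype_fun_eq_card, Fintype.card_sum, Fintype.card_fin] at h4
  have h6 : (M - 1).rank = d := by omega
  rw [h6] at heven
  exact (Nat.not_even_iff_odd.2 hodd) heven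

end main

end Cfsg.Agent.Lib.Helper5.NsPt
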