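import Mathlib
import Cfsg.Agent.Lib.Helper5.NsPt3

set_option autoImplicit false

namespace Cfsg.Agent.Lib.Helper5.NsPt

open Matrix Module Cfsg.Agent.Lib.Helper5.SpInv2 Cfsg.Agent.Lib.Helper5.O2Sp
  Cfsg.Agent.Lib.Helper5.QuadGlue Cfsg.Agent.Lib.Helper5.InvSplit2 Cfsg.Agent.Lib.Helper5.OCent

section amat

variable {F : Type*} [Field F] {d : ℕ}

/-- the antidiagonal matrix -/
def aMat (d : ℕ) (F : Type*) [Field F] : Matrix (Fin d) (Fin d) F :=
  fun i j => if j = Fin.rev i then 1 else 0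

theorem aMat_mulVec (b : Fin d → F) (i : Fin d) : (aMat d F *ᵥ b) i = b (Fin.rev i) := by
  simp [Matrix.mulVec, dotProduct, aMat]

theorem aMat_transpose : (aMat d F)ᵀ = aMat d F := by
  ext i j
  simp only [Matrix.transpose_apply, aMat]
  by_cases h : j = Fin.rev i
  · have h' : i = Fin.rev j := by rw [h, Fin.rev_rev]
    rw [if_pos h, if_pos h']
  · have h' : ¬ i = Fin.rev j := by
      intro h2
      apply h
      rw [h2, Fin.rev_rev]
    rw [if_neg h, if_neg h']

theorem aMat_mulVec_eq_zero (b : Fin d → F) (h : aMat d F *ᵥ b = 0) : b = 0 := by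
  funext i
  have := congrFun h (Fin.rev i)
  rw [aMat_mulVec, Fin.rev_rev] at this
  exact this

theorem aMat_mul_self : aMat d F * aMat d F = 1 := by
  apply Matrix.toLin'.injective
  apply LinearMap.ext
  intro b
  rw [Matrix.toLin'_mul, LinearMap.comp_apply, Matrix.toLin'_apply, Matrix.toLin'_apply,
    Matrix.toLin'_one, LinearMap.id_apply]
  funext i
  rw [aMat_mulVec, aMat_mulVec, Fin.rev_rev]

theorem aMat_rank : (aMat d F).rank = d := by
  have hu : IsUnit (aMat d F) := ⟨⟨aMat d F, aMat d F, aMat_mul_self, aMat_mul_self⟩, rfl⟩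
  rw [Matrix.rank_of_isUnit _ hu, Fintype.card_fin]

theorem aMat_alt [CharP F 2] (hd : Even d) (b : Fin d → F) : b ⬝ᵥ aMat d F *ᵥ b = 0 := by
  unfold dotProduct
  simp only [aMat_mulVec]
  apply Finset.sum_involution (fun i _ => Fin.rev i)
  · intro i _
    rw [Fin.rev_rev, mul_comm (b (Fin.rev i))]
    exact CharTwo.add_self_eq_zero _
  · intro i _ _ h
    obtain ⟨k, rfl⟩ := hd
    have h1 := congrArg Fin.val h
    rw [Fin.val_rev] at h1
    omega
  · intro i _
    exact Finset.mem_univ _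
  · intro i _
    exact Fin.rev_rev i

end amat

section constructions

variable {F : Type*} [Field F] [Fintype F] [CharP F 2] {d : ℕ}

theorem QP_uMat (S : Matrix (Fin d) (Fin d) F) (hS : ∀ b : Fin d → F, b ⬝ᵥ S *ᵥ b = 0)
    (v : Fin d ⊕ Fin d → F) : QP d F (uMat S *ᵥ v) = QP d F v := by
  rw [uMat_mulVec, QP_apply, QP_apply]
  unfold Cfsg.quadFormPlus
  have h := hS (fun i => v (Sum.inr i))
  unfold dotProduct at h
  simp only [Pi.add_apply, Sum.elim_inl, Sum.elim_inr, Pi.zero_apply, add_zero, add_mul,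
    Finset.sum_add_distrib]
  rw [add_eq_left, ← h]
  apply Finset.sum_congr rfl
  intro i _
  exact mul_comm _ _

/-- the involution of type `a_d` -/
theorem exists_invol_no_fixed (hd : 3 ≤ d) (heven : Even d) :
    ∃ g : ↥(Cfsg.isometryGroup F ⇑(QP d F)), g ∈ Cfsg.Omega F ⇑(QP d F) ∧
      ((g : Matrix.GeneralLinearGroup (Fin d ⊕ Fin d) F) :
        Matrix (Fin d ⊕ Fin d) (Fin d ⊕ Fin d) F) *
      ((g : Matrix.GeneralLinearGroup (Fin d ⊕ Fin d) F) :
        Matrix (Fin d ⊕ Fin d) (Fin d ⊕ Fin d) F) = 1 ∧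
      (∀ z : F, ((g : Matrix.GeneralLinearGroup (Fin d ⊕ Fin d) F) :
        Matrix (Fin d ⊕ Fin d) (Fin d ⊕ Fin d) F) ≠ z • 1) ∧
      ∀ v : Fin d ⊕ Fin d → F, ((g : Matrix.GeneralLinearGroup (Fin d ⊕ Fin d) F) :
        Matrix (Fin d ⊕ Fin d) (Fin d ⊕ Fin d) F) *ᵥ v = v → QP d F v = 0 := by
  classical
  have h2 : (2 : F) = 0 := CharTwo.two_eq_zero
  have hP : PolSymp (QP d F) := QP_polSymp'
  have hpres : ∀ v, QP d F ((uS (aMat d F) aMat_transpose).1 *ᵥ v) = QP d F v :=
    fun v => QP_uMat (aMat d F) (aMat_alt heven) v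
  let g : ↥(Cfsg.isometryGroup F ⇑(QP d F)) := ofSp (uS (aMat d F) aMat_transpose) hpres
  have hg : ((g : Matrix.GeneralLinearGroup (Fin d ⊕ Fin d) F) :
        Matrix (Fin d ⊕ Fin d) (Fin d ⊕ Fin d) F) = uMat (aMat d F) := rfl
  refine ⟨g, ?_, ?_, ?_, ?_⟩
  · rw [Cfsg.Agent.Lib.Helper5.OmegaCrit.mem_commutator_iff_rank₂ h2 hP.nondeg (hex_of_le hd)
      (hn_of_le (by omega)) g, hg, rank_uMat_sub_one, aMat_rank]
    exact heven
  · rw [hg]
    unfold uMat
    rw [Matrix.fromBlocks_multiply]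
    simp only [Matrix.one_mul, Matrix.mul_one, Matrix.zero_mul, Matrix.mul_zero, add_zero, zero_add]
    have e0 : aMat d F + aMat d F = 0 := by
      ext i j
      simp only [Matrix.add_apply, Matrix.zero_apply]
      exact CharTwo.add_self_eq_zero _
    rw [e0, Matrix.fromBlocks_one]
  · intro z hz
    rw [hg] at hz
    have i0 : Fin d := ⟨0, by omega⟩
    have := congrFun (congrFun hz (Sum.inl i0)) (Sum.inr (Fin.rev i0))
    simp [uMat, aMat] at this
  · intro v hv
    rw [hg, uMat_mulVec, add_eq_left] at hv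
    have h0 : aMat d F *ᵥ (fun i => v (Sum.inr i)) = 0 := by
      funext i
      have := congrFun hv (Sum.inl i)
      simpa using this
    have h1 := aMat_mulVec_eq_zero _ h0
    rw [QP_apply]
    unfold Cfsg.quadFormPlus
    apply Finset.sum_eq_zero
    intro i _
    have := congrFun h1 i
    simp only [Pi.zero_apply] at this
    rw [this, mul_zero]

theorem sq_mem_Omega (hd : 3 ≤ d) (g : ↥(Cfsg.isometryGroup F ⇑(QP d F))) :
    g ^ 2 ∈ Cfsg.Omega F ⇑(QP d F) := by
  have h2 : (2 : F) = 0 := CharTwo.two_eq_zero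
  have hP : PolSymp (QP d F) := QP_polSymp'
  have hidx := index_commutator h2 hP.nondeg (hex_of_le hd) (hn_of_le (d := d) (by omega))
  rw [← QuotientGroup.eq_one_iff, QuotientGroup.mk_pow]
  have hc : Nat.card (↥(Cfsg.isometryGroup F ⇑(QP d F)) ⧸
      commutator ↥(Cfsg.isometryGroup F ⇑(QP d F))) = 2 := by
    rw [← Subgroup.index_eq_card]; exact hidx
  rw [← hc]
  exact pow_card_eq_one'

theorem mem_Omega_of_pow_eq_one (hd : 3 ≤ d) (g : ↥(Cfsg.isometryGroup F ⇑(QP d F)))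
    (r : ℕ) (hr : Odd r) (hg : g ^ r = 1) : g ∈ Cfsg.Omega F ⇑(QP d F) := by
  obtain ⟨k, rfl⟩ := hr
  have : g = (g ^ (k + 1)) ^ 2 := by
    rw [← pow_mul, show (k + 1) * 2 = (2 * k + 1) + 1 by ring, pow_succ, hg, one_mul]
  rw [this]
  exact sq_mem_Omega hd _

theorem dMat_pow (P Q : Matrix (Fin d) (Fin d) F) (k : ℕ) :
    dMat P Q ^ k = dMat (P ^ k) (Q ^ k) := by
  induction k with
  | zero =>
    simp only [pow_zero]
    unfold dMat
    rw [Matrix.transpose_one, Matrix.fromBlocks_one]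
  | succ k ih =>
    rw [pow_succ, ih]
    unfold dMat
    rw [Matrix.fromBlocks_multiply]
    simp only [Matrix.zero_mul, Matrix.mul_zero, add_zero, zero_add]
    rw [pow_succ, pow_succ' Q, Matrix.transpose_mul]

theorem dMat_mulVec (P Q : Matrix (Fin d) (Fin d) F) (v : Fin d ⊕ Fin d → F) :
    dMat P Q *ᵥ v = Sum.elim (P *ᵥ fun i => v (Sum.inl i)) (Qᵀ *ᵥ fun i => v (Sum.inr i)) := by
  unfold dMat
  rw [Matrix.fromBlocks_mulVec]
  funext k
  rcases k with k | k
  · simp only [Sum.elim_inl, Matrix.zero_mulVec, add_zero]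
    rfl
  · simp only [Sum.elim_inr, Matrix.zero_mulVec, zero_add]
    rfl

theorem QP_dMat (P Q : Matrix (Fin d) (Fin d) F) (h : P * Q = 1) (v : Fin d ⊕ Fin d → F) :
    QP d F (dMat P Q *ᵥ v) = QP d F v := by
  have h' : Q * P = 1 := _root_.mul_eq_one_comm.1 h
  rw [dMat_mulVec, QP_apply, QP_apply]
  unfold Cfsg.quadFormPlus
  simp only [Sum.elim_inl, Sum.elim_inr]
  have e1 : ∑ i : Fin d, (P *ᵥ fun i => v (Sum.inl i)) i * (Qᵀ *ᵥ fun i => v (Sum.inr i)) i =
      (P *ᵥ fun i => v (Sum.inl i)) ⬝ᵥ (Qᵀ *ᵥ fun i => v (Sum.inr i)) := rfl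
  rw [e1, Matrix.dotProduct_mulVec, Matrix.vecMul_transpose, Matrix.mulVec_mulVec, h',
    Matrix.one_mulVec]
  rfl

/-- an element of odd order `r` without fixed nonsingular vectors -/
theorem exists_odd_no_fixed (hd : 3 ≤ d) (r : ℕ) (hr : Odd r)
    (P Q : Matrix (Fin d) (Fin d) F) (h : P * Q = 1) (hPr : P ^ r = 1)
    (hfix : ∀ a : Fin d → F, P *ᵥ a = a → a = 0) :
    ∃ g : ↥(Cfsg.isometryGroup F ⇑(QP d F)), g ∈ Cfsg.Omega F ⇑(QP d F) ∧
      ((g : Matrix.GeneralLinearGroup (Fin d ⊕ Fin d) F) :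
        Matrix (Fin d ⊕ Fin d) (Fin d ⊕ Fin d) F) ^ r = 1 ∧
      (∀ z : F, ((g : Matrix.GeneralLinearGroup (Fin d ⊕ Fin d) F) :
        Matrix (Fin d ⊕ Fin d) (Fin d ⊕ Fin d) F) ≠ z • 1) ∧
      ∀ v : Fin d ⊕ Fin d → F, ((g : Matrix.GeneralLinearGroup (Fin d ⊕ Fin d) F) :
        Matrix (Fin d ⊕ Fin d) (Fin d ⊕ Fin d) F) *ᵥ v = v → QP d F v = 0 := by
  classical
  have h' : Q * P = 1 := _root_.mul_eq_one_comm.1 h
  have hQr : Q ^ r = 1 := by
    have : Q ^ r = Q ^ r * (P ^ r) := by rw [hPr, mul_one]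
    rw [this, ← (Commute.mul_pow (show Commute Q P by rw [Commute, SemiconjBy, h, h']) r), h',
      one_pow]
  have hpres : ∀ v, QP d F ((dS P Q h).1 *ᵥ v) = QP d F v := fun v => QP_dMat P Q h v
  let g : ↥(Cfsg.isometryGroup F ⇑(QP d F)) := ofSp (dS P Q h) hpres
  have hg : ((g : Matrix.GeneralLinearGroup (Fin d ⊕ Fin d) F) :
        Matrix (Fin d ⊕ Fin d) (Fin d ⊕ Fin d) F) = dMat P Q := rfl
  have hgr : ((g : Matrix.GeneralLinearGroup (Fin d ⊕ Fin d) F) :
        Matrix (Fin d ⊕ Fin d) (Fin d ⊕ Fin d) F) ^ r = 1 := by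
    rw [hg, dMat_pow, hPr, hQr]
    unfold dMat
    rw [Matrix.transpose_one, Matrix.fromBlocks_one]
  refine ⟨g, ?_, hgr, ?_, ?_⟩
  · apply mem_Omega_of_pow_eq_one hd g r hr
    apply Subtype.ext
    apply Units.ext
    rw [Subgroup.coe_pow, Units.val_pow_eq_pow_val]
    exact hgr
  · intro z hz
    rw [hg] at hz
    have i0 : Fin d := ⟨0, by omega⟩
    -- `P = z • 1` and `Qᵀ = z • 1`
    have hP1 : P = z • 1 := by
      ext i j
      have := congrFun (congrFun hz (Sum.inl i)) (Sum.inl j)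
      simpa [dMat, Matrix.one_apply] using this
    have hQ1 : Q = z • 1 := by
      ext i j
      have := congrFun (congrFun hz (Sum.inr j)) (Sum.inr i)
      simp only [dMat, Matrix.fromBlocks_apply₂₂, Matrix.transpose_apply, Matrix.smul_apply,
        Matrix.one_apply, Sum.inr.injEq, smul_eq_mul] at this
      rw [this, Matrix.smul_apply, Matrix.one_apply, smul_eq_mul]
      by_cases hij : i = j
      · rw [if_pos hij, if_pos hij.symm]
      · rw [if_neg hij, if_neg (Ne.symm hij)]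
    have hz2 : z * z = 1 := by
      have := h
      rw [hP1, hQ1, Matrix.smul_mul, Matrix.mul_smul, Matrix.one_mul, smul_smul] at this
      have := congrFun (congrFun this i0) i0
      simpa using this
    have hz1 : z = 1 := by
      have h4 : (z - 1) ^ 2 = 0 := by
        have h2' : (2 : F) = 0 := CharTwo.two_eq_zero
        have : (z - 1) ^ 2 = z * z - 2 * z + 1 := by ring
        rw [this, hz2, h2', zero_mul, sub_zero]
        exact CharTwo.add_self_eq_zero 1
      exact sub_eq_zero.1 (pow_eq_zero_iff (by norm_num) |>.1 h4)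
    have := hfix (Pi.single i0 1) (by rw [hP1, hz1, one_smul, Matrix.one_mulVec])
    have := congrFun this i0
    simp at this
  · intro v hv
    rw [hg, dMat_mulVec] at hv
    have h0 : P *ᵥ (fun i => v (Sum.inl i)) = fun i => v (Sum.inl i) := by
      funext i
      have := congrFun hv (Sum.inl i)
      simpa using this
    have h1 := hfix _ h0
    rw [QP_apply]
    unfold Cfsg.quadFormPlus
    apply Finset.sum_eq_zero
    intro i _
    have := congrFun h1 i
    simp only [Pi.zero_apply] at this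
    rw [this, zero_mul]

end constructions

end Cfsg.Agent.Lib.Helper5.NsPt
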