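import Mathlib
import Cfsg.Agent.Lib.Helper5.NsPt4
import Cfsg.Agent.Lib.Helper9.Elus11

set_option autoImplicit false

namespace Cfsg.Agent.Lib.Helper5.NsPt

open Matrix Module Polynomial

section model

variable {F : Type*} [Field F] [Fintype F] [CharP F 2] {d : ℕ}

/-- a matrix of order `r` without nonzero fixed vectors, for `r ∣ q^d - 1` odd -/
theorem exists_fpf_matrix (hd : 1 ≤ d) (r : ℕ) [Fact r.Prime] (hr2 : r ≠ 2)
    (hdiv : r ∣ Fintype.card F ^ d - 1) :
    ∃ P Q : Matrix (Fin d) (Fin d) F, P * Q = 1 ∧ P ^ r = 1 ∧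
      ∀ a : Fin d → F, P *ᵥ a = a → a = 0 := by
  classical
  have hr : r.Prime := Fact.out
  haveI : Fact (Nat.Prime 2) := ⟨Nat.prime_two⟩
  have hq1 : 1 ≤ Fintype.card F := Fintype.card_pos
  have hid : orderOf ((Fintype.card F : ℕ) : ZMod r) ∣ d :=
    (Cfsg.Agent.Lib.Helper9.H9Elus.orderOf_dvd_iff_dvd r _ hq1 d).2 hdiv
  have hipos : 0 < orderOf ((Fintype.card F : ℕ) : ZMod r) := by
    rcases Nat.eq_zero_or_pos (orderOf ((Fintype.card F : ℕ) : ZMod r)) with h | h
    · rw [h, zero_dvd_iff] at hid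
      omega
    · exact h
  by_cases hi : 2 ≤ orderOf ((Fintype.card F : ℕ) : ZMod r)
  · obtain ⟨x₀, hx₀r, -, hker⟩ := Cfsg.Agent.Lib.Helper9.H9Elus.model_cyclotomic_ker (F := F)
      (p := 2) r hr2 d hi (Nat.le_of_dvd (by omega) hid)
    rw [Nat.mod_eq_zero_of_dvd hid, Nat.le_zero, Submodule.finrank_eq_zero] at hker
    refine ⟨x₀.1, (x₀⁻¹).1, ?_, ?_, ?_⟩
    · rw [← Matrix.SpecialLinearGroup.coe_mul, mul_inv_cancel, Matrix.SpecialLinearGroup.coe_one]
    · rw [← Matrix.SpecialLinearGroup.coe_pow]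
      exact hx₀r
    · intro a ha
      have : a ∈ LinearMap.ker (aeval (Matrix.toLin' (x₀ : Matrix (Fin d) (Fin d) F))
          (X - 1 : F[X])) := by
        rw [LinearMap.mem_ker, map_sub, aeval_X, map_one, LinearMap.sub_apply,
          Module.End.one_apply, Matrix.toLin'_apply, sub_eq_zero]
        exact ha
      rw [hker] at this
      exact this
  · have hi1 : orderOf ((Fintype.card F : ℕ) : ZMod r) = 1 := by omega
    have hdiv1 : r ∣ Fintype.card F - 1 :=
      (Cfsg.Agent.Lib.Helper9.H9Elus.orderOf_eq_one_iff_dvd r _ hq1).1 hi1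
    obtain ⟨z, hz0, hzr⟩ := Cfsg.Agent.Lib.Helper9.H9Elus.exists_orderOf_eq (F := F) r hdiv1
    have hz1 : z ≠ 1 := by
      rintro rfl
      rw [orderOf_one] at hzr
      exact hr.one_lt.ne hzr
    refine ⟨z • 1, z⁻¹ • 1, ?_, ?_, ?_⟩
    · rw [Matrix.smul_mul, Matrix.mul_smul, Matrix.one_mul, smul_smul, mul_inv_cancel₀ hz0,
        one_smul]
    · rw [_root_.smul_pow, one_pow, ← hzr, pow_orderOf_eq_one, one_smul]
    · intro a ha
      rw [Matrix.smul_mulVec, Matrix.one_mulVec] at ha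
      have h1 : (z - 1) • a = 0 := by rw [sub_smul, ha, one_smul, sub_self]
      rcases smul_eq_zero.1 h1 with h | h
      · exact absurd (sub_eq_zero.1 h) hz1
      · exact h

end model

end Cfsg.Agent.Lib.Helper5.NsPt
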