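import Mathlib
import Cfsg.Agent.S0289

set_option autoImplicit false

/-!
Counting one-dimensional subspaces spanned by a vector on which a homogeneous function does not vanish.
-/

namespace Cfsg.Agent.Lib.Helper5.NsPt

open Module

section general

variable {F : Type*} [Field F] [Fintype F] {V : Type*} [AddCommGroup V] [Module F V]

theorem span_eq_of_mem (W : Submodule F V) (hW : finrank F W = 1) (v : V) (hv : v ∈ W) (hv0 : v ≠ 0) :
    Submodule.span F {v} = W := by
  apply le_antisymm
  · rw [Submodule.span_singleton_le_iff_mem]; exact hv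
  · intro w hw
    have hne : (⟨v, hv⟩ : W) ≠ 0 := by
      intro h
      exact hv0 (congrArg Subtype.val h)
    obtain ⟨c, hc⟩ := exists_smul_eq_of_finrank_eq_one hW hne ⟨w, hw⟩
    have : c • v = w := congrArg Subtype.val hc
    rw [← this]
    exact Submodule.smul_mem _ _ (Submodule.mem_span_singleton_self v)

theorem finrank_span_one (v : V) (hv : v ≠ 0) : finrank F (Submodule.span F {v}) = 1 :=
  finrank_span_singleton hv

variable [Finite V]

/-- the points spanned by a vector with `Q ≠ 0`, counted through these vectors -/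
theorem card_points_mul (Q : V → F) (hQ0 : Q 0 = 0)
    (hQ : ∀ (c : F) (v : V), c ≠ 0 → Q v ≠ 0 → Q (c • v) ≠ 0) :
    Nat.card {W : Submodule F V // finrank F W = 1 ∧ ∃ v ∈ W, Q v ≠ 0} * (Fintype.card F - 1) =
      Nat.card {v : V // Q v ≠ 0} := by
  classical
  haveI : Fintype V := Fintype.ofFinite V
  have hne : ∀ v : V, Q v ≠ 0 → v ≠ 0 := by
    rintro v hv rfl
    exact hv hQ0
  let φ : {v : V // Q v ≠ 0} → {W : Submodule F V // finrank F W = 1 ∧ ∃ v ∈ W, Q v ≠ 0} :=
    fun v => ⟨Submodule.span F {v.1}, finrank_span_one v.1 (hne v.1 v.2),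
      v.1, Submodule.mem_span_singleton_self v.1, v.2⟩
  have hfib : ∀ W : {W : Submodule F V // finrank F W = 1 ∧ ∃ v ∈ W, Q v ≠ 0},
      Nat.card {v : {v : V // Q v ≠ 0} // φ v = W} = Fintype.card F - 1 := by
    intro W
    obtain ⟨v₀, hv₀W, hv₀Q⟩ := W.2.2
    have hv₀0 : v₀ ≠ 0 := hne v₀ hv₀Q
    have hspan : Submodule.span F {v₀} = W.1 := span_eq_of_mem W.1 W.2.1 v₀ hv₀W hv₀0
    rw [← Fintype.card_units, ← Nat.card_eq_fintype_card]
    symm
    apply Nat.card_congr
    refine Equiv.ofBijective (fun c : Fˣ => ⟨⟨(c : F) • v₀, hQ _ _ c.ne_zero hv₀Q⟩, ?_⟩) ⟨?_, ?_⟩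
    · apply Subtype.ext
      show Submodule.span F {(c : F) • v₀} = W.1
      rw [Submodule.span_singleton_smul_eq c.isUnit, hspan]
    · intro c c' h
      have h1 : (c : F) • v₀ = (c' : F) • v₀ := congrArg (fun z => z.1.1) h
      have h2 : (c : F) = c' := smul_left_injective F hv₀0 h1
      exact Units.ext h2
    · rintro ⟨⟨v, hvQ⟩, hv⟩
      have hvW : v ∈ W.1 := by
        have : Submodule.span F {v} = W.1 := congrArg Subtype.val hv
        rw [← this]
        exact Submodule.mem_span_singleton_self v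
      rw [← hspan, Submodule.mem_span_singleton] at hvW
      obtain ⟨c, hc⟩ := hvW
      have hc0 : c ≠ 0 := by
        rintro rfl
        rw [zero_smul] at hc
        exact hne v hvQ hc.symm
      refine ⟨Units.mk0 c hc0, ?_⟩
      apply Subtype.ext
      apply Subtype.ext
      exact hc
  rw [Nat.card_congr (Equiv.sigmaFiberEquiv φ).symm, Nat.card_sigma]
  simp only [hfib]
  rw [Finset.sum_const, Finset.card_univ, smul_eq_mul, Nat.card_eq_fintype_card]

end general

end Cfsg.Agent.Lib.Helper5.NsPt
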