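import Mathlib
import Cfsg.Agent.S0290
import Cfsg.Agent.Lib.Helper5.NsPt1
import Cfsg.Agent.Lib.Helper5.WittIndex

set_option autoImplicit false

namespace Cfsg.Agent.Lib.Helper5.NsPt

open Module Matrix

section wittminus

variable {F : Type*} [Field F]

/-- A totally singular subspace for the minus-type form in dimension `2k+2` has dimension at most `k`. -/
theorem finrank_le_of_totallySingular_minus' {k : ℕ} (a b : F)
    (hab : ∀ x y : F, x ^ 2 + a * x * y + b * y ^ 2 = 0 → x = 0 ∧ y = 0)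
    (U : Submodule F ((Fin k ⊕ Fin k) ⊕ Fin 2 → F))
    (hU : ∀ u ∈ U, Cfsg.quadFormMinus k F a b u = 0) : finrank F U ≤ k := by
  have hz : ∀ u ∈ U, minusY k F u = 0 → u (Sum.inr 0) = 0 ∧ u (Sum.inr 1) = 0 := by
    intro u hu hy
    have h1 := hU u hu
    have h2 : ∑ i : Fin k, u (Sum.inl (Sum.inl i)) * u (Sum.inl (Sum.inr i)) = 0 := by
      apply Finset.sum_eq_zero
      intro i _
      have := congrFun hy i
      rw [minusY_apply] at this
      rw [this]; simp
    rw [Cfsg.quadFormMinus, h2, zero_add] at h1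
    exact hab _ _ h1
  apply finrank_le_of_isotropic_projections (minusX k F) (minusY k F) U
  · intro u hu hy hx
    obtain ⟨h0, h1⟩ := hz u hu hy
    funext i
    rcases i with (i | i) | i
    · exact congrFun hx i
    · exact congrFun hy i
    · fin_cases i
      · exact h0
      · exact h1
  · intro u hu u' hu' hy'
    obtain ⟨h0, h1⟩ := hz u' hu' hy'
    have e1 := hU _ (U.add_mem hu hu')
    have e2 := hU _ hu
    have e3 : ∀ i, u' (Sum.inl (Sum.inr i)) = 0 := fun i => congrFun hy' i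
    simp only [Cfsg.quadFormMinus, Pi.add_apply, h0, h1, e3, add_zero] at e1 e2
    have e4 : ∑ i : Fin k, (u (Sum.inl (Sum.inl i)) + u' (Sum.inl (Sum.inl i))) * u (Sum.inl (Sum.inr i))
        = ∑ i : Fin k, u (Sum.inl (Sum.inl i)) * u (Sum.inl (Sum.inr i))
          + minusX k F u' ⬝ᵥ minusY k F u := by
      simp only [dotProduct, minusX_apply, minusY_apply, ← Finset.sum_add_distrib]
      apply Finset.sum_congr rfl
      intro i _
      ring
    rw [e4] at e1
    have : minusX k F u' ⬝ᵥ minusY k F u = 0 := by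
      have := e1
      rw [add_right_comm, e2, zero_add] at this
      exact this
    exact this

theorem quadFormMinus_smul (k : ℕ) (a b c : F) (v : (Fin k ⊕ Fin k) ⊕ Fin 2 → F) :
    Cfsg.quadFormMinus k F a b (c • v) = c ^ 2 * Cfsg.quadFormMinus k F a b v := by
  unfold Cfsg.quadFormMinus
  simp only [Pi.smul_apply, smul_eq_mul]
  rw [mul_add, Finset.mul_sum]
  congr 1
  · apply Finset.sum_congr rfl
    intro i _
    ring
  · ring

end wittminus

section countminus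

variable {F : Type*} [Field F] [Fintype F]

theorem arith_count_minus (q k : ℕ) (hq : 1 ≤ q) :
    q ^ (2 * (k + 1)) - (q ^ (2 * (k + 1) - 1) + q ^ (k + 1 - 1) - q ^ (k + 1)) =
      q ^ k * (q ^ (k + 1) + 1) * (q - 1) := by
  have e1 : 2 * (k + 1) - 1 = 2 * k + 1 := by omega
  have e2 : k + 1 - 1 = k := by omega
  rw [e1, e2]
  obtain ⟨t, rfl⟩ : ∃ t, q = t + 1 := ⟨q - 1, by omega⟩
  have hpos : 1 ≤ (t + 1) ^ k := Nat.one_le_pow _ _ (by omega)
  obtain ⟨A, hA⟩ : ∃ A, (t + 1) ^ k = A + 1 := ⟨(t + 1) ^ k - 1, by omega⟩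
  have p1 : (t + 1) ^ (k + 1) = (A + 1) * (t + 1) := by rw [pow_succ, hA]
  have p2 : (t + 1) ^ (2 * k + 1) = (A + 1) * (A + 1) * (t + 1) := by
    rw [pow_succ, two_mul, pow_add, hA]
  have p3 : (t + 1) ^ (2 * (k + 1)) = (A + 1) * (A + 1) * (t + 1) * (t + 1) := by
    rw [show 2 * (k + 1) = (2 * k + 1) + 1 by ring, pow_succ, p2]
  rw [p1, p2, p3, hA]
  have e4 : t + 1 - 1 = t := by omega
  rw [e4]
  -- (A+1)^2 (t+1) + (A+1) - (A+1)(t+1) : note (A+1)(t+1) ≤ (A+1)^2 (t+1)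
  have e5 : (A + 1) * (A + 1) * (t + 1) + (A + 1) - (A + 1) * (t + 1) =
      (A + 1) * A * (t + 1) + (A + 1) := by
    have : (A + 1) * (A + 1) * (t + 1) = (A + 1) * A * (t + 1) + (A + 1) * (t + 1) := by ring
    omega
  rw [e5]
  have e6 : (A + 1) * (A + 1) * (t + 1) * (t + 1) =
      ((A + 1) * A * (t + 1) + (A + 1)) + (A + 1) * ((A + 1) * (t + 1) + 1) * t := by ring
  rw [e6]
  omega

theorem card_nonsing_points_minus {q : ℕ} (hF : Fintype.card F = q) (d : ℕ) (hd : 1 ≤ d) (a b : F)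
    (hab : ∀ x y : F, x ^ 2 + a * x * y + b * y ^ 2 = 0 → x = 0 ∧ y = 0) :
    Nat.card {W : Submodule F ((Fin (d - 1) ⊕ Fin (d - 1)) ⊕ Fin 2 → F) //
      finrank F W = 1 ∧ ∃ v ∈ W, Cfsg.quadFormMinus (d - 1) F a b v ≠ 0} =
      q ^ (d - 1) * (q ^ d + 1) := by
  classical
  have hq : 2 ≤ q := by rw [← hF]; exact Fintype.one_lt_card
  have h0 : Cfsg.quadFormMinus (d - 1) F a b 0 = 0 := by
    unfold Cfsg.quadFormMinus
    simp
  have h1 := card_points_mul (F := F) (Cfsg.quadFormMinus (d - 1) F a b) h0 (by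
    intro c v hc hv
    rw [quadFormMinus_smul]
    exact mul_ne_zero (pow_ne_zero _ hc) hv)
  have h2 : Nat.card {v : (Fin (d - 1) ⊕ Fin (d - 1)) ⊕ Fin 2 → F //
      Cfsg.quadFormMinus (d - 1) F a b v ≠ 0} =
      q ^ (2 * d) - (q ^ (2 * d - 1) + q ^ (d - 1) - q ^ d) := by
    rw [Nat.card_eq_fintype_card, Fintype.card_subtype_compl,
      ← Nat.card_eq_fintype_card (α := {v : (Fin (d - 1) ⊕ Fin (d - 1)) ⊕ Fin 2 → F //
        Cfsg.quadFormMinus (d - 1) F a b v = 0}),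
      Cfsg.Agent.S0290.result hF d hd a b hab, Fintype.card_fun, Fintype.card_sum, Fintype.card_sum,
      Fintype.card_fin, Fintype.card_fin, hF]
    congr 2
    omega
  rw [h2, hF] at h1
  obtain ⟨k, rfl⟩ : ∃ k, d = k + 1 := ⟨d - 1, by omega⟩
  rw [arith_count_minus q k (by omega)] at h1
  have e2 : k + 1 - 1 = k := by omega
  rw [e2] at h1 ⊢
  exact Nat.eq_of_mul_eq_mul_right (by omega : 0 < q - 1) h1

theorem dvd_cases_minus {p : ℕ} [Fact p.Prime] [CharP F p] {q : ℕ} (hF : Fintype.card F = q)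
    (d : ℕ) (hd : 1 ≤ d) (a b : F)
    (hab : ∀ x y : F, x ^ 2 + a * x * y + b * y ^ 2 = 0 → x = 0 ∧ y = 0)
    (r : ℕ) (hr : r.Prime)
    (h : r ∣ Nat.card {W : Submodule F ((Fin (d - 1) ⊕ Fin (d - 1)) ⊕ Fin 2 → F) //
      finrank F W = 1 ∧ ∃ v ∈ W, Cfsg.quadFormMinus (d - 1) F a b v ≠ 0}) :
    r = p ∨ r ∣ q ^ d + 1 := by
  rw [card_nonsing_points_minus hF d hd a b hab] at h
  rcases (Nat.Prime.dvd_mul hr).1 h with h1 | h1
  · left
    have h2 := hr.dvd_of_dvd_pow h1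
    obtain ⟨n, hn⟩ := FiniteField.card F p
    rw [hF] at hn
    rw [hn.2] at h2
    have h3 := hr.dvd_of_dvd_pow h2
    exact (Nat.prime_dvd_prime_iff_eq hr hn.1).1 h3
  · right; exact h1

end countminus

end Cfsg.Agent.Lib.Helper5.NsPt
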