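import Mathlib
import Cfsg.Agent.Lib.Helper5.NsPt6

set_option autoImplicit false

namespace Cfsg.Agent.Lib.Helper5.NsPt

open Module Matrix

section invol

variable {F : Type*} [Field F] [CharP F 2]

/-- an involution in characteristic two has a large fixed space -/
theorem card_le_two_mul_finrank_ker {ι : Type*} [Fintype ι] [DecidableEq ι] (M : Matrix ι ι F)
    (hMM : M * M = 1) :
    Fintype.card ι ≤ 2 * finrank F (LinearMap.ker (Matrix.toLin' (M - 1))) := by
  have hNN : (M - 1) * (M - 1) = 0 := by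
    have hM2 : M + M = 0 := by
      ext i j
      simp only [Matrix.add_apply, Matrix.zero_apply]
      exact CharTwo.add_self_eq_zero _
    have h12 : (1 : Matrix ι ι F) + 1 = 0 := by
      ext i j
      simp only [Matrix.add_apply, Matrix.zero_apply]
      exact CharTwo.add_self_eq_zero _
    rw [Matrix.sub_mul, Matrix.mul_sub, Matrix.mul_sub, hMM, Matrix.mul_one, Matrix.one_mul,
      Matrix.mul_one]
    have : (1 : Matrix ι ι F) - M - (M - 1) = ((1 : Matrix ι ι F) + 1) - (M + M) := by abel
    rw [this, hM2, h12, sub_zero]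
  have hle : LinearMap.range (Matrix.toLin' (M - 1)) ≤ LinearMap.ker (Matrix.toLin' (M - 1)) := by
    rintro _ ⟨v, rfl⟩
    rw [LinearMap.mem_ker, ← LinearMap.comp_apply, ← Matrix.toLin'_mul, hNN]
    simp
  have h1 := Submodule.finrank_mono hle
  have h2 := LinearMap.finrank_range_add_finrank_ker (Matrix.toLin' (M - 1))
  rw [Module.finrank_fintype_fun_eq_card] at h2
  omega

/-- an involution of the minus-type space fixes a nonsingular vector -/
theorem exists_fixed_nonsing_minus {k : ℕ} (a b : F)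
    (hab : ∀ x y : F, x ^ 2 + a * x * y + b * y ^ 2 = 0 → x = 0 ∧ y = 0)
    (M : Matrix ((Fin k ⊕ Fin k) ⊕ Fin 2) ((Fin k ⊕ Fin k) ⊕ Fin 2) F) (hMM : M * M = 1) :
    ∃ v : (Fin k ⊕ Fin k) ⊕ Fin 2 → F, M *ᵥ v = v ∧ Cfsg.quadFormMinus k F a b v ≠ 0 := by
  by_contra hcon
  push Not at hcon
  have hK : ∀ u ∈ LinearMap.ker (Matrix.toLin' (M - 1)), Cfsg.quadFormMinus k F a b u = 0 := by
    intro u hu
    rw [LinearMap.mem_ker, Matrix.toLin'_apply, Matrix.sub_mulVec, Matrix.one_mulVec, sub_eq_zero]
      at hu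
    exact hcon u hu
  have h3 := finrank_le_of_totallySingular_minus' a b hab _ hK
  have h4 := card_le_two_mul_finrank_ker M hMM
  rw [Fintype.card_sum, Fintype.card_sum, Fintype.card_fin, Fintype.card_fin] at h4
  omega

end invol

end Cfsg.Agent.Lib.Helper5.NsPt
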