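import Mathlib
import Cfsg.Agent.Lib.Helper5.NsPt5
import Cfsg.Agent.Lib.Helper5.NsPt7
import Cfsg.Agent.S0288

set_option autoImplicit false

namespace Cfsg.Agent.Lib.Helper5.NsPt

open Module Matrix Polynomial

section glue

variable {F : Type*} [Field F] {α β ι : Type*} [Fintype α] [Fintype β] [Fintype ι]
  [DecidableEq α] [DecidableEq β] [DecidableEq ι]

/-- a block diagonal matrix, reindexed -/
def blockMat (σ : α ⊕ β ≃ ι) (X₁ : Matrix α α F) (X₂ : Matrix β β F) : Matrix ι ι F :=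
  Matrix.reindexAlgEquiv F F σ (Matrix.fromBlocks X₁ 0 0 X₂)

theorem fromBlocks_diag_pow (X₁ : Matrix α α F) (X₂ : Matrix β β F) (r : ℕ) :
    (Matrix.fromBlocks X₁ 0 0 X₂) ^ r = Matrix.fromBlocks (X₁ ^ r) 0 0 (X₂ ^ r) := by
  induction r with
  | zero => simp only [pow_zero, Matrix.fromBlocks_one]
  | succ k ih =>
    rw [pow_succ, ih, Matrix.fromBlocks_multiply]
    simp only [Matrix.zero_mul, Matrix.mul_zero, add_zero, zero_add]
    rw [pow_succ, pow_succ]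

theorem blockMat_pow (σ : α ⊕ β ≃ ι) (X₁ : Matrix α α F) (X₂ : Matrix β β F) (r : ℕ) :
    blockMat σ X₁ X₂ ^ r = blockMat σ (X₁ ^ r) (X₂ ^ r) := by
  unfold blockMat
  rw [← map_pow, fromBlocks_diag_pow]

theorem blockMat_one (σ : α ⊕ β ≃ ι) : blockMat σ (1 : Matrix α α F) (1 : Matrix β β F) = 1 := by
  unfold blockMat
  rw [Matrix.fromBlocks_one, map_one]

theorem blockMat_mulVec (σ : α ⊕ β ≃ ι) (X₁ : Matrix α α F) (X₂ : Matrix β β F) (v : ι → F) :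
    (blockMat σ X₁ X₂ *ᵥ v) ∘ σ =
      Sum.elim (X₁ *ᵥ (fun j => v (σ (Sum.inl j)))) (X₂ *ᵥ (fun j => v (σ (Sum.inr j)))) := by
  unfold blockMat
  rw [Matrix.coe_reindexAlgEquiv, Matrix.reindex_apply, Matrix.submatrix_mulVec_equiv,
    Equiv.symm_symm, Function.comp_assoc, Equiv.symm_comp_self, Function.comp_id,
    Matrix.fromBlocks_mulVec]
  simp only [Matrix.zero_mulVec, add_zero, zero_add]
  rfl

theorem blockMat_mulVec_inl (σ : α ⊕ β ≃ ι) (X₁ : Matrix α α F) (X₂ : Matrix β β F) (v : ι → F) :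
    (fun j => (blockMat σ X₁ X₂ *ᵥ v) (σ (Sum.inl j))) = X₁ *ᵥ (fun j => v (σ (Sum.inl j))) := by
  funext j
  have := congrFun (blockMat_mulVec σ X₁ X₂ v) (Sum.inl j)
  simpa using this

theorem blockMat_mulVec_inr (σ : α ⊕ β ≃ ι) (X₁ : Matrix α α F) (X₂ : Matrix β β F) (v : ι → F) :
    (fun j => (blockMat σ X₁ X₂ *ᵥ v) (σ (Sum.inr j))) = X₂ *ᵥ (fun j => v (σ (Sum.inr j))) := by
  funext j
  have := congrFun (blockMat_mulVec σ X₁ X₂ v) (Sum.inr j)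
  simpa using this

end glue

section sigma

/-- the reindexing splitting off a hyperbolic part -/
def sigmaSplit (m₁ m₂ : ℕ) :
    (Fin m₁ ⊕ Fin m₁) ⊕ ((Fin m₂ ⊕ Fin m₂) ⊕ Fin 2) ≃
      (Fin (m₁ + m₂) ⊕ Fin (m₁ + m₂)) ⊕ Fin 2 :=
  (Equiv.sumAssoc _ _ _).symm.trans
    (Equiv.sumCongr ((Equiv.sumSumSumComm (Fin m₁) (Fin m₁) (Fin m₂) (Fin m₂)).trans
      (Equiv.sumCongr finSumFinEquiv finSumFinEquiv)) (Equiv.refl (Fin 2)))

variable {F : Type*} [Field F]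

theorem quadFormMinus_split (m₁ m₂ : ℕ) (a b : F) (v : (Fin (m₁ + m₂) ⊕ Fin (m₁ + m₂)) ⊕ Fin 2 → F) :
    Cfsg.quadFormMinus (m₁ + m₂) F a b v =
      Cfsg.quadFormPlus m₁ F (fun j => v (sigmaSplit m₁ m₂ (Sum.inl j))) +
        Cfsg.quadFormMinus m₂ F a b (fun j => v (sigmaSplit m₁ m₂ (Sum.inr j))) := by
  unfold Cfsg.quadFormMinus Cfsg.quadFormPlus
  rw [Fin.sum_univ_add]
  have e1 : ∀ j : Fin m₁, sigmaSplit m₁ m₂ (Sum.inl (Sum.inl j)) =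
      Sum.inl (Sum.inl (Fin.castAdd m₂ j)) := fun j => rfl
  have e2 : ∀ j : Fin m₁, sigmaSplit m₁ m₂ (Sum.inl (Sum.inr j)) =
      Sum.inl (Sum.inr (Fin.castAdd m₂ j)) := fun j => rfl
  have e3 : ∀ j : Fin m₂, sigmaSplit m₁ m₂ (Sum.inr (Sum.inl (Sum.inl j))) =
      Sum.inl (Sum.inl (Fin.natAdd m₁ j)) := fun j => rfl
  have e4 : ∀ j : Fin m₂, sigmaSplit m₁ m₂ (Sum.inr (Sum.inl (Sum.inr j))) =
      Sum.inl (Sum.inr (Fin.natAdd m₁ j)) := fun j => rfl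
  have e5 : ∀ l : Fin 2, sigmaSplit m₁ m₂ (Sum.inr (Sum.inr l)) = Sum.inr l := fun l => rfl
  simp only [e1, e2, e3, e4, e5]
  ring

end sigma

end Cfsg.Agent.Lib.Helper5.NsPt
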