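import Mathlib
import Cfsg.Agent.Lib.Helper5.NsPt8
import Cfsg.Agent.Lib.Helper2.OrthCard1

set_option autoImplicit false

namespace Cfsg.Agent.Lib.Helper5.NsPt

open Module Matrix Polynomial

section cauchy

variable {F : Type*} [Field F] [Fintype F] [CharP F 2]

/-- arithmetic of the order of `q` modulo `r` when `r ∣ q^d + 1` -/
theorem order_of_dvd_add_one (q d r : ℕ) (hq : 1 ≤ q) (hd : 1 ≤ d) (hr : r.Prime) (hr2 : r ≠ 2)
    (hdiv : r ∣ q ^ d + 1) :
    ∃ i t : ℕ, 1 ≤ i ∧ orderOf ((q : ℕ) : ZMod r) = 2 * i ∧ d = i * t ∧ Odd t := by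
  have hqd : 1 ≤ q ^ d := Nat.one_le_pow _ _ hq
  have h1 : r ∣ q ^ (2 * d) - 1 := by
    have : q ^ (2 * d) - 1 = (q ^ d + 1) * (q ^ d - 1) := by
      rw [mul_comm 2 d, pow_mul]
      obtain ⟨A, hA⟩ : ∃ A, q ^ d = A + 1 := ⟨q ^ d - 1, by omega⟩
      rw [hA]
      have : (A + 1) ^ 2 = (A + 1 + 1) * A + 1 := by ring
      rw [this]
      simp
    rw [this]
    exact Dvd.dvd.mul_right hdiv _
  have h2 : ¬ r ∣ q ^ d - 1 := by
    intro h
    have h3 : r ∣ (q ^ d + 1) - (q ^ d - 1) := Nat.dvd_sub hdiv h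
    have h4 : (q ^ d + 1) - (q ^ d - 1) = 2 := by omega
    rw [h4] at h3
    exact hr2 ((Nat.prime_dvd_prime_iff_eq hr Nat.prime_two).1 h3)
  have hj1 := (Cfsg.Agent.Lib.Helper9.H9Elus.orderOf_dvd_iff_dvd r q hq (2 * d)).2 h1
  have hj2 : ¬ orderOf ((q : ℕ) : ZMod r) ∣ d := fun h =>
    h2 ((Cfsg.Agent.Lib.Helper9.H9Elus.orderOf_dvd_iff_dvd r q hq d).1 h)
  set j := orderOf ((q : ℕ) : ZMod r) with hj
  have hjeven : Even j := by
    by_contra hodd
    rw [Nat.not_even_iff_odd] at hodd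
    have hcop : Nat.Coprime j 2 := Nat.coprime_two_right.mpr hodd
    exact hj2 (hcop.dvd_of_dvd_mul_left hj1)
  obtain ⟨i, hi⟩ := hjeven
  have hi2 : j = 2 * i := by omega
  have hipos : 1 ≤ i := by
    rcases Nat.eq_zero_or_pos i with h | h
    · exfalso
      rw [h] at hi2
      rw [hi2] at hj1
      have : 2 * d = 0 := by simpa using hj1
      omega
    · exact h
  have hid : i ∣ d := by
    rw [hi2] at hj1
    exact Nat.dvd_of_mul_dvd_mul_left (by norm_num) hj1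
  obtain ⟨t, ht⟩ := hid
  refine ⟨i, t, hipos, hi2, ht, ?_⟩
  by_contra hte
  rw [Nat.not_odd_iff_even] at hte
  obtain ⟨s, hs⟩ := hte
  apply hj2
  rw [hi2, ht, hs]
  exact ⟨s, by ring⟩

/-- a fixed-point-free isometry of order `r` of the minus-type space of dimension `2i`,
`2i` the order of `q` modulo `r` -/
theorem exists_fpf_minus (i : ℕ) (hi : 1 ≤ i) (a b : F)
    (hab : ∀ x y : F, x ^ 2 + a * x * y + b * y ^ 2 = 0 → x = 0 ∧ y = 0)
    (r : ℕ) [Fact r.Prime] (hr2 : r ≠ 2)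
    (hord : orderOf ((Fintype.card F : ℕ) : ZMod r) = 2 * i) :
    ∃ Xm : Matrix ((Fin (i - 1) ⊕ Fin (i - 1)) ⊕ Fin 2) ((Fin (i - 1) ⊕ Fin (i - 1)) ⊕ Fin 2) F,
      Xm ^ r = 1 ∧ (∀ v, Cfsg.quadFormMinus (i - 1) F a b (Xm *ᵥ v) = Cfsg.quadFormMinus (i - 1) F a b v) ∧
      ∀ v, Xm *ᵥ v = v → v = 0 := by
  classical
  have hr : r.Prime := Fact.out
  haveI : Fact (Nat.Prime 2) := ⟨Nat.prime_two⟩
  have hq1 : 1 ≤ Fintype.card F := Fintype.card_pos
  set q := Fintype.card F with hq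
  have hqi : 1 ≤ q ^ i := Nat.one_le_pow _ _ hq1
  -- `r ∣ q^i + 1`
  have h1 : r ∣ q ^ (2 * i) - 1 :=
    (Cfsg.Agent.Lib.Helper9.H9Elus.orderOf_dvd_iff_dvd r q hq1 (2 * i)).1 (by rw [hord])
  have h2 : ¬ r ∣ q ^ i - 1 := by
    intro h
    have := (Cfsg.Agent.Lib.Helper9.H9Elus.orderOf_dvd_iff_dvd r q hq1 i).2 h
    rw [hord] at this
    have := Nat.le_of_dvd (by omega) this
    omega
  have h3 : r ∣ q ^ i + 1 := by
    have : q ^ (2 * i) - 1 = (q ^ i + 1) * (q ^ i - 1) := by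
      rw [mul_comm 2 i, pow_mul]
      obtain ⟨A, hA⟩ : ∃ A, q ^ i = A + 1 := ⟨q ^ i - 1, by omega⟩
      rw [hA]
      have : (A + 1) ^ 2 = (A + 1 + 1) * A + 1 := by ring
      rw [this]
      simp
    rw [this] at h1
    rcases (Nat.Prime.dvd_mul hr).1 h1 with h | h
    · exact h
    · exact absurd h h2
  -- Cauchy
  have hcard := Cfsg.Agent.S0288.result (F := F) hq.symm i hi a b hab
  have hdvd : r ∣ Nat.card ↥(Cfsg.isometryGroup F (Cfsg.quadFormMinus (i - 1) F a b)) := by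
    rw [hcard]
    apply Dvd.dvd.mul_right
    apply Dvd.dvd.mul_left
    exact h3
  obtain ⟨g, hg⟩ := exists_prime_orderOf_dvd_card' r hdvd
  set Xm : Matrix ((Fin (i - 1) ⊕ Fin (i - 1)) ⊕ Fin 2) ((Fin (i - 1) ⊕ Fin (i - 1)) ⊕ Fin 2) F :=
    ((g : Matrix.GeneralLinearGroup ((Fin (i - 1) ⊕ Fin (i - 1)) ⊕ Fin 2) F) :
      Matrix ((Fin (i - 1) ⊕ Fin (i - 1)) ⊕ Fin 2) ((Fin (i - 1) ⊕ Fin (i - 1)) ⊕ Fin 2) F) with hX
  have hXr : Xm ^ r = 1 := by
    have := pow_orderOf_eq_one g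
    rw [hg] at this
    have h' := congrArg (fun z : ↥(Cfsg.isometryGroup F (Cfsg.quadFormMinus (i - 1) F a b)) =>
      ((z : Matrix.GeneralLinearGroup ((Fin (i - 1) ⊕ Fin (i - 1)) ⊕ Fin 2) F) :
      Matrix ((Fin (i - 1) ⊕ Fin (i - 1)) ⊕ Fin 2) ((Fin (i - 1) ⊕ Fin (i - 1)) ⊕ Fin 2) F)) this
    simpa using h'
  have hX1 : Xm ≠ 1 := by
    intro h
    have : g = 1 := by
      apply Subtype.ext
      apply Units.ext
      exact h
    rw [this, orderOf_one] at hg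
    exact hr.one_lt.ne hg
  refine ⟨Xm, hXr, fun v => g.2 v v, ?_⟩
  -- fixed point free
  set y : ((Fin (i - 1) ⊕ Fin (i - 1)) ⊕ Fin 2 → F) →ₗ[F] ((Fin (i - 1) ⊕ Fin (i - 1)) ⊕ Fin 2 → F) :=
    Matrix.toLin' Xm with hy
  have hyr : y ^ r = 1 := by
    rw [hy, ← Matrix.toLin'_pow, hXr, Matrix.toLin'_one]
    rfl
  have hc := Cfsg.Agent.Lib.Helper9.H9Elus.isCompl_ker (F := F) (p := 2) r hr2 y hyr
  have hdv := Cfsg.Agent.Lib.Helper9.H9Elus.order_dvd_finrank_ker (F := F) (p := 2) r hr2 y hyr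
  rw [← hq, hord] at hdv
  have hsum := Submodule.finrank_add_eq_of_isCompl hc
  rw [Module.finrank_fintype_fun_eq_card, Fintype.card_sum, Fintype.card_sum, Fintype.card_fin,
    Fintype.card_fin] at hsum
  have hE0 : finrank F (LinearMap.ker (aeval y (Polynomial.X - 1 : F[X]))) = 0 := by
    obtain ⟨c, hc'⟩ := hdv
    rcases Nat.eq_zero_or_pos c with h0 | h0
    · -- the cyclotomic kernel is zero: `y = 1`
      exfalso
      rw [h0, mul_zero] at hc'
      have hEtop : LinearMap.ker (aeval y (Polynomial.X - 1 : F[X])) = ⊤ := by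
        apply Submodule.eq_top_of_finrank_eq
        rw [Module.finrank_fintype_fun_eq_card, Fintype.card_sum, Fintype.card_sum, Fintype.card_fin,
          Fintype.card_fin]
        omega
      apply hX1
      apply Matrix.toLin'.injective
      rw [Matrix.toLin'_one]
      apply LinearMap.ext
      intro v
      have hv : v ∈ LinearMap.ker (aeval y (Polynomial.X - 1 : F[X])) := by rw [hEtop]; trivial
      rw [LinearMap.mem_ker, map_sub, aeval_X, map_one, LinearMap.sub_apply,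
        Module.End.one_apply, sub_eq_zero] at hv
      exact hv
    · have : 2 * i ≤ 2 * i * c := Nat.le_mul_of_pos_right _ h0
      omega
  rw [Submodule.finrank_eq_zero] at hE0
  intro v hv
  have : v ∈ LinearMap.ker (aeval y (Polynomial.X - 1 : F[X])) := by
    rw [LinearMap.mem_ker, map_sub, aeval_X, map_one, LinearMap.sub_apply,
      Module.End.one_apply, sub_eq_zero, hy, Matrix.toLin'_apply]
    exact hv
  rw [hE0] at this
  exact this

end cauchy

end Cfsg.Agent.Lib.Helper5.NsPt
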