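import Mathlib
import Cfsg.Agent.Lib.Helper5.NsPt9

set_option autoImplicit false

namespace Cfsg.Agent.Lib.Helper5.NsPt

open Module Matrix Polynomial Cfsg.Agent.Lib.Helper5.SpInv2 Cfsg.Agent.Lib.Helper5.QuadGlue
  Cfsg.Agent.Lib.Helper5.InvSplit2

section general

variable {F : Type*} [Field F] [Fintype F] {ι : Type} [Fintype ι] [DecidableEq ι]

/-- elements of odd order lie in the commutator subgroup of the orthogonal group (characteristic two) -/
theorem mem_commutator_of_pow_eq_one (Q : QuadraticForm F (ι → F)) (h2 : (2 : F) = 0)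
    (hQ : (QuadraticMap.polarBilin Q).Nondegenerate)
    (hex : Fintype.card F ≠ 2 ∨ Fintype.card ι ≠ 4) (hn : 2 ≤ Fintype.card ι)
    (g : ↥(Cfsg.isometryGroup F ⇑Q)) (r : ℕ) (hr : Odd r) (hg : g ^ r = 1) :
    g ∈ commutator ↥(Cfsg.isometryGroup F ⇑Q) := by
  have hidx := index_commutator h2 hQ hex hn
  have hsq : ∀ x : ↥(Cfsg.isometryGroup F ⇑Q), x ^ 2 ∈ commutator ↥(Cfsg.isometryGroup F ⇑Q) := by
    intro x
    rw [← QuotientGroup.eq_one_iff, QuotientGroup.mk_pow]
    have hc : Nat.card (↥(Cfsg.isometryGroup F ⇑Q) ⧸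
        commutator ↥(Cfsg.isometryGroup F ⇑Q)) = 2 := by
      rw [← Subgroup.index_eq_card]; exact hidx
    rw [← hc]
    exact pow_card_eq_one'
  obtain ⟨k, rfl⟩ := hr
  have : g = (g ^ (k + 1)) ^ 2 := by
    rw [← pow_mul, show (k + 1) * 2 = (2 * k + 1) + 1 by ring, pow_succ, hg, one_mul]
  rw [this]
  exact hsq _

end general

section plusprops

variable {F : Type*} [Field F] [Fintype F] [CharP F 2] {d : ℕ}

theorem dMat_props (r : ℕ) (P Q : Matrix (Fin d) (Fin d) F) (h : P * Q = 1) (hPr : P ^ r = 1)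
    (hfix : ∀ a : Fin d → F, P *ᵥ a = a → a = 0) :
    dMat P Q ^ r = 1 ∧
      (∀ v, Cfsg.quadFormPlus d F (dMat P Q *ᵥ v) = Cfsg.quadFormPlus d F v) ∧
      ∀ v, dMat P Q *ᵥ v = v → Cfsg.quadFormPlus d F v = 0 := by
  have h' : Q * P = 1 := _root_.mul_eq_one_comm.1 h
  have hQr : Q ^ r = 1 := by
    have : Q ^ r = Q ^ r * (P ^ r) := by rw [hPr, mul_one]
    rw [this, ← (Commute.mul_pow (show Commute Q P by rw [Commute, SemiconjBy, h, h']) r), h',
      one_pow]
  refine ⟨?_, ?_, ?_⟩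
  · rw [dMat_pow, hPr, hQr]
    unfold dMat
    rw [Matrix.transpose_one, Matrix.fromBlocks_one]
  · intro v
    rw [← QP_apply, ← QP_apply]
    exact QP_dMat P Q h v
  · intro v hv
    rw [dMat_mulVec] at hv
    have h0 : P *ᵥ (fun i => v (Sum.inl i)) = fun i => v (Sum.inl i) := by
      funext i
      have := congrFun hv (Sum.inl i)
      simpa using this
    have h1 := hfix _ h0
    unfold Cfsg.quadFormPlus
    apply Finset.sum_eq_zero
    intro i _
    have := congrFun h1 i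
    simp only [Pi.zero_apply] at this
    rw [this, zero_mul]

/-- the hyperbolic part: allow dimension zero -/
theorem exists_plus_part (r : ℕ) [Fact r.Prime] (hr2 : r ≠ 2)
    (hdiv : d = 0 ∨ r ∣ Fintype.card F ^ d - 1) :
    ∃ X : Matrix (Fin d ⊕ Fin d) (Fin d ⊕ Fin d) F, X ^ r = 1 ∧
      (∀ v, Cfsg.quadFormPlus d F (X *ᵥ v) = Cfsg.quadFormPlus d F v) ∧
      ∀ v, X *ᵥ v = v → Cfsg.quadFormPlus d F v = 0 := by
  rcases Nat.eq_zero_or_pos d with h0 | h0
  · subst h0
    refine ⟨1, one_pow _, fun v => by rw [Matrix.one_mulVec], fun v _ => ?_⟩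
    unfold Cfsg.quadFormPlus
    simp
  · have hdiv' : r ∣ Fintype.card F ^ d - 1 := by
      rcases hdiv with h | h
      · omega
      · exact h
    obtain ⟨P, Q, hPQ, hPr, hfix⟩ := exists_fpf_matrix (F := F) h0 r hr2 hdiv'
    exact ⟨dMat P Q, dMat_props r P Q hPQ hPr hfix⟩

end plusprops

end Cfsg.Agent.Lib.Helper5.NsPt
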