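import Mathlib
import Cfsg.Agent.Lib.Helper2.OrthNdJ
import Cfsg.Agent.Lib.Helper5.OPar0

set_option autoImplicit false

/-!
PK-SQM-A: isometries `y` with `y ∘ y = -1`: invariant nondegenerate subspaces have even dimension and
split into orthogonal planes `<v, y v>`.
-/

namespace Cfsg.Agent.Lib.Helper5.OPar

open Module QuadraticMap
open Cfsg.Agent.Lib.Helper2.MaxTS2
open Cfsg.Agent.Lib.Helper2.OrthEl
open Cfsg.Agent.Lib.Helper2.OrthNd
open Cfsg.Agent.H9SemiInv

section sqm
variable {F : Type*} [Field F] [Fintype F]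
variable {V : Type*} [AddCommGroup V] [Module F V] [FiniteDimensional F V]
variable {Q : QuadraticForm F V} {y : V →ₗ[F] V}

omit [Fintype F] [FiniteDimensional F V] in
theorem sqm_polar_self (h2 : (2 : F) ≠ 0) (hiso : ∀ v, Q (y v) = Q v) (hy : ∀ v, y (y v) = -v)
    (v : V) : polar (⇑Q) v (y v) = 0 := by
  have h1 : polar (⇑Q) (y v) (y (y v)) = polar (⇑Q) v (y v) := iso_polar hiso v (y v)
  rw [hy, polar_neg_right, polar_comm] at h1
  have h3 : (2 : F) * polar (⇑Q) v (y v) = 0 := by linear_combination -h1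
  rcases mul_eq_zero.1 h3 with h | h
  · exact absurd h h2
  · exact h

omit [Fintype F] in
/-- a nonzero nondegenerate subspace contains a nonsingular vector -/
theorem sqm_exists_ne (h2 : (2 : F) ≠ 0) {M : Submodule F V} (hM : NDeg Q M) (hM0 : M ≠ ⊥) :
    ∃ v ∈ M, Q v ≠ 0 := by
  by_contra hcon
  push_neg at hcon
  apply hM0
  rw [eq_bot_iff]
  intro u hu
  have hu' : u ∈ perp Q M := by
    rw [mem_perp_iff]
    intro w hw
    unfold polar
    rw [hcon _ (M.add_mem hw hu), hcon w hw, hcon u hu]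
    ring
  exact (Submodule.mem_bot F).2 (Submodule.disjoint_def.1 hM u hu hu')

omit [Fintype F] [FiniteDimensional F V] in
theorem sqm_inv_perp (hiso : ∀ v, Q (y v) = Q v) (hy : ∀ v, y (y v) = -v) {P : Submodule F V}
    (hP : Inv y P) : Inv y (perp Q P) := by
  intro u hu
  rw [mem_perp_iff] at hu ⊢
  intro w hw
  have h1 : w = y (-(y w)) := by rw [map_neg, hy, neg_neg]
  rw [h1, iso_polar hiso]
  exact hu _ (P.neg_mem (hP w hw))

/-- the peeling step -/
theorem sqm_step (h2 : (2 : F) ≠ 0) (hQ : (polarBilin Q).Nondegenerate)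
    (hiso : ∀ v, Q (y v) = Q v) (hy : ∀ v, y (y v) = -v) {M : Submodule F V} (hM : NDeg Q M)
    (hMi : Inv y M) (hM0 : M ≠ ⊥) :
    ∃ v ∈ M, Q v ≠ 0 ∧ NDeg Q (M ⊓ perp Q (Submodule.span F {v, y v})) ∧
      Inv y (M ⊓ perp Q (Submodule.span F {v, y v})) ∧
      finrank F ↥(M ⊓ perp Q (Submodule.span F {v, y v})) + 2 = finrank F M := by
  classical
  obtain ⟨v, hvM, hv⟩ := sqm_exists_ne h2 hM hM0
  refine ⟨v, hvM, hv, ?_⟩
  set w : Fin 2 → V := ![v, y v] with hw
  have hframe : IsFrame Q w := by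
    constructor
    · intro i j hij
      fin_cases i <;> fin_cases j
      · exact absurd rfl hij
      · exact sqm_polar_self h2 hiso hy v
      · show polar (⇑Q) (y v) v = 0
        rw [polar_comm]; exact sqm_polar_self h2 hiso hy v
      · exact absurd rfl hij
    · intro i
      fin_cases i
      · exact hv
      · show Q (y v) ≠ 0
        rw [hiso]; exact hv
  have hrange : Set.range w = {v, y v} := by
    rw [hw]
    simp [Matrix.range_cons, Matrix.range_empty, Set.pair_comm]
  obtain ⟨hPn, hPd, -⟩ := hframe.span h2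
  rw [hrange, Fintype.card_fin] at hPd
  rw [hrange] at hPn
  set P := Submodule.span F ({v, y v} : Set V) with hP
  have hPM : P ≤ M := by
    rw [hP, Submodule.span_le]
    intro u hu
    rcases hu with rfl | rfl
    · exact hvM
    · exact hMi v hvM
  have hPi : Inv y P := by
    intro u hu
    rw [hP, Submodule.mem_span_pair] at hu
    obtain ⟨a, b, rfl⟩ := hu
    rw [map_add, map_smul, map_smul, hy, hP, Submodule.mem_span_pair]
    exact ⟨-b, a, by rw [neg_smul, smul_neg]; abel⟩
  refine ⟨ndeg_inf_perp hM hPM hPn, hMi.inf (sqm_inv_perp hiso hy hPi), ?_⟩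
  have := finrank_inf_perp hQ hM hPM
  rw [hPd] at this
  exact this

/-- invariant nondegenerate subspaces have even dimension -/
theorem even_finrank_of_sq_neg_one' (h2 : (2 : F) ≠ 0) (hQ : (polarBilin Q).Nondegenerate)
    (hiso : ∀ v, Q (y v) = Q v) (hy : ∀ v, y (y v) = -v) :
    ∀ (n : ℕ) (W : Submodule F V), finrank F W = n → Inv y W → NDeg Q W → Even n := by
  intro n
  induction n using Nat.strong_induction_on with
  | _ n ih =>
    intro W hn hW hWn
    by_cases h0 : W = ⊥
    · rw [h0, finrank_bot] at hn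
      rw [← hn]; exact Even.zero
    · obtain ⟨v, -, -, hn', hi', hd'⟩ := sqm_step h2 hQ hiso hy hWn hW h0
      have := ih (n - 2) (by omega) _ (by omega) hi' hn'
      obtain ⟨k, hk⟩ := this
      exact ⟨k + 1, by omega⟩

theorem even_finrank_of_sq_neg_one (h2 : (2 : F) ≠ 0) (hQ : (polarBilin Q).Nondegenerate)
    (hiso : ∀ v, Q (y v) = Q v)
    (hy : ∀ v, y (y v) = -v) (W : Submodule F V) (hW : Inv y W) (hWn : NDeg Q W) :
    Even (finrank F W) :=
  even_finrank_of_sq_neg_one' h2 hQ hiso hy _ W rfl hW hWn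

/-- the frame inside an invariant nondegenerate subspace -/
theorem sqm_frame_aux (h2 : (2 : F) ≠ 0) (hQ : (polarBilin Q).Nondegenerate)
    (hiso : ∀ v, Q (y v) = Q v) (hy : ∀ v, y (y v) = -v) :
    ∀ (d : ℕ) (M : Submodule F V), finrank F M = 2 * d → Inv y M → NDeg Q M →
      ∃ v : Fin d → V, (∀ j, v j ∈ M) ∧ (∀ j, Q (v j) ≠ 0) ∧
        (∀ j l, j ≠ l → polar (⇑Q) (v j) (v l) = 0 ∧ polar (⇑Q) (v j) (y (v l)) = 0) := by
  intro d
  induction d with
  | zero =>
    intro M _ _ _
    exact ⟨Fin.elim0, fun j => j.elim0, fun j => j.elim0, fun j => j.elim0⟩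
  | succ d ih =>
    intro M hd hMi hMn
    have hM0 : M ≠ ⊥ := by
      rintro rfl
      rw [finrank_bot] at hd
      omega
    obtain ⟨v, hvM, hv, hn', hi', hd'⟩ := sqm_step h2 hQ hiso hy hMn hMi hM0
    obtain ⟨v', hv'M, hv'Q, hv'o⟩ := ih _ (by omega) hi' hn'
    have hperp : ∀ j, polar (⇑Q) v (v' j) = 0 ∧ polar (⇑Q) (y v) (v' j) = 0 ∧
        polar (⇑Q) v (y (v' j)) = 0 := by
      intro j
      have h1 : v' j ∈ perp Q (Submodule.span F {v, y v}) := (hv'M j).2
      have h2' : y (v' j) ∈ perp Q (Submodule.span F {v, y v}) := (hi' _ (hv'M j)).2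
      rw [mem_perp_iff] at h1 h2'
      exact ⟨h1 v (Submodule.subset_span (by simp)), h1 (y v) (Submodule.subset_span (by simp)),
        h2' v (Submodule.subset_span (by simp))⟩
    refine ⟨Fin.cons v v', ?_, ?_, ?_⟩
    · intro j
      refine Fin.cases ?_ (fun j' => ?_) j
      · simpa using hvM
      · simpa using (hv'M j').1
    · intro j
      refine Fin.cases ?_ (fun j' => ?_) j
      · simpa using hv
      · simpa using hv'Q j'
    · intro j l
      refine Fin.cases ?_ (fun j' => ?_) j <;> refine Fin.cases ?_ (fun l' => ?_) l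
      · intro hjl; exact absurd rfl hjl
      · intro _
        simp only [Fin.cons_zero, Fin.cons_succ]
        exact ⟨(hperp l').1, (hperp l').2.2⟩
      · intro _
        simp only [Fin.cons_zero, Fin.cons_succ]
        refine ⟨by rw [polar_comm]; exact (hperp j').1, by rw [polar_comm]; exact (hperp j').2.1⟩
      · intro hjl
        simp only [Fin.cons_succ]
        exact hv'o j' l' (fun h => hjl (by rw [h]))

/-- a "unitary" orthogonal frame: `v j, y (v j)` pairwise orthogonal, `Q (v j) ≠ 0` -/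
theorem exists_frame_sq_neg_one (h2 : (2 : F) ≠ 0) (hQ : (polarBilin Q).Nondegenerate)
    (hiso : ∀ v, Q (y v) = Q v) (hy : ∀ v, y (y v) = -v) (d : ℕ)
    (hdim : finrank F V = 2 * d) :
    ∃ v : Fin d → V, (∀ j, Q (v j) ≠ 0) ∧ (∀ j, polar (⇑Q) (v j) (y (v j)) = 0) ∧
      (∀ j l, j ≠ l → polar (⇑Q) (v j) (v l) = 0 ∧ polar (⇑Q) (v j) (y (v l)) = 0 ∧
        polar (⇑Q) (y (v j)) (y (v l)) = 0) ∧
      LinearIndependent F (Sum.elim v (fun j => y (v j))) := by
  classical
  obtain ⟨v, -, hvQ, hvo⟩ := sqm_frame_aux h2 hQ hiso hy d ⊤ (by rw [finrank_top, hdim])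
    (fun _ _ => Submodule.mem_top) (ndeg_top hQ)
  refine ⟨v, hvQ, fun j => sqm_polar_self h2 hiso hy (v j), ?_, ?_⟩
  · intro j l hjl
    exact ⟨(hvo j l hjl).1, (hvo j l hjl).2, by rw [iso_polar hiso]; exact (hvo j l hjl).1⟩
  · apply IsFrame.linearIndependent h2 (Q := Q)
    constructor
    · rintro (j | j) (l | l) hjl
      · exact (hvo j l (fun h => hjl (by rw [h]))).1
      · by_cases h : j = l
        · subst h; exact sqm_polar_self h2 hiso hy (v j)
        · exact (hvo j l h).2
      · show polar (⇑Q) (y (v j)) (v l) = 0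
        rw [polar_comm]
        by_cases h : l = j
        · subst h; exact sqm_polar_self h2 hiso hy (v l)
        · exact (hvo l j h).2
      · show polar (⇑Q) (y (v j)) (y (v l)) = 0
        rw [iso_polar hiso]
        exact (hvo j l (fun h => hjl (by rw [h]))).1
    · rintro (j | j)
      · exact hvQ j
      · show Q (y (v j)) ≠ 0
        rw [hiso]; exact hvQ j

end sqm

end Cfsg.Agent.Lib.Helper5.OPar
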