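import Mathlib
import Cfsg.Prelude.Def_Classical
import Cfsg.Agent.Lib.Helper2.OrthElS
import Cfsg.Agent.Lib.Helper5.OPar_SQMA

set_option autoImplicit false

/-!
PK-SQM-B: the spinor homomorphism of an isometry with square `-1`.
-/

namespace Cfsg.Agent.Lib.Helper5.OPar

open Module QuadraticMap
open scoped Matrix
open Cfsg.Agent.Lib.Helper2.MaxTS2
open Cfsg.Agent.Lib.Helper2.OrthEl
open Cfsg.Agent.H9SemiInv
open Cfsg.Agent.Lib.Helper2

section sqmb
variable {F : Type*} [Field F] [Fintype F] [DecidableEq F] {ι : Type} [Fintype ι] [DecidableEq ι]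

theorem sqmb_chi'_sq (h2 : (2 : F) ≠ 0) {a : F} (ha : a ≠ 0) : chi' (a * a) = 1 := by
  unfold chi'
  rw [if_pos ⟨a, rfl⟩]

theorem sqmb_chi'_pow (h2 : (2 : F) ≠ 0) {a : F} (ha : a ≠ 0) (d : ℕ) :
    chi' (a ^ d) = chi' a ^ d := by
  induction d with
  | zero =>
    rw [pow_zero, pow_zero]
    unfold chi'
    rw [if_pos ⟨1, by ring⟩]
  | succ d ih =>
    rw [pow_succ, pow_succ, chi'_mul h2 (pow_ne_zero d ha) ha, ih]

/-- extend a finite family by zero -/
noncomputable def sqmbExt {d : ℕ} (w : Fin d → ι → F) : ℕ → ι → F :=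
  fun n => if h : n < d then w ⟨n, h⟩ else 0

theorem sqmbExt_apply {d : ℕ} (w : Fin d → ι → F) (j : Fin d) : sqmbExt w j = w j := by
  unfold sqmbExt
  rw [dif_pos j.2]

theorem sqmb_prod_range {d : ℕ} (w : Fin d → ι → F) (g : (ι → F) → F) :
    ∏ j ∈ Finset.range d, g (sqmbExt w j) = ∏ j : Fin d, g (w j) := by
  rw [← Fin.prod_univ_eq_prod_range (fun n => g (sqmbExt w n)) d]
  apply Finset.prod_congr rfl
  intro j _
  rw [sqmbExt_apply]

theorem Phi_sq_neg_one (h2 : (2 : F) ≠ 0)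
    (Q : QuadraticForm F (ι → F)) (hQ : (polarBilin Q).Nondegenerate) (d : ℕ)
    (hcard : Fintype.card ι = 2 * d) (x : ↥(Cfsg.isometryGroup F ⇑Q))
    (hxx : ((x : GL ι F) : Matrix ι ι F) * ((x : GL ι F) : Matrix ι ι F) = -1) :
    Spinor.Phi Q x = (1, chi' (2 : F) ^ d) := by
  classical
  set y := Matrix.toLin' ((x : GL ι F) : Matrix ι ι F) with hy
  have hiso : ∀ v, Q (y v) = Q v := fun v => iso_apply x.2 v
  have hyy : ∀ v, y (y v) = -v := by
    intro v
    rw [hy, ← LinearMap.comp_apply, ← Matrix.toLin'_mul, hxx, map_neg, Matrix.toLin'_one]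
    rfl
  have hdim : finrank F (ι → F) = 2 * d := by
    rw [Module.finrank_fintype_fun_eq_card, hcard]
  obtain ⟨v, hvQ, hvs, hvo, hli⟩ := exists_frame_sq_neg_one h2 hQ hiso hyy d hdim
  -- the two orthogonal families
  set u₂ : ℕ → ι → F := sqmbExt v with hu₂
  set u₁ : ℕ → ι → F := sqmbExt (fun j => v j + y (v j)) with hu₁
  have hu₂a : ∀ j : Fin d, u₂ j = v j := fun j => sqmbExt_apply v j
  have hu₁a : ∀ j : Fin d, u₁ j = v j + y (v j) := fun j => sqmbExt_apply _ j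
  have hQ₁ : ∀ j : Fin d, Q (v j + y (v j)) = 2 * Q (v j) := by
    intro j
    have h3 := hvs j
    unfold polar at h3
    rw [hiso] at h3
    linear_combination h3
  have hne₂ : ∀ j < d, Q (u₂ j) ≠ 0 := by
    intro j hj
    have := hu₂a ⟨j, hj⟩
    simp only at this
    rw [this]
    exact hvQ _
  have hne₁ : ∀ j < d, Q (u₁ j) ≠ 0 := by
    intro j hj
    have := hu₁a ⟨j, hj⟩
    simp only at this
    rw [this, hQ₁]
    exact mul_ne_zero h2 (hvQ _)
  have ho₂ : ∀ j l, j < d → l < d → j ≠ l → polar (⇑Q) (u₂ j) (u₂ l) = 0 := by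
    intro j l hj hl hjl
    have e1 := hu₂a ⟨j, hj⟩
    have e2 := hu₂a ⟨l, hl⟩
    simp only at e1 e2
    rw [e1, e2]
    exact (hvo ⟨j, hj⟩ ⟨l, hl⟩ (fun h => hjl (Fin.mk.inj h))).1
  have ho₁ : ∀ j l, j < d → l < d → j ≠ l → polar (⇑Q) (u₁ j) (u₁ l) = 0 := by
    intro j l hj hl hjl
    have e1 := hu₁a ⟨j, hj⟩
    have e2 := hu₁a ⟨l, hl⟩
    simp only at e1 e2
    rw [e1, e2]
    have hne : (⟨j, hj⟩ : Fin d) ≠ ⟨l, hl⟩ := fun h => hjl (Fin.mk.inj h)
    obtain ⟨a1, a2, a3⟩ := hvo ⟨j, hj⟩ ⟨l, hl⟩ hne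
    obtain ⟨b1, b2, b3⟩ := hvo ⟨l, hl⟩ ⟨j, hj⟩ hne.symm
    rw [polar_add_left, polar_add_right, polar_add_right, a1, a2, a3,
      polar_comm (⇑Q) (y (v ⟨j, hj⟩)) (v ⟨l, hl⟩), b2]
    ring
  set s := reflProd Q u₁ d with hs
  set t := reflProd Q u₂ d with ht
  -- actions on the frame
  have ht1 : ∀ l : Fin d, ((t : GL ι F) : Matrix ι ι F) *ᵥ (v l) = -(v l) := by
    intro l
    have := reflProd_neg u₂ d ho₂ hne₂ l l.2
    rw [hu₂a l] at this
    exact this
  have ht2 : ∀ l : Fin d, ((t : GL ι F) : Matrix ι ι F) *ᵥ (y (v l)) = y (v l) := by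
    intro l
    apply reflProd_fix u₂ (y (v l)) d
    intro j hj
    have e1 := hu₂a ⟨j, hj⟩
    simp only at e1
    rw [e1]
    by_cases h : (⟨j, hj⟩ : Fin d) = l
    · rw [h]; exact hvs l
    · exact (hvo ⟨j, hj⟩ l h).2.1
  have hs1 : ∀ l : Fin d, ((s : GL ι F) : Matrix ι ι F) *ᵥ (v l + y (v l)) = -(v l + y (v l)) := by
    intro l
    have := reflProd_neg u₁ d ho₁ hne₁ l l.2
    rw [hu₁a l] at this
    exact this
  have hs2 : ∀ l : Fin d, ((s : GL ι F) : Matrix ι ι F) *ᵥ (v l - y (v l)) = v l - y (v l) := by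
    intro l
    apply reflProd_fix u₁ (v l - y (v l)) d
    intro j hj
    have e1 := hu₁a ⟨j, hj⟩
    simp only at e1
    rw [e1]
    by_cases h : (⟨j, hj⟩ : Fin d) = l
    · rw [h, polar_add_left, polar_sub_right, polar_sub_right, hvs l,
        polar_comm (⇑Q) (y (v l)) (v l), hvs l, iso_polar hiso]
      ring
    · obtain ⟨a1, a2, a3⟩ := hvo ⟨j, hj⟩ l h
      obtain ⟨b1, b2, b3⟩ := hvo l ⟨j, hj⟩ (fun h' => h h'.symm)
      rw [polar_add_left, polar_sub_right, polar_sub_right, a1, a2, a3,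
        polar_comm (⇑Q) (y (v ⟨j, hj⟩)) (v l), b2]
      ring
  have hs3 : ∀ l : Fin d, ((s : GL ι F) : Matrix ι ι F) *ᵥ (v l) = -(y (v l)) := by
    intro l
    have e : v l = (2 : F)⁻¹ • ((v l + y (v l)) + (v l - y (v l))) := by
      rw [show (v l + y (v l)) + (v l - y (v l)) = (2 : F) • v l by rw [two_smul]; abel,
        smul_smul, inv_mul_cancel₀ h2, one_smul]
    calc ((s : GL ι F) : Matrix ι ι F) *ᵥ (v l)
        = ((s : GL ι F) : Matrix ι ι F) *ᵥ ((2 : F)⁻¹ • ((v l + y (v l)) + (v l - y (v l)))) := by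
          rw [← e]
      _ = (2 : F)⁻¹ • (-(v l + y (v l)) + (v l - y (v l))) := by
          rw [Matrix.mulVec_smul, Matrix.mulVec_add, hs1, hs2]
      _ = -(y (v l)) := by
          rw [show -(v l + y (v l)) + (v l - y (v l)) = (2 : F) • (-(y (v l))) by
            rw [two_smul]; abel, smul_smul, inv_mul_cancel₀ h2, one_smul]
  have hs4 : ∀ l : Fin d, ((s : GL ι F) : Matrix ι ι F) *ᵥ (y (v l)) = -(v l) := by
    intro l
    have e : y (v l) = (2 : F)⁻¹ • ((v l + y (v l)) - (v l - y (v l))) := by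
      rw [show (v l + y (v l)) - (v l - y (v l)) = (2 : F) • y (v l) by rw [two_smul]; abel,
        smul_smul, inv_mul_cancel₀ h2, one_smul]
    calc ((s : GL ι F) : Matrix ι ι F) *ᵥ (y (v l))
        = ((s : GL ι F) : Matrix ι ι F) *ᵥ ((2 : F)⁻¹ • ((v l + y (v l)) - (v l - y (v l)))) := by
          rw [← e]
      _ = (2 : F)⁻¹ • (-(v l + y (v l)) - (v l - y (v l))) := by
          rw [Matrix.mulVec_smul, Matrix.mulVec_sub, hs1, hs2]
      _ = -(v l) := by
          rw [show -(v l + y (v l)) - (v l - y (v l)) = (2 : F) • (-(v l)) by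
            rw [two_smul]; abel, smul_smul, inv_mul_cancel₀ h2, one_smul]
  -- x = s * t
  have hxst : x = s * t := by
    apply Subtype.ext
    apply Units.ext
    apply Matrix.toLin'.injective
    have hcard' : Fintype.card (Fin d ⊕ Fin d) = finrank F (ι → F) := by
      rw [hdim, Fintype.card_sum, Fintype.card_fin]; ring
    rcases Nat.eq_zero_or_pos d with hd0 | hdpos
    · apply LinearMap.ext
      intro z
      have : Subsingleton (ι → F) := by
        apply (Module.finrank_zero_iff (R := F) (M := ι → F)).1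
        rw [hdim, hd0]
      exact Subsingleton.elim _ _
    haveI : Nonempty (Fin d ⊕ Fin d) := ⟨Sum.inl ⟨0, hdpos⟩⟩
    set b := basisOfLinearIndependentOfCardEqFinrank hli hcard' with hb
    apply b.ext
    intro i
    rw [hb, coe_basisOfLinearIndependentOfCardEqFinrank]
    show y _ = _
    rw [Subgroup.coe_mul, Units.val_mul, Matrix.toLin'_mul, LinearMap.comp_apply]
    have het : ∀ w : ι → F, Matrix.toLin' ((t : GL ι F) : Matrix ι ι F) w =
        ((t : GL ι F) : Matrix ι ι F) *ᵥ w := fun w => Matrix.toLin'_apply _ _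
    have hes : ∀ w : ι → F, Matrix.toLin' ((s : GL ι F) : Matrix ι ι F) w =
        ((s : GL ι F) : Matrix ι ι F) *ᵥ w := fun w => Matrix.toLin'_apply _ _
    rcases i with l | l
    · show y (v l) = Matrix.toLin' ((s : GL ι F) : Matrix ι ι F)
        (Matrix.toLin' ((t : GL ι F) : Matrix ι ι F) (v l))
      rw [het (v l), ht1, hes, Matrix.mulVec_neg, hs3, neg_neg]
    · show y (y (v l)) = Matrix.toLin' ((s : GL ι F) : Matrix ι ι F)
        (Matrix.toLin' ((t : GL ι F) : Matrix ι ι F) (y (v l)))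
      rw [het (y (v l)), ht2, hes, hs4, hyy]
  rw [hxst, map_mul, hs, ht, Phi_reflProd h2 u₁ d hne₁, Phi_reflProd h2 u₂ d hne₂,
    prod_cls h2 (fun j => Q (u₁ j)) d hne₁, prod_cls h2 (fun j => Q (u₂ j)) d hne₂]
  have hp₁ : ∏ j ∈ Finset.range d, Q (u₁ j) = 2 ^ d * ∏ j : Fin d, Q (v j) := by
    rw [hu₁, sqmb_prod_range (fun j => v j + y (v j)) (fun z => Q z)]
    simp only [hQ₁]
    rw [Finset.prod_mul_distrib, Finset.prod_const, Finset.card_univ, Fintype.card_fin]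
  have hp₂ : ∏ j ∈ Finset.range d, Q (u₂ j) = ∏ j : Fin d, Q (v j) := by
    rw [hu₂, sqmb_prod_range v (fun z => Q z)]
  have hP0 : ∏ j : Fin d, Q (v j) ≠ 0 := Finset.prod_ne_zero_iff.2 (fun j _ => hvQ j)
  rw [hp₁, hp₂]
  refine Prod.ext ?_ ?_
  · show (-1 : Fˣ) ^ d * (-1) ^ d = 1
    rw [← mul_pow]
    simp
  · show (-1 : ℤˣ) ^ d * chi' (2 ^ d * ∏ j : Fin d, Q (v j)) *
      ((-1) ^ d * chi' (∏ j : Fin d, Q (v j))) = chi' (2 : F) ^ d
    rw [chi'_mul h2 (pow_ne_zero d h2) hP0, sqmb_chi'_pow h2 h2]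
    have h5 : chi' (∏ j : Fin d, Q (v j)) * chi' (∏ j : Fin d, Q (v j)) = 1 := by
      rw [← chi'_mul h2 hP0 hP0]
      exact sqmb_chi'_sq h2 hP0
    have h6 : ((-1 : ℤˣ) ^ d) * ((-1) ^ d) = 1 := by
      rw [← mul_pow]; simp
    calc (-1 : ℤˣ) ^ d * (chi' (2 : F) ^ d * chi' (∏ j : Fin d, Q (v j))) *
          ((-1) ^ d * chi' (∏ j : Fin d, Q (v j)))
        = ((-1 : ℤˣ) ^ d * (-1) ^ d) * chi' (2 : F) ^ d *
          (chi' (∏ j : Fin d, Q (v j)) * chi' (∏ j : Fin d, Q (v j))) := by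
          simp only [mul_comm, mul_left_comm, mul_assoc]
      _ = chi' (2 : F) ^ d := by rw [h5, h6, one_mul, mul_one]

end sqmb

end Cfsg.Agent.Lib.Helper5.OPar
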