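import Mathlib
import Cfsg.Prelude.Def_Classical
import Cfsg.Prelude.Def_GeometricClasses
import Cfsg.Agent.Lib.Helper2.OrthCfA
import Cfsg.Agent.Lib.Helper5.OPar_SQMA
import Cfsg.Agent.Lib.Helper5.OPar_SQMB
import Cfsg.Agent.Lib.Lead.OPar_SQMD

set_option autoImplicit false

/-!
PK-R2O (S5974 board): `r = 2`, `q` odd, isometries with `y ∘ y = -1`.  Types of the invariant
nondegenerate subspaces, their existence in every even dimension, and an element of `Ω⁺` with
square `-1`.
-/

namespace Cfsg.Agent.Lib.Helper2.OrthCf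

open Module QuadraticMap Polynomial
open Cfsg.Agent.Lib.Helper2.MaxTS2 Cfsg.Agent.Lib.Helper2.OrthEl Cfsg.Agent.Lib.Helper2.OrthNd
open Cfsg.Agent.H9SemiInv
open Cfsg.Agent.Lib.Helper5.OPar

section r2o
variable {F : Type*} [Field F] [Fintype F]
variable {V : Type*} [AddCommGroup V] [Module F V] [FiniteDimensional F V]
variable {Q : QuadraticForm F V} {y : V →ₗ[F] V}

omit [Fintype F] [FiniteDimensional F V] in
/-- the form on the plane `<v, y v>` -/
theorem r2o_plane_apply (h2 : (2 : F) ≠ 0) (hiso : ∀ v, Q (y v) = Q v)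
    (hy : ∀ v, y (y v) = -v) (v : V) (α β : F) :
    Q (α • v + β • y v) = (α ^ 2 + β ^ 2) * Q v := by
  have h1 : polar (⇑Q) (α • v) (β • y v) = 0 := by
    rw [polar_smul_left, polar_smul_right, sqm_polar_self h2 hiso hy v, smul_zero, smul_zero]
  have h3 : Q (α • v + β • y v) = Q (α • v) + Q (β • y v) + polar (⇑Q) (α • v) (β • y v) := by
    unfold polar; ring
  rw [h3, h1, QuadraticMap.map_smul, QuadraticMap.map_smul, hiso, smul_eq_mul, smul_eq_mul]
  ring

/-- peeling off one plane `<v, y v>` with all the information -/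
theorem r2o_step (h2 : (2 : F) ≠ 0) (hQ : (polarBilin Q).Nondegenerate)
    (hiso : ∀ v, Q (y v) = Q v) (hy : ∀ v, y (y v) = -v) {M : Submodule F V} (hM : NDeg Q M)
    (hMi : Inv y M) (hM0 : M ≠ ⊥) :
    ∃ v ∈ M, Q v ≠ 0 ∧ NDeg Q (Submodule.span F {v, y v}) ∧
      finrank F ↥(Submodule.span F ({v, y v} : Set V)) = 2 ∧
      Submodule.span F {v, y v} ≤ M ∧ Inv y (Submodule.span F {v, y v}) ∧
      NDeg Q (M ⊓ perp Q (Submodule.span F {v, y v})) ∧
      Inv y (M ⊓ perp Q (Submodule.span F {v, y v})) ∧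
      finrank F ↥(M ⊓ perp Q (Submodule.span F {v, y v})) + 2 = finrank F M := by
  classical
  obtain ⟨v, hvM, hv⟩ := sqm_exists_ne h2 hM hM0
  refine ⟨v, hvM, hv, ?_⟩
  set w : Fin 2 → V := ![v, y v] with hw
  have hframe : IsFrame Q w := by
    constructor
    · intro i j hij
      fin_cases i <;> fin_cases j
      · exact absurd rfl hij
      · exact sqm_polar_self h2 hiso hy v
      · show polar (⇑Q) (y v) v = 0
        rw [polar_comm]; exact sqm_polar_self h2 hiso hy v
      · exact absurd rfl hij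
    · intro i
      fin_cases i
      · exact hv
      · show Q (y v) ≠ 0
        rw [hiso]; exact hv
  have hrange : Set.range w = {v, y v} := by
    rw [hw]
    simp [Matrix.range_cons, Matrix.range_empty, Set.pair_comm]
  obtain ⟨hPn, hPd, -⟩ := hframe.span h2
  rw [hrange, Fintype.card_fin] at hPd
  rw [hrange] at hPn
  set P := Submodule.span F ({v, y v} : Set V) with hP
  have hPM : P ≤ M := by
    rw [hP, Submodule.span_le]
    intro u hu
    rcases hu with rfl | rfl
    · exact hvM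
    · exact hMi v hvM
  have hPi : Inv y P := by
    intro u hu
    rw [hP, Submodule.mem_span_pair] at hu
    obtain ⟨a, b, rfl⟩ := hu
    rw [map_add, map_smul, map_smul, hy, hP, Submodule.mem_span_pair]
    exact ⟨-b, a, by rw [neg_smul, smul_neg]; abel⟩
  refine ⟨hPn, hPd, hPM, hPi, ndeg_inf_perp hM hPM hPn, hMi.inf (sqm_inv_perp hiso hy hPi), ?_⟩
  have := finrank_inf_perp hQ hM hPM
  rw [hPd] at this
  exact this

omit [Fintype F] [FiniteDimensional F V] in
/-- the plane `<v, y v>` is anisotropic when `-1` is a nonsquare -/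
theorem r2o_plane_not_plus (h2 : (2 : F) ≠ 0) (hiso : ∀ v, Q (y v) = Q v)
    (hy : ∀ v, y (y v) = -v) (hns : ¬ IsSquare (-1 : F)) (v : V) (hv : Q v ≠ 0)
    (hdim : finrank F ↥(Submodule.span F ({v, y v} : Set V)) = 2) :
    ¬ PlusS Q (Submodule.span F {v, y v}) := by
  rintro ⟨U, hUP, hUts, hUdim⟩
  rw [hdim] at hUdim
  have hU1 : finrank F U = 1 := by omega
  have hUne : U ≠ ⊥ := by
    intro h
    rw [h, finrank_bot] at hU1
    omega
  obtain ⟨u, huU, hu0⟩ := Submodule.exists_mem_ne_zero_of_ne_bot hUne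
  obtain ⟨α, β, rfl⟩ := Submodule.mem_span_pair.1 (hUP huU)
  have hQ0 := hUts _ huU
  rw [r2o_plane_apply h2 hiso hy] at hQ0
  have hsum : α ^ 2 + β ^ 2 = 0 := by
    rcases mul_eq_zero.1 hQ0 with h | h
    · exact h
    · exact absurd h hv
  by_cases hβ : β = 0
  · rw [hβ] at hsum hu0
    have hα : α = 0 := by
      have : α ^ 2 = 0 := by simpa using hsum
      exact pow_eq_zero_iff (by norm_num) |>.1 this
    rw [hα] at hu0
    simp at hu0
  · apply hns
    refine ⟨α / β, ?_⟩
    field_simp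
    linear_combination -hsum

omit [Fintype F] [FiniteDimensional F V] in
/-- the plane `<v, y v>` is hyperbolic when `-1` is a square -/
theorem r2o_plane_plus (h2 : (2 : F) ≠ 0) (hiso : ∀ v, Q (y v) = Q v)
    (hy : ∀ v, y (y v) = -v) (hs : IsSquare (-1 : F)) (v : V) (hv : Q v ≠ 0)
    (hdim : finrank F ↥(Submodule.span F ({v, y v} : Set V)) = 2) :
    PlusS Q (Submodule.span F {v, y v}) := by
  obtain ⟨ι, hι⟩ := hs
  set u := ι • v + (1 : F) • y v with hu
  have hQu : Q u = 0 := by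
    rw [hu, r2o_plane_apply h2 hiso hy]
    have : ι ^ 2 + 1 ^ 2 = 0 := by rw [pow_two, ← hι]; ring
    rw [this, zero_mul]
  have hune : u ≠ 0 := by
    intro h
    have h1 : polar (⇑Q) u v = 0 := by rw [h]; simp [polar]
    rw [hu, polar_add_left, polar_smul_left, polar_smul_left, polar_self, polar_comm,
      sqm_polar_self h2 hiso hy v] at h1
    simp only [smul_eq_mul, mul_zero, add_zero, nsmul_eq_mul, Nat.cast_ofNat] at h1
    have hι0 : ι ≠ 0 := by
      rintro rfl
      simp at hι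
    rcases mul_eq_zero.1 h1 with h' | h'
    · exact hι0 h'
    · rcases mul_eq_zero.1 h' with h'' | h''
      · exact h2 h''
      · exact hv h''
  refine ⟨Submodule.span F {u}, ?_, ?_, ?_⟩
  · rw [Submodule.span_singleton_le_iff_mem, Submodule.mem_span_pair]
    exact ⟨ι, 1, rfl⟩
  · intro w hw
    obtain ⟨c, rfl⟩ := Submodule.mem_span_singleton.1 hw
    rw [QuadraticMap.map_smul, hQu, smul_zero]
  · rw [finrank_span_singleton hune, hdim]

/-- the type of an invariant nondegenerate subspace -/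
theorem r2o_type_gen (h2 : (2 : F) ≠ 0) (hQ : (polarBilin Q).Nondegenerate)
    (hiso : ∀ v, Q (y v) = Q v) (hy : ∀ v, y (y v) = -v) :
    ∀ (a : ℕ) (W : Submodule F V), finrank F W = 2 * a → Inv y W → NDeg Q W →
      (PlusS Q W ↔ (IsSquare (-1 : F) ∨ Even a)) := by
  intro a
  induction a with
  | zero =>
    intro W hdim _ _
    constructor
    · intro _
      exact Or.inr Even.zero
    · intro _
      exact ⟨⊥, bot_le, fun w hw => by rw [(Submodule.mem_bot F).1 hw, map_zero],
        by rw [finrank_bot, hdim]⟩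
  | succ a ih =>
    intro W hdim hWi hWn
    have hW0 : W ≠ ⊥ := by
      intro h
      rw [h, finrank_bot] at hdim
      omega
    obtain ⟨v, hvW, hv, hPn, hPd, hPW, hPi, hMn, hMi, hMd⟩ := r2o_step h2 hQ hiso hy hWn hWi hW0
    set P := Submodule.span F ({v, y v} : Set V) with hP
    set M := W ⊓ perp Q P with hM
    have hMdim : finrank F M = 2 * a := by omega
    have hih := ih M hMdim hMi hMn
    have horth : P ≤ perp Q M := le_perp_comm inf_le_right
    obtain ⟨-, hsdim, hstype⟩ := plusS_sup hPn hMn horth (by rw [hPd]; exact even_two)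
      (by rw [hMdim]; exact even_two_mul a)
    have hsup : P ⊔ M = W := by
      apply Submodule.eq_of_le_of_finrank_eq (sup_le hPW inf_le_left)
      rw [hsdim, hPd, hMdim, hdim]
      ring
    rw [hsup] at hstype
    rw [hstype, hih]
    by_cases hs : IsSquare (-1 : F)
    · have hPplus : PlusS Q P := r2o_plane_plus h2 hiso hy hs v hv hPd
      simp [hs, hPplus]
    · have hPnot : ¬ PlusS Q P := r2o_plane_not_plus h2 hiso hy hs v hv hPd
      simp only [hs, false_or, hPnot, false_iff]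
      rw [Nat.even_add_one]

/-- `-1` a nonsquare: every invariant nondegenerate subspace is an orthogonal sum of anisotropic planes
`<v, y v>`, so its type is decided by its dimension -/
theorem r2o_type (h2 : (2 : F) ≠ 0) (hQ : (polarBilin Q).Nondegenerate)
    (hiso : ∀ v, Q (y v) = Q v) (hy : ∀ v, y (y v) = -v) (hns : ¬ IsSquare (-1 : F))
    (W : Submodule F V) (hWinv : Inv y W) (hW : NDeg Q W) (a : ℕ) (hdim : finrank F W = 2 * a) :
    PlusS Q W ↔ Even a := by
  rw [r2o_type_gen h2 hQ hiso hy a W hdim hWinv hW]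
  simp [hns]

/-- `-1` a square: every invariant nondegenerate subspace is of plus type -/
theorem r2o_plus_of_isSquare (h2 : (2 : F) ≠ 0) (hQ : (polarBilin Q).Nondegenerate)
    (hiso : ∀ v, Q (y v) = Q v) (hy : ∀ v, y (y v) = -v) (hs : IsSquare (-1 : F))
    (W : Submodule F V) (hWinv : Inv y W) (hW : NDeg Q W) : PlusS Q W := by
  obtain ⟨a, ha⟩ := even_finrank_of_sq_neg_one h2 hQ hiso hy W hWinv hW
  exact (r2o_type_gen h2 hQ hiso hy a W (by rw [ha]; ring) hWinv hW).2 (Or.inl hs)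

/-- invariant nondegenerate subspaces exist in every even dimension -/
theorem r2o_exists_inv (h2 : (2 : F) ≠ 0) (hQ : (polarBilin Q).Nondegenerate)
    (hiso : ∀ v, Q (y v) = Q v) (hy : ∀ v, y (y v) = -v) (d : ℕ)
    (hdim : finrank F V = 2 * d) :
    ∀ k : ℕ, k ≤ d → ∃ W : Submodule F V, Inv y W ∧ NDeg Q W ∧ finrank F W = 2 * (d - k) := by
  intro k
  induction k with
  | zero =>
    intro _
    exact ⟨⊤, fun v _ => Submodule.mem_top, ndeg_top hQ, by rw [finrank_top, hdim]; rfl⟩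
  | succ k ih =>
    intro hk
    obtain ⟨W, hWi, hWn, hWd⟩ := ih (by omega)
    have hW0 : W ≠ ⊥ := by
      intro h
      rw [h, finrank_bot] at hWd
      omega
    obtain ⟨v, -, -, -, -, -, -, hMn, hMi, hMd⟩ := r2o_step h2 hQ hiso hy hWn hWi hW0
    exact ⟨_, hMi, hMn, by omega⟩

/-- the positive direction -/
theorem r2o_pos (h2 : (2 : F) ≠ 0) (hQ : (polarBilin Q).Nondegenerate)
    (hiso : ∀ v, Q (y v) = Q v) (hy : ∀ v, y (y v) = -v) (d a : ℕ)
    (hdim : finrank F V = 2 * d) (hV : PlusS Q ⊤) (ha0 : 0 < a) (had : a ≤ d)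
    (hcond : Odd d ∨ Even a ∨ Fintype.card F % 4 = 1) :
    ∃ W : Submodule F V, Inv y W ∧ NDeg Q W ∧ finrank F W = 2 * a ∧ PlusS Q W := by
  obtain ⟨W, hWi, hWn, hWd⟩ := r2o_exists_inv h2 hQ hiso hy d hdim (d - a) (by omega)
  have hWd' : finrank F W = 2 * a := by rw [hWd]; congr 1; omega
  refine ⟨W, hWi, hWn, hWd', ?_⟩
  rw [r2o_type_gen h2 hQ hiso hy a W hWd' hWi hWn]
  rcases hcond with h | h | h
  · have htop := (r2o_type_gen h2 hQ hiso hy d ⊤ (by rw [finrank_top, hdim])
      (fun v _ => Submodule.mem_top) (ndeg_top hQ)).1 hV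
    rcases htop with h' | h'
    · exact Or.inl h'
    · exact absurd h' (Nat.not_even_iff_odd.2 h)
  · exact Or.inr h
  · left
    rw [FiniteField.isSquare_neg_one_iff]
    omega

end r2o

section r2oex
variable {F : Type*} [Field F] [Fintype F]

/-- membership in `omegaGL` through the spinor homomorphism -/
theorem r2o_mem_omegaGL_iff [DecidableEq F] {ι : Type} [Fintype ι] [DecidableEq ι]
    (h2 : (2 : F) ≠ 0) (Q : QuadraticForm F (ι → F))
    (hQ : (polarBilin Q).Nondegenerate) (hn : 2 ≤ Fintype.card ι) (x : GL ι F)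
    (hx : x ∈ Cfsg.isometryGroup F ⇑Q) :
    x ∈ Cfsg.Geo.omegaGL ⇑Q ↔ Spinor.Phi Q ⟨x, hx⟩ = 1 := by
  rw [← Spinor.mem_commutator_iff h2 hQ hn]
  constructor
  · intro h
    obtain ⟨g, hg, hgx⟩ := Subgroup.mem_map.1 h
    have : g = ⟨x, hx⟩ := Subtype.ext hgx
    rw [← this]
    exact hg
  · intro h
    exact Subgroup.mem_map.2 ⟨⟨x, hx⟩, h, rfl⟩

/-- an element of `Ω⁺_{2d}(q)`, `d` even, with square `-1` -/
theorem r2o_exists (h2 : (2 : F) ≠ 0) (d : ℕ) (hd1 : 1 ≤ d) (hd : Even d) :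
    ∃ x : Matrix.GeneralLinearGroup (Fin d ⊕ Fin d) F,
      x ∈ Cfsg.Geo.omegaGL (Cfsg.quadFormPlus d F) ∧
      (x : Matrix (Fin d ⊕ Fin d) (Fin d ⊕ Fin d) F) *
        (x : Matrix (Fin d ⊕ Fin d) (Fin d ⊕ Fin d) F) = -1 := by
  classical
  have hcoe := QuadStd.QP_coe (F := F) d
  have hQ := QuadStd.QP_nondeg (F := F) d
  have hsq : IsSquare ((-1 : F) ^ d) := by
    rw [hd.neg_one_pow]; exact ⟨1, by ring⟩
  obtain ⟨x, hxi0, hxx⟩ := exists_sq_neg_one_plus h2 d hsq
  have hxi : x ∈ Cfsg.isometryGroup F ⇑(Cfsg.Agent.Lib.Helper5.QuadGlue.QP d F) := by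
    rw [hcoe]; exact hxi0
  have hcard : 2 ≤ Fintype.card (Fin d ⊕ Fin d) := by
    rw [Fintype.card_sum, Fintype.card_fin]; omega
  refine ⟨x, ?_, hxx⟩
  rw [← hcoe, r2o_mem_omegaGL_iff h2 _ hQ hcard x hxi,
    Phi_sq_neg_one h2 _ hQ d (by rw [Fintype.card_sum, Fintype.card_fin]; ring) ⟨x, hxi⟩ hxx]
  obtain ⟨k, hk⟩ := hd
  have hchi : chi' (2 : F) * chi' (2 : F) = 1 := by
    unfold chi'
    split_ifs <;> simp
  rw [hk, ← two_mul, pow_mul, pow_two, hchi, one_pow]
  rfl

end r2oex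

end Cfsg.Agent.Lib.Helper2.OrthCf
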