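import Mathlib
import Cfsg.Prelude

set_option autoImplicit false

namespace Cfsg.Agent.Lib.Helper5.QuadOdd

variable {F : Type*} [Field F]

/-- the odd-dimensional standard form as a quadratic form -/
noncomputable def QO (m : ℕ) (F : Type*) [Field F] : QuadraticForm F (Unit ⊕ (Fin m ⊕ Fin m) → F) :=
  QuadraticMap.proj (Sum.inl ()) (Sum.inl ()) +
    ∑ i : Fin m, QuadraticMap.proj (Sum.inr (Sum.inl i)) (Sum.inr (Sum.inr i))

theorem QO_apply (m : ℕ) (v : Unit ⊕ (Fin m ⊕ Fin m) → F) : QO m F v = Cfsg.quadFormOdd m F v := by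
  unfold QO Cfsg.quadFormOdd
  rw [QuadraticMap.add_apply, QuadraticMap.sum_apply, QuadraticMap.proj_apply, pow_two]
  congr 1

theorem QO_coe (m : ℕ) : ⇑(QO m F) = Cfsg.quadFormOdd m F := funext (QO_apply m)

theorem polar_odd (m : ℕ) (u v : Unit ⊕ (Fin m ⊕ Fin m) → F) :
    QuadraticMap.polar (⇑(QO m F)) u v = 2 * u (.inl ()) * v (.inl ()) +
      ∑ i : Fin m, (u (.inr (.inl i)) * v (.inr (.inr i)) + v (.inr (.inl i)) * u (.inr (.inr i))) := by
  rw [QO_coe]
  unfold QuadraticMap.polar Cfsg.quadFormOdd
  have h : ∀ (A B C D E G : F), A + B - (C + D) - (E + G) = (A - C - E) + (B - D - G) := by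
    intros; ring
  rw [h, ← Finset.sum_sub_distrib, ← Finset.sum_sub_distrib]
  congr 1
  · simp only [Pi.add_apply]
    ring
  · apply Finset.sum_congr rfl
    intro i _
    simp only [Pi.add_apply]
    ring

theorem QO_nondeg (h2 : (2 : F) ≠ 0) (m : ℕ) :
    (QuadraticMap.polarBilin (QO m F)).Nondegenerate := by
  classical
  have hleft : ∀ u : Unit ⊕ (Fin m ⊕ Fin m) → F,
      (∀ v, QuadraticMap.polar (⇑(QO m F)) u v = 0) → u = 0 := by
    intro u hu
    funext j
    rcases j with ⟨⟩ | i | i
    · have h := hu (Pi.single (Sum.inl ()) 1)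
      rw [polar_odd, Finset.sum_eq_zero] at h
      · simp only [Pi.single_eq_same, mul_one, add_zero] at h
        rcases mul_eq_zero.1 h with h | h
        · exact absurd h h2
        · exact h
      · intro j _
        simp
    · have h := hu (Pi.single (Sum.inr (Sum.inr i)) 1)
      rw [polar_odd, Finset.sum_eq_single i] at h
      · simpa using h
      · intro j _ hji
        simp [Pi.single_apply, hji]
      · intro h'; exact absurd (Finset.mem_univ _) h'
    · have h := hu (Pi.single (Sum.inr (Sum.inl i)) 1)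
      rw [polar_odd, Finset.sum_eq_single i] at h
      · simpa using h
      · intro j _ hji
        simp [Pi.single_apply, hji]
      · intro h'; exact absurd (Finset.mem_univ _) h'
  constructor
  · intro u hu
    exact hleft u hu
  · intro v hv
    apply hleft v
    intro u
    rw [QuadraticMap.polar_comm]
    exact hv u

end Cfsg.Agent.Lib.Helper5.QuadOdd
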