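import Mathlib

set_option autoImplicit false

/-!
Partition combinatorics for the statements on unipotent elements of orthogonal groups.
-/

namespace Cfsg.Agent.Lib.Helper5.UniO

/-- the condition appearing in the three statements -/
def SubOK (m : ℕ) (μ : Multiset ℕ) : Prop :=
  ∃ ν : Multiset ℕ, ν ≤ μ ∧ ν.sum = m ∧ ∀ e : ℕ, Even e → Even (ν.count e)

/-- a sub-multiset of `a ::ₘ s` -/
theorem le_cons_split (ν s : Multiset ℕ) (a : ℕ) (h : ν ≤ a ::ₘ s) :
    ∃ ε : ℕ, ε ≤ 1 ∧ ∃ ν₁ : Multiset ℕ, ν₁ ≤ s ∧ ν = Multiset.replicate ε a + ν₁ := by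
  by_cases ha : a ∈ ν
  · refine ⟨1, le_rfl, ν.erase a, Multiset.erase_le_iff_le_cons.2 h, ?_⟩
    rw [Multiset.replicate_one, Multiset.singleton_add, Multiset.cons_erase ha]
  · refine ⟨0, Nat.zero_le _, ν, (Multiset.le_cons_of_notMem ha).1 h, ?_⟩
    rw [Multiset.replicate_zero, zero_add]

theorem sum_even_of_all_even (s : Multiset ℕ) (h : ∀ a ∈ s, Even a) : Even s.sum := by
  induction s using Multiset.induction_on with
  | empty => simp
  | cons a s ih =>
    rw [Multiset.sum_cons]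
    exact (h a (Multiset.mem_cons_self a s)).add
      (ih fun b hb => h b (Multiset.mem_cons_of_mem hb))

/-- all-even partitions reduce to partitions with an odd part (replace `(e,e)` by `(e+1,e-1)`) -/
theorem subOK_of_odd_case (p m n : ℕ) (hp : Odd p) (hm : Even m) (hn : 0 < n)
    (H : ∀ μ : Multiset ℕ, (∀ e ∈ μ, 0 < e ∧ e ≤ p) → (∀ e : ℕ, Even e → Even (μ.count e)) →
      μ.sum = n → (∃ a ∈ μ, Odd a) → SubOK m μ)
    (μ : Multiset ℕ) (h1 : ∀ e ∈ μ, 0 < e ∧ e ≤ p) (h2 : ∀ e : ℕ, Even e → Even (μ.count e))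
    (h3 : μ.sum = n) : SubOK m μ := by
  by_cases hodd : ∃ a ∈ μ, Odd a
  · exact H μ h1 h2 h3 hodd
  · have hall : ∀ a ∈ μ, Even a := by
      intro a ha
      by_contra hne
      exact hodd ⟨a, ha, Nat.not_even_iff_odd.1 hne⟩
    have hne : μ ≠ 0 := by
      rintro rfl
      rw [Multiset.sum_zero] at h3
      omega
    obtain ⟨e, he⟩ := Multiset.exists_mem_of_ne_zero hne
    have hee : Even e := hall e he
    have he1 := h1 e he
    have hcnt : 2 ≤ μ.count e := by
      have h4 := h2 e hee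
      have h5 : 0 < μ.count e := Multiset.count_pos.2 he
      obtain ⟨r, hr⟩ := h4
      omega
    -- `μ = e ::ₘ e ::ₘ μ''`
    set μ'' := (μ.erase e).erase e with hμ''
    have hmem2 : e ∈ μ.erase e := by
      rw [← Multiset.count_pos, Multiset.count_erase_self]
      omega
    have hμ : μ = e ::ₘ e ::ₘ μ'' := by
      rw [hμ'', Multiset.cons_erase hmem2, Multiset.cons_erase he]
    have hle'' : μ'' ≤ μ := by
      rw [hμ'']
      exact (Multiset.erase_le _ _).trans (Multiset.erase_le _ _)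
    have hall'' : ∀ a ∈ μ'', Even a := fun a ha => hall a (Multiset.mem_of_le hle'' ha)
    have he2 : 2 ≤ e := by
      obtain ⟨r, hr⟩ := hee
      omega
    have hep : e + 1 ≤ p := by
      obtain ⟨r, hr⟩ := hee
      obtain ⟨t, ht⟩ := hp
      omega
    have ho1 : Odd (e + 1) := hee.add_one
    have ho2 : Odd (e - 1) := by
      obtain ⟨r, hr⟩ := hee
      exact ⟨r - 1, by omega⟩
    set μ' := (e + 1) ::ₘ (e - 1) ::ₘ μ'' with hμ'
    have hv1 : ∀ f ∈ μ', 0 < f ∧ f ≤ p := by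
      intro f hf
      rw [hμ', Multiset.mem_cons, Multiset.mem_cons] at hf
      rcases hf with rfl | rfl | hf
      · omega
      · omega
      · exact h1 f (Multiset.mem_of_le hle'' hf)
    have hcount'' : ∀ f : ℕ, Even f → Even (μ''.count f) := by
      intro f hf
      have h6 := h2 f hf
      rw [hμ, Multiset.count_cons, Multiset.count_cons] at h6
      by_cases hfe : f = e
      · rw [if_pos hfe] at h6
        rw [Nat.even_iff] at h6 ⊢
        omega
      · rw [if_neg hfe] at h6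
        simpa using h6
    have hv2 : ∀ f : ℕ, Even f → Even (μ'.count f) := by
      intro f hf
      rw [hμ', Multiset.count_cons_of_ne, Multiset.count_cons_of_ne]
      · exact hcount'' f hf
      · rintro rfl
        exact (Nat.not_even_iff_odd.2 ho2) hf
      · rintro rfl
        exact (Nat.not_even_iff_odd.2 ho1) hf
    have hv3 : μ'.sum = n := by
      rw [← h3, hμ, hμ', Multiset.sum_cons, Multiset.sum_cons, Multiset.sum_cons,
        Multiset.sum_cons]
      omega
    obtain ⟨ν', hν'le, hν'sum, hν'ev⟩ := H μ' hv1 hv2 hv3 ⟨e + 1, Multiset.mem_cons_self _ _, ho1⟩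
    obtain ⟨ε₁, hε₁, ν₁, hν₁, rfl⟩ := le_cons_split ν' _ _ hν'le
    obtain ⟨ε₂, hε₂, ν₀, hν₀, rfl⟩ := le_cons_split ν₁ _ _ hν₁
    have hν₀ev : ∀ a ∈ ν₀, Even a := fun a ha => hall'' a (Multiset.mem_of_le hν₀ ha)
    have hsum0 := sum_even_of_all_even ν₀ hν₀ev
    rw [Multiset.sum_add, Multiset.sum_add, Multiset.sum_replicate, Multiset.sum_replicate,
      smul_eq_mul, smul_eq_mul] at hν'sum
    have hεeq : ε₁ = ε₂ := by
      obtain ⟨r, hr⟩ := hsum0
      obtain ⟨t, ht⟩ := hm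
      obtain ⟨a, ha⟩ := ho1
      obtain ⟨b, hb⟩ := ho2
      interval_cases ε₁ <;> interval_cases ε₂ <;> omega
    have hcount0 : ∀ f : ℕ, Even f → Even (ν₀.count f) := by
      intro f hf
      have h7 := hν'ev f hf
      rw [Multiset.count_add, Multiset.count_add, Multiset.count_replicate,
        Multiset.count_replicate, if_neg, if_neg, zero_add, zero_add] at h7
      · exact h7
      · rintro rfl
        exact (Nat.not_even_iff_odd.2 ho2) hf
      · rintro rfl
        exact (Nat.not_even_iff_odd.2 ho1) hf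
    subst hεeq
    interval_cases ε₁
    · refine ⟨ν₀, hν₀.trans hle'', ?_, hcount0⟩
      simpa using hν'sum
    · refine ⟨e ::ₘ e ::ₘ ν₀, ?_, ?_, ?_⟩
      · rw [hμ]
        exact Multiset.cons_le_cons _ (Multiset.cons_le_cons _ hν₀)
      · rw [Multiset.sum_cons, Multiset.sum_cons]
        omega
      · intro f hf
        have h8 := hcount0 f hf
        rw [Multiset.count_cons, Multiset.count_cons]
        by_cases hfe : f = e
        · rw [if_pos hfe, Nat.even_iff] at *
          omega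
        · rw [if_neg hfe]
          simpa using h8

/-- sub-multisets of `a ::ₘ b ::ₘ (2^n)` with `a, b` odd -/
theorem le_two_split (ν : Multiset ℕ) (a b n : ℕ) (ha : a ≠ 2) (hb : b ≠ 2)
    (h : ν ≤ a ::ₘ b ::ₘ Multiset.replicate n 2) (hev : ∀ e : ℕ, Even e → Even (ν.count e)) :
    ∃ ε₁ ε₂ t : ℕ, ε₁ ≤ 1 ∧ ε₂ ≤ 1 ∧ Even t ∧ ν.sum = ε₁ * a + ε₂ * b + 2 * t ∧
      ν.card = ε₁ + ε₂ + t := by
  obtain ⟨ε₁, hε₁, ν₁, hν₁, rfl⟩ := le_cons_split ν _ _ h
  obtain ⟨ε₂, hε₂, ν₀, hν₀, rfl⟩ := le_cons_split ν₁ _ _ hν₁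
  obtain ⟨t, -, rfl⟩ := Multiset.le_replicate_iff.1 hν₀
  refine ⟨ε₁, ε₂, t, hε₁, hε₂, ?_, ?_, ?_⟩
  · have := hev 2 even_two
    rw [Multiset.count_add, Multiset.count_add, Multiset.count_replicate,
      Multiset.count_replicate, Multiset.count_replicate_self, if_neg ha, if_neg hb, zero_add,
      zero_add] at this
    exact this
  · rw [Multiset.sum_add, Multiset.sum_add, Multiset.sum_replicate, Multiset.sum_replicate,
      Multiset.sum_replicate, smul_eq_mul, smul_eq_mul, smul_eq_mul]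
    ring
  · rw [Multiset.card_add, Multiset.card_add, Multiset.card_replicate, Multiset.card_replicate,
      Multiset.card_replicate]
    ring

theorem le_one_two_split (ν : Multiset ℕ) (a n : ℕ) (ha : a ≠ 2)
    (h : ν ≤ a ::ₘ Multiset.replicate n 2) (hev : ∀ e : ℕ, Even e → Even (ν.count e)) :
    ∃ ε₁ t : ℕ, ε₁ ≤ 1 ∧ Even t ∧ ν.sum = ε₁ * a + 2 * t := by
  obtain ⟨ε₁, hε₁, ν₀, hν₀, rfl⟩ := le_cons_split ν _ _ h
  obtain ⟨t, -, rfl⟩ := Multiset.le_replicate_iff.1 hν₀
  refine ⟨ε₁, t, hε₁, ?_, ?_⟩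
  · have := hev 2 even_two
    rw [Multiset.count_add, Multiset.count_replicate, Multiset.count_replicate_self, if_neg ha,
      zero_add] at this
    exact this
  · rw [Multiset.sum_add, Multiset.sum_replicate, Multiset.sum_replicate, smul_eq_mul, smul_eq_mul]
    ring

theorem count_cons_replicate_two (a n e : ℕ) (he : Even e) (ha : Odd a) (hn : Even n) :
    Even ((a ::ₘ Multiset.replicate n 2).count e) := by
  rw [Multiset.count_cons_of_ne, Multiset.count_replicate]
  · split_ifs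
    · exact hn
    · exact Even.zero
  · rintro rfl
    exact (Nat.not_even_iff_odd.2 ha) he

/-- `n = 2d+1`: the partitions `(2^d,1)` / `(3,2^(d-1))` force `4 ∣ m` -/
theorem four_dvd_of_subOK_odd (p d m : ℕ) (hp : 3 ≤ p) (hm : Even m)
    (H : ∀ μ : Multiset ℕ, (∀ e ∈ μ, 0 < e ∧ e ≤ p) → (∀ e : ℕ, Even e → Even (μ.count e)) →
      μ.sum = 2 * d + 1 → SubOK m μ) : m % 4 = 0 := by
  rcases Nat.even_or_odd d with hd | hd
  · obtain ⟨ν, hle, hsum, hev⟩ := H (1 ::ₘ Multiset.replicate d 2) (by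
      intro e he
      rw [Multiset.mem_cons] at he
      rcases he with rfl | he
      · omega
      · rw [Multiset.eq_of_mem_replicate he]
        omega) (fun e he => count_cons_replicate_two 1 d e he odd_one hd) (by
      rw [Multiset.sum_cons, Multiset.sum_replicate, smul_eq_mul]
      ring)
    obtain ⟨ε₁, t, hε₁, ht, hs⟩ := le_one_two_split ν 1 d (by omega) hle hev
    obtain ⟨r, hr⟩ := ht
    obtain ⟨s, hs'⟩ := hm
    interval_cases ε₁ <;> omega
  · obtain ⟨ν, hle, hsum, hev⟩ := H (3 ::ₘ Multiset.replicate (d - 1) 2) (by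
      intro e he
      rw [Multiset.mem_cons] at he
      rcases he with rfl | he
      · omega
      · rw [Multiset.eq_of_mem_replicate he]
        omega) (fun e he => count_cons_replicate_two 3 (d - 1) e he (by decide) (by
        obtain ⟨r, hr⟩ := hd
        exact ⟨r, by omega⟩)) (by
      rw [Multiset.sum_cons, Multiset.sum_replicate, smul_eq_mul]
      obtain ⟨r, hr⟩ := hd
      omega)
    obtain ⟨ε₁, t, hε₁, ht, hs⟩ := le_one_two_split ν 3 (d - 1) (by omega) hle hev
    obtain ⟨r, hr⟩ := ht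
    obtain ⟨s, hs'⟩ := hm
    interval_cases ε₁ <;> omega

/-- `n = 2d`, `d` even: the partition `(3,2^(d-2),1)` forces `4 ∣ m` -/
theorem four_dvd_of_subOK_even (d m : ℕ) (hm : Even m)
    (H : SubOK m (3 ::ₘ 1 ::ₘ Multiset.replicate (d - 2) 2)) : m % 4 = 0 := by
  obtain ⟨ν, hle, hsum, hev⟩ := H
  obtain ⟨ε₁, ε₂, t, h1, h2, ht, hs, -⟩ := le_two_split ν 3 1 (d - 2) (by omega) (by omega) hle hev
  obtain ⟨r, hr⟩ := ht
  obtain ⟨s, hs'⟩ := hm
  interval_cases ε₁ <;> interval_cases ε₂ <;> omega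

/-- `n = 2d`, `d` odd, `ν ≤ (2^(d-1),1,1)`, `4 ∣ m`: then `ν = (2^(m/2))` -/
theorem card_of_le_two_one (d m : ℕ) (ν : Multiset ℕ)
    (hν : ν ≤ 1 ::ₘ 1 ::ₘ Multiset.replicate (d - 1) 2) (hs : ν.sum = m) (hm : m % 4 = 0)
    (hev : ∀ e : ℕ, Even e → Even (ν.count e)) : 2 * ν.card = m := by
  obtain ⟨ε₁, ε₂, t, h1, h2, ht, hsum, hcard⟩ :=
    le_two_split ν 1 1 (d - 1) (by omega) (by omega) hν hev
  obtain ⟨r, hr⟩ := ht
  interval_cases ε₁ <;> interval_cases ε₂ <;> omega

end Cfsg.Agent.Lib.Helper5.UniO
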