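import Mathlib
import Cfsg.Prelude.Def_Classical
import Cfsg.Agent.Lib.Helper5.UniO4
import Cfsg.Agent.Lib.Helper5.UniO5
import Cfsg.Agent.Lib.Helper1.UniO_ISO
import Cfsg.Agent.Lib.Helper1.UniO_HYP
import Cfsg.Agent.Lib.Helper1.DiagForm2
import Cfsg.Agent.Lib.Helper2.QuadStd

set_option autoImplicit false

/-!
Existence of unipotent isometries with a prescribed Jordan type (even blocks in pairs) in the
isometry group of any nondegenerate diagonalisable form that admits one (finite field, odd
characteristic).
-/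

open Module Cfsg.Agent.Lib.Helper1.DiagForm

namespace Cfsg.Agent.Lib.Helper5.UniO

universe u

section real
variable {F : Type u} [Field F]

/-- `μ` is the Jordan type of a unipotent isometry of some nondegenerate quadratic space -/
def Realizable (F : Type u) [Field F] (μ : Multiset ℕ) : Prop :=
  ∃ (V : Type u) (_ : AddCommGroup V) (_ : Module F V) (_ : FiniteDimensional F V)
    (Q : QuadraticForm F V) (x : V ≃ₗ[F] V),
    finrank F V = μ.sum ∧ (QuadraticMap.polarBilin Q).Nondegenerate ∧ (∀ v, Q (x v) = Q v) ∧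
      HasJT (x.toLinearMap - 1 : Module.End F V) μ

theorem realizable_zero : Realizable F 0 := by
  refine ⟨PUnit.{u + 1}, inferInstance, inferInstance, inferInstance, 0,
    LinearEquiv.refl F PUnit.{u + 1}, ?_, ?_,
    fun _ => rfl, hasJT_of_subsingleton _⟩
  · rw [Multiset.sum_zero]
    exact Module.finrank_zero_of_subsingleton
  · constructor
    · intro x _
      exact Subsingleton.elim _ _
    · intro x _
      exact Subsingleton.elim _ _

theorem realizable_single (h2 : (2 : F) ≠ 0) (e : ℕ) (he : Odd e) : Realizable F {e} := by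
  obtain ⟨Q, x, hnd, hiso, hjt⟩ := exists_single h2 e he
  refine ⟨Fin e → F, inferInstance, inferInstance, inferInstance, Q, x, ?_, hnd, hiso, hjt⟩
  rw [Multiset.sum_singleton, Module.finrank_fintype_fun_eq_card, Fintype.card_fin]

/-- the linear equivalence of an invertible matrix -/
def glEquiv {ι : Type} [Fintype ι] [DecidableEq ι] (x : GL ι F) : (ι → F) ≃ₗ[F] (ι → F) :=
  LinearEquiv.ofLinear (Matrix.toLin' (x : Matrix ι ι F))
    (Matrix.toLin' ((x⁻¹ : GL ι F) : Matrix ι ι F))
    (by rw [← Matrix.toLin'_mul, ← Units.val_mul, mul_inv_cancel, Units.val_one, Matrix.toLin'_one])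
    (by rw [← Matrix.toLin'_mul, ← Units.val_mul, inv_mul_cancel, Units.val_one, Matrix.toLin'_one])

theorem glEquiv_toLinearMap {ι : Type} [Fintype ι] [DecidableEq ι] (x : GL ι F) :
    (glEquiv x).toLinearMap = Matrix.toLin' (x : Matrix ι ι F) := rfl

theorem realizable_pair (e : ℕ) (he : 0 < e) : Realizable F ({e} + {e}) := by
  obtain ⟨x, hx, hjt⟩ := exists_hyp (F := F) {e} (by
    intro a ha
    rw [Multiset.mem_singleton.1 ha]
    exact he) e (Multiset.sum_singleton e)
  refine ⟨Fin e ⊕ Fin e → F, inferInstance, inferInstance, inferInstance,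
    Cfsg.Agent.Lib.Helper5.QuadGlue.QP e F, glEquiv x, ?_,
    Cfsg.Agent.Lib.Helper2.QuadStd.QP_nondeg e, ?_, ?_⟩
  · rw [Multiset.sum_add, Multiset.sum_singleton, Module.finrank_fintype_fun_eq_card,
      Fintype.card_sum, Fintype.card_fin]
  · intro v
    rw [Cfsg.Agent.Lib.Helper5.QuadGlue.QP_apply, Cfsg.Agent.Lib.Helper5.QuadGlue.QP_apply]
    exact hx v v
  · rw [glEquiv_toLinearMap]
    exact hjt

theorem realizable_add {μ₁ μ₂ : Multiset ℕ} (h₁ : Realizable F μ₁) (h₂ : Realizable F μ₂) :
    Realizable F (μ₁ + μ₂) := by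
  obtain ⟨V₁, _, _, _, Q₁, x₁, hd₁, hn₁, hi₁, hj₁⟩ := h₁
  obtain ⟨V₂, _, _, _, Q₂, x₂, hd₂, hn₂, hi₂, hj₂⟩ := h₂
  refine ⟨V₁ × V₂, inferInstance, inferInstance, inferInstance, Q₁.prod Q₂, x₁.prodCongr x₂, ?_,
    ?_, ?_, ?_⟩
  · rw [Module.finrank_prod, hd₁, hd₂, Multiset.sum_add]
  · have hpol : ∀ a b : V₁ × V₂, QuadraticMap.polarBilin (Q₁.prod Q₂) a b
        = QuadraticMap.polarBilin Q₁ a.1 b.1 + QuadraticMap.polarBilin Q₂ a.2 b.2 := by
      intro a b
      simp only [QuadraticMap.polarBilin_apply_apply, QuadraticMap.polar, QuadraticMap.prod_apply,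
        Prod.fst_add, Prod.snd_add]
      ring
    constructor
    · rintro ⟨a, b⟩ h
      have ha : a = 0 := by
        apply hn₁.1
        intro c
        have := h (c, 0)
        rw [hpol] at this
        simpa using this
      have hb : b = 0 := by
        apply hn₂.1
        intro c
        have := h (0, c)
        rw [hpol] at this
        simpa using this
      rw [ha, hb]
      rfl
    · rintro ⟨a, b⟩ h
      have ha : a = 0 := by
        apply hn₁.2
        intro c
        have := h (c, 0)
        rw [hpol] at this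
        simpa using this
      have hb : b = 0 := by
        apply hn₂.2
        intro c
        have := h (0, c)
        rw [hpol] at this
        simpa using this
      rw [ha, hb]
      rfl
  · rintro ⟨a, b⟩
    simp only [QuadraticMap.prod_apply, LinearEquiv.prodCongr_apply, hi₁, hi₂]
  · have : ((x₁.prodCongr x₂).toLinearMap - 1 : Module.End F (V₁ × V₂))
        = (x₁.toLinearMap - 1 : Module.End F V₁).prodMap (x₂.toLinearMap - 1 : Module.End F V₂) := by
      apply LinearMap.ext
      rintro ⟨a, b⟩
      simp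
    rw [this]
    exact hj₁.prodMap hj₂

/-- removing two copies of a member whose count is even keeps the counts even -/
theorem count_erase_erase_even (μ : Multiset ℕ) (e : ℕ)
    (hev : ∀ f : ℕ, Even f → Even (μ.count f)) (hcnt : 2 ≤ μ.count e) :
    ∀ f : ℕ, Even f → Even (((μ.erase e).erase e).count f) := by
  intro f hf
  have := hev f hf
  by_cases hfe : f = e
  · subst hfe
    rw [Multiset.count_erase_self, Multiset.count_erase_self]
    rw [Nat.even_iff] at this ⊢
    omega
  · rw [Multiset.count_erase_of_ne hfe, Multiset.count_erase_of_ne hfe]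
    exact this

theorem realizable_of (h2 : (2 : F) ≠ 0) (μ : Multiset ℕ) (hpos : ∀ a ∈ μ, 0 < a)
    (hev : ∀ e : ℕ, Even e → Even (μ.count e)) : Realizable F μ := by
  induction hn : Multiset.card μ using Nat.strong_induction_on generalizing μ with
  | _ n ih =>
    by_cases h0 : μ = 0
    · rw [h0]
      exact realizable_zero
    by_cases hodd : ∃ a ∈ μ, Odd a
    · obtain ⟨a, ha, hao⟩ := hodd
      have hμ : μ = {a} + μ.erase a := by
        rw [Multiset.singleton_add, Multiset.cons_erase ha]
      rw [hμ]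
      apply realizable_add (realizable_single h2 a hao)
      apply ih (Multiset.card (μ.erase a)) _ (μ.erase a) _ _ rfl
      · have := Multiset.card_erase_add_one ha
        omega
      · intro b hb
        exact hpos b (Multiset.mem_of_mem_erase hb)
      · intro f hf
        rw [Multiset.count_erase_of_ne]
        · exact hev f hf
        · rintro rfl
          exact (Nat.not_even_iff_odd.2 hao) hf
    · obtain ⟨e, he⟩ := Multiset.exists_mem_of_ne_zero h0
      have hee : Even e := by
        by_contra hne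
        exact hodd ⟨e, he, Nat.not_even_iff_odd.1 hne⟩
      have hcnt : 2 ≤ μ.count e := by
        have h4 := hev e hee
        have h5 : 0 < μ.count e := Multiset.count_pos.2 he
        obtain ⟨r, hr⟩ := h4
        omega
      have hmem2 : e ∈ μ.erase e := by
        rw [← Multiset.count_pos, Multiset.count_erase_self]
        omega
      have hμ : μ = ({e} + {e}) + (μ.erase e).erase e := by
        rw [Multiset.singleton_add, Multiset.cons_add, Multiset.singleton_add,
          Multiset.cons_erase hmem2, Multiset.cons_erase he]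
      rw [hμ]
      apply realizable_add (realizable_pair e (hpos e he))
      apply ih (Multiset.card ((μ.erase e).erase e)) _ _ _ _ rfl
      · have h6 := Multiset.card_erase_add_one he
        have h7 := Multiset.card_erase_add_one hmem2
        omega
      · intro b hb
        exact hpos b (Multiset.mem_of_mem_erase (Multiset.mem_of_mem_erase hb))
      · exact count_erase_erase_even μ e hev hcnt

end real

section exist
variable {F : Type u} [Field F] [Fintype F]

/-- the matrix of a linear equivalence, as an invertible matrix -/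
noncomputable def glOfEquiv {ι : Type} [Fintype ι] [DecidableEq ι] (z : (ι → F) ≃ₗ[F] (ι → F)) :
    GL ι F :=
  ⟨LinearMap.toMatrix' z.toLinearMap, LinearMap.toMatrix' z.symm.toLinearMap,
    by rw [← LinearMap.toMatrix'_comp, LinearEquiv.comp_coe, LinearEquiv.symm_trans_self,
      LinearEquiv.refl_toLinearMap, LinearMap.toMatrix'_id],
    by rw [← LinearMap.toMatrix'_comp, LinearEquiv.comp_coe, LinearEquiv.self_trans_symm,
      LinearEquiv.refl_toLinearMap, LinearMap.toMatrix'_id]⟩

theorem toLin'_glOfEquiv {ι : Type} [Fintype ι] [DecidableEq ι] (z : (ι → F) ≃ₗ[F] (ι → F)) :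
    Matrix.toLin' ((glOfEquiv z : GL ι F) : Matrix ι ι F) = z.toLinearMap :=
  Matrix.toLin'_toMatrix' _

theorem exists_unip_of_wss (h2 : (2 : F) ≠ 0) {ι : Type} [Fintype ι] [DecidableEq ι]
    (T : (ι → F) → F) (w : ι → F) (hw : ∀ i, w i ≠ 0) (eT : (ι → F) ≃ₗ[F] (ι → F))
    (hT : ∀ v, T (eT v) = wss w v) (μ : Multiset ℕ) (hpos : ∀ a ∈ μ, 0 < a)
    (hev : ∀ e, Even e → Even (μ.count e)) (hsum : μ.sum = Fintype.card ι)
    (hodd : ∃ a ∈ μ, Odd a) :
    ∃ x : GL ι F, x ∈ Cfsg.isometryGroup F T ∧
      HasJT (Matrix.toLin' (x : Matrix ι ι F) - 1 : Module.End F (ι → F)) μ := by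
  obtain ⟨a, ha, hao⟩ := hodd
  have hμ : μ = {a} + μ.erase a := by
    rw [Multiset.singleton_add, Multiset.cons_erase ha]
  obtain ⟨V₁, _, _, _, Q₁, x₁, hd₁, hn₁, hi₁, hj₁⟩ := realizable_single (F := F) h2 a hao
  obtain ⟨V₂, _, _, _, Q₂, x₂, hd₂, hn₂, hi₂, hj₂⟩ := realizable_of (F := F) h2 (μ.erase a)
    (fun b hb => hpos b (Multiset.mem_of_mem_erase hb)) (by
      intro f hf
      rw [Multiset.count_erase_of_ne]
      · exact hev f hf
      · rintro rfl
        exact (Nat.not_even_iff_odd.2 hao) hf)
  have hodd₁ : Odd (finrank F V₁) := by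
    rw [hd₁, Multiset.sum_singleton]
    exact hao
  have hcard : Fintype.card ι = finrank F V₁ + finrank F V₂ := by
    rw [hd₁, hd₂, ← hsum, Multiset.sum_singleton]
    conv_lhs => rw [hμ, Multiset.sum_add, Multiset.sum_singleton]
  obtain ⟨c, hc, e, he⟩ := exists_scale_equiv h2 Q₁ Q₂ hn₁ hn₂ hodd₁ w hw hcard
  let E : (V₁ × V₂) ≃ₗ[F] (ι → F) := e.trans eT
  let x₀ : (V₁ × V₂) ≃ₗ[F] (V₁ × V₂) := x₁.prodCongr x₂
  let z : (ι → F) ≃ₗ[F] (ι → F) := E.symm.trans (x₀.trans E)
  have hTE : ∀ v, T (E v) = c * Q₁ v.1 + Q₂ v.2 := by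
    intro v
    show T (eT (e v)) = _
    rw [hT, he]
  have hz : ∀ u, T (z u) = T u := by
    intro u
    show T (E (x₀ (E.symm u))) = T u
    rw [hTE]
    show c * Q₁ (x₁ (E.symm u).1) + Q₂ (x₂ (E.symm u).2) = T u
    rw [hi₁, hi₂, ← hTE, LinearEquiv.apply_symm_apply]
  refine ⟨glOfEquiv z, ?_, ?_⟩
  · intro u v
    show T (((glOfEquiv z : GL ι F) : Matrix ι ι F).mulVec u) = T u
    rw [← Matrix.toLin'_apply, toLin'_glOfEquiv]
    exact hz u
  · rw [toLin'_glOfEquiv]
    have h0 : HasJT (x₀.toLinearMap - 1 : Module.End F (V₁ × V₂)) ({a} + μ.erase a) := by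
      have : (x₀.toLinearMap - 1 : Module.End F (V₁ × V₂))
          = (x₁.toLinearMap - 1 : Module.End F V₁).prodMap
            (x₂.toLinearMap - 1 : Module.End F V₂) := by
        apply LinearMap.ext
        rintro ⟨p, q⟩
        simp [x₀]
      rw [this]
      exact hj₁.prodMap hj₂
    rw [hμ]
    apply h0.of_intertwine E
    intro u
    show E ((x₀.toLinearMap - 1 : Module.End F (V₁ × V₂)) u)
      = (z.toLinearMap - 1 : Module.End F (ι → F)) (E u)
    rw [LinearMap.sub_apply, LinearMap.sub_apply, Module.End.one_apply, Module.End.one_apply,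
      map_sub]
    show E (x₀ u) - E u = E (x₀ (E.symm (E u))) - E u
    rw [LinearEquiv.symm_apply_apply]

/-- a multiset all of whose counts are even is a double -/
theorem exists_double (μ : Multiset ℕ) (hev : ∀ e : ℕ, Even (μ.count e)) :
    ∃ ν : Multiset ℕ, μ = ν + ν := by
  induction hn : Multiset.card μ using Nat.strong_induction_on generalizing μ with
  | _ n ih =>
    by_cases h0 : μ = 0
    · exact ⟨0, by rw [h0, add_zero]⟩
    · obtain ⟨e, he⟩ := Multiset.exists_mem_of_ne_zero h0
      have hcnt : 2 ≤ μ.count e := by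
        have h4 := hev e
        have h5 : 0 < μ.count e := Multiset.count_pos.2 he
        obtain ⟨r, hr⟩ := h4
        omega
      have hmem2 : e ∈ μ.erase e := by
        rw [← Multiset.count_pos, Multiset.count_erase_self]
        omega
      obtain ⟨ν, hν⟩ := ih (Multiset.card ((μ.erase e).erase e)) (by
        have h6 := Multiset.card_erase_add_one he
        have h7 := Multiset.card_erase_add_one hmem2
        omega) ((μ.erase e).erase e) (by
          intro f
          have := hev f
          by_cases hfe : f = e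
          · subst hfe
            rw [Multiset.count_erase_self, Multiset.count_erase_self]
            rw [Nat.even_iff] at this ⊢
            omega
          · rw [Multiset.count_erase_of_ne hfe, Multiset.count_erase_of_ne hfe]
            exact this) rfl
      refine ⟨e ::ₘ ν, ?_⟩
      rw [Multiset.cons_add, Multiset.add_cons, ← hν, Multiset.cons_erase hmem2,
        Multiset.cons_erase he]

theorem exists_unip_plus (h2 : (2 : F) ≠ 0) (d : ℕ) (μ : Multiset ℕ) (hpos : ∀ a ∈ μ, 0 < a)
    (hev : ∀ e, Even e → Even (μ.count e)) (hsum : μ.sum = 2 * d) :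
    ∃ x : GL (Fin d ⊕ Fin d) F, x ∈ Cfsg.isometryGroup F (Cfsg.quadFormPlus d F) ∧
      HasJT (Matrix.toLin' (x : Matrix (Fin d ⊕ Fin d) (Fin d ⊕ Fin d) F) - 1 :
        Module.End F (Fin d ⊕ Fin d → F)) μ := by
  by_cases hodd : ∃ a ∈ μ, Odd a
  · obtain ⟨a, ha, hao⟩ := hodd
    have hd : 0 < d := by
      have h1 := Multiset.le_sum_of_mem ha
      have h2' := hpos a ha
      omega
    let j₀ : Fin d ⊕ Fin d := Sum.inl ⟨0, hd⟩
    obtain ⟨eT, hT⟩ := plus_diag (F := F) h2 d j₀
    refine exists_unip_of_wss h2 (Cfsg.quadFormPlus d F) _ ?_ eT hT μ hpos hev ?_ ⟨a, ha, hao⟩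
    · intro i
      by_cases hi : i = j₀
      · rw [hi, Function.update_self]
        exact pow_ne_zero _ (neg_ne_zero.2 one_ne_zero)
      · rw [Function.update_of_ne hi]
        exact one_ne_zero
    · rw [hsum, Fintype.card_sum, Fintype.card_fin, two_mul]
  · have hall : ∀ e : ℕ, Even (μ.count e) := by
      intro e
      by_cases he : e ∈ μ
      · apply hev
        by_contra hne
        exact hodd ⟨e, he, Nat.not_even_iff_odd.1 hne⟩
      · rw [Multiset.count_eq_zero_of_notMem he]
        exact Even.zero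
    obtain ⟨ν, hν⟩ := exists_double μ hall
    have hνsum : ν.sum = d := by
      rw [hν, Multiset.sum_add] at hsum
      omega
    obtain ⟨x, hx, hjt⟩ := exists_hyp (F := F) ν (fun a ha => hpos a (by
      rw [hν]
      exact Multiset.mem_add.2 (Or.inl ha))) d hνsum
    exact ⟨x, hx, by rw [hν]; exact hjt⟩

end exist

end Cfsg.Agent.Lib.Helper5.UniO
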