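import Mathlib
import Cfsg.Prelude.Def_Classical
import Cfsg.Prelude.Def_GeometricClasses
import Cfsg.Agent.Lib.Helper5.UniO3
import Cfsg.Agent.Lib.Helper5.UniO6
import Cfsg.Agent.Lib.Helper5.UniO7

set_option autoImplicit false

/-!
Common part of the three statements on elements of order `p` of orthogonal groups fixing
nondegenerate subspaces.
-/

open Module Cfsg.Agent.Lib.Helper1.DiagForm

namespace Cfsg.Agent.Lib.Helper5.UniO

universe u

section asm
variable {F : Type u} [Field F] [Fintype F] {ι : Type} [Fintype ι] [DecidableEq ι]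

theorem two_ne_zero_of_odd_card (hq : Odd (Fintype.card F)) : (2 : F) ≠ 0 := by
  intro h
  have h2 : ringChar F = 2 := by
    have : ringChar F ∣ 2 := by
      apply ringChar.dvd
      exact_mod_cast h
    rcases (Nat.dvd_prime Nat.prime_two).1 this with h3 | h3
    · exact absurd (CharP.ringChar_ne_one (R := F)) (by rw [h3]; simp)
    · exact h3
  have := FiniteField.even_card_of_char_two h2
  obtain ⟨k, hk⟩ := hq
  omega

theorem odd_char_of_odd_card (p : ℕ) [Fact p.Prime] [CharP F p] (hq : Odd (Fintype.card F)) :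
    Odd p := by
  rcases (Fact.out : p.Prime).eq_two_or_odd' with h | h
  · subst h
    exact absurd (CharTwo.two_eq_zero (R := F)) (two_ne_zero_of_odd_card hq)
  · exact h

/-- The facts about a unipotent isometry with Jordan type `μ` (parts at most `p`, some part
at least two) that the statements use. -/
theorem unip_facts (p : ℕ) [Fact p.Prime] [CharP F p] (hq : Odd (Fintype.card F))
    (Q : QuadraticForm F (ι → F)) (hQ : (QuadraticMap.polarBilin Q).Nondegenerate)
    (hn : 2 ≤ Fintype.card ι) (x : GL ι F) (hx : x ∈ Cfsg.isometryGroup F ⇑Q)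
    (μ : Multiset ℕ)
    (hjt : HasJT (Matrix.toLin' (x : Matrix ι ι F) - 1 : Module.End F (ι → F)) μ)
    (hsum : μ.sum = Fintype.card ι) (hp : ∀ a ∈ μ, a ≤ p) (h2' : ∃ a ∈ μ, 2 ≤ a) :
    x ∈ Cfsg.Geo.omegaGL ⇑Q ∧ x ^ p = 1 ∧
      (∀ z : F, (x : Matrix ι ι F) ≠ z • (1 : Matrix ι ι F)) ∧
      IsNilpotent (Matrix.toLin' (x : Matrix ι ι F) - 1 : Module.End F (ι → F)) := by
  have h2 := two_ne_zero_of_odd_card hq
  have hxp := pow_char_eq_one p x hjt hsum hp
  refine ⟨mem_omegaGL_of_pow_eq_one h2 Q hQ hn x hx p (odd_char_of_odd_card p hq) hxp, hxp,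
    not_scalar_of_hasJT x hjt hsum h2', ?_⟩
  exact hjt.isNilpotent (by rw [hsum, Module.finrank_fintype_fun_eq_card])

/-- the trivial partition -/
theorem subOK_of_all_one (m : ℕ) (μ : Multiset ℕ) (h1 : ∀ a ∈ μ, a = 1) (hm : m ≤ μ.sum) :
    SubOK m μ := by
  have hμ : μ = Multiset.replicate (Multiset.card μ) 1 := Multiset.eq_replicate_card.2 h1
  have hs : μ.sum = Multiset.card μ := by
    conv_lhs => rw [hμ]
    rw [Multiset.sum_replicate, smul_eq_mul, mul_one]
  refine ⟨Multiset.replicate m 1, ?_, ?_, ?_⟩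
  · rw [hμ]
    exact Multiset.replicate_le_replicate 1 |>.2 (by omega)
  · rw [Multiset.sum_replicate, smul_eq_mul, mul_one]
  · intro e he
    rw [Multiset.count_replicate, if_neg]
    · exact Even.zero
    · rintro rfl
      exact absurd he (by decide)

theorem exists_two_le_of_not_all_one (μ : Multiset ℕ) (hpos : ∀ a ∈ μ, 0 < a)
    (h : ¬ ∀ a ∈ μ, a = 1) : ∃ a ∈ μ, 2 ≤ a := by
  push_neg at h
  obtain ⟨a, ha, ha1⟩ := h
  exact ⟨a, ha, by have := hpos a ha; omega⟩

end asm

end Cfsg.Agent.Lib.Helper5.UniO
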