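import Mathlib

set_option autoImplicit false

/-!
Rotation orbits on multiplicity tuples indexed by `ZMod r`, `r` prime.
-/

namespace Cfsg.Agent.Lib.Helper5.PGLr

variable (r n : ℕ) [Fact r.Prime]

/-- multiplicity tuples of total `n`, none of them equal to `n` -/
abbrev Tup : Type := {a : ZMod r → ℕ // ∑ j, a j = n ∧ ∀ j, a j < n}

/-- all multiplicity tuples of total `n` -/
abbrev Tup0 : Type := {a : ZMod r → ℕ // ∑ j, a j = n}

theorem sum_shift (a : ZMod r → ℕ) (k : ZMod r) : ∑ j, a (j - k) = ∑ j, a j :=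
  Fintype.sum_equiv (Equiv.subRight k) _ _ (fun _ => rfl)

instance : AddAction (ZMod r) (Tup r n) where
  vadd k a := ⟨fun j => a.1 (j - k), by rw [sum_shift]; exact a.2.1, fun j => a.2.2 _⟩
  zero_vadd a := by
    apply Subtype.ext
    funext j
    show a.1 (j - 0) = a.1 j
    rw [sub_zero]
  add_vadd k l a := by
    apply Subtype.ext
    funext j
    show a.1 (j - (k + l)) = a.1 (j - k - l)
    rw [sub_add_eq_sub_sub]

theorem vadd_apply (k : ZMod r) (a : Tup r n) (j : ZMod r) : (k +ᵥ a).1 j = a.1 (j - k) := rfl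

instance : Finite (Tup0 r n) := Finite.of_equiv _ (Sym.equivNatSumOfFintype (ZMod r) n)

instance : Finite (Tup r n) :=
  Finite.of_injective (fun a : Tup r n => (⟨a.1, a.2.1⟩ : Tup0 r n))
    (fun a b h => Subtype.ext (congrArg (fun x : Tup0 r n => x.1) h))

theorem card_Tup0 : Nat.card (Tup0 r n) = (n + r - 1).choose (r - 1) := by
  have hr : 1 ≤ r := (Fact.out : r.Prime).one_le
  rw [← Nat.card_congr (Sym.equivNatSumOfFintype (ZMod r) n), Nat.card_eq_fintype_card,
    Sym.card_sym_eq_choose, ZMod.card]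
  have e : r + n - 1 = n + r - 1 := by omega
  rw [e]
  have h2 : n + r - 1 = n + (r - 1) := by omega
  rw [h2, Nat.choose_symm_add]

theorem eq_single_of_le (a : ZMod r → ℕ) (ha : ∑ j, a j = n) (j : ZMod r) (hj : n ≤ a j) :
    a = Pi.single j n := by
  classical
  have h1 : ∑ i, a i = a j + ∑ i ∈ Finset.univ.erase j, a i :=
    (Finset.add_sum_erase Finset.univ a (Finset.mem_univ j)).symm
  have h2 : ∑ i ∈ Finset.univ.erase j, a i = 0 := by omega
  have h3 : a j = n := by omega
  funext i
  by_cases hi : i = j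
  · subst hi
    rw [Pi.single_eq_same, h3]
  · rw [Pi.single_eq_of_ne hi]
    exact (Finset.sum_eq_zero_iff.1 h2) i (Finset.mem_erase.2 ⟨hi, Finset.mem_univ _⟩)

theorem card_Tup (hn : 1 ≤ n) : Nat.card (Tup r n) + r = (n + r - 1).choose (r - 1) := by
  classical
  rw [← card_Tup0]
  have : Fintype (Tup0 r n) := Fintype.ofFinite _
  have e1 : Tup r n ≃ {a : Tup0 r n // ∀ j, a.1 j < n} :=
    { toFun := fun a => ⟨⟨a.1, a.2.1⟩, a.2.2⟩
      invFun := fun a => ⟨a.1.1, a.1.2, a.2⟩
      left_inv := fun _ => rfl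
      right_inv := fun _ => rfl }
  have e2 : ZMod r ≃ {a : Tup0 r n // ¬ ∀ j, a.1 j < n} := by
    refine Equiv.ofBijective (fun j => ⟨⟨Pi.single j n, ?_⟩, ?_⟩) ⟨?_, ?_⟩
    · rw [Finset.sum_pi_single']
      simp
    · intro h
      have h' : (Pi.single j n : ZMod r → ℕ) j < n := h j
      rw [Pi.single_eq_same] at h'
      exact lt_irrefl _ h'
    · intro j k h
      have h1 : (Pi.single j n : ZMod r → ℕ) = Pi.single k n :=
        congrArg (fun x : {a : Tup0 r n // ¬ ∀ j, a.1 j < n} => x.1.1) h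
      by_contra hjk
      have h2 := congrFun h1 j
      rw [Pi.single_eq_same, Pi.single_eq_of_ne hjk] at h2
      omega
    · rintro ⟨⟨a, ha⟩, h⟩
      push Not at h
      obtain ⟨j, hj⟩ := h
      refine ⟨j, ?_⟩
      apply Subtype.ext
      apply Subtype.ext
      exact (eq_single_of_le r n a ha j hj).symm
  have h3 : Nat.card {a : Tup0 r n // ¬ ∀ j, a.1 j < n} = r := by
    rw [← Nat.card_congr e2, Nat.card_eq_fintype_card, ZMod.card]
  rw [Nat.card_congr e1]
  rw [Nat.card_eq_fintype_card, Fintype.card_subtype_compl] at h3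
  rw [Nat.card_eq_fintype_card, Nat.card_eq_fintype_card]
  have := Fintype.card_subtype_le (fun a : Tup0 r n => ∀ j, a.1 j < n)
  omega

theorem const_of_fixed (k : ZMod r) (hk : k ≠ 0) (a : Tup r n) (h : k +ᵥ a = a) :
    ∀ j, a.1 j = a.1 0 := by
  have h1 : ∀ j, a.1 (j - k) = a.1 j := fun j => congrFun (congrArg Subtype.val h) j
  have h2 : ∀ m : ℕ, a.1 (m • k) = a.1 0 := by
    intro m
    induction m with
    | zero => rw [zero_smul]
    | succ m ih =>
      rw [← ih, ← h1 ((m + 1) • k)]
      congr 1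
      rw [succ_nsmul, add_sub_cancel_right]
  intro j
  have h3 : (j * k⁻¹).val • k = j := by
    rw [nsmul_eq_mul, ZMod.natCast_zmod_val, mul_assoc, inv_mul_cancel₀ hk, mul_one]
  rw [← h3]
  exact h2 _

theorem card_fixedBy (hn : 2 ≤ n) (k : ZMod r) (hk : k ≠ 0) :
    Nat.card (AddAction.fixedBy (Tup r n) k) = if r ∣ n then 1 else 0 := by
  have hr : r.Prime := Fact.out
  by_cases hrn : r ∣ n
  · rw [if_pos hrn]
    obtain ⟨c, hc⟩ := hrn
    have hc0 : 0 < c := by
      rcases Nat.eq_zero_or_pos c with h | h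
      · rw [h, mul_zero] at hc; omega
      · exact h
    have hcn : c < n := by
      rw [hc]
      have := hr.two_le
      nlinarith
    have hsum : ∑ _j : ZMod r, c = n := by
      rw [Finset.sum_const, Finset.card_univ, ZMod.card, smul_eq_mul, hc]
    let a₀ : Tup r n := ⟨fun _ => c, hsum, fun _ => hcn⟩
    have ha₀ : a₀ ∈ AddAction.fixedBy (Tup r n) k := by
      rw [AddAction.mem_fixedBy]
      apply Subtype.ext
      funext j
      rfl
    have huniq : ∀ b : AddAction.fixedBy (Tup r n) k, b = ⟨a₀, ha₀⟩ := by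
      intro b
      apply Subtype.ext
      apply Subtype.ext
      funext j
      have hb := const_of_fixed r n k hk b.1 (AddAction.mem_fixedBy.1 b.2)
      show b.1.1 j = c
      rw [hb j]
      have h1 : ∑ i, b.1.1 i = n := b.1.2.1
      rw [Finset.sum_congr rfl (fun i _ => hb i), Finset.sum_const, Finset.card_univ, ZMod.card,
        smul_eq_mul] at h1
      exact Nat.eq_of_mul_eq_mul_left hr.pos (h1.trans hc)
    have : Unique (AddAction.fixedBy (Tup r n) k) := ⟨⟨⟨a₀, ha₀⟩⟩, huniq⟩
    exact Nat.card_unique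
  · rw [if_neg hrn]
    have : IsEmpty (AddAction.fixedBy (Tup r n) k) := by
      refine ⟨fun b => hrn ?_⟩
      have hb := const_of_fixed r n k hk b.1 (AddAction.mem_fixedBy.1 b.2)
      have h1 : ∑ i, b.1.1 i = n := b.1.2.1
      rw [Finset.sum_congr rfl (fun i _ => hb i), Finset.sum_const, Finset.card_univ, ZMod.card,
        smul_eq_mul] at h1
      exact ⟨_, h1.symm⟩
    exact Nat.card_of_isEmpty

theorem card_orbits (hn : 2 ≤ n) :
    Nat.card (Quotient (AddAction.orbitRel (ZMod r) (Tup r n))) * r =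
      Nat.card (Tup r n) + (r - 1) * (if r ∣ n then 1 else 0) := by
  classical
  have hr : r.Prime := Fact.out
  have : Fintype (Tup r n) := Fintype.ofFinite _
  have : Fintype (Quotient (AddAction.orbitRel (ZMod r) (Tup r n))) := Fintype.ofFinite _
  have hB := AddAction.sum_card_fixedBy_eq_card_orbits_mul_card_addGroup (ZMod r) (Tup r n)
  rw [ZMod.card] at hB
  rw [Nat.card_eq_fintype_card, ← hB, ← Finset.add_sum_erase Finset.univ _ (Finset.mem_univ 0)]
  congr 1
  · rw [Nat.card_eq_fintype_card]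
    apply Fintype.card_congr
    refine (Equiv.subtypeUnivEquiv ?_)
    intro a
    rw [AddAction.mem_fixedBy, zero_vadd]
  · rw [Finset.sum_congr rfl (g := fun _ => if r ∣ n then 1 else 0)]
    · rw [Finset.sum_const, Finset.card_erase_of_mem (Finset.mem_univ _), Finset.card_univ,
        ZMod.card, smul_eq_mul]
    · intro k hk
      rw [← Nat.card_eq_fintype_card]
      exact card_fixedBy r n hn k (Finset.ne_of_mem_erase hk)

end Cfsg.Agent.Lib.Helper5.PGLr
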