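import Mathlib
import Cfsg.Agent.S2577

set_option autoImplicit false

/-!
Elements of prime order in `PGL_n`: lifting lemmas.
-/

namespace Cfsg.Agent.Lib.Helper5.PGLr

open Matrix

variable {F : Type*} [Field F] {n : ℕ}

/-- the projective general linear group -/
abbrev PG (n : ℕ) (F : Type*) [Field F] : Type _ :=
  GL (Fin n) F ⧸ Subgroup.center (GL (Fin n) F)

theorem ne_zero_of_scalar (hn : 1 ≤ n) (g : GL (Fin n) F) (c : F) (hc : g.1 = c • 1) : c ≠ 0 := by
  rintro rfl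
  have h2 := g.mul_inv
  rw [hc, zero_smul, zero_mul] at h2
  have : (0 : Matrix (Fin n) (Fin n) F) ⟨0, by omega⟩ ⟨0, by omega⟩ =
      (1 : Matrix (Fin n) (Fin n) F) ⟨0, by omega⟩ ⟨0, by omega⟩ := by rw [h2]
  simp at this

theorem mk_eq_one_iff (hn : 1 ≤ n) (g : GL (Fin n) F) :
    (QuotientGroup.mk g : PG n F) = 1 ↔ ∃ c : F, g.1 = c • 1 := by
  rw [QuotientGroup.eq_one_iff, Cfsg.Agent.S2577.mem_center_iff' hn]
  constructor
  · rintro ⟨c, -, hc⟩
    exact ⟨c, hc⟩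
  · rintro ⟨c, hc⟩
    exact ⟨c, ne_zero_of_scalar hn g c hc, hc⟩

theorem orderOf_mk_eq_prime_iff (hn : 1 ≤ n) (r : ℕ) [hr : Fact r.Prime] (g : GL (Fin n) F) :
    orderOf (QuotientGroup.mk g : PG n F) = r ↔
      (∃ l : F, l ≠ 0 ∧ g.1 ^ r = l • 1) ∧ ¬ ∃ c : F, g.1 = c • 1 := by
  constructor
  · intro h
    constructor
    · have h1 : (QuotientGroup.mk g : PG n F) ^ r = 1 := by
        rw [← h]; exact pow_orderOf_eq_one _
      rw [← QuotientGroup.mk_pow, mk_eq_one_iff hn] at h1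
      obtain ⟨l, hl⟩ := h1
      refine ⟨l, ne_zero_of_scalar hn _ l hl, ?_⟩
      rw [← hl, Units.val_pow_eq_pow_val]
    · intro hc
      have h1 : (QuotientGroup.mk g : PG n F) = 1 := (mk_eq_one_iff hn g).2 hc
      rw [h1, orderOf_one] at h
      exact hr.out.one_lt.ne h
  · rintro ⟨⟨l, hl0, hl⟩, hns⟩
    apply orderOf_eq_prime
    · rw [← QuotientGroup.mk_pow, mk_eq_one_iff hn]
      exact ⟨l, by rw [Units.val_pow_eq_pow_val, hl]⟩
    · intro h1
      exact hns ((mk_eq_one_iff hn g).1 h1)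

/-- scalar matrices in `GL` -/
noncomputable def scal (n : ℕ) (c : Fˣ) : GL (Fin n) F :=
  ⟨(c : F) • 1, ((c⁻¹ : Fˣ) : F) • 1, by
    rw [Matrix.smul_mul, Matrix.mul_smul, Matrix.mul_one, smul_smul, ← Units.val_mul,
      mul_inv_cancel, Units.val_one, one_smul], by
    rw [Matrix.smul_mul, Matrix.mul_smul, Matrix.mul_one, smul_smul, ← Units.val_mul,
      inv_mul_cancel, Units.val_one, one_smul]⟩

theorem scal_val (c : Fˣ) : (scal n c).1 = (c : F) • (1 : Matrix (Fin n) (Fin n) F) := rfl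

theorem mk_scal_mul (hn : 1 ≤ n) (c : Fˣ) (g : GL (Fin n) F) :
    (QuotientGroup.mk (scal n c * g) : PG n F) = QuotientGroup.mk g := by
  rw [QuotientGroup.mk_mul]
  have : (QuotientGroup.mk (scal n c) : PG n F) = 1 := (mk_eq_one_iff hn _).2 ⟨c, rfl⟩
  rw [this, one_mul]

theorem scal_mul_val (c : Fˣ) (g : GL (Fin n) F) :
    (scal n c * g).1 = (c : F) • g.1 := by
  rw [Units.val_mul, scal_val, Matrix.smul_mul, Matrix.one_mul]

end Cfsg.Agent.Lib.Helper5.PGLr
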