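import Mathlib

set_option autoImplicit false

/-!
Polynomials with all roots `r`-th roots of unity, and scaling of characteristic polynomials.
-/

namespace Cfsg.Agent.Lib.Helper5.PGLr

open Polynomial

variable {F : Type*} [Field F] {r : ℕ} [hr : Fact r.Prime]

/-- powers of a fixed root of unity, indexed by `ZMod r` -/
noncomputable def zp (ζ : F) (j : ZMod r) : F := ζ ^ j.val

section
variable {ζ : F} (hζ : IsPrimitiveRoot ζ r)
include hζ

theorem zp_add (j k : ZMod r) : zp ζ (j + k) = zp ζ j * zp ζ k := by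
  unfold zp
  have h : ζ ^ ((j.val + k.val) % r) = ζ ^ (j.val + k.val) := by
    have := pow_mod_orderOf ζ (j.val + k.val)
    rwa [← hζ.eq_orderOf] at this
  rw [ZMod.val_add, ← pow_add, h]

theorem zp_zero : zp ζ (0 : ZMod r) = 1 := by
  unfold zp
  rw [ZMod.val_zero, pow_zero]

theorem zp_injective : Function.Injective (zp (r := r) ζ) := by
  intro j k h
  have : NeZero r := ⟨hr.out.ne_zero⟩
  exact ZMod.val_injective r (hζ.pow_inj (ZMod.val_lt j) (ZMod.val_lt k) h)

theorem zp_pow (j : ZMod r) : zp ζ j ^ r = 1 := by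
  unfold zp
  rw [← pow_mul, mul_comm, pow_mul, hζ.pow_eq_one, one_pow]

theorem zp_ne_zero (j : ZMod r) : zp ζ j ≠ 0 := by
  intro h
  have := zp_pow hζ j
  rw [h, zero_pow hr.out.ne_zero] at this
  exact zero_ne_one this

theorem exists_zp (x : F) (hx : x ^ r = 1) : ∃ j : ZMod r, zp ζ j = x := by
  have : NeZero r := ⟨hr.out.ne_zero⟩
  obtain ⟨i, hi, rfl⟩ := hζ.eq_pow_of_pow_eq_one hx
  refine ⟨(i : ZMod r), ?_⟩
  unfold zp
  rw [ZMod.val_natCast, Nat.mod_eq_of_lt hi]

theorem X_pow_sub_one_eq : (X ^ r - 1 : F[X]) = ∏ j : ZMod r, (X - C (zp ζ j)) := by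
  classical
  have : NeZero r := ⟨hr.out.ne_zero⟩
  rw [X_pow_sub_one_eq_prod hr.out.pos hζ]
  have himg : Finset.univ.image (zp (r := r) ζ) = nthRootsFinset r (1 : F) := by
    ext x
    rw [Finset.mem_image, mem_nthRootsFinset hr.out.pos]
    constructor
    · rintro ⟨j, -, rfl⟩
      exact zp_pow hζ j
    · intro hx
      obtain ⟨j, hj⟩ := exists_zp hζ x hx
      exact ⟨j, Finset.mem_univ _, hj⟩
  rw [← himg, Finset.prod_image (fun _ _ _ _ h => zp_injective hζ h)]

end

/-- the monic polynomial with prescribed multiplicities at the `r`-th roots of unity -/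
noncomputable def fpoly (ζ : F) (a : ZMod r → ℕ) : F[X] := ∏ j, (X - C (zp ζ j)) ^ a j

theorem fpoly_monic (ζ : F) (a : ZMod r → ℕ) : (fpoly ζ a).Monic :=
  monic_prod_of_monic _ _ (fun j _ => (monic_X_sub_C _).pow _)

theorem fpoly_natDegree (ζ : F) (a : ZMod r → ℕ) : (fpoly ζ a).natDegree = ∑ j, a j := by
  unfold fpoly
  rw [natDegree_prod_of_monic _ _ (fun j _ => (monic_X_sub_C _).pow _)]
  refine Finset.sum_congr rfl (fun j _ => ?_)
  rw [natDegree_pow, natDegree_X_sub_C, mul_one]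

section
variable {ζ : F} (hζ : IsPrimitiveRoot ζ r)
include hζ

theorem count_roots_fpoly (a : ZMod r → ℕ) (i : ZMod r) :
    (fpoly ζ a).rootMultiplicity (zp ζ i) = a i := by
  classical
  rw [← count_roots]
  have h0 : ∏ j, (X - C (zp ζ j)) ^ a j ≠ 0 := (fpoly_monic ζ a).ne_zero
  unfold fpoly
  rw [roots_prod _ _ h0, Multiset.count_bind]
  have : ∀ j : ZMod r, Multiset.count (zp ζ i) (((X - C (zp ζ j)) ^ a j : F[X]).roots) =
      if j = i then a i else 0 := by
    intro j
    rw [roots_pow, roots_X_sub_C, Multiset.count_nsmul, Multiset.count_singleton]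
    by_cases hji : j = i
    · subst hji; simp
    · rw [if_neg hji, if_neg (fun h => hji ((zp_injective hζ h).symm)), mul_zero]
  rw [Multiset.map_congr rfl (fun j _ => this j)]
  show ∑ j : ZMod r, (if j = i then a i else 0) = a i
  rw [Finset.sum_ite_eq' Finset.univ i, if_pos (Finset.mem_univ _)]

theorem fpoly_injective : Function.Injective (fpoly (r := r) ζ) := by
  intro a b h
  funext i
  rw [← count_roots_fpoly hζ a i, ← count_roots_fpoly hζ b i, h]

theorem fpoly_dvd (a : ZMod r → ℕ) (m : ℕ) (ha : ∀ j, a j ≤ m) :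
    fpoly ζ a ∣ (X ^ r - 1 : F[X]) ^ m := by
  rw [X_pow_sub_one_eq hζ, ← Finset.prod_pow]
  exact Finset.prod_dvd_prod_of_dvd _ _ (fun j _ => pow_dvd_pow _ (ha j))

theorem eq_fpoly_of_dvd (f : F[X]) (hf : f.Monic) (m : ℕ) (hm : f ∣ (X ^ r - 1 : F[X]) ^ m) :
    ∃ a : ZMod r → ℕ, f = fpoly ζ a := by
  classical
  have hne : (X ^ r - 1 : F[X]) ^ m ≠ 0 :=
    pow_ne_zero _ (by
      have : (X ^ r - C (1 : F)).Monic := monic_X_pow_sub_C 1 hr.out.ne_zero
      rw [map_one] at this
      exact this.ne_zero)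
  have hsp : (X ^ r - 1 : F[X]).Splits := by
    rw [X_pow_sub_one_eq hζ]
    exact Splits.prod (fun j _ => Splits.X_sub_C _)
  have hfs : f.Splits := Splits.of_dvd (hsp.pow m) hne hm
  have h1 := hfs.eq_prod_roots_of_monic hf
  have hroot : ∀ x ∈ f.roots, ∃ j : ZMod r, zp ζ j = x := by
    intro x hx
    have h2 : IsRoot f x := (mem_roots hf.ne_zero).1 hx
    have h3 : IsRoot ((X ^ r - 1 : F[X]) ^ m) x := by
      obtain ⟨g, hg⟩ := hm
      rw [hg, IsRoot.def, eval_mul, h2, zero_mul]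
    have h4 : IsRoot (X ^ r - 1 : F[X]) x := by
      rw [IsRoot.def, eval_pow] at h3
      exact pow_eq_zero_iff (M₀ := F) (fun hm0 => by
        subst hm0; simp at h3) |>.1 h3
    rw [IsRoot.def, eval_sub, eval_pow, eval_X, eval_one, sub_eq_zero] at h4
    exact exists_zp hζ x h4
  refine ⟨fun j => f.roots.count (zp ζ j), ?_⟩
  refine h1.trans ?_
  rw [Finset.prod_multiset_map_count]
  unfold fpoly
  have hsub : f.roots.toFinset ⊆ Finset.univ.image (zp (r := r) ζ) := by
    intro x hx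
    obtain ⟨j, hj⟩ := hroot x (Multiset.mem_toFinset.1 hx)
    exact Finset.mem_image.2 ⟨j, Finset.mem_univ _, hj⟩
  rw [Finset.prod_subset hsub (fun x _ hx => by
    rw [Multiset.count_eq_zero_of_notMem (fun h => hx (Multiset.mem_toFinset.2 h)), pow_zero]),
    Finset.prod_image (fun _ _ _ _ h => zp_injective hζ h)]
end

/-- characteristic polynomial of a scalar multiple -/
theorem charpoly_smul {n : ℕ} (c : F) (hc : c ≠ 0) (A : Matrix (Fin n) (Fin n) F) :
    (c • A).charpoly = C (c ^ n) * A.charpoly.comp (C c⁻¹ * X) := by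
  have h1 : Matrix.charmatrix (c • A) =
      C c • (compRingHom (C c⁻¹ * X : F[X])).mapMatrix (Matrix.charmatrix A) := by
    ext i j : 1
    rw [Matrix.smul_apply, RingHom.mapMatrix_apply, Matrix.map_apply]
    by_cases hij : i = j
    · subst hij
      rw [Matrix.charmatrix_apply_eq, Matrix.charmatrix_apply_eq, coe_compRingHom_apply, sub_comp,
        smul_eq_mul, mul_sub, Matrix.smul_apply, smul_eq_mul, C_comp, X_comp, ← mul_assoc,
        ← C_mul, mul_inv_cancel₀ hc, C_1, one_mul, C_mul]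
    · rw [Matrix.charmatrix_apply_ne _ _ _ hij, Matrix.charmatrix_apply_ne _ _ _ hij,
        coe_compRingHom_apply, neg_comp, C_comp, smul_eq_mul, mul_neg, Matrix.smul_apply,
        smul_eq_mul, C_mul]
  unfold Matrix.charpoly
  rw [h1, Matrix.det_smul, Fintype.card_fin, ← RingHom.map_det, coe_compRingHom_apply, C_pow]

theorem fpoly_scale (ζ : F) (a : ZMod r → ℕ) (n : ℕ) (ha : ∑ j, a j = n) (c : F) (hc : c ≠ 0) :
    C (c ^ n) * (fpoly ζ a).comp (C c⁻¹ * X) = ∏ j, (X - C (c * zp ζ j)) ^ a j := by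
  unfold fpoly
  rw [← ha, ← Finset.prod_pow_eq_pow_sum, C_eq_algebraMap, map_prod, ← coe_compRingHom_apply,
    map_prod, ← Finset.prod_mul_distrib]
  refine Finset.prod_congr rfl (fun j _ => ?_)
  rw [map_pow, map_pow, ← mul_pow, coe_compRingHom_apply, sub_comp, X_comp, C_comp,
    ← C_eq_algebraMap, mul_sub, ← mul_assoc, ← C_mul, mul_inv_cancel₀ hc, C_1, one_mul, C_mul]

theorem charpoly_zp_smul {ζ : F} (hζ : IsPrimitiveRoot ζ r) {n : ℕ} (A : Matrix (Fin n) (Fin n) F)
    (a : ZMod r → ℕ) (hA : A.charpoly = fpoly ζ a) (k : ZMod r) :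
    (zp ζ k • A).charpoly = fpoly ζ (fun j => a (j - k)) := by
  have hn : ∑ j, a j = n := by
    rw [← fpoly_natDegree ζ a, ← hA, Matrix.charpoly_natDegree_eq_dim, Fintype.card_fin]
  rw [charpoly_smul _ (zp_ne_zero hζ k), hA, fpoly_scale ζ a n hn _ (zp_ne_zero hζ k)]
  unfold fpoly
  refine (Fintype.prod_equiv (Equiv.addRight k) _ _ (fun j => ?_))
  show (X - C (zp ζ k * zp ζ j)) ^ a j = (X - C (zp ζ (j + k))) ^ a (j + k - k)
  rw [add_sub_cancel_right, zp_add hζ, mul_comm]

end Cfsg.Agent.Lib.Helper5.PGLr
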