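import Mathlib
import Cfsg.Agent.Lib.Helper5.PGLr1
import Cfsg.Agent.Lib.Helper5.PGLr2
import Cfsg.Agent.Lib.Helper5.PGLr3
import Cfsg.Agent.Lib.Helper5.PrimeOrderGL

set_option autoImplicit false

/-!
Classes of `PGL_n` with a lift of order `r`: rotation orbits of multiplicity tuples.
-/

namespace Cfsg.Agent.Lib.Helper5.PGLr

open Polynomial Matrix

variable {F : Type*} [Field F] {n : ℕ}

theorem charpoly_eq_of_semiconj (P A B : Matrix (Fin n) (Fin n) F) (hP : IsUnit P.det)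
    (h : P * A = B * P) : A.charpoly = B.charpoly := by
  have hPu : IsUnit P := (Matrix.isUnit_iff_isUnit_det P).2 hP
  obtain ⟨u, rfl⟩ := hPu
  have hB : B = u.val * A * u⁻¹.val := by
    rw [h, mul_assoc, Units.mul_inv, mul_one]
  rw [hB, Matrix.coe_units_inv, Matrix.charpoly_units_conj]

theorem pow_semiconj (P A B : Matrix (Fin n) (Fin n) F) (h : P * A = B * P) (k : ℕ) :
    P * A ^ k = B ^ k * P := by
  have h1 : SemiconjBy P A B := h
  exact h1.pow_right k

theorem smul_one_inj (hn : 1 ≤ n) (c d : F)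
    (h : c • (1 : Matrix (Fin n) (Fin n) F) = d • 1) : c = d := by
  have := congrFun (congrFun h ⟨0, by omega⟩) ⟨0, by omega⟩
  simpa using this

theorem scalar_eq_of_semiconj (hn : 1 ≤ n) (P : Matrix (Fin n) (Fin n) F) (hP : IsUnit P.det)
    (l l' : F) (h : P * (l • 1) = (l' • 1) * P) : l = l' := by
  have hPu : IsUnit P := (Matrix.isUnit_iff_isUnit_det P).2 hP
  obtain ⟨u, rfl⟩ := hPu
  rw [Matrix.mul_smul, Matrix.smul_mul, mul_one, one_mul] at h
  have h2 : (l • u.val) * u⁻¹.val = (l' • u.val) * u⁻¹.val := by rw [h]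
  rw [Matrix.smul_mul, Matrix.smul_mul, Units.mul_inv] at h2
  exact smul_one_inj hn l l' h2

theorem charpoly_scalar' (c : F) :
    (c • (1 : Matrix (Fin n) (Fin n) F)).charpoly = (X - C c) ^ n := by
  have : c • (1 : Matrix (Fin n) (Fin n) F) = Matrix.diagonal (fun _ => c) := by
    ext i j
    by_cases hij : i = j
    · subst hij; simp
    · simp [hij]
  rw [this, Matrix.charpoly_diagonal, Finset.prod_const, Finset.card_univ, Fintype.card_fin]

variable {r : ℕ} [hr : Fact r.Prime]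

theorem fpoly_single (ζ : F) (j : ZMod r) (m : ℕ) :
    fpoly ζ (Pi.single j m) = (X - C (zp ζ j)) ^ m := by
  unfold fpoly
  rw [Fintype.prod_eq_single j (fun i hi => by rw [Pi.single_eq_of_ne hi, pow_zero]),
    Pi.single_eq_same]

section
variable [Finite F] (p : ℕ) [Fact p.Prime] [CharP F p] (hrp : r ≠ p) {ζ : F}
  (hζ : IsPrimitiveRoot ζ r) (hn : 1 ≤ n)
include hrp hζ hn

theorem scalar_iff (A : Matrix (Fin n) (Fin n) F) (hA : A ^ r = 1) (a : ZMod r → ℕ)
    (hsum : ∑ j, a j = n) (ha : A.charpoly = fpoly ζ a) :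
    (∃ c : F, A = c • 1) ↔ ∃ j, n ≤ a j := by
  constructor
  · rintro ⟨c, rfl⟩
    rw [_root_.smul_pow, one_pow] at hA
    have hc : c ^ r = 1 := by
      have h1 : c ^ r • (1 : Matrix (Fin n) (Fin n) F) = (1 : F) • 1 := by rw [hA, one_smul]
      exact smul_one_inj hn _ _ h1
    obtain ⟨j, rfl⟩ := exists_zp hζ c hc
    rw [charpoly_scalar', ← fpoly_single] at ha
    have := fpoly_injective hζ ha
    refine ⟨j, ?_⟩
    rw [← this, Pi.single_eq_same]
  · rintro ⟨j, hj⟩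
    have h1 := eq_single_of_le r n a hsum j hj
    rw [h1, fpoly_single, ← charpoly_scalar'] at ha
    have hB : (zp ζ j • (1 : Matrix (Fin n) (Fin n) F)) ^ r = 1 := by
      rw [_root_.smul_pow, one_pow, zp_pow hζ, one_smul]
    have hcop : r.Coprime p := (Nat.coprime_primes hr.out Fact.out).2 hrp
    obtain ⟨P, hP, hPM⟩ := Cfsg.Agent.S2388.exists_gl_conj p A _ r hcop hA hB ha
    have hPu : IsUnit P := (Matrix.isUnit_iff_isUnit_det P).2 hP
    obtain ⟨u, rfl⟩ := hPu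
    refine ⟨zp ζ j, ?_⟩
    rw [Matrix.smul_mul, one_mul] at hPM
    have h2 : u⁻¹.val * (u.val * A) = u⁻¹.val * (zp ζ j • u.val) := by rw [hPM]
    rw [← mul_assoc, Units.inv_mul, one_mul, Matrix.mul_smul, Units.inv_mul] at h2
    exact h2

theorem conjA_iff (g h : GL (Fin n) F) (hg : g.1 ^ r = 1) (hh : h.1 ^ r = 1)
    (a b : ZMod r → ℕ) (ha : g.1.charpoly = fpoly ζ a) (hb : h.1.charpoly = fpoly ζ b) :
    IsConj (QuotientGroup.mk g : PG n F) (QuotientGroup.mk h) ↔
      ∃ k : ZMod r, ∀ j, b j = a (j - k) := by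
  constructor
  · intro hc
    obtain ⟨P, c, hP, hc0, hPg⟩ := Cfsg.Agent.S2577.conj_imp hn g h hc
    rw [← Matrix.smul_mul] at hPg
    have h1 := pow_semiconj P g.1 (c • h.1) hPg r
    rw [hg, _root_.smul_pow, hh] at h1
    have hcr : 1 = c ^ r := by
      refine scalar_eq_of_semiconj hn P hP 1 (c ^ r) ?_
      rw [one_smul]; exact h1
    obtain ⟨k, rfl⟩ := exists_zp hζ c hcr.symm
    have h2 := charpoly_eq_of_semiconj P _ _ hP hPg
    rw [charpoly_zp_smul hζ h.1 b hb k, ha] at h2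
    have h3 := fpoly_injective hζ h2
    refine ⟨-k, fun j => ?_⟩
    rw [h3]
    show b j = b (j - -k - k)
    rw [sub_neg_eq_add, add_sub_cancel_right]
  · rintro ⟨k, hk⟩
    have h1 : (zp ζ k • g.1).charpoly = h.1.charpoly := by
      rw [charpoly_zp_smul hζ g.1 a ha k, hb]
      congr 1
      funext j
      exact (hk j).symm
    have h2 : (zp ζ k • g.1) ^ r = 1 := by
      rw [_root_.smul_pow, hg, zp_pow hζ, one_smul]
    have hcop : r.Coprime p := (Nat.coprime_primes hr.out Fact.out).2 hrp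
    obtain ⟨P, hP, hPM⟩ := Cfsg.Agent.S2388.exists_gl_conj p _ _ r hcop h2 hh h1
    refine Cfsg.Agent.S2577.conj_of hn g h P (zp ζ k)⁻¹ hP (inv_ne_zero (zp_ne_zero hζ k)) ?_
    rw [← hPM, Matrix.mul_smul, smul_smul, inv_mul_cancel₀ (zp_ne_zero hζ k), one_smul]

omit hn in
theorem exists_repA (a : ZMod r → ℕ) (ha : ∑ j, a j = n) :
    ∃ g : GL (Fin n) F, g.1 ^ r = 1 ∧ g.1.charpoly = fpoly ζ a := by
  have hle : ∀ j, a j ≤ n := by
    intro j
    rw [← ha]
    exact Finset.single_le_sum (f := a) (fun _ _ => Nat.zero_le _) (Finset.mem_univ j)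
  obtain ⟨g, hg, hc⟩ := exists_gl_of_charpoly_dvd p r hr.out (fpoly ζ a) (fpoly_monic ζ a)
    ((fpoly_natDegree ζ a).trans ha) n (fpoly_dvd hζ a n hle)
  refine ⟨g, ?_, hc⟩
  rw [← Units.val_pow_eq_pow_val, hg, Units.val_one]

omit [Finite F] [Fact p.Prime] [CharP F p] hrp hn in
theorem exists_tuple (A : Matrix (Fin n) (Fin n) F) (hA : A ^ r = 1) :
    ∃ a : ZMod r → ℕ, ∑ j, a j = n ∧ A.charpoly = fpoly ζ a := by
  have hφ : aeval (Matrix.toLin' A) (X ^ r - 1 : F[X]) = 0 := by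
    rw [map_sub, map_pow, aeval_X, map_one, ← Matrix.toLin'_pow, hA, Matrix.toLin'_one]
    exact sub_self _
  obtain ⟨m, hm⟩ := charpoly_dvd_pow_of_aeval_eq_zero _ _ hφ
  rw [Matrix.charpoly_toLin'] at hm
  obtain ⟨a, ha⟩ := eq_fpoly_of_dvd hζ A.charpoly (Matrix.charpoly_monic A) m hm
  refine ⟨a, ?_, ha⟩
  rw [← fpoly_natDegree ζ a, ← ha, Matrix.charpoly_natDegree_eq_dim, Fintype.card_fin]

end

end Cfsg.Agent.Lib.Helper5.PGLr
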