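import Mathlib
import Cfsg.Agent.Lib.Helper5.PGLr4

set_option autoImplicit false

/-!
Classes of `PGL_n` whose lifts have `r`-th power a non-`r`-th-power scalar.
-/

namespace Cfsg.Agent.Lib.Helper5.PGLr

open Polynomial Matrix

variable {F : Type*} [Field F] {n : ℕ} {r : ℕ} [hr : Fact r.Prime]

theorem monic_kummer (l : F) : (X ^ r - C l : F[X]).Monic := monic_X_pow_sub_C l hr.out.ne_zero

theorem charpoly_of_pow_eq (A : Matrix (Fin n) (Fin n) F) (l : F) (hl : ∀ b : F, b ^ r ≠ l)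
    (hA : A ^ r = l • 1) : ∃ k, A.charpoly = (X ^ r - C l) ^ k ∧ r * k = n := by
  have hφ : aeval (Matrix.toLin' A) (X ^ r - C l : F[X]) = 0 := by
    rw [map_sub, map_pow, aeval_X, aeval_C, ← Matrix.toLin'_pow, hA,
      Algebra.algebraMap_eq_smul_one, map_smul, Matrix.toLin'_one]
    exact sub_self _
  obtain ⟨m, hm⟩ := charpoly_dvd_pow_of_aeval_eq_zero _ _ hφ
  rw [Matrix.charpoly_toLin'] at hm
  have hirr : Irreducible (X ^ r - C l : F[X]) := X_pow_sub_C_irreducible_of_prime hr.out hl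
  obtain ⟨k, -, hk⟩ := (dvd_prime_pow hirr.prime m).1 hm
  have h1 : A.charpoly = (X ^ r - C l) ^ k :=
    eq_of_monic_of_associated (Matrix.charpoly_monic A) ((monic_kummer l).pow k) hk
  refine ⟨k, h1, ?_⟩
  have h2 := congrArg natDegree h1
  rw [Matrix.charpoly_natDegree_eq_dim, Fintype.card_fin, natDegree_pow,
    natDegree_X_pow_sub_C] at h2
  rw [h2, mul_comm]

section
variable [Finite F] (p : ℕ) [Fact p.Prime] [CharP F p] (hrp : r ≠ p) (hn : 1 ≤ n)
include hrp hn

theorem conjB_iff (g h : GL (Fin n) F) (l l' : F) (hl : ∀ b : F, b ^ r ≠ l)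
    (hg : g.1 ^ r = l • 1) (hh : h.1 ^ r = l' • 1) :
    IsConj (QuotientGroup.mk g : PG n F) (QuotientGroup.mk h) ↔
      ∃ c : F, c ≠ 0 ∧ l = c ^ r * l' := by
  constructor
  · intro hc
    obtain ⟨P, c, hP, hc0, hPg⟩ := Cfsg.Agent.S2577.conj_imp hn g h hc
    rw [← Matrix.smul_mul] at hPg
    have h1 := pow_semiconj P g.1 (c • h.1) hPg r
    rw [hg, _root_.smul_pow, hh, smul_smul] at h1
    exact ⟨c, hc0, scalar_eq_of_semiconj hn P hP l (c ^ r * l') h1⟩
  · rintro ⟨c, hc0, hcl⟩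
    have hl0 : l ≠ 0 := by
      intro h0
      exact hl 0 (by rw [zero_pow hr.out.ne_zero, h0])
    have h2 : (c • h.1) ^ r = l • 1 := by
      rw [_root_.smul_pow, hh, smul_smul, ← hcl]
    obtain ⟨k, hk, hkn⟩ := charpoly_of_pow_eq g.1 l hl hg
    obtain ⟨k', hk', hkn'⟩ := charpoly_of_pow_eq (c • h.1) l hl h2
    have hkk : k = k' := by
      have : r * k = r * k' := by rw [hkn, hkn']
      exact Nat.eq_of_mul_eq_mul_left hr.out.pos this
    have hch : g.1.charpoly = (c • h.1).charpoly := by rw [hk, hk', hkk]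
    have hp : p.Prime := Fact.out
    have : Fintype F := Fintype.ofFinite F
    have hpq : p ∣ Fintype.card F := by
      obtain ⟨m, -, hm⟩ := FiniteField.card F p
      rw [hm]
      exact dvd_pow_self p m.ne_zero
    have hcop1 : (Fintype.card F - 1).Coprime p :=
      coprime_pred_of_dvd hp hpq Fintype.card_pos
    have hcop : (r * (Fintype.card F - 1)).Coprime p :=
      Nat.Coprime.mul_left ((Nat.coprime_primes hr.out hp).2 hrp) hcop1
    have hpow : ∀ B : Matrix (Fin n) (Fin n) F, B ^ r = l • 1 →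
        B ^ (r * (Fintype.card F - 1)) = 1 := by
      intro B hB
      rw [pow_mul, hB, _root_.smul_pow, one_pow, FiniteField.pow_card_sub_one_eq_one l hl0,
        one_smul]
    obtain ⟨P, hP, hPM⟩ := Cfsg.Agent.S2388.exists_gl_conj p g.1 (c • h.1) _ hcop
      (hpow _ hg) (hpow _ h2) hch
    refine Cfsg.Agent.S2577.conj_of hn g h P c hP hc0 ?_
    rw [hPM, Matrix.smul_mul]

theorem exists_repB (hrn : r ∣ n) (l : F) (hl : ∀ b : F, b ^ r ≠ l) :
    ∃ g : GL (Fin n) F, g.1 ^ r = l • 1 := by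
  have hl0 : l ≠ 0 := by
    intro h0
    exact hl 0 (by rw [zero_pow hr.out.ne_zero, h0])
  obtain ⟨k, rfl⟩ := hrn
  have hk0 : k ≠ 0 := by
    rintro rfl
    omega
  have hirr : Irreducible (X ^ r - C l : F[X]) := X_pow_sub_C_irreducible_of_prime hr.out hl
  have hf : ((X ^ r - C l : F[X]) ^ k).Monic := (monic_kummer l).pow k
  have hdeg : ((X ^ r - C l : F[X]) ^ k).natDegree = r * k := by
    rw [natDegree_pow, natDegree_X_pow_sub_C, mul_comm]
  have h0 : ((X ^ r - C l : F[X]) ^ k).coeff 0 ≠ 0 := by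
    rw [coeff_zero_eq_eval_zero, eval_pow, eval_sub, eval_pow, eval_X, eval_C,
      zero_pow hr.out.ne_zero, zero_sub]
    exact pow_ne_zero _ (neg_ne_zero.2 hl0)
  obtain ⟨A, m, hm0, hmp, hAm, hAf⟩ :=
    exists_semisimple_of_charpoly p _ hf hdeg h0
  have hmF : (m : F) ≠ 0 := by
    intro h
    have h1 : p ∣ m := (CharP.cast_eq_zero_iff F p m).1 h
    have h2 : p ∣ Nat.gcd m p := Nat.dvd_gcd h1 dvd_rfl
    rw [hmp] at h2
    exact (Fact.out : p.Prime).one_lt.ne' (Nat.dvd_one.1 h2)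
  have hs : Squarefree (X ^ m - 1 : F[X]) := by
    have : (X ^ m - C (1 : F)).Separable := Polynomial.separable_X_pow_sub_C 1 hmF one_ne_zero
    rw [map_one] at this
    exact this.squarefree
  have h1 : minpoly F A ∣ (X ^ m - 1 : F[X]) := by
    apply minpoly.dvd
    rw [map_sub, map_pow, aeval_X, map_one, hAm, sub_self]
  have h2 : Squarefree (minpoly F A) := hs.squarefree_of_dvd h1
  have h3 : minpoly F A ∣ (X ^ r - C l : F[X]) ^ k := by
    rw [← hAf]
    exact Matrix.minpoly_dvd_charpoly A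
  have h4 : minpoly F A ∣ (X ^ r - C l : F[X]) := (h2.dvd_pow_iff_dvd hk0).1 h3
  have h5 : aeval A (X ^ r - C l : F[X]) = 0 := by
    obtain ⟨c, hc⟩ := h4
    rw [hc, map_mul, minpoly.aeval, zero_mul]
  have hAr : A ^ r = l • 1 := by
    rw [map_sub, map_pow, aeval_X, aeval_C, Algebra.algebraMap_eq_smul_one] at h5
    exact sub_eq_zero.1 h5
  obtain ⟨m', rfl⟩ : ∃ m', m = m' + 1 := ⟨m - 1, by omega⟩
  exact ⟨⟨A, A ^ m', by rw [← pow_succ', hAm], by rw [← pow_succ, hAm]⟩, hAr⟩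

end

end Cfsg.Agent.Lib.Helper5.PGLr
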