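import Mathlib
import Cfsg.Agent.Lib.Helper5.PGLr5
import Cfsg.Agent.Lib.Helper5.Wall3
import Cfsg.Agent.Lib.Helper2.GUCenter
import Cfsg.Agent.S2587

set_option autoImplicit false

/-!
Elements of prime order in `PGU_n`: lifting lemmas.
-/

namespace Cfsg.Agent.Lib.Helper5.PGUr

open Matrix Cfsg.Agent.Lib.Helper5.Wall Cfsg.Agent.Lib.Helper5.PGLr
  Cfsg.Agent.Lib.Helper1.HermCount

variable {K : Type*} [Field K] [Fintype K] {q n : ℕ}

/-- the projective general unitary group -/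
abbrev PU (n : ℕ) (K : Type*) [Field K] (q : ℕ) : Type _ :=
  ↥(Cfsg.GU n K q) ⧸ Subgroup.center ↥(Cfsg.GU n K q)

/-- the matrix of an element -/
abbrev mat (g : ↥(Cfsg.GU n K q)) : Matrix (Fin n) (Fin n) K :=
  ((g : GL (Fin n) K) : Matrix (Fin n) (Fin n) K)

theorem mat_mul (g h : ↥(Cfsg.GU n K q)) : mat (g * h) = mat g * mat h := rfl

theorem mat_one : mat (1 : ↥(Cfsg.GU n K q)) = 1 := rfl

theorem mat_pow (g : ↥(Cfsg.GU n K q)) (k : ℕ) : mat (g ^ k) = mat g ^ k := by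
  induction k with
  | zero => rw [pow_zero, pow_zero, mat_one]
  | succ k ih => rw [pow_succ, pow_succ, mat_mul, ih]

theorem mat_ext {g h : ↥(Cfsg.GU n K q)} (hgh : mat g = mat h) : g = h :=
  Subtype.ext (Units.ext hgh)

section
variable (hK : Fintype.card K = q ^ 2)
include hK

theorem ct_mat (g : ↥(Cfsg.GU n K q)) : ct hK (mat g) * mat g = 1 :=
  (mem_GU_iff hK g.1).1 g.2

/-- the element of `GU` with a given unitary matrix -/
noncomputable def ofMat (M : Matrix (Fin n) (Fin n) K) (hM : ct hK M * M = 1) :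
    ↥(Cfsg.GU n K q) :=
  ⟨⟨M, ct hK M, mul_eq_one_comm.1 hM, hM⟩, (mem_GU_iff hK _).2 hM⟩

theorem mat_ofMat (M : Matrix (Fin n) (Fin n) K) (hM : ct hK M * M = 1) :
    mat (ofMat hK M hM) = M := rfl

theorem ct_scalar (c : K) (hc : c ^ (q + 1) = 1) :
    ct hK (c • (1 : Matrix (Fin n) (Fin n) K)) * (c • 1) = 1 := by
  rw [ct_smul, ct_one, Matrix.smul_mul, Matrix.mul_smul, mul_one, smul_smul, ← pow_succ, hc,
    one_smul]

theorem nrm_of_scalar (hn : 1 ≤ n) (g : ↥(Cfsg.GU n K q)) (c : K) (hc : mat g = c • 1) :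
    c ^ (q + 1) = 1 := by
  have h1 := ct_mat hK g
  rw [hc, ct_smul, ct_one, Matrix.smul_mul, Matrix.mul_smul, mul_one, smul_smul, ← pow_succ] at h1
  have h2 : c ^ (q + 1) • (1 : Matrix (Fin n) (Fin n) K) = (1 : K) • 1 := by rw [h1, one_smul]
  exact smul_one_inj hn _ _ h2

/-- scalar elements of `GU` -/
noncomputable def scalU (c : K) (hc : c ^ (q + 1) = 1) : ↥(Cfsg.GU n K q) :=
  ofMat hK (c • 1) (ct_scalar hK c hc)

theorem mat_scalU (c : K) (hc : c ^ (q + 1) = 1) :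
    mat (scalU (n := n) hK c hc) = c • 1 := rfl

theorem mat_scalU_mul (c : K) (hc : c ^ (q + 1) = 1) (g : ↥(Cfsg.GU n K q)) :
    mat (scalU hK c hc * g) = c • mat g := by
  rw [mat_mul, mat_scalU, Matrix.smul_mul, one_mul]

theorem scalU_mem_center (c : K) (hc : c ^ (q + 1) = 1) :
    scalU (n := n) hK c hc ∈ Subgroup.center ↥(Cfsg.GU n K q) := by
  rw [Subgroup.mem_center_iff]
  intro g
  apply mat_ext
  rw [mat_mul, mat_mul, mat_scalU, Matrix.mul_smul, Matrix.smul_mul, mul_one, one_mul]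

theorem mem_center_iff (hn : 1 ≤ n) (g : ↥(Cfsg.GU n K q)) :
    g ∈ Subgroup.center ↥(Cfsg.GU n K q) ↔ ∃ c : K, mat g = c • 1 := by
  constructor
  · intro hg
    obtain ⟨l, -, hl⟩ := Cfsg.Agent.Lib.Helper2.GUCenter.center_scalar hK hn g hg
    exact ⟨l, hl⟩
  · rintro ⟨c, hc⟩
    have h1 := nrm_of_scalar hK hn g c hc
    have h2 : g = scalU hK c h1 := mat_ext (by rw [hc, mat_scalU])
    rw [h2]
    exact scalU_mem_center hK c h1

theorem mk_eq_one_iff (hn : 1 ≤ n) (g : ↥(Cfsg.GU n K q)) :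
    (QuotientGroup.mk g : PU n K q) = 1 ↔ ∃ c : K, mat g = c • 1 := by
  rw [QuotientGroup.eq_one_iff, mem_center_iff hK hn]

theorem mk_scalU_mul (c : K) (hc : c ^ (q + 1) = 1) (g : ↥(Cfsg.GU n K q)) :
    (QuotientGroup.mk (scalU hK c hc * g) : PU n K q) = QuotientGroup.mk g := by
  rw [QuotientGroup.mk_mul, (QuotientGroup.eq_one_iff _).2 (scalU_mem_center hK c hc), one_mul]

theorem orderOf_mk_eq_prime_iff (hn : 1 ≤ n) (r : ℕ) [hr : Fact r.Prime] (g : ↥(Cfsg.GU n K q)) :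
    orderOf (QuotientGroup.mk g : PU n K q) = r ↔
      (∃ l : K, mat g ^ r = l • 1) ∧ ¬ ∃ c : K, mat g = c • 1 := by
  constructor
  · intro h
    constructor
    · have h1 : (QuotientGroup.mk g : PU n K q) ^ r = 1 := by
        rw [← h]; exact pow_orderOf_eq_one _
      rw [← QuotientGroup.mk_pow, mk_eq_one_iff hK hn] at h1
      obtain ⟨l, hl⟩ := h1
      exact ⟨l, by rw [← hl, mat_pow]⟩
    · intro hc
      have h1 : (QuotientGroup.mk g : PU n K q) = 1 := (mk_eq_one_iff hK hn g).2 hc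
      rw [h1, orderOf_one] at h
      exact hr.out.one_lt.ne h
  · rintro ⟨⟨l, hl⟩, hns⟩
    apply orderOf_eq_prime
    · rw [← QuotientGroup.mk_pow, mk_eq_one_iff hK hn]
      exact ⟨l, by rw [mat_pow, hl]⟩
    · intro h1
      exact hns ((mk_eq_one_iff hK hn g).1 h1)

/-- conjugacy in `PGU` gives similarity up to a scalar of norm one -/
theorem conj_imp (hn : 1 ≤ n) (g h : ↥(Cfsg.GU n K q))
    (hc : IsConj (QuotientGroup.mk g : PU n K q) (QuotientGroup.mk h)) :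
    ∃ (P : Matrix (Fin n) (Fin n) K) (c : K), IsUnit P.det ∧ c ^ (q + 1) = 1 ∧
      P * mat g = c • (mat h * P) := by
  rw [isConj_iff] at hc
  obtain ⟨y, hy⟩ := hc
  obtain ⟨x, rfl⟩ := QuotientGroup.mk_surjective y
  rw [← QuotientGroup.mk_inv, ← QuotientGroup.mk_mul, ← QuotientGroup.mk_mul,
    QuotientGroup.eq] at hy
  obtain ⟨c, hc⟩ := (mem_center_iff hK hn _).1 hy
  have hc1 := nrm_of_scalar hK hn _ c hc
  have hc0 : c ≠ 0 := by
    rintro rfl
    rw [zero_pow (Nat.succ_ne_zero q)] at hc1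
    exact zero_ne_one hc1
  refine ⟨mat x, c⁻¹, ?_, ?_, ?_⟩
  · exact (Matrix.isUnit_iff_isUnit_det _).1 (x : GL (Fin n) K).isUnit
  · rw [inv_pow, hc1, inv_one]
  · have h1 : h = (x * g * x⁻¹) * ((x * g * x⁻¹)⁻¹ * h) := by group
    have h2 : mat h = mat (x * g * x⁻¹) * (c • 1) := by
      conv_lhs => rw [h1]
      rw [mat_mul, hc]
    rw [Matrix.mul_smul, Matrix.mul_one] at h2
    rw [h2, Matrix.smul_mul, smul_smul]
    have h3 : mat (x * g * x⁻¹) * mat x = mat x * mat g := by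
      rw [← mat_mul, ← mat_mul]
      congr 1
      group
    rw [h3, inv_mul_cancel₀ hc0, one_smul]

/-- similarity up to a scalar of norm one gives conjugacy in `PGU` -/
theorem conj_of (g h : ↥(Cfsg.GU n K q)) (P : Matrix (Fin n) (Fin n) K) (c : K)
    (hP : IsUnit P.det) (hc : c ^ (q + 1) = 1) (hPg : P * mat g = c • (mat h * P)) :
    IsConj (QuotientGroup.mk g : PU n K q) (QuotientGroup.mk h) := by
  rw [← mk_scalU_mul hK c hc h]
  apply (QuotientGroup.mk' (Subgroup.center ↥(Cfsg.GU n K q))).map_isConj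
  rw [Cfsg.Agent.S2587.result hK, isConj_iff]
  refine ⟨Matrix.GeneralLinearGroup.mk'' P hP, ?_⟩
  rw [mul_inv_eq_iff_eq_mul]
  apply Units.ext
  show P * mat g = mat (scalU hK c hc * h) * P
  rw [mat_scalU_mul, hPg, Matrix.smul_mul]

end

end Cfsg.Agent.Lib.Helper5.PGUr
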