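import Mathlib
import Cfsg.Prelude.Def_Characters
import Cfsg.Prelude.Def_ParabolicCharacters
import Cfsg.Agent.Lib.Helper5.BorelInd
import Cfsg.Agent.Lib.Helper5.BorelValues
import Cfsg.Agent.Lib.Helper1.LinearChar
import Cfsg.Agent.Lib.Helper4.Characters
import Cfsg.Agent.S0148
import Cfsg.Agent.S0146

/-!
Permutation characters on coset spaces: they are characters, and the inner product of two of
them is the number of double cosets.
-/

namespace Cfsg.Agent.Lib.Helper5.PermChar

open scoped ComplexConjugate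

variable {G : Type*} [Group G]

theorem out_bijective (H : Subgroup G) :
    Function.Bijective (fun p : (G ⧸ H) × H => (p.1.out : G) * (p.2 : G)) := by
  constructor
  · rintro ⟨q, h⟩ ⟨q', h'⟩ heq
    simp only at heq
    have hq : q = q' := by
      have h1 : ((q.out * (h : G) : G) : G ⧸ H) = q := by
        rw [QuotientGroup.mk_mul_of_mem _ h.2, QuotientGroup.out_eq']
      have h2 : ((q'.out * (h' : G) : G) : G ⧸ H) = q' := by
        rw [QuotientGroup.mk_mul_of_mem _ h'.2, QuotientGroup.out_eq']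
      rw [← h1, ← h2, heq]
    subst hq
    have : (h : G) = h' := mul_left_cancel heq
    rw [Subtype.ext this]
  · intro x
    refine ⟨((x : G ⧸ H), ⟨((x : G ⧸ H).out)⁻¹ * x, ?_⟩), ?_⟩
    · rw [← QuotientGroup.eq, QuotientGroup.out_eq']
    · simp

theorem fixedPointCharacter_eq_indFun [Fintype G] (H : Subgroup G) :
    Cfsg.fixedPointCharacter H = Cfsg.indFun H (fun _ => 1) := by
  classical
  funext g
  have : Fintype (G ⧸ H) := Fintype.ofFinite _
  rw [Cfsg.Agent.Lib.Helper5.indFun_eq_sum_transversal H (fun _ => 1) (fun _ _ => rfl)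
    (fun q : G ⧸ H => (q.out : G)) (out_bijective H) g]
  unfold Cfsg.fixedPointCharacter
  rw [Cfsg.Agent.Lib.Helper5.card_fixedBy_transversal H (fun q : G ⧸ H => (q.out : G))
    (out_bijective H) g]
  have hterm : ∀ q : G ⧸ H, Cfsg.extendByZero H (fun _ => (1 : ℂ)) ((q.out)⁻¹ * g * q.out)
      = if (q.out)⁻¹ * g * q.out ∈ H then 1 else 0 := by
    intro q
    by_cases h : (q.out)⁻¹ * g * q.out ∈ H
    · rw [if_pos h, Cfsg.Agent.Lib.Helper1.extendByZero_of_mem H _ h]
    · rw [if_neg h, Cfsg.Agent.Lib.Helper1.extendByZero_of_notMem H _ h]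
  rw [Finset.sum_congr rfl fun q _ => hterm q, Finset.sum_boole, Nat.card_eq_fintype_card,
    Fintype.card_subtype]

theorem isCharacter_one : Cfsg.IsCharacter G (fun _ => (1 : ℂ)) := by
  have := Cfsg.Agent.Lib.Helper1.isIrrCharacter_of_hom (1 : G →* ℂˣ)
  exact Cfsg.Agent.Lib.Helper4.isCharacter_of_irr this

theorem isCharacter_fixedPointCharacter [Fintype G] (H : Subgroup G) :
    Cfsg.IsCharacter G (Cfsg.fixedPointCharacter H) := by
  rw [fixedPointCharacter_eq_indFun]
  exact Cfsg.Agent.S0148.result H _ isCharacter_one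

theorem conj_fixedPointCharacter (H : Subgroup G) (g : G) :
    conj (Cfsg.fixedPointCharacter H g) = Cfsg.fixedPointCharacter H g := by
  unfold Cfsg.fixedPointCharacter
  exact Complex.conj_natCast _

/-- The orbits of `H` on `G ⧸ K` correspond to the `(H, K)`-double cosets. -/
theorem card_orbits_eq (H K : Subgroup G) :
    Nat.card (MulAction.orbitRel.Quotient H (G ⧸ K)) = Nat.card (DoubleCoset.Quotient (H : Set G) K) := by
  symm
  let f : DoubleCoset.Quotient (H : Set G) K → MulAction.orbitRel.Quotient H (G ⧸ K) :=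
    Quotient.lift (fun g : G => (Quotient.mk'' ((g : G ⧸ K)) : MulAction.orbitRel.Quotient H (G ⧸ K)))
      (by
        intro a b hab
        have hab' : DoubleCoset.setoid (H : Set G) K a b := hab
        rw [DoubleCoset.rel_iff] at hab'
        obtain ⟨h, hh, k, hk, rfl⟩ := hab'
        apply Quotient.sound'
        show MulAction.orbitRel H (G ⧸ K) _ _
        rw [MulAction.orbitRel_apply, MulAction.mem_orbit_iff]
        refine ⟨⟨h, hh⟩⁻¹, ?_⟩
        show ((h⁻¹ * (h * a * k) : G) : G ⧸ K) = (a : G ⧸ K)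
        rw [QuotientGroup.eq]
        have : (h⁻¹ * (h * a * k))⁻¹ * a = k⁻¹ := by group
        rw [this]
        exact K.inv_mem hk)
  apply Nat.card_eq_of_bijective f
  constructor
  · intro x y hxy
    induction x using Quotient.inductionOn with | _ a => ?_
    induction y using Quotient.inductionOn with | _ b => ?_
    have h1 : (Quotient.mk'' ((a : G ⧸ K)) : MulAction.orbitRel.Quotient H (G ⧸ K))
        = Quotient.mk'' ((b : G ⧸ K)) := hxy
    have h2 := Quotient.exact' h1
    have h3 : MulAction.orbitRel H (G ⧸ K) (a : G ⧸ K) (b : G ⧸ K) := h2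
    rw [MulAction.orbitRel_apply, MulAction.mem_orbit_iff] at h3
    obtain ⟨h, hh⟩ := h3
    have h4 : (((h : G) * b : G) : G ⧸ K) = (a : G ⧸ K) := hh
    rw [QuotientGroup.eq] at h4
    apply Quotient.sound
    show DoubleCoset.setoid (H : Set G) K a b
    rw [DoubleCoset.rel_iff]
    refine ⟨(h : G)⁻¹, H.inv_mem h.2, (((h : G) * b)⁻¹ * a)⁻¹, K.inv_mem h4, ?_⟩
    group
  · intro y
    induction y using Quotient.inductionOn with | _ q => ?_
    obtain ⟨g, rfl⟩ := QuotientGroup.mk_surjective q
    exact ⟨Quotient.mk'' g, rfl⟩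

theorem classInner_fixedPointCharacter [Fintype G] (H K : Subgroup G) :
    Cfsg.classInner (Cfsg.fixedPointCharacter H) (Cfsg.fixedPointCharacter K)
      = (Nat.card (DoubleCoset.Quotient (H : Set G) K) : ℂ) := by
  classical
  have : Fintype H := Fintype.ofFinite _
  have hcl : Cfsg.IsClassFunction G (Cfsg.fixedPointCharacter K) :=
    Cfsg.Agent.Lib.Helper4.isClassFunction_of_isCharacter (isCharacter_fixedPointCharacter K)
  rw [fixedPointCharacter_eq_indFun H, Cfsg.Agent.S0146.result H _ _ hcl, ← card_orbits_eq]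
  unfold Cfsg.classInner
  have : Fintype (G ⧸ K) := Fintype.ofFinite _
  have : Fintype (MulAction.orbitRel.Quotient H (G ⧸ K)) := Fintype.ofFinite _
  have : ∀ h : H, Fintype (MulAction.fixedBy (G ⧸ K) h) := fun h => Fintype.ofFinite _
  have hb := MulAction.sum_card_fixedBy_eq_card_orbits_mul_card_group H (G ⧸ K)
  have hsum : ∑ h : H, (1 : ℂ) * conj (Cfsg.fixedPointCharacter K (h : G))
      = ((∑ h : H, Fintype.card (MulAction.fixedBy (G ⧸ K) h) : ℕ) : ℂ) := by
    rw [Nat.cast_sum]
    refine Finset.sum_congr rfl fun h _ => ?_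
    rw [one_mul, conj_fixedPointCharacter]
    unfold Cfsg.fixedPointCharacter
    rw [Nat.card_eq_fintype_card]
    congr 1
    exact Fintype.card_congr (Equiv.refl _)
  rw [hsum, hb, Nat.cast_mul, Nat.card_eq_fintype_card, Nat.card_eq_fintype_card]
  have hH0 : (Fintype.card H : ℂ) ≠ 0 := Nat.cast_ne_zero.mpr Fintype.card_ne_zero
  field_simp

end Cfsg.Agent.Lib.Helper5.PermChar
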