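import Mathlib
import Cfsg.Agent.Lib.Helper5.SL2Torus

/-!
# S3452 (groups isospectral to `PGL₂(p)`): base definitions for the case `p ≥ 5`

`H_k = V_k ⋊ PSL₂(p)`, where `V_k` is the space of functions `f : Fin k × PSL₂(p) → ZMod 2` such that
for every unipotent `A ≠ 1` of `SL₂(p)`, every `j` and every `h`, `∑_{i<p} f (j, [A]^i h) = 0`,
and `PSL₂(p)` acts by left translation in the second variable.
-/

set_option autoImplicit false
set_option linter.unusedSectionVars false

namespace Cfsg.Agent.Lib.S3452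

open Matrix

variable (p : ℕ) [Fact p.Prime]

/-- `SL₂(p)` -/
abbrev SLp : Type := SpecialLinearGroup (Fin 2) (ZMod p)

/-- `PSL₂(p)` -/
abbrev PSL : Type := ProjectiveSpecialLinearGroup (Fin 2) (ZMod p)

/-- the class of a matrix -/
def cls (A : SLp p) : PSL p := QuotientGroup.mk A

theorem cls_surjective : Function.Surjective (cls p) := QuotientGroup.mk_surjective

theorem cls_mul (A B : SLp p) : cls p (A * B) = cls p A * cls p B := rfl

theorem cls_one : cls p (1 : SLp p) = 1 := rfl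

theorem cls_inv (A : SLp p) : cls p A⁻¹ = (cls p A)⁻¹ := rfl

theorem cls_pow (A : SLp p) (n : ℕ) : cls p (A ^ n) = cls p A ^ n := rfl

/-- two matrices with the same class differ by a scalar `c` with `c² = 1` -/
theorem exists_scalar_of_cls_eq (A B : SLp p) (h : cls p A = cls p B) :
    ∃ c : ZMod p, c ^ 2 = 1 ∧
      (B : Matrix (Fin 2) (Fin 2) (ZMod p)) = c • (A : Matrix (Fin 2) (Fin 2) (ZMod p)) := by
  have h1 : A⁻¹ * B ∈ Subgroup.center (SLp p) := QuotientGroup.eq.1 h
  rw [Matrix.SpecialLinearGroup.mem_center_iff] at h1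
  obtain ⟨r, hr, hrs⟩ := h1
  rw [Fintype.card_fin] at hr
  refine ⟨r, hr, ?_⟩
  have h2 : B = A * (A⁻¹ * B) := by group
  have h3 : (B : Matrix (Fin 2) (Fin 2) (ZMod p)) =
      (A : Matrix (Fin 2) (Fin 2) (ZMod p)) * ((A⁻¹ * B : SLp p) : Matrix (Fin 2) (Fin 2) (ZMod p)) := by
    conv_lhs => rw [h2]
    rfl
  rw [h3, ← hrs, Matrix.scalar_apply, ← Matrix.smul_one_eq_diagonal, Matrix.mul_smul, Matrix.mul_one]

/-- the squared trace, a class function on `PSL₂(p)` -/
def trsq (x : PSL p) : ZMod p :=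
  Quotient.liftOn' x (fun A : SLp p => (A : Matrix (Fin 2) (Fin 2) (ZMod p)).trace ^ 2) (by
    intro A B hAB
    have h : cls p A = cls p B := Quotient.sound' hAB
    obtain ⟨c, hc, hB⟩ := exists_scalar_of_cls_eq p A B h
    show (A : Matrix (Fin 2) (Fin 2) (ZMod p)).trace ^ 2 = (B : Matrix (Fin 2) (Fin 2) (ZMod p)).trace ^ 2
    rw [hB, Matrix.trace_smul, smul_eq_mul, mul_pow, hc, one_mul])

theorem trsq_cls (A : SLp p) :
    trsq p (cls p A) = (A : Matrix (Fin 2) (Fin 2) (ZMod p)).trace ^ 2 := rfl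

/-- the ambient function space -/
abbrev Fn (k : ℕ) : Type := Fin k × PSL p → ZMod 2

/-- left translation in the second variable -/
def transl (k : ℕ) (g : PSL p) : Fn p k ≃+ Fn p k where
  toFun f := fun x => f (x.1, g⁻¹ * x.2)
  invFun f := fun x => f (x.1, g * x.2)
  left_inv f := by funext x; simp
  right_inv f := by funext x; simp
  map_add' _ _ := rfl

theorem transl_apply (k : ℕ) (g : PSL p) (f : Fn p k) (x : Fin k × PSL p) :
    transl p k g f x = f (x.1, g⁻¹ * x.2) := rfl

theorem transl_one (k : ℕ) : transl p k 1 = AddEquiv.refl _ := by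
  ext f x; simp [transl_apply]

theorem transl_mul (k : ℕ) (g g' : PSL p) (f : Fn p k) :
    transl p k (g * g') f = transl p k g (transl p k g' f) := by
  funext x; simp [transl_apply, mul_assoc]

/-- the unipotent-sum condition -/
def VK (k : ℕ) : AddSubgroup (Fn p k) where
  carrier := {f | ∀ A : SLp p, A ≠ 1 →
    ((A : Matrix (Fin 2) (Fin 2) (ZMod p)) - 1) ^ 2 = 0 → ∀ (j : Fin k) (h : PSL p),
      ∑ i ∈ Finset.range p, f (j, cls p A ^ i * h) = 0}
  zero_mem' := by intro A _ _ j h; simp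
  add_mem' := by
    intro f f' hf hf' A hA hA2 j h
    simp only [Pi.add_apply, Finset.sum_add_distrib, hf A hA hA2 j h, hf' A hA hA2 j h, add_zero]
  neg_mem' := by
    intro f hf A hA hA2 j h
    simp only [Pi.neg_apply, Finset.sum_neg_distrib, hf A hA hA2 j h, neg_zero]

theorem mem_VK (k : ℕ) (f : Fn p k) : f ∈ VK p k ↔ ∀ A : SLp p, A ≠ 1 →
    ((A : Matrix (Fin 2) (Fin 2) (ZMod p)) - 1) ^ 2 = 0 → ∀ (j : Fin k) (h : PSL p),
      ∑ i ∈ Finset.range p, f (j, cls p A ^ i * h) = 0 := Iff.rfl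

/-- `V_k` is invariant under translation -/
theorem transl_mem (k : ℕ) (g : PSL p) (f : Fn p k) (hf : f ∈ VK p k) : transl p k g f ∈ VK p k := by
  obtain ⟨B, rfl⟩ := cls_surjective p g
  intro A hA hA2 j h
  have hA' : B⁻¹ * A * B ≠ 1 := by
    intro h1
    apply hA
    have : A = B * (B⁻¹ * A * B) * B⁻¹ := by group
    rw [this, h1]; group
  have hA2' : (((B⁻¹ * A * B : SLp p) : Matrix (Fin 2) (Fin 2) (ZMod p)) - 1) ^ 2 = 0 := by
    have e : ((B⁻¹ * A * B : SLp p) : Matrix (Fin 2) (Fin 2) (ZMod p)) - 1 =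
        ((B⁻¹ : SLp p) : Matrix (Fin 2) (Fin 2) (ZMod p)) *
          ((A : Matrix (Fin 2) (Fin 2) (ZMod p)) - 1) * (B : Matrix (Fin 2) (Fin 2) (ZMod p)) := by
      have hBB : ((B⁻¹ : SLp p) : Matrix (Fin 2) (Fin 2) (ZMod p)) *
          (B : Matrix (Fin 2) (Fin 2) (ZMod p)) = 1 := by
        have := congrArg (fun z : SLp p => (z : Matrix (Fin 2) (Fin 2) (ZMod p))) (inv_mul_cancel B)
        exact this
      rw [Matrix.mul_sub, Matrix.sub_mul, Matrix.mul_one, hBB]
      rfl
    have hBB' : (B : Matrix (Fin 2) (Fin 2) (ZMod p)) *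
        ((B⁻¹ : SLp p) : Matrix (Fin 2) (Fin 2) (ZMod p)) = 1 := by
      have := congrArg (fun z : SLp p => (z : Matrix (Fin 2) (Fin 2) (ZMod p))) (mul_inv_cancel B)
      exact this
    rw [e, pow_two]
    have : ((B⁻¹ : SLp p) : Matrix (Fin 2) (Fin 2) (ZMod p)) *
          ((A : Matrix (Fin 2) (Fin 2) (ZMod p)) - 1) * (B : Matrix (Fin 2) (Fin 2) (ZMod p)) *
        (((B⁻¹ : SLp p) : Matrix (Fin 2) (Fin 2) (ZMod p)) *
          ((A : Matrix (Fin 2) (Fin 2) (ZMod p)) - 1) * (B : Matrix (Fin 2) (Fin 2) (ZMod p))) =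
        ((B⁻¹ : SLp p) : Matrix (Fin 2) (Fin 2) (ZMod p)) *
          (((A : Matrix (Fin 2) (Fin 2) (ZMod p)) - 1) * ((B : Matrix (Fin 2) (Fin 2) (ZMod p)) *
            ((B⁻¹ : SLp p) : Matrix (Fin 2) (Fin 2) (ZMod p))) *
          ((A : Matrix (Fin 2) (Fin 2) (ZMod p)) - 1)) * (B : Matrix (Fin 2) (Fin 2) (ZMod p)) := by
      simp only [Matrix.mul_assoc]
    rw [this, hBB', Matrix.mul_one, ← pow_two, hA2, Matrix.mul_zero, Matrix.zero_mul]
  have key := hf (B⁻¹ * A * B) hA' hA2' j ((cls p B)⁻¹ * h)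
  rw [← key]
  apply Finset.sum_congr rfl
  intro i _
  rw [transl_apply]
  congr 2
  show (cls p B)⁻¹ * (cls p A ^ i * h) = cls p (B⁻¹ * A * B) ^ i * ((cls p B)⁻¹ * h)
  have e : cls p (B⁻¹ * A * B) = (cls p B)⁻¹ * cls p A * cls p B := rfl
  have e2 : ((cls p B)⁻¹ * cls p A * cls p B) ^ i = (cls p B)⁻¹ * cls p A ^ i * cls p B := by
    have := conj_pow (a := (cls p B)⁻¹) (b := cls p A) (i := i)
    rwa [inv_inv] at this
  rw [e, e2]
  group

/-- translation restricted to `V_k` -/
def translV (k : ℕ) (g : PSL p) : VK p k ≃+ VK p k where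
  toFun f := ⟨transl p k g f.1, transl_mem p k g f.1 f.2⟩
  invFun f := ⟨transl p k g⁻¹ f.1, transl_mem p k g⁻¹ f.1 f.2⟩
  left_inv f := by
    apply Subtype.ext
    show transl p k g⁻¹ (transl p k g f.1) = f.1
    rw [← transl_mul, inv_mul_cancel, transl_one]; rfl
  right_inv f := by
    apply Subtype.ext
    show transl p k g (transl p k g⁻¹ f.1) = f.1
    rw [← transl_mul, mul_inv_cancel, transl_one]; rfl
  map_add' f f' := by
    apply Subtype.ext
    show transl p k g (f.1 + f'.1) = transl p k g f.1 + transl p k g f'.1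
    exact map_add _ _ _

theorem translV_coe (k : ℕ) (g : PSL p) (f : VK p k) : (translV p k g f).1 = transl p k g f.1 := rfl

/-- the action on the multiplicative version of `V_k` -/
def phi (k : ℕ) : PSL p →* MulAut (Multiplicative (VK p k)) where
  toFun g := AddEquiv.toMultiplicative (translV p k g)
  map_one' := by
    apply MulEquiv.ext
    intro z
    apply Multiplicative.toAdd.injective
    apply Subtype.ext
    show (translV p k 1 (Multiplicative.toAdd z)).1 = (Multiplicative.toAdd z).1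
    rw [translV_coe, transl_one]; rfl
  map_mul' g g' := by
    apply MulEquiv.ext
    intro z
    apply Multiplicative.toAdd.injective
    apply Subtype.ext
    show (translV p k (g * g') (Multiplicative.toAdd z)).1 =
      (translV p k g (translV p k g' (Multiplicative.toAdd z))).1
    rw [translV_coe, translV_coe, translV_coe, transl_mul]

theorem phi_apply (k : ℕ) (g : PSL p) (v : VK p k) :
    phi p k g (Multiplicative.ofAdd v) = Multiplicative.ofAdd (translV p k g v) := rfl

/-- the group `H_k = V_k ⋊ PSL₂(p)` -/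
abbrev HK (k : ℕ) : Type := Multiplicative (VK p k) ⋊[phi p k] PSL p

/-- every element of `V_k` (written multiplicatively) has square one -/
theorem sq_eq_one (k : ℕ) (z : Multiplicative (VK p k)) : z ^ 2 = 1 := by
  apply Multiplicative.toAdd.injective
  show (2 : ℕ) • Multiplicative.toAdd z = 0
  apply Subtype.ext
  funext x
  show (2 : ℕ) • (Multiplicative.toAdd z).1 x = 0
  rw [nsmul_eq_mul]
  have h2 : ((2 : ℕ) : ZMod 2) = 0 := by decide
  rw [h2, zero_mul]

/-- the "norm" of `v` along `g`, in additive form -/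
theorem toAdd_prod_phi (k : ℕ) (g : PSL p) (v : VK p k) (n : ℕ) :
    (Multiplicative.toAdd (∏ i ∈ Finset.range n, phi p k (g ^ i) (Multiplicative.ofAdd v))).1 =
      ∑ i ∈ Finset.range n, transl p k (g ^ i) v.1 := by
  induction n with
  | zero => simp
  | succ n ih =>
    rw [Finset.prod_range_succ, Finset.sum_range_succ, toAdd_mul, AddSubgroup.coe_add, ih, phi_apply]
    rfl

/-- the function `f_c` : indicator of `{(j₀, x) | tr(x)² = c}` -/
def fc (k : ℕ) (c : ZMod p) (j₀ : Fin k) : Fn p k :=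
  fun x => if x.1 = j₀ ∧ trsq p x.2 = c then 1 else 0

theorem fc_apply (k : ℕ) (c : ZMod p) (j₀ : Fin k) (j : Fin k) (x : PSL p) :
    fc p k c j₀ (j, x) = if j = j₀ ∧ trsq p x = c then 1 else 0 := rfl

end Cfsg.Agent.Lib.S3452
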