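import Mathlib
import Cfsg.Agent.Lib.Helper4.SUClass.Defs
import Cfsg.Agent.Lib.Helper4.GLClassPar

set_option autoImplicit false
set_option linter.unusedSectionVars false
set_option linter.unusedVariables false

/-! S2481 package PK-CNT : counting self-conjugate-reciprocal polynomials -/

namespace Cfsg.Agent.Lib.Helper4.SUClass

open Polynomial Cfsg.Agent.S0278 Cfsg.Agent.Lib.Helper5.GLClass Cfsg.Agent.Lib.Helper5.SLClass
open Cfsg.Agent.Lib.Helper5.Wall

universe u

variable {K : Type u} [Field K] [Fintype K] {q : ℕ}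

namespace PkCNT

/-! ### the four facts on `tl` used here (own copies, so that this file does not wait for PK-TL) -/

theorem tl_one' (hK : Fintype.card K = q ^ 2) : tl hK (1 : K[X]) = 1 := by
  unfold tl
  have h : reverse (1 : K[X]) = 1 := by
    have := reverse_C (1 : K)
    rwa [C_1] at this
  simp [h]

theorem map_coeff_zero_ne (hK : Fintype.card K = q ^ 2) {P : K[X]} (h0 : P.coeff 0 ≠ 0) :
    (P.map (powQ hK)).coeff 0 ≠ 0 := by
  rw [coeff_map]
  exact fun h => h0 ((map_eq_zero (powQ hK)).1 h)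

theorem powQ_coeff_ne (hK : Fintype.card K = q ^ 2) {P : K[X]} (h0 : P.coeff 0 ≠ 0) :
    (powQ hK (P.coeff 0))⁻¹ ≠ 0 :=
  inv_ne_zero (fun h => h0 ((map_eq_zero (powQ hK)).1 h))

theorem natTrailingDegree_map_zero (hK : Fintype.card K = q ^ 2) {P : K[X]} (h0 : P.coeff 0 ≠ 0) :
    (P.map (powQ hK)).natTrailingDegree = 0 :=
  Nat.le_zero.mp (natTrailingDegree_le_of_ne_zero (map_coeff_zero_ne hK h0))

theorem tl_natDegree' (hK : Fintype.card K = q ^ 2) {P : K[X]} (h0 : P.coeff 0 ≠ 0) :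
    (tl hK P).natDegree = P.natDegree := by
  unfold tl
  rw [natDegree_C_mul (powQ_coeff_ne hK h0), reverse_natDegree, natTrailingDegree_map_zero hK h0,
    Nat.sub_zero, natDegree_map]

theorem tl_coeff' (hK : Fintype.card K = q ^ 2) {P : K[X]} (h0 : P.coeff 0 ≠ 0) (i : ℕ)
    (hi : i ≤ P.natDegree) :
    (tl hK P).coeff i = ((P.coeff 0) ^ q)⁻¹ * (P.coeff (P.natDegree - i)) ^ q := by
  unfold tl
  rw [coeff_C_mul, coeff_reverse, natDegree_map, revAt_le hi, coeff_map]
  rfl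

theorem tl_monic' (hK : Fintype.card K = q ^ 2) {P : K[X]} (h0 : P.coeff 0 ≠ 0) : (tl hK P).Monic := by
  unfold Monic leadingCoeff
  rw [tl_natDegree' hK h0, tl_coeff' hK h0 _ le_rfl, Nat.sub_self]
  exact inv_mul_cancel₀ (pow_ne_zero _ h0)

/-! ### fixed points of a semilinear involution -/

theorem pow_q_sq (hK : Fintype.card K = q ^ 2) (x : K) : (x ^ q) ^ q = x := by
  rw [← pow_mul, ← sq, ← hK, FiniteField.pow_card]

/-- a `σ`-semilinear involution of a finite `K`-space `V` has `√|V|` fixed points -/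
theorem card_fix_sq (hK : Fintype.card K = q ^ 2) {V : Type*} [AddCommGroup V] [Module K V] [Finite V]
    (T : V → V) (hadd : ∀ a b, T (a + b) = T a + T b) (hsmul : ∀ (c : K) a, T (c • a) = c ^ q • T a)
    (hinv : ∀ a, T (T a) = a) :
    Nat.card {a : V // T a = a} ^ 2 = Nat.card V := by
  obtain ⟨θ, hθ⟩ := exists_pow_ne hK
  have hd : θ - θ ^ q ≠ 0 := fun h => hθ (sub_eq_zero.mp h).symm
  have hneg : ∀ a, T (-a) = -T a := by
    intro a
    have h1 : T (a + -a) = T a + T (-a) := hadd _ _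
    have h0 : T 0 = 0 := by
      have := hadd 0 0
      rw [add_zero] at this
      exact (add_eq_left.mp this.symm)
    rw [add_neg_cancel, h0] at h1
    exact (neg_eq_of_add_eq_zero_right h1.symm).symm
  have hsub : ∀ a b, T (a - b) = T a - T b := by
    intro a b
    rw [sub_eq_add_neg, hadd, hneg, ← sub_eq_add_neg]
  have hdq : (θ - θ ^ q) ^ q = -(θ - θ ^ q) := by
    have h1 : (θ - θ ^ q) ^ q = powQ hK (θ - θ ^ q) := rfl
    rw [h1, map_sub, powQ_apply, powQ_apply, pow_q_sq hK]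
    ring
  -- the components
  have hy : ∀ a, T ((θ - θ ^ q)⁻¹ • (a - T a)) = (θ - θ ^ q)⁻¹ • (a - T a) := by
    intro a
    rw [hsmul, hsub, hinv, inv_pow, hdq, inv_neg, neg_smul, ← smul_neg, neg_sub]
  have hx : ∀ a, T (a - θ • (θ - θ ^ q)⁻¹ • (a - T a)) = a - θ • (θ - θ ^ q)⁻¹ • (a - T a) := by
    intro a
    rw [hsub, hsmul, hy]
    have e : a - θ • (θ - θ ^ q)⁻¹ • (a - T a) - (T a - θ ^ q • (θ - θ ^ q)⁻¹ • (a - T a)) =
        (a - T a) - (θ - θ ^ q) • (θ - θ ^ q)⁻¹ • (a - T a) := by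
      rw [sub_smul]; abel
    have e2 : (θ - θ ^ q) • (θ - θ ^ q)⁻¹ • (a - T a) = a - T a := by
      rw [smul_smul, mul_inv_cancel₀ hd, one_smul]
    rw [e2, sub_self] at e
    exact (sub_eq_zero.mp e).symm
  rw [sq, ← Nat.card_prod]
  apply Nat.card_congr
  refine ⟨fun xy => xy.1.1 + θ • xy.2.1,
    fun a => (⟨a - θ • (θ - θ ^ q)⁻¹ • (a - T a), hx a⟩, ⟨(θ - θ ^ q)⁻¹ • (a - T a), hy a⟩), ?_, ?_⟩
  · rintro ⟨⟨x, hxf⟩, ⟨y, hyf⟩⟩
    have h1 : x + θ • y - T (x + θ • y) = (θ - θ ^ q) • y := by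
      rw [hadd, hsmul, hxf, hyf, sub_smul]; abel
    have h2 : (θ - θ ^ q)⁻¹ • (x + θ • y - T (x + θ • y)) = y := by
      rw [h1, smul_smul, inv_mul_cancel₀ hd, one_smul]
    apply Prod.ext
    · apply Subtype.ext
      show x + θ • y - θ • (θ - θ ^ q)⁻¹ • (x + θ • y - T (x + θ • y)) = x
      rw [h2]; abel
    · apply Subtype.ext
      exact h2
  · intro a
    show a - θ • (θ - θ ^ q)⁻¹ • (a - T a) + θ • (θ - θ ^ q)⁻¹ • (a - T a) = a
    abel

/-! ### the coefficient description of `PolyDU` -/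

theorem monic_ext {f g : K[X]} (hf : f.Monic) (hg : g.Monic) (hd : f.natDegree = g.natDegree)
    (h : ∀ i, i < f.natDegree → f.coeff i = g.coeff i) : f = g := by
  ext i
  rcases lt_trichotomy i f.natDegree with hi | hi | hi
  · exact h i hi
  · rw [hi, hf.coeff_natDegree, hd, hg.coeff_natDegree]
  · rw [coeff_eq_zero_of_natDegree_lt hi, coeff_eq_zero_of_natDegree_lt (hd ▸ hi)]

/-- the semilinear involution on the middle coefficients -/
def Tc (q : ℕ) (c : K) {d : ℕ} (a : Fin d → K) : Fin d → K :=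
  fun j => (c ^ q)⁻¹ * (a (Fin.rev j)) ^ q

/-- the polynomial with constant term `c` and middle coefficients `a` -/
noncomputable def mkP (c : K) {d : ℕ} (a : Fin d → K) : K[X] :=
  Cfsg.Agent.Lib.Helper5.polyOf (Fin.cons c a : Fin (d + 1) → K)

theorem mkP_monic (c : K) {d : ℕ} (a : Fin d → K) : (mkP c a).Monic :=
  Cfsg.Agent.Lib.Helper5.polyOf_monic _

theorem mkP_natDegree (c : K) {d : ℕ} (a : Fin d → K) : (mkP c a).natDegree = d + 1 :=
  Cfsg.Agent.Lib.Helper5.polyOf_natDegree _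

theorem mkP_coeff_zero (c : K) {d : ℕ} (a : Fin d → K) : (mkP c a).coeff 0 = c := by
  have := Cfsg.Agent.Lib.Helper5.polyOf_coeff (Fin.cons c a : Fin (d + 1) → K) 0
  rw [Fin.val_zero] at this
  rw [mkP, this, Fin.cons_zero]

theorem mkP_coeff_succ (c : K) {d : ℕ} (a : Fin d → K) (j : Fin d) :
    (mkP c a).coeff (j.val + 1) = a j := by
  have := Cfsg.Agent.Lib.Helper5.polyOf_coeff (Fin.cons c a : Fin (d + 1) → K) j.succ
  rw [Fin.val_succ] at this
  rw [mkP, this, Fin.cons_succ]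

theorem mkP_coeffs {d : ℕ} (f : K[X]) (hm : f.Monic) (hd : f.natDegree = d + 1) :
    mkP (f.coeff 0) (fun j : Fin d => f.coeff (j.val + 1)) = f := by
  have h := Cfsg.Agent.Lib.Helper5.polyOf_coeff_eq f hm hd
  rw [mkP, ← h]
  congr 1
  funext i
  refine Fin.cases ?_ (fun j => ?_) i
  · rw [Fin.cons_zero, Fin.val_zero, h]
  · rw [Fin.cons_succ, Fin.val_succ, h]

theorem tl_mkP_coeff_succ (hK : Fintype.card K = q ^ 2) {c : K} (hc : c ≠ 0) {d : ℕ} (a : Fin d → K)
    (j : Fin d) : (tl hK (mkP c a)).coeff (j.val + 1) = Tc q c a j := by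
  have h0 : (mkP c a).coeff 0 ≠ 0 := by rw [mkP_coeff_zero]; exact hc
  rw [tl_coeff' hK h0 _ (by rw [mkP_natDegree]; omega), mkP_coeff_zero, mkP_natDegree]
  have e : d + 1 - (j.val + 1) = (Fin.rev j).val + 1 := by
    rw [Fin.val_rev]; omega
  rw [e, mkP_coeff_succ]
  rfl

theorem tl_mkP_coeff_zero (hK : Fintype.card K = q ^ 2) {c : K} (hc : c ≠ 0) {d : ℕ} (a : Fin d → K) :
    (tl hK (mkP c a)).coeff 0 = (c ^ q)⁻¹ := by
  have h0 : (mkP c a).coeff 0 ≠ 0 := by rw [mkP_coeff_zero]; exact hc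
  rw [tl_coeff' hK h0 _ (Nat.zero_le _), mkP_coeff_zero, Nat.sub_zero, (mkP_monic c a).coeff_natDegree,
    one_pow, mul_one]

theorem tl_mkP_eq_iff (hK : Fintype.card K = q ^ 2) {c : K} (hc : c ^ (q + 1) = 1) {d : ℕ}
    (a : Fin d → K) : tl hK (mkP c a) = mkP c a ↔ Tc q c a = a := by
  have hc0 : c ≠ 0 := by
    rintro rfl
    rw [zero_pow (Nat.succ_ne_zero q)] at hc
    exact zero_ne_one hc
  have h0 : (mkP c a).coeff 0 ≠ 0 := by rw [mkP_coeff_zero]; exact hc0
  constructor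
  · intro h
    funext j
    rw [← tl_mkP_coeff_succ hK hc0, h, mkP_coeff_succ]
  · intro h
    apply monic_ext (tl_monic' hK h0) (mkP_monic c a) (tl_natDegree' hK h0)
    intro i hi
    rw [tl_natDegree' hK h0, mkP_natDegree] at hi
    rcases Nat.eq_zero_or_pos i with rfl | hpos
    · rw [tl_mkP_coeff_zero hK hc0, mkP_coeff_zero]
      have hcq : c ^ q ≠ 0 := pow_ne_zero _ hc0
      rw [inv_eq_iff_eq_inv, ← one_div, eq_div_iff hc0, ← pow_succ]
      exact hc
    · obtain ⟨j, rfl⟩ : ∃ j : Fin d, i = j.val + 1 := ⟨⟨i - 1, by omega⟩, by simp; omega⟩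
      rw [tl_mkP_coeff_succ hK hc0, h, mkP_coeff_succ]

theorem Tc_add (hK : Fintype.card K = q ^ 2) (c : K) {d : ℕ} (a b : Fin d → K) :
    Tc q c (a + b) = Tc q c a + Tc q c b := by
  funext j
  simp only [Tc, Pi.add_apply]
  have h : (a j.rev + b j.rev) ^ q = a j.rev ^ q + b j.rev ^ q := map_add (powQ hK) _ _
  rw [h, mul_add]

theorem Tc_smul (c : K) {d : ℕ} (x : K) (a : Fin d → K) :
    Tc q c (x • a) = x ^ q • Tc q c a := by
  funext j
  simp only [Tc, Pi.smul_apply, smul_eq_mul, mul_pow]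
  ring

theorem Tc_Tc (hK : Fintype.card K = q ^ 2) {c : K} (hc : c ^ (q + 1) = 1) {d : ℕ} (a : Fin d → K) :
    Tc q c (Tc q c a) = a := by
  have hc0 : c ≠ 0 := by
    rintro rfl
    rw [zero_pow (Nat.succ_ne_zero q)] at hc
    exact zero_ne_one hc
  funext j
  simp only [Tc, Fin.rev_rev, mul_pow, inv_pow]
  rw [pow_q_sq hK, pow_q_sq hK, ← mul_assoc, ← mul_inv, ← pow_succ, hc, inv_one, one_mul]

/-- the fibre of `PolyDU` over the constant term `c` -/
noncomputable def fibEquiv (hK : Fintype.card K = q ^ 2) (d : ℕ) (c : K) (hc : c ^ (q + 1) = 1) :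
    {f : K[X] // f ∈ PolyDU hK (d + 1) ∧ f.coeff 0 = c} ≃ {a : Fin d → K // Tc q c a = a} where
  toFun f := ⟨fun j => f.1.coeff (j.val + 1), by
    obtain ⟨⟨⟨hm, hd, h0⟩, htl⟩, hfc⟩ := f.2
    have e := mkP_coeffs f.1 hm hd
    rw [hfc] at e
    rw [← tl_mkP_eq_iff hK hc, e]
    exact htl⟩
  invFun a := ⟨mkP c a.1, by
    have hc0 : c ≠ 0 := by
      rintro rfl
      rw [zero_pow (Nat.succ_ne_zero q)] at hc
      exact zero_ne_one hc
    refine ⟨⟨⟨mkP_monic c a.1, mkP_natDegree c a.1, by rw [mkP_coeff_zero]; exact hc0⟩, ?_⟩,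
      mkP_coeff_zero c a.1⟩
    exact (tl_mkP_eq_iff hK hc a.1).2 a.2⟩
  left_inv f := by
    obtain ⟨⟨⟨hm, hd, h0⟩, htl⟩, hfc⟩ := f.2
    apply Subtype.ext
    have e := mkP_coeffs f.1 hm hd
    rw [hfc] at e
    exact e
  right_inv a := by
    apply Subtype.ext
    funext j
    exact mkP_coeff_succ c a.1 j

end PkCNT

open PkCNT

theorem coeff_zero_of_mem_PolyDU (hK : Fintype.card K = q ^ 2) {d : ℕ} {f : K[X]}
    (hf : f ∈ PolyDU hK d) : (f.coeff 0) ^ (q + 1) = 1 := by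
  obtain ⟨⟨hm, hd, h0⟩, htl⟩ := hf
  have h1 := tl_coeff' hK h0 0 (Nat.zero_le _)
  rw [htl, Nat.sub_zero, hm.coeff_natDegree, one_pow, mul_one] at h1
  have hcq : f.coeff 0 ^ q ≠ 0 := pow_ne_zero _ h0
  have h2 : f.coeff 0 ^ q * f.coeff 0 = 1 := by
    have h3 : f.coeff 0 ^ q * f.coeff 0 = f.coeff 0 ^ q * (f.coeff 0 ^ q)⁻¹ := by rw [← h1]
    rw [h3]
    exact mul_inv_cancel₀ hcq
  rw [pow_succ]
  exact h2

theorem card_PolyDU_coeff (hK : Fintype.card K = q ^ 2) (d : ℕ) (c : K) (hc : c ^ (q + 1) = 1) :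
    Nat.card {f : K[X] // f ∈ PolyDU hK (d + 1) ∧ f.coeff 0 = c} = q ^ d := by
  rw [Nat.card_congr (fibEquiv hK d c hc)]
  have h := card_fix_sq hK (V := Fin d → K) (Tc q c) (Tc_add hK c) (fun x a => Tc_smul c x a)
    (Tc_Tc hK hc)
  rw [Nat.card_eq_fintype_card (α := Fin d → K), Fintype.card_fun, Fintype.card_fin, hK, ← pow_mul,
    mul_comm, pow_mul] at h
  exact Nat.pow_left_injective (by norm_num : 2 ≠ 0) h

namespace PkCNT

theorem ne_zero_of_pow_eq_one {c : K} (hc : c ^ (q + 1) = 1) : c ≠ 0 := by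
  rintro rfl
  rw [zero_pow (Nat.succ_ne_zero q)] at hc
  exact zero_ne_one hc

/-- the `(q+1)`-th roots of unity of `K`, as elements of `K` -/
theorem card_roots (hK : Fintype.card K = q ^ 2) : Nat.card {c : K // c ^ (q + 1) = 1} = q + 1 := by
  have hq := Cfsg.Agent.Lib.Helper1.HermCount.two_le_q hK
  have h1 := IsCyclic.card_powMonoidHom_ker (G := Kˣ) (q + 1)
  rw [Nat.card_units, Nat.card_eq_fintype_card (α := K), hK] at h1
  have h2 : Nat.gcd (q ^ 2 - 1) (q + 1) = q + 1 := by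
    apply Nat.gcd_eq_right
    refine ⟨q - 1, ?_⟩
    have : q ^ 2 = (q + 1) * (q - 1) + 1 := by
      obtain ⟨r, rfl⟩ : ∃ r, q = r + 1 := ⟨q - 1, by omega⟩
      simp only [Nat.add_sub_cancel]
      ring
    omega
  rw [h2] at h1
  refine Eq.trans (Nat.card_congr ?_) h1
  refine ⟨fun c => ⟨Units.mk0 c.1 (ne_zero_of_pow_eq_one c.2), ?_⟩, fun u => ⟨(u.1 : K), ?_⟩, ?_, ?_⟩
  · rw [MonoidHom.mem_ker, powMonoidHom_apply]
    apply Units.ext
    rw [Units.val_pow_eq_pow_val, Units.val_mk0, Units.val_one]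
    exact c.2
  · have := u.2
    rw [MonoidHom.mem_ker, powMonoidHom_apply] at this
    have h3 := congrArg Units.val this
    rw [Units.val_pow_eq_pow_val, Units.val_one] at h3
    exact h3
  · intro c
    apply Subtype.ext
    rfl
  · intro u
    apply Subtype.ext
    apply Units.ext
    rfl

theorem polyDU_zero (hK : Fintype.card K = q ^ 2) : PolyDU hK 0 = {1} := by
  ext f
  simp only [PolyDU, Set.mem_setOf_eq, Set.mem_singleton_iff]
  constructor
  · rintro ⟨hf, -⟩
    rw [polyD_zero] at hf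
    exact hf
  · rintro rfl
    refine ⟨?_, tl_one' hK⟩
    rw [polyD_zero]
    rfl

theorem finite_PolyDU (hK : Fintype.card K = q ^ 2) (d : ℕ) : (PolyDU hK d).Finite :=
  Set.Finite.subset (finite_PolyD d) (fun f hf => hf.1)

end PkCNT

theorem card_PolyDU (hK : Fintype.card K = q ^ 2) (d : ℕ) : Nat.card (PolyDU hK d) = NU q d := by
  classical
  rcases d with _ | d
  · rw [polyDU_zero hK]
    simp [NU]
  · haveI : Finite (PolyDU hK (d + 1)) := (finite_PolyDU hK (d + 1)).to_subtype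
    haveI : Finite {c : K // c ^ (q + 1) = 1} := Subtype.finite
    haveI : Fintype {c : K // c ^ (q + 1) = 1} := Fintype.ofFinite _
    let g : PolyDU hK (d + 1) → {c : K // c ^ (q + 1) = 1} :=
      fun f => ⟨f.1.coeff 0, coeff_zero_of_mem_PolyDU hK f.2⟩
    rw [← Nat.card_congr (Equiv.sigmaFiberEquiv g), Nat.card_sigma]
    have hfib : ∀ c : {c : K // c ^ (q + 1) = 1}, Nat.card {f : PolyDU hK (d + 1) // g f = c} = q ^ d := by
      intro c
      rw [← card_PolyDU_coeff hK d c.1 c.2]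
      apply Nat.card_congr
      refine ⟨fun f => ⟨f.1.1, f.1.2, congrArg Subtype.val f.2⟩,
        fun f => ⟨⟨f.1, f.2.1⟩, Subtype.ext f.2.2⟩, fun f => rfl, fun f => rfl⟩
    rw [Finset.sum_congr rfl (fun c _ => hfib c), Finset.sum_const, Finset.card_univ,
      ← Nat.card_eq_fintype_card, card_roots hK, smul_eq_mul]
    simp only [NU, Nat.succ_ne_zero, if_false, Nat.add_sub_cancel]
    ring

/-- moving the constant term by `t ∈ μ` -/
theorem exists_scale_poly (hK : Fintype.card K = q ^ 2) (d : ℕ) (t : K) (ht : t ^ (q + 1) = 1) :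
    ∃ φ : K[X] → K[X], (∀ f ∈ PolyDU hK d, φ f ∈ PolyDU hK d ∧ (d ≠ 0 → (φ f).coeff 0 = t * f.coeff 0)) ∧
      Set.InjOn φ (PolyDU hK d) := by
  classical
  rcases d with _ | d
  · exact ⟨id, fun f hf => ⟨hf, fun h => absurd rfl h⟩, fun f _ f' _ h => h⟩
  · have hmul : ∀ c : K, c ^ (q + 1) = 1 → (t * c) ^ (q + 1) = 1 := by
      intro c hc
      rw [mul_pow, ht, hc, one_mul]
    have ht0 : t ≠ 0 := ne_zero_of_pow_eq_one ht
    have hfin : ∀ c : K, Finite {f : K[X] // f ∈ PolyDU hK (d + 1) ∧ f.coeff 0 = c} := by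
      intro c
      haveI : Finite (PolyDU hK (d + 1)) := (finite_PolyDU hK (d + 1)).to_subtype
      exact Finite.of_injective
        (fun f : {f : K[X] // f ∈ PolyDU hK (d + 1) ∧ f.coeff 0 = c} =>
          (⟨f.1, f.2.1⟩ : PolyDU hK (d + 1)))
        (fun f f' h => Subtype.ext (congrArg (fun x : PolyDU hK (d + 1) => x.1) h))
    have hex : ∀ c : {c : K // c ^ (q + 1) = 1},
        Nonempty ({f : K[X] // f ∈ PolyDU hK (d + 1) ∧ f.coeff 0 = c.1} ≃
          {f : K[X] // f ∈ PolyDU hK (d + 1) ∧ f.coeff 0 = t * c.1}) := by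
      intro c
      haveI := hfin c.1
      haveI := hfin (t * c.1)
      rw [← Finite.card_eq, card_PolyDU_coeff hK d c.1 c.2, card_PolyDU_coeff hK d _ (hmul c.1 c.2)]
    choose e he using fun c => (⟨(hex c).some, trivial⟩ : ∃ e : ({f : K[X] // f ∈ PolyDU hK (d + 1) ∧ f.coeff 0 = c.1} ≃
          {f : K[X] // f ∈ PolyDU hK (d + 1) ∧ f.coeff 0 = t * c.1}), True)
    -- the map on the total space
    let Fm : (Σ c : {c : K // c ^ (q + 1) = 1},
        {f : K[X] // f ∈ PolyDU hK (d + 1) ∧ f.coeff 0 = c.1}) → K[X] := fun s => (e s.1 s.2).1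
    have hFm : Function.Injective Fm := by
      rintro ⟨c, f⟩ ⟨c', f'⟩ h
      have h1 : (e c f).1 = (e c' f').1 := h
      have hc : c = c' := by
        apply Subtype.ext
        have h2 := (e c f).2.2
        have h3 := (e c' f').2.2
        rw [h1, h3] at h2
        exact mul_left_cancel₀ ht0 h2.symm
      subst hc
      have h4 : e c f = e c f' := Subtype.ext h1
      rw [(e c).injective h4]
    refine ⟨fun f => if h : f ∈ PolyDU hK (d + 1) then
      Fm ⟨⟨f.coeff 0, coeff_zero_of_mem_PolyDU hK h⟩, ⟨f, h, rfl⟩⟩ else f, ?_, ?_⟩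
    · intro f hf
      simp only [dif_pos hf]
      exact ⟨(e _ _).2.1, fun _ => (e _ _).2.2⟩
    · intro f hf f' hf' h
      simp only [dif_pos hf, dif_pos hf'] at h
      have h2 := hFm h
      exact congrArg (fun s => s.2.1) h2

namespace PkCNT

theorem mem_ParU_succ_iff (hK : Fintype.card K = q ^ 2) (m n : ℕ) (f : Fin (m + 1) → K[X]) :
    f ∈ ParU hK (m + 1) n ↔
      (f (Fin.last m)) ∈ PolyDU hK (f (Fin.last m)).natDegree ∧
        (m + 1) * (f (Fin.last m)).natDegree ≤ n ∧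
        (fun j : Fin m => f j.castSucc) ∈ ParU hK m (n - (m + 1) * (f (Fin.last m)).natDegree) := by
  unfold ParU PolyDU PolyD
  simp only [Set.mem_setOf_eq]
  rw [mem_Par_succ_iff, Fin.forall_fin_succ']
  constructor
  · rintro ⟨⟨h1, h2, h3⟩, h4, h5⟩
    exact ⟨⟨⟨h1.1, trivial, h1.2⟩, h5⟩, h2, h3, h4⟩
  · rintro ⟨⟨⟨h1, -, h1'⟩, h5⟩, h2, h3, h4⟩
    exact ⟨⟨⟨h1, h1'⟩, h2, h3⟩, h4, h5⟩

/-- the fibre of `ParU hK (m+1) n` over `deg f_last = d` -/
noncomputable def parUFiberEquiv (hK : Fintype.card K = q ^ 2) (m n d : ℕ) (hd : (m + 1) * d ≤ n) :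
    {f : ParU hK (m + 1) n // (f.1 (Fin.last m)).natDegree = d} ≃
      (PolyDU hK d) × (ParU hK m (n - (m + 1) * d)) where
  toFun f := (⟨f.1.1 (Fin.last m), by
      have h := (mem_ParU_succ_iff hK m n f.1.1).1 f.1.2
      have h1 := h.1
      rw [f.2] at h1
      exact h1⟩,
    ⟨fun j => f.1.1 j.castSucc, by
      have h := (mem_ParU_succ_iff hK m n f.1.1).1 f.1.2
      have h2 := h.2.2
      rw [f.2] at h2
      exact h2⟩)
  invFun pg := ⟨⟨Fin.snoc (α := fun _ => K[X]) pg.2.1 pg.1.1, by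
      rw [mem_ParU_succ_iff]
      simp only [Fin.snoc_last, Fin.snoc_castSucc]
      have hdeg : pg.1.1.natDegree = d := pg.1.2.1.2.1
      rw [hdeg]
      exact ⟨pg.1.2, hd, pg.2.2⟩⟩, by
      simp only [Fin.snoc_last]
      exact pg.1.2.1.2.1⟩
  left_inv f := by
    apply Subtype.ext
    apply Subtype.ext
    funext j
    refine Fin.lastCases ?_ (fun i => ?_) j
    · simp only [Fin.snoc_last]
    · simp only [Fin.snoc_castSucc]
  right_inv pg := by
    apply Prod.ext
    · apply Subtype.ext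
      simp only [Fin.snoc_last]
    · apply Subtype.ext
      funext j
      simp only [Fin.snoc_castSucc]

end PkCNT

/-- realises the unfolding lemmas of the definitions of this file -/
theorem PkCNT.cnt_defs_realize : True := by
  have := @PkCNT.Tc.eq_1.{0}
  have := @PkCNT.Tc.eq_def.{0}
  have := @PkCNT.mkP.eq_1.{0}
  have := @PkCNT.mkP.eq_def.{0}
  have := @PkCNT.fibEquiv.eq_1.{0}
  have := @PkCNT.fibEquiv.eq_def.{0}
  have := @PkCNT.parUFiberEquiv.eq_1.{0}
  have := @PkCNT.parUFiberEquiv.eq_def.{0}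
  trivial

theorem finite_ParU (hK : Fintype.card K = q ^ 2) (m n : ℕ) : (ParU hK m n).Finite :=
  Set.Finite.subset (finite_Par m n) (fun f hf => hf.1)

theorem card_ParU (hK : Fintype.card K = q ^ 2) (m n : ℕ) : Nat.card (ParU hK m n) = UN q m n := by
  induction m generalizing n with
  | zero =>
    by_cases hn : n = 0
    · subst hn
      have h1 : ParU hK 0 0 = Set.univ := by
        ext f
        simp [ParU, Par]
      rw [h1]
      simp [UN]
    · have h1 : ParU hK 0 n = ∅ := by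
        ext f
        simp only [ParU, Par, Set.mem_setOf_eq, Set.mem_empty_iff_false, iff_false, not_and]
        intro h
        exfalso
        simp only [Finset.univ_eq_empty, Finset.sum_empty] at h
        exact hn h.2.symm
      rw [h1]
      simp [UN, hn]
  | succ m ih =>
    haveI : Finite (ParU hK (m + 1) n) := (finite_ParU hK (m + 1) n).to_subtype
    have hb : ∀ f : ParU hK (m + 1) n, (f.1 (Fin.last m)).natDegree < n / (m + 1) + 1 := by
      intro f
      have h := ((mem_ParU_succ_iff hK m n f.1).1 f.2).2.1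
      have h1 : (f.1 (Fin.last m)).natDegree ≤ n / (m + 1) := by
        calc (f.1 (Fin.last m)).natDegree
            = (m + 1) * (f.1 (Fin.last m)).natDegree / (m + 1) :=
              (Nat.mul_div_cancel_left _ (Nat.succ_pos m)).symm
          _ ≤ n / (m + 1) := Nat.div_le_div_right h
      omega
    let g : ParU hK (m + 1) n → Fin (n / (m + 1) + 1) :=
      fun f => ⟨(f.1 (Fin.last m)).natDegree, hb f⟩
    rw [← Nat.card_congr (Equiv.sigmaFiberEquiv g), Nat.card_sigma]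
    rw [UN, ← Fin.sum_univ_eq_sum_range
      (fun d => NU q d * UN q m (n - (m + 1) * d)) (n / (m + 1) + 1)]
    apply Finset.sum_congr rfl
    intro y _
    have hy : (m + 1) * y.val ≤ n := by
      exact le_trans (Nat.mul_le_mul_left _ (Nat.lt_succ_iff.1 y.2)) (Nat.mul_div_le n (m + 1))
    rw [← card_PolyDU hK, ← ih, ← Nat.card_prod]
    refine Nat.card_congr ((Equiv.subtypeEquivRight (fun f => ?_)).trans
      (parUFiberEquiv hK m n y.val hy))
    exact Fin.ext_iff

end Cfsg.Agent.Lib.Helper4.SUClass
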