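import Mathlib
import Cfsg.Agent.Lib.Lead.HallThm4
import Cfsg.Agent.Lib.Lead.HallCount3
import Cfsg.Agent.Lib.Lead.GenCentralizers
import Cfsg.Agent.Lib.Helper2.MinNormal
import Cfsg.Agent.Lib.Helper7.CoprimeHall3
import Cfsg.Agent.S3765

set_option autoImplicit false
set_option linter.style.haveILetI false
set_option linter.unusedSectionVars false
set_option linter.unusedVariables false

/-! Tools for the four-primes nonsolvability criterion (row 3814): element orders in quotients
and subgroups, Hall subgroups of solvable groups, coprime action of rank two groups,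
Frobenius actions and Lucido's three primes lemma. -/

namespace Cfsg.Agent.Lib.Helper5.SolvTri

open Cfsg.Agent.Lib.Lead
open scoped Pointwise

universe u

section basic
variable {G : Type u} [Group G]

/-- an element order of a surjective image is an element order -/
theorem exists_orderOf_of_surj [Finite G] {Q : Type*} [Group Q] (f : G →* Q)
    (hf : Function.Surjective f) {n : ℕ} (h : ∃ g' : Q, orderOf g' = n) :
    ∃ g : G, orderOf g = n := by
  obtain ⟨g', hg'⟩ := h
  obtain ⟨g, rfl⟩ := hf g'
  have h1 : n ∣ orderOf g := by rw [← hg']; exact orderOf_map_dvd f g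
  exact ⟨g ^ (orderOf g / n), orderOf_pow_orderOf_div (orderOf_pos g).ne' h1⟩

/-- product of two commuting elements of distinct prime orders -/
theorem orderOf_mul_primes {a b : ℕ} (ha : a.Prime) (hb : b.Prime) (hab : a ≠ b) {x y : G}
    (hx : orderOf x = a) (hy : orderOf y = b) (hc : Commute x y) : orderOf (x * y) = a * b := by
  have hcop : Nat.Coprime (orderOf x) (orderOf y) := by
    rw [hx, hy]; exact (Nat.coprime_primes ha hb).mpr hab
  rw [hc.orderOf_mul_eq_mul_orderOf_of_coprime hcop, hx, hy]

/-- product of three pairwise commuting elements of distinct prime orders -/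
theorem orderOf_mul_three {a b c : ℕ} (ha : a.Prime) (hb : b.Prime) (hc : c.Prime) (hab : a ≠ b)
    (hac : a ≠ c) (hbc : b ≠ c) {x y z : G}
    (hx : orderOf x = a) (hy : orderOf y = b) (hz : orderOf z = c) (hxy : Commute x y)
    (hxz : Commute x z) (hyz : Commute y z) : orderOf (x * y * z) = a * b * c := by
  have h1 := orderOf_mul_primes ha hb hab hx hy hxy
  have hcop : Nat.Coprime (orderOf (x * y)) (orderOf z) := by
    rw [h1, hz]
    exact Nat.Coprime.mul_left ((Nat.coprime_primes ha hc).mpr hac)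
      ((Nat.coprime_primes hb hc).mpr hbc)
  have hcm : Commute (x * y) z := hxz.mul_left hyz
  rw [hcm.orderOf_mul_eq_mul_orderOf_of_coprime hcop, h1, hz]

/-- an element of order `a * b` splits into commuting elements of orders `a` and `b` -/
theorem split_orderOf {a b : ℕ} (ha : 0 < a) (hb : 0 < b) {g : G} (hg : orderOf g = a * b) :
    ∃ x y : G, orderOf x = a ∧ orderOf y = b ∧ Commute x y ∧ x ∈ Subgroup.zpowers g ∧
      y ∈ Subgroup.zpowers g := by
  have h0 : orderOf g ≠ 0 := by rw [hg]; positivity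
  refine ⟨g ^ (orderOf g / a), g ^ (orderOf g / b), orderOf_pow_orderOf_div h0 ?_,
    orderOf_pow_orderOf_div h0 ?_, (Commute.refl g).pow_pow _ _,
    Subgroup.npow_mem_zpowers g _, Subgroup.npow_mem_zpowers g _⟩
  · rw [hg]; exact Dvd.intro _ rfl
  · rw [hg]; exact Dvd.intro_left _ rfl

theorem orderOf_conj' (g x : G) : orderOf (g * x * g⁻¹) = orderOf x := by
  have h : g * x * g⁻¹ = MulAut.conj g x := by simp [MulAut.conj_apply]
  rw [h]
  exact orderOf_injective (MulAut.conj g).toMonoidHom (MulAut.conj g).injective x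

/-- elements of a join `H ⊔ N` with `H` normalizing `N` are products -/
theorem mem_sup_nrm {H N : Subgroup G} (h : H ≤ Subgroup.normalizer (N : Set G)) {x : G}
    (hx : x ∈ H ⊔ N) : ∃ a ∈ H, ∃ b ∈ N, x = a * b := by
  have h1 : x ∈ ((H ⊔ N : Subgroup G) : Set G) := hx
  rw [Subgroup.coe_mul_of_left_le_normalizer_right H N h] at h1
  obtain ⟨a, ha, b, hb, hab⟩ := Set.mem_mul.mp h1
  exact ⟨a, ha, b, hb, hab.symm⟩

/-- `y` is *singular* on `P`: it has a nontrivial fixed point there -/
def Sing (P : Subgroup G) (y : G) : Prop := ∃ v ∈ P, v ≠ 1 ∧ Commute y v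

end basic

section rank2
variable {G : Type u} [Group G]

/-- the subgroup generated by two elements -/
def E2 (x y : G) : Subgroup G := Subgroup.closure {x, y}

theorem left_mem_E2 (x y : G) : x ∈ E2 x y := Subgroup.subset_closure (by simp)
theorem right_mem_E2 (x y : G) : y ∈ E2 x y := Subgroup.subset_closure (by simp)

theorem E2_prop {u : ℕ} {x y : G} (hx : x ^ u = 1) (hy : y ^ u = 1) (hc : Commute x y) {e : G}
    (he : e ∈ E2 x y) : e ^ u = 1 ∧ Commute e x ∧ Commute e y := by
  unfold E2 at he
  induction he using Subgroup.closure_induction with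
  | mem z hz =>
    rcases hz with rfl | hz
    · exact ⟨hx, Commute.refl _, hc⟩
    · rw [Set.mem_singleton_iff] at hz
      subst hz
      exact ⟨hy, hc.symm, Commute.refl _⟩
  | one => exact ⟨one_pow _, Commute.one_left _, Commute.one_left _⟩
  | mul a b _ _ iha ihb =>
    obtain ⟨ha1, ha2, ha3⟩ := iha
    obtain ⟨hb1, hb2, hb3⟩ := ihb
    have hab : Commute a b := by
      -- `b` is in the closure, and `a` commutes with the generators
      have : ∀ z ∈ Subgroup.closure ({x, y} : Set G), Commute a z := by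
        intro z hz
        induction hz using Subgroup.closure_induction with
        | mem w hw =>
          rcases hw with rfl | hw
          · exact ha2
          · rw [Set.mem_singleton_iff] at hw
            subst hw
            exact ha3
        | one => exact Commute.one_right _
        | mul c d _ _ ihc ihd => exact ihc.mul_right ihd
        | inv c _ ihc => exact ihc.inv_right
      exact this b (by assumption)
    exact ⟨by rw [hab.mul_pow, ha1, hb1, one_mul], ha2.mul_left hb2, ha3.mul_left hb3⟩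
  | inv a _ iha =>
    obtain ⟨ha1, ha2, ha3⟩ := iha
    exact ⟨by rw [inv_pow, ha1, inv_one], ha2.inv_left, ha3.inv_left⟩

theorem E2_comm {u : ℕ} {x y : G} (hx : x ^ u = 1) (hy : y ^ u = 1) (hc : Commute x y) :
    IsMulCommutative (E2 x y) := by
  refine ⟨⟨fun a b => Subtype.ext ?_⟩⟩
  have ha := E2_prop hx hy hc a.2
  have : ∀ z ∈ Subgroup.closure ({x, y} : Set G), Commute (a : G) z := by
    intro z hz
    induction hz using Subgroup.closure_induction with
    | mem w hw =>
      rcases hw with rfl | hw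
      · exact ha.2.1
      · rw [Set.mem_singleton_iff] at hw
        subst hw
        exact ha.2.2
    | one => exact Commute.one_right _
    | mul c d _ _ ihc ihd => exact ihc.mul_right ihd
    | inv c _ ihc => exact ihc.inv_right
  exact this b b.2

theorem E2_isPGroup {u : ℕ} {x y : G} (hx : x ^ u = 1) (hy : y ^ u = 1) (hc : Commute x y) :
    IsPGroup u (E2 x y) := by
  intro e
  refine ⟨1, Subtype.ext ?_⟩
  have := (E2_prop hx hy hc e.2).1
  simpa using this

theorem E2_orderOf {u : ℕ} (hu : u.Prime) {x y : G} (hx : x ^ u = 1) (hy : y ^ u = 1)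
    (hc : Commute x y) {e : G} (he : e ∈ E2 x y) (he1 : e ≠ 1) : orderOf e = u := by
  haveI : Fact u.Prime := ⟨hu⟩
  exact orderOf_eq_prime (E2_prop hx hy hc he).1 he1

theorem E2_not_cyclic [Finite G] {u : ℕ} (hu : u.Prime) {x y : G} (hx : orderOf x = u)
    (hy : orderOf y = u) (hc : Commute x y) (hyx : y ∉ Subgroup.zpowers x) :
    ¬ IsCyclic (E2 x y) := by
  intro hcyc
  have hxu : x ^ u = 1 := by rw [← hx]; exact pow_orderOf_eq_one x
  have hyu : y ^ u = 1 := by rw [← hy]; exact pow_orderOf_eq_one y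
  obtain ⟨g, hg⟩ := hcyc.exists_generator
  have hcard : Nat.card (E2 x y) = orderOf g := (orderOf_eq_card_of_forall_mem_zpowers hg).symm
  have hgu : (g : G) ^ u = 1 := (E2_prop hxu hyu hc g.2).1
  have hgu' : g ^ u = 1 := Subtype.ext (by simpa using hgu)
  have hle : Nat.card (E2 x y) ≤ u := by
    rw [hcard]; exact Nat.le_of_dvd hu.pos (orderOf_dvd_of_pow_eq_one hgu')
  have hzx : Subgroup.zpowers x ≤ E2 x y := by
    rw [Subgroup.zpowers_le]; exact left_mem_E2 x y
  have hcx : Nat.card (Subgroup.zpowers x) = u := by rw [Nat.card_zpowers, hx]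
  have heq : Subgroup.zpowers x = E2 x y :=
    Subgroup.eq_of_le_of_card_ge hzx (by rw [hcx]; exact hle)
  exact hyx (heq ▸ right_mem_E2 x y)

end rank2

section hall
variable (X : Type u) [Group X] [Finite X] [Group.IsSolvable X]

/-- existence of Hall subgroups in a solvable group -/
theorem hall_exists (m n : ℕ) (hcard : Nat.card X = m * n) (hcop : m.Coprime n) :
    ∃ H : Subgroup X, Nat.card H = m := by
  obtain ⟨-, hdom⟩ := hallProp_of_solvable X m n hcard hcop
  obtain ⟨H, hH, -⟩ := hdom ⊥ (by rw [Subgroup.card_bot]; exact Nat.coprime_one_left n)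
  exact ⟨H, hH⟩

/-- a subgroup of order prime to the index of a Hall subgroup is conjugate into it -/
theorem hall_conj_into (m n : ℕ) (hcard : Nat.card X = m * n) (hcop : m.Coprime n)
    (H : Subgroup X) (hH : Nat.card H = m) (U : Subgroup X) (hU : (Nat.card U).Coprime n) :
    ∃ g : X, ∀ u ∈ U, g * u * g⁻¹ ∈ H := by
  obtain ⟨hconj, hdom⟩ := hallProp_of_solvable X m n hcard hcop
  obtain ⟨H', hH', hUH'⟩ := hdom U hU
  obtain ⟨g, hg⟩ := hconj H' H hH' hH
  refine ⟨g, fun u hu => ?_⟩
  rw [← hg]
  have := Subgroup.smul_mem_pointwise_smul u (MulAut.conj g) H' (hUH' hu)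
  simpa [MulAut.smul_def, MulAut.conj_apply] using this

end hall

section action
variable {G : Type u} [Group G] [Finite G]

/-- a noncyclic abelian group acting coprimely on a nontrivial group has a nonidentity element
with a nontrivial fixed point -/
theorem exists_fix (A K : Subgroup G) [IsMulCommutative A] (hA : ¬ IsCyclic A)
    (hAK : A ≤ Subgroup.normalizer (K : Set G)) (hcop : (Nat.card A).Coprime (Nat.card K))
    (hK : K ≠ ⊥) : ∃ a ∈ A, a ≠ 1 ∧ ∃ v ∈ K, v ≠ 1 ∧ Commute a v := by
  by_contra hno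
  push Not at hno
  apply hK
  rw [← generated_by_centralizers A K hA hAK hcop, eq_bot_iff]
  refine iSup₂_le fun a ha => ?_
  intro v hv
  obtain ⟨hvK, hvC⟩ := Subgroup.mem_inf.mp hv
  rw [Subgroup.mem_bot]
  by_contra hv1
  refine hno a ha.1 ha.2 v hvK hv1 ?_
  exact (Subgroup.mem_centralizer_iff.mp hvC a (Set.mem_singleton a))

/-- Frobenius action: if `D` is an abelian `q`-group acting fixed point freely on the elementary
abelian `p`-group `V` and `y` of prime order `r` normalizes both and commutes with no nonidentity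
element of `D`, then `y` has a nontrivial fixed point on `V` -/
theorem frob_fix {p q r : ℕ} (hp : p.Prime) (hq : q.Prime) (hr : r.Prime) (hpq : p ≠ q)
    (hpr : p ≠ r) (hqr : q ≠ r) (V D : Subgroup G) (y : G) (hy : y ^ r = 1)
    (hV : Cfsg.IsElementaryAbelian p V) (hV1 : V ≠ ⊥)
    (hDc : ∀ a ∈ D, ∀ b ∈ D, a * b = b * a) (hDq : IsPGroup q D) (hD1 : D ≠ ⊥)
    (hDV : D ≤ Subgroup.normalizer (V : Set G)) (hyV : y ∈ Subgroup.normalizer (V : Set G))
    (hyD : y ∈ Subgroup.normalizer (D : Set G))
    (hfpf : ∀ d ∈ D, d ≠ 1 → ∀ v ∈ V, Commute d v → v = 1)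
    (hyfree : ∀ d ∈ D, Commute y d → d = 1) :
    ∃ v ∈ V, v ≠ 1 ∧ Commute y v := by
  by_contra hno
  push Not at hno
  have H4 : ∀ v ∈ V, y * v * y⁻¹ = v → v = 1 := by
    intro v hv h
    by_contra hv1
    apply hno v hv hv1
    show y * v = v * y
    calc y * v = (y * v * y⁻¹) * y := by group
      _ = v * y := by rw [h]
  have hmain := Cfsg.Agent.Lib.Helper4.HH.hh_sub V (Subgroup.normalizer (V : Set G)) p hp hV
    le_rfl y hyV q r hq hr hqr hpq.symm hpr.symm hy H4 D hDV hDq
    (fun m hm => (Subgroup.mem_normalizer_iff.1 hyD m).1 hm)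
    (by
      intro _ _ a ha b hb v _
      rw [hDc a ha b hb])
  obtain ⟨d, hd1⟩ := (Subgroup.ne_bot_iff_exists_ne_one).1 hD1
  have hd1' : (d : G) ≠ 1 := fun h => hd1 (Subtype.ext h)
  obtain ⟨v0, hv01⟩ := (Subgroup.ne_bot_iff_exists_ne_one).1 hV1
  have hv01' : (v0 : G) ≠ 1 := fun h => hv01 (Subtype.ext h)
  set c : G := ((d : G) * y)⁻¹ * (y * (d : G)) with hc
  have hcD : c ∈ D := by
    have h1 : y⁻¹ ∈ Subgroup.normalizer (D : Set G) := Subgroup.inv_mem _ hyD
    have h2 : y⁻¹ * (d : G)⁻¹ * y⁻¹⁻¹ ∈ D :=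
      (Subgroup.mem_normalizer_iff.1 h1 _).1 (D.inv_mem d.2)
    have h3 : c = (y⁻¹ * (d : G)⁻¹ * y⁻¹⁻¹) * (d : G) := by rw [hc]; group
    rw [h3]
    exact D.mul_mem h2 d.2
  have hcv : ∀ v ∈ V, Commute c v := by
    intro v hv
    have h1 := hmain d d.2 v hv
    show c * v = v * c
    have : c * v * c⁻¹ = v := by
      calc c * v * c⁻¹
          = ((d : G) * y)⁻¹ * ((y * (d : G)) * v * (y * (d : G))⁻¹) * ((d : G) * y) := by
            rw [hc]; group
        _ = ((d : G) * y)⁻¹ * (((d : G) * y) * v * ((d : G) * y)⁻¹) * ((d : G) * y) := by rw [h1]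
        _ = v := by group
    calc c * v = (c * v * c⁻¹) * c := by group
      _ = v * c := by rw [this]
  have hc1 : c = 1 := by
    by_contra hc1
    exact hv01' (hfpf c hcD hc1 v0 v0.2 (hcv v0 v0.2))
  have hyd : Commute y (d : G) := by
    show y * (d : G) = (d : G) * y
    have : y * (d : G) = ((d : G) * y) * c := by rw [hc]; group
    rw [this, hc1, mul_one]
  exact hd1' (hyfree d d.2 hyd)

/-- the image in `X` of a normal subgroup of a subgroup `B` is normalized by `B` -/
theorem le_normalizer_map_subtype (B : Subgroup G) (D : Subgroup B) [hDn : D.Normal] :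
    B ≤ Subgroup.normalizer ((D.map B.subtype : Subgroup G) : Set G) := by
  intro b hb
  rw [Subgroup.mem_normalizer_iff]
  intro h
  constructor
  · rintro ⟨e, he, rfl⟩
    exact ⟨⟨b, hb⟩ * e * ⟨b, hb⟩⁻¹, hDn.conj_mem e he _, by simp⟩
  · rintro ⟨e, he, hee⟩
    refine ⟨⟨b, hb⟩⁻¹ * e * ⟨b, hb⟩, ?_, ?_⟩
    · have := hDn.conj_mem e he (⟨b, hb⟩⁻¹)
      simpa using this
    · have h1 : (B.subtype e : G) = b * h * b⁻¹ := hee
      simp only [map_mul, map_inv, Subgroup.subtype_apply] at h1 ⊢
      rw [h1]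
      group

end action

end Cfsg.Agent.Lib.Helper5.SolvTri
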