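import Mathlib
import Cfsg.Agent.Lib.Helper1.SimpleIndex

set_option autoImplicit false

namespace Cfsg.Agent.Lib.Helper5.Ord360

open Subgroup

variable {G : Type*} [Group G] [Finite G] [IsSimpleGroup G]

theorem card_le_sixty (h : Nat.card G = 360) (H : Subgroup G) (hH : H ≠ ⊤) :
    Nat.card H ≤ 60 := by
  have hfact := Cfsg.Agent.Lib.Helper1.card_dvd_factorial_index_of_simple H hH
  rw [h] at hfact
  have hidx := H.card_mul_index
  rw [h] at hidx
  by_contra hcon
  rw [not_le] at hcon
  have hle : H.index ≤ 5 := by
    by_contra h6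
    rw [not_le] at h6
    have : 61 * 6 ≤ Nat.card H * H.index := Nat.mul_le_mul hcon h6
    omega
  interval_cases hi : H.index <;> revert hfact <;> decide

theorem card_sylow3 (h : Nat.card G = 360) (P : Sylow 3 G) : Nat.card P = 9 := by
  rw [Sylow.card_eq_multiplicity, h]
  have : (360 : ℕ).factorization 3 = 2 := by
    rw [Nat.factorization_def _ Nat.prime_three]
    have : (360 : ℕ) = 3 ^ 2 * 40 := by norm_num
    rw [this, padicValNat.mul (by norm_num) (by norm_num), padicValNat.prime_pow]
    simp [padicValNat.eq_zero_of_not_dvd (show ¬ 3 ∣ 40 by norm_num)]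
  rw [this]; norm_num

theorem sylow3_comm (h : Nat.card G = 360) (P : Sylow 3 G) (a b : G)
    (ha : a ∈ (P : Subgroup G)) (hb : b ∈ (P : Subgroup G)) : a * b = b * a := by
  have hc : Nat.card P = 3 ^ 2 := by rw [card_sylow3 h P]; norm_num
  have hcomm : ∀ a b : P, a * b = b * a := IsPGroup.commutative_of_card_eq_prime_sq hc
  exact congrArg Subtype.val (hcomm ⟨a, ha⟩ ⟨b, hb⟩)

theorem sylow3_ne_top (h : Nat.card G = 360) (P : Sylow 3 G) : (P : Subgroup G) ≠ ⊤ := by
  intro htop
  have := card_sylow3 h P
  rw [htop, Subgroup.card_top, h] at this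
  omega

theorem sylow3_ne_bot (h : Nat.card G = 360) (P : Sylow 3 G) : (P : Subgroup G) ≠ ⊥ := by
  intro hbot
  have := card_sylow3 h P
  rw [hbot, Subgroup.card_bot] at this
  omega

theorem card_normalizer_sylow3 (h : Nat.card G = 360) (P : Sylow 3 G) :
    Nat.card (normalizer ((P : Subgroup G) : Set G)) = 36 := by
  have hPcard := card_sylow3 h P
  have hPidx : (P : Subgroup G).index = 40 := by
    have := (P : Subgroup G).card_mul_index
    rw [hPcard, h] at this
    omega
  set H := normalizer ((P : Subgroup G) : Set G) with hH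
  have hn : Nat.card (Sylow 3 G) = H.index := P.card_eq_index_normalizer
  have hdvd : H.index ∣ 40 := by
    rw [← hn, ← hPidx]; exact P.card_dvd_index
  have hmod : H.index % 3 = 1 := by
    rw [← hn]; exact card_sylow_modEq_one 3 G
  have hHne : H ≠ ⊤ := by
    intro htop
    have hnorm : (P : Subgroup G).Normal := Subgroup.normalizer_eq_top_iff.mp htop
    rcases hnorm.eq_bot_or_eq_top with h1 | h1
    · exact sylow3_ne_bot h P h1
    · exact sylow3_ne_top h P h1
  have h60 := card_le_sixty h H hHne
  have hci := H.card_mul_index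
  rw [h] at hci
  have hidx : H.index = 10 ∨ H.index = 40 := by
    have hle : H.index ≤ 40 := Nat.le_of_dvd (by norm_num) hdvd
    interval_cases hi : H.index <;> simp_all <;> omega
  rcases hidx with h10 | h40
  · rw [h10] at hci; omega
  · exfalso
    have hHcard : Nat.card H = 9 := by rw [h40] at hci; omega
    have hHP : H = (P : Subgroup G) := by
      symm
      apply Subgroup.eq_of_le_of_card_ge Subgroup.le_normalizer
      rw [hHcard, hPcard]
    have hPC : normalizer ((P : Subgroup G) : Set G) ≤ centralizer (P : Set G) := by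
      rw [← hH, hHP]
      intro x hx y hy
      exact sylow3_comm h P y x hy hx
    have hcompl := MonoidHom.ker_transferSylow_isComplement' P hPC
    set K := (MonoidHom.transferSylow P hPC).ker with hK
    have hKn : K.Normal := MonoidHom.normal_ker _
    have hKcard : Nat.card K * Nat.card P = Nat.card G := hcompl.card_mul_card
    rw [hPcard, h] at hKcard
    rcases hKn.eq_bot_or_eq_top with h1 | h1
    · rw [h1] at hKcard; simp at hKcard
    · rw [h1] at hKcard; simp [h] at hKcard

theorem card_sylow3_eq_ten (h : Nat.card G = 360) : Nat.card (Sylow 3 G) = 10 := by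
  obtain ⟨P⟩ : Nonempty (Sylow 3 G) := inferInstance
  rw [P.card_eq_index_normalizer]
  show (normalizer ((P : Subgroup G) : Set G)).index = 10
  have h1 := card_normalizer_sylow3 h P
  have h2 := (normalizer ((P : Subgroup G) : Set G)).card_mul_index
  rw [h1, h] at h2
  omega

end Cfsg.Agent.Lib.Helper5.Ord360
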