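import Mathlib
import Cfsg.Agent.Lib.Helper5.Ord360A

set_option autoImplicit false

namespace Cfsg.Agent.Lib.Helper5.Ord360

open Subgroup

variable {G : Type*} [Group G] [Finite G] [IsSimpleGroup G]

theorem sylow3_le_normalizer_of_le (h : Nat.card G = 360) (P : Sylow 3 G) (D : Subgroup G)
    (hDP : D ≤ (P : Subgroup G)) : (P : Subgroup G) ≤ normalizer (D : Set G) := by
  refine le_trans ?_ (Subgroup.centralizer_le_normalizer (D : Set G))
  intro x hx y hy
  exact sylow3_comm h P y x (hDP hy) hx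

theorem eq_zpowers_of_card_three {D : Subgroup G} (hD : Nat.card D = 3) {e : G} (he : e ∈ D)
    (he1 : e ≠ 1) : D = zpowers e := by
  symm
  apply Subgroup.eq_of_le_of_card_ge (by rwa [zpowers_le])
  rw [Nat.card_zpowers, hD]
  have h1 : orderOf e ∣ 3 := by
    rw [← hD]; exact Subgroup.orderOf_dvd_natCard D he
  have h2 : orderOf e ≠ 1 := fun h => he1 (orderOf_eq_one_iff.mp h)
  rcases (Nat.dvd_prime Nat.prime_three).mp h1 with h3 | h3
  · exact absurd h3 h2
  · omega

omit [Finite G] [IsSimpleGroup G] in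
theorem conj_mem_of_gen {D : Subgroup G} {e c : G} (hD : D = zpowers e)
    (hc : c * e * c⁻¹ ∈ D) : ∀ y ∈ D, c * y * c⁻¹ ∈ D := by
  intro y hy
  rw [hD] at hy
  obtain ⟨k, rfl⟩ := hy
  have : c * e ^ k * c⁻¹ = (c * e * c⁻¹) ^ k := (conj_zpow).symm
  rw [this]
  exact D.zpow_mem hc k

theorem mem_normalizer_of_conj_gen {D : Subgroup G} (hD : Nat.card D = 3) {d c : G}
    (hd : d ∈ D) (hd1 : d ≠ 1) (hc : c * d * c⁻¹ ∈ D) : c ∈ normalizer (D : Set G) := by
  have h1 : D = zpowers d := eq_zpowers_of_card_three hD hd hd1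
  have hne : c * d * c⁻¹ ≠ 1 := by
    intro h
    apply hd1
    have : d = c⁻¹ * (c * d * c⁻¹) * c := by group
    rw [this, h]; group
  have h2 : D = zpowers (c * d * c⁻¹) := eq_zpowers_of_card_three hD hc hne
  have f1 := conj_mem_of_gen h1 hc
  have f2 : ∀ y ∈ D, c⁻¹ * y * c⁻¹⁻¹ ∈ D := by
    apply conj_mem_of_gen h2
    have : c⁻¹ * (c * d * c⁻¹) * c⁻¹⁻¹ = d := by group
    rw [this]; exact hd
  rw [mem_normalizer_iff]
  intro y
  constructor
  · exact f1 y
  · intro hy
    have := f2 _ hy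
    have e : c⁻¹ * (c * y * c⁻¹) * c⁻¹⁻¹ = y := by group
    rwa [e] at this

theorem key (h : Nat.card G = 360) (P Q : Sylow 3 G) (hPQ : P ≠ Q) (D : Subgroup G)
    (hD : D = (P : Subgroup G) ⊓ Q) (hDne : D ≠ ⊥) :
    ∀ c ∈ normalizer ((P : Subgroup G) : Set G), c ∈ normalizer (D : Set G) →
      c ∈ (P : Subgroup G) := by
  classical
  set M := normalizer (D : Set G) with hM
  have hDP : D ≤ (P : Subgroup G) := hD ▸ inf_le_left
  have hDQ : D ≤ (Q : Subgroup G) := hD ▸ inf_le_right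
  have hPM : (P : Subgroup G) ≤ M := sylow3_le_normalizer_of_le h P D hDP
  have hQM : (Q : Subgroup G) ≤ M := sylow3_le_normalizer_of_le h Q D hDQ
  have hMne : M ≠ ⊤ := by
    intro htop
    have hnorm : D.Normal := Subgroup.normalizer_eq_top_iff.mp htop
    rcases hnorm.eq_bot_or_eq_top with h1 | h1
    · exact hDne h1
    · apply sylow3_ne_top h P
      exact top_le_iff.mp (h1 ▸ hDP)
  have h60 := card_le_sixty h M hMne
  set PM : Sylow 3 M := P.subtype hPM with hPMdef
  set QM : Sylow 3 M := Q.subtype hQM with hQMdef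
  have hne : PM ≠ QM := fun heq => hPQ (Sylow.subtype_injective heq)
  have hnt : Nontrivial (Sylow 3 M) := ⟨⟨PM, QM, hne⟩⟩
  have hn2 : 1 < Nat.card (Sylow 3 M) := Finite.one_lt_card_iff_nontrivial.mpr hnt
  have hmod : Nat.card (Sylow 3 M) % 3 = 1 := card_sylow_modEq_one 3 M
  have hn4 : 4 ≤ Nat.card (Sylow 3 M) := by omega
  have hidx : Nat.card (Sylow 3 M) = (normalizer ((PM : Subgroup M) : Set M)).index :=
    PM.card_eq_index_normalizer
  have hPMcard : Nat.card (PM : Subgroup M) = 9 := by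
    rw [hPMdef, Sylow.coe_subtype]
    rw [Nat.card_congr (Subgroup.subgroupOfEquivOfLe hPM).toEquiv]
    exact card_sylow3 h P
  have hdvd : Nat.card (PM : Subgroup M) ∣ Nat.card (normalizer ((PM : Subgroup M) : Set M)) :=
    Subgroup.card_dvd_of_le Subgroup.le_normalizer
  have hmul := (normalizer ((PM : Subgroup M) : Set M)).card_mul_index
  rw [← hidx] at hmul
  have hNM : Nat.card (normalizer ((PM : Subgroup M) : Set M)) = 9 := by
    rw [hPMcard] at hdvd
    obtain ⟨k, hk⟩ := hdvd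
    rw [hk] at hmul ⊢
    have hk0 : k ≠ 0 := by
      intro h0
      rw [h0] at hk
      have := Nat.card_pos (α := (normalizer ((PM : Subgroup M) : Set M)))
      omega
    have hk1 : k ≤ 1 := by
      by_contra hk2
      rw [not_le] at hk2
      have : 9 * 2 * 4 ≤ 9 * k * Nat.card (Sylow 3 M) :=
        Nat.mul_le_mul (Nat.mul_le_mul_left 9 hk2) hn4
      omega
    interval_cases k <;> simp_all
  have hNeq : normalizer ((PM : Subgroup M) : Set M) = (PM : Subgroup M) := by
    symm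
    apply Subgroup.eq_of_le_of_card_ge Subgroup.le_normalizer
    rw [hNM, hPMcard]
  intro c hcN hcM
  have hmem : (⟨c, hcM⟩ : M) ∈ normalizer ((PM : Subgroup M) : Set M) := by
    rw [mem_normalizer_iff]
    intro y
    rw [hPMdef, Sylow.coe_subtype, mem_subgroupOf, mem_subgroupOf]
    exact (mem_normalizer_iff.mp hcN) (y : G)
  rw [hNeq, hPMdef, Sylow.coe_subtype, mem_subgroupOf] at hmem
  exact hmem

end Cfsg.Agent.Lib.Helper5.Ord360
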