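import Mathlib
import Cfsg.Prelude.Def_Characters
import Cfsg.Agent.Lib.Helper5.SL2Families

set_option autoImplicit false

/-!
Counting the irreducible characters in a two-to-one parametrised family.
-/

namespace Cfsg.Agent.Lib.Helper5

open Matrix
open Cfsg.Agent.Lib.Helper1 Cfsg.Agent.Lib.Helper4
open scoped ComplexConjugate

universe u

theorem card_irr_family {G : Type u} [Group G] {X : Type*} [Finite X]
    (P : (G → ℂ) → Prop) (f : X → G → ℂ)
    (hirr : ∀ x, Cfsg.IsIrrCharacter G (f x)) (hP : ∀ x, P (f x))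
    (hall : ∀ χ, Cfsg.IsIrrCharacter G χ → P χ → ∃ x, f x = χ)
    (ι : X → X) (hι : ∀ x, ι x ≠ x) (hf : ∀ x y, f x = f y ↔ y = x ∨ y = ι x) :
    Nat.card X = 2 * Nat.card {χ : Cfsg.IrrCharacter G // P (χ : G → ℂ)} := by
  apply card_eq_two_mul_of_two_to_one
    (fun x => (⟨⟨f x, hirr x⟩, hP x⟩ : {χ : Cfsg.IrrCharacter G // P (χ : G → ℂ)})) ?_ ι hι ?_
  · rintro ⟨⟨χ, hχ⟩, hPχ⟩
    obtain ⟨x, hx⟩ := hall χ hχ hPχ
    exact ⟨x, Subtype.ext (Subtype.ext hx)⟩
  · intro x y
    rw [← hf x y]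
    constructor
    · intro h
      exact congrArg (fun z : {χ : Cfsg.IrrCharacter G // P (χ : G → ℂ)} => ((z : Cfsg.IrrCharacter G) : G → ℂ)) h
    · intro h
      exact Subtype.ext (Subtype.ext h)

/-- A family consisting of a single irreducible character. -/
theorem card_irr_single {G : Type u} [Group G] (P : (G → ℂ) → Prop) (χ₀ : G → ℂ)
    (hirr : Cfsg.IsIrrCharacter G χ₀) (hP : P χ₀)
    (hall : ∀ χ, Cfsg.IsIrrCharacter G χ → P χ → χ = χ₀) :
    Nat.card {χ : Cfsg.IrrCharacter G // P (χ : G → ℂ)} = 1 := by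
  rw [Nat.card_eq_one_iff_unique]
  refine ⟨⟨?_⟩, ⟨⟨⟨χ₀, hirr⟩, hP⟩⟩⟩
  rintro ⟨⟨χ, hχ⟩, hPχ⟩ ⟨⟨ψ, hψ⟩, hPψ⟩
  apply Subtype.ext
  apply Subtype.ext
  show χ = ψ
  rw [hall χ hχ hPχ, hall ψ hψ hPψ]

section
variable {F : Type*} [Field F] [Fintype F]

theorem card_mulChar : Nat.card (MulChar F ℂ) = Fintype.card F - 1 := by
  classical
  rw [MulChar.card_eq_card_units_of_hasEnoughRootsOfUnity F ℂ, Nat.card_eq_fintype_card,
    Fintype.card_units]

theorem card_torusHom (C : Subgroup (SpecialLinearGroup (Fin 2) F)) (hC : IsCyclic C) :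
    Nat.card (C →* ℂˣ) = Nat.card C := by
  let _ : CommGroup C := hC.commGroup
  exact CommGroup.card_monoidHom_of_hasEnoughRootsOfUnity C ℂ

/-- Removing the self-inverse elements. -/
theorem card_ne_inv {A : Type*} [Group A] [Finite A] :
    Nat.card {x : A // x ≠ x⁻¹} + Nat.card {x : A // x = x⁻¹} = Nat.card A := by
  classical
  have : Fintype A := Fintype.ofFinite A
  simp only [Nat.card_eq_fintype_card, Fintype.card_subtype]
  rw [add_comm]
  have := Finset.card_filter_add_card_filter_not (s := (Finset.univ : Finset A))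
    (fun x : A => x = x⁻¹)
  rw [Finset.card_univ] at this
  exact this

end

end Cfsg.Agent.Lib.Helper5
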