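import Mathlib
import Cfsg.Prelude.Def_Characters
import Cfsg.Agent.Lib.Helper5.SL2FamilyCount

set_option autoImplicit false

/-!
The irreducible characters of `SL₂` over a finite field of even order.
-/

namespace Cfsg.Agent.Lib.Helper5

open Matrix
open Cfsg.Agent.Lib.Helper1 Cfsg.Agent.Lib.Helper4
open scoped ComplexConjugate

section
variable {F : Type*} [Field F] [Fintype F] [DecidableEq F]

theorem mulChar_eq_one_of_even (hq : Even (Fintype.card F)) {β : MulChar F ℂ}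
    (h : β = β⁻¹) : β = 1 := by
  have hq2 : 2 ≤ Fintype.card F := Fintype.one_lt_card
  have hodd : Odd (Fintype.card F - 1) := by
    obtain ⟨k, hk⟩ := hq
    exact ⟨k - 1, by omega⟩
  apply eq_one_of_eq_inv_of_pow_odd hodd h
  rw [← Fintype.card_units]
  exact MulChar.pow_card_eq_one β

variable (C : Subgroup (SpecialLinearGroup (Fin 2) F))

omit [DecidableEq F] in
theorem monoidHom_eq_one_of_even (hq : Even (Fintype.card F))
    (hcard : Nat.card C = Fintype.card F + 1) {θ : C →* ℂˣ} (h : θ = θ⁻¹) : θ = 1 := by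
  have hodd : Odd (Fintype.card F + 1) := hq.add_one
  ext c
  rw [MonoidHom.one_apply]
  congr 1
  apply eq_one_of_eq_inv_of_pow_odd hodd
  · nth_rewrite 1 [h]
    rfl
  · rw [← hcard, ← map_pow, pow_card_eq_one', map_one]

theorem irr_list_even (hq : Even (Fintype.card F)) (hC : IsCyclic C)
    (hcard : Nat.card C = Fintype.card F + 1)
    {χ : SpecialLinearGroup (Fin 2) F → ℂ}
    (hχ : Cfsg.IsIrrCharacter (SpecialLinearGroup (Fin 2) F) χ) :
    χ = trivFun _ ∨ χ = stFun ∨ (∃ β : MulChar F ℂ, β ≠ β⁻¹ ∧ χ = psFun β) ∨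
      (∃ θ : C →* ℂˣ, θ ≠ θ⁻¹ ∧ χ = cuspChar C hC hcard θ) := by
  rcases irr_classification C hC hcard hχ with h | h | h | h | ⟨β, h1, h2, -⟩ | ⟨θ, h1, h2, -⟩
  · exact Or.inl h
  · exact Or.inr (Or.inl h)
  · exact Or.inr (Or.inr (Or.inl h))
  · exact Or.inr (Or.inr (Or.inr h))
  · exact absurd (mulChar_eq_one_of_even hq h1) h2
  · exact absurd (monoidHom_eq_one_of_even C hq hcard h1) h2

theorem card_mulChar_ne_inv_even (hq : Even (Fintype.card F)) :
    Nat.card {β : MulChar F ℂ // β ≠ β⁻¹} = Fintype.card F - 2 := by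
  have h1 := card_ne_inv (A := MulChar F ℂ)
  have h2 : Nat.card {β : MulChar F ℂ // β = β⁻¹} = 1 := by
    rw [Nat.card_eq_one_iff_unique]
    refine ⟨⟨?_⟩, ⟨⟨1, inv_one.symm⟩⟩⟩
    rintro ⟨a, ha⟩ ⟨b, hb⟩
    apply Subtype.ext
    show a = b
    rw [mulChar_eq_one_of_even hq ha, mulChar_eq_one_of_even hq hb]
  rw [h2, card_mulChar] at h1
  omega

omit [DecidableEq F] in
theorem card_torusHom_ne_inv_even (hq : Even (Fintype.card F)) (hC : IsCyclic C)
    (hcard : Nat.card C = Fintype.card F + 1) :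
    Nat.card {θ : C →* ℂˣ // θ ≠ θ⁻¹} = Fintype.card F := by
  have h1 := card_ne_inv (A := (C →* ℂˣ))
  have h2 : Nat.card {θ : C →* ℂˣ // θ = θ⁻¹} = 1 := by
    rw [Nat.card_eq_one_iff_unique]
    refine ⟨⟨?_⟩, ⟨⟨1, ?_⟩⟩⟩
    · rintro ⟨a, ha⟩ ⟨b, hb⟩
      apply Subtype.ext
      show a = b
      rw [monoidHom_eq_one_of_even C hq hcard ha, monoidHom_eq_one_of_even C hq hcard hb]
    · ext c
      simp
  rw [h2, card_torusHom C hC, hcard] at h1
  omega

end

end Cfsg.Agent.Lib.Helper5
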