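import Mathlib

set_option autoImplicit false

/-!
Self-inverse elements of a finite cyclic group of even order, and the characters of order two.
-/

namespace Cfsg.Agent.Lib.Helper5

theorem card_self_inv_of_isCyclic_even {A : Type*} [Group A] [Finite A] [IsCyclic A]
    (h : Even (Nat.card A)) : Nat.card {x : A // x = x⁻¹} = 2 := by
  classical
  have : Fintype A := Fintype.ofFinite A
  have h1 : ∀ x : A, x = x⁻¹ ↔ x ^ 2 = 1 := fun x => by rw [sq, eq_inv_iff_mul_eq_one]
  rw [Nat.card_eq_fintype_card, Fintype.card_subtype]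
  have hle : (Finset.univ.filter (fun x : A => x = x⁻¹)).card ≤ 2 := by
    have := IsCyclic.card_pow_eq_one_le (α := A) (n := 2) (by norm_num)
    convert this using 2
    ext x
    simp only [Finset.mem_filter, Finset.mem_univ, true_and]
    exact h1 x
  have h2 : 2 ∣ Fintype.card A := by
    rw [← Nat.card_eq_fintype_card]
    exact h.two_dvd
  have : Fact (Nat.Prime 2) := ⟨Nat.prime_two⟩
  obtain ⟨x₀, hx₀⟩ := exists_prime_orderOf_dvd_card 2 h2
  have hx1 : x₀ ≠ 1 := by
    intro h
    rw [h, orderOf_one] at hx₀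
    norm_num at hx₀
  have hge : 2 ≤ (Finset.univ.filter (fun x : A => x = x⁻¹)).card := by
    rw [← Finset.card_pair hx1]
    apply Finset.card_le_card
    intro x hx
    simp only [Finset.mem_insert, Finset.mem_singleton] at hx
    simp only [Finset.mem_filter, Finset.mem_univ, true_and]
    rcases hx with rfl | rfl
    · rw [h1, ← hx₀, pow_orderOf_eq_one]
    · simp
  omega

/-- In a finite cyclic group of even order there is a unique nontrivial self-inverse element. -/
theorem exists_unique_self_inv {A : Type*} [Group A] [Finite A] [IsCyclic A]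
    (h : Even (Nat.card A)) :
    ∃ x₀ : A, x₀ = x₀⁻¹ ∧ x₀ ≠ 1 ∧ ∀ x : A, x = x⁻¹ → x ≠ 1 → x = x₀ := by
  classical
  have hcard := card_self_inv_of_isCyclic_even h
  have : Fintype {x : A // x = x⁻¹} := Fintype.ofFinite _
  rw [Nat.card_eq_fintype_card] at hcard
  have hone : (1 : A) = 1⁻¹ := inv_one.symm
  obtain ⟨y, hy⟩ : ∃ y : {x : A // x = x⁻¹}, y ≠ ⟨1, hone⟩ := by
    by_contra hcon
    simp only [ne_eq, not_exists, not_not] at hcon
    have : Fintype.card {x : A // x = x⁻¹} ≤ 1 := by
      rw [Fintype.card_le_one_iff]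
      intro a b
      rw [hcon a, hcon b]
    omega
  refine ⟨y.1, y.2, fun h => hy (Subtype.ext h), ?_⟩
  intro x hx hx1
  by_contra hne
  have h3 : 3 ≤ Fintype.card {x : A // x = x⁻¹} := by
    have hS : ({⟨1, hone⟩, y, ⟨x, hx⟩} : Finset {x : A // x = x⁻¹}).card = 3 := by
      rw [Finset.card_eq_three]
      refine ⟨_, _, _, fun h => hy h.symm, fun h => hx1 (congrArg Subtype.val h).symm,
        fun h => hne (congrArg Subtype.val h).symm, rfl⟩
    rw [← hS]
    exact Finset.card_le_univ _
  omega

end Cfsg.Agent.Lib.Helper5
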