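import Mathlib
import Cfsg.Prelude.Def_Characters
import Cfsg.Agent.Lib.Helper4.Characters
import Cfsg.Agent.Lib.Helper4.VirtualChar
import Cfsg.Agent.Lib.Helper1.CharFound7
import Cfsg.Agent.Lib.Helper5.SL2SigmaInv

set_option autoImplicit false

/-!
Generalized characters of norm two which are invariant under an automorphism moving one of their
constituents.
-/

namespace Cfsg.Agent.Lib.Helper5

open Cfsg.Agent.Lib.Helper1 Cfsg.Agent.Lib.Helper4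
open scoped ComplexConjugate

universe u

section
variable {G : Type u} [Group G] [Fintype G]

theorem eq_of_classInner_combo_ne_zero {ψ₁ ψ₂ χ : G → ℂ} (h1 : Cfsg.IsIrrCharacter G ψ₁)
    (h2 : Cfsg.IsIrrCharacter G ψ₂) (hχ : Cfsg.IsIrrCharacter G χ) (a₁ a₂ : ℂ)
    (h : Cfsg.classInner (a₁ • ψ₁ + a₂ • ψ₂) χ ≠ 0) : χ = ψ₁ ∨ χ = ψ₂ := by
  by_contra hcon
  rw [not_or] at hcon
  apply h
  rw [classInner_add_left, classInner_smul_left, classInner_smul_left,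
    classInner_irr_ne h1 hχ (fun h => hcon.1 h.symm), classInner_irr_ne h2 hχ (fun h => hcon.2 h.symm)]
  ring

theorem classInner_combo_left {ψ₁ ψ₂ : G → ℂ} (h1 : Cfsg.IsIrrCharacter G ψ₁)
    (h2 : Cfsg.IsIrrCharacter G ψ₂) (hne : ψ₁ ≠ ψ₂) (a₁ a₂ : ℂ) :
    Cfsg.classInner (a₁ • ψ₁ + a₂ • ψ₂) ψ₁ = a₁ := by
  rw [classInner_add_left, classInner_smul_left, classInner_smul_left,
    classInner_irr_self h1, classInner_irr_ne h2 h1 hne.symm]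
  ring

theorem classInner_combo_right {ψ₁ ψ₂ : G → ℂ} (h1 : Cfsg.IsIrrCharacter G ψ₁)
    (h2 : Cfsg.IsIrrCharacter G ψ₂) (hne : ψ₁ ≠ ψ₂) (a₁ a₂ : ℂ) :
    Cfsg.classInner (a₁ • ψ₁ + a₂ • ψ₂) ψ₂ = a₂ := by
  rw [classInner_add_left, classInner_smul_left, classInner_smul_left,
    classInner_irr_self h2, classInner_irr_ne h1 h2 hne]
  ring

theorem split_of_moved (σ : G ≃* G) {Ψ ψ₁ ψ₂ : G → ℂ} (h1 : Cfsg.IsIrrCharacter G ψ₁)
    (h2 : Cfsg.IsIrrCharacter G ψ₂) (hne : ψ₁ ≠ ψ₂) {a₁ a₂ : ℂ}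
    (ha₁ : a₁ = 1 ∨ a₁ = -1) (ha₂ : a₂ = 1 ∨ a₂ = -1)
    (hΨ : Ψ = a₁ • ψ₁ + a₂ • ψ₂) (hσ : ∀ g, Ψ (σ g) = Ψ g) (N : ℕ) (hN : 0 < N)
    (hΨ1 : Ψ 1 = N) (hmoved : (fun g => ψ₁ (σ g)) ≠ ψ₁) :
    a₁ = 1 ∧ a₂ = 1 ∧ (fun g => ψ₁ (σ g)) = ψ₂ ∧ (fun g => ψ₂ (σ g)) = ψ₁ := by
  have ha₁0 : a₁ ≠ 0 := by rcases ha₁ with h | h <;> rw [h] <;> norm_num
  have ha₂0 : a₂ ≠ 0 := by rcases ha₂ with h | h <;> rw [h] <;> norm_num
  have hΨσ : (fun g => Ψ (σ g)) = Ψ := funext hσ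
  have hs1 := isIrrCharacter_comp_mulEquiv h1 σ
  have hs2 := isIrrCharacter_comp_mulEquiv h2 σ
  -- the image of ψ₁
  have e1 : Cfsg.classInner Ψ (fun g => ψ₁ (σ g)) = a₁ := by
    rw [← hΨσ, classInner_comp_mulEquiv σ Ψ ψ₁, hΨ]
    exact classInner_combo_left h1 h2 hne a₁ a₂
  have e2 : Cfsg.classInner Ψ (fun g => ψ₂ (σ g)) = a₂ := by
    rw [← hΨσ, classInner_comp_mulEquiv σ Ψ ψ₂, hΨ]
    exact classInner_combo_right h1 h2 hne a₁ a₂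
  have hψ1 : (fun g => ψ₁ (σ g)) = ψ₂ := by
    have : Cfsg.classInner (a₁ • ψ₁ + a₂ • ψ₂) (fun g => ψ₁ (σ g)) ≠ 0 := by
      rw [← hΨ, e1]
      exact ha₁0
    rcases eq_of_classInner_combo_ne_zero h1 h2 hs1 a₁ a₂ this with h | h
    · exact absurd h hmoved
    · exact h
  have hψ2 : (fun g => ψ₂ (σ g)) = ψ₁ := by
    have : Cfsg.classInner (a₁ • ψ₁ + a₂ • ψ₂) (fun g => ψ₂ (σ g)) ≠ 0 := by
      rw [← hΨ, e2]
      exact ha₂0
    rcases eq_of_classInner_combo_ne_zero h1 h2 hs2 a₁ a₂ this with h | h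
    · exact h
    · exfalso
      apply hne
      funext g
      have h3 := congrFun (hψ1.trans h.symm) (σ.symm g)
      simpa using h3
  have ha : a₂ = a₁ := by
    rw [← e1, hψ1, hΨ]
    exact (classInner_combo_right h1 h2 hne a₁ a₂).symm
  obtain ⟨n, hn, hn1⟩ := irr_apply_one_pos h1
  have h21 : ψ₂ 1 = n := by
    rw [← hψ1]
    show ψ₁ (σ 1) = n
    rw [map_one, hn1]
  have hval : (N : ℂ) = a₁ * (2 * n) := by
    rw [← hΨ1, hΨ, ha]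
    simp only [Pi.add_apply, Pi.smul_apply, smul_eq_mul, hn1, h21]
    ring
  have ha1 : a₁ = 1 := by
    rcases ha₁ with h | h
    · exact h
    · exfalso
      rw [h] at hval
      have h5 : ((N + 2 * n : ℕ) : ℂ) = 0 := by
        push_cast
        rw [hval]
        ring
      have h6 : N + 2 * n = 0 := by exact_mod_cast h5
      omega
  exact ⟨ha1, ha.trans ha1, hψ1, hψ2⟩

end

end Cfsg.Agent.Lib.Helper5
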