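import Mathlib
import Cfsg.Prelude.Def_Characters
import Cfsg.Agent.Lib.Helper5.SL2SigmaInv
import Cfsg.Agent.Lib.Helper1.CharFound8

set_option autoImplicit false

/-!
The diagonal automorphism of `SL₂(q)`, `q` odd, moves at least four irreducible characters.
-/

namespace Cfsg.Agent.Lib.Helper5

open Matrix
open Cfsg.Agent.Lib.Helper1 Cfsg.Agent.Lib.Helper4
open scoped ComplexConjugate

section
variable {F : Type*} [Field F]

/-- The element `[[ε, b], [0, ε]]`. -/
def unipSL (ε : F) (hε : ε * ε = 1) (b : F) : SpecialLinearGroup (Fin 2) F :=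
  mkSL2 !![ε, b; 0, ε] (by rw [Matrix.det_fin_two_of, mul_zero, sub_zero, hε])

theorem unipSL_coe (ε : F) (hε : ε * ε = 1) (b : F) :
    ((unipSL ε hε b : SpecialLinearGroup (Fin 2) F) : Matrix (Fin 2) (Fin 2) F) = !![ε, b; 0, ε] :=
  rfl

theorem sigmaSL_unipSL (ν : Fˣ) (ε : F) (hε : ε * ε = 1) (b : F) :
    sigmaSL ν (unipSL ε hε b) = unipSL ε hε ((ν : F) * b) := by
  apply Subtype.ext
  show ((sigmaSL ν (unipSL ε hε b) : SpecialLinearGroup (Fin 2) F) : Matrix (Fin 2) (Fin 2) F) = _
  rw [sigmaSL_coe, unipSL_coe, unipSL_coe]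
  simp

theorem isSquare_of_isConj_unipSL (ε : F) (hε : ε * ε = 1) (b b' : F) (hb' : b' ≠ 0)
    (h : IsConj (unipSL ε hε b) (unipSL ε hε b')) : IsSquare (b * b') := by
  obtain ⟨c, hc⟩ := isConj_iff.1 h
  have h1 : c * unipSL ε hε b = unipSL ε hε b' * c := by rw [← hc]; group
  have h2 : (c : Matrix (Fin 2) (Fin 2) F) * !![ε, b; 0, ε] = !![ε, b'; 0, ε] *
      (c : Matrix (Fin 2) (Fin 2) F) := by
    have := congrArg (fun z : SpecialLinearGroup (Fin 2) F => (z : Matrix (Fin 2) (Fin 2) F)) h1
    exact this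
  have e00 := congrFun (congrFun h2 0) 0
  have e01 := congrFun (congrFun h2 0) 1
  simp only [Matrix.mul_apply, Fin.sum_univ_two, Matrix.of_apply, Matrix.cons_val_zero,
    Matrix.cons_val_one, Matrix.cons_val', Matrix.cons_val_fin_one] at e00 e01
  have hd := c.det_coe
  rw [Matrix.det_fin_two] at hd
  have hγ : (c : Matrix (Fin 2) (Fin 2) F) 1 0 = 0 := by
    have : b' * (c : Matrix (Fin 2) (Fin 2) F) 1 0 = 0 := by
      linear_combination -e00
    rcases mul_eq_zero.1 this with h' | h'
    · exact absurd h' hb'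
    · exact h'
  rw [hγ, mul_zero, sub_zero] at hd
  refine ⟨(c : Matrix (Fin 2) (Fin 2) F) 0 0 * b, ?_⟩
  linear_combination (-(b * b')) * hd - ((c : Matrix (Fin 2) (Fin 2) F) 0 0 * b) * e01

theorem unipSL_trace (ε : F) (hε : ε * ε = 1) (b : F) :
    ((unipSL ε hε b : SpecialLinearGroup (Fin 2) F) : Matrix (Fin 2) (Fin 2) F).trace = ε + ε := by
  rw [unipSL_coe, Matrix.trace_fin_two_of]

end

section
variable {F : Type*} [Field F] [Fintype F] [DecidableEq F]

omit [Fintype F] [DecidableEq F] in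
theorem trace_eq_of_isConj' {g h : SpecialLinearGroup (Fin 2) F} (hgh : IsConj g h) :
    (g : Matrix (Fin 2) (Fin 2) F).trace = (h : Matrix (Fin 2) (Fin 2) F).trace := by
  obtain ⟨c, hc⟩ := isConj_iff.1 hgh
  rw [← hc]
  exact (trace_conj c g).symm

omit [Fintype F] [DecidableEq F] in
/-- The class of a non-central element of `ZU` is moved by the diagonal automorphism attached to a
non-square. -/
theorem not_isConj_sigma_out (ν : Fˣ) (hν : ¬ IsSquare (ν : F)) (ε : F) (hε : ε * ε = 1) (b : F)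
    (hb : b ≠ 0) :
    ¬ IsConj (sigmaSL ν (Quotient.out (ConjClasses.mk (unipSL ε hε b))))
      (Quotient.out (ConjClasses.mk (unipSL ε hε b))) := by
  intro h
  have hout : IsConj (Quotient.out (ConjClasses.mk (unipSL ε hε b))) (unipSL ε hε b) := by
    rw [← ConjClasses.mk_eq_mk_iff_isConj]
    exact Quotient.out_eq _
  have h1 : IsConj (sigmaSL ν (Quotient.out (ConjClasses.mk (unipSL ε hε b))))
      (sigmaSL ν (unipSL ε hε b)) := by
    obtain ⟨c, hc⟩ := isConj_iff.1 hout
    rw [isConj_iff]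
    refine ⟨sigmaSL ν c, ?_⟩
    rw [← map_inv, ← map_mul, ← map_mul, hc]
  have h2 : IsConj (unipSL ε hε ((ν : F) * b)) (unipSL ε hε b) := by
    rw [← sigmaSL_unipSL]
    exact (h1.symm.trans h).trans hout
  obtain ⟨s, hs⟩ := isSquare_of_isConj_unipSL ε hε _ _ hb h2
  apply hν
  refine ⟨s / b, ?_⟩
  field_simp
  linear_combination hs

/-- A family covering all elements with a property, no larger than their number, is injective and
consists of such elements. -/
theorem covering_family {X : Type*} {P : X → Prop} {n : ℕ} (a : Fin n → X)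
    (hcover : ∀ x, P x → ∃ i, a i = x) [Finite {x // P x}] (hcard : n ≤ Nat.card {x // P x}) :
    Function.Injective a ∧ ∀ i, P (a i) := by
  classical
  have : Fintype {x // P x} := Fintype.ofFinite _
  choose r hr using fun x : {x // P x} => hcover x.1 x.2
  have hrinj : Function.Injective r := by
    intro x y hxy
    apply Subtype.ext
    rw [← hr x, ← hr y, hxy]
  have hcard' : Fintype.card (Fin n) ≤ Fintype.card {x // P x} := by
    rw [Fintype.card_fin, ← Nat.card_eq_fintype_card]
    exact hcard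
  have hle : Fintype.card {x // P x} ≤ Fintype.card (Fin n) :=
    Fintype.card_le_of_injective r hrinj
  have hbij : Function.Bijective r := by
    rw [Fintype.bijective_iff_injective_and_card]
    exact ⟨hrinj, le_antisymm hle hcard'⟩
  constructor
  · intro i j hij
    obtain ⟨x, rfl⟩ := hbij.2 i
    obtain ⟨y, rfl⟩ := hbij.2 j
    rw [hr x, hr y] at hij
    rw [Subtype.ext hij]
  · intro i
    obtain ⟨x, rfl⟩ := hbij.2 i
    rw [hr x]
    exact x.2

omit [DecidableEq F] in
theorem four_le_card_moved_classes (h2 : (2 : F) ≠ 0) (ν : Fˣ) (hν : ¬ IsSquare (ν : F)) :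
    4 ≤ Nat.card {c : ConjClasses (SpecialLinearGroup (Fin 2) F) //
      ¬ IsConj (sigmaSL ν (Quotient.out c)) (Quotient.out c)} := by
  classical
  have h11 : (1 : F) * 1 = 1 := one_mul 1
  have hm1 : (-1 : F) * (-1) = 1 := by ring
  have hν0 : (ν : F) ≠ 0 := ν.ne_zero
  let a : Fin 4 → {c : ConjClasses (SpecialLinearGroup (Fin 2) F) //
      ¬ IsConj (sigmaSL ν (Quotient.out c)) (Quotient.out c)} :=
    ![⟨ConjClasses.mk (unipSL 1 h11 1), not_isConj_sigma_out ν hν 1 h11 1 one_ne_zero⟩,
      ⟨ConjClasses.mk (unipSL 1 h11 (ν : F)), not_isConj_sigma_out ν hν 1 h11 _ hν0⟩,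
      ⟨ConjClasses.mk (unipSL (-1) hm1 1), not_isConj_sigma_out ν hν (-1) hm1 1 one_ne_zero⟩,
      ⟨ConjClasses.mk (unipSL (-1) hm1 (ν : F)), not_isConj_sigma_out ν hν (-1) hm1 _ hν0⟩]
  have hsq : ∀ (ε : F) (hε : ε * ε = 1),
      ConjClasses.mk (unipSL ε hε 1) ≠ ConjClasses.mk (unipSL ε hε (ν : F)) := by
    intro ε hε h
    rw [ConjClasses.mk_eq_mk_iff_isConj] at h
    have := isSquare_of_isConj_unipSL ε hε 1 (ν : F) hν0 h
    rw [one_mul] at this
    exact hν this
  have htr : ∀ (b b' : F),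
      ConjClasses.mk (unipSL 1 h11 b) ≠ ConjClasses.mk (unipSL (-1) hm1 b') := by
    intro b b' h
    rw [ConjClasses.mk_eq_mk_iff_isConj] at h
    have := trace_eq_of_isConj' h
    rw [unipSL_trace, unipSL_trace] at this
    apply h2
    have h4 : (2 : F) * 2 = 0 := by linear_combination this
    rcases mul_eq_zero.1 h4 with h | h <;> exact h
  have hinj : Function.Injective a := by
    intro i j hij
    have hij' := congrArg Subtype.val hij
    fin_cases i <;> fin_cases j <;> first | rfl | (exfalso; simp only [a] at hij'; revert hij'; simp; first | exact hsq _ _ | exact (hsq _ _).symm | exact htr _ _ | exact (htr _ _).symm)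
  have := Nat.card_le_card_of_injective a hinj
  rwa [Nat.card_eq_fintype_card, Fintype.card_fin] at this

omit [DecidableEq F] in
theorem four_le_card_moved_irr (h2 : (2 : F) ≠ 0) (ν : Fˣ) (hν : ¬ IsSquare (ν : F)) :
    4 ≤ Nat.card {χ : Cfsg.IrrCharacter (SpecialLinearGroup (Fin 2) F) //
      ¬ ((fun g => (χ : SpecialLinearGroup (Fin 2) F → ℂ) (sigmaSL ν g))
        = (χ : SpecialLinearGroup (Fin 2) F → ℂ))} := by
  classical
  have : Fintype (Cfsg.IrrCharacter (SpecialLinearGroup (Fin 2) F)) := Fintype.ofFinite _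
  have : Fintype (ConjClasses (SpecialLinearGroup (Fin 2) F)) := Fintype.ofFinite _
  have hfix := brauer_perm_generic (G := SpecialLinearGroup (Fin 2) F) (sigmaSL ν)
    (fun χ hχ => isIrrCharacter_comp_mulEquiv hχ (sigmaSL ν))
  have hfix' := Nat.cast_injective hfix
  have htot : Fintype.card (Cfsg.IrrCharacter (SpecialLinearGroup (Fin 2) F)) =
      Fintype.card (ConjClasses (SpecialLinearGroup (Fin 2) F)) := by
    rw [← Nat.card_eq_fintype_card, ← Nat.card_eq_fintype_card]
    exact card_irr_eq_card_conjClasses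
  have h4 := four_le_card_moved_classes h2 ν hν
  rw [Nat.card_eq_fintype_card, Fintype.card_subtype_compl, Fintype.card_subtype] at h4
  rw [Nat.card_eq_fintype_card, Fintype.card_subtype_compl, htot]
  have h5 : Fintype.card {χ : Cfsg.IrrCharacter (SpecialLinearGroup (Fin 2) F) //
      (fun g => (χ : SpecialLinearGroup (Fin 2) F → ℂ) (sigmaSL ν g))
        = (χ : SpecialLinearGroup (Fin 2) F → ℂ)} =
      (Finset.univ.filter (fun χ : Cfsg.IrrCharacter (SpecialLinearGroup (Fin 2) F) =>
        (fun g => (χ : SpecialLinearGroup (Fin 2) F → ℂ) (sigmaSL ν g))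
          = (χ : SpecialLinearGroup (Fin 2) F → ℂ))).card := Fintype.card_subtype _
  rw [h5]
  convert h4 using 2

end

end Cfsg.Agent.Lib.Helper5
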