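import Mathlib
import Cfsg.Prelude.Def_Characters
import Cfsg.Agent.Lib.Helper5.SL2Moved
import Cfsg.Agent.Lib.Helper5.NormTwo
import Cfsg.Agent.Lib.Helper5.CyclicInv
import Cfsg.Agent.Lib.Helper5.SL2FamilyCount

set_option autoImplicit false

/-!
The irreducible characters of `SL₂` over a finite field of odd order.
-/

namespace Cfsg.Agent.Lib.Helper5

open Matrix
open Cfsg.Agent.Lib.Helper1 Cfsg.Agent.Lib.Helper4
open scoped ComplexConjugate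

section
variable {F : Type*} [Field F] [Fintype F]

theorem ringChar_ne_two_of_odd (hodd : Odd (Fintype.card F)) : ringChar F ≠ 2 := by
  intro h
  have h5 := (FiniteField.even_card_iff_char_two).1 h
  rw [Nat.odd_iff] at hodd
  omega

theorem two_ne_zero_of_odd (hodd : Odd (Fintype.card F)) : (2 : F) ≠ 0 :=
  Ring.two_ne_zero (ringChar_ne_two_of_odd hodd)

theorem exists_nonsquare_unit (hodd : Odd (Fintype.card F)) : ∃ ν : Fˣ, ¬ IsSquare (ν : F) := by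
  obtain ⟨a, ha⟩ := FiniteField.exists_nonsquare (ringChar_ne_two_of_odd hodd)
  have ha0 : a ≠ 0 := by
    rintro rfl
    exact ha ⟨0, by simp⟩
  exact ⟨Units.mk0 a ha0, ha⟩

theorem isCyclic_mulChar : IsCyclic (MulChar F ℂ) := by
  classical
  let e := (MulChar.mulEquiv_units F ℂ).some
  exact isCyclic_of_surjective e.symm e.symm.surjective

theorem exists_quadChar (hodd : Odd (Fintype.card F)) :
    ∃ α₀ : MulChar F ℂ, α₀ = α₀⁻¹ ∧ α₀ ≠ 1 ∧ ∀ β : MulChar F ℂ, β = β⁻¹ → β ≠ 1 → β = α₀ := by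
  have := isCyclic_mulChar (F := F)
  apply exists_unique_self_inv
  rw [card_mulChar]
  obtain ⟨k, hk⟩ := hodd
  exact ⟨k, by omega⟩

variable (C : Subgroup (SpecialLinearGroup (Fin 2) F))

theorem isCyclic_torusHom (hC : IsCyclic C) : IsCyclic (C →* ℂˣ) := by
  let _ : CommGroup C := hC.commGroup
  let e := (CommGroup.monoidHom_mulEquiv_of_hasEnoughRootsOfUnity C ℂ).some
  exact isCyclic_of_surjective e.symm e.symm.surjective

theorem exists_quadTorus (hodd : Odd (Fintype.card F)) (hC : IsCyclic C)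
    (hcard : Nat.card C = Fintype.card F + 1) :
    ∃ θ₀ : C →* ℂˣ, θ₀ = θ₀⁻¹ ∧ θ₀ ≠ 1 ∧ ∀ θ : C →* ℂˣ, θ = θ⁻¹ → θ ≠ 1 → θ = θ₀ := by
  have := isCyclic_torusHom C hC
  have heven : Even (Nat.card (C →* ℂˣ)) := by
    rw [card_torusHom C hC, hcard]
    exact hodd.add_one
  obtain ⟨x, h1, h2, h3⟩ := exists_unique_self_inv (A := C →* ℂˣ) heven
  exact ⟨x, h1, h2, h3⟩

variable [DecidableEq F]

omit [DecidableEq F] in
theorem three_le_card_of_odd (hodd : Odd (Fintype.card F)) : 3 ≤ Fintype.card F := by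
  have h2 : 2 ≤ Fintype.card F := Fintype.one_lt_card
  obtain ⟨k, hk⟩ := hodd
  omega

/-- The character table of `SL₂(q)`, `q` odd, in structural form. -/
theorem odd_table (hodd : Odd (Fintype.card F)) (hC : IsCyclic C)
    (hcard : Nat.card C = Fintype.card F + 1) (ν : Fˣ) (hν : ¬ IsSquare (ν : F))
    (α₀ : MulChar F ℂ) (hα : α₀ = α₀⁻¹) (hα1 : α₀ ≠ 1)
    (θ₀ : C →* ℂˣ) (hθ : θ₀ = θ₀⁻¹) (hθ1 : θ₀ ≠ 1) :
    ∃ χp χm ηp ηm : SpecialLinearGroup (Fin 2) F → ℂ,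
      Cfsg.IsIrrCharacter (SpecialLinearGroup (Fin 2) F) χp ∧
      Cfsg.IsIrrCharacter (SpecialLinearGroup (Fin 2) F) χm ∧
      Cfsg.IsIrrCharacter (SpecialLinearGroup (Fin 2) F) ηp ∧
      Cfsg.IsIrrCharacter (SpecialLinearGroup (Fin 2) F) ηm ∧
      (χp ≠ χm ∧ ηp ≠ ηm ∧ χp ≠ ηp ∧ χp ≠ ηm ∧ χm ≠ ηp ∧ χm ≠ ηm) ∧
      psFun α₀ = χp + χm ∧ cuspChar C hC hcard θ₀ = ηp + ηm ∧
      (fun g => χp (sigmaSL ν g)) = χm ∧ (fun g => χm (sigmaSL ν g)) = χp ∧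
      (fun g => ηp (sigmaSL ν g)) = ηm ∧ (fun g => ηm (sigmaSL ν g)) = ηp ∧
      ∀ χ : SpecialLinearGroup (Fin 2) F → ℂ,
        Cfsg.IsIrrCharacter (SpecialLinearGroup (Fin 2) F) χ →
        χ = trivFun _ ∨ χ = stFun ∨ (∃ β : MulChar F ℂ, β ≠ β⁻¹ ∧ χ = psFun β) ∨
          (∃ θ : C →* ℂˣ, θ ≠ θ⁻¹ ∧ χ = cuspChar C hC hcard θ) ∨
          χ = χp ∨ χ = χm ∨ χ = ηp ∨ χ = ηm := by
  classical
  have h2 := two_ne_zero_of_odd hodd
  have hq3 := three_le_card_of_odd hodd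
  obtain ⟨α', hα', hα1', huα⟩ := exists_quadChar hodd
  obtain ⟨θ', hθ', hθ1', huθ⟩ := exists_quadTorus C hodd hC hcard
  have huα' : ∀ β : MulChar F ℂ, β = β⁻¹ → β ≠ 1 → β = α₀ :=
    fun β h1 h2 => (huα β h1 h2).trans (huα α₀ hα hα1).symm
  have huθ' : ∀ θ : C →* ℂˣ, θ = θ⁻¹ → θ ≠ 1 → θ = θ₀ :=
    fun θ h1 h2 => (huθ θ h1 h2).trans (huθ θ₀ hθ hθ1).symm
  -- decompositions
  have hnormP : Cfsg.classInner (psFun α₀) (psFun α₀) = 2 := by
    have := classInner_indFun_sl2 α₀ α₀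
    rw [if_pos rfl, if_pos hα] at this
    unfold psFun
    rw [this]
    norm_num
  obtain ⟨ψ₁, ψ₂, hψ₁, hψ₂, hψne, a₁, a₂, ha₁, ha₂, hP⟩ :=
    genChar_norm_two (isGenChar_of_isCharacter (isCharacter_psFun α₀)) hnormP
  have hnormC : Cfsg.classInner (cuspChar C hC hcard θ₀) (cuspChar C hC hcard θ₀) = 2 := by
    unfold cuspChar
    rw [classInner_cuspFun_cuspFun C hC hcard _ _ θ₀ θ₀ (compatChar_spec C hC hcard _)
      (compatChar_spec C hC hcard _), if_pos rfl, if_pos hθ]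
    norm_num
  obtain ⟨η₁, η₂, hη₁, hη₂, hηne, b₁, b₂, hb₁, hb₂, hQ0⟩ :=
    genChar_norm_two (isGenChar_cuspFun C (compatChar C hC hcard θ₀) θ₀) hnormC
  have hQ : cuspChar C hC hcard θ₀ = b₁ • η₁ + b₂ • η₂ := hQ0
  -- the list
  have hlist : ∀ χ : SpecialLinearGroup (Fin 2) F → ℂ,
      Cfsg.IsIrrCharacter (SpecialLinearGroup (Fin 2) F) χ →
      χ = trivFun _ ∨ χ = stFun ∨ (∃ β : MulChar F ℂ, β ≠ β⁻¹ ∧ χ = psFun β) ∨
        (∃ θ : C →* ℂˣ, θ ≠ θ⁻¹ ∧ χ = cuspChar C hC hcard θ) ∨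
        χ = ψ₁ ∨ χ = ψ₂ ∨ χ = η₁ ∨ χ = η₂ := by
    intro χ hχ
    rcases irr_classification C hC hcard hχ with h | h | h | h | ⟨β, hb1, hb2, hb3⟩ |
      ⟨θ, ht1, ht2, ht3⟩
    · exact Or.inl h
    · exact Or.inr (Or.inl h)
    · exact Or.inr (Or.inr (Or.inl h))
    · exact Or.inr (Or.inr (Or.inr (Or.inl h)))
    · rw [huα' β hb1 hb2, hP] at hb3
      rcases eq_of_classInner_combo_ne_zero hψ₁ hψ₂ hχ a₁ a₂ hb3 with h | h
      · exact Or.inr (Or.inr (Or.inr (Or.inr (Or.inl h))))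
      · exact Or.inr (Or.inr (Or.inr (Or.inr (Or.inr (Or.inl h)))))
    · rw [huθ' θ ht1 ht2] at ht3
      have ht4 : Cfsg.classInner (b₁ • η₁ + b₂ • η₂) χ ≠ 0 := by
        rw [← hQ]
        exact ht3
      rcases eq_of_classInner_combo_ne_zero hη₁ hη₂ hχ b₁ b₂ ht4 with h | h
      · exact Or.inr (Or.inr (Or.inr (Or.inr (Or.inr (Or.inr (Or.inl h))))))
      · exact Or.inr (Or.inr (Or.inr (Or.inr (Or.inr (Or.inr (Or.inr h))))))
  -- the moved characters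
  let a : Fin 4 → Cfsg.IrrCharacter (SpecialLinearGroup (Fin 2) F) :=
    ![⟨ψ₁, hψ₁⟩, ⟨ψ₂, hψ₂⟩, ⟨η₁, hη₁⟩, ⟨η₂, hη₂⟩]
  have hcover : ∀ χ : Cfsg.IrrCharacter (SpecialLinearGroup (Fin 2) F),
      ¬ ((fun g => (χ : SpecialLinearGroup (Fin 2) F → ℂ) (sigmaSL ν g))
        = (χ : SpecialLinearGroup (Fin 2) F → ℂ)) → ∃ i, a i = χ := by
    rintro ⟨χ, hχ⟩ hmoved
    simp only at hmoved
    rcases hlist χ hχ with h | h | ⟨β, -, h⟩ | ⟨θ, -, h⟩ | h | h | h | h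
    · exfalso
      apply hmoved
      rw [h]
      rfl
    · exfalso
      apply hmoved
      rw [h]
      funext g
      exact stFun_sigma ν g
    · exfalso
      apply hmoved
      rw [h]
      funext g
      exact psFun_sigma β ν g
    · exfalso
      apply hmoved
      rw [h]
      funext g
      exact cuspChar_sigma C hC hcard θ ν g
    · exact ⟨0, Subtype.ext h.symm⟩
    · exact ⟨1, Subtype.ext h.symm⟩
    · exact ⟨2, Subtype.ext h.symm⟩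
    · exact ⟨3, Subtype.ext h.symm⟩
  obtain ⟨hinj, hmovedAll⟩ := covering_family a hcover (four_le_card_moved_irr h2 ν hν)
  have hm1 : (fun g => ψ₁ (sigmaSL ν g)) ≠ ψ₁ := hmovedAll 0
  have hm3 : (fun g => η₁ (sigmaSL ν g)) ≠ η₁ := hmovedAll 2
  obtain ⟨ha1, ha2, hs1, hs2⟩ := split_of_moved (sigmaSL ν) hψ₁ hψ₂ hψne ha₁ ha₂ hP
    (fun g => psFun_sigma α₀ ν g) (Fintype.card F + 1) (by omega)
    (by rw [psFun_apply_one]; push_cast; rfl) hm1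
  obtain ⟨hb1, hb2, ht1, ht2⟩ := split_of_moved (sigmaSL ν) hη₁ hη₂ hηne hb₁ hb₂ hQ
    (fun g => cuspChar_sigma C hC hcard θ₀ ν g) (Fintype.card F - 1) (by omega)
    (by rw [cuspChar_apply_one, Nat.cast_sub (by omega)]; push_cast; rfl) hm3
  have hne : ∀ i j : Fin 4, i ≠ j → (a i : SpecialLinearGroup (Fin 2) F → ℂ) ≠ a j :=
    fun i j hij h => hij (hinj (Subtype.ext h))
  refine ⟨ψ₁, ψ₂, η₁, η₂, hψ₁, hψ₂, hη₁, hη₂,
    ⟨hψne, hηne, hne 0 2 (by decide), hne 0 3 (by decide), hne 1 2 (by decide),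
      hne 1 3 (by decide)⟩, ?_, ?_, hs1, hs2, ht1, ht2, hlist⟩
  · rw [hP, ha1, ha2, one_smul, one_smul]
  · rw [hQ, hb1, hb2, one_smul, one_smul]

end

end Cfsg.Agent.Lib.Helper5
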