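import Mathlib
import Cfsg.Prelude.Def_Characters
import Cfsg.Agent.Lib.Helper5.SL2Odd
import Cfsg.Agent.Lib.Helper5.SL2Elements

set_option autoImplicit false

/-!
The character table of `SL₂(q)`, `q` odd, packaged as a structure.
-/

namespace Cfsg.Agent.Lib.Helper5

open Matrix
open Cfsg.Agent.Lib.Helper1 Cfsg.Agent.Lib.Helper4
open scoped ComplexConjugate

section
variable {F : Type*} [Field F] [Fintype F] [DecidableEq F]

/-- The data of the character table of `SL₂(q)`, `q` odd. -/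
structure OddTable (C : Subgroup (SpecialLinearGroup (Fin 2) F)) (hC : IsCyclic C)
    (hcard : Nat.card C = Fintype.card F + 1) (ν : Fˣ) (α₀ : MulChar F ℂ) (θ₀ : C →* ℂˣ)
    (χp χm ηp ηm : SpecialLinearGroup (Fin 2) F → ℂ) : Prop where
  odd : Odd (Fintype.card F)
  nonsq : ¬ IsSquare (ν : F)
  α_inv : α₀ = α₀⁻¹
  α_ne : α₀ ≠ 1
  α_unique : ∀ β : MulChar F ℂ, β = β⁻¹ → β ≠ 1 → β = α₀
  θ_inv : θ₀ = θ₀⁻¹
  θ_ne : θ₀ ≠ 1
  θ_unique : ∀ θ : C →* ℂˣ, θ = θ⁻¹ → θ ≠ 1 → θ = θ₀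
  irr_χp : Cfsg.IsIrrCharacter (SpecialLinearGroup (Fin 2) F) χp
  irr_χm : Cfsg.IsIrrCharacter (SpecialLinearGroup (Fin 2) F) χm
  irr_ηp : Cfsg.IsIrrCharacter (SpecialLinearGroup (Fin 2) F) ηp
  irr_ηm : Cfsg.IsIrrCharacter (SpecialLinearGroup (Fin 2) F) ηm
  ne_χ : χp ≠ χm
  ne_η : ηp ≠ ηm
  sum_χ : psFun α₀ = χp + χm
  sum_η : cuspChar C hC hcard θ₀ = ηp + ηm
  σ_χp : ∀ g, χp (sigmaSL ν g) = χm g
  σ_χm : ∀ g, χm (sigmaSL ν g) = χp g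
  σ_ηp : ∀ g, ηp (sigmaSL ν g) = ηm g
  σ_ηm : ∀ g, ηm (sigmaSL ν g) = ηp g
  list : ∀ χ : SpecialLinearGroup (Fin 2) F → ℂ,
    Cfsg.IsIrrCharacter (SpecialLinearGroup (Fin 2) F) χ →
    χ = trivFun _ ∨ χ = stFun ∨ (∃ β : MulChar F ℂ, β ≠ β⁻¹ ∧ χ = psFun β) ∨
      (∃ θ : C →* ℂˣ, θ ≠ θ⁻¹ ∧ χ = cuspChar C hC hcard θ) ∨
      χ = χp ∨ χ = χm ∨ χ = ηp ∨ χ = ηm

theorem exists_oddTable (hodd : Odd (Fintype.card F))
    (C : Subgroup (SpecialLinearGroup (Fin 2) F)) (hC : IsCyclic C)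
    (hcard : Nat.card C = Fintype.card F + 1) :
    ∃ (ν : Fˣ) (α₀ : MulChar F ℂ) (θ₀ : C →* ℂˣ)
      (χp χm ηp ηm : SpecialLinearGroup (Fin 2) F → ℂ),
      OddTable C hC hcard ν α₀ θ₀ χp χm ηp ηm := by
  obtain ⟨ν, hν⟩ := exists_nonsquare_unit hodd
  obtain ⟨α₀, hα, hα1, huα⟩ := exists_quadChar (F := F) hodd
  obtain ⟨θ₀, hθ, hθ1, huθ⟩ := exists_quadTorus C hodd hC hcard
  obtain ⟨χp, χm, ηp, ηm, h1, h2, h3, h4, ⟨h5, h6, -⟩, h7, h8, h9, h10, h11, h12, h13⟩ :=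
    odd_table C hodd hC hcard ν hν α₀ hα hα1 θ₀ hθ hθ1
  exact ⟨ν, α₀, θ₀, χp, χm, ηp, ηm, hodd, hν, hα, hα1, huα, hθ, hθ1, huθ, h1, h2, h3, h4, h5, h6,
    h7, h8, congrFun h9, congrFun h10, congrFun h11, congrFun h12, h13⟩

namespace OddTable

variable {C : Subgroup (SpecialLinearGroup (Fin 2) F)} {hC : IsCyclic C}
  {hcard : Nat.card C = Fintype.card F + 1} {ν : Fˣ} {α₀ : MulChar F ℂ} {θ₀ : C →* ℂˣ}
  {χp χm ηp ηm : SpecialLinearGroup (Fin 2) F → ℂ}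

theorem half_nat (n : ℕ) (hn : Even n) (z : ℂ) (h : z + z = (n : ℂ)) :
    z = ((n / 2 : ℕ) : ℂ) := by
  obtain ⟨k, hk⟩ := hn
  have h1 : n / 2 = k := by omega
  rw [h1]
  rw [hk] at h
  push_cast at h
  have h2 : (2 : ℂ) * z = 2 * k := by linear_combination h
  exact mul_left_cancel₀ two_ne_zero h2

theorem χm_one (T : OddTable C hC hcard ν α₀ θ₀ χp χm ηp ηm) : χm 1 = χp 1 := by
  rw [← T.σ_χp 1, map_one]

theorem ηm_one (T : OddTable C hC hcard ν α₀ θ₀ χp χm ηp ηm) : ηm 1 = ηp 1 := by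
  rw [← T.σ_ηp 1, map_one]

theorem χp_one (T : OddTable C hC hcard ν α₀ θ₀ χp χm ηp ηm) :
    χp 1 = (((Fintype.card F + 1) / 2 : ℕ) : ℂ) := by
  apply half_nat _ T.odd.add_one
  have h1 := psFun_apply_one α₀
  rw [T.sum_χ] at h1
  push_cast
  rw [← h1, Pi.add_apply, T.χm_one]

theorem χm_one' (T : OddTable C hC hcard ν α₀ θ₀ χp χm ηp ηm) :
    χm 1 = (((Fintype.card F + 1) / 2 : ℕ) : ℂ) := T.χm_one.trans T.χp_one

theorem ηp_one (T : OddTable C hC hcard ν α₀ θ₀ χp χm ηp ηm) :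
    ηp 1 = (((Fintype.card F - 1) / 2 : ℕ) : ℂ) := by
  have hq3 := three_le_card_of_odd T.odd
  have heven : Even (Fintype.card F - 1) := by
    obtain ⟨k, hk⟩ := T.odd
    exact ⟨k, by omega⟩
  apply half_nat _ heven
  have h1 := cuspChar_apply_one C hC hcard θ₀
  rw [T.sum_η] at h1
  rw [Nat.cast_sub (by omega)]
  push_cast
  rw [← h1, Pi.add_apply, T.ηm_one]

theorem ηm_one' (T : OddTable C hC hcard ν α₀ θ₀ χp χm ηp ηm) :
    ηm 1 = (((Fintype.card F - 1) / 2 : ℕ) : ℂ) := T.ηm_one.trans T.ηp_one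

/-- Away from the non-central elements of `ZU`, the two halves agree. -/
theorem half_χ (T : OddTable C hC hcard ν α₀ θ₀ χp χm ηp ηm)
    (g : SpecialLinearGroup (Fin 2) F) (hg : IsConj (sigmaSL ν g) g) :
    2 * χp g = psFun α₀ g ∧ 2 * χm g = psFun α₀ g := by
  have h1 : χm g = χp g := by
    rw [← T.σ_χp g]
    exact classFun_of_isConj (isClassFunction_of_isCharacter (isCharacter_of_irr T.irr_χp)) hg
  rw [T.sum_χ, Pi.add_apply, h1]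
  constructor <;> ring

theorem half_η (T : OddTable C hC hcard ν α₀ θ₀ χp χm ηp ηm)
    (g : SpecialLinearGroup (Fin 2) F) (hg : IsConj (sigmaSL ν g) g) :
    2 * ηp g = cuspChar C hC hcard θ₀ g ∧ 2 * ηm g = cuspChar C hC hcard θ₀ g := by
  have h1 : ηm g = ηp g := by
    rw [← T.σ_ηp g]
    exact classFun_of_isConj (isClassFunction_of_isCharacter (isCharacter_of_irr T.irr_ηp)) hg
  rw [T.sum_η, Pi.add_apply, h1]
  constructor <;> ring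

end OddTable

theorem isConj_sigma_of_trace (ν : Fˣ) (g : SpecialLinearGroup (Fin 2) F)
    (ht : (g : Matrix (Fin 2) (Fin 2) F).trace ^ 2 ≠ 4) : IsConj (sigmaSL ν g) g := by
  apply isConj_of_trace_eq _ _ (sigmaSL_trace ν g)
  rw [sigmaSL_trace]
  exact ht

omit [Fintype F] [DecidableEq F] in
theorem isConj_sigma_of_scalar (ν : Fˣ) (g : SpecialLinearGroup (Fin 2) F) (r : F)
    (hr : (g : Matrix (Fin 2) (Fin 2) F) = r • (1 : Matrix (Fin 2) (Fin 2) F)) :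
    IsConj (sigmaSL ν g) g := by
  rw [sigmaSL_scalar ν g r hr]

end

end Cfsg.Agent.Lib.Helper5
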