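import Mathlib
import Cfsg.Prelude.Def_Characters
import Cfsg.Agent.Lib.Helper5.SL2OddTable
import Cfsg.Agent.Lib.Helper5.SL2Even

set_option autoImplicit false

/-!
Identifying an irreducible character of `SL₂(q)` from its degree.
-/

namespace Cfsg.Agent.Lib.Helper5

open Matrix
open Cfsg.Agent.Lib.Helper1 Cfsg.Agent.Lib.Helper4
open scoped ComplexConjugate

section
variable {F : Type*} [Field F] [Fintype F] [DecidableEq F]

omit [DecidableEq F] in
theorem two_le_card : 2 ≤ Fintype.card F := Fintype.one_lt_card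

omit [DecidableEq F] in
theorem card_sub_one_cast : ((Fintype.card F - 1 : ℕ) : ℂ) = (Fintype.card F : ℂ) - 1 := by
  rw [Nat.cast_sub (by have := two_le_card (F := F); omega)]
  push_cast
  rfl

omit [Field F] [DecidableEq F] in
theorem card_add_one_cast : ((Fintype.card F + 1 : ℕ) : ℂ) = (Fintype.card F : ℂ) + 1 := by
  push_cast
  rfl

omit [Fintype F] [DecidableEq F] in
theorem trivFun_one_nat : trivFun (SpecialLinearGroup (Fin 2) F) 1 = ((1 : ℕ) : ℂ) := by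
  rw [Nat.cast_one]
  rfl

theorem stFun_one_nat : stFun (1 : SpecialLinearGroup (Fin 2) F) = ((Fintype.card F : ℕ) : ℂ) :=
  stFun_one

theorem psFun_one_nat (β : MulChar F ℂ) :
    psFun β (1 : SpecialLinearGroup (Fin 2) F) = ((Fintype.card F + 1 : ℕ) : ℂ) := by
  rw [psFun_apply_one, card_add_one_cast]

variable (C : Subgroup (SpecialLinearGroup (Fin 2) F))

theorem cuspChar_one_nat (hC : IsCyclic C) (hcard : Nat.card C = Fintype.card F + 1)
    (θ : C →* ℂˣ) : cuspChar C hC hcard θ 1 = ((Fintype.card F - 1 : ℕ) : ℂ) := by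
  rw [cuspChar_apply_one, card_sub_one_cast]

/-- The degree of an irreducible character of `SL₂(q)` as a natural number, with its family. -/
theorem irr_cases (hC : IsCyclic C) (hcard : Nat.card C = Fintype.card F + 1)
    {χ : SpecialLinearGroup (Fin 2) F → ℂ}
    (hχ : Cfsg.IsIrrCharacter (SpecialLinearGroup (Fin 2) F) χ) :
    (χ = trivFun _ ∧ χ 1 = ((1 : ℕ) : ℂ)) ∨ (χ = stFun ∧ χ 1 = ((Fintype.card F : ℕ) : ℂ)) ∨
    ((∃ β : MulChar F ℂ, β ≠ β⁻¹ ∧ χ = psFun β) ∧ χ 1 = ((Fintype.card F + 1 : ℕ) : ℂ)) ∨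
    ((∃ θ : C →* ℂˣ, θ ≠ θ⁻¹ ∧ χ = cuspChar C hC hcard θ) ∧
      χ 1 = ((Fintype.card F - 1 : ℕ) : ℂ)) ∨
    (Odd (Fintype.card F) ∧ χ 1 = (((Fintype.card F + 1) / 2 : ℕ) : ℂ)) ∨
    (Odd (Fintype.card F) ∧ χ 1 = (((Fintype.card F - 1) / 2 : ℕ) : ℂ)) := by
  rcases Nat.even_or_odd (Fintype.card F) with hq | hq
  · rcases irr_list_even C hq hC hcard hχ with h | h | ⟨β, hβ, h⟩ | ⟨θ, hθ, h⟩
    · exact Or.inl ⟨h, by rw [h]; exact trivFun_one_nat⟩
    · exact Or.inr (Or.inl ⟨h, by rw [h]; exact stFun_one_nat⟩)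
    · exact Or.inr (Or.inr (Or.inl ⟨⟨β, hβ, h⟩, by rw [h]; exact psFun_one_nat β⟩))
    · exact Or.inr (Or.inr (Or.inr (Or.inl ⟨⟨θ, hθ, h⟩, by
        rw [h]; exact cuspChar_one_nat C hC hcard θ⟩)))
  · obtain ⟨ν, α₀, θ₀, χp, χm, ηp, ηm, T⟩ := exists_oddTable hq C hC hcard
    rcases T.list χ hχ with h | h | ⟨β, hβ, h⟩ | ⟨θ, hθ, h⟩ | h | h | h | h
    · exact Or.inl ⟨h, by rw [h]; exact trivFun_one_nat⟩
    · exact Or.inr (Or.inl ⟨h, by rw [h]; exact stFun_one_nat⟩)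
    · exact Or.inr (Or.inr (Or.inl ⟨⟨β, hβ, h⟩, by rw [h]; exact psFun_one_nat β⟩))
    · exact Or.inr (Or.inr (Or.inr (Or.inl ⟨⟨θ, hθ, h⟩, by
        rw [h]; exact cuspChar_one_nat C hC hcard θ⟩)))
    · exact Or.inr (Or.inr (Or.inr (Or.inr (Or.inl ⟨hq, by rw [h]; exact T.χp_one⟩))))
    · exact Or.inr (Or.inr (Or.inr (Or.inr (Or.inl ⟨hq, by rw [h]; exact T.χm_one'⟩))))
    · exact Or.inr (Or.inr (Or.inr (Or.inr (Or.inr ⟨hq, by rw [h]; exact T.ηp_one⟩))))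
    · exact Or.inr (Or.inr (Or.inr (Or.inr (Or.inr ⟨hq, by rw [h]; exact T.ηm_one'⟩))))

theorem eq_stFun_of_degree {χ : SpecialLinearGroup (Fin 2) F → ℂ}
    (hχ : Cfsg.IsIrrCharacter (SpecialLinearGroup (Fin 2) F) χ)
    (hdeg : χ 1 = (Fintype.card F : ℂ)) : χ = stFun := by
  obtain ⟨C, hC, hcard⟩ := exists_torus (F := F)
  have hq2 := two_le_card (F := F)
  rcases irr_cases C hC hcard hχ with ⟨-, h⟩ | ⟨h, -⟩ | ⟨-, h⟩ | ⟨-, h⟩ | ⟨hodd, h⟩ | ⟨hodd, h⟩
  · exfalso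
    have := Nat.cast_injective (R := ℂ) (h.symm.trans hdeg)
    omega
  · exact h
  · exfalso
    have := Nat.cast_injective (R := ℂ) (h.symm.trans hdeg)
    omega
  · exfalso
    have := Nat.cast_injective (R := ℂ) (h.symm.trans hdeg)
    omega
  · exfalso
    have := Nat.cast_injective (R := ℂ) (h.symm.trans hdeg)
    omega
  · exfalso
    have := Nat.cast_injective (R := ℂ) (h.symm.trans hdeg)
    omega

theorem exists_psFun_of_degree {χ : SpecialLinearGroup (Fin 2) F → ℂ}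
    (hχ : Cfsg.IsIrrCharacter (SpecialLinearGroup (Fin 2) F) χ)
    (hdeg : χ 1 = (Fintype.card F : ℂ) + 1) : ∃ β : MulChar F ℂ, β ≠ β⁻¹ ∧ χ = psFun β := by
  obtain ⟨C, hC, hcard⟩ := exists_torus (F := F)
  have hq2 := two_le_card (F := F)
  rw [← card_add_one_cast] at hdeg
  rcases irr_cases C hC hcard hχ with ⟨-, h⟩ | ⟨-, h⟩ | ⟨h, -⟩ | ⟨-, h⟩ | ⟨hodd, h⟩ | ⟨hodd, h⟩
  · exfalso
    have := Nat.cast_injective (R := ℂ) (h.symm.trans hdeg)
    omega
  · exfalso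
    have := Nat.cast_injective (R := ℂ) (h.symm.trans hdeg)
    omega
  · exact h
  · exfalso
    have := Nat.cast_injective (R := ℂ) (h.symm.trans hdeg)
    omega
  · exfalso
    have := Nat.cast_injective (R := ℂ) (h.symm.trans hdeg)
    omega
  · exfalso
    have := Nat.cast_injective (R := ℂ) (h.symm.trans hdeg)
    omega

theorem exists_cuspChar_of_degree (hq : 4 ≤ Fintype.card F) (hC : IsCyclic C)
    (hcard : Nat.card C = Fintype.card F + 1) {χ : SpecialLinearGroup (Fin 2) F → ℂ}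
    (hχ : Cfsg.IsIrrCharacter (SpecialLinearGroup (Fin 2) F) χ)
    (hdeg : χ 1 = (Fintype.card F : ℂ) - 1) :
    ∃ θ : C →* ℂˣ, θ ≠ θ⁻¹ ∧ χ = cuspChar C hC hcard θ := by
  rw [← card_sub_one_cast] at hdeg
  rcases irr_cases C hC hcard hχ with ⟨-, h⟩ | ⟨-, h⟩ | ⟨-, h⟩ | ⟨h, -⟩ | ⟨hodd, h⟩ | ⟨hodd, h⟩
  · exfalso
    have := Nat.cast_injective (R := ℂ) (h.symm.trans hdeg)
    omega
  · exfalso
    have := Nat.cast_injective (R := ℂ) (h.symm.trans hdeg)
    omega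
  · exfalso
    have := Nat.cast_injective (R := ℂ) (h.symm.trans hdeg)
    omega
  · exact h
  · exfalso
    have := Nat.cast_injective (R := ℂ) (h.symm.trans hdeg)
    omega
  · exfalso
    have := Nat.cast_injective (R := ℂ) (h.symm.trans hdeg)
    omega

end

end Cfsg.Agent.Lib.Helper5
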