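import Mathlib
import Cfsg.Prelude.Def_Characters
import Cfsg.Agent.Lib.Helper5.SL2Degrees

set_option autoImplicit false

/-!
Case analysis on the irreducible characters of `SL₂(q)`, `q` odd, with their degrees.
-/

namespace Cfsg.Agent.Lib.Helper5

open Matrix
open Cfsg.Agent.Lib.Helper1 Cfsg.Agent.Lib.Helper4
open scoped ComplexConjugate

theorem nat_of_apply {G : Type*} {χ : G → ℂ} {x : G} {n m : ℕ} (h1 : χ x = (n : ℂ))
    (h2 : χ x = (m : ℂ)) : n = m :=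
  Nat.cast_injective (R := ℂ) (h1.symm.trans h2)

section
variable {F : Type*} [Field F] [Fintype F] [DecidableEq F]

namespace OddTable

variable {C : Subgroup (SpecialLinearGroup (Fin 2) F)} {hC : IsCyclic C}
  {hcard : Nat.card C = Fintype.card F + 1} {ν : Fˣ} {α₀ : MulChar F ℂ} {θ₀ : C →* ℂˣ}
  {χp χm ηp ηm : SpecialLinearGroup (Fin 2) F → ℂ}

theorem cases (T : OddTable C hC hcard ν α₀ θ₀ χp χm ηp ηm)
    {χ : SpecialLinearGroup (Fin 2) F → ℂ}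
    (hχ : Cfsg.IsIrrCharacter (SpecialLinearGroup (Fin 2) F) χ) :
    (χ = trivFun _ ∧ χ 1 = ((1 : ℕ) : ℂ)) ∨ (χ = stFun ∧ χ 1 = ((Fintype.card F : ℕ) : ℂ)) ∨
    ((∃ β : MulChar F ℂ, β ≠ β⁻¹ ∧ χ = psFun β) ∧ χ 1 = ((Fintype.card F + 1 : ℕ) : ℂ)) ∨
    ((∃ θ : C →* ℂˣ, θ ≠ θ⁻¹ ∧ χ = cuspChar C hC hcard θ) ∧
      χ 1 = ((Fintype.card F - 1 : ℕ) : ℂ)) ∨
    ((χ = χp ∨ χ = χm) ∧ χ 1 = (((Fintype.card F + 1) / 2 : ℕ) : ℂ)) ∨
    ((χ = ηp ∨ χ = ηm) ∧ χ 1 = (((Fintype.card F - 1) / 2 : ℕ) : ℂ)) := by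
  rcases T.list χ hχ with h | h | ⟨β, hβ, h⟩ | ⟨θ, hθ, h⟩ | h | h | h | h
  · exact Or.inl ⟨h, by rw [h]; exact trivFun_one_nat⟩
  · exact Or.inr (Or.inl ⟨h, by rw [h]; exact stFun_one_nat⟩)
  · exact Or.inr (Or.inr (Or.inl ⟨⟨β, hβ, h⟩, by rw [h]; exact psFun_one_nat β⟩))
  · exact Or.inr (Or.inr (Or.inr (Or.inl ⟨⟨θ, hθ, h⟩, by
      rw [h]; exact cuspChar_one_nat C hC hcard θ⟩)))
  · exact Or.inr (Or.inr (Or.inr (Or.inr (Or.inl ⟨Or.inl h, by rw [h]; exact T.χp_one⟩))))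
  · exact Or.inr (Or.inr (Or.inr (Or.inr (Or.inl ⟨Or.inr h, by rw [h]; exact T.χm_one'⟩))))
  · exact Or.inr (Or.inr (Or.inr (Or.inr (Or.inr ⟨Or.inl h, by rw [h]; exact T.ηp_one⟩))))
  · exact Or.inr (Or.inr (Or.inr (Or.inr (Or.inr ⟨Or.inr h, by rw [h]; exact T.ηm_one'⟩))))

theorem eq_half_ps (T : OddTable C hC hcard ν α₀ θ₀ χp χm ηp ηm) (hq5 : 5 ≤ Fintype.card F)
    {χ : SpecialLinearGroup (Fin 2) F → ℂ}
    (hχ : Cfsg.IsIrrCharacter (SpecialLinearGroup (Fin 2) F) χ)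
    (h1 : χ 1 = (((Fintype.card F + 1) / 2 : ℕ) : ℂ)) : χ = χp ∨ χ = χm := by
  obtain ⟨k, hk⟩ := T.odd
  rcases T.cases hχ with ⟨-, h⟩ | ⟨-, h⟩ | ⟨-, h⟩ | ⟨-, h⟩ | ⟨h, -⟩ | ⟨-, h⟩
  · exfalso; have := nat_of_apply h h1; omega
  · exfalso; have := nat_of_apply h h1; omega
  · exfalso; have := nat_of_apply h h1; omega
  · exfalso; have := nat_of_apply h h1; omega
  · exact h
  · exfalso; have := nat_of_apply h h1; omega

theorem eq_half_cusp (T : OddTable C hC hcard ν α₀ θ₀ χp χm ηp ηm) (hq5 : 5 ≤ Fintype.card F)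
    {χ : SpecialLinearGroup (Fin 2) F → ℂ}
    (hχ : Cfsg.IsIrrCharacter (SpecialLinearGroup (Fin 2) F) χ)
    (h1 : χ 1 = (((Fintype.card F - 1) / 2 : ℕ) : ℂ)) : χ = ηp ∨ χ = ηm := by
  obtain ⟨k, hk⟩ := T.odd
  rcases T.cases hχ with ⟨-, h⟩ | ⟨-, h⟩ | ⟨-, h⟩ | ⟨-, h⟩ | ⟨-, h⟩ | ⟨h, -⟩
  · exfalso; have := nat_of_apply h h1; omega
  · exfalso; have := nat_of_apply h h1; omega
  · exfalso; have := nat_of_apply h h1; omega
  · exfalso; have := nat_of_apply h h1; omega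
  · exfalso; have := nat_of_apply h h1; omega
  · exact h

end OddTable

end

end Cfsg.Agent.Lib.Helper5
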