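import Mathlib
import Cfsg.Prelude.Def_Characters
import Cfsg.Agent.Lib.Helper1.CharCenter
import Cfsg.Agent.Lib.Helper5.SL2OddCases

set_option autoImplicit false

/-!
The difference of two irreducible characters of `SL₂(q)` exchanged by the diagonal automorphism:
its value at a transvection has absolute value `√q`.
-/

namespace Cfsg.Agent.Lib.Helper5

open Matrix
open Cfsg.Agent.Lib.Helper1 Cfsg.Agent.Lib.Helper4
open scoped ComplexConjugate

section generic
universe u
variable {G : Type u} [Group G]

/-- Central elements act on an irreducible character through a scalar. -/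
theorem irr_central_mul {χ : G → ℂ} (hχ : Cfsg.IsIrrCharacter G χ) {z : G}
    (hz : z ∈ Subgroup.center G) (g : G) : χ (z * g) = χ z / χ 1 * χ g := by
  obtain ⟨n, ρ, hirr, rfl⟩ := hχ
  have := hirr
  have h1 := central_eq_char ρ hz
  rw [Representation.char_one]
  generalize ρ.character z / (Module.finrank ℂ (Fin n → ℂ) : ℂ) = c at h1 ⊢
  show LinearMap.trace ℂ _ (ρ (z * g)) = c * LinearMap.trace ℂ _ (ρ g)
  have h2 : (LinearMap.id : Module.End ℂ (Fin n → ℂ)) * ρ g = ρ g := one_mul _
  rw [map_mul, h1, smul_mul_assoc, h2, map_smul, smul_eq_mul]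

end generic

section
variable {F : Type*} [Field F] [Fintype F] [DecidableEq F]

/-- A non-central element of trace `±2` fixes exactly one point of the projective line. -/
theorem psFun_one_of_trace_sq (h2 : (2 : F) ≠ 0) (g : SpecialLinearGroup (Fin 2) F)
    (hns : ¬ ∃ r : F, (g : Matrix (Fin 2) (Fin 2) F) = r • (1 : Matrix (Fin 2) (Fin 2) F))
    (ht : (g : Matrix (Fin 2) (Fin 2) F).trace ^ 2 = 4) :
    psFun (1 : MulChar F ℂ) g = 1 := by
  obtain ⟨a, ha⟩ : ∃ a, (g : Matrix (Fin 2) (Fin 2) F) 0 0 = a := ⟨_, rfl⟩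
  obtain ⟨b, hb⟩ : ∃ a, (g : Matrix (Fin 2) (Fin 2) F) 0 1 = a := ⟨_, rfl⟩
  obtain ⟨c, hc⟩ : ∃ a, (g : Matrix (Fin 2) (Fin 2) F) 1 0 = a := ⟨_, rfl⟩
  obtain ⟨d, hd⟩ : ∃ a, (g : Matrix (Fin 2) (Fin 2) F) 1 1 = a := ⟨_, rfl⟩
  have key := indFun_borel_value' slM (borelSL F) slX mem_borelSL_two slM_slX
    (fun a _ => (1 : MulChar F ℂ) a) g a b c d (by rw [slM_apply, ha]) (by rw [slM_apply, hb])
    (by rw [slM_apply, hc]) (by rw [slM_apply, hd])
  have hdet : a * d - b * c = 1 := by
    have := g.2
    rw [Matrix.det_fin_two, ha, hb, hc, hd] at this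
    exact this
  rw [Matrix.trace_fin_two, ha, hd] at ht
  have hgM : (g : Matrix (Fin 2) (Fin 2) F) = !![a, b; c, d] := by
    rw [Matrix.eta_fin_two (g : Matrix (Fin 2) (Fin 2) F), ha, hb, hc, hd]
  unfold psFun
  refine key.trans ?_
  by_cases hc0 : c = 0
  · subst hc0
    rw [mul_zero, sub_zero] at hdet
    have had : a = d := by
      have : (a - d) ^ 2 = 0 := by linear_combination ht - 4 * hdet
      exact sub_eq_zero.1 ((pow_eq_zero_iff two_ne_zero).1 this)
    have ha0 : a ≠ 0 := by
      rintro rfl
      rw [zero_mul] at hdet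
      exact zero_ne_one hdet
    have hb0 : b ≠ 0 := by
      rintro rfl
      apply hns
      refine ⟨a, ?_⟩
      rw [hgM, ← had]
      ext i j
      fin_cases i <;> fin_cases j <;> simp
    rw [if_pos rfl, MulChar.one_apply (isUnit_iff_ne_zero.2 ha0)]
    have : ∀ s : F, (if (0 : F) * s ^ 2 + (d - a) * s - b = 0 then (1 : MulChar F ℂ) (0 * s + d)
        else 0) = 0 := by
      intro s
      rw [if_neg]
      rw [had, sub_self, zero_mul, zero_mul, zero_add, zero_sub, neg_eq_zero]
      exact hb0
    rw [Finset.sum_congr rfl fun s _ => this s, Finset.sum_const_zero, add_zero]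
  · rw [if_neg hc0, zero_add]
    have h2c : 2 * c ≠ 0 := mul_ne_zero h2 hc0
    have hroot : ∀ s : F, c * s ^ 2 + (d - a) * s - b = 0 ↔ s = (a - d) / (2 * c) := by
      intro s
      have hfac : 4 * c * (c * s ^ 2 + (d - a) * s - b) = (2 * c * s - (a - d)) ^ 2 := by
        linear_combination (-1 : F) * ht + 4 * hdet
      constructor
      · intro h
        rw [h, mul_zero] at hfac
        have h3 : 2 * c * s - (a - d) = 0 := (pow_eq_zero_iff two_ne_zero).1 hfac.symm
        rw [eq_div_iff h2c]
        linear_combination h3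
      · intro h
        rw [eq_div_iff h2c] at h
        have h3 : 2 * c * s - (a - d) = 0 := by linear_combination h
        rw [h3] at hfac
        have h4 : 4 * c ≠ 0 := by
          have : (4 : F) = 2 * 2 := by norm_num
          rw [this]
          exact mul_ne_zero (mul_ne_zero h2 h2) hc0
        have h5 : 4 * c * (c * s ^ 2 + (d - a) * s - b) = 0 := by
          rw [hfac]; ring
        exact (mul_eq_zero.1 h5).resolve_left h4
    have hval : c * ((a - d) / (2 * c)) + d ≠ 0 := by
      intro h
      have h3 : (a + d) = 0 := by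
        have : c * ((a - d) / (2 * c)) = (a - d) / 2 := by
          field_simp
        rw [this] at h
        have h4 : (a - d) / 2 * 2 = a - d := div_mul_cancel₀ _ h2
        linear_combination 2 * h - h4
      rw [h3] at ht
      have : (4 : F) = 0 := by rw [← ht]; ring
      have h4 : (2 : F) * 2 = 0 := by rw [← this]; norm_num
      rcases mul_eq_zero.1 h4 with h | h <;> exact h2 h
    simp only [hroot]
    rw [Finset.sum_ite_eq', if_pos (Finset.mem_univ _),
      MulChar.one_apply (isUnit_iff_ne_zero.2 hval)]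

end

end Cfsg.Agent.Lib.Helper5
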