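import Cfsg.Agent.Lib.Helper5.WG_R2

/-!
S2524 PK-R4 : the parabolic subgroup `P1` of `Sp (m+1)` (stabiliser of the first basis line):
membership of the standard elements, and the unique factorisation `P1 = H₁ ⋊ (T₁ × Sp m)`.
-/

set_option autoImplicit false

namespace Cfsg.Agent.Lib.Helper2.WG

open Matrix Cfsg Cfsg.Agent.H9SpF Cfsg.Agent.Lib.Helper6.Siegel Cfsg.Agent.Lib.Helper1.SUMin
open scoped ComplexConjugate

universe u

variable {F : Type u} [Field F] [Fintype F]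

variable {m : ℕ}

namespace PkR4

/-! ### index bookkeeping -/

theorem eIdx_symm_inl_zero : (eIdx m).symm (Sum.inl 0) = Sum.inl (Sum.inl 0) := rfl

theorem eIdx_symm_inr_zero : (eIdx m).symm (Sum.inr 0) = Sum.inl (Sum.inr 0) := rfl

theorem eIdx_symm_inl_succ (k : Fin m) : (eIdx m).symm (Sum.inl k.succ) = Sum.inr (Sum.inl k) := by
  simp [eIdx]

theorem eIdx_symm_inr_succ (k : Fin m) : (eIdx m).symm (Sum.inr k.succ) = Sum.inr (Sum.inr k) := by
  simp [eIdx]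

theorem dsumM_apply (A : Matrix (Fin 1 ⊕ Fin 1) (Fin 1 ⊕ Fin 1) F)
    (B : Matrix (Fin m ⊕ Fin m) (Fin m ⊕ Fin m) F) (i j : Fin (m + 1) ⊕ Fin (m + 1)) :
    dsumM A B i j = Matrix.fromBlocks A 0 0 B ((eIdx m).symm i) ((eIdx m).symm j) := rfl

/-- the inclusion of the last `m` hyperbolic planes on indices -/
def lift : Fin m ⊕ Fin m → Fin (m + 1) ⊕ Fin (m + 1) := Sum.map Fin.succ Fin.succ

@[simp] theorem lift_inl (k : Fin m) : lift (Sum.inl k) = Sum.inl k.succ := rfl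
@[simp] theorem lift_inr (k : Fin m) : lift (Sum.inr k) = Sum.inr k.succ := rfl

theorem eIdx_symm_lift (c : Fin m ⊕ Fin m) : (eIdx m).symm (lift c) = Sum.inr c := by
  rcases c with c | c
  · exact eIdx_symm_inl_succ c
  · exact eIdx_symm_inr_succ c

theorem lift_ne_inl_zero (c : Fin m ⊕ Fin m) : lift c ≠ Sum.inl 0 := by
  rcases c with c | c
  · simp [Fin.succ_ne_zero]
  · simp

theorem lift_ne_inr_zero (c : Fin m ⊕ Fin m) : lift c ≠ Sum.inr 0 := by
  rcases c with c | c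
  · simp
  · simp [Fin.succ_ne_zero]

theorem sum_split {M : Type*} [AddCommMonoid M] (f : Fin (m + 1) ⊕ Fin (m + 1) → M) :
    ∑ k, f k = f (Sum.inl 0) + f (Sum.inr 0) + ∑ c : Fin m ⊕ Fin m, f (lift c) := by
  rw [Fintype.sum_sum_type, Fintype.sum_sum_type, Fin.sum_univ_succ, Fin.sum_univ_succ]
  simp only [lift_inl, lift_inr]
  abel

/-- case analysis on the four kinds of indices -/
theorem idx_cases {P : Fin (m + 1) ⊕ Fin (m + 1) → Prop} (h0 : P (Sum.inl 0)) (h1 : P (Sum.inr 0))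
    (h2 : ∀ c : Fin m ⊕ Fin m, P (lift c)) (i : Fin (m + 1) ⊕ Fin (m + 1)) : P i := by
  rcases i with i | i
  · refine Fin.cases h0 (fun k => ?_) i
    exact h2 (Sum.inl k)
  · refine Fin.cases h1 (fun k => ?_) i
    exact h2 (Sum.inr k)

/-! ### the symplectic condition, column by column -/

theorem mem_sp_iff_cols {n : ℕ} (A : Matrix (Fin n ⊕ Fin n) (Fin n ⊕ Fin n) F) :
    A ∈ symplecticGroup (Fin n) F ↔ ∀ a b, ∑ k, (A (Sum.inr k) a * A (Sum.inl k) b -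
      A (Sum.inl k) a * A (Sum.inr k) b) = J (Fin n) F a b := by
  rw [SymplecticGroup.mem_iff', ← Matrix.ext_iff]
  refine forall_congr' fun a => forall_congr' fun b => ?_
  have h : (Aᵀ * J (Fin n) F * A) a b = ∑ k, (A (Sum.inr k) a * A (Sum.inl k) b -
      A (Sum.inl k) a * A (Sum.inr k) b) := by
    simp only [Matrix.mul_apply, Fintype.sum_sum_type, J, Matrix.transpose_apply,
      Matrix.fromBlocks_apply₁₁, Matrix.fromBlocks_apply₁₂, Matrix.fromBlocks_apply₂₁,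
      Matrix.fromBlocks_apply₂₂, Matrix.zero_apply, Matrix.neg_apply, Matrix.one_apply,
      mul_zero, Finset.sum_const_zero, zero_add, add_zero, mul_neg, mul_ite, mul_one,
      Finset.sum_neg_distrib, Finset.sum_ite_eq', Finset.mem_univ, if_true, neg_mul,
      Finset.sum_sub_distrib]
    ring
  rw [h]

theorem col_id {n : ℕ} (A : Sp n F) (a b : Fin n ⊕ Fin n) :
    ∑ k, (A.1 (Sum.inr k) a * A.1 (Sum.inl k) b - A.1 (Sum.inl k) a * A.1 (Sum.inr k) b) =
      J (Fin n) F a b := (mem_sp_iff_cols A.1).1 A.2 a b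

theorem J_inl_inr_zero : J (Fin (m + 1)) F (Sum.inl 0) (Sum.inr 0) = -1 := by
  simp [J]

theorem J_inl_zero_lift (b : Fin m ⊕ Fin m) : J (Fin (m + 1)) F (Sum.inl 0) (lift b) = 0 := by
  rcases b with b | b
  · simp [J]
  · simp [J, Matrix.one_apply, Ne.symm (Fin.succ_ne_zero _)]

theorem J_inr_zero_lift (b : Fin m ⊕ Fin m) : J (Fin (m + 1)) F (Sum.inr 0) (lift b) = 0 := by
  rcases b with b | b
  · simp [J, Matrix.one_apply, Ne.symm (Fin.succ_ne_zero _)]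
  · simp [J]

theorem J_lift_lift (a b : Fin m ⊕ Fin m) :
    J (Fin (m + 1)) F (lift a) (lift b) = J (Fin m) F a b := by
  rcases a with a | a <;> rcases b with b | b <;> simp [J, Matrix.one_apply, Fin.succ_inj]

/-! ### consequences of the symplectic condition for elements of `P1` -/

/-- the column identity with the first hyperbolic plane split off -/
theorem col_id_split (p : Sp (m + 1) F) (a b : Fin (m + 1) ⊕ Fin (m + 1)) :
    (p.1 (Sum.inr 0) a * p.1 (Sum.inl 0) b - p.1 (Sum.inl 0) a * p.1 (Sum.inr 0) b) +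
      ∑ k : Fin m, (p.1 (lift (Sum.inr k)) a * p.1 (lift (Sum.inl k)) b -
        p.1 (lift (Sum.inl k)) a * p.1 (lift (Sum.inr k)) b) = J (Fin (m + 1)) F a b := by
  rw [← col_id p a b, Fin.sum_univ_succ]
  rfl

theorem P1_col {p : Sp (m + 1) F} (hp : p ∈ P1 m F) (c : Fin m ⊕ Fin m) :
    p.1 (lift c) (Sum.inl 0) = 0 := hp _ (lift_ne_inl_zero c)

theorem P1_col' {p : Sp (m + 1) F} (hp : p ∈ P1 m F) : p.1 (Sum.inr 0) (Sum.inl 0) = 0 :=
  hp _ (by simp)

theorem P1_diag {p : Sp (m + 1) F} (hp : p ∈ P1 m F) :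
    p.1 (Sum.inl 0) (Sum.inl 0) * p.1 (Sum.inr 0) (Sum.inr 0) = 1 := by
  have h := col_id_split p (Sum.inl 0) (Sum.inr 0)
  rw [J_inl_inr_zero, P1_col' hp] at h
  simp only [P1_col hp, zero_mul, sub_self, Finset.sum_const_zero, add_zero, zero_sub] at h
  exact neg_injective h

theorem P1_diag_ne {p : Sp (m + 1) F} (hp : p ∈ P1 m F) : p.1 (Sum.inl 0) (Sum.inl 0) ≠ 0 :=
  left_ne_zero_of_mul_eq_one (P1_diag hp)

theorem P1_diag_ne' {p : Sp (m + 1) F} (hp : p ∈ P1 m F) : p.1 (Sum.inr 0) (Sum.inr 0) ≠ 0 :=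
  right_ne_zero_of_mul_eq_one (P1_diag hp)

theorem P1_row {p : Sp (m + 1) F} (hp : p ∈ P1 m F) (b : Fin m ⊕ Fin m) :
    p.1 (Sum.inr 0) (lift b) = 0 := by
  have h := col_id_split p (Sum.inl 0) (lift b)
  rw [J_inl_zero_lift, P1_col' hp] at h
  simp only [P1_col hp, zero_mul, sub_self, Finset.sum_const_zero, add_zero, zero_sub,
    neg_eq_zero] at h
  exact (mul_eq_zero.1 h).resolve_left (P1_diag_ne hp)

theorem P1_row_e0 {p : Sp (m + 1) F} (hp : p ∈ P1 m F) (b : Fin m ⊕ Fin m) :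
    p.1 (Sum.inr 0) (Sum.inr 0) * p.1 (Sum.inl 0) (lift b) +
      ∑ k : Fin m, (p.1 (lift (Sum.inr k)) (Sum.inr 0) * p.1 (lift (Sum.inl k)) (lift b) -
        p.1 (lift (Sum.inl k)) (Sum.inr 0) * p.1 (lift (Sum.inr k)) (lift b)) = 0 := by
  have h := col_id_split p (Sum.inr 0) (lift b)
  rw [J_inr_zero_lift, P1_row hp, mul_zero, sub_zero] at h
  exact h

/-- the middle block of an element of `P1` -/
def midM (p : Sp (m + 1) F) : Matrix (Fin m ⊕ Fin m) (Fin m ⊕ Fin m) F :=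
  Matrix.of fun a b => p.1 (lift a) (lift b)

theorem midM_apply (p : Sp (m + 1) F) (a b : Fin m ⊕ Fin m) : midM p a b = p.1 (lift a) (lift b) :=
  rfl

theorem midM_mem {p : Sp (m + 1) F} (hp : p ∈ P1 m F) : midM p ∈ symplecticGroup (Fin m) F := by
  rw [mem_sp_iff_cols]
  intro a b
  have h := col_id_split p (lift a) (lift b)
  rw [J_lift_lift, P1_row hp, P1_row hp, zero_mul, mul_zero, sub_self, zero_add] at h
  exact h

/-- an element of `P1` is determined by its corner entry, its column `f₀` and its middle block -/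
theorem ext_P1 {p p' : Sp (m + 1) F} (hp : p ∈ P1 m F) (hp' : p' ∈ P1 m F)
    (h00 : p.1 (Sum.inl 0) (Sum.inl 0) = p'.1 (Sum.inl 0) (Sum.inl 0))
    (hcol : ∀ i, p.1 i (Sum.inr 0) = p'.1 i (Sum.inr 0))
    (hmid : ∀ a b, p.1 (lift a) (lift b) = p'.1 (lift a) (lift b)) : p = p' := by
  apply Subtype.ext
  ext i j
  revert i
  refine idx_cases (P := fun j => ∀ i, p.1 i j = p'.1 i j) ?_ ?_ ?_ j
  · refine idx_cases (P := fun i => p.1 i (Sum.inl 0) = p'.1 i (Sum.inl 0)) ?_ ?_ ?_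
    · exact h00
    · rw [P1_col' hp, P1_col' hp']
    · intro c
      rw [P1_col hp, P1_col hp']
  · exact hcol
  · intro b
    refine idx_cases (P := fun i => p.1 i (lift b) = p'.1 i (lift b)) ?_ ?_ ?_
    · have h1 := P1_row_e0 hp b
      have h2 := P1_row_e0 hp' b
      simp only [hcol, hmid] at h1
      have h3 : p'.1 (Sum.inr 0) (Sum.inr 0) *
          (p.1 (Sum.inl 0) (lift b) - p'.1 (Sum.inl 0) (lift b)) = 0 := by
        rw [mul_sub]
        linear_combination h1 - h2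
      exact sub_eq_zero.1 ((mul_eq_zero.1 h3).resolve_left (P1_diag_ne' hp'))
    · rw [P1_row hp, P1_row hp']
    · intro a
      exact hmid a b

/-! ### entries of the standard elements -/

section entries

variable (A : Matrix (Fin 1 ⊕ Fin 1) (Fin 1 ⊕ Fin 1) F) (B : Matrix (Fin m ⊕ Fin m) (Fin m ⊕ Fin m) F)

theorem dsumM_e0_e0 : dsumM A B (Sum.inl 0) (Sum.inl 0) = A (Sum.inl 0) (Sum.inl 0) := rfl
theorem dsumM_e0_f0 : dsumM A B (Sum.inl 0) (Sum.inr 0) = A (Sum.inl 0) (Sum.inr 0) := rfl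
theorem dsumM_f0_e0 : dsumM A B (Sum.inr 0) (Sum.inl 0) = A (Sum.inr 0) (Sum.inl 0) := rfl
theorem dsumM_f0_f0 : dsumM A B (Sum.inr 0) (Sum.inr 0) = A (Sum.inr 0) (Sum.inr 0) := rfl

theorem dsumM_e0_lift (b : Fin m ⊕ Fin m) : dsumM A B (Sum.inl 0) (lift b) = 0 := by
  rw [dsumM_apply, eIdx_symm_inl_zero, eIdx_symm_lift]; rfl

theorem dsumM_f0_lift (b : Fin m ⊕ Fin m) : dsumM A B (Sum.inr 0) (lift b) = 0 := by
  rw [dsumM_apply, eIdx_symm_inr_zero, eIdx_symm_lift]; rfl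

theorem dsumM_lift_e0 (a : Fin m ⊕ Fin m) : dsumM A B (lift a) (Sum.inl 0) = 0 := by
  rw [dsumM_apply, eIdx_symm_inl_zero, eIdx_symm_lift]; rfl

theorem dsumM_lift_f0 (a : Fin m ⊕ Fin m) : dsumM A B (lift a) (Sum.inr 0) = 0 := by
  rw [dsumM_apply, eIdx_symm_inr_zero, eIdx_symm_lift]; rfl

theorem dsumM_lift_lift (a b : Fin m ⊕ Fin m) : dsumM A B (lift a) (lift b) = B a b := by
  rw [dsumM_apply, eIdx_symm_lift, eIdx_symm_lift]; rfl

end entries

theorem ιG_coe (g : Sp m F) : (ιG g : Sp (m + 1) F).1 = dsumM 1 g.1 := rfl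

theorem ιS_coe (s : Sp 1 F) : (ιS s : Sp (m + 1) F).1 = dsumM s.1 1 := rfl

theorem browM_zero_zero (x : Fin m → F) : browM x 0 0 = 1 := rfl
theorem browM_zero_succ (x : Fin m → F) (j : Fin m) : browM x 0 j.succ = x j := rfl
theorem browM_succ_zero (x : Fin m → F) (i : Fin m) : browM x i.succ 0 = 0 := rfl
theorem browM_succ_succ (x : Fin m → F) (i j : Fin m) :
    browM x i.succ j.succ = if i = j then 1 else 0 := rfl

theorem bdiagM_zero_zero (u : F) : (bdiagM u : Matrix (Fin (m + 1)) (Fin (m + 1)) F) 0 0 = u := rfl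
theorem bdiagM_zero_succ (u : F) (j : Fin m) :
    (bdiagM u : Matrix (Fin (m + 1)) (Fin (m + 1)) F) 0 j.succ = 0 := rfl
theorem bdiagM_succ_zero (u : F) (i : Fin m) :
    (bdiagM u : Matrix (Fin (m + 1)) (Fin (m + 1)) F) i.succ 0 = 0 := rfl
theorem bdiagM_succ_succ (u : F) (i j : Fin m) :
    (bdiagM u : Matrix (Fin (m + 1)) (Fin (m + 1)) F) i.succ j.succ = if i = j then 1 else 0 := rfl

theorem xE_coe (x : Fin m → F) :
    (xE x : Sp (m + 1) F).1 = Matrix.fromBlocks (browM x) 0 0 (browM (-x))ᵀ := rfl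

theorem hT_coe (u : Fˣ) :
    (hT u : Sp (m + 1) F).1 =
      Matrix.fromBlocks (bdiagM (u : F)) 0 0 (bdiagM ((u⁻¹ : Fˣ) : F))ᵀ := rfl

theorem qE_coe (s : F) (v : Fin m → F) (S' : symAdd m F) :
    (qE s v S' : Sp (m + 1) F).1 = Matrix.fromBlocks 1 (bsym s v S'.1) 0 1 := rfl

/-- the diagonal of `hT u` -/
def dvec (u : Fˣ) : Fin (m + 1) ⊕ Fin (m + 1) → F :=
  Sum.elim (Fin.cases (u : F) (fun _ => 1)) (Fin.cases ((u⁻¹ : Fˣ) : F) (fun _ => 1))

theorem dvec_e0 (u : Fˣ) : dvec (m := m) u (Sum.inl 0) = u := rfl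
theorem dvec_f0 (u : Fˣ) : dvec (m := m) u (Sum.inr 0) = ((u⁻¹ : Fˣ) : F) := rfl
theorem dvec_lift (u : Fˣ) (c : Fin m ⊕ Fin m) : dvec u (lift c) = 1 := by
  rcases c with c | c <;> rfl

theorem hT_coe_diag (u : Fˣ) : (hT u : Sp (m + 1) F).1 = Matrix.diagonal (dvec u) := by
  rw [hT_coe]
  ext i j
  rw [Matrix.diagonal_apply]
  rcases i with i | i <;> rcases j with j | j <;>
    refine Fin.cases ?_ (fun i' => ?_) i <;> refine Fin.cases ?_ (fun j' => ?_) j <;>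
    simp [dvec, bdiagM_zero_zero, bdiagM_zero_succ, bdiagM_succ_zero, bdiagM_succ_succ,
      Fin.succ_ne_zero, Ne.symm (Fin.succ_ne_zero _), eq_comm]

theorem ηE_eq (x v : Fin m → F) (t : F) : (ηE x v t : Sp (m + 1) F) = xE x * qE t v 0 := by
  unfold ηE yE zE
  rw [mul_assoc, qE_mul, zero_add, add_zero, add_zero]

theorem ηE_coe (x v : Fin m → F) (t : F) :
    (ηE x v t : Sp (m + 1) F).1 =
      Matrix.fromBlocks (browM x) (browM x * bsym t v 0) 0 (browM (-x))ᵀ := by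
  rw [ηE_eq]
  show (xE x : Sp (m + 1) F).1 * (qE t v 0 : Sp (m + 1) F).1 = _
  rw [xE_coe, qE_coe, Matrix.fromBlocks_multiply]
  simp

theorem ηE_e0_e0 (x v : Fin m → F) (t : F) :
    (ηE x v t : Sp (m + 1) F).1 (Sum.inl 0) (Sum.inl 0) = 1 := by
  rw [ηE_coe]; rfl

theorem ηE_e0_f0 (x v : Fin m → F) (t : F) :
    (ηE x v t : Sp (m + 1) F).1 (Sum.inl 0) (Sum.inr 0) = t + x ⬝ᵥ v := by
  rw [ηE_coe, Matrix.fromBlocks_apply₁₂, Matrix.mul_apply, Fin.sum_univ_succ]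
  simp only [browM_zero_zero, browM_zero_succ, bsym_zero_zero, bsym_succ_zero, one_mul, dotProduct]

theorem ηE_f0_f0 (x v : Fin m → F) (t : F) :
    (ηE x v t : Sp (m + 1) F).1 (Sum.inr 0) (Sum.inr 0) = 1 := by
  rw [ηE_coe]; rfl

theorem ηE_inl_f0 (x v : Fin m → F) (t : F) (k : Fin m) :
    (ηE x v t : Sp (m + 1) F).1 (lift (Sum.inl k)) (Sum.inr 0) = v k := by
  rw [ηE_coe, lift_inl, Matrix.fromBlocks_apply₁₂, Matrix.mul_apply, Fin.sum_univ_succ]
  simp [browM_succ_zero, browM_succ_succ]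

theorem ηE_inr_f0 (x v : Fin m → F) (t : F) (k : Fin m) :
    (ηE x v t : Sp (m + 1) F).1 (lift (Sum.inr k)) (Sum.inr 0) = - x k := by
  rw [ηE_coe]; rfl

theorem ηE_lift_lift (x v : Fin m → F) (t : F) (a c : Fin m ⊕ Fin m) :
    (ηE x v t : Sp (m + 1) F).1 (lift a) (lift c) = (1 : Matrix (Fin m ⊕ Fin m) (Fin m ⊕ Fin m) F) a c := by
  rw [ηE_coe]
  rcases a with a | a <;> rcases c with c | c
  · rw [lift_inl, lift_inl, Matrix.fromBlocks_apply₁₁, browM_succ_succ, Matrix.one_apply]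
    simp
  · rw [lift_inl, lift_inr, Matrix.fromBlocks_apply₁₂, Matrix.mul_apply, Fin.sum_univ_succ]
    simp [browM_succ_zero, browM_succ_succ, Matrix.one_apply]
  · rw [lift_inr, lift_inl, Matrix.fromBlocks_apply₂₁, Matrix.one_apply]
    simp
  · rw [lift_inr, lift_inr, Matrix.fromBlocks_apply₂₂, Matrix.transpose_apply, browM_succ_succ,
      Matrix.one_apply]
    simp [eq_comm]

/-! ### entries of the product `ηE x v t * hT u * ιG g` -/

theorem prod_apply (x v : Fin m → F) (t : F) (u : Fˣ) (g : Sp m F)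
    (i j : Fin (m + 1) ⊕ Fin (m + 1)) :
    (ηE x v t * hT u * ιG g : Sp (m + 1) F).1 i j =
      (ηE x v t : Sp (m + 1) F).1 i (Sum.inl 0) * (u : F) * dsumM 1 g.1 (Sum.inl 0) j +
      (ηE x v t : Sp (m + 1) F).1 i (Sum.inr 0) * ((u⁻¹ : Fˣ) : F) * dsumM 1 g.1 (Sum.inr 0) j +
      ∑ c : Fin m ⊕ Fin m, (ηE x v t : Sp (m + 1) F).1 i (lift c) * dsumM 1 g.1 (lift c) j := by
  show ((ηE x v t : Sp (m + 1) F).1 * (hT u : Sp (m + 1) F).1 * (ιG g : Sp (m + 1) F).1) i j = _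
  rw [hT_coe_diag, ιG_coe, Matrix.mul_apply, sum_split]
  simp only [Matrix.mul_diagonal, dvec_e0, dvec_f0, dvec_lift, mul_one]

theorem prod_e0_e0 (x v : Fin m → F) (t : F) (u : Fˣ) (g : Sp m F) :
    (ηE x v t * hT u * ιG g : Sp (m + 1) F).1 (Sum.inl 0) (Sum.inl 0) = u := by
  rw [prod_apply, dsumM_e0_e0, dsumM_f0_e0, ηE_e0_e0]
  simp [dsumM_lift_e0]

theorem prod_col_f0 (x v : Fin m → F) (t : F) (u : Fˣ) (g : Sp m F)
    (i : Fin (m + 1) ⊕ Fin (m + 1)) :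
    (ηE x v t * hT u * ιG g : Sp (m + 1) F).1 i (Sum.inr 0) =
      (ηE x v t : Sp (m + 1) F).1 i (Sum.inr 0) * ((u⁻¹ : Fˣ) : F) := by
  rw [prod_apply, dsumM_e0_f0, dsumM_f0_f0]
  simp [dsumM_lift_f0]

theorem prod_mid (x v : Fin m → F) (t : F) (u : Fˣ) (g : Sp m F) (a b : Fin m ⊕ Fin m) :
    (ηE x v t * hT u * ιG g : Sp (m + 1) F).1 (lift a) (lift b) = g.1 a b := by
  rw [prod_apply, dsumM_e0_lift, dsumM_f0_lift, mul_zero, mul_zero, zero_add, zero_add]
  simp only [ηE_lift_lift, dsumM_lift_lift, Matrix.one_apply, ite_mul, one_mul, zero_mul,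
    Finset.sum_ite_eq, Finset.mem_univ, if_true]

end PkR4

open PkR4

theorem qE_mem_P1 (s : F) (v : Fin m → F) (S' : symAdd m F) : qE s v S' ∈ P1 m F := by
  rw [mem_P1]
  intro i hi
  rw [qE_coe]
  rcases i with i | i
  · rw [Matrix.fromBlocks_apply₁₁, Matrix.one_apply, if_neg]
    intro h
    exact hi (by rw [h])
  · rfl

theorem xE_mem_P1 (x : Fin m → F) : xE x ∈ P1 m F := by
  rw [mem_P1]
  intro i hi
  rw [xE_coe]
  rcases i with i | i
  · rw [Matrix.fromBlocks_apply₁₁]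
    revert hi
    refine Fin.cases (fun hi => ?_) (fun k _ => ?_) i
    · exact absurd rfl hi
    · rfl
  · rfl

theorem hT_mem_P1 (u : Fˣ) : hT u ∈ P1 m F := by
  rw [mem_P1]
  intro i hi
  rw [hT_coe]
  rcases i with i | i
  · rw [Matrix.fromBlocks_apply₁₁]
    revert hi
    refine Fin.cases (fun hi => ?_) (fun k _ => ?_) i
    · exact absurd rfl hi
    · rfl
  · rfl

theorem ιG_mem_P1 (g : Sp m F) : ιG g ∈ P1 m F := by
  rw [mem_P1]
  intro i
  rw [ιG_coe]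
  refine idx_cases (P := fun i => i ≠ Sum.inl 0 → dsumM 1 g.1 i (Sum.inl 0) = 0) ?_ ?_ ?_ i
  · intro hi
    exact absurd rfl hi
  · intro _
    rw [dsumM_f0_e0, Matrix.one_apply, if_neg (by simp)]
  · intro c _
    rw [dsumM_lift_e0]

theorem ιS_mem_P1_iff (s : Sp 1 F) : ιS s ∈ P1 m F ↔ s ∈ B1 F := by
  constructor
  · intro h
    rw [mem_P1] at h ⊢
    intro i hi
    have h1 := h (Sum.inr 0) (by simp)
    rw [ιS_coe, dsumM_f0_e0] at h1
    rcases i with i | i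
    · have hi0 : i = 0 := Fin.ext (by have := i.2; omega)
      exact absurd (by rw [hi0]) hi
    · have hi0 : i = 0 := Fin.ext (by have := i.2; omega)
      rw [hi0]
      exact h1
  · intro h
    rw [mem_P1] at h ⊢
    intro i
    rw [ιS_coe]
    refine idx_cases (P := fun i => i ≠ Sum.inl 0 → dsumM s.1 1 i (Sum.inl 0) = 0) ?_ ?_ ?_ i
    · intro hi
      exact absurd rfl hi
    · intro _
      rw [dsumM_f0_e0]
      exact h (Sum.inr 0) (by simp)
    · intro c _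
      rw [dsumM_lift_e0]

namespace PkR4

theorem ηE_mem_P1 (x v : Fin m → F) (t : F) : ηE x v t ∈ P1 m F := by
  rw [ηE_eq]
  exact (P1 m F).mul_mem (xE_mem_P1 x) (qE_mem_P1 t v 0)

theorem prod_mem_P1 (x v : Fin m → F) (t : F) (u : Fˣ) (g : Sp m F) :
    ηE x v t * hT u * ιG g ∈ P1 m F :=
  (P1 m F).mul_mem ((P1 m F).mul_mem (ηE_mem_P1 x v t) (hT_mem_P1 u)) (ιG_mem_P1 g)

end PkR4

/-- `P₁ = H₁ ⋊ (T₁ × Sp m)`: every element is uniquely `ηE x v t * hT u * ιG g` -/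
theorem P1_factor (p : Sp (m + 1) F) (hp : p ∈ P1 m F) :
    ∃! q : (Fin m → F) × (Fin m → F) × F × Fˣ × Sp m F,
      p = ηE q.1 q.2.1 q.2.2.1 * hT q.2.2.2.1 * ιG q.2.2.2.2 := by
  have ha : p.1 (Sum.inl 0) (Sum.inl 0) ≠ 0 := P1_diag_ne hp
  have hd : p.1 (Sum.inl 0) (Sum.inl 0) * p.1 (Sum.inr 0) (Sum.inr 0) = 1 := P1_diag hp
  set a : F := p.1 (Sum.inl 0) (Sum.inl 0) with ha_def
  -- uniqueness first: the parameters are read off from the entries
  have key : ∀ (x v : Fin m → F) (t : F) (u : Fˣ) (g : Sp m F),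
      p = ηE x v t * hT u * ιG g →
      (u : F) = a ∧ (∀ k, v k = a * p.1 (lift (Sum.inl k)) (Sum.inr 0)) ∧
        (∀ k, x k = - (a * p.1 (lift (Sum.inr k)) (Sum.inr 0))) ∧
        t + x ⬝ᵥ v = a * p.1 (Sum.inl 0) (Sum.inr 0) ∧ g.1 = midM p := by
    intro x v t u g h
    have hu : (u : F) = a := by
      rw [ha_def, h, prod_e0_e0]
    have hui : ((u⁻¹ : Fˣ) : F) = a⁻¹ := by
      rw [Units.val_inv_eq_inv_val, hu]
    have hcol : ∀ i, a * p.1 i (Sum.inr 0) = (ηE x v t : Sp (m + 1) F).1 i (Sum.inr 0) := by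
      intro i
      conv_lhs => rw [h]
      rw [prod_col_f0, hui]
      field_simp
    refine ⟨hu, fun k => ?_, fun k => ?_, ?_, ?_⟩
    · rw [hcol, ηE_inl_f0]
    · rw [hcol, ηE_inr_f0, neg_neg]
    · rw [hcol, ηE_e0_f0]
    · ext a' b'
      rw [midM_apply]
      conv_rhs => rw [h]
      rw [prod_mid]
  let u : Fˣ := Units.mk0 a ha
  let v : Fin m → F := fun k => a * p.1 (lift (Sum.inl k)) (Sum.inr 0)
  let x : Fin m → F := fun k => - (a * p.1 (lift (Sum.inr k)) (Sum.inr 0))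
  let t : F := a * p.1 (Sum.inl 0) (Sum.inr 0) - x ⬝ᵥ v
  let g : Sp m F := ⟨midM p, midM_mem hp⟩
  have hui : ((u⁻¹ : Fˣ) : F) = a⁻¹ := by
    rw [Units.val_inv_eq_inv_val]
    rfl
  have hex : p = ηE x v t * hT u * ιG g := by
    refine ext_P1 hp (prod_mem_P1 x v t u g) ?_ ?_ ?_
    · rw [prod_e0_e0]
      rfl
    · intro i
      rw [prod_col_f0, hui]
      refine idx_cases (P := fun i => p.1 i (Sum.inr 0) =
        (ηE x v t : Sp (m + 1) F).1 i (Sum.inr 0) * a⁻¹) ?_ ?_ ?_ i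
      · rw [ηE_e0_f0]
        show _ = (a * p.1 (Sum.inl 0) (Sum.inr 0) - x ⬝ᵥ v + x ⬝ᵥ v) * a⁻¹
        field_simp
        ring
      · rw [ηE_f0_f0, one_mul]
        exact eq_inv_of_mul_eq_one_right hd
      · intro c
        rcases c with c | c
        · rw [ηE_inl_f0]
          show _ = a * p.1 (lift (Sum.inl c)) (Sum.inr 0) * a⁻¹
          field_simp
        · rw [ηE_inr_f0]
          show _ = - - (a * p.1 (lift (Sum.inr c)) (Sum.inr 0)) * a⁻¹
          field_simp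
    · intro a' b'
      rw [prod_mid]
      rfl
  refine ⟨(x, v, t, u, g), hex, ?_⟩
  rintro ⟨x', v', t', u', g'⟩ h
  obtain ⟨h1, h2, h3, h4, h5⟩ := key x' v' t' u' g' h
  have e1 : x' = x := funext h3
  have e2 : v' = v := funext h2
  have e3 : t' = t := by
    show t' = a * p.1 (Sum.inl 0) (Sum.inr 0) - x ⬝ᵥ v
    rw [← h4, e1, e2]
    ring
  have e4 : u' = u := Units.ext h1
  have e5 : g' = g := Subtype.ext h5
  rw [e1, e2, e3, e4, e5]

theorem z1_mem_B1 (t : F) : z1 t ∈ B1 F := qE_mem_P1 (m := 0) t 0 0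

theorem h1_mem_B1 (u : Fˣ) : h1 u ∈ B1 F := hT_mem_P1 (m := 0) u

/-- the Borel subgroup of `Sp 1`: every element is uniquely `z1 t * h1 u` -/
theorem B1_factor (b : Sp 1 F) (hb : b ∈ B1 F) : ∃! q : F × Fˣ, b = z1 q.1 * h1 q.2 := by
  have hη : ∀ (x v : Fin 0 → F) (t : F), (ηE x v t : Sp 1 F) = z1 t := by
    intro x v t
    have hx : x = 0 := Subsingleton.elim _ _
    have hv : v = 0 := Subsingleton.elim _ _
    rw [ηE_eq, hx, hv]
    have h1 : (xE (0 : Fin 0 → F) : Sp 1 F) = 1 := by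
      apply Subtype.ext
      rw [xE_coe, neg_zero, browM_zero, Matrix.transpose_one, Matrix.fromBlocks_one]
      rfl
    rw [h1, one_mul]
    rfl
  have hG : ∀ g : Sp 0 F, (ιG g : Sp 1 F) = 1 := by
    intro g
    have : g = 1 := by
      apply Subtype.ext
      ext i j
      rcases i with i | i <;> exact i.elim0
    rw [this, map_one]
  obtain ⟨q, hq, hq'⟩ := P1_factor (m := 0) b hb
  refine ⟨(q.2.2.1, q.2.2.2.1), ?_, ?_⟩
  · rw [hq, hη, hG, mul_one]
    rfl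
  · rintro ⟨t', u'⟩ h
    have h2 := hq' ((0 : Fin 0 → F), (0 : Fin 0 → F), t', u', (1 : Sp 0 F)) (by
      show b = ηE 0 0 t' * hT u' * ιG 1
      rw [hη, hG, mul_one]
      exact h)
    rw [← h2]

end Cfsg.Agent.Lib.Helper2.WG
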