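import Cfsg.Agent.Lib.Helper5.C2Max_A

/-!
S5634 PK-T1 : root extraction with the torus.  A nontrivial element `1 + N` with `N` supported on a
rectangle `I × J`, `I ∩ J = ∅`, together with enough diagonal matrices, gives an elementary
transvection.
-/

set_option autoImplicit false

namespace Cfsg.Agent.Lib.Helper6.C2Max

open Matrix

variable {F : Type*} [Field F] [Fintype F] {ι : Type*} [Fintype ι] [DecidableEq ι]

namespace PkT1

variable {κ : Type*} [Fintype κ] [DecidableEq κ]

/-- `N` is supported on `I × J` -/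
def IsRect (I J : Finset κ) (N : Matrix κ κ F) : Prop := ∀ r c, N r c ≠ 0 → r ∈ I ∧ c ∈ J

theorem rect_mul_rect {I J : Finset κ} (hIJ : Disjoint I J) {N M : Matrix κ κ F}
    (hN : IsRect I J N) (hM : IsRect I J M) : N * M = 0 := by
  ext r c
  rw [Matrix.mul_apply]
  apply Finset.sum_eq_zero
  intro l _
  by_contra h
  have h1 : N r l ≠ 0 := left_ne_zero_of_mul h
  have h2 : M l c ≠ 0 := right_ne_zero_of_mul h
  exact Finset.disjoint_left.1 hIJ (hM l c h2).1 (hN r l h1).2

open scoped Classical in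
/-- the off-diagonal support -/
noncomputable def supp (A : Matrix κ κ F) : Finset (κ × κ) :=
  Finset.univ.filter fun p => p.1 ≠ p.2 ∧ A p.1 p.2 ≠ 0

theorem mem_supp (A : Matrix κ κ F) (p : κ × κ) : p ∈ supp A ↔ p.1 ≠ p.2 ∧ A p.1 p.2 ≠ 0 := by
  classical
  unfold supp
  rw [Finset.mem_filter]
  exact ⟨fun h => h.2, fun h => ⟨Finset.mem_univ _, h⟩⟩

/-- an invertible diagonal matrix has nonzero diagonal entries -/
theorem diag_ne_zero (d : GL κ F) (δ : κ → F) (hd : (d : Matrix κ κ F) = Matrix.diagonal δ)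
    (c : κ) : δ c ≠ 0 := by
  intro h0
  have h1 : ((d : Matrix κ κ F) * ((d⁻¹ : GL κ F) : Matrix κ κ F)) c c = 1 := by
    rw [← Units.val_mul, mul_inv_cancel, Units.val_one, Matrix.one_apply_eq]
  rw [hd, Matrix.diagonal_mul, h0, zero_mul] at h1
  exact zero_ne_one h1

/-- the commutator step: entries of `g⁻¹ * (d * g * d⁻¹)` -/
theorem conj_step {I J : Finset κ} (hIJ : Disjoint I J) (g d : GL κ F) (δ : κ → F)
    (hd : (d : Matrix κ κ F) = Matrix.diagonal δ)
    (hdiag : ∀ r, (g : Matrix κ κ F) r r = 1)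
    (hoff : ∀ r c, r ≠ c → (g : Matrix κ κ F) r c ≠ 0 → r ∈ I ∧ c ∈ J) (r c : κ) :
    ((g⁻¹ * (d * g * d⁻¹) : GL κ F) : Matrix κ κ F) r c =
      if r = c then 1 else (δ r / δ c - 1) * (g : Matrix κ κ F) r c := by
  have hδ := diag_ne_zero d δ hd
  set G : Matrix κ κ F := (g : Matrix κ κ F) with hG
  set N : Matrix κ κ F := G - 1 with hN
  have hG1 : G = 1 + N := by rw [hN]; abel
  have hNrect : IsRect I J N := by
    intro r c h
    by_cases hrc : r = c
    · exfalso
      apply h
      rw [hN, Matrix.sub_apply, hrc, hdiag, Matrix.one_apply_eq, sub_self]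
    · apply hoff r c hrc
      rw [hN, Matrix.sub_apply, Matrix.one_apply_ne hrc, sub_zero] at h
      exact h
  set N' : Matrix κ κ F := Matrix.of fun r c => δ r / δ c * N r c with hN'
  have hN'rect : IsRect I J N' := by
    intro r c h
    apply hNrect r c
    intro h0
    apply h
    show δ r / δ c * N r c = 0
    rw [h0, mul_zero]
  -- the conjugate `z = d g d⁻¹`
  obtain ⟨z, hz⟩ : ∃ z : GL κ F, z = d * g * d⁻¹ := ⟨_, rfl⟩
  rw [← hz]
  have hzd : (z : Matrix κ κ F) * Matrix.diagonal δ = Matrix.diagonal δ * G := by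
    rw [← hd, hG, ← Units.val_mul, ← Units.val_mul, hz, inv_mul_cancel_right]
  have hz1 : (z : Matrix κ κ F) = 1 + N' := by
    ext r c
    have h1 : ((z : Matrix κ κ F) * Matrix.diagonal δ) r c = (Matrix.diagonal δ * G) r c := by
      rw [hzd]
    rw [Matrix.mul_diagonal, Matrix.diagonal_mul] at h1
    have h2 : (z : Matrix κ κ F) r c = δ r * G r c / δ c := by
      rw [← h1]
      field_simp [hδ c]
    rw [h2, Matrix.add_apply]
    show _ = (1 : Matrix κ κ F) r c + δ r / δ c * N r c
    rw [hN, Matrix.sub_apply]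
    by_cases hrc : r = c
    · subst hrc
      rw [hdiag, Matrix.one_apply_eq]
      field_simp [hδ r]
      ring
    · rw [Matrix.one_apply_ne hrc]
      ring
  -- `y = g⁻¹ z`
  have hgy : (g : Matrix κ κ F) * ((g⁻¹ * z : GL κ F) : Matrix κ κ F) = 1 + N' := by
    rw [← Units.val_mul, mul_inv_cancel_left, hz1]
  have hgy' : G * (1 + N' - N) = 1 + N' := by
    rw [hG1]
    have e1 : N * N' = 0 := rect_mul_rect hIJ hNrect hN'rect
    have e2 : N * N = 0 := rect_mul_rect hIJ hNrect hNrect
    calc (1 + N) * (1 + N' - N) = 1 + N' + (N * N' - N * N) := by noncomm_ring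
      _ = 1 + N' := by rw [e1, e2, sub_zero, add_zero]
  have hy : ((g⁻¹ * z : GL κ F) : Matrix κ κ F) = 1 + N' - N := by
    have h3 : ((g⁻¹ : GL κ F) : Matrix κ κ F) * G = 1 := by
      rw [hG, ← Units.val_mul, inv_mul_cancel, Units.val_one]
    calc ((g⁻¹ * z : GL κ F) : Matrix κ κ F)
        = (((g⁻¹ : GL κ F) : Matrix κ κ F) * G) * ((g⁻¹ * z : GL κ F) : Matrix κ κ F) := by
          rw [h3, one_mul]
      _ = ((g⁻¹ : GL κ F) : Matrix κ κ F) * (G * (1 + N' - N)) := by
          rw [Matrix.mul_assoc, hG, hgy, ← hG, hgy']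
      _ = 1 + N' - N := by rw [← Matrix.mul_assoc, h3, one_mul]
  rw [hy, Matrix.sub_apply, Matrix.add_apply]
  show (1 : Matrix κ κ F) r c + δ r / δ c * N r c - N r c = _
  by_cases hrc : r = c
  · have hNrr : N r c = 0 := by
      rw [hN, Matrix.sub_apply, hrc, hdiag, Matrix.one_apply_eq, sub_self]
    rw [if_pos hrc, hNrr, hrc, Matrix.one_apply_eq]
    ring
  · have hNrc : N r c = G r c := by
      rw [hN, Matrix.sub_apply, Matrix.one_apply_ne hrc, sub_zero]
    rw [if_neg hrc, hNrc, Matrix.one_apply_ne hrc]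
    ring

/-- the generic form of the root extraction in `GL_κ` -/
theorem rect_GL (L : Subgroup (GL κ F)) (I J : Finset κ) (hIJ : Disjoint I J)
    (hrich : ∀ i j i' j', i ∈ I → j ∈ J → i' ∈ I → j' ∈ J → (i, j) ≠ (i', j') →
      ∃ d ∈ L, ∃ δ : κ → F, (d : Matrix κ κ F) = Matrix.diagonal δ ∧ δ i = δ j ∧ δ i' ≠ δ j') :
    ∀ (s : ℕ) (g : GL κ F), g ∈ L → g ≠ 1 → (∀ r, (g : Matrix κ κ F) r r = 1) →
      (∀ r c, r ≠ c → (g : Matrix κ κ F) r c ≠ 0 → r ∈ I ∧ c ∈ J) →
      (supp (g : Matrix κ κ F)).card = s → HasTvGL L := by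
  intro s
  induction s using Nat.strong_induction_on with
  | _ s ih =>
    intro g hg hne hdiag hoff hs
    rcases Nat.lt_or_ge 1 s with h2 | h2
    · -- at least two positions
      rw [← hs, Finset.one_lt_card] at h2
      obtain ⟨p, hp, p', hp', hpp'⟩ := h2
      rw [mem_supp] at hp hp'
      obtain ⟨hpI, hpJ⟩ := hoff p.1 p.2 hp.1 hp.2
      obtain ⟨hpI', hpJ'⟩ := hoff p'.1 p'.2 hp'.1 hp'.2
      obtain ⟨d, hdL, δ, hd, hδ1, hδ2⟩ := hrich p.1 p.2 p'.1 p'.2 hpI hpJ hpI' hpJ' hpp'
      have hδ := diag_ne_zero d δ hd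
      have hent := conj_step hIJ g d δ hd hdiag hoff
      set y : GL κ F := g⁻¹ * (d * g * d⁻¹) with hy
      have hyL : y ∈ L := L.mul_mem (L.inv_mem hg) (L.mul_mem (L.mul_mem hdL hg) (L.inv_mem hdL))
      have hy' : (y : Matrix κ κ F) p'.1 p'.2 ≠ 0 := by
        rw [hent, if_neg hp'.1]
        apply mul_ne_zero _ hp'.2
        intro h0
        apply hδ2
        have : δ p'.1 / δ p'.2 = 1 := sub_eq_zero.1 h0
        rw [div_eq_one_iff_eq (hδ _)] at this
        exact this
      have hyne : y ≠ 1 := by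
        intro e
        apply hy'
        rw [e, Units.val_one, Matrix.one_apply_ne hp'.1]
      have hydiag : ∀ r, (y : Matrix κ κ F) r r = 1 := by
        intro r
        rw [hent, if_pos rfl]
      have hyoff : ∀ r c, r ≠ c → (y : Matrix κ κ F) r c ≠ 0 → r ∈ I ∧ c ∈ J := by
        intro r c hrc h
        apply hoff r c hrc
        rw [hent, if_neg hrc] at h
        exact right_ne_zero_of_mul h
      have hsub : supp (y : Matrix κ κ F) ⊂ supp (g : Matrix κ κ F) := by
        rw [Finset.ssubset_iff_of_subset]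
        · refine ⟨p, (mem_supp _ _).2 hp, ?_⟩
          rw [mem_supp]
          intro h
          apply h.2
          rw [hent, if_neg hp.1, hδ1, div_self (hδ _), sub_self, zero_mul]
        · intro q hq
          rw [mem_supp] at hq ⊢
          refine ⟨hq.1, ?_⟩
          have := hq.2
          rw [hent, if_neg hq.1] at this
          exact right_ne_zero_of_mul this
      have hlt : (supp (y : Matrix κ κ F)).card < s := by
        rw [← hs]
        exact Finset.card_lt_card hsub
      exact ih _ hlt y hyL hyne hydiag hyoff rfl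
    · -- at most one position
      have hpos : 0 < s := by
        rw [← hs, Finset.card_pos]
        by_contra hem
        rw [Finset.not_nonempty_iff_eq_empty] at hem
        apply hne
        apply Units.ext
        ext r c
        by_cases hrc : r = c
        · rw [hrc, hdiag, Units.val_one, Matrix.one_apply_eq]
        · rw [Units.val_one, Matrix.one_apply_ne hrc]
          by_contra h0
          have : (r, c) ∈ supp (g : Matrix κ κ F) := (mem_supp _ _).2 ⟨hrc, h0⟩
          rw [hem] at this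
          exact absurd this (Finset.notMem_empty _)
      have hs1 : (supp (g : Matrix κ κ F)).card = 1 := by omega
      rw [Finset.card_eq_one] at hs1
      obtain ⟨p, hp⟩ := hs1
      have hpm : p ∈ supp (g : Matrix κ κ F) := by rw [hp]; exact Finset.mem_singleton_self p
      rw [mem_supp] at hpm
      refine ⟨p.1, p.2, hpm.1, (g : Matrix κ κ F) p.1 p.2, hpm.2, g, hg, ?_⟩
      ext r c
      rw [Matrix.add_apply, Matrix.single_apply]
      by_cases hrc : r = c
      · subst hrc
        rw [hdiag, Matrix.one_apply_eq, if_neg, add_zero]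
        rintro ⟨h1, h2⟩
        exact hpm.1 (h1.trans h2.symm)
      · rw [Matrix.one_apply_ne hrc, zero_add]
        by_cases hq : p.1 = r ∧ p.2 = c
        · rw [if_pos hq, hq.1, hq.2]
        · rw [if_neg hq]
          by_contra h0
          have : (r, c) ∈ supp (g : Matrix κ κ F) := (mem_supp _ _).2 ⟨hrc, h0⟩
          rw [hp, Finset.mem_singleton] at this
          apply hq
          rw [← this]
          exact ⟨rfl, rfl⟩

/-- an invertible diagonal matrix as an element of `GL` -/
def diagGL (δ : κ → F) (hδ : ∀ k, δ k ≠ 0) : GL κ F :=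
  ⟨Matrix.diagonal δ, Matrix.diagonal fun k => (δ k)⁻¹, by
    rw [Matrix.diagonal_mul_diagonal]
    have : (fun i => δ i * (δ i)⁻¹) = fun _ => (1 : F) := by
      funext i
      exact mul_inv_cancel₀ (hδ i)
    rw [this, Matrix.diagonal_one], by
    rw [Matrix.diagonal_mul_diagonal]
    have : (fun i => (δ i)⁻¹ * δ i) = fun _ => (1 : F) := by
      funext i
      exact inv_mul_cancel₀ (hδ i)
    rw [this, Matrix.diagonal_one]⟩

theorem diagGL_coe (δ : κ → F) (hδ : ∀ k, δ k ≠ 0) :
    ((diagGL δ hδ : GL κ F) : Matrix κ κ F) = Matrix.diagonal δ := rfl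

theorem isMono_diagonal (δ : κ → F) : IsMono (Matrix.diagonal δ) := by
  refine ⟨1, fun r c h => ?_⟩
  by_contra hrc
  exact h (Matrix.diagonal_apply_ne _ hrc)

theorem exists_scalar (hq : 3 ≤ Fintype.card F) : ∃ l : F, l ≠ 0 ∧ l ≠ 1 := by
  classical
  exact PkA.exists_third hq 0 1

end PkT1

open PkT1

/-- the same in `GL_κ` (used inside Theorem G) -/
theorem hasTvGL_of_rect {κ : Type*} [Fintype κ] [DecidableEq κ] (hq : 3 ≤ Fintype.card F)
    {L : Subgroup (GL κ F)} (hL : ∀ g : GL κ F, IsMono (g : Matrix κ κ F) → g ∈ L)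
    (I J : Finset κ) (hIJ : Disjoint I J) (g : GL κ F) (hg : g ∈ L) (hne : g ≠ 1)
    (hdiag : ∀ r, (g : Matrix κ κ F) r r = 1)
    (hoff : ∀ r c, r ≠ c → (g : Matrix κ κ F) r c ≠ 0 → r ∈ I ∧ c ∈ J) : HasTvGL L := by
  obtain ⟨l, hl0, hl1⟩ := exists_scalar (F := F) hq
  refine rect_GL L I J hIJ ?_ _ g hg hne hdiag hoff rfl
  intro i j i' j' hi hj hi' hj' hne'
  have hij : i ≠ j := fun e => Finset.disjoint_left.1 hIJ hi (e ▸ hj)
  have hij' : i' ≠ j' := fun e => Finset.disjoint_left.1 hIJ hi' (e ▸ hj')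
  have hi'j : i' ≠ j := fun e => Finset.disjoint_left.1 hIJ hi' (e ▸ hj)
  have hij'' : i ≠ j' := fun e => Finset.disjoint_left.1 hIJ hi (e ▸ hj')
  -- the index `a ∈ {i', j'} ∖ {i, j}`
  obtain ⟨a, ha, hai, haj⟩ : ∃ a, (a = i' ∨ a = j') ∧ a ≠ i ∧ a ≠ j := by
    by_cases h : i' = i
    · refine ⟨j', Or.inr rfl, Ne.symm hij'', ?_⟩
      intro e
      apply hne'
      rw [h, e]
    · exact ⟨i', Or.inl rfl, h, hi'j⟩
  set δ : κ → F := Function.update (fun _ => (1 : F)) a l with hδdef
  have hδ : ∀ k, δ k ≠ 0 := by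
    intro k
    by_cases hk : k = a
    · rw [hδdef, hk, Function.update_self]
      exact hl0
    · rw [hδdef, Function.update_of_ne hk]
      exact one_ne_zero
  refine ⟨diagGL δ hδ, hL _ (by rw [diagGL_coe]; exact isMono_diagonal δ), δ, diagGL_coe δ hδ, ?_, ?_⟩
  · rw [hδdef, Function.update_of_ne (Ne.symm hai), Function.update_of_ne (Ne.symm haj)]
  · rcases ha with ha | ha
    · rw [hδdef, ← ha, Function.update_self, Function.update_of_ne (by rw [ha]; exact Ne.symm hij')]
      exact hl1
    · rw [hδdef, ← ha, Function.update_self, Function.update_of_ne (by rw [ha]; exact hij')]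
      exact Ne.symm hl1

/-- a nontrivial element `1 + N` of `K`, `N` supported on `I × J` with `I ∩ J = ∅`, gives an
elementary transvection (only the diagonal matrices of `K` are used) -/
theorem hasTv_of_rect (h5 : 5 ≤ Fintype.card ι) (hq : 3 ≤ Fintype.card F)
    {K : Subgroup (SpecialLinearGroup ι F)} (hK : Over K) (I J : Finset ι) (hIJ : Disjoint I J)
    (g : SpecialLinearGroup ι F) (hg : g ∈ K) (hne : g ≠ 1) (hdiag : ∀ r, g.1 r r = 1)
    (hoff : ∀ r c, r ≠ c → g.1 r c ≠ 0 → r ∈ I ∧ c ∈ J) : HasTv K := by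
  obtain ⟨l, hl0, hl1⟩ := exists_scalar (F := F) hq
  have key : HasTvGL (K.map SpecialLinearGroup.toGL) := by
    refine rect_GL _ I J hIJ ?_ _ (SpecialLinearGroup.toGL g) (Subgroup.mem_map_of_mem _ hg) ?_
      hdiag hoff rfl
    · intro i j i' j' hi hj hi' hj' hne'
      have hij : i ≠ j := fun e => Finset.disjoint_left.1 hIJ hi (e ▸ hj)
      have hij' : i' ≠ j' := fun e => Finset.disjoint_left.1 hIJ hi' (e ▸ hj')
      have hi'j : i' ≠ j := fun e => Finset.disjoint_left.1 hIJ hi' (e ▸ hj)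
      have hij'' : i ≠ j' := fun e => Finset.disjoint_left.1 hIJ hi (e ▸ hj')
      obtain ⟨a, ha, hai, haj⟩ : ∃ a, (a = i' ∨ a = j') ∧ a ≠ i ∧ a ≠ j := by
        by_cases h : i' = i
        · refine ⟨j', Or.inr rfl, Ne.symm hij'', ?_⟩
          intro e
          apply hne'
          rw [h, e]
        · exact ⟨i', Or.inl rfl, h, hi'j⟩
      -- a spare coordinate
      obtain ⟨k, hki, hkj, hki', hkj'⟩ : ∃ k, k ≠ i ∧ k ≠ j ∧ k ≠ i' ∧ k ≠ j' := by
        have h : ({i, j, i', j'} : Finset ι).card < (Finset.univ : Finset ι).card := by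
          rw [Finset.card_univ]
          exact lt_of_le_of_lt Finset.card_le_four (by omega)
        obtain ⟨k, _, hk⟩ := Finset.exists_mem_notMem_of_card_lt_card h
        refine ⟨k, fun e => hk ?_, fun e => hk ?_, fun e => hk ?_, fun e => hk ?_⟩ <;>
          rw [e] <;> simp
      have hak : a ≠ k := by
        rcases ha with ha | ha
        · rw [ha]; exact Ne.symm hki'
        · rw [ha]; exact Ne.symm hkj'
      set δ : ι → F := fun x => if x = a then l else if x = k then l⁻¹ else 1 with hδdef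
      have hδi : ∀ x, x ≠ a → x ≠ k → δ x = 1 := by
        intro x h1 h2
        show (if x = a then l else if x = k then l⁻¹ else 1) = 1
        rw [if_neg h1, if_neg h2]
      have hδa : δ a = l := by
        show (if a = a then l else if a = k then l⁻¹ else 1) = l
        rw [if_pos rfl]
      have hdK : SpecialLinearGroup.diag2n hak l hl0 ∈ K := by
        apply hK
        rw [SpecialLinearGroup.diag2n_coe]
        exact isMono_diagonal _
      refine ⟨SpecialLinearGroup.toGL (SpecialLinearGroup.diag2n hak l hl0),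
        Subgroup.mem_map_of_mem _ hdK, δ, ?_, ?_, ?_⟩
      · rw [SpecialLinearGroup.coe_GL_coe_matrix, SpecialLinearGroup.diag2n_coe]
      · rw [hδi i (Ne.symm hai) (Ne.symm hki), hδi j (Ne.symm haj) (Ne.symm hkj)]
      · rcases ha with ha | ha
        · rw [← ha, hδa, hδi j' (by rw [ha]; exact Ne.symm hij') (Ne.symm hkj')]
          exact hl1
        · rw [← ha, hδa, hδi i' (by rw [ha]; exact hij') (Ne.symm hki')]
          exact Ne.symm hl1
    · intro e
      apply hne
      apply SpecialLinearGroup.toGL_injective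
      rw [e, map_one]
  obtain ⟨i, j, hij, c, hc, g', hg', hgm⟩ := key
  obtain ⟨k, hkK, hk⟩ := Subgroup.mem_map.1 hg'
  refine ⟨i, j, hij, c, hc, ?_⟩
  have : SpecialLinearGroup.transvection hij c = k := by
    apply Subtype.ext
    rw [SpecialLinearGroup.transvection_coe, ← hgm, ← hk]
    rfl
  rw [this]
  exact hkK

end Cfsg.Agent.Lib.Helper6.C2Max
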