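import Mathlib
import Cfsg.Agent.Lib.Helper8.SmTwoB
import Cfsg.Agent.Lib.Helper4.NgpDefs

set_option autoImplicit false

/-! S1904, package NE1, part a: the algebraic context `SpCtx X Z` (special group with centre `Z`
of order `4`, all involutions central), commutator calculus, and the commutator homomorphism. -/

namespace Cfsg.Agent.Lib.Helper4.Ngp

open Cfsg.Agent.Lib.Helper8.SmTwo
open scoped commutatorElement

universe u

variable {G : Type u} [Group G]

/-- the algebraic context of NE1 -/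
structure SpCtx (X Z : Subgroup G) : Prop where
  hZX : Z ≤ X
  cen : ∀ z ∈ Z, ∀ x ∈ X, z * x = x * z
  comm : ∀ x ∈ X, ∀ y ∈ X, ⁅x, y⁆ ∈ Z
  sq : ∀ x ∈ X, x ^ 2 ∈ Z
  exp : ∀ z ∈ Z, z ^ 2 = 1
  anis : ∀ x ∈ X, x ^ 2 = 1 → x ∈ Z
  card : Nat.card Z = 4
  full : ∀ x ∈ X, (∀ y ∈ X, x * y = y * x) → x ∈ Z
  gen : ∀ K : Subgroup G, (∀ x ∈ X, ∀ y ∈ X, ⁅x, y⁆ ∈ K) → Z ≤ K

namespace SpCtx

variable {X Z : Subgroup G}

theorem comm_mul_right (hc : SpCtx X Z) {x u v : G} (hx : x ∈ X) (hu : u ∈ X) (hv : v ∈ X) :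
    ⁅x, u * v⁆ = ⁅x, u⁆ * ⁅x, v⁆ := by
  have h1 : ⁅x, u * v⁆ = ⁅x, u⁆ * (u * ⁅x, v⁆ * u⁻¹) := by
    simp only [commutatorElement_def]; group
  have h2 : u * ⁅x, v⁆ * u⁻¹ = ⁅x, v⁆ := by
    rw [← hc.cen _ (hc.comm x hx v hv) u hu, mul_inv_cancel_right]
  rw [h1, h2]

theorem comm_mul_left (hc : SpCtx X Z) {x u v : G} (hx : x ∈ X) (hu : u ∈ X) (hv : v ∈ X) :
    ⁅u * v, x⁆ = ⁅u, x⁆ * ⁅v, x⁆ := by
  have h1 : ⁅u * v, x⁆ = (u * ⁅v, x⁆ * u⁻¹) * ⁅u, x⁆ := by
    simp only [commutatorElement_def]; group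
  have h2 : u * ⁅v, x⁆ * u⁻¹ = ⁅v, x⁆ := by
    rw [← hc.cen _ (hc.comm v hv x hx) u hu, mul_inv_cancel_right]
  rw [h1, h2]
  exact hc.cen _ (hc.comm v hv x hx) _ (hc.hZX (hc.comm u hu x hx))

theorem comm_sq (hc : SpCtx X Z) {x y : G} (hx : x ∈ X) (hy : y ∈ X) : ⁅x, y⁆ ^ 2 = 1 :=
  hc.exp _ (hc.comm x hx y hy)

theorem comm_symm (hc : SpCtx X Z) {x y : G} (hx : x ∈ X) (hy : y ∈ X) : ⁅y, x⁆ = ⁅x, y⁆ := by
  have h1 : ⁅y, x⁆ = ⁅x, y⁆⁻¹ := (commutatorElement_inv x y).symm
  have h2 := hc.comm_sq hx hy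
  rw [h1, inv_eq_iff_mul_eq_one, ← pow_two, h2]

theorem comm_self (x : G) : ⁅x, x⁆ = 1 := by
  simp [commutatorElement_def]

theorem comm_one_right (x : G) : ⁅x, (1 : G)⁆ = 1 := by
  simp [commutatorElement_def]

theorem comm_eq_one_iff {x y : G} : ⁅x, y⁆ = 1 ↔ x * y = y * x := by
  rw [commutatorElement_def]
  constructor
  · intro h
    have h2 : x * y * x⁻¹ * y⁻¹ * y * x = y * x := by rw [h, one_mul]
    rw [← h2]; group
  · intro h
    rw [h]; group

/-- `(u v)² = u² v² ⁅v, u⁆` -/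
theorem sq_mul (hc : SpCtx X Z) {u v : G} (hu : u ∈ X) (hv : v ∈ X) :
    (u * v) ^ 2 = u ^ 2 * v ^ 2 * ⁅v, u⁆ := by
  have hcz := hc.cen _ (hc.comm v hv u hu)
  have h1 : v * u = ⁅v, u⁆ * (u * v) := by
    simp only [commutatorElement_def]; group
  calc (u * v) ^ 2 = u * (v * u) * v := by rw [pow_two]; group
    _ = u * (⁅v, u⁆ * (u * v)) * v := by rw [h1]
    _ = (u * ⁅v, u⁆) * (u * v * v) := by group
    _ = (⁅v, u⁆ * u) * (u * v * v) := by rw [hcz u hu]
    _ = ⁅v, u⁆ * (u ^ 2 * v ^ 2) := by rw [pow_two, pow_two]; group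
    _ = u ^ 2 * v ^ 2 * ⁅v, u⁆ := by
      rw [hcz _ (X.mul_mem (X.pow_mem hu 2) (X.pow_mem hv 2))]

/-- an element of `Z` times an element has the same square -/
theorem sq_mul_central (hc : SpCtx X Z) {z x : G} (hz : z ∈ Z) (hx : x ∈ X) :
    (z * x) ^ 2 = x ^ 2 := by
  have h1 : ⁅x, z⁆ = 1 := by
    rw [comm_eq_one_iff]; exact (hc.cen z hz x hx).symm
  rw [hc.sq_mul (hc.hZX hz) hx, h1, mul_one, hc.exp z hz, one_mul]

theorem ne_center (hc : SpCtx X Z) : ∃ x ∈ X, x ∉ Z := by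
  by_contra hcon
  push_neg at hcon
  have h1 : Z ≤ (⊥ : Subgroup G) := by
    apply hc.gen
    intro x hx y hy
    rw [Subgroup.mem_bot, comm_eq_one_iff]
    exact hc.cen x (hcon x hx) y hy
  have h2 : Z = ⊥ := le_bot_iff.mp h1
  have h3 := hc.card
  rw [h2, Subgroup.card_bot] at h3
  omega

/-- squares of non-central elements are non-trivial -/
theorem sq_ne_one (hc : SpCtx X Z) {x : G} (hx : x ∈ X) (hxZ : x ∉ Z) : x ^ 2 ≠ 1 :=
  fun h => hxZ (hc.anis x hx h)

end SpCtx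

/-- the commutator homomorphism `u ↦ ⁅x, u⁆` from `X` to `Z` -/
def commHom {X Z : Subgroup G} (hc : SpCtx X Z) (x : G) (hx : x ∈ X) : ↥X →* ↥Z where
  toFun u := ⟨⁅x, (u : G)⁆, hc.comm x hx u u.2⟩
  map_one' := by
    apply Subtype.ext
    simp [commutatorElement_def]
  map_mul' u v := by
    apply Subtype.ext
    exact hc.comm_mul_right hx u.2 v.2

theorem commHom_apply {X Z : Subgroup G} (hc : SpCtx X Z) (x : G) (hx : x ∈ X) (u : ↥X) :
    ((commHom hc x hx u : ↥Z) : G) = ⁅x, (u : G)⁆ := rfl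

theorem mem_ker_commHom {X Z : Subgroup G} (hc : SpCtx X Z) (x : G) (hx : x ∈ X) (u : ↥X) :
    u ∈ (commHom hc x hx).ker ↔ x * (u : G) = (u : G) * x := by
  rw [MonoidHom.mem_ker, Subtype.ext_iff, commHom_apply, Subgroup.coe_one,
    SpCtx.comm_eq_one_iff]

/-- `|X| = |range| · |C_X(x)|` -/
theorem card_eq_range_mul_centralizer [Finite G] {X Z : Subgroup G} (hc : SpCtx X Z) (x : G)
    (hx : x ∈ X) :
    Nat.card X = Nat.card (commHom hc x hx).range *
      Nat.card (X ⊓ Subgroup.centralizer ({x} : Set G) : Subgroup G) := by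
  have h1 := Subgroup.card_mul_index (commHom hc x hx).ker
  rw [Subgroup.index_ker] at h1
  have h2 : Nat.card (commHom hc x hx).ker
      = Nat.card (X ⊓ Subgroup.centralizer ({x} : Set G) : Subgroup G) := by
    have h3 : (commHom hc x hx).ker.map X.subtype = X ⊓ Subgroup.centralizer ({x} : Set G) := by
      ext g
      constructor
      · rintro ⟨u, hu, rfl⟩
        rw [SetLike.mem_coe, mem_ker_commHom] at hu
        rw [Subgroup.mem_inf]
        refine ⟨u.2, ?_⟩
        rw [Subgroup.mem_centralizer_iff]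
        intro y hy
        rw [Set.mem_singleton_iff] at hy
        subst hy
        exact hu
      · intro hg
        rw [Subgroup.mem_inf] at hg
        obtain ⟨hgX, hg⟩ := hg
        refine ⟨⟨g, hgX⟩, ?_, rfl⟩
        rw [SetLike.mem_coe, mem_ker_commHom]
        rw [Subgroup.mem_centralizer_iff] at hg
        exact hg x rfl
    rw [← h3, Subgroup.card_map_of_injective X.subtype_injective]
  rw [← h1, h2, mul_comm]

theorem card_range_commHom_dvd [Finite G] {X Z : Subgroup G} (hc : SpCtx X Z) (x : G)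
    (hx : x ∈ X) : Nat.card (commHom hc x hx).range ∣ 4 := by
  have := Subgroup.card_subgroup_dvd_card (commHom hc x hx).range
  rwa [hc.card] at this

/-- the context from the hypotheses of NE1 -/
theorem spCtx_of_special [Finite G] (X A : Subgroup G) (h : Hyp X A) (hs : SpecialData X 4) :
    SpCtx X (X ⊓ Subgroup.centralizer (X : Set G)) := by
  obtain ⟨hD, hsq, hcard⟩ := hs
  have hcen : ∀ z ∈ X ⊓ Subgroup.centralizer (X : Set G), ∀ x ∈ X, z * x = x * z := by
    intro z hz x hx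
    exact ((Subgroup.mem_centralizer_iff.mp hz.2) x hx).symm
  have hcomm : ∀ x ∈ X, ∀ y ∈ X, ⁅x, y⁆ ∈ X ⊓ Subgroup.centralizer (X : Set G) := by
    intro x hx y hy
    rw [← hD]
    exact Subgroup.commutator_mem_commutator hx hy
  have hsq' : ∀ x ∈ X, x ^ 2 ∈ X ⊓ Subgroup.centralizer (X : Set G) := by
    intro x hx
    rw [← hD]; exact hsq x hx
  -- commutators have order at most two
  have hc2 : ∀ x ∈ X, ∀ y ∈ X, ⁅x, y⁆ ^ 2 = 1 := by
    intro x hx y hy
    have h1 : ⁅x * x, y⁆ = (x * ⁅x, y⁆ * x⁻¹) * ⁅x, y⁆ := by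
      simp only [commutatorElement_def]; group
    have h2 : x * ⁅x, y⁆ * x⁻¹ = ⁅x, y⁆ := by
      rw [← hcen _ (hcomm x hx y hy) x hx, mul_inv_cancel_right]
    have h3 : ⁅x * x, y⁆ = 1 := by
      rw [SpCtx.comm_eq_one_iff]
      have := hcen _ (hsq' x hx) y hy
      rwa [sq] at this
    rw [sq, ← h3, h1, h2]
  have hexp : ∀ z ∈ X ⊓ Subgroup.centralizer (X : Set G), z ^ 2 = 1 := by
    intro z hz
    rw [← hD, Subgroup.commutator_def] at hz
    have key : z ∈ X ⊓ Subgroup.centralizer (X : Set G) ∧ z ^ 2 = 1 := by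
      induction hz using Subgroup.closure_induction with
      | mem g hg =>
        obtain ⟨x, hx, y, hy, rfl⟩ := hg
        exact ⟨hcomm x hx y hy, hc2 x hx y hy⟩
      | one => exact ⟨Subgroup.one_mem _, one_pow _⟩
      | mul a b _ _ iha ihb =>
        refine ⟨Subgroup.mul_mem _ iha.1 ihb.1, ?_⟩
        have hcm : Commute a b := hcen a iha.1 b ihb.1.1
        rw [hcm.mul_pow, iha.2, ihb.2, one_mul]
      | inv a _ iha =>
        exact ⟨Subgroup.inv_mem _ iha.1, by rw [inv_pow, iha.2, inv_one]⟩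
    exact key.2
  refine ⟨inf_le_left, hcen, hcomm, hsq', hexp, ?_, hcard, ?_, ?_⟩
  · -- involutions are central
    intro t ht ht2
    set Z := X ⊓ Subgroup.centralizer (X : Set G) with hZ
    let E : Subgroup G := Z ⊔ Subgroup.zpowers t
    have hEcl : E = Subgroup.closure ((Z : Set G) ∪ {t}) := by
      rw [Subgroup.closure_union, Subgroup.closure_eq, ← Subgroup.zpowers_eq_closure]
    have hmemE : ∀ g ∈ E, ∃ z ∈ Z, g = z ∨ g = z * t := by
      intro g hg
      rw [hEcl] at hg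
      induction hg using Subgroup.closure_induction with
      | mem g hg =>
        rcases hg with hg | hg
        · exact ⟨g, hg, Or.inl rfl⟩
        · rw [Set.mem_singleton_iff] at hg
          exact ⟨1, Subgroup.one_mem _, Or.inr (by rw [hg, one_mul])⟩
      | one => exact ⟨1, Subgroup.one_mem _, Or.inl rfl⟩
      | mul a b _ _ iha ihb =>
        obtain ⟨z1, hz1, h1⟩ := iha
        obtain ⟨z2, hz2, h2⟩ := ihb
        have hzt : z2 * t = t * z2 := hcen z2 hz2 t ht
        have htt : t * t = 1 := by rw [← pow_two]; exact ht2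
        rcases h1 with h1 | h1 <;> rcases h2 with h2 | h2
        · exact ⟨z1 * z2, Subgroup.mul_mem _ hz1 hz2, Or.inl (by rw [h1, h2])⟩
        · exact ⟨z1 * z2, Subgroup.mul_mem _ hz1 hz2, Or.inr (by rw [h1, h2, mul_assoc])⟩
        · refine ⟨z1 * z2, Subgroup.mul_mem _ hz1 hz2, Or.inr ?_⟩
          rw [h1, h2, mul_assoc, ← hzt, mul_assoc]
        · refine ⟨z1 * z2, Subgroup.mul_mem _ hz1 hz2, Or.inl ?_⟩
          rw [h1, h2]
          calc z1 * t * (z2 * t) = z1 * (t * z2) * t := by group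
            _ = z1 * (z2 * t) * t := by rw [hzt]
            _ = z1 * z2 * (t * t) := by group
            _ = z1 * z2 := by rw [htt, mul_one]
      | inv a _ iha =>
        obtain ⟨z1, hz1, h1⟩ := iha
        have hzt : z1⁻¹ * t = t * z1⁻¹ := hcen _ (Subgroup.inv_mem _ hz1) t ht
        have htinv : t⁻¹ = t := by
          rw [inv_eq_iff_mul_eq_one, ← pow_two]; exact ht2
        rcases h1 with h1 | h1
        · exact ⟨z1⁻¹, Subgroup.inv_mem _ hz1, Or.inl (by rw [h1])⟩
        · refine ⟨z1⁻¹, Subgroup.inv_mem _ hz1, Or.inr ?_⟩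
          rw [h1, mul_inv_rev, htinv, hzt]
    have hEX : E ≤ X := sup_le inf_le_left (by
      rw [Subgroup.zpowers_le]; exact ht)
    have hEexp : ∀ e ∈ E, e ^ 2 = 1 := by
      intro e he
      obtain ⟨z, hz, h1 | h1⟩ := hmemE e he
      · rw [h1]; exact hexp z hz
      · have hcm : Commute z t := hcen z hz t ht
        rw [h1, hcm.mul_pow, hexp z hz, ht2, one_mul]
    have hEnorm : X ≤ Subgroup.normalizer (E : Set G) := by
      intro x hx
      have key : ∀ x ∈ X, ∀ e ∈ E, x * e * x⁻¹ ∈ E := by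
        intro x hx e he
        have h1 : x * e * x⁻¹ = ⁅x, e⁆ * e := by
          simp only [commutatorElement_def]; group
        rw [h1]
        exact Subgroup.mul_mem _ ((le_sup_left : Z ≤ E) (hcomm x hx e (hEX he))) he
      refine mem_normalizer_of_conj_mem (key x hx) (fun e he => ?_)
      have := key x⁻¹ (X.inv_mem hx) e he
      simpa using this
    have hEcard := h.hN E hEX hEnorm hEexp
    have hZE : Z ≤ E := le_sup_left
    have hEZ : E = Z := by
      have h1 : Nat.card Z ≤ Nat.card E := Subgroup.card_le_of_le hZE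
      have h2 : Nat.card E = Nat.card Z := by rw [hcard] at h1 ⊢; omega
      exact (Subgroup.eq_of_le_of_card_ge hZE (le_of_eq h2)).symm
    rw [← hEZ]
    exact (le_sup_right : Subgroup.zpowers t ≤ E) (Subgroup.mem_zpowers t)
  · intro x hx hxc
    rw [Subgroup.mem_inf]
    refine ⟨hx, ?_⟩
    rw [Subgroup.mem_centralizer_iff]
    intro y hy
    exact (hxc y hy).symm
  · intro K hK
    rw [← hD, Subgroup.commutator_le]
    exact hK

end Cfsg.Agent.Lib.Helper4.Ngp
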