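import Mathlib
import Cfsg.Agent.Lib.Helper5.NgpNE1a

set_option autoImplicit false

/-! S1904, package NE1, part lba: `X/Z` is not generated by two elements, so `32 ≤ |X|`. -/

namespace Cfsg.Agent.Lib.Helper4.Ngp

open Cfsg.Agent.Lib.Helper8.SmTwo
open scoped commutatorElement

universe u

variable {G : Type u} [Group G]

/-- Lagrange step: a proper subgroup `W` of `Y` can be enlarged by one element to a subgroup of
`Y` of at least twice the order -/
theorem ne1_step [Finite G] {W Y : Subgroup G} (hWY : W ≤ Y) (hne : W ≠ Y) :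
    ∃ y ∈ Y, y ∉ W ∧ W ⊔ Subgroup.zpowers y ≤ Y ∧
      2 * Nat.card W ≤ Nat.card (W ⊔ Subgroup.zpowers y : Subgroup G) := by
  have hex : ∃ y ∈ Y, y ∉ W := by
    by_contra hcon
    push_neg at hcon
    exact hne (le_antisymm hWY hcon)
  obtain ⟨y, hy, hyW⟩ := hex
  refine ⟨y, hy, hyW, sup_le hWY (by rw [Subgroup.zpowers_le]; exact hy), ?_⟩
  have hle : W ≤ W ⊔ Subgroup.zpowers y := le_sup_left
  have hdvd := Subgroup.card_dvd_of_le hle
  obtain ⟨m, hm⟩ := hdvd
  have hpos : 0 < Nat.card W := Nat.card_pos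
  have hm1 : m ≠ 1 := by
    intro h1
    rw [h1, mul_one] at hm
    have := Subgroup.eq_of_le_of_card_ge hle (le_of_eq hm)
    apply hyW
    rw [this]
    exact (le_sup_right : Subgroup.zpowers y ≤ W ⊔ Subgroup.zpowers y) (Subgroup.mem_zpowers y)
  have hm0 : m ≠ 0 := by
    intro h0
    rw [h0, mul_zero] at hm
    have : 0 < Nat.card (W ⊔ Subgroup.zpowers y : Subgroup G) := Nat.card_pos
    omega
  have hm2 : 2 ≤ m := by omega
  rw [hm]
  calc 2 * Nat.card W = Nat.card W * 2 := mul_comm _ _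
    _ ≤ Nat.card W * m := Nat.mul_le_mul_left _ hm2

namespace SpCtx

variable {X Z : Subgroup G}

theorem comm_inv_left (hc : SpCtx X Z) {g x : G} (hg : g ∈ X) (hx : x ∈ X) :
    ⁅g⁻¹, x⁆ = ⁅g, x⁆ := by
  have h1 : ⁅g, x⁆ * ⁅g⁻¹, x⁆ = 1 := by
    rw [← hc.comm_mul_left hx hg (X.inv_mem hg), mul_inv_cancel]
    simp [commutatorElement_def]
  have h2 : ⁅g, x⁆ * ⁅g, x⁆ = 1 := by
    rw [← pow_two]; exact hc.comm_sq hg hx
  exact mul_left_cancel (h1.trans h2.symm)

theorem comm_inv_right (hc : SpCtx X Z) {g x : G} (hg : g ∈ X) (hx : x ∈ X) :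
    ⁅x, g⁻¹⁆ = ⁅x, g⁆ := by
  rw [hc.comm_symm (X.inv_mem hg) hx, hc.comm_symm hg hx]
  exact hc.comm_inv_left hg hx

/-- all commutators of `Z ⊔ ⟨x⟩ ⊔ ⟨y⟩` lie in `⟨⁅x, y⁆⟩` -/
theorem comm_mem_zpowers (hc : SpCtx X Z) {x y : G} (hx : x ∈ X) (hy : y ∈ X) :
    ∀ a ∈ Z ⊔ Subgroup.zpowers x ⊔ Subgroup.zpowers y,
      ∀ b ∈ Z ⊔ Subgroup.zpowers x ⊔ Subgroup.zpowers y, ⁅a, b⁆ ∈ Subgroup.zpowers ⁅x, y⁆ := by
  set K := Subgroup.zpowers ⁅x, y⁆ with hK
  have hxy : ⁅x, y⁆ ∈ K := Subgroup.mem_zpowers _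
  have hScl : Z ⊔ Subgroup.zpowers x ⊔ Subgroup.zpowers y
      = Subgroup.closure ((Z : Set G) ∪ {x} ∪ {y}) := by
    rw [Subgroup.closure_union, Subgroup.closure_union, Subgroup.closure_eq,
      ← Subgroup.zpowers_eq_closure, ← Subgroup.zpowers_eq_closure]
  have hSX : Z ⊔ Subgroup.zpowers x ⊔ Subgroup.zpowers y ≤ X :=
    sup_le (sup_le hc.hZX (by rw [Subgroup.zpowers_le]; exact hx))
      (by rw [Subgroup.zpowers_le]; exact hy)
  -- first: commutators with the generators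
  have key1 : ∀ g ∈ Z ⊔ Subgroup.zpowers x ⊔ Subgroup.zpowers y,
      g ∈ X ∧ ⁅g, x⁆ ∈ K ∧ ⁅g, y⁆ ∈ K := by
    intro g hg
    rw [hScl] at hg
    induction hg using Subgroup.closure_induction with
    | mem g hg =>
      rcases hg with (hg | hg) | hg
      · refine ⟨hc.hZX hg, ?_, ?_⟩
        · have : ⁅g, x⁆ = 1 := by rw [SpCtx.comm_eq_one_iff]; exact hc.cen g hg x hx
          rw [this]; exact K.one_mem
        · have : ⁅g, y⁆ = 1 := by rw [SpCtx.comm_eq_one_iff]; exact hc.cen g hg y hy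
          rw [this]; exact K.one_mem
      · rw [Set.mem_singleton_iff] at hg
        subst hg
        refine ⟨hx, ?_, hxy⟩
        rw [SpCtx.comm_self]; exact K.one_mem
      · rw [Set.mem_singleton_iff] at hg
        subst hg
        refine ⟨hy, ?_, ?_⟩
        · rw [hc.comm_symm hx hy]; exact hxy
        · rw [SpCtx.comm_self]; exact K.one_mem
    | one =>
      refine ⟨X.one_mem, ?_, ?_⟩ <;>
      · have : ∀ w : G, ⁅(1 : G), w⁆ = 1 := fun w => by simp [commutatorElement_def]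
        rw [this]; exact K.one_mem
    | mul a b _ _ iha ihb =>
      refine ⟨X.mul_mem iha.1 ihb.1, ?_, ?_⟩
      · rw [hc.comm_mul_left hx iha.1 ihb.1]; exact K.mul_mem iha.2.1 ihb.2.1
      · rw [hc.comm_mul_left hy iha.1 ihb.1]; exact K.mul_mem iha.2.2 ihb.2.2
    | inv a _ iha =>
      refine ⟨X.inv_mem iha.1, ?_, ?_⟩
      · rw [hc.comm_inv_left iha.1 hx]; exact iha.2.1
      · rw [hc.comm_inv_left iha.1 hy]; exact iha.2.2
  intro a ha b hb
  obtain ⟨haX, hax, hay⟩ := key1 a ha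
  rw [hScl] at hb
  have key2 : b ∈ X ∧ ⁅a, b⁆ ∈ K := by
    induction hb using Subgroup.closure_induction with
    | mem g hg =>
      rcases hg with (hg | hg) | hg
      · refine ⟨hc.hZX hg, ?_⟩
        have : ⁅a, g⁆ = 1 := by
          rw [SpCtx.comm_eq_one_iff]; exact (hc.cen g hg a haX).symm
        rw [this]; exact K.one_mem
      · rw [Set.mem_singleton_iff] at hg
        subst hg
        exact ⟨hx, hax⟩
      · rw [Set.mem_singleton_iff] at hg
        subst hg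
        exact ⟨hy, hay⟩
    | one =>
      refine ⟨X.one_mem, ?_⟩
      rw [SpCtx.comm_one_right]; exact K.one_mem
    | mul c d _ _ ihc ihd =>
      refine ⟨X.mul_mem ihc.1 ihd.1, ?_⟩
      rw [hc.comm_mul_right haX ihc.1 ihd.1]; exact K.mul_mem ihc.2 ihd.2
    | inv c _ ihc =>
      refine ⟨X.inv_mem ihc.1, ?_⟩
      rw [hc.comm_inv_right ihc.1 haX]; exact ihc.2
  exact key2.2

/-- `⟨c⟩` has at most two elements when `c² = 1` -/
theorem ne1_card_zpowers_le {c : G} (h : c ^ 2 = 1) : Nat.card (Subgroup.zpowers c) ≤ 2 := by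
  rw [Nat.card_zpowers]
  exact Nat.le_of_dvd (by norm_num) (orderOf_dvd_of_pow_eq_one h)

/-- a chain `Z < W1 ≤ W2 ≤ X` exhausting `X` when `|X| < 32` -/
theorem exists_two_generators [Finite G] (hc : SpCtx X Z) (hlt : Nat.card X < 32) :
    ∃ x ∈ X, ∃ y ∈ X, Z ⊔ Subgroup.zpowers x ⊔ Subgroup.zpowers y = X := by
  have hZne : Z ≠ X := by
    intro h
    obtain ⟨x, hx, hxZ⟩ := hc.ne_center
    exact hxZ (h ▸ hx)
  obtain ⟨x, hx, hxZ, hW1X, hW1card⟩ := ne1_step hc.hZX hZne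
  rw [hc.card] at hW1card
  by_cases h1 : Z ⊔ Subgroup.zpowers x = X
  · refine ⟨x, hx, 1, X.one_mem, ?_⟩
    rw [Subgroup.zpowers_one_eq_bot, sup_bot_eq]; exact h1
  · obtain ⟨y, hy, hyW, hW2X, hW2card⟩ := ne1_step hW1X h1
    refine ⟨x, hx, y, hy, ?_⟩
    have hdvd := Subgroup.card_dvd_of_le hW2X
    obtain ⟨m, hm⟩ := hdvd
    have hm0 : m ≠ 0 := by
      intro h0
      rw [h0, mul_zero] at hm
      have : 0 < Nat.card X := Nat.card_pos
      omega
    have hm1 : m = 1 := by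
      by_contra hne
      have hm2 : 2 ≤ m := by omega
      have : Nat.card (Z ⊔ Subgroup.zpowers x ⊔ Subgroup.zpowers y : Subgroup G) * 2
          ≤ Nat.card (Z ⊔ Subgroup.zpowers x ⊔ Subgroup.zpowers y : Subgroup G) * m :=
        Nat.mul_le_mul_left _ hm2
      omega
    rw [hm1, mul_one] at hm
    exact Subgroup.eq_of_le_of_card_ge hW2X (le_of_eq hm)

theorem card_ge_32 [Finite G] (hc : SpCtx X Z) (hX : IsPGroup 2 X) : 32 ≤ Nat.card X := by
  by_contra hlt
  push_neg at hlt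
  obtain ⟨x, hx, y, hy, hS⟩ := hc.exists_two_generators hlt
  have h1 := hc.comm_mem_zpowers hx hy
  rw [hS] at h1
  have h2 : Z ≤ Subgroup.zpowers ⁅x, y⁆ := hc.gen _ h1
  have h3 := Subgroup.card_le_of_le h2
  have h4 := ne1_card_zpowers_le (hc.comm_sq hx hy)
  rw [hc.card] at h3
  omega

end SpCtx

end Cfsg.Agent.Lib.Helper4.Ngp
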