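import Mathlib
import Cfsg.Agent.S0914
import Cfsg.Agent.S0925
import Cfsg.Agent.Lib.Helper8.TildeBlock
import Cfsg.Agent.Lib.Helper8.SM4

set_option autoImplicit false

/-!
An irreducible character of `p`-defect zero vanishes at every `p`-singular element: a corollary of
block orthogonality and the fact that such a character is alone in its block.
-/

namespace Cfsg.Agent.Lib.Helper5.DefectZero

open Cfsg

theorem defect_zero_vanishes {G : Type*} [Group G] [Finite G] (p : ℕ) [Fact p.Prime]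
    (χ : Cfsg.IrrCharacter G) (h : ¬ p ∣ Nat.card G / Cfsg.charDegree (χ : G → ℂ)) (g : G)
    (hg : p ∣ orderOf g) (hχ1 : (χ : G → ℂ) 1 ≠ 0) : (χ : G → ℂ) g = 0 := by
  have hp : p.Prime := Fact.out
  obtain ⟨M, hM⟩ := Cfsg.Agent.Lib.Helper8.exists_isPModular p
  have hblock : Cfsg.blockOf M (χ : G → ℂ) = {χ} := (Cfsg.Agent.S0914.result p M hM χ).1 h
  obtain ⟨x, hx⟩ := Cfsg.Agent.Lib.Helper8.exists_isPPart hp g
  have hx1 : x ≠ 1 := by
    rintro rfl
    obtain ⟨y, hy, -, -, hy'⟩ := hx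
    rw [one_mul] at hy
    rw [hy] at hy'
    exact hy' hg
  have h1 : Cfsg.IsPPart p (1 : G) 1 :=
    ⟨1, one_mul 1, Commute.one_left 1, ⟨0, by rw [orderOf_one, pow_zero]⟩, by
      rw [orderOf_one]
      exact hp.one_lt.ne' ∘ Nat.dvd_one.1⟩
  have hnc : ¬ IsConj x 1 := by
    intro hc
    exact hx1 (isConj_one_left.1 hc)
  have horth := (Cfsg.Agent.S0925.result p M hM).2 g 1 x 1 hx h1 hnc (Cfsg.blockOf M (χ : G → ℂ))
    ⟨χ, rfl⟩
  rw [hblock, finsum_mem_singleton, inv_one] at horth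
  rcases mul_eq_zero.1 horth with h0 | h0
  · exact h0
  · exact absurd h0 hχ1

end Cfsg.Agent.Lib.Helper5.DefectZero
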