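import Mathlib
import Cfsg.Prelude.Def_Solvable

/-!
# S4394 interface

`SE p T`: the properties of a non-abelian normal Sylow `p`-subgroup `T` of a minimal
non-nilpotent group that the proof uses.  `Config`: the minimal configuration produced in a
`p`-solvable group `G` with `O_{p'}(G) = 1` whose Sylow `p`-subgroup `S` is not normal.
-/

set_option autoImplicit false

namespace Cfsg.Agent.Lib.Helper5.Schm

universe u

/-- The structure of a non-abelian normal Sylow `p`-subgroup of a Schmidt group. -/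
structure SE (p : ℕ) (T : Type u) [Group T] : Prop where
  /-- commutators are central -/
  cls : ∀ x y z : T, (x * y * x⁻¹ * y⁻¹) * z = z * (x * y * x⁻¹ * y⁻¹)
  /-- `p`-th powers are central -/
  pw : ∀ x z : T, x ^ p * z = z * x ^ p
  /-- for a non-central `y`, every central element is a commutator `y g y⁻¹ g⁻¹` -/
  semi : ∀ y : T, (∃ x : T, y * x ≠ x * y) → ∀ z : T, (∀ x : T, z * x = x * z) →
    ∃ g : T, y * g * y⁻¹ * g⁻¹ = z
  /-- exponent `p` for odd `p` -/
  exp : p ≠ 2 → ∀ x : T, x ^ p = 1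
  /-- for `p ≤ 3`: not of order `p ^ 3` with a subgroup of order `p ^ 2` and exponent `p` -/
  small : p ≤ 3 → ¬ (Nat.card T = p ^ 3 ∧
    ∃ R : Subgroup T, Nat.card R = p ^ 2 ∧ ∀ x ∈ R, x ^ p = 1)

/-- The minimal configuration. -/
structure Config (p : ℕ) (G : Type u) [Group G] (S M : Subgroup G) (r : ℕ) (s : G) : Prop where
  rprime : r.Prime
  rne : r ≠ p
  Mr : IsPGroup r M
  sS : s ∈ S
  sM : s ∈ Subgroup.normalizer (M : Set G)
  snc : s ∉ Subgroup.centralizer (M : Set G)
  decomp : ∀ x ∈ S, ∃ ρ ∈ Cfsg.pCore p G, ∃ h ∈ S ⊓ Subgroup.centralizer (M : Set G),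
    ∃ i : ℕ, x = ρ * h * s ^ i
  minimal : ∀ N : Subgroup G, N ≤ M → N ≠ M → s ∈ Subgroup.normalizer (N : Set G) →
    s ∈ Subgroup.centralizer (N : Set G)

end Cfsg.Agent.Lib.Helper5.Schm
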