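import Mathlib
import Cfsg.Prelude.Def_JordanBlocks

set_option autoImplicit false

/-!
Centraliser of a unipotent matrix of given Jordan type in the full matrix algebra: Toeplitz
parametrisation.
-/

namespace Cfsg.Agent.Lib.Helper5.UnipCent

open Matrix

variable {F : Type*} [Field F] {t : ℕ} (d : Fin t → ℕ)

/-- the index type -/
abbrev Idx : Type := (k : Fin t) × Fin (d k)

/-- the nilpotent part -/
def Nmat : Matrix (Idx d) (Idx d) F :=
  Matrix.of fun a b => if a.1 = b.1 ∧ (a.2 : ℕ) = (b.2 : ℕ) + 1 then 1 else 0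

theorem jordanTypeMatrix_eq : Cfsg.jordanTypeMatrix d F = 1 + Nmat d := by
  ext ⟨k, i⟩ ⟨l, j⟩
  unfold Cfsg.jordanTypeMatrix Nmat
  rw [Matrix.blockDiagonal'_apply', Matrix.add_apply, Matrix.of_apply]
  by_cases hkl : k = l
  · subst hkl
    rw [dif_pos rfl]
    simp only [cast_eq, Cfsg.jordanBlock, Matrix.of_apply, true_and]
    by_cases hij : i = j
    · subst hij
      rw [if_pos rfl, Matrix.one_apply_eq, if_neg (by omega), add_zero]
    · have h1 : (i : ℕ) ≠ j := fun h => hij (Fin.ext h)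
      have h2 : (⟨k, i⟩ : Idx d) ≠ ⟨k, j⟩ := by
        intro h
        apply hij
        have := Sigma.mk.inj_iff.1 h
        exact eq_of_heq this.2
      rw [if_neg h1, Matrix.one_apply_ne h2, zero_add]
  · rw [dif_neg hkl]
    have h2 : (⟨k, i⟩ : Idx d) ≠ ⟨l, j⟩ := by
      intro h
      exact hkl (Sigma.mk.inj_iff.1 h).1
    rw [Matrix.one_apply_ne h2, zero_add, if_neg]
    rintro ⟨h, -⟩
    exact hkl h

theorem commute_iff (X : Matrix (Idx d) (Idx d) F) :
    X * Cfsg.jordanTypeMatrix d F = Cfsg.jordanTypeMatrix d F * X ↔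
      X * Nmat d = Nmat d * X := by
  rw [jordanTypeMatrix_eq, mul_add, add_mul, mul_one, one_mul]
  exact add_right_inj X

/-- successor index inside a block -/
def sucI (b : Idx d) (h : (b.2 : ℕ) + 1 < d b.1) : Idx d := ⟨b.1, ⟨(b.2 : ℕ) + 1, h⟩⟩

/-- predecessor index inside a block -/
def preI (a : Idx d) : Idx d := ⟨a.1, ⟨(a.2 : ℕ) - 1, by have := a.2.2; omega⟩⟩

theorem idx_ext {a b : Idx d} (h1 : a.1 = b.1) (h2 : (a.2 : ℕ) = b.2) : a = b := by
  obtain ⟨k, i⟩ := a
  obtain ⟨l, j⟩ := b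
  simp only at h1 h2
  subst h1
  congr
  exact Fin.ext h2

theorem mul_Nmat_apply (X : Matrix (Idx d) (Idx d) F) (a b : Idx d) :
    (X * Nmat (F := F) d) a b = if h : (b.2 : ℕ) + 1 < d b.1 then X a (sucI d b h) else 0 := by
  classical
  rw [Matrix.mul_apply]
  by_cases h : (b.2 : ℕ) + 1 < d b.1
  · rw [dif_pos h, Finset.sum_eq_single (sucI d b h)]
    · unfold Nmat
      rw [Matrix.of_apply, if_pos ⟨rfl, rfl⟩, mul_one]
    · intro c _ hc
      unfold Nmat
      rw [Matrix.of_apply, if_neg, mul_zero]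
      rintro ⟨h1, h2⟩
      exact hc (idx_ext d h1 h2)
    · intro hc
      exact absurd (Finset.mem_univ _) hc
  · rw [dif_neg h]
    apply Finset.sum_eq_zero
    intro c _
    unfold Nmat
    rw [Matrix.of_apply, if_neg, mul_zero]
    rintro ⟨h1, h2⟩
    apply h
    have := c.2.2
    rw [← h2, ← h1]
    exact this

theorem Nmat_mul_apply (X : Matrix (Idx d) (Idx d) F) (a b : Idx d) :
    (Nmat (F := F) d * X) a b = if 0 < (a.2 : ℕ) then X (preI d a) b else 0 := by
  classical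
  rw [Matrix.mul_apply]
  by_cases h : 0 < (a.2 : ℕ)
  · rw [if_pos h, Finset.sum_eq_single (preI d a)]
    · unfold Nmat
      rw [Matrix.of_apply, if_pos, one_mul]
      refine ⟨rfl, ?_⟩
      show (a.2 : ℕ) = (a.2 : ℕ) - 1 + 1
      omega
    · intro c _ hc
      unfold Nmat
      rw [Matrix.of_apply, if_neg, zero_mul]
      rintro ⟨h1, h2⟩
      apply hc
      have h3 : c.1 = (preI d a).1 := h1.symm
      apply idx_ext d h3
      show (c.2 : ℕ) = (a.2 : ℕ) - 1
      omega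
    · intro hc
      exact absurd (Finset.mem_univ _) hc
  · rw [if_neg h]
    apply Finset.sum_eq_zero
    intro c _
    unfold Nmat
    rw [Matrix.of_apply, if_neg, zero_mul]
    rintro ⟨-, h2⟩
    omega

/-- the generator index of a block -/
def zeroI (hd : ∀ k, 1 ≤ d k) (l : Fin t) : Idx d := ⟨l, ⟨0, hd l⟩⟩

/-- shifting an index down -/
def subI (a : Idx d) (j : ℕ) : Idx d := ⟨a.1, ⟨(a.2 : ℕ) - j, by have := a.2.2; omega⟩⟩

theorem toeplitz (hd : ∀ k, 1 ≤ d k) (X : Matrix (Idx d) (Idx d) F)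
    (hX : X * Nmat d = Nmat d * X) :
    ∀ (j : ℕ) (a b : Idx d), (b.2 : ℕ) = j →
      X a b = if j ≤ (a.2 : ℕ) then X (subI d a j) (zeroI d hd b.1) else 0 := by
  intro j
  induction j with
  | zero =>
    intro a b hb
    rw [if_pos (Nat.zero_le _)]
    have e1 : subI d a 0 = a := by
      refine idx_ext d (by rfl) ?_
      show (a.2 : ℕ) - 0 = (a.2 : ℕ)
      omega
    have e2 : zeroI d hd b.1 = b := idx_ext d (by rfl) hb.symm
    rw [e1, e2]
  | succ j ih =>
    intro a b hb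
    have hb' : ((preI d b).2 : ℕ) = j := by
      show (b.2 : ℕ) - 1 = j
      omega
    have hlt : ((preI d b).2 : ℕ) + 1 < d (preI d b).1 := by
      have := b.2.2
      show (b.2 : ℕ) - 1 + 1 < d b.1
      omega
    have hsuc : sucI d (preI d b) hlt = b := by
      refine idx_ext d (by rfl) ?_
      show (b.2 : ℕ) - 1 + 1 = b.2
      omega
    have h1 := congrFun (congrFun hX a) (preI d b)
    rw [mul_Nmat_apply, Nmat_mul_apply, dif_pos hlt, hsuc] at h1
    rw [h1]
    by_cases ha : 0 < (a.2 : ℕ)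
    · rw [if_pos ha, ih (preI d a) (preI d b) hb']
      have e1 : (j ≤ ((preI d a).2 : ℕ)) ↔ (j + 1 ≤ (a.2 : ℕ)) := by
        show j ≤ (a.2 : ℕ) - 1 ↔ _
        omega
      by_cases hj : j + 1 ≤ (a.2 : ℕ)
      · rw [if_pos (e1.2 hj), if_pos hj]
        congr 1
        refine idx_ext d (by rfl) ?_
        show (a.2 : ℕ) - 1 - j = (a.2 : ℕ) - (j + 1)
        omega
      · rw [if_neg (fun h => hj (e1.1 h)), if_neg hj]
    · rw [if_neg ha, if_neg (by omega)]

theorem toeplitz' (hd : ∀ k, 1 ≤ d k) (X : Matrix (Idx d) (Idx d) F)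
    (hX : X * Nmat d = Nmat d * X) (a b : Idx d) :
    X a b = if (b.2 : ℕ) ≤ (a.2 : ℕ) then X (subI d a b.2) (zeroI d hd b.1) else 0 :=
  toeplitz d hd X hX _ a b rfl

theorem support (hd : ∀ k, 1 ≤ d k) (X : Matrix (Idx d) (Idx d) F)
    (hX : X * Nmat d = Nmat d * X) (a : Idx d) (l : Fin t)
    (h : (a.2 : ℕ) + d l < d a.1) : X a (zeroI d hd l) = 0 := by
  set a' : Idx d := ⟨a.1, ⟨(a.2 : ℕ) + d l, h⟩⟩ with ha'
  set b : Idx d := ⟨l, ⟨d l - 1, by have := hd l; omega⟩⟩ with hb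
  have h1 := congrFun (congrFun hX a') b
  rw [mul_Nmat_apply, Nmat_mul_apply, dif_neg, if_pos] at h1
  · rw [toeplitz' d hd X hX (preI d a') b, if_pos] at h1
    · rw [h1]
      congr 1
      refine idx_ext d (by rfl) ?_
      show (a.2 : ℕ) = (a.2 : ℕ) + d l - 1 - (d l - 1)
      have := hd l
      omega
    · show d l - 1 ≤ (a.2 : ℕ) + d l - 1
      omega
  · show 0 < (a.2 : ℕ) + d l
    have := hd l
    omega
  · show ¬ (d l - 1 + 1 < d l)
    omega

/-- the Toeplitz matrix of a coefficient function -/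
def T (c : Idx d → Fin t → F) : Matrix (Idx d) (Idx d) F :=
  Matrix.of fun a b => if (b.2 : ℕ) ≤ (a.2 : ℕ) then c (subI d a b.2) b.1 else 0

theorem T_comm (c : Idx d → Fin t → F)
    (hc : ∀ (a : Idx d) (l : Fin t), (a.2 : ℕ) + d l < d a.1 → c a l = 0) :
    T d c * Nmat d = Nmat d * T d c := by
  ext a b
  rw [mul_Nmat_apply, Nmat_mul_apply]
  by_cases h1 : (b.2 : ℕ) + 1 ≤ (a.2 : ℕ)
  · have ha : 0 < (a.2 : ℕ) := by omega
    rw [if_pos ha]
    have e2 : T d c (preI d a) b = c (subI d a ((b.2 : ℕ) + 1)) b.1 := by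
      unfold T
      rw [Matrix.of_apply, if_pos]
      · congr 1
        refine idx_ext d (by rfl) ?_
        show (a.2 : ℕ) - 1 - (b.2 : ℕ) = (a.2 : ℕ) - ((b.2 : ℕ) + 1)
        omega
      · show (b.2 : ℕ) ≤ (a.2 : ℕ) - 1
        omega
    rw [e2]
    by_cases h2 : (b.2 : ℕ) + 1 < d b.1
    · rw [dif_pos h2]
      unfold T
      rw [Matrix.of_apply, if_pos]
      · rfl
      · exact h1
    · rw [dif_neg h2]
      symm
      apply hc
      show (a.2 : ℕ) - ((b.2 : ℕ) + 1) + d b.1 < d a.1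
      have := a.2.2
      have := b.2.2
      omega
  · have e1 : (if h : (b.2 : ℕ) + 1 < d b.1 then T d c a (sucI d b h) else 0) = 0 := by
      split_ifs with h
      · unfold T
        rw [Matrix.of_apply, if_neg]
        exact h1
      · rfl
    rw [e1]
    by_cases ha : 0 < (a.2 : ℕ)
    · rw [if_pos ha]
      unfold T
      rw [Matrix.of_apply, if_neg]
      show ¬ ((b.2 : ℕ) ≤ (a.2 : ℕ) - 1)
      omega
    · rw [if_neg ha]

theorem T_zero (hd : ∀ k, 1 ≤ d k) (c : Idx d → Fin t → F) (a : Idx d) (l : Fin t) :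
    T d c a (zeroI d hd l) = c a l := by
  unfold T
  have h0 : ((zeroI d hd l).2 : ℕ) ≤ (a.2 : ℕ) := Nat.zero_le _
  rw [Matrix.of_apply, if_pos h0]
  have e : subI d a ((zeroI d hd l).2 : ℕ) = a := by
    refine idx_ext d (by rfl) ?_
    show (a.2 : ℕ) - 0 = a.2
    omega
  rw [e]
  rfl

theorem T_eq (hd : ∀ k, 1 ≤ d k) (X : Matrix (Idx d) (Idx d) F)
    (hX : X * Nmat d = Nmat d * X) :
    T d (fun a l => X a (zeroI d hd l)) = X := by
  ext a b
  rw [toeplitz' d hd X hX a b]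
  rfl

end Cfsg.Agent.Lib.Helper5.UnipCent
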