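import Mathlib
import Cfsg.Agent.Lib.Helper5.UnipCent1

set_option autoImplicit false

/-!
Shared definitions for the classification of unipotent classes of the symplectic group in odd
characteristic (S2676): congruence classes of nondegenerate `ε`-symmetric matrices, and
centraliser-congruence classes of invariant alternating forms in Jordan coordinates.
-/

namespace Cfsg.Agent.Lib.Helper5.SpU

open Matrix Cfsg.Agent.Lib.Helper5.UnipCent

/-- nondegenerate `ε`-symmetric matrices. -/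
def Forms (F : Type*) [Field F] (ε : F) (ι : Type*) [Fintype ι] [DecidableEq ι] : Type _ :=
  {B : Matrix ι ι F // Bᵀ = ε • B ∧ IsUnit B.det}

theorem congr_refl {F : Type*} [Field F] {ι : Type*} [Fintype ι] [DecidableEq ι]
    (B : Matrix ι ι F) : ∃ g : Matrix ι ι F, IsUnit g.det ∧ gᵀ * B * g = B :=
  ⟨1, by rw [Matrix.det_one]; exact isUnit_one, by rw [Matrix.transpose_one, one_mul, mul_one]⟩

theorem congr_symm {F : Type*} [Field F] {ι : Type*} [Fintype ι] [DecidableEq ι]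
    {B B' : Matrix ι ι F} (h : ∃ g : Matrix ι ι F, IsUnit g.det ∧ gᵀ * B * g = B') :
    ∃ g : Matrix ι ι F, IsUnit g.det ∧ gᵀ * B' * g = B := by
  obtain ⟨g, hg, hgB⟩ := h
  have h1 : g * g⁻¹ = 1 := Matrix.mul_nonsing_inv g hg
  have h2 : (g⁻¹)ᵀ * gᵀ = 1 := by rw [← Matrix.transpose_mul, h1, Matrix.transpose_one]
  refine ⟨g⁻¹, ?_, ?_⟩
  · exact Matrix.isUnit_nonsing_inv_det g hg
  · rw [← hgB]
    calc (g⁻¹)ᵀ * (gᵀ * B * g) * g⁻¹ = ((g⁻¹)ᵀ * gᵀ) * B * (g * g⁻¹) := by simp only [mul_assoc]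
      _ = B := by rw [h1, h2, one_mul, mul_one]

theorem congr_trans {F : Type*} [Field F] {ι : Type*} [Fintype ι] [DecidableEq ι]
    {B B' B'' : Matrix ι ι F} (h : ∃ g : Matrix ι ι F, IsUnit g.det ∧ gᵀ * B * g = B')
    (h' : ∃ g : Matrix ι ι F, IsUnit g.det ∧ gᵀ * B' * g = B'') :
    ∃ g : Matrix ι ι F, IsUnit g.det ∧ gᵀ * B * g = B'' := by
  obtain ⟨g, hg, hgB⟩ := h
  obtain ⟨g', hg', hgB'⟩ := h'
  refine ⟨g * g', ?_, ?_⟩
  · rw [Matrix.det_mul]
    exact hg.mul hg'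
  · rw [← hgB', ← hgB, Matrix.transpose_mul]
    simp only [mul_assoc]

/-- congruence of nondegenerate `ε`-symmetric matrices. -/
def formSetoid {F : Type*} [Field F] (ε : F) (ι : Type*) [Fintype ι] [DecidableEq ι] :
    Setoid (Forms F ε ι) where
  r B B' := ∃ g : Matrix ι ι F, IsUnit g.det ∧ gᵀ * B.1 * g = B'.1
  iseqv := ⟨fun B => congr_refl B.1, fun h => congr_symm h, fun h h' => congr_trans h h'⟩

/-- nondegenerate skew-symmetric forms invariant under the unipotent matrix `1 + Nmat d`. -/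
def InvForms (F : Type*) [Field F] {t : ℕ} (d : Fin t → ℕ) : Type _ :=
  {M : Matrix (Idx d) (Idx d) F //
    Mᵀ = -M ∧ IsUnit M.det ∧ (1 + Nmat (F := F) d)ᵀ * M * (1 + Nmat d) = M}

/-- congruence under the centraliser of `Nmat d`. -/
def invSetoid (F : Type*) [Field F] {t : ℕ} (d : Fin t → ℕ) : Setoid (InvForms F d) where
  r M M' := ∃ X : Matrix (Idx d) (Idx d) F,
    IsUnit X.det ∧ X * Nmat d = Nmat d * X ∧ Xᵀ * M.1 * X = M'.1
  iseqv := by
    refine ⟨fun M => ?_, fun {M M'} h => ?_, fun {M M' M''} h h' => ?_⟩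
    · exact ⟨1, by rw [Matrix.det_one]; exact isUnit_one, by rw [one_mul, mul_one],
        by rw [Matrix.transpose_one, one_mul, mul_one]⟩
    · obtain ⟨X, hX, hXN, hXM⟩ := h
      have h1 : X * X⁻¹ = 1 := Matrix.mul_nonsing_inv X hX
      have h1' : X⁻¹ * X = 1 := Matrix.nonsing_inv_mul X hX
      have h2 : (X⁻¹)ᵀ * Xᵀ = 1 := by rw [← Matrix.transpose_mul, h1, Matrix.transpose_one]
      refine ⟨X⁻¹, ?_, ?_, ?_⟩
      · exact Matrix.isUnit_nonsing_inv_det X hX
      · calc X⁻¹ * Nmat d = X⁻¹ * Nmat d * (X * X⁻¹) := by rw [h1, mul_one]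
          _ = X⁻¹ * (Nmat d * X) * X⁻¹ := by simp only [mul_assoc]
          _ = (X⁻¹ * X) * Nmat d * X⁻¹ := by rw [← hXN]; simp only [mul_assoc]
          _ = Nmat d * X⁻¹ := by rw [h1', one_mul]
      · rw [← hXM]
        calc (X⁻¹)ᵀ * (Xᵀ * M.1 * X) * X⁻¹ = ((X⁻¹)ᵀ * Xᵀ) * M.1 * (X * X⁻¹) := by
              simp only [mul_assoc]
          _ = M.1 := by rw [h1, h2, one_mul, mul_one]
    · obtain ⟨X, hX, hXN, hXM⟩ := h
      obtain ⟨X', hX', hXN', hXM'⟩ := h'
      refine ⟨X * X', ?_, ?_, ?_⟩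
      · rw [Matrix.det_mul]
        exact hX.mul hX'
      · rw [mul_assoc, hXN', ← mul_assoc, hXN, mul_assoc]
      · rw [← hXM', ← hXM, Matrix.transpose_mul]
        simp only [mul_assoc]

end Cfsg.Agent.Lib.Helper5.SpU
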