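import Mathlib
import Cfsg.Agent.Lib.Helper2.Spinor6
import Cfsg.Agent.Lib.Helper2.QuadStd2

/-!
Carve-out (C1) for S2099: `-1 ∈ Ω⁻_{2k+2}(q)` iff `4 ∣ q^(k+1) + 1`.
-/

set_option autoImplicit false

namespace Cfsg.Agent.Lib.Carve.C1

open Cfsg.Agent.Lib.Helper5.QuadGlue Cfsg.Agent.Lib.Helper2 Cfsg.Agent.Lib.Helper2.CDG

/-- `-1 ∈ Ω⁻_{2k+2}(q)` iff `4 ∣ q^(k+1) + 1` (`q` odd) -/
theorem negOne_mem_Omega_minus_iff {F : Type*} [Field F] [Fintype F] [DecidableEq F]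
    (h2 : (2 : F) ≠ 0) (k : ℕ) (a b : F)
    (hab : ∀ z₁ z₂ : F, z₁ ^ 2 + a * z₁ * z₂ + b * z₂ ^ 2 = 0 → z₁ = 0 ∧ z₂ = 0)
    (g : ↥(Cfsg.isometryGroup F ⇑(QM k F a b)))
    (hg : ((g : Matrix.GeneralLinearGroup ((Fin k ⊕ Fin k) ⊕ Fin 2) F) :
      Matrix ((Fin k ⊕ Fin k) ⊕ Fin 2) ((Fin k ⊕ Fin k) ⊕ Fin 2) F) = -1) :
    g ∈ commutator ↥(Cfsg.isometryGroup F ⇑(QM k F a b)) ↔ 4 ∣ Fintype.card F ^ (k + 1) + 1 := by
  have hQ := QuadStd.QM_nondeg h2 k a b hab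
  have hcard : Fintype.card ((Fin k ⊕ Fin k) ⊕ Fin 2) = 2 * k + 2 := by
    simp only [Fintype.card_sum, Fintype.card_fin]
    ring
  have hgeq : g = Spinor.negOne (QM k F a b) := by
    apply Subtype.ext
    apply Units.ext
    rw [hg, Spinor.negOne_coe]
  rw [Spinor.mem_commutator_iff h2 hQ (by rw [hcard]; omega) g, hgeq]
  unfold Spinor.Phi
  rw [MonoidHom.prod_apply, Prod.mk_eq_one]
  have hdet : (Matrix.GeneralLinearGroup.det.comp
      (Cfsg.isometryGroup F ⇑(QM k F a b)).subtype) (Spinor.negOne (QM k F a b)) = 1 := by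
    apply Units.ext
    show ((Spinor.negOne (QM k F a b) : Matrix.GeneralLinearGroup ((Fin k ⊕ Fin k) ⊕ Fin 2) F) :
      Matrix ((Fin k ⊕ Fin k) ⊕ Fin 2) ((Fin k ⊕ Fin k) ⊕ Fin 2) F).det = 1
    rw [Spinor.negOne_coe, Matrix.det_neg, Matrix.det_one, mul_one, hcard,
      Even.neg_one_pow ⟨k + 1, by ring⟩]
  rw [Spinor.levSign_negOne h2 one_ne_zero, QuadStd.card_minus_eq k a b hab 1 one_ne_zero]
  have hqodd : Odd (Fintype.card F) := by
    by_contra hne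
    rw [Nat.not_odd_iff_even] at hne
    obtain ⟨p, hp⟩ := CharP.exists F
    have hpp : p.Prime := CharP.char_is_prime F p
    obtain ⟨⟨n, hn0⟩, -, hcardF⟩ := FiniteField.card F p
    rw [hcardF] at hne
    have h3 : Even p := (Nat.even_pow.1 hne).1
    have h4 : p = 2 := (Nat.Prime.even_iff hpp).1 h3
    apply h2
    have := CharP.cast_eq_zero F p
    rw [h4] at this
    exact_mod_cast this
  set q := Fintype.card F with hq
  have hqk : Odd (q ^ k) := hqodd.pow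
  have hqk1 : Odd (q ^ (k + 1)) := hqodd.pow
  constructor
  · rintro ⟨-, hs⟩
    have hev : Even (q ^ k * (q ^ (k + 1) + 1) / 2) :=
      (neg_one_pow_eq_one_iff_even (by decide)).1 hs
    obtain ⟨c, hc⟩ := hqk
    obtain ⟨e, he⟩ := hqk1
    obtain ⟨m, hm⟩ := hev
    -- q^k (q^{k+1}+1) = 2 * (2 m) (+ maybe 1)
    have h5 : q ^ k * (q ^ (k + 1) + 1) = 2 * (q ^ k * (e + 1)) := by rw [he]; ring
    rw [h5, Nat.mul_div_cancel_left _ (by norm_num : 0 < 2)] at hm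
    -- (2c+1)(e+1) = 2m → e + 1 even
    have h6 : Even (e + 1) := by
      by_contra hne
      rw [Nat.not_even_iff_odd] at hne
      have h7 : Odd (q ^ k * (e + 1)) := Odd.mul (show Odd (q ^ k) from ⟨c, hc⟩) hne
      rw [hm] at h7
      exact (Nat.not_even_iff_odd.2 h7) ⟨m, rfl⟩
    obtain ⟨f, hf⟩ := h6
    exact ⟨f, by omega⟩
  · rintro ⟨f, hf⟩
    refine ⟨hdet, ?_⟩
    apply Even.neg_one_pow
    rw [hf]
    refine ⟨q ^ k * f, ?_⟩
    have : q ^ k * (4 * f) = 2 * (q ^ k * f + q ^ k * f) := by ring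
    rw [this, Nat.mul_div_cancel_left _ (by norm_num : 0 < 2)]

end Cfsg.Agent.Lib.Carve.C1
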