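import Mathlib
import Cfsg.Agent.Lib.Helper4.Deg11_Defs

/-!
# S0679 swarm, package P2: the order of a group of degree 11 without small prime cycles
-/

set_option autoImplicit false
open Equiv MulAction

namespace Cfsg.Agent.Lib.Helper5.Deg11P2

open Cfsg.Agent.Lib.Deg11

theorem card_perm_fin11 : Nat.card (Perm (Fin 11)) = 39916800 := by
  rw [Nat.card_eq_fintype_card, Fintype.card_perm, Fintype.card_fin]
  rfl

/-- A subgroup of `Perm (Fin 11)` whose order is the full power of `p` in `11!` contains a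
conjugate of every element of order `p`. -/
theorem exists_conj_mem_of_full_pow {p k : ℕ} [hp : Fact p.Prime] (G : Subgroup (Perm (Fin 11)))
    (hk1 : ¬ p ^ (k + 1) ∣ 39916800) (hdvd : p ^ k ∣ Nat.card G)
    (σ : Perm (Fin 11)) (hσ : orderOf σ = p) : ∃ g : Perm (Fin 11), g * σ * g⁻¹ ∈ G := by
  classical
  obtain ⟨H, hH⟩ := Sylow.exists_subgroup_card_pow_prime p hdvd
  set H' : Subgroup (Perm (Fin 11)) := H.map G.subtype with hH'
  have hH'G : H' ≤ G := by
    rintro x ⟨y, -, rfl⟩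
    exact y.2
  have hcardH' : Nat.card H' = p ^ k := by
    rw [hH', Subgroup.card_map_of_injective (Subgroup.subtype_injective G), hH]
  have hH'p : IsPGroup p H' := IsPGroup.of_card hcardH'
  obtain ⟨Q, hQ⟩ := hH'p.exists_le_sylow
  -- `Q = H'`
  have hQH : (Q : Subgroup (Perm (Fin 11))) = H' := by
    symm
    apply Subgroup.eq_of_le_of_card_ge hQ
    obtain ⟨n, hn⟩ := (IsPGroup.iff_card.1 Q.isPGroup')
    rw [hn, hcardH']
    have h1 : p ^ n ∣ 39916800 := by
      rw [← hn, ← card_perm_fin11]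
      exact Subgroup.card_subgroup_dvd_card _
    have hnk : n ≤ k := by
      by_contra hcon
      push Not at hcon
      exact hk1 ((pow_dvd_pow p hcon).trans h1)
    exact Nat.pow_le_pow_right hp.1.pos hnk
  -- a Sylow subgroup through `σ`
  have hzp : IsPGroup p (Subgroup.zpowers σ) := by
    apply IsPGroup.of_card (n := 1)
    rw [Nat.card_zpowers, hσ, pow_one]
  obtain ⟨Q', hQ'⟩ := hzp.exists_le_sylow
  obtain ⟨g, hg⟩ := MulAction.exists_smul_eq (Perm (Fin 11)) Q' Q
  refine ⟨g, hH'G ?_⟩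
  rw [← hQH, ← hg, Sylow.coe_subgroup_smul]
  have hσQ' : σ ∈ (Q' : Subgroup (Perm (Fin 11))) := hQ' (Subgroup.mem_zpowers σ)
  have := Subgroup.smul_mem_pointwise_smul σ (MulAut.conj g) _ hσQ'
  rwa [MulAut.smul_def, MulAut.conj_apply] at this

/-- No full prime power for `p ∈ {2, 3, 5, 7}`. -/
theorem not_pow_dvd_card {p k : ℕ} [hp : Fact p.Prime] (G : Subgroup (Perm (Fin 11)))
    (hJ : NoSmallCycle G) (hp' : p ∈ ({2, 3, 5, 7} : Finset ℕ))
    (hk1 : ¬ p ^ (k + 1) ∣ 39916800) (σ : Perm (Fin 11)) (hσ : σ.IsCycle)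
    (hσc : σ.support.card = p) : ¬ p ^ k ∣ Nat.card G := by
  intro hdvd
  have hord : orderOf σ = p := by rw [hσ.orderOf, hσc]
  obtain ⟨g, hg⟩ := exists_conj_mem_of_full_pow G hk1 hdvd σ hord
  refine hJ _ hg hσ.conj ?_
  rw [Equiv.Perm.card_support_conj, hσc]
  exact hp'

end Cfsg.Agent.Lib.Helper5.Deg11P2

namespace Cfsg.Agent.Lib.Deg11

open Cfsg.Agent.Lib.Helper5.Deg11P2

/-- P2 ORDERS.  If `p ^ k` is the full power of `p` in `11!` and divides `|G|`, a Sylow `p`-subgroup
of `G` is one of `Perm (Fin 11)`, hence contains a conjugate of every `p`-element, e.g. of a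
`p`-cycle. -/
theorem d11_orders (G : Subgroup (Perm (Fin 11))) (hJ : NoSmallCycle G) :
    Nat.card G ∣ 39916800 ∧ ¬ 2 ^ 8 ∣ Nat.card G ∧ ¬ 3 ^ 4 ∣ Nat.card G ∧ ¬ 5 ^ 2 ∣ Nat.card G ∧
      ¬ 7 ∣ Nat.card G := by
  classical
  have : Fact (Nat.Prime 2) := ⟨Nat.prime_two⟩
  have : Fact (Nat.Prime 3) := ⟨Nat.prime_three⟩
  have : Fact (Nat.Prime 5) := ⟨Nat.prime_five⟩
  have : Fact (Nat.Prime 7) := ⟨by norm_num⟩
  refine ⟨?_, ?_, ?_, ?_, ?_⟩
  · rw [← card_perm_fin11]
    exact Subgroup.card_subgroup_dvd_card G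
  · have h01 : (0 : Fin 11) ≠ 1 := by decide
    exact not_pow_dvd_card G hJ (by decide) (by norm_num) (Equiv.swap (0 : Fin 11) 1)
      (Equiv.Perm.isCycle_swap h01) (Equiv.Perm.card_support_swap h01)
  · have hnd : ([0, 1, 2] : List (Fin 11)).Nodup := by decide
    refine not_pow_dvd_card G hJ (by decide) (by norm_num)
      (List.formPerm ([0, 1, 2] : List (Fin 11)))
      (List.isCycle_formPerm hnd (by simp)) ?_
    rw [List.support_formPerm_of_nodup _ hnd (by intro x; simp), List.toFinset_card_of_nodup hnd]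
    rfl
  · have hnd : ([0, 1, 2, 3, 4] : List (Fin 11)).Nodup := by decide
    refine not_pow_dvd_card G hJ (by decide) (by norm_num)
      (List.formPerm ([0, 1, 2, 3, 4] : List (Fin 11)))
      (List.isCycle_formPerm hnd (by simp)) ?_
    rw [List.support_formPerm_of_nodup _ hnd (by intro x; simp), List.toFinset_card_of_nodup hnd]
    rfl
  · have hnd : ([0, 1, 2, 3, 4, 5, 6] : List (Fin 11)).Nodup := by decide
    have h7 : ¬ 7 ^ 1 ∣ Nat.card G := by
      refine not_pow_dvd_card G hJ (by decide) (by norm_num)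
        (List.formPerm ([0, 1, 2, 3, 4, 5, 6] : List (Fin 11)))
        (List.isCycle_formPerm hnd (by simp)) ?_
      rw [List.support_formPerm_of_nodup _ hnd (by intro x; simp),
        List.toFinset_card_of_nodup hnd]
      rfl
    rwa [pow_one] at h7

end Cfsg.Agent.Lib.Deg11
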