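import Mathlib

/-!
Helper library (helper5): element orders of alternating groups via cycle types, and an
explicit enumeration of the partitions with parts at least two of sum at most a bound.
-/

set_option autoImplicit false

namespace Cfsg.Agent.Lib.Helper5

/-- `k` is the order of an element of `A_n` iff it is the lcm of a multiset of parts `≥ 2`
with sum `≤ n` and with `sum + card` even. -/
theorem mem_range_orderOf_alternatingGroup_iff (n k : ℕ) :
    k ∈ Set.range (orderOf : alternatingGroup (Fin n) → ℕ) ↔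
      ∃ m : Multiset ℕ, m.sum ≤ n ∧ (∀ a ∈ m, 2 ≤ a) ∧ m.lcm = k ∧
        Even (m.sum + Multiset.card m) := by
  have hne : (-1 : ℤˣ) ≠ 1 := by decide
  constructor
  · rintro ⟨⟨σ, hσ⟩, rfl⟩
    refine ⟨σ.cycleType, ?_, fun a ha => Equiv.Perm.two_le_of_mem_cycleType ha, ?_, ?_⟩
    · simpa using σ.sum_cycleType_le
    · rw [Equiv.Perm.lcm_cycleType, Subgroup.orderOf_mk]
    · rw [Equiv.Perm.mem_alternatingGroup, Equiv.Perm.sign_of_cycleType] at hσ
      exact (neg_one_pow_eq_one_iff_even hne).1 hσ
  · rintro ⟨m, hsum, h2, rfl, hev⟩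
    obtain ⟨σ, hσ⟩ := (Equiv.Perm.exists_with_cycleType_iff (α := Fin n) (m := m)).2
      ⟨by simpa using hsum, h2⟩
    have hmem : σ ∈ alternatingGroup (Fin n) := by
      rw [Equiv.Perm.mem_alternatingGroup, Equiv.Perm.sign_of_cycleType, hσ]
      exact (neg_one_pow_eq_one_iff_even hne).2 hev
    refine ⟨⟨σ, hmem⟩, ?_⟩
    rw [Subgroup.orderOf_mk, ← Equiv.Perm.lcm_cycleType, hσ]

/-- All non-increasing lists with entries in `[2, M]` and sum at most `B` (given enough fuel). -/
def partsAux : ℕ → ℕ → ℕ → List (List ℕ)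
  | 0, _, _ => [[]]
  | fuel + 1, M, B =>
    [] :: ((List.range (min M B + 1)).filter (fun a => 2 ≤ a)).flatMap
      (fun a => (partsAux fuel a (B - a)).map (fun l => a :: l))

theorem mem_partsAux (fuel : ℕ) : ∀ (M B : ℕ) (l : List ℕ), l.Pairwise (fun a b => b ≤ a) →
    (∀ a ∈ l, 2 ≤ a ∧ a ≤ M) → l.sum ≤ B → B ≤ fuel → l ∈ partsAux fuel M B := by
  induction fuel with
  | zero =>
    intro M B l _ h2 hsum hB
    cases l with
    | nil => simp [partsAux]
    | cons a l =>
      exfalso
      have := (h2 a List.mem_cons_self).1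
      simp only [List.sum_cons] at hsum
      omega
  | succ fuel ih =>
    intro M B l hs h2 hsum hB
    cases l with
    | nil => simp [partsAux]
    | cons a l =>
      have ha := h2 a List.mem_cons_self
      simp only [List.sum_cons] at hsum
      rw [List.pairwise_cons] at hs
      have hl : l ∈ partsAux fuel a (B - a) := by
        apply ih a (B - a) l hs.2
        · intro b hb
          exact ⟨(h2 b (List.mem_cons_of_mem _ hb)).1, hs.1 b hb⟩
        · omega
        · omega
      unfold partsAux
      apply List.mem_cons_of_mem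
      rw [List.mem_flatMap]
      refine ⟨a, ?_, ?_⟩
      · rw [List.mem_filter, List.mem_range]
        refine ⟨?_, by simpa using ha.1⟩
        have : a ≤ min M B := le_min ha.2 (by omega)
        omega
      · exact List.mem_map.2 ⟨l, hl, rfl⟩

/-- Every multiset of parts `≥ 2` with sum `≤ B` is (the coercion of) a list in `partsAux B B B`. -/
theorem exists_mem_partsAux (B : ℕ) (m : Multiset ℕ) (h2 : ∀ a ∈ m, 2 ≤ a) (hsum : m.sum ≤ B) :
    ∃ l ∈ partsAux B B B, (l : Multiset ℕ) = m := by
  refine ⟨m.sort (fun a b => b ≤ a), ?_, Multiset.sort_eq _ _⟩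
  apply mem_partsAux
  · exact Multiset.pairwise_sort _ _
  · intro a ha
    rw [Multiset.mem_sort] at ha
    refine ⟨h2 a ha, ?_⟩
    exact (Multiset.le_sum_of_mem ha).trans hsum
  · have : ((m.sort (fun a b => b ≤ a) : List ℕ) : Multiset ℕ).sum = m.sum := by
      rw [Multiset.sort_eq]
    rw [Multiset.sum_coe] at this
    omega
  · exact le_rfl

/-- List version of the lcm of the parts. -/
def listLcm (l : List ℕ) : ℕ := l.foldr Nat.lcm 1

theorem multiset_lcm_coe (l : List ℕ) : (l : Multiset ℕ).lcm = listLcm l := by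
  induction l with
  | nil => simp [listLcm]
  | cons a l ih =>
    rw [← Multiset.cons_coe, Multiset.lcm_cons, ih]
    simp [listLcm, lcm_eq_nat_lcm]

/-- `k` is the order of an element of `A_n` iff some list in the enumeration has lcm `k` and
`sum + length` even. -/
theorem mem_range_orderOf_alternatingGroup_iff_list (n k : ℕ) :
    k ∈ Set.range (orderOf : alternatingGroup (Fin n) → ℕ) ↔
      ∃ l ∈ partsAux n n n, listLcm l = k ∧ (l.sum + l.length) % 2 = 0 ∧
        l.sum ≤ n ∧ ∀ a ∈ l, 2 ≤ a := by
  rw [mem_range_orderOf_alternatingGroup_iff]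
  constructor
  · rintro ⟨m, hsum, h2, hlcm, hev⟩
    obtain ⟨l, hl, rfl⟩ := exists_mem_partsAux n m h2 hsum
    refine ⟨l, hl, ?_, ?_, ?_, ?_⟩
    · rw [← multiset_lcm_coe, hlcm]
    · rw [Multiset.sum_coe, Multiset.coe_card] at hev
      exact Nat.even_iff.1 hev
    · simpa using hsum
    · simpa using h2
  · rintro ⟨l, _, hlcm, hev, hsum, h2⟩
    refine ⟨(l : Multiset ℕ), by simpa using hsum, by simpa using h2, ?_, ?_⟩
    · rw [multiset_lcm_coe, hlcm]
    · rw [Multiset.sum_coe, Multiset.coe_card]
      exact Nat.even_iff.2 hev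

end Cfsg.Agent.Lib.Helper5
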