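import Mathlib
import Cfsg.Prelude

set_option autoImplicit false
set_option maxRecDepth 100000
set_option Elab.async false

/-! The action of the Chevalley group of type G2 over the field with 2 elements on the 63 long root
elements of its Lie algebra. -/

namespace Cfsg.Agent.Lib.Helper5.G22

open Matrix Cfsg Cfsg.Lie

/-- the index type of the matrices -/
abbrev IdxG : Type := Fin 2 ⊕ Fin 12

/-- the number coding a vector -/
def encG (f : IdxG → ZMod 2) : ℕ :=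
  1 * (f (Sum.inl 0)).val +
    2 * (f (Sum.inl 1)).val +
    4 * (f (Sum.inr 0)).val +
    8 * (f (Sum.inr 1)).val +
    16 * (f (Sum.inr 2)).val +
    32 * (f (Sum.inr 3)).val +
    64 * (f (Sum.inr 4)).val +
    128 * (f (Sum.inr 5)).val +
    256 * (f (Sum.inr 6)).val +
    512 * (f (Sum.inr 7)).val +
    1024 * (f (Sum.inr 8)).val +
    2048 * (f (Sum.inr 9)).val +
    4096 * (f (Sum.inr 10)).val +
    8192 * (f (Sum.inr 11)).val

/-- the vector coded by a number -/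
def decG (c : ℕ) : IdxG → ZMod 2
  | Sum.inl i => ((c / 2 ^ i.1 % 2 : ℕ) : ZMod 2)
  | Sum.inr u => ((c / 2 ^ (2 + u.1) % 2 : ℕ) : ZMod 2)

theorem decG_encG (f : IdxG → ZMod 2) : decG (encG f) = f := by
  have hb : ∀ k : IdxG, (f k).val < 2 := fun k => ZMod.val_lt _
  have hc : ∀ k : IdxG, (((f k).val : ℕ) : ZMod 2) = f k := fun k => ZMod.natCast_zmod_val _
  have h0 := hb (Sum.inl 0); have h1 := hb (Sum.inl 1)
  have h2 := hb (Sum.inr 0); have h3 := hb (Sum.inr 1); have h4 := hb (Sum.inr 2)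
  have h5 := hb (Sum.inr 3); have h6 := hb (Sum.inr 4); have h7 := hb (Sum.inr 5)
  have h8 := hb (Sum.inr 6); have h9 := hb (Sum.inr 7); have h10 := hb (Sum.inr 8)
  have h11 := hb (Sum.inr 9); have h12 := hb (Sum.inr 10); have h13 := hb (Sum.inr 11)
  funext k
  rcases k with i | u
  · fin_cases i
    · show ((encG f / 2 ^ 0 % 2 : ℕ) : ZMod 2) = f (Sum.inl 0)
      rw [← hc (Sum.inl 0)]
      congr 1
      unfold encG
      omega
    · show ((encG f / 2 ^ 1 % 2 : ℕ) : ZMod 2) = f (Sum.inl 1)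
      rw [← hc (Sum.inl 1)]
      congr 1
      unfold encG
      omega
  · fin_cases u
    · show ((encG f / 2 ^ (2 + 0) % 2 : ℕ) : ZMod 2) = f (Sum.inr 0)
      rw [← hc (Sum.inr 0)]
      congr 1
      unfold encG
      omega
    · show ((encG f / 2 ^ (2 + 1) % 2 : ℕ) : ZMod 2) = f (Sum.inr 1)
      rw [← hc (Sum.inr 1)]
      congr 1
      unfold encG
      omega
    · show ((encG f / 2 ^ (2 + 2) % 2 : ℕ) : ZMod 2) = f (Sum.inr 2)
      rw [← hc (Sum.inr 2)]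
      congr 1
      unfold encG
      omega
    · show ((encG f / 2 ^ (2 + 3) % 2 : ℕ) : ZMod 2) = f (Sum.inr 3)
      rw [← hc (Sum.inr 3)]
      congr 1
      unfold encG
      omega
    · show ((encG f / 2 ^ (2 + 4) % 2 : ℕ) : ZMod 2) = f (Sum.inr 4)
      rw [← hc (Sum.inr 4)]
      congr 1
      unfold encG
      omega
    · show ((encG f / 2 ^ (2 + 5) % 2 : ℕ) : ZMod 2) = f (Sum.inr 5)
      rw [← hc (Sum.inr 5)]
      congr 1
      unfold encG
      omega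
    · show ((encG f / 2 ^ (2 + 6) % 2 : ℕ) : ZMod 2) = f (Sum.inr 6)
      rw [← hc (Sum.inr 6)]
      congr 1
      unfold encG
      omega
    · show ((encG f / 2 ^ (2 + 7) % 2 : ℕ) : ZMod 2) = f (Sum.inr 7)
      rw [← hc (Sum.inr 7)]
      congr 1
      unfold encG
      omega
    · show ((encG f / 2 ^ (2 + 8) % 2 : ℕ) : ZMod 2) = f (Sum.inr 8)
      rw [← hc (Sum.inr 8)]
      congr 1
      unfold encG
      omega
    · show ((encG f / 2 ^ (2 + 9) % 2 : ℕ) : ZMod 2) = f (Sum.inr 9)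
      rw [← hc (Sum.inr 9)]
      congr 1
      unfold encG
      omega
    · show ((encG f / 2 ^ (2 + 10) % 2 : ℕ) : ZMod 2) = f (Sum.inr 10)
      rw [← hc (Sum.inr 10)]
      congr 1
      unfold encG
      omega
    · show ((encG f / 2 ^ (2 + 11) % 2 : ℕ) : ZMod 2) = f (Sum.inr 11)
      rw [← hc (Sum.inr 11)]
      congr 1
      unfold encG
      omega

/-- the action of a matrix on the codes -/
def mvG (M : Matrix IdxG IdxG (ZMod 2)) (c : ℕ) : ℕ := encG (M *ᵥ decG c)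

theorem mvG_mul (M N : Matrix IdxG IdxG (ZMod 2)) (c : ℕ) : mvG (M * N) c = mvG M (mvG N c) := by
  unfold mvG
  rw [decG_encG, Matrix.mulVec_mulVec]

theorem decG_mvG (M : Matrix IdxG IdxG (ZMod 2)) (c : ℕ) : decG (mvG M c) = M *ᵥ decG c :=
  decG_encG _

/-- the codes of the 63 long root elements -/
def codesG : List ℕ :=
  [4, 8, 12, 128, 132, 184, 188, 256, 264, 340, 348, 386, 398, 502, 506, 4096, 4107, 4224, 4239, 4644, 4671, 4772, 4795, 7424, 7499, 7608, 7671, 7998, 8045, 8066, 8149, 8192, 8197, 8448, 8461, 9288, 9309, 9544, 9557, 10880, 10917, 11220, 11257, 11998, 12015, 12162, 12219, 12288, 12421, 12555, 12674, 13932, 14073, 14199, 14318, 14885, 14976, 15222, 15327, 15435, 15610, 15616, 15805]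

/-- the code of a place -/
def cG (i : Fin 63) : ℕ := codesG.getD i.1 0

/-- the action of a matrix on the places -/
def actG (M : Matrix IdxG IdxG (ZMod 2)) (i : Fin 63) : Fin 63 :=
  Fin.ofNat 63 (codesG.idxOf (mvG M (cG i)))

/-- the matrix stabilizes the set of codes -/
def StabO (M : Matrix IdxG IdxG (ZMod 2)) : Prop := ∀ i : Fin 63, mvG M (cG i) ∈ codesG

theorem codesG_length : codesG.length = 63 := rfl

theorem codesG_nodup : codesG.Nodup := by decide +kernel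

theorem mvG_one_cG : ∀ i : Fin 63, mvG 1 (cG i) = cG i := by decide +kernel

theorem cG_mem (i : Fin 63) : cG i ∈ codesG := by
  unfold cG
  rw [List.getD_eq_getElem _ _ (by rw [codesG_length]; exact i.2)]
  exact List.getElem_mem _

theorem idxOf_cG (i : Fin 63) : codesG.idxOf (cG i) = i.1 := by
  unfold cG
  rw [List.getD_eq_getElem _ _ (by rw [codesG_length]; exact i.2)]
  exact List.Nodup.idxOf_getElem codesG_nodup _ _

theorem cG_actG {M : Matrix IdxG IdxG (ZMod 2)} (h : StabO M) (i : Fin 63) :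
    cG (actG M i) = mvG M (cG i) := by
  have h1 : codesG.idxOf (mvG M (cG i)) < 63 := by
    rw [← codesG_length]
    exact List.idxOf_lt_length_of_mem (h i)
  have h2 : (actG M i).1 = codesG.idxOf (mvG M (cG i)) := Nat.mod_eq_of_lt h1
  unfold cG
  rw [h2, List.getD_eq_getElem _ _ (by rw [codesG_length]; exact h1)]
  exact List.getElem_idxOf _

theorem actG_one (i : Fin 63) : actG 1 i = i := by
  unfold actG
  rw [mvG_one_cG, idxOf_cG]
  exact Fin.ext (Nat.mod_eq_of_lt i.2)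

theorem actG_mul (M N : Matrix IdxG IdxG (ZMod 2)) (hN : StabO N) (i : Fin 63) :
    actG (M * N) i = actG M (actG N i) := by
  have key : mvG M (mvG N (cG i)) = mvG M (cG (actG N i)) := by rw [cG_actG hN i]
  show Fin.ofNat 63 (codesG.idxOf (mvG (M * N) (cG i))) =
    Fin.ofNat 63 (codesG.idxOf (mvG M (cG (actG N i))))
  rw [mvG_mul, key]

theorem stabO_one : StabO 1 := by
  intro i
  rw [mvG_one_cG]
  exact cG_mem i

theorem stabO_mul {M N : Matrix IdxG IdxG (ZMod 2)} (hM : StabO M) (hN : StabO N) :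
    StabO (M * N) := by
  intro i
  rw [mvG_mul, ← cG_actG hN i]
  exact hM _

/-- the place in the list of coordinates -/
def posG : IdxG → ℕ
  | Sum.inl i => i.1
  | Sum.inr u => 2 + u.1

/-- the matrices of the generators -/
def xG (r : Fin 12) (t : ZMod 2) : Matrix IdxG IdxG (ZMod 2) := chevG2.xMat (ZMod 2) r t

/-- the codes of the columns of the matrices of the generators -/
def colsG : List (List ℕ) :=
  [[1, 6, 4, 8, 16, 32, 64, 128, 264, 512, 1040, 2080, 4224, 8197],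
   [9, 10, 4, 8, 16, 32, 64, 132, 256, 528, 1024, 2112, 4107, 8448],
   [17, 2, 4, 8, 16, 36, 72, 128, 256, 516, 1032, 2066, 4644, 9288],
   [33, 34, 4, 8, 20, 32, 68, 128, 340, 640, 1059, 2176, 4096, 10880],
   [1, 66, 4, 8, 24, 40, 64, 184, 256, 577, 1280, 2304, 7424, 8192],
   [129, 2, 4, 12, 16, 32, 96, 128, 386, 512, 1536, 2048, 4096, 12288],
   [257, 2, 12, 8, 16, 96, 64, 386, 256, 1536, 1024, 2048, 12288, 8192],
   [1, 514, 4, 184, 144, 160, 577, 128, 7424, 512, 5120, 6144, 4096, 8192],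
   [1025, 1026, 340, 8, 272, 1059, 320, 10880, 256, 8704, 1024, 10240, 4096, 8192],
   [2049, 2, 4644, 9288, 2066, 4128, 8256, 128, 256, 4608, 9216, 2048, 4096, 8192],
   [4097, 4098, 132, 4107, 528, 32, 2112, 128, 8448, 512, 1024, 2048, 4096, 8192],
   [1, 8194, 8197, 264, 1040, 2080, 64, 4224, 256, 512, 1024, 2048, 4096, 8192]]

/-- the matrices of the generators, from the codes of their columns -/
def xLit (r : ℕ) : Matrix IdxG IdxG (ZMod 2) :=
  fun i j => decG ((colsG.getD r []).getD (posG j) 0) i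

/-- the actions of the generators on the places -/
def tabG : List (List ℕ) :=
  [[0, 1, 2, 3, 4, 5, 6, 8, 7, 10, 9, 12, 11, 14, 13, 17, 18, 15, 16, 21, 22, 19, 20, 25, 26, 23, 24, 29, 30, 27, 28, 32, 31, 34, 33, 36, 35, 38, 37, 40, 39, 42, 41, 44, 43, 46, 45, 48, 47, 50, 49, 52, 51, 54, 53, 56, 55, 58, 57, 60, 59, 62, 61],
   [0, 1, 2, 4, 3, 6, 5, 7, 8, 9, 10, 12, 11, 14, 13, 16, 15, 18, 17, 20, 19, 22, 21, 24, 23, 26, 25, 28, 27, 30, 29, 33, 34, 31, 32, 37, 38, 35, 36, 41, 42, 39, 40, 45, 46, 43, 44, 49, 50, 47, 48, 53, 54, 51, 52, 57, 58, 55, 56, 61, 62, 59, 60],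
   [0, 1, 2, 3, 4, 6, 5, 7, 8, 10, 9, 11, 12, 14, 13, 19, 20, 21, 22, 15, 16, 17, 18, 27, 28, 29, 30, 23, 24, 25, 26, 35, 36, 37, 38, 31, 32, 33, 34, 43, 44, 45, 46, 39, 40, 41, 42, 51, 52, 53, 54, 47, 48, 49, 50, 59, 60, 61, 62, 55, 56, 57, 58],
   [0, 1, 2, 3, 4, 6, 5, 9, 10, 7, 8, 13, 14, 11, 12, 15, 16, 17, 18, 21, 22, 19, 20, 26, 25, 24, 23, 28, 27, 30, 29, 39, 40, 41, 42, 44, 43, 46, 45, 31, 32, 33, 34, 36, 35, 38, 37, 56, 55, 58, 57, 59, 60, 61, 62, 48, 47, 50, 49, 51, 52, 53, 54],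
   [0, 1, 2, 5, 6, 3, 4, 7, 8, 10, 9, 14, 13, 12, 11, 23, 24, 25, 26, 28, 27, 30, 29, 15, 16, 17, 18, 20, 19, 22, 21, 31, 32, 33, 34, 37, 38, 35, 36, 42, 41, 40, 39, 44, 43, 46, 45, 61, 62, 59, 60, 55, 56, 57, 58, 51, 52, 53, 54, 49, 50, 47, 48],
   [0, 2, 1, 3, 4, 6, 5, 11, 12, 13, 14, 7, 8, 9, 10, 15, 18, 17, 16, 19, 22, 21, 20, 29, 28, 27, 30, 25, 24, 23, 26, 47, 48, 50, 49, 51, 52, 54, 53, 56, 55, 57, 58, 60, 59, 61, 62, 31, 32, 34, 33, 35, 36, 38, 37, 40, 39, 41, 42, 44, 43, 45, 46],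
   [2, 1, 0, 11, 12, 14, 13, 7, 8, 10, 9, 3, 4, 6, 5, 47, 49, 50, 48, 51, 53, 54, 52, 61, 59, 60, 62, 57, 55, 56, 58, 31, 34, 33, 32, 35, 38, 37, 36, 45, 44, 43, 46, 41, 40, 39, 42, 15, 18, 16, 17, 19, 22, 20, 21, 28, 29, 27, 30, 24, 25, 23, 26],
   [0, 5, 6, 3, 4, 1, 2, 23, 25, 30, 28, 29, 27, 26, 24, 15, 22, 17, 20, 21, 18, 19, 16, 7, 14, 8, 13, 12, 10, 11, 9, 31, 32, 61, 62, 52, 51, 42, 41, 56, 55, 38, 37, 44, 43, 50, 49, 47, 48, 46, 45, 36, 35, 57, 58, 40, 39, 53, 54, 60, 59, 33, 34],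
   [9, 1, 10, 39, 41, 46, 44, 7, 8, 0, 2, 45, 43, 40, 42, 15, 16, 56, 58, 53, 51, 26, 25, 61, 59, 22, 21, 28, 27, 50, 48, 31, 38, 33, 36, 37, 34, 35, 32, 3, 13, 4, 14, 12, 6, 11, 5, 47, 30, 49, 29, 20, 60, 19, 62, 57, 17, 55, 18, 24, 52, 23, 54],
   [19, 35, 51, 3, 21, 60, 43, 7, 37, 57, 27, 11, 54, 41, 25, 15, 59, 17, 44, 0, 36, 4, 52, 61, 49, 14, 30, 10, 34, 45, 26, 31, 55, 33, 28, 1, 20, 8, 53, 56, 48, 13, 46, 6, 18, 29, 42, 47, 40, 24, 50, 2, 22, 38, 12, 32, 39, 9, 62, 16, 5, 23, 58],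
   [4, 16, 18, 3, 0, 22, 20, 33, 49, 41, 58, 50, 34, 57, 42, 15, 1, 17, 2, 21, 6, 19, 5, 61, 37, 46, 53, 62, 54, 45, 38, 31, 48, 7, 12, 59, 43, 24, 30, 39, 55, 9, 14, 36, 51, 29, 25, 47, 32, 8, 11, 44, 60, 26, 28, 40, 56, 13, 10, 35, 52, 23, 27],
   [32, 8, 34, 17, 48, 25, 62, 7, 1, 38, 36, 50, 18, 26, 60, 15, 49, 3, 12, 55, 27, 40, 46, 23, 59, 5, 13, 20, 51, 45, 41, 31, 0, 33, 2, 37, 10, 35, 9, 56, 21, 30, 52, 58, 54, 29, 22, 47, 4, 16, 11, 28, 42, 57, 44, 19, 39, 53, 43, 24, 14, 61, 6]]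

theorem xG_zero : ∀ r : Fin 12, xG r 0 = 1 := by decide +kernel

theorem xG_one_0 : xG 0 1 = xLit 0 := by decide +kernel

theorem xLit_sq_0 : xLit 0 * xLit 0 = 1 := by decide +kernel

theorem xLit_stab_0 : ∀ i : Fin 63, mvG (xLit 0) (cG i) ∈ codesG := by decide +kernel

theorem xLit_tab_0 : ∀ i : Fin 63, (actG (xLit 0) i).1 = (tabG.getD 0 []).getD i.1 0 := by
  decide +kernel

theorem xG_one_1 : xG 1 1 = xLit 1 := by decide +kernel

theorem xLit_sq_1 : xLit 1 * xLit 1 = 1 := by decide +kernel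

theorem xLit_stab_1 : ∀ i : Fin 63, mvG (xLit 1) (cG i) ∈ codesG := by decide +kernel

theorem xLit_tab_1 : ∀ i : Fin 63, (actG (xLit 1) i).1 = (tabG.getD 1 []).getD i.1 0 := by
  decide +kernel

theorem xG_one_2 : xG 2 1 = xLit 2 := by decide +kernel

theorem xLit_sq_2 : xLit 2 * xLit 2 = 1 := by decide +kernel

theorem xLit_stab_2 : ∀ i : Fin 63, mvG (xLit 2) (cG i) ∈ codesG := by decide +kernel

theorem xLit_tab_2 : ∀ i : Fin 63, (actG (xLit 2) i).1 = (tabG.getD 2 []).getD i.1 0 := by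
  decide +kernel

theorem xG_one_3 : xG 3 1 = xLit 3 := by decide +kernel

theorem xLit_sq_3 : xLit 3 * xLit 3 = 1 := by decide +kernel

theorem xLit_stab_3 : ∀ i : Fin 63, mvG (xLit 3) (cG i) ∈ codesG := by decide +kernel

theorem xLit_tab_3 : ∀ i : Fin 63, (actG (xLit 3) i).1 = (tabG.getD 3 []).getD i.1 0 := by
  decide +kernel

theorem xG_one_4 : xG 4 1 = xLit 4 := by decide +kernel

theorem xLit_sq_4 : xLit 4 * xLit 4 = 1 := by decide +kernel

theorem xLit_stab_4 : ∀ i : Fin 63, mvG (xLit 4) (cG i) ∈ codesG := by decide +kernel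

theorem xLit_tab_4 : ∀ i : Fin 63, (actG (xLit 4) i).1 = (tabG.getD 4 []).getD i.1 0 := by
  decide +kernel

theorem xG_one_5 : xG 5 1 = xLit 5 := by decide +kernel

theorem xLit_sq_5 : xLit 5 * xLit 5 = 1 := by decide +kernel

theorem xLit_stab_5 : ∀ i : Fin 63, mvG (xLit 5) (cG i) ∈ codesG := by decide +kernel

theorem xLit_tab_5 : ∀ i : Fin 63, (actG (xLit 5) i).1 = (tabG.getD 5 []).getD i.1 0 := by
  decide +kernel

theorem xG_one_6 : xG 6 1 = xLit 6 := by decide +kernel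

theorem xLit_sq_6 : xLit 6 * xLit 6 = 1 := by decide +kernel

theorem xLit_stab_6 : ∀ i : Fin 63, mvG (xLit 6) (cG i) ∈ codesG := by decide +kernel

theorem xLit_tab_6 : ∀ i : Fin 63, (actG (xLit 6) i).1 = (tabG.getD 6 []).getD i.1 0 := by
  decide +kernel

theorem xG_one_7 : xG 7 1 = xLit 7 := by decide +kernel

theorem xLit_sq_7 : xLit 7 * xLit 7 = 1 := by decide +kernel

theorem xLit_stab_7 : ∀ i : Fin 63, mvG (xLit 7) (cG i) ∈ codesG := by decide +kernel

theorem xLit_tab_7 : ∀ i : Fin 63, (actG (xLit 7) i).1 = (tabG.getD 7 []).getD i.1 0 := by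
  decide +kernel

theorem xG_one_8 : xG 8 1 = xLit 8 := by decide +kernel

theorem xLit_sq_8 : xLit 8 * xLit 8 = 1 := by decide +kernel

theorem xLit_stab_8 : ∀ i : Fin 63, mvG (xLit 8) (cG i) ∈ codesG := by decide +kernel

theorem xLit_tab_8 : ∀ i : Fin 63, (actG (xLit 8) i).1 = (tabG.getD 8 []).getD i.1 0 := by
  decide +kernel

theorem xG_one_9 : xG 9 1 = xLit 9 := by decide +kernel

theorem xLit_sq_9 : xLit 9 * xLit 9 = 1 := by decide +kernel

theorem xLit_stab_9 : ∀ i : Fin 63, mvG (xLit 9) (cG i) ∈ codesG := by decide +kernel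

theorem xLit_tab_9 : ∀ i : Fin 63, (actG (xLit 9) i).1 = (tabG.getD 9 []).getD i.1 0 := by
  decide +kernel

theorem xG_one_10 : xG 10 1 = xLit 10 := by decide +kernel

theorem xLit_sq_10 : xLit 10 * xLit 10 = 1 := by decide +kernel

theorem xLit_stab_10 : ∀ i : Fin 63, mvG (xLit 10) (cG i) ∈ codesG := by decide +kernel

theorem xLit_tab_10 : ∀ i : Fin 63, (actG (xLit 10) i).1 = (tabG.getD 10 []).getD i.1 0 := by
  decide +kernel

theorem xG_one_11 : xG 11 1 = xLit 11 := by decide +kernel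

theorem xLit_sq_11 : xLit 11 * xLit 11 = 1 := by decide +kernel

theorem xLit_stab_11 : ∀ i : Fin 63, mvG (xLit 11) (cG i) ∈ codesG := by decide +kernel

theorem xLit_tab_11 : ∀ i : Fin 63, (actG (xLit 11) i).1 = (tabG.getD 11 []).getD i.1 0 := by
  decide +kernel


theorem xG_one : ∀ r : Fin 12, xG r 1 = xLit r.1 := by
  intro r
  fin_cases r
  · exact xG_one_0
  · exact xG_one_1
  · exact xG_one_2
  · exact xG_one_3
  · exact xG_one_4
  · exact xG_one_5
  · exact xG_one_6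
  · exact xG_one_7
  · exact xG_one_8
  · exact xG_one_9
  · exact xG_one_10
  · exact xG_one_11

theorem xLit_sq : ∀ r : Fin 12, xLit r.1 * xLit r.1 = 1 := by
  intro r
  fin_cases r
  · exact xLit_sq_0
  · exact xLit_sq_1
  · exact xLit_sq_2
  · exact xLit_sq_3
  · exact xLit_sq_4
  · exact xLit_sq_5
  · exact xLit_sq_6
  · exact xLit_sq_7
  · exact xLit_sq_8
  · exact xLit_sq_9
  · exact xLit_sq_10
  · exact xLit_sq_11

theorem xLit_stab : ∀ r : Fin 12, StabO (xLit r.1) := by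
  intro r
  fin_cases r
  · exact xLit_stab_0
  · exact xLit_stab_1
  · exact xLit_stab_2
  · exact xLit_stab_3
  · exact xLit_stab_4
  · exact xLit_stab_5
  · exact xLit_stab_6
  · exact xLit_stab_7
  · exact xLit_stab_8
  · exact xLit_stab_9
  · exact xLit_stab_10
  · exact xLit_stab_11

theorem xLit_tab : ∀ (r : Fin 12) (i : Fin 63),
    (actG (xLit r.1) i).1 = (tabG.getD r.1 []).getD i.1 0 := by
  intro r
  fin_cases r
  · exact xLit_tab_0
  · exact xLit_tab_1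
  · exact xLit_tab_2
  · exact xLit_tab_3
  · exact xLit_tab_4
  · exact xLit_tab_5
  · exact xLit_tab_6
  · exact xLit_tab_7
  · exact xLit_tab_8
  · exact xLit_tab_9
  · exact xLit_tab_10
  · exact xLit_tab_11

theorem xG_sq (r : Fin 12) (t : ZMod 2) : xG r t * xG r t = 1 := by
  fin_cases t
  · show xG r 0 * xG r 0 = 1
    rw [xG_zero, one_mul]
  · show xG r 1 * xG r 1 = 1
    rw [xG_one, xLit_sq]

theorem xG_stab (r : Fin 12) (t : ZMod 2) : StabO (xG r t) := by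
  fin_cases t
  · show StabO (xG r 0)
    rw [xG_zero]
    exact stabO_one
  · show StabO (xG r 1)
    rw [xG_one]
    exact xLit_stab r

theorem xG_tab (r : Fin 12) (i : Fin 63) :
    (actG (xG r 1) i).1 = (tabG.getD r.1 []).getD i.1 0 := by
  rw [xG_one]
  exact xLit_tab r i

/-- places whose root elements add up to the basis vectors -/
def subsG : List (List ℕ) :=
  [[1, 3, 7, 11, 15, 16],
   [3, 7, 11],
   [0],
   [1],
   [1, 3, 5, 7, 9, 11, 13],
   [7, 9, 11, 13],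
   [0, 1, 3, 5, 11, 13],
   [3],
   [7],
   [0, 7, 9, 11, 13, 15, 19],
   [0, 3, 5, 11, 13, 31, 35],
   [0, 3, 5, 7, 11, 13, 15, 23, 31, 35],
   [15],
   [31]]

theorem basis_sum : ∀ k : IdxG, ((subsG.getD (posG k) []).map (fun i => decG (codesG.getD i 0))).sum =
    Pi.single k 1 := by decide +kernel

end Cfsg.Agent.Lib.Helper5.G22
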