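import Mathlib
import Cfsg.Prelude
import Cfsg.Agent.Lib.Helper5.G22a
import Cfsg.Agent.S1059

set_option autoImplicit false
set_option maxRecDepth 100000

/-! The faithful homomorphism from the Chevalley group of type G2 over the field with 2 elements
to the symmetric group of degree 63. -/

namespace Cfsg.Agent.Lib.Helper5.G22

open Matrix Cfsg Cfsg.Lie

/-- the group -/
abbrev GG : Type := ↥(chevG2.group (ZMod 2))

/-- the matrix of an element -/
def matG (g : GL chevG2.Idx (ZMod 2)) : Matrix IdxG IdxG (ZMod 2) :=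
  (g : Matrix chevG2.Idx chevG2.Idx (ZMod 2))

theorem matG_one : matG 1 = 1 := rfl

theorem matG_mul (g h : GL chevG2.Idx (ZMod 2)) : matG (g * h) = matG g * matG h := rfl

theorem stab_mem (g : GL chevG2.Idx (ZMod 2)) (hg : g ∈ chevG2.group (ZMod 2)) :
    StabO (matG g) ∧ StabO (matG g⁻¹) := by
  unfold ChevalleyDatum.group at hg
  induction hg using Subgroup.closure_induction with
  | mem x hx =>
    obtain ⟨r, t, hxr⟩ := hx
    have h1 : matG x = xG r t := hxr
    have h2 : x⁻¹ = x := by
      rw [inv_eq_iff_mul_eq_one]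
      apply Units.ext
      show matG x * matG x = 1
      rw [h1]
      exact xG_sq r t
    rw [h2, h1]
    exact ⟨xG_stab r t, xG_stab r t⟩
  | one =>
    rw [inv_one, matG_one]
    exact ⟨stabO_one, stabO_one⟩
  | mul x y _ _ hx hy =>
    refine ⟨?_, ?_⟩
    · rw [matG_mul]; exact stabO_mul hx.1 hy.1
    · rw [_root_.mul_inv_rev, matG_mul]; exact stabO_mul hy.2 hx.2
  | inv x _ hx =>
    refine ⟨hx.2, ?_⟩
    rw [inv_inv]
    exact hx.1

instance : MulAction GG (Fin 63) where
  smul g i := actG (matG g.1) i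
  one_smul i := actG_one i
  mul_smul g h i := actG_mul (matG g.1) (matG h.1) (stab_mem h.1 h.2).1 i

/-- the homomorphism -/
def rho1 : GG →* Equiv.Perm (Fin 63) := MulAction.toPermHom GG (Fin 63)

theorem rho1_apply (g : GG) (i : Fin 63) : rho1 g i = actG (matG g.1) i := rfl

theorem decG_zero : decG 0 = 0 := by
  funext k
  rcases k with i | u <;> simp [decG]

theorem mulVec_list_sum (M : Matrix IdxG IdxG (ZMod 2)) (f : ℕ → IdxG → ZMod 2)
    (h : ∀ n, M *ᵥ f n = f n) (L : List ℕ) : M *ᵥ (L.map f).sum = (L.map f).sum := by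
  induction L with
  | nil => simp
  | cons a L ih => rw [List.map_cons, List.sum_cons, Matrix.mulVec_add, h, ih]

theorem rho1_injective : Function.Injective rho1 := by
  rw [injective_iff_map_eq_one]
  intro g hg
  have hst := (stab_mem g.1 g.2).1
  have h1 : ∀ i : Fin 63, matG g.1 *ᵥ decG (cG i) = decG (cG i) := by
    intro i
    have h2 : actG (matG g.1) i = i := by
      rw [← rho1_apply, hg]
      rfl
    have h3 := cG_actG hst i
    rw [h2] at h3
    rw [← decG_mvG, ← h3]
  have h4 : ∀ n : ℕ, matG g.1 *ᵥ decG (codesG.getD n 0) = decG (codesG.getD n 0) := by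
    intro n
    by_cases hn : n < 63
    · exact h1 ⟨n, hn⟩
    · rw [List.getD_eq_default _ _ (by rw [codesG_length]; omega), decG_zero, Matrix.mulVec_zero]
  have h5 : matG g.1 = 1 := by
    ext a k
    have h6 := mulVec_list_sum (matG g.1) (fun i => decG (codesG.getD i 0)) h4
      (subsG.getD (posG k) [])
    rw [basis_sum k, Matrix.mulVec_single_one] at h6
    have h7 := congrFun h6 a
    rw [Matrix.one_apply, ← Pi.single_apply]
    rw [← h7]
    rfl
  apply Subtype.ext
  apply Units.ext
  exact h5

theorem card_GG : Nat.card GG = 12096 := by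
  have h := Cfsg.Agent.S1059.result (F := ZMod 2) (q := 2) (by simp)
  rw [h]; norm_num

end Cfsg.Agent.Lib.Helper5.G22
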