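import Mathlib
import Cfsg.Prelude
import Cfsg.Agent.Lib.Helper1.U43A

set_option autoImplicit false
set_option maxRecDepth 100000
set_option Elab.async false

/-! The action of the matrices of degree 3 over the field with 9 elements on the 63 points of the
projective plane that are not isotropic for the standard Hermitian form. -/

namespace Cfsg.Agent.Lib.Helper5.G22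

open Matrix
open Cfsg.Agent.Lib.Helper1.U43 (F9c)

/-- vectors as tuples -/
abbrev VU : Type := F9c × F9c × F9c

/-- the vector of a tuple -/
def ofVU (v : VU) : Fin 3 → F9c := ![v.1, v.2.1, v.2.2]

/-- the tuple of a vector -/
def toVU (f : Fin 3 → F9c) : VU := (f 0, f 1, f 2)

theorem toVU_ofVU (v : VU) : toVU (ofVU v) = v := rfl

theorem ofVU_toVU (f : Fin 3 → F9c) : ofVU (toVU f) = f := by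
  funext i
  fin_cases i <;> rfl

/-- the product of a matrix and a tuple -/
def mvU (M : Matrix (Fin 3) (Fin 3) F9c) (v : VU) : VU :=
  (M 0 0 * v.1 + M 0 1 * v.2.1 + M 0 2 * v.2.2,
   M 1 0 * v.1 + M 1 1 * v.2.1 + M 1 2 * v.2.2,
   M 2 0 * v.1 + M 2 1 * v.2.1 + M 2 2 * v.2.2)

theorem mvU_eq (M : Matrix (Fin 3) (Fin 3) F9c) (v : VU) : mvU M v = toVU (M *ᵥ ofVU v) := by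
  unfold mvU toVU
  simp only [Matrix.mulVec, dotProduct, Fin.sum_univ_three, ofVU]
  refine Prod.ext ?_ (Prod.ext ?_ ?_) <;> simp

theorem mvU_one (v : VU) : mvU 1 v = v := by
  rw [mvU_eq, Matrix.one_mulVec, toVU_ofVU]

theorem mvU_mul (M N : Matrix (Fin 3) (Fin 3) F9c) (v : VU) : mvU (M * N) v = mvU M (mvU N v) := by
  rw [mvU_eq, mvU_eq, mvU_eq, ofVU_toVU, Matrix.mulVec_mulVec]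

theorem ofVU_smul (c : F9c) (v : VU) : ofVU (c • v) = c • ofVU v := by
  funext i
  fin_cases i <;> rfl

theorem toVU_smul (c : F9c) (f : Fin 3 → F9c) : toVU (c • f) = c • toVU f := rfl

theorem mvU_smul (M : Matrix (Fin 3) (Fin 3) F9c) (c : F9c) (v : VU) :
    mvU M (c • v) = c • mvU M v := by
  rw [mvU_eq, mvU_eq, ofVU_smul, Matrix.mulVec_smul, toVU_smul]

/-- the Hermitian norm of a tuple -/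
def hU (v : VU) : F9c := v.1 * v.1 ^ 3 + v.2.1 * v.2.1 ^ 3 + v.2.2 * v.2.2 ^ 3

theorem hU_eq (f : Fin 3 → F9c) : Cfsg.hermForm 3 F9c 3 f f = hU (toVU f) := by
  unfold Cfsg.hermForm hU toVU
  rw [Fin.sum_univ_three]

/-- the inverse of the first non-zero coordinate -/
def ldU (v : VU) : F9c :=
  if v.1 ≠ 0 then v.1⁻¹ else if v.2.1 ≠ 0 then v.2.1⁻¹ else v.2.2⁻¹

/-- the normalized vector -/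
def nrmU (v : VU) : VU := ldU v • v

/-- the 63 points -/
def ptsU : List VU :=
  [(⟨0, 0⟩, ⟨0, 0⟩, ⟨1, 0⟩), (⟨0, 0⟩, ⟨1, 0⟩, ⟨0, 0⟩), (⟨1, 0⟩, ⟨0, 0⟩, ⟨0, 0⟩),
   (⟨1, 0⟩, ⟨2, 0⟩, ⟨0, 0⟩), (⟨1, 0⟩, ⟨1, 0⟩, ⟨0, 0⟩), (⟨1, 0⟩, ⟨0, 1⟩, ⟨0, 0⟩),
   (⟨1, 0⟩, ⟨0, 2⟩, ⟨0, 0⟩), (⟨1, 0⟩, ⟨0, 0⟩, ⟨0, 1⟩), (⟨1, 0⟩, ⟨0, 0⟩, ⟨0, 2⟩),
   (⟨1, 0⟩, ⟨0, 0⟩, ⟨1, 0⟩), (⟨1, 0⟩, ⟨0, 0⟩, ⟨2, 0⟩), (⟨0, 0⟩, ⟨1, 0⟩, ⟨0, 1⟩),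
   (⟨0, 0⟩, ⟨1, 0⟩, ⟨0, 2⟩), (⟨0, 0⟩, ⟨1, 0⟩, ⟨1, 0⟩), (⟨0, 0⟩, ⟨1, 0⟩, ⟨2, 0⟩),
   (⟨1, 0⟩, ⟨1, 0⟩, ⟨2, 2⟩), (⟨1, 0⟩, ⟨2, 0⟩, ⟨2, 2⟩), (⟨1, 0⟩, ⟨1, 0⟩, ⟨1, 1⟩),
   (⟨1, 0⟩, ⟨2, 0⟩, ⟨1, 1⟩), (⟨1, 0⟩, ⟨1, 0⟩, ⟨1, 2⟩), (⟨1, 0⟩, ⟨2, 0⟩, ⟨1, 2⟩),
   (⟨1, 0⟩, ⟨1, 0⟩, ⟨2, 1⟩), (⟨1, 0⟩, ⟨2, 0⟩, ⟨2, 1⟩), (⟨1, 0⟩, ⟨0, 2⟩, ⟨1, 2⟩),
   (⟨1, 0⟩, ⟨0, 1⟩, ⟨1, 2⟩), (⟨1, 0⟩, ⟨0, 2⟩, ⟨2, 1⟩), (⟨1, 0⟩, ⟨0, 1⟩, ⟨2, 1⟩),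
   (⟨1, 0⟩, ⟨0, 1⟩, ⟨2, 2⟩), (⟨1, 0⟩, ⟨0, 2⟩, ⟨2, 2⟩), (⟨1, 0⟩, ⟨0, 1⟩, ⟨1, 1⟩),
   (⟨1, 0⟩, ⟨0, 2⟩, ⟨1, 1⟩), (⟨1, 0⟩, ⟨1, 2⟩, ⟨0, 2⟩), (⟨1, 0⟩, ⟨1, 2⟩, ⟨0, 1⟩),
   (⟨1, 0⟩, ⟨2, 1⟩, ⟨0, 2⟩), (⟨1, 0⟩, ⟨2, 1⟩, ⟨0, 1⟩), (⟨1, 0⟩, ⟨1, 1⟩, ⟨0, 2⟩),
   (⟨1, 0⟩, ⟨1, 1⟩, ⟨0, 1⟩), (⟨1, 0⟩, ⟨2, 2⟩, ⟨0, 2⟩), (⟨1, 0⟩, ⟨2, 2⟩, ⟨0, 1⟩),
   (⟨1, 0⟩, ⟨1, 1⟩, ⟨2, 0⟩), (⟨1, 0⟩, ⟨1, 1⟩, ⟨1, 0⟩), (⟨1, 0⟩, ⟨2, 2⟩, ⟨2, 0⟩),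
   (⟨1, 0⟩, ⟨2, 2⟩, ⟨1, 0⟩), (⟨1, 0⟩, ⟨1, 2⟩, ⟨1, 0⟩), (⟨1, 0⟩, ⟨1, 2⟩, ⟨2, 0⟩),
   (⟨1, 0⟩, ⟨2, 1⟩, ⟨1, 0⟩), (⟨1, 0⟩, ⟨2, 1⟩, ⟨2, 0⟩), (⟨1, 0⟩, ⟨2, 2⟩, ⟨2, 1⟩),
   (⟨1, 0⟩, ⟨2, 2⟩, ⟨1, 2⟩), (⟨1, 0⟩, ⟨1, 1⟩, ⟨2, 1⟩), (⟨1, 0⟩, ⟨1, 1⟩, ⟨1, 2⟩),
   (⟨1, 0⟩, ⟨2, 1⟩, ⟨1, 1⟩), (⟨1, 0⟩, ⟨2, 1⟩, ⟨2, 2⟩), (⟨1, 0⟩, ⟨1, 2⟩, ⟨1, 1⟩),
   (⟨1, 0⟩, ⟨1, 2⟩, ⟨2, 2⟩), (⟨1, 0⟩, ⟨2, 1⟩, ⟨2, 1⟩), (⟨1, 0⟩, ⟨2, 1⟩, ⟨1, 2⟩),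
   (⟨1, 0⟩, ⟨1, 2⟩, ⟨2, 1⟩), (⟨1, 0⟩, ⟨1, 2⟩, ⟨1, 2⟩), (⟨1, 0⟩, ⟨2, 2⟩, ⟨1, 1⟩),
   (⟨1, 0⟩, ⟨2, 2⟩, ⟨2, 2⟩), (⟨1, 0⟩, ⟨1, 1⟩, ⟨1, 1⟩), (⟨1, 0⟩, ⟨1, 1⟩, ⟨2, 2⟩)]

/-- the place of the point of a vector -/
def idxU (v : VU) : ℕ := ptsU.idxOf (nrmU v)

/-- the point of a place -/
def ptU (i : Fin 63) : VU := ptsU.getD i.1 0

theorem F9c_cases : ∀ a : F9c, a = ⟨0, 0⟩ ∨ a = ⟨0, 1⟩ ∨ a = ⟨0, 2⟩ ∨ a = ⟨1, 0⟩ ∨ a = ⟨1, 1⟩ ∨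
    a = ⟨1, 2⟩ ∨ a = ⟨2, 0⟩ ∨ a = ⟨2, 1⟩ ∨ a = ⟨2, 2⟩ := by decide +kernel

theorem factU1_0 : ∀ b c : F9c, hU (⟨0, 0⟩, b, c) ≠ 0 → ldU (⟨0, 0⟩, b, c) ≠ 0 ∧
    idxU (⟨0, 0⟩, b, c) < 63 ∧ ptsU.getD (idxU (⟨0, 0⟩, b, c)) 0 = nrmU (⟨0, 0⟩, b, c) := by
  decide +kernel

theorem factU2_0 : ∀ b c e : F9c, e ≠ 0 →
    nrmU (e • ((⟨0, 0⟩, b, c) : VU)) = nrmU (⟨0, 0⟩, b, c) := by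
  decide +kernel

theorem factU1_1 : ∀ b c : F9c, hU (⟨0, 1⟩, b, c) ≠ 0 → ldU (⟨0, 1⟩, b, c) ≠ 0 ∧
    idxU (⟨0, 1⟩, b, c) < 63 ∧ ptsU.getD (idxU (⟨0, 1⟩, b, c)) 0 = nrmU (⟨0, 1⟩, b, c) := by
  decide +kernel

theorem factU2_1 : ∀ b c e : F9c, e ≠ 0 →
    nrmU (e • ((⟨0, 1⟩, b, c) : VU)) = nrmU (⟨0, 1⟩, b, c) := by
  decide +kernel

theorem factU1_2 : ∀ b c : F9c, hU (⟨0, 2⟩, b, c) ≠ 0 → ldU (⟨0, 2⟩, b, c) ≠ 0 ∧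
    idxU (⟨0, 2⟩, b, c) < 63 ∧ ptsU.getD (idxU (⟨0, 2⟩, b, c)) 0 = nrmU (⟨0, 2⟩, b, c) := by
  decide +kernel

theorem factU2_2 : ∀ b c e : F9c, e ≠ 0 →
    nrmU (e • ((⟨0, 2⟩, b, c) : VU)) = nrmU (⟨0, 2⟩, b, c) := by
  decide +kernel

theorem factU1_3 : ∀ b c : F9c, hU (⟨1, 0⟩, b, c) ≠ 0 → ldU (⟨1, 0⟩, b, c) ≠ 0 ∧
    idxU (⟨1, 0⟩, b, c) < 63 ∧ ptsU.getD (idxU (⟨1, 0⟩, b, c)) 0 = nrmU (⟨1, 0⟩, b, c) := by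
  decide +kernel

theorem factU2_3 : ∀ b c e : F9c, e ≠ 0 →
    nrmU (e • ((⟨1, 0⟩, b, c) : VU)) = nrmU (⟨1, 0⟩, b, c) := by
  decide +kernel

theorem factU1_4 : ∀ b c : F9c, hU (⟨1, 1⟩, b, c) ≠ 0 → ldU (⟨1, 1⟩, b, c) ≠ 0 ∧
    idxU (⟨1, 1⟩, b, c) < 63 ∧ ptsU.getD (idxU (⟨1, 1⟩, b, c)) 0 = nrmU (⟨1, 1⟩, b, c) := by
  decide +kernel

theorem factU2_4 : ∀ b c e : F9c, e ≠ 0 →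
    nrmU (e • ((⟨1, 1⟩, b, c) : VU)) = nrmU (⟨1, 1⟩, b, c) := by
  decide +kernel

theorem factU1_5 : ∀ b c : F9c, hU (⟨1, 2⟩, b, c) ≠ 0 → ldU (⟨1, 2⟩, b, c) ≠ 0 ∧
    idxU (⟨1, 2⟩, b, c) < 63 ∧ ptsU.getD (idxU (⟨1, 2⟩, b, c)) 0 = nrmU (⟨1, 2⟩, b, c) := by
  decide +kernel

theorem factU2_5 : ∀ b c e : F9c, e ≠ 0 →
    nrmU (e • ((⟨1, 2⟩, b, c) : VU)) = nrmU (⟨1, 2⟩, b, c) := by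
  decide +kernel

theorem factU1_6 : ∀ b c : F9c, hU (⟨2, 0⟩, b, c) ≠ 0 → ldU (⟨2, 0⟩, b, c) ≠ 0 ∧
    idxU (⟨2, 0⟩, b, c) < 63 ∧ ptsU.getD (idxU (⟨2, 0⟩, b, c)) 0 = nrmU (⟨2, 0⟩, b, c) := by
  decide +kernel

theorem factU2_6 : ∀ b c e : F9c, e ≠ 0 →
    nrmU (e • ((⟨2, 0⟩, b, c) : VU)) = nrmU (⟨2, 0⟩, b, c) := by
  decide +kernel

theorem factU1_7 : ∀ b c : F9c, hU (⟨2, 1⟩, b, c) ≠ 0 → ldU (⟨2, 1⟩, b, c) ≠ 0 ∧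
    idxU (⟨2, 1⟩, b, c) < 63 ∧ ptsU.getD (idxU (⟨2, 1⟩, b, c)) 0 = nrmU (⟨2, 1⟩, b, c) := by
  decide +kernel

theorem factU2_7 : ∀ b c e : F9c, e ≠ 0 →
    nrmU (e • ((⟨2, 1⟩, b, c) : VU)) = nrmU (⟨2, 1⟩, b, c) := by
  decide +kernel

theorem factU1_8 : ∀ b c : F9c, hU (⟨2, 2⟩, b, c) ≠ 0 → ldU (⟨2, 2⟩, b, c) ≠ 0 ∧
    idxU (⟨2, 2⟩, b, c) < 63 ∧ ptsU.getD (idxU (⟨2, 2⟩, b, c)) 0 = nrmU (⟨2, 2⟩, b, c) := by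
  decide +kernel

theorem factU2_8 : ∀ b c e : F9c, e ≠ 0 →
    nrmU (e • ((⟨2, 2⟩, b, c) : VU)) = nrmU (⟨2, 2⟩, b, c) := by
  decide +kernel


theorem factU1 : ∀ a b c : F9c, hU (a, b, c) ≠ 0 → ldU (a, b, c) ≠ 0 ∧
    idxU (a, b, c) < 63 ∧ ptsU.getD (idxU (a, b, c)) 0 = nrmU (a, b, c) := by
  intro a
  rcases F9c_cases a with rfl | rfl | rfl | rfl | rfl | rfl | rfl | rfl | rfl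
  · exact factU1_0
  · exact factU1_1
  · exact factU1_2
  · exact factU1_3
  · exact factU1_4
  · exact factU1_5
  · exact factU1_6
  · exact factU1_7
  · exact factU1_8

theorem factU2 : ∀ a b c e : F9c, e ≠ 0 →
    nrmU (e • ((a, b, c) : VU)) = nrmU (a, b, c) := by
  intro a
  rcases F9c_cases a with rfl | rfl | rfl | rfl | rfl | rfl | rfl | rfl | rfl
  · exact factU2_0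
  · exact factU2_1
  · exact factU2_2
  · exact factU2_3
  · exact factU2_4
  · exact factU2_5
  · exact factU2_6
  · exact factU2_7
  · exact factU2_8


theorem factU3 : ∀ i : Fin 63, idxU (ptU i) = i.1 ∧ hU (ptU i) ≠ 0 := by decide +kernel

theorem idxU_lt {v : VU} (hv : hU v ≠ 0) : idxU v < 63 := (factU1 v.1 v.2.1 v.2.2 hv).2.1

theorem ldU_ne {v : VU} (hv : hU v ≠ 0) : ldU v ≠ 0 := (factU1 v.1 v.2.1 v.2.2 hv).1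

theorem getD_idxU {v : VU} (hv : hU v ≠ 0) : ptsU.getD (idxU v) 0 = nrmU v :=
  (factU1 v.1 v.2.1 v.2.2 hv).2.2

theorem idxU_smul {e : F9c} (he : e ≠ 0) (v : VU) : idxU (e • v) = idxU v := by
  unfold idxU
  rw [show nrmU (e • v) = nrmU v from factU2 v.1 v.2.1 v.2.2 e he]

/-- the action of a matrix on the places -/
def actU (M : Matrix (Fin 3) (Fin 3) F9c) (i : Fin 63) : Fin 63 :=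
  Fin.ofNat 63 (idxU (mvU M (ptU i)))

theorem actU_one (i : Fin 63) : actU 1 i = i := by
  unfold actU
  rw [mvU_one, (factU3 i).1]
  exact Fin.ext (Nat.mod_eq_of_lt i.2)

theorem ptU_actU (M : Matrix (Fin 3) (Fin 3) F9c) (i : Fin 63) (h : hU (mvU M (ptU i)) ≠ 0) :
    ptU (actU M i) = ldU (mvU M (ptU i)) • mvU M (ptU i) := by
  have h1 : (actU M i).1 = idxU (mvU M (ptU i)) := Nat.mod_eq_of_lt (idxU_lt h)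
  show ptsU.getD (actU M i).1 0 = _
  rw [h1, getD_idxU h]
  rfl

theorem actU_mul (M N : Matrix (Fin 3) (Fin 3) F9c) (hN : ∀ v, hU v ≠ 0 → hU (mvU N v) ≠ 0)
    (i : Fin 63) : actU (M * N) i = actU M (actU N i) := by
  have h0 : hU (mvU N (ptU i)) ≠ 0 := hN _ (factU3 i).2
  have h1 := ptU_actU N i h0
  unfold actU at h1 ⊢
  rw [h1, mvU_mul, mvU_smul, idxU_smul (ldU_ne h0)]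

/-- the special unitary group -/
abbrev SUc : Type := ↥(Cfsg.SU 3 F9c 3)

/-- the matrix of an element -/
def matU (g : SUc) : Matrix (Fin 3) (Fin 3) F9c :=
  ((g : Matrix.SpecialLinearGroup (Fin 3) F9c) : Matrix (Fin 3) (Fin 3) F9c)

theorem matU_one : matU 1 = 1 := rfl

theorem matU_mul (g h : SUc) : matU (g * h) = matU g * matU h := rfl

theorem hU_mvU (g : SUc) (v : VU) : hU (mvU (matU g) v) = hU v := by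
  have h := g.2 (ofVU v) (ofVU v)
  rw [mvU_eq, ← hU_eq]
  have h2 : hU v = Cfsg.hermForm 3 F9c 3 (ofVU v) (ofVU v) := by
    rw [hU_eq, toVU_ofVU]
  rw [h2]
  exact h

instance : MulAction SUc (Fin 63) where
  smul g i := actU (matU g) i
  one_smul i := actU_one i
  mul_smul g h i := actU_mul (matU g) (matU h) (fun v hv => by rw [hU_mvU]; exact hv) i

/-- the homomorphism -/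
def rho2 : SUc →* Equiv.Perm (Fin 63) := MulAction.toPermHom SUc (Fin 63)

theorem rho2_apply (g : SUc) (i : Fin 63) : rho2 g i = actU (matU g) i := rfl

end Cfsg.Agent.Lib.Helper5.G22
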