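import Mathlib
import Cfsg.Prelude
import Cfsg.Agent.Lib.Helper5.G22b
import Cfsg.Agent.Lib.Helper5.G22c

set_option autoImplicit false
set_option maxRecDepth 100000
set_option Elab.async false

/-! The unitary transvections act on the 63 points as products of the generators of the Chevalley
group. -/

namespace Cfsg.Agent.Lib.Helper5.G22

open Matrix
open Cfsg.Agent.Lib.Helper1.U43 (F9c)

/-- the 28 isotropic points -/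
def isoL : List VU :=
  [(⟨0, 0⟩, ⟨1, 0⟩, ⟨1, 1⟩), (⟨0, 0⟩, ⟨1, 0⟩, ⟨1, 2⟩), (⟨0, 0⟩, ⟨1, 0⟩, ⟨2, 1⟩), (⟨0, 0⟩, ⟨1, 0⟩, ⟨2, 2⟩),
   (⟨1, 0⟩, ⟨0, 0⟩, ⟨1, 1⟩), (⟨1, 0⟩, ⟨0, 0⟩, ⟨1, 2⟩), (⟨1, 0⟩, ⟨0, 0⟩, ⟨2, 1⟩), (⟨1, 0⟩, ⟨0, 0⟩, ⟨2, 2⟩),
   (⟨1, 0⟩, ⟨0, 1⟩, ⟨0, 1⟩), (⟨1, 0⟩, ⟨0, 1⟩, ⟨0, 2⟩), (⟨1, 0⟩, ⟨0, 1⟩, ⟨1, 0⟩), (⟨1, 0⟩, ⟨0, 1⟩, ⟨2, 0⟩),
   (⟨1, 0⟩, ⟨0, 2⟩, ⟨0, 1⟩), (⟨1, 0⟩, ⟨0, 2⟩, ⟨0, 2⟩), (⟨1, 0⟩, ⟨0, 2⟩, ⟨1, 0⟩), (⟨1, 0⟩, ⟨0, 2⟩, ⟨2, 0⟩),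
   (⟨1, 0⟩, ⟨1, 0⟩, ⟨0, 1⟩), (⟨1, 0⟩, ⟨1, 0⟩, ⟨0, 2⟩), (⟨1, 0⟩, ⟨1, 0⟩, ⟨1, 0⟩), (⟨1, 0⟩, ⟨1, 0⟩, ⟨2, 0⟩),
   (⟨1, 0⟩, ⟨1, 1⟩, ⟨0, 0⟩), (⟨1, 0⟩, ⟨1, 2⟩, ⟨0, 0⟩), (⟨1, 0⟩, ⟨2, 0⟩, ⟨0, 1⟩), (⟨1, 0⟩, ⟨2, 0⟩, ⟨0, 2⟩),
   (⟨1, 0⟩, ⟨2, 0⟩, ⟨1, 0⟩), (⟨1, 0⟩, ⟨2, 0⟩, ⟨2, 0⟩), (⟨1, 0⟩, ⟨2, 1⟩, ⟨0, 0⟩), (⟨1, 0⟩, ⟨2, 2⟩, ⟨0, 0⟩)]

/-- the words of the 56 unitary transvections -/
def wordTab : List (List ℕ) :=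
  [[5, 3, 0, 8, 5, 0],
   [5, 0, 8, 5, 3, 0],
   [5, 0, 8, 5, 4, 0],
   [4, 5, 0, 8, 5, 0],
   [5, 8, 5, 4],
   [4, 5, 8, 5],
   [5, 3, 8, 5],
   [5, 8, 5, 3],
   [3, 0, 8, 0],
   [0, 8, 3, 0],
   [2, 8, 3, 2],
   [2, 3, 8, 2],
   [6, 0, 8, 3],
   [3, 8, 0, 6],
   [3, 8],
   [8, 3],
   [0, 9, 0, 8],
   [8, 0, 9, 0],
   [9, 0, 8, 0],
   [0, 8, 0, 9],
   [4, 0, 10, 6, 7, 0],
   [7, 0, 6, 10, 4, 0],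
   [4, 10, 6, 7],
   [7, 6, 10, 4],
   [2, 8, 0, 9, 2, 0],
   [8, 1, 0, 9, 1, 0],
   [9, 1, 11, 2],
   [4, 2, 9, 4],
   [7, 3, 8, 7],
   [8, 5, 11, 3],
   [9, 5, 0, 8, 5, 0],
   [3, 9, 0, 8, 3, 0],
   [2, 0, 9, 0],
   [0, 9, 2, 0],
   [2, 9],
   [9, 2],
   [9, 1, 7, 1],
   [1, 7, 1, 9],
   [9, 0, 10, 2],
   [3, 2, 9, 3],
   [2, 7, 4, 2],
   [2, 4, 7, 2],
   [4, 7],
   [7, 4],
   [2, 1, 0, 9, 1, 0],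
   [1, 0, 9, 2, 1, 0],
   [2, 1, 9, 1],
   [1, 9, 2, 1],
   [1, 9, 1, 7],
   [7, 1, 9, 1],
   [1, 0, 9, 1, 7, 0],
   [7, 1, 0, 9, 1, 0],
   [4, 1, 7, 1],
   [1, 7, 4, 1],
   [5, 1, 7, 4],
   [4, 7, 1, 5]]

/-- the square root of `-1` -/
def iU : F9c := ⟨0, 1⟩

/-- the word of the place of an isotropic point and a scalar -/
def wordAt (k : ℕ) (s : F9c) : List ℕ := wordTab.getD (2 * k + (if s = iU then 0 else 1)) []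

/-- the word of an isotropic vector and a scalar -/
def wordOf (v : VU) (c : F9c) : List ℕ := wordAt (isoL.idxOf (nrmU v)) (c * ((ldU v)⁻¹) ^ 4)

/-- the value of a word at a place -/
def evalWord (w : List ℕ) (i : ℕ) : ℕ := w.foldr (fun s acc => (tabG.getD s []).getD acc 0) i

/-- the unitary transvection of a vector and a scalar -/
def utv (v : VU) (c : F9c) : Matrix (Fin 3) (Fin 3) F9c := Cfsg.unitaryTransvection 3 3 (ofVU v) c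

theorem words_lt : ∀ w ∈ wordTab, ∀ s ∈ w, s < 12 := by decide +kernel

theorem utv_word_0 : ∀ s ∈ [iU, -iU], ∀ j : Fin 63,
    (actU (utv (⟨0, 0⟩, ⟨1, 0⟩, ⟨1, 1⟩) s) j).1 = evalWord (wordAt 0 s) j.1 := by decide +kernel

theorem utv_word_1 : ∀ s ∈ [iU, -iU], ∀ j : Fin 63,
    (actU (utv (⟨0, 0⟩, ⟨1, 0⟩, ⟨1, 2⟩) s) j).1 = evalWord (wordAt 1 s) j.1 := by decide +kernel

theorem utv_word_2 : ∀ s ∈ [iU, -iU], ∀ j : Fin 63,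
    (actU (utv (⟨0, 0⟩, ⟨1, 0⟩, ⟨2, 1⟩) s) j).1 = evalWord (wordAt 2 s) j.1 := by decide +kernel

theorem utv_word_3 : ∀ s ∈ [iU, -iU], ∀ j : Fin 63,
    (actU (utv (⟨0, 0⟩, ⟨1, 0⟩, ⟨2, 2⟩) s) j).1 = evalWord (wordAt 3 s) j.1 := by decide +kernel

theorem utv_word_4 : ∀ s ∈ [iU, -iU], ∀ j : Fin 63,
    (actU (utv (⟨1, 0⟩, ⟨0, 0⟩, ⟨1, 1⟩) s) j).1 = evalWord (wordAt 4 s) j.1 := by decide +kernel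

theorem utv_word_5 : ∀ s ∈ [iU, -iU], ∀ j : Fin 63,
    (actU (utv (⟨1, 0⟩, ⟨0, 0⟩, ⟨1, 2⟩) s) j).1 = evalWord (wordAt 5 s) j.1 := by decide +kernel

theorem utv_word_6 : ∀ s ∈ [iU, -iU], ∀ j : Fin 63,
    (actU (utv (⟨1, 0⟩, ⟨0, 0⟩, ⟨2, 1⟩) s) j).1 = evalWord (wordAt 6 s) j.1 := by decide +kernel

theorem utv_word_7 : ∀ s ∈ [iU, -iU], ∀ j : Fin 63,
    (actU (utv (⟨1, 0⟩, ⟨0, 0⟩, ⟨2, 2⟩) s) j).1 = evalWord (wordAt 7 s) j.1 := by decide +kernel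

theorem utv_word_8 : ∀ s ∈ [iU, -iU], ∀ j : Fin 63,
    (actU (utv (⟨1, 0⟩, ⟨0, 1⟩, ⟨0, 1⟩) s) j).1 = evalWord (wordAt 8 s) j.1 := by decide +kernel

theorem utv_word_9 : ∀ s ∈ [iU, -iU], ∀ j : Fin 63,
    (actU (utv (⟨1, 0⟩, ⟨0, 1⟩, ⟨0, 2⟩) s) j).1 = evalWord (wordAt 9 s) j.1 := by decide +kernel

theorem utv_word_10 : ∀ s ∈ [iU, -iU], ∀ j : Fin 63,
    (actU (utv (⟨1, 0⟩, ⟨0, 1⟩, ⟨1, 0⟩) s) j).1 = evalWord (wordAt 10 s) j.1 := by decide +kernel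

theorem utv_word_11 : ∀ s ∈ [iU, -iU], ∀ j : Fin 63,
    (actU (utv (⟨1, 0⟩, ⟨0, 1⟩, ⟨2, 0⟩) s) j).1 = evalWord (wordAt 11 s) j.1 := by decide +kernel

theorem utv_word_12 : ∀ s ∈ [iU, -iU], ∀ j : Fin 63,
    (actU (utv (⟨1, 0⟩, ⟨0, 2⟩, ⟨0, 1⟩) s) j).1 = evalWord (wordAt 12 s) j.1 := by decide +kernel

theorem utv_word_13 : ∀ s ∈ [iU, -iU], ∀ j : Fin 63,
    (actU (utv (⟨1, 0⟩, ⟨0, 2⟩, ⟨0, 2⟩) s) j).1 = evalWord (wordAt 13 s) j.1 := by decide +kernel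

theorem utv_word_14 : ∀ s ∈ [iU, -iU], ∀ j : Fin 63,
    (actU (utv (⟨1, 0⟩, ⟨0, 2⟩, ⟨1, 0⟩) s) j).1 = evalWord (wordAt 14 s) j.1 := by decide +kernel

theorem utv_word_15 : ∀ s ∈ [iU, -iU], ∀ j : Fin 63,
    (actU (utv (⟨1, 0⟩, ⟨0, 2⟩, ⟨2, 0⟩) s) j).1 = evalWord (wordAt 15 s) j.1 := by decide +kernel

theorem utv_word_16 : ∀ s ∈ [iU, -iU], ∀ j : Fin 63,
    (actU (utv (⟨1, 0⟩, ⟨1, 0⟩, ⟨0, 1⟩) s) j).1 = evalWord (wordAt 16 s) j.1 := by decide +kernel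

theorem utv_word_17 : ∀ s ∈ [iU, -iU], ∀ j : Fin 63,
    (actU (utv (⟨1, 0⟩, ⟨1, 0⟩, ⟨0, 2⟩) s) j).1 = evalWord (wordAt 17 s) j.1 := by decide +kernel

theorem utv_word_18 : ∀ s ∈ [iU, -iU], ∀ j : Fin 63,
    (actU (utv (⟨1, 0⟩, ⟨1, 0⟩, ⟨1, 0⟩) s) j).1 = evalWord (wordAt 18 s) j.1 := by decide +kernel

theorem utv_word_19 : ∀ s ∈ [iU, -iU], ∀ j : Fin 63,
    (actU (utv (⟨1, 0⟩, ⟨1, 0⟩, ⟨2, 0⟩) s) j).1 = evalWord (wordAt 19 s) j.1 := by decide +kernel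

theorem utv_word_20 : ∀ s ∈ [iU, -iU], ∀ j : Fin 63,
    (actU (utv (⟨1, 0⟩, ⟨1, 1⟩, ⟨0, 0⟩) s) j).1 = evalWord (wordAt 20 s) j.1 := by decide +kernel

theorem utv_word_21 : ∀ s ∈ [iU, -iU], ∀ j : Fin 63,
    (actU (utv (⟨1, 0⟩, ⟨1, 2⟩, ⟨0, 0⟩) s) j).1 = evalWord (wordAt 21 s) j.1 := by decide +kernel

theorem utv_word_22 : ∀ s ∈ [iU, -iU], ∀ j : Fin 63,
    (actU (utv (⟨1, 0⟩, ⟨2, 0⟩, ⟨0, 1⟩) s) j).1 = evalWord (wordAt 22 s) j.1 := by decide +kernel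

theorem utv_word_23 : ∀ s ∈ [iU, -iU], ∀ j : Fin 63,
    (actU (utv (⟨1, 0⟩, ⟨2, 0⟩, ⟨0, 2⟩) s) j).1 = evalWord (wordAt 23 s) j.1 := by decide +kernel

theorem utv_word_24 : ∀ s ∈ [iU, -iU], ∀ j : Fin 63,
    (actU (utv (⟨1, 0⟩, ⟨2, 0⟩, ⟨1, 0⟩) s) j).1 = evalWord (wordAt 24 s) j.1 := by decide +kernel

theorem utv_word_25 : ∀ s ∈ [iU, -iU], ∀ j : Fin 63,
    (actU (utv (⟨1, 0⟩, ⟨2, 0⟩, ⟨2, 0⟩) s) j).1 = evalWord (wordAt 25 s) j.1 := by decide +kernel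

theorem utv_word_26 : ∀ s ∈ [iU, -iU], ∀ j : Fin 63,
    (actU (utv (⟨1, 0⟩, ⟨2, 1⟩, ⟨0, 0⟩) s) j).1 = evalWord (wordAt 26 s) j.1 := by decide +kernel

theorem utv_word_27 : ∀ s ∈ [iU, -iU], ∀ j : Fin 63,
    (actU (utv (⟨1, 0⟩, ⟨2, 2⟩, ⟨0, 0⟩) s) j).1 = evalWord (wordAt 27 s) j.1 := by decide +kernel

theorem utv_word_pts : ∀ k, k < 28 → ∀ s ∈ [iU, -iU], ∀ j : Fin 63,
    (actU (utv (isoL.getD k 0) s) j).1 = evalWord (wordAt k s) j.1 := by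
  intro k hk
  interval_cases k
  · exact utv_word_0
  · exact utv_word_1
  · exact utv_word_2
  · exact utv_word_3
  · exact utv_word_4
  · exact utv_word_5
  · exact utv_word_6
  · exact utv_word_7
  · exact utv_word_8
  · exact utv_word_9
  · exact utv_word_10
  · exact utv_word_11
  · exact utv_word_12
  · exact utv_word_13
  · exact utv_word_14
  · exact utv_word_15
  · exact utv_word_16
  · exact utv_word_17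
  · exact utv_word_18
  · exact utv_word_19
  · exact utv_word_20
  · exact utv_word_21
  · exact utv_word_22
  · exact utv_word_23
  · exact utv_word_24
  · exact utv_word_25
  · exact utv_word_26
  · exact utv_word_27

theorem iso_facts : ∀ a b c : F9c, hU (a, b, c) = 0 → ((a, b, c) : VU) ≠ 0 →
    ldU (a, b, c) ≠ 0 ∧ isoL.idxOf (nrmU (a, b, c)) < 28 ∧
      isoL.getD (isoL.idxOf (nrmU (a, b, c))) 0 = nrmU (a, b, c) := by decide +kernel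

theorem scal_facts : ∀ x : F9c, x ≠ 0 → ∀ s ∈ [iU, -iU], s * x ^ 4 ∈ [iU, -iU] := by
  decide +kernel

theorem wordOf_zero : ∀ c : F9c, wordOf 0 c = [] := by decide +kernel

theorem ut_smul (w : Fin 3 → F9c) (a c : F9c) :
    Cfsg.unitaryTransvection 3 3 (a • w) c = Cfsg.unitaryTransvection 3 3 w (c * a ^ 4) := by
  unfold Cfsg.unitaryTransvection
  ext i j
  simp only [Matrix.add_apply, Matrix.smul_apply, Matrix.vecMulVec_apply, Pi.smul_apply,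
    smul_eq_mul]
  ring

theorem utv_zero (c : F9c) : utv 0 c = 1 := by
  unfold utv Cfsg.unitaryTransvection
  ext i j
  have h : ofVU 0 = 0 := by
    funext k
    fin_cases k <;> rfl
  rw [h]
  simp

theorem utv_word : ∀ a b c : F9c, hU (a, b, c) = 0 → ∀ s ∈ [iU, -iU], ∀ j : Fin 63,
    (actU (utv (a, b, c) s) j).1 = evalWord (wordOf (a, b, c) s) j.1 := by
  intro a b c h s hs j
  by_cases h0 : ((a, b, c) : VU) = 0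
  · rw [h0, utv_zero, wordOf_zero, actU_one]
    rfl
  · obtain ⟨h1, h2, h3⟩ := iso_facts a b c h h0
    have hx : (ldU (a, b, c))⁻¹ ≠ 0 := inv_ne_zero h1
    have hv : ((a, b, c) : VU) = (ldU (a, b, c))⁻¹ • nrmU (a, b, c) := by
      unfold nrmU
      rw [smul_smul, inv_mul_cancel₀ h1, one_smul]
    have hu : utv (a, b, c) s = utv (isoL.getD (isoL.idxOf (nrmU (a, b, c))) 0)
        (s * ((ldU (a, b, c))⁻¹) ^ 4) := by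
      rw [h3]
      conv_lhs => rw [hv]
      unfold utv
      rw [ofVU_smul, ut_smul]
    rw [hu]
    exact utv_word_pts _ h2 _ (scal_facts _ hx s hs) j

end Cfsg.Agent.Lib.Helper5.G22
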