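import Mathlib

set_option autoImplicit false

/-! A perfect group embedded with index 2 in the image of another group is isomorphic to the
commutator subgroup of that group. -/

namespace Cfsg.Agent.Lib.Helper5.IsoIdx2

open Subgroup

variable {G₁ G₂ P : Type*} [Group G₁] [Group G₂] [Group P]

theorem commutator_le_of_index_two (H : Subgroup G₁) (h : H.index = 2) : commutator G₁ ≤ H := by
  rw [_root_.commutator_def, Subgroup.commutator_le]
  intro a _ b _
  rw [commutatorElement_def, Subgroup.mul_mem_iff_of_index_two h,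
    Subgroup.mul_mem_iff_of_index_two h, Subgroup.mul_mem_iff_of_index_two h,
    Subgroup.inv_mem_iff, Subgroup.inv_mem_iff]
  tauto

variable [Finite G₁] [Finite G₂]

theorem commutator_equiv (ρ₁ : G₁ →* P) (ρ₂ : G₂ →* P) (h1 : Function.Injective ρ₁)
    (h2 : Function.Injective ρ₂) (hle : ρ₂.range ≤ ρ₁.range)
    (hcard : Nat.card G₁ = 2 * Nat.card G₂) (hperf : commutator G₂ = ⊤) :
    Nonempty (↥(commutator G₁) ≃* G₂) := by
  let H : Subgroup G₁ := ρ₂.range.comap ρ₁
  have hmap : H.map ρ₁ = ρ₂.range := by
    rw [Subgroup.map_comap_eq, inf_eq_right.2 hle]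
  have hcH : Nat.card H = Nat.card G₂ := by
    rw [Nat.card_congr (H.equivMapOfInjective ρ₁ h1).toEquiv, hmap,
      ← Nat.card_congr (MonoidHom.ofInjective h2).toEquiv]
  have hidx : H.index = 2 := by
    have h3 := Subgroup.card_mul_index H
    rw [hcH, hcard] at h3
    have hpos : 0 < Nat.card G₂ := Nat.card_pos
    have : Nat.card G₂ * H.index = Nat.card G₂ * 2 := by rw [h3]; ring
    exact Nat.eq_of_mul_eq_mul_left hpos this
  have hc1 : (commutator G₁).map ρ₁ ≤ ρ₂.range := by
    rw [← hmap]
    exact Subgroup.map_mono (commutator_le_of_index_two H hidx)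
  have hc2 : ρ₂.range ≤ (commutator G₁).map ρ₁ := by
    have e1 : ρ₂.range = (commutator G₂).map ρ₂ := by
      rw [hperf, MonoidHom.range_eq_map]
    rw [e1, _root_.commutator_def, _root_.commutator_def, Subgroup.map_commutator, Subgroup.map_commutator,
      ← MonoidHom.range_eq_map, ← MonoidHom.range_eq_map]
    exact Subgroup.commutator_mono hle hle
  have hc : (commutator G₁).map ρ₁ = ρ₂.range := le_antisymm hc1 hc2
  exact ⟨((commutator G₁).equivMapOfInjective ρ₁ h1).trans
    ((MulEquiv.subgroupCongr hc).trans (MonoidHom.ofInjective h2).symm)⟩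

end Cfsg.Agent.Lib.Helper5.IsoIdx2
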