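import Mathlib

set_option autoImplicit false

/-! Two groups with homomorphisms to a common group, the range of the second inside the range of
the first: when the central quotients have the same order and that of the second is simple, the
central quotients are isomorphic. -/

namespace Cfsg.Agent.Lib.Helper5.IsoRange

open Subgroup

variable {G₁ G₂ P : Type*} [Group G₁] [Group G₂] [Group P]

/-- the kernel of a homomorphism with non-abelian range lies in the centre, when the central
quotient is simple -/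
theorem ker_le_center (ρ : G₂ →* P) (hs : IsSimpleGroup (G₂ ⧸ center G₂))
    (hnc : ∃ a b : G₂, ρ a * ρ b ≠ ρ b * ρ a) : ρ.ker ≤ center G₂ := by
  have hN : (ρ.ker.map (QuotientGroup.mk' (center G₂))).Normal :=
    Subgroup.Normal.map inferInstance _ (QuotientGroup.mk'_surjective _)
  rcases hN.eq_bot_or_eq_top with h | h
  · intro x hx
    have h1 : QuotientGroup.mk' (center G₂) x ∈ ρ.ker.map (QuotientGroup.mk' (center G₂)) :=
      Subgroup.mem_map_of_mem _ hx
    rw [h, Subgroup.mem_bot] at h1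
    exact (QuotientGroup.eq_one_iff x).1 h1
  · exfalso
    obtain ⟨a, b, hab⟩ := hnc
    have key : ∀ g : G₂, ∃ z ∈ center G₂, ρ g = ρ z := by
      intro g
      have h1 : QuotientGroup.mk' (center G₂) g ∈ ρ.ker.map (QuotientGroup.mk' (center G₂)) := by
        rw [h]; exact Subgroup.mem_top _
      obtain ⟨n, hn, hng⟩ := h1
      have h2 : n⁻¹ * g ∈ center G₂ := by
        rw [← QuotientGroup.eq]
        exact hng
      refine ⟨n⁻¹ * g, h2, ?_⟩
      rw [map_mul, map_inv, MonoidHom.mem_ker.1 hn, inv_one, one_mul]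
    obtain ⟨z, hz, hza⟩ := key a
    obtain ⟨z', _, hzb⟩ := key b
    apply hab
    rw [hza, hzb, ← map_mul, ← map_mul, Subgroup.mem_center_iff.1 hz z']

variable [Finite G₁] [Finite G₂]

theorem iso_of_range_le (ρ₁ : G₁ →* P) (ρ₂ : G₂ →* P) (hle : ρ₂.range ≤ ρ₁.range)
    (hs : IsSimpleGroup (G₂ ⧸ center G₂)) (hnc : ∃ a b : G₂, ρ₂ a * ρ₂ b ≠ ρ₂ b * ρ₂ a)
    (hZ1 : center G₁ ≤ ρ₁.ker)
    (hcard : Nat.card (G₁ ⧸ center G₁) = Nat.card (G₂ ⧸ center G₂)) :
    Nonempty ((G₂ ⧸ center G₂) ≃* (G₁ ⧸ center G₁)) := by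
  have hk2 : ρ₂.ker ≤ center G₂ := ker_le_center ρ₂ hs hnc
  haveI : Finite ρ₁.range := Finite.of_surjective ρ₁.rangeRestrict ρ₁.rangeRestrict_surjective
  haveI : Finite ρ₂.range := Finite.of_surjective ρ₂.rangeRestrict ρ₂.rangeRestrict_surjective
  -- the orders
  have e1 := Subgroup.card_eq_card_quotient_mul_card_subgroup ρ₁.ker
  have e2 := Subgroup.card_eq_card_quotient_mul_card_subgroup ρ₂.ker
  have e3 := Subgroup.card_eq_card_quotient_mul_card_subgroup (center G₁)
  have e4 := Subgroup.card_eq_card_quotient_mul_card_subgroup (center G₂)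
  rw [Nat.card_congr (QuotientGroup.quotientKerEquivRange ρ₁).toEquiv] at e1
  rw [Nat.card_congr (QuotientGroup.quotientKerEquivRange ρ₂).toEquiv] at e2
  have d1 : Nat.card (center G₁) ∣ Nat.card ρ₁.ker := Subgroup.card_dvd_of_le hZ1
  have d2 : Nat.card ρ₂.ker ∣ Nat.card (center G₂) := Subgroup.card_dvd_of_le hk2
  have d3 : Nat.card ρ₂.range ≤ Nat.card ρ₁.range :=
    Nat.le_of_dvd Nat.card_pos (Subgroup.card_dvd_of_le hle)
  have p1 : 0 < Nat.card (center G₁) := Nat.card_pos
  have p2 : 0 < Nat.card ρ₂.ker := Nat.card_pos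
  have p3 : 0 < Nat.card (G₂ ⧸ center G₂) := Nat.card_pos
  obtain ⟨s, hs1⟩ := d1
  obtain ⟨t, ht1⟩ := d2
  -- r₁ * (z₁ * s) = m * z₁, r₂ * k₂ = m * (k₂ * t)
  rw [hs1, e3, hcard] at e1
  rw [ht1, e2] at e4
  have f1 : Nat.card ρ₁.range * s = Nat.card (G₂ ⧸ center G₂) := by
    have : Nat.card (center G₁) * (Nat.card ρ₁.range * s) =
        Nat.card (center G₁) * Nat.card (G₂ ⧸ center G₂) := by
      linarith [e1]
    exact Nat.eq_of_mul_eq_mul_left p1 this
  have f2 : Nat.card ρ₂.range = Nat.card (G₂ ⧸ center G₂) * t := by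
    have : Nat.card ρ₂.ker * Nat.card ρ₂.range =
        Nat.card ρ₂.ker * (Nat.card (G₂ ⧸ center G₂) * t) := by
      linarith [e4]
    exact Nat.eq_of_mul_eq_mul_left p2 this
  have hs0 : 0 < s := by
    rcases Nat.eq_zero_or_pos s with h | h
    · rw [h, mul_zero] at f1; omega
    · exact h
  have ht0 : 0 < t := by
    rcases Nat.eq_zero_or_pos t with h | h
    · rw [h, mul_zero] at ht1
      have := Nat.card_pos (α := center G₂)
      omega
    · exact h
  have g1 : Nat.card ρ₁.range ≤ Nat.card (G₂ ⧸ center G₂) := by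
    rw [← f1]; exact Nat.le_mul_of_pos_right _ hs0
  have g2 : Nat.card (G₂ ⧸ center G₂) ≤ Nat.card ρ₂.range := by
    rw [f2]; exact Nat.le_mul_of_pos_right _ ht0
  have r12 : Nat.card ρ₂.range = Nat.card ρ₁.range := by omega
  have r1m : Nat.card ρ₁.range = Nat.card (G₂ ⧸ center G₂) := by omega
  have hs1' : s = 1 := by
    rw [r1m] at f1
    have : Nat.card (G₂ ⧸ center G₂) * s = Nat.card (G₂ ⧸ center G₂) * 1 := by rw [f1, mul_one]
    exact Nat.eq_of_mul_eq_mul_left p3 this
  have ht1' : t = 1 := by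
    rw [r12, r1m] at f2
    have : Nat.card (G₂ ⧸ center G₂) * t = Nat.card (G₂ ⧸ center G₂) * 1 := by rw [← f2, mul_one]
    exact Nat.eq_of_mul_eq_mul_left p3 this
  have k1 : center G₁ = ρ₁.ker := by
    apply Subgroup.eq_of_le_of_card_ge hZ1
    rw [hs1, hs1', mul_one]
  have k2 : ρ₂.ker = center G₂ := by
    apply Subgroup.eq_of_le_of_card_ge hk2
    rw [ht1, ht1', mul_one]
  have hr : ρ₂.range = ρ₁.range := by
    apply Subgroup.eq_of_le_of_card_ge hle
    rw [r12]
  exact ⟨(QuotientGroup.quotientMulEquivOfEq k2.symm).trans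
    ((QuotientGroup.quotientKerEquivRange ρ₂).trans
      ((MulEquiv.subgroupCongr hr).trans
        ((QuotientGroup.quotientKerEquivRange ρ₁).symm.trans
          (QuotientGroup.quotientMulEquivOfEq k1.symm))))⟩

end Cfsg.Agent.Lib.Helper5.IsoRange
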