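import Mathlib
import Cfsg.Prelude
import Cfsg.Agent.Lib.Helper5.G22d
import Cfsg.Agent.Lib.Helper5.IsoRange
import Cfsg.Agent.Lib.Helper5.IsoIdx2
import Cfsg.Agent.Lib.Helper5.ChevCongr
import Cfsg.Agent.Lib.Helper1.SUCongr
import Cfsg.Agent.Lib.Helper2.UT18
import Cfsg.Agent.S0779
import Cfsg.Agent.S0780
import Cfsg.Agent.S0283
import Cfsg.Agent.S0280
import Cfsg.Agent.S0279

set_option autoImplicit false
set_option maxRecDepth 100000

/-! The commutator subgroup of the Chevalley group of type G2 over the field with 2 elements is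
isomorphic to the projective special unitary group of degree 3 over the field with 9 elements. -/

namespace Cfsg.Agent.Lib.Helper5.G22

open Matrix Cfsg Cfsg.Lie
open Cfsg.Agent.Lib.Helper1.U43 (F9c)

/-- the generators as elements of the group -/
def gGG (r : ℕ) : GG :=
  if hr : r < 12 then
    ⟨⟨chevG2.xMat (ZMod 2) ⟨r, hr⟩ 1, chevG2.xMat (ZMod 2) ⟨r, hr⟩ 1, xG_sq ⟨r, hr⟩ 1,
      xG_sq ⟨r, hr⟩ 1⟩, Subgroup.subset_closure ⟨⟨r, hr⟩, 1, rfl⟩⟩
  else 1

theorem matG_gGG {r : ℕ} (hr : r < 12) : matG (gGG r).1 = xG ⟨r, hr⟩ 1 := by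
  unfold gGG
  rw [dif_pos hr]
  rfl

theorem evalWord_spec (w : List ℕ) (hw : ∀ s ∈ w, s < 12) :
    ∃ g : GG, ∀ i : Fin 63, (rho1 g i).1 = evalWord w i.1 := by
  induction w with
  | nil => exact ⟨1, fun i => by rw [map_one]; rfl⟩
  | cons s w ih =>
    obtain ⟨g, hg⟩ := ih (fun t ht => hw t (List.mem_cons_of_mem _ ht))
    have hs : s < 12 := hw s List.mem_cons_self
    refine ⟨gGG s * g, fun i => ?_⟩
    rw [map_mul, Equiv.Perm.mul_apply, rho1_apply, matG_gGG hs, xG_tab ⟨s, hs⟩, hg]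
    rfl

theorem wordAt_lt (k : ℕ) (c : F9c) : ∀ s ∈ wordAt k c, s < 12 := by
  unfold wordAt
  generalize (2 * k + (if c = iU then 0 else 1)) = m
  by_cases h : m < wordTab.length
  · rw [List.getD_eq_getElem _ _ h]
    exact words_lt _ (List.getElem_mem h)
  · rw [List.getD_eq_default _ _ (not_lt.1 h)]
    intro s hs
    exact absurd hs List.not_mem_nil

theorem wordOf_lt (v : VU) (c : F9c) : ∀ s ∈ wordOf v c, s < 12 := wordAt_lt _ _

theorem F9c_card : Fintype.card F9c = 3 ^ 2 := rfl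

theorem eq_one_of_matU {A : SUc} (h : matU A = 1) : A = 1 := by
  apply Subtype.ext
  apply Subtype.ext
  exact h

theorem ut_zero_vec (c : F9c) : Cfsg.unitaryTransvection 3 3 (0 : Fin 3 → F9c) c = 1 := by
  unfold Cfsg.unitaryTransvection
  ext i j
  simp

theorem ut_zero_scalar (v : Fin 3 → F9c) : Cfsg.unitaryTransvection 3 3 v 0 = 1 := by
  unfold Cfsg.unitaryTransvection
  rw [zero_smul, add_zero]

theorem sq_eq_neg_one : ∀ c : F9c, c ^ 2 = -1 → c = iU ∨ c = -iU := by decide +kernel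

/-- the image of a unitary transvection lies in the image of the Chevalley group -/
theorem gen_mem (A : SUc) (v : Fin 3 → F9c) (c : F9c) (hv : Cfsg.hermForm 3 F9c 3 v v = 0)
    (hA : matU A = Cfsg.unitaryTransvection 3 3 v c) : rho2 A ∈ rho1.range := by
  by_cases hv0 : v = 0
  · rw [hv0, ut_zero_vec] at hA
    rw [eq_one_of_matU hA, map_one]
    exact Subgroup.one_mem _
  · have hpres : ∀ x y : Fin 3 → F9c,
        Cfsg.hermForm 3 F9c 3 (Cfsg.unitaryTransvection 3 3 v c *ᵥ x)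
          (Cfsg.unitaryTransvection 3 3 v c *ᵥ y) = Cfsg.hermForm 3 F9c 3 x y := by
      intro x y
      rw [← hA]
      exact A.2 x y
    rcases (Cfsg.Agent.S0779.result F9c_card 3 v hv0 hv c).1 hpres with hc | hc
    · rw [hc, ut_zero_scalar] at hA
      rw [eq_one_of_matU hA, map_one]
      exact Subgroup.one_mem _
    · have hc1 : c ∈ [iU, -iU] := by
        have h1 : c ^ (3 - 1) = c ^ 2 := rfl
        rw [h1] at hc
        rcases sq_eq_neg_one c hc with h | h
        · rw [h]; exact List.mem_cons_self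
        · rw [h]; exact List.mem_cons_of_mem _ List.mem_cons_self
      have hA' : matU A = utv (toVU v) c := by
        rw [hA]
        unfold utv
        rw [ofVU_toVU]
      have hh : hU (toVU v) = 0 := by rw [← hU_eq]; exact hv
      obtain ⟨g, hg⟩ := evalWord_spec (wordOf (toVU v) c) (wordOf_lt _ _)
      refine ⟨g, ?_⟩
      apply Equiv.ext
      intro i
      apply Fin.ext
      rw [hg, rho2_apply, hA']
      exact (utv_word _ _ _ hh c hc1 i).symm

theorem range_le : rho2.range ≤ rho1.range := by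
  have hgen := Cfsg.Agent.S0780.result F9c_card 3 (by norm_num) (by norm_num)
  rw [MonoidHom.range_eq_map, ← hgen, MonoidHom.map_closure, Subgroup.closure_le]
  rintro _ ⟨A, ⟨v, c, hv, hA⟩, rfl⟩
  exact gen_mem A v c hv hA

/-- a unitary transvection as an element of the group -/
def mkTv (u : VU) (hu : hU u = 0) (hu0 : ofVU u ≠ 0) (hdet : (utv u iU).det = 1) : SUc :=
  ⟨⟨utv u iU, hdet⟩, by
    intro x y
    have h := (Cfsg.Agent.S0779.result F9c_card 3 (ofVU u) hu0
      (by rw [hU_eq, toVU_ofVU]; exact hu) iU).2 (Or.inr (by decide +kernel))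
    exact h x y⟩

theorem not_comm : ∃ a b : SUc, rho2 a * rho2 b ≠ rho2 b * rho2 a := by
  refine ⟨mkTv (⟨0, 0⟩, ⟨1, 0⟩, ⟨1, 1⟩) (by decide +kernel) (by decide +kernel) (by decide +kernel),
    mkTv (⟨0, 0⟩, ⟨1, 0⟩, ⟨1, 2⟩) (by decide +kernel) (by decide +kernel) (by decide +kernel), ?_⟩
  intro h
  have h1 := congrArg (fun σ : Equiv.Perm (Fin 63) => σ 0) h
  simp only [Equiv.Perm.mul_apply, rho2_apply] at h1
  revert h1
  show ¬ (actU (utv (⟨0, 0⟩, ⟨1, 0⟩, ⟨1, 1⟩) iU) (actU (utv (⟨0, 0⟩, ⟨1, 0⟩, ⟨1, 2⟩) iU) 0) =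
    actU (utv (⟨0, 0⟩, ⟨1, 0⟩, ⟨1, 2⟩) iU) (actU (utv (⟨0, 0⟩, ⟨1, 0⟩, ⟨1, 1⟩) iU) 0))
  decide +kernel

theorem center_SUc : Subgroup.center SUc = ⊥ := by
  have h := Cfsg.Agent.S0279.result F9c_card 3 (le_refl 3)
  have h1 : Nat.gcd 3 (3 + 1) = 1 := by decide
  rw [h1] at h
  exact Subgroup.card_eq_one.1 h

theorem rho2_injective : Function.Injective rho2 := by
  rw [← MonoidHom.ker_eq_bot_iff, eq_bot_iff, ← center_SUc]
  exact IsoRange.ker_le_center rho2
    (Cfsg.Agent.S0283.result F9c_card 3 (by norm_num) (by norm_num)) not_comm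

theorem card_PSUc : Nat.card (Cfsg.PSU 3 F9c 3) = 6048 := by
  have h := Cfsg.Agent.S0280.result F9c_card 3 (by norm_num)
  simp [Finset.prod_range_succ] at h
  omega

theorem card_SUc : Nat.card SUc = 6048 := by
  have h := Subgroup.card_eq_card_quotient_mul_card_subgroup (Subgroup.center SUc)
  rw [center_SUc] at h
  have h2 : Nat.card (SUc ⧸ Subgroup.center SUc) = 6048 := card_PSUc
  rw [center_SUc] at h2
  rw [h, h2, Subgroup.card_bot]

theorem iso_concrete : Nonempty (↥(commutator GG) ≃* Cfsg.PSU 3 F9c 3) := by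
  obtain ⟨e⟩ := IsoIdx2.commutator_equiv rho1 rho2 rho1_injective rho2_injective range_le
    (by rw [card_GG, card_SUc])
    (Cfsg.Agent.Lib.Helper2.UT.commutator_SU F9c_card (by norm_num) (by norm_num))
  have e2 : SUc ≃* Cfsg.PSU 3 F9c 3 :=
    (QuotientGroup.quotientBot (G := SUc)).symm.trans
      (QuotientGroup.quotientMulEquivOfEq center_SUc.symm)
  exact ⟨e.trans e2⟩

theorem iso_main {F K : Type*} [Field F] [Fintype F] [Field K] [Fintype K]
    (hF : Fintype.card F = 2) (hK : Fintype.card K = 9) :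
    Nonempty (↥(commutator ↥(chevG2.group F)) ≃* Cfsg.PSU 3 K 3) := by
  obtain ⟨e0⟩ := iso_concrete
  have e : F9c ≃+* K := FiniteField.ringEquivOfCardEq (by rw [hK]; rfl)
  let φ : ZMod 2 ≃+* F := ZMod.ringEquivOfPrime F Nat.prime_two hF
  let e1 : Cfsg.PSU 3 F9c 3 ≃* Cfsg.PSU 3 K 3 := Cfsg.Agent.Lib.Helper1.SUCongr.psuCongr e
  let e2 : ↥(commutator GG) ≃* ↥(commutator ↥(chevG2.group F)) :=
    ChevCongr.commutatorCongr (ChevCongr.groupCongr chevG2 φ)
  exact ⟨e2.symm.trans (e0.trans e1)⟩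

end Cfsg.Agent.Lib.Helper5.G22
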