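import Mathlib
import Cfsg.Agent.Lib.Helper8.SmTwoB
import Cfsg.Agent.Lib.Helper4.NgpDefs

set_option autoImplicit false

/-! S1904, package NB2a, part 1: commutator calculus in a group `R` whose commutators lie in a
central subgroup `Z` of exponent two, and the "no new involution" lemma. -/

namespace Cfsg.Agent.Lib.Helper4.Ngp

open Cfsg.Agent.Lib.Helper8.SmTwo
open scoped commutatorElement

universe u

variable {G : Type u} [Group G]

/-- `Z ≤ R` is central in `R`, of exponent two, and contains all commutators of `R` -/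
structure CCtx (R Z : Subgroup G) : Prop where
  hZR : Z ≤ R
  cen : ∀ z ∈ Z, ∀ r ∈ R, z * r = r * z
  comm : ∀ r ∈ R, ∀ s ∈ R, ⁅r, s⁆ ∈ Z
  exp : ∀ z ∈ Z, z ^ 2 = 1

namespace CCtx

variable {R Z : Subgroup G}

theorem comm_mul_right (hc : CCtx R Z) {x u v : G} (hx : x ∈ R) (hu : u ∈ R) (hv : v ∈ R) :
    ⁅x, u * v⁆ = ⁅x, u⁆ * ⁅x, v⁆ := by
  have h1 : ⁅x, u * v⁆ = ⁅x, u⁆ * (u * ⁅x, v⁆ * u⁻¹) := by
    simp only [commutatorElement_def]; group
  have h2 : u * ⁅x, v⁆ * u⁻¹ = ⁅x, v⁆ := by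
    rw [← hc.cen _ (hc.comm x hx v hv) u hu, mul_inv_cancel_right]
  rw [h1, h2]

theorem comm_mul_left (hc : CCtx R Z) {x u v : G} (hx : x ∈ R) (hu : u ∈ R) (hv : v ∈ R) :
    ⁅u * v, x⁆ = ⁅u, x⁆ * ⁅v, x⁆ := by
  have h1 : ⁅u * v, x⁆ = (u * ⁅v, x⁆ * u⁻¹) * ⁅u, x⁆ := by
    simp only [commutatorElement_def]; group
  have h2 : u * ⁅v, x⁆ * u⁻¹ = ⁅v, x⁆ := by
    rw [← hc.cen _ (hc.comm v hv x hx) u hu, mul_inv_cancel_right]
  rw [h1, h2]
  exact hc.cen _ (hc.comm v hv x hx) _ (hc.hZR (hc.comm u hu x hx))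

theorem comm_sq (hc : CCtx R Z) {x y : G} (hx : x ∈ R) (hy : y ∈ R) : ⁅x, y⁆ ^ 2 = 1 :=
  hc.exp _ (hc.comm x hx y hy)

theorem comm_symm (hc : CCtx R Z) {x y : G} (hx : x ∈ R) (hy : y ∈ R) : ⁅y, x⁆ = ⁅x, y⁆ := by
  have h1 : ⁅y, x⁆ = ⁅x, y⁆⁻¹ := (commutatorElement_inv x y).symm
  have h2 := hc.comm_sq hx hy
  rw [h1, inv_eq_iff_mul_eq_one, ← pow_two, h2]

theorem comm_inv_left (hc : CCtx R Z) {g x : G} (hg : g ∈ R) (hx : x ∈ R) :
    ⁅g⁻¹, x⁆ = ⁅g, x⁆ := by
  have h1 : ⁅g, x⁆ * ⁅g⁻¹, x⁆ = 1 := by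
    rw [← hc.comm_mul_left hx hg (R.inv_mem hg), mul_inv_cancel]
    simp [commutatorElement_def]
  have h2 : ⁅g, x⁆ * ⁅g, x⁆ = 1 := by
    rw [← pow_two]; exact hc.comm_sq hg hx
  exact mul_left_cancel (h1.trans h2.symm)

theorem comm_inv_right (hc : CCtx R Z) {g x : G} (hg : g ∈ R) (hx : x ∈ R) :
    ⁅x, g⁻¹⁆ = ⁅x, g⁆ := by
  rw [hc.comm_symm (R.inv_mem hg) hx, hc.comm_symm hg hx]
  exact hc.comm_inv_left hg hx

theorem cc_comm_eq_one_iff {x y : G} : ⁅x, y⁆ = 1 ↔ x * y = y * x := by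
  rw [commutatorElement_def]
  constructor
  · intro h
    have h2 : x * y * x⁻¹ * y⁻¹ * y * x = y * x := by rw [h, one_mul]
    rw [← h2]; group
  · intro h
    rw [h]; group

/-- all commutators of `V ⊔ ⟨x⟩ ⊔ ⟨y⟩` (`V` central in `R`) lie in `⟨⁅x, y⁆⟩` -/
theorem comm_mem_zpowers (hc : CCtx R Z) {V : Subgroup G} (hVR : V ≤ R)
    (hV : ∀ v ∈ V, ∀ r ∈ R, v * r = r * v) {x y : G} (hx : x ∈ R) (hy : y ∈ R) :
    ∀ a ∈ V ⊔ Subgroup.zpowers x ⊔ Subgroup.zpowers y,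
      ∀ b ∈ V ⊔ Subgroup.zpowers x ⊔ Subgroup.zpowers y, ⁅a, b⁆ ∈ Subgroup.zpowers ⁅x, y⁆ := by
  set K := Subgroup.zpowers ⁅x, y⁆ with hK
  have hxy : ⁅x, y⁆ ∈ K := Subgroup.mem_zpowers _
  have hScl : V ⊔ Subgroup.zpowers x ⊔ Subgroup.zpowers y
      = Subgroup.closure ((V : Set G) ∪ {x} ∪ {y}) := by
    rw [Subgroup.closure_union, Subgroup.closure_union, Subgroup.closure_eq,
      ← Subgroup.zpowers_eq_closure, ← Subgroup.zpowers_eq_closure]
  have hself : ∀ w : G, ⁅w, w⁆ = 1 := fun w => by simp [commutatorElement_def]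
  have hone_left : ∀ w : G, ⁅(1 : G), w⁆ = 1 := fun w => by simp [commutatorElement_def]
  have hone_right : ∀ w : G, ⁅w, (1 : G)⁆ = 1 := fun w => by simp [commutatorElement_def]
  have key1 : ∀ g ∈ V ⊔ Subgroup.zpowers x ⊔ Subgroup.zpowers y,
      g ∈ R ∧ ⁅g, x⁆ ∈ K ∧ ⁅g, y⁆ ∈ K := by
    intro g hg
    rw [hScl] at hg
    induction hg using Subgroup.closure_induction with
    | mem g hg =>
      rcases hg with (hg | hg) | hg
      · refine ⟨hVR hg, ?_, ?_⟩
        · have : ⁅g, x⁆ = 1 := by rw [cc_comm_eq_one_iff]; exact hV g hg x hx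
          rw [this]; exact K.one_mem
        · have : ⁅g, y⁆ = 1 := by rw [cc_comm_eq_one_iff]; exact hV g hg y hy
          rw [this]; exact K.one_mem
      · rw [Set.mem_singleton_iff] at hg
        subst hg
        refine ⟨hx, ?_, hxy⟩
        rw [hself]; exact K.one_mem
      · rw [Set.mem_singleton_iff] at hg
        subst hg
        refine ⟨hy, ?_, ?_⟩
        · rw [hc.comm_symm hx hy]; exact hxy
        · rw [hself]; exact K.one_mem
    | one =>
      refine ⟨R.one_mem, ?_, ?_⟩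
      · rw [hone_left]; exact K.one_mem
      · rw [hone_left]; exact K.one_mem
    | mul a b _ _ iha ihb =>
      refine ⟨R.mul_mem iha.1 ihb.1, ?_, ?_⟩
      · rw [hc.comm_mul_left hx iha.1 ihb.1]; exact K.mul_mem iha.2.1 ihb.2.1
      · rw [hc.comm_mul_left hy iha.1 ihb.1]; exact K.mul_mem iha.2.2 ihb.2.2
    | inv a _ iha =>
      refine ⟨R.inv_mem iha.1, ?_, ?_⟩
      · rw [hc.comm_inv_left iha.1 hx]; exact iha.2.1
      · rw [hc.comm_inv_left iha.1 hy]; exact iha.2.2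
  intro a ha b hb
  obtain ⟨haR, hax, hay⟩ := key1 a ha
  rw [hScl] at hb
  have key2 : b ∈ R ∧ ⁅a, b⁆ ∈ K := by
    induction hb using Subgroup.closure_induction with
    | mem g hg =>
      rcases hg with (hg | hg) | hg
      · refine ⟨hVR hg, ?_⟩
        have : ⁅a, g⁆ = 1 := by
          rw [cc_comm_eq_one_iff]; exact (hV g hg a haR).symm
        rw [this]; exact K.one_mem
      · rw [Set.mem_singleton_iff] at hg
        subst hg
        exact ⟨hx, hax⟩
      · rw [Set.mem_singleton_iff] at hg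
        subst hg
        exact ⟨hy, hay⟩
    | one =>
      refine ⟨R.one_mem, ?_⟩
      rw [hone_right]; exact K.one_mem
    | mul c d _ _ ihc ihd =>
      refine ⟨R.mul_mem ihc.1 ihd.1, ?_⟩
      rw [hc.comm_mul_right haR ihc.1 ihd.1]; exact K.mul_mem ihc.2 ihd.2
    | inv c _ ihc =>
      refine ⟨R.inv_mem ihc.1, ?_⟩
      rw [hc.comm_inv_right ihc.1 haR]; exact ihc.2
  exact key2.2

end CCtx

/-- an involution `t` of `X` centralizing the normal four-group `E` whose `X`-conjugates lie in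
`E t` belongs to `E` (else `E⟨t⟩` is a normal elementary abelian subgroup of order `8`) -/
theorem nb2a_involution_mem [Finite G] {X E : Subgroup G} (hN : NoNormalE8 X) (hEX : E ≤ X)
    (hXE : X ≤ Subgroup.normalizer (E : Set G)) (hE4 : Nat.card E = 4)
    (hEexp : ∀ e ∈ E, e ^ 2 = 1) {t : G} (ht : t ∈ X) (ht2 : t ^ 2 = 1)
    (htE : ∀ e ∈ E, e * t = t * e)
    (hconj : ∀ x ∈ X, ∃ e ∈ E, x * t * x⁻¹ = e * t) : t ∈ E := by
  let E' : Subgroup G := E ⊔ Subgroup.zpowers t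
  have hEcl : E' = Subgroup.closure ((E : Set G) ∪ {t}) := by
    rw [Subgroup.closure_union, Subgroup.closure_eq, ← Subgroup.zpowers_eq_closure]
  have htt : t * t = 1 := by rw [← pow_two]; exact ht2
  have hmemE : ∀ g ∈ E', ∃ z ∈ E, g = z ∨ g = z * t := by
    intro g hg
    rw [hEcl] at hg
    induction hg using Subgroup.closure_induction with
    | mem g hg =>
      rcases hg with hg | hg
      · exact ⟨g, hg, Or.inl rfl⟩
      · rw [Set.mem_singleton_iff] at hg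
        exact ⟨1, Subgroup.one_mem _, Or.inr (by rw [hg, one_mul])⟩
    | one => exact ⟨1, Subgroup.one_mem _, Or.inl rfl⟩
    | mul a b _ _ iha ihb =>
      obtain ⟨z1, hz1, h1⟩ := iha
      obtain ⟨z2, hz2, h2⟩ := ihb
      have hzt : z2 * t = t * z2 := htE z2 hz2
      rcases h1 with h1 | h1 <;> rcases h2 with h2 | h2
      · exact ⟨z1 * z2, Subgroup.mul_mem _ hz1 hz2, Or.inl (by rw [h1, h2])⟩
      · exact ⟨z1 * z2, Subgroup.mul_mem _ hz1 hz2, Or.inr (by rw [h1, h2, mul_assoc])⟩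
      · refine ⟨z1 * z2, Subgroup.mul_mem _ hz1 hz2, Or.inr ?_⟩
        rw [h1, h2, mul_assoc, ← hzt, mul_assoc]
      · refine ⟨z1 * z2, Subgroup.mul_mem _ hz1 hz2, Or.inl ?_⟩
        rw [h1, h2]
        calc z1 * t * (z2 * t) = z1 * (t * z2) * t := by group
          _ = z1 * (z2 * t) * t := by rw [hzt]
          _ = z1 * z2 * (t * t) := by group
          _ = z1 * z2 := by rw [htt, mul_one]
    | inv a _ iha =>
      obtain ⟨z1, hz1, h1⟩ := iha
      have hzt : z1⁻¹ * t = t * z1⁻¹ := htE _ (Subgroup.inv_mem _ hz1)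
      have htinv : t⁻¹ = t := by
        rw [inv_eq_iff_mul_eq_one]; exact htt
      rcases h1 with h1 | h1
      · exact ⟨z1⁻¹, Subgroup.inv_mem _ hz1, Or.inl (by rw [h1])⟩
      · refine ⟨z1⁻¹, Subgroup.inv_mem _ hz1, Or.inr ?_⟩
        rw [h1, mul_inv_rev, htinv, hzt]
  have hE'X : E' ≤ X := sup_le hEX (by rw [Subgroup.zpowers_le]; exact ht)
  have hE'exp : ∀ e ∈ E', e ^ 2 = 1 := by
    intro e he
    obtain ⟨z, hz, h1 | h1⟩ := hmemE e he
    · rw [h1]; exact hEexp z hz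
    · have hcm : Commute z t := htE z hz
      rw [h1, hcm.mul_pow, hEexp z hz, ht2, one_mul]
  have hEE' : E ≤ E' := le_sup_left
  have htE' : t ∈ E' := (le_sup_right : Subgroup.zpowers t ≤ E') (Subgroup.mem_zpowers t)
  have hE'norm : X ≤ Subgroup.normalizer (E' : Set G) := by
    intro x hx
    have key : ∀ x ∈ X, ∀ e ∈ E', x * e * x⁻¹ ∈ E' := by
      intro x hx e he
      obtain ⟨z, hz, h1 | h1⟩ := hmemE e he
      · rw [h1]
        exact hEE' (conj_mem_of_mem_normalizer (hXE hx) hz)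
      · obtain ⟨e0, he0, hxt⟩ := hconj x hx
        have h2 : x * (z * t) * x⁻¹ = (x * z * x⁻¹) * (x * t * x⁻¹) := by group
        rw [h1, h2, hxt]
        exact E'.mul_mem (hEE' (conj_mem_of_mem_normalizer (hXE hx) hz))
          (E'.mul_mem (hEE' he0) htE')
    refine mem_normalizer_of_conj_mem (key x hx) (fun e he => ?_)
    have := key x⁻¹ (X.inv_mem hx) e he
    simpa using this
  have hcard := hN E' hE'X hE'norm hE'exp
  have hEeq : E' = E := by
    have h1 : Nat.card E ≤ Nat.card E' := Subgroup.card_le_of_le hEE'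
    have h2 : Nat.card E' = Nat.card E := by rw [hE4] at h1 ⊢; omega
    exact (Subgroup.eq_of_le_of_card_ge hEE' (le_of_eq h2)).symm
  rw [← hEeq]; exact htE'

end Cfsg.Agent.Lib.Helper4.Ngp
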