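import Mathlib
import Cfsg.Agent.Lib.Helper5.NgpNB2a1

set_option autoImplicit false

/-! S1904, package NB2a, part 2: the subgroup `secR X U` (preimage of `Ω₁` of the centre of
`X/U` inside `C_X(U)`), and the counting lemma `|R : U| ≤ |U : P|`. -/

namespace Cfsg.Agent.Lib.Helper4.Ngp

open Cfsg.Agent.Lib.Helper8.SmTwo
open scoped commutatorElement

universe u

variable {G : Type u} [Group G]

/-- `{r ∈ C_X(U) | r² ∈ U ∧ ⁅r, X⁆ ⊆ U}` -/
def secR (X U : Subgroup G) : Subgroup G where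
  carrier := {r | r ∈ X ∧ (∀ u ∈ U, r * u = u * r) ∧ r ^ 2 ∈ U ∧ ∀ x ∈ X, ⁅r, x⁆ ∈ U}
  one_mem' := by
    refine ⟨X.one_mem, fun u _ => by rw [one_mul, mul_one], ?_, fun x _ => ?_⟩
    · rw [one_pow]; exact U.one_mem
    · have : ⁅(1 : G), x⁆ = 1 := by simp [commutatorElement_def]
      rw [this]; exact U.one_mem
  mul_mem' := by
    rintro r1 r2 ⟨h1X, h1c, h1s, h1x⟩ ⟨h2X, h2c, h2s, h2x⟩
    refine ⟨X.mul_mem h1X h2X, ?_, ?_, ?_⟩
    · intro u hu
      rw [mul_assoc, h2c u hu, ← mul_assoc, h1c u hu, mul_assoc]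
    · have hc : ⁅r2, r1⁆ ∈ U := h2x r1 h1X
      have h3 : r2 * r1 = ⁅r2, r1⁆ * (r1 * r2) := by
        simp only [commutatorElement_def]; group
      have h4 : (r1 * r2) ^ 2 = ⁅r2, r1⁆ * (r1 ^ 2 * r2 ^ 2) := by
        calc (r1 * r2) ^ 2 = r1 * (r2 * r1) * r2 := by rw [pow_two]; group
          _ = r1 * (⁅r2, r1⁆ * (r1 * r2)) * r2 := by rw [h3]
          _ = (r1 * ⁅r2, r1⁆) * (r1 * r2 * r2) := by group
          _ = (⁅r2, r1⁆ * r1) * (r1 * r2 * r2) := by rw [h1c _ hc]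
          _ = ⁅r2, r1⁆ * (r1 ^ 2 * r2 ^ 2) := by rw [pow_two, pow_two]; group
      rw [h4]
      exact U.mul_mem hc (U.mul_mem h1s h2s)
    · intro x hx
      have h3 : ⁅r1 * r2, x⁆ = (r1 * ⁅r2, x⁆ * r1⁻¹) * ⁅r1, x⁆ := by
        simp only [commutatorElement_def]; group
      have h4 : r1 * ⁅r2, x⁆ * r1⁻¹ = ⁅r2, x⁆ := by
        rw [h1c _ (h2x x hx), mul_inv_cancel_right]
      rw [h3, h4]
      exact U.mul_mem (h2x x hx) (h1x x hx)
  inv_mem' := by
    rintro r ⟨hX, hc, hs, hx⟩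
    refine ⟨X.inv_mem hX, ?_, ?_, ?_⟩
    · intro u hu
      have := hc u hu
      calc r⁻¹ * u = r⁻¹ * (u * r) * r⁻¹ := by group
        _ = r⁻¹ * (r * u) * r⁻¹ := by rw [this]
        _ = u * r⁻¹ := by group
    · rw [inv_pow]; exact U.inv_mem hs
    · intro x hxX
      have h3 : ⁅r⁻¹, x⁆ = r⁻¹ * (⁅r, x⁆)⁻¹ * r := by
        simp only [commutatorElement_def]; group
      have h4 : r⁻¹ * (⁅r, x⁆)⁻¹ * r = (⁅r, x⁆)⁻¹ := by
        have := hc _ (U.inv_mem (hx x hxX))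
        calc r⁻¹ * (⁅r, x⁆)⁻¹ * r = r⁻¹ * ((⁅r, x⁆)⁻¹ * r) := by group
          _ = r⁻¹ * (r * (⁅r, x⁆)⁻¹) := by rw [this]
          _ = (⁅r, x⁆)⁻¹ := by group
      rw [h3, h4]
      exact U.inv_mem (hx x hxX)

theorem mem_secR {X U : Subgroup G} {r : G} :
    r ∈ secR X U ↔ r ∈ X ∧ (∀ u ∈ U, r * u = u * r) ∧ r ^ 2 ∈ U ∧ ∀ x ∈ X, ⁅r, x⁆ ∈ U :=
  Iff.rfl

theorem secR_le {X U : Subgroup G} : secR X U ≤ X := fun _ hr => hr.1

theorem le_secR {X U : Subgroup G} (hUX : U ≤ X) (hab : IsAb U)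
    (hXU : X ≤ Subgroup.normalizer (U : Set G)) : U ≤ secR X U := by
  intro u hu
  refine ⟨hUX hu, fun v hv => hab u hu v hv, U.pow_mem hu 2, fun x hx => ?_⟩
  have h1 : ⁅u, x⁆ = u * (x * u⁻¹ * x⁻¹) := by
    simp only [commutatorElement_def]; group
  rw [h1]
  exact U.mul_mem hu (conj_mem_of_mem_normalizer (hXU hx) (U.inv_mem hu))

theorem secR_normalizer_X {X U : Subgroup G} (hUR : U ≤ secR X U) :
    X ≤ Subgroup.normalizer (secR X U : Set G) := by
  intro x hx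
  have key : ∀ x ∈ X, ∀ r ∈ secR X U, x * r * x⁻¹ ∈ secR X U := by
    intro x hx r hr
    have h1 : x * r * x⁻¹ = (⁅r, x⁆)⁻¹ * r := by
      simp only [commutatorElement_def]; group
    rw [h1]
    exact (secR X U).mul_mem (hUR (U.inv_mem (hr.2.2.2 x hx))) hr
  refine mem_normalizer_of_conj_mem (key x hx) (fun r hr => ?_)
  have := key x⁻¹ (X.inv_mem hx) r hr
  simpa using this

theorem secR_normalizer_A {X A U : Subgroup G} (hAX : A ≤ Subgroup.normalizer (X : Set G))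
    (hAU : A ≤ Subgroup.normalizer (U : Set G)) :
    A ≤ Subgroup.normalizer (secR X U : Set G) := by
  intro a ha
  have key : ∀ a ∈ A, ∀ r ∈ secR X U, a * r * a⁻¹ ∈ secR X U := by
    intro a ha r hr
    obtain ⟨hX, hc, hs, hx⟩ := hr
    refine ⟨conj_mem_of_mem_normalizer (hAX ha) hX, ?_, ?_, ?_⟩
    · intro u hu
      have hu' : a⁻¹ * u * a ∈ U := conj_inv_mem_of_mem_normalizer (hAU ha) hu
      have := hc _ hu'
      calc a * r * a⁻¹ * u = a * (r * (a⁻¹ * u * a)) * a⁻¹ := by group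
        _ = a * ((a⁻¹ * u * a) * r) * a⁻¹ := by rw [this]
        _ = u * (a * r * a⁻¹) := by group
    · rw [conj_pow]
      exact conj_mem_of_mem_normalizer (hAU ha) hs
    · intro x hxX
      have hx' : a⁻¹ * x * a ∈ X := conj_inv_mem_of_mem_normalizer (hAX ha) hxX
      have h1 : ⁅a * r * a⁻¹, x⁆ = a * ⁅r, a⁻¹ * x * a⁆ * a⁻¹ := by
        simp only [commutatorElement_def]; group
      rw [h1]
      exact conj_mem_of_mem_normalizer (hAU ha) (hx _ hx')
  refine mem_normalizer_of_conj_mem (key a ha) (fun r hr => ?_)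
  have := key a⁻¹ (A.inv_mem ha) r hr
  simpa using this

/-- counting: if squaring induces an injection `R/U → U/P` then `|R| · |P| ≤ |U|²` -/
theorem nb2a_card_le [Finite G] {R U P : Subgroup G} (hUR : U ≤ R) (hPU : P ≤ U)
    (hsq : ∀ d ∈ R, d ^ 2 ∈ U)
    (hwd : ∀ d ∈ R, ∀ d' ∈ R, d⁻¹ * d' ∈ U → (d ^ 2)⁻¹ * d' ^ 2 ∈ P)
    (hinj : ∀ d ∈ R, ∀ d' ∈ R, (d ^ 2)⁻¹ * d' ^ 2 ∈ P → d⁻¹ * d' ∈ U) :
    Nat.card R * Nat.card P ≤ Nat.card U * Nat.card U := by
  let U' : Subgroup ↥R := U.subgroupOf R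
  let P' : Subgroup ↥U := P.subgroupOf U
  let f : ↥R → ↥U := fun d => ⟨(d : G) ^ 2, hsq d d.2⟩
  let ψ : ↥R ⧸ U' → ↥U ⧸ P' :=
    Quotient.lift (fun d : ↥R => (QuotientGroup.mk (f d) : ↥U ⧸ P')) (by
      intro a b hab
      have hab' : a⁻¹ * b ∈ U' := QuotientGroup.leftRel_apply.mp hab
      apply QuotientGroup.eq.mpr
      show ((f a)⁻¹ * f b : ↥U) ∈ P.subgroupOf U
      rw [Subgroup.mem_subgroupOf]
      exact hwd a a.2 b b.2 hab')
  have hψ : Function.Injective ψ := by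
    intro q1 q2 h
    induction q1 using Quotient.inductionOn with
    | h a =>
      induction q2 using Quotient.inductionOn with
      | h b =>
        have h' : (QuotientGroup.mk (f a) : ↥U ⧸ P') = QuotientGroup.mk (f b) := h
        have h2 : ((f a)⁻¹ * f b : ↥U) ∈ P' := QuotientGroup.eq.mp h'
        have h3 : ((a : G) ^ 2)⁻¹ * (b : G) ^ 2 ∈ P := by
          have := Subgroup.mem_subgroupOf.mp h2
          exact this
        apply Quotient.sound
        apply QuotientGroup.leftRel_apply.mpr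
        show (a⁻¹ * b : ↥R) ∈ U.subgroupOf R
        rw [Subgroup.mem_subgroupOf]
        exact hinj a a.2 b b.2 h3
  have h1 : Nat.card (↥R ⧸ U') ≤ Nat.card (↥U ⧸ P') := Nat.card_le_card_of_injective ψ hψ
  have h2 : Nat.card ↥R = Nat.card (↥R ⧸ U') * Nat.card U' :=
    Subgroup.card_eq_card_quotient_mul_card_subgroup U'
  have h3 : Nat.card ↥U = Nat.card (↥U ⧸ P') * Nat.card P' :=
    Subgroup.card_eq_card_quotient_mul_card_subgroup P'
  have h4 : Nat.card U' = Nat.card U :=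
    Nat.card_congr (Subgroup.subgroupOfEquivOfLe hUR).toEquiv
  have h5 : Nat.card P' = Nat.card P :=
    Nat.card_congr (Subgroup.subgroupOfEquivOfLe hPU).toEquiv
  rw [h4] at h2
  rw [h5] at h3
  calc Nat.card R * Nat.card P
      = Nat.card (↥R ⧸ U') * Nat.card U * Nat.card P := by rw [h2]
    _ ≤ Nat.card (↥U ⧸ P') * Nat.card U * Nat.card P := by
        apply Nat.mul_le_mul_right
        exact Nat.mul_le_mul_right _ h1
    _ = Nat.card U * (Nat.card (↥U ⧸ P') * Nat.card P) := by ring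
    _ = Nat.card U * Nat.card U := by rw [← h3]

end Cfsg.Agent.Lib.Helper4.Ngp
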