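import Mathlib
import Cfsg.Agent.Lib.Helper5.NgpNE1a

set_option autoImplicit false

/-! S1904, package NE1, part b: `|C_X(x)| ≤ 32` for a non-central `x`. -/

namespace Cfsg.Agent.Lib.Helper4.Ngp

open Cfsg.Agent.Lib.Helper8.SmTwo
open scoped commutatorElement

universe u

variable {G : Type u} [Group G]

namespace SpCtx

variable {X Z : Subgroup G}

/-- two elements of `Z` outside `{1, z}` have their product in `{1, z}` -/
theorem ne1b_four [Finite G] (hc : SpCtx X Z) {z a b : G} (hz : z ∈ Z) (hz1 : z ≠ 1)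
    (ha : a ∈ Z) (hb : b ∈ Z) (ha1 : a ≠ 1) (haz : a ≠ z) (hb1 : b ≠ 1) (hbz : b ≠ z) :
    a * b = 1 ∨ a * b = z := by
  classical
  haveI : Fintype ↥Z := Fintype.ofFinite _
  have hcard : Fintype.card ↥Z = 4 := by
    rw [← Nat.card_eq_fintype_card]; exact hc.card
  have ha2 : a * a = 1 := by rw [← pow_two]; exact hc.exp a ha
  have hz2 : z * z = 1 := by rw [← pow_two]; exact hc.exp z hz
  let e1 : ↥Z := 1
  let e2 : ↥Z := ⟨z, hz⟩
  let e3 : ↥Z := ⟨a, ha⟩
  let e4 : ↥Z := ⟨a * z, Z.mul_mem ha hz⟩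
  have h12 : e1 ≠ e2 := by
    intro h; apply hz1; exact (congrArg Subtype.val h).symm
  have h13 : e1 ≠ e3 := by
    intro h; apply ha1; exact (congrArg Subtype.val h).symm
  have h14 : e1 ≠ e4 := by
    intro h
    have h' : (1 : G) = a * z := congrArg Subtype.val h
    apply haz
    calc a = a * (z * z) := by rw [hz2, mul_one]
      _ = (a * z) * z := by group
      _ = z := by rw [← h', one_mul]
  have h23 : e2 ≠ e3 := by
    intro h; apply haz; exact (congrArg Subtype.val h).symm
  have h24 : e2 ≠ e4 := by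
    intro h
    have h' : z = a * z := congrArg Subtype.val h
    apply ha1
    have : a * z = 1 * z := by rw [one_mul]; exact h'.symm
    exact mul_right_cancel this
  have h34 : e3 ≠ e4 := by
    intro h
    have h' : a = a * z := congrArg Subtype.val h
    apply hz1
    have : a * z = a * 1 := by rw [mul_one]; exact h'.symm
    exact mul_left_cancel this
  let S : Finset ↥Z := {e1, e2, e3, e4}
  have hS : S.card = 4 := by
    show ({e1, e2, e3, e4} : Finset ↥Z).card = 4
    rw [Finset.card_insert_of_notMem, Finset.card_insert_of_notMem,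
      Finset.card_insert_of_notMem, Finset.card_singleton]
    · simp only [Finset.mem_singleton]; exact h34
    · simp only [Finset.mem_insert, Finset.mem_singleton, not_or]; exact ⟨h23, h24⟩
    · simp only [Finset.mem_insert, Finset.mem_singleton, not_or]; exact ⟨h12, h13, h14⟩
  have hSu : S = Finset.univ := by
    apply Finset.eq_univ_of_card
    rw [hS, hcard]
  have hbS : (⟨b, hb⟩ : ↥Z) ∈ S := by rw [hSu]; exact Finset.mem_univ _
  simp only [S, Finset.mem_insert, Finset.mem_singleton] at hbS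
  rcases hbS with h | h | h | h
  · exact absurd (congrArg Subtype.val h) hb1
  · exact absurd (congrArg Subtype.val h) hbz
  · have h' : b = a := congrArg Subtype.val h
    left; rw [h', ha2]
  · have h' : b = a * z := congrArg Subtype.val h
    right
    rw [h', ← mul_assoc, ha2, one_mul]

/-- `|C_X(x)| ≤ 32` for `x ∈ X ∖ Z` -/
theorem card_centralizer_le [Finite G] (hc : SpCtx X Z) {x : G} (hx : x ∈ X) (hxZ : x ∉ Z) :
    Nat.card (X ⊓ Subgroup.centralizer ({x} : Set G) : Subgroup G) ≤ 32 := by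
  classical
  set C : Subgroup G := X ⊓ Subgroup.centralizer ({x} : Set G) with hC
  have hCmem : ∀ w, w ∈ C ↔ w ∈ X ∧ x * w = w * x := by
    intro w
    rw [hC, Subgroup.mem_inf, Subgroup.mem_centralizer_iff]
    constructor
    · rintro ⟨h1, h2⟩
      exact ⟨h1, h2 x rfl⟩
    · rintro ⟨h1, h2⟩
      refine ⟨h1, fun h hh => ?_⟩
      rw [Set.mem_singleton_iff] at hh
      rw [hh]; exact h2
  set z := x ^ 2 with hzdef
  have hzZ : z ∈ Z := hc.sq x hx
  have hz1 : z ≠ 1 := hc.sq_ne_one hx hxZ
  have hz2 : z * z = 1 := by rw [← pow_two]; exact hc.exp z hzZ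
  -- the predicates
  let inN : G → Prop := fun g => g = 1 ∨ g = z
  let inW : G → Prop := fun g => g ∈ Z ∨ g * x⁻¹ ∈ Z
  have P1 : ∀ a ∈ Z, ∀ b ∈ Z, ¬ inN a → ¬ inN b → inN (a * b) := by
    intro a ha b hb hna hnb
    simp only [inN, not_or] at hna hnb
    exact hc.ne1b_four hzZ hz1 ha hb hna.1 hna.2 hnb.1 hnb.2
  have P2 : ∀ a b : G, inN a → inN b → inN (a * b) := by
    intro a b ha hb
    rcases ha with rfl | rfl <;> rcases hb with rfl | rfl
    · left; rw [one_mul]
    · right; rw [one_mul]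
    · right; rw [mul_one]
    · left; exact hz2
  -- squares of elements of C outside W
  have hsqW : ∀ w ∈ C, ¬ inW w → ¬ inN (w ^ 2) := by
    intro w hw hnW hN
    rw [hCmem] at hw
    apply hnW
    rcases hN with h1 | h1
    · left; exact hc.anis w hw.1 h1
    · right
      apply hc.anis _ (X.mul_mem hw.1 (X.inv_mem hx))
      have hcm : Commute w x⁻¹ := by
        have : Commute x w := hw.2
        exact (this.symm).inv_right
      rw [hcm.mul_pow, h1, hzdef, inv_pow, mul_inv_cancel]
  -- cardinality of W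
  let Wset : Set G := {g | inW g}
  have hWcard : Wset.ncard ≤ 8 := by
    have h1 : Wset ⊆ (Z : Set G) ∪ (fun g => g * x) '' (Z : Set G) := by
      intro g hg
      rcases hg with hg | hg
      · left; exact hg
      · right
        exact ⟨g * x⁻¹, hg, by simp⟩
    have h2 : ((Z : Set G) ∪ (fun g => g * x) '' (Z : Set G)).ncard ≤ 4 + 4 := by
      refine (Set.ncard_union_le _ _).trans ?_
      have h3 : (Z : Set G).ncard = 4 := by
        rw [← Nat.card_coe_set_eq]; exact hc.card
      have h4 : ((fun g => g * x) '' (Z : Set G)).ncard ≤ 4 := by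
        rw [← h3]; exact Set.ncard_image_le (Set.toFinite _)
      omega
    exact (Set.ncard_le_ncard h1 (Set.toFinite _)).trans h2
  show Nat.card ↥((C : Subgroup G) : Set G) ≤ 32
  rw [Nat.card_coe_set_eq]
  by_cases hA : ∀ w ∈ C, inW w
  · -- C ⊆ W
    have h1 : ((C : Subgroup G) : Set G) ⊆ Wset := fun w hw => hA w hw
    have := Set.ncard_le_ncard h1 (Set.toFinite _)
    omega
  · push_neg at hA
    obtain ⟨y, hyC, hyW⟩ := hA
    have hyX : y ∈ X := ((hCmem y).mp hyC).1
    have hy2 : ¬ inN (y ^ 2) := hsqW y hyC hyW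
    -- the kernel-like set
    let Kset : Set G := {w | w ∈ C ∧ inN ⁅y, w⁆}
    have hK : Kset ⊆ Wset ∪ (fun g => y⁻¹ * g) '' Wset := by
      intro w hw
      obtain ⟨hwC, hwN⟩ := hw
      have hwX : w ∈ X := ((hCmem w).mp hwC).1
      by_contra hcon
      rw [Set.mem_union, not_or] at hcon
      obtain ⟨hn1, hn2⟩ := hcon
      have hn1' : ¬ inW w := hn1
      have hn2' : ¬ inW (y * w) := by
        intro h
        apply hn2
        exact ⟨y * w, h, by group⟩
      have h1 := hsqW w hwC hn1'
      have h2 := hsqW (y * w) (C.mul_mem hyC hwC) hn2'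
      apply h2
      rw [hc.sq_mul hyX hwX, hc.comm_symm hyX hwX]
      exact P2 _ _ (P1 _ (hc.sq y hyX) _ (hc.sq w hwX) hy2 h1) hwN
    have hKcard : Kset.ncard ≤ 16 := by
      refine (Set.ncard_le_ncard hK (Set.toFinite _)).trans ?_
      refine (Set.ncard_union_le _ _).trans ?_
      have : ((fun g => y⁻¹ * g) '' Wset).ncard ≤ Wset.ncard :=
        Set.ncard_image_le (Set.toFinite _)
      omega
    by_cases hB : ∀ w ∈ C, inN ⁅y, w⁆
    · have h1 : ((C : Subgroup G) : Set G) ⊆ Kset := fun w hw => ⟨hw, hB w hw⟩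
      have := Set.ncard_le_ncard h1 (Set.toFinite _)
      omega
    · push_neg at hB
      obtain ⟨w0, hw0C, hw0N⟩ := hB
      have hw0X : w0 ∈ X := ((hCmem w0).mp hw0C).1
      -- ⁅y, w0⁻¹⁆ = ⁅y, w0⁆
      have hinv : ⁅y, w0⁻¹⁆ = ⁅y, w0⁆ := by
        have h1 : ⁅y, w0⁆ * ⁅y, w0⁻¹⁆ = 1 := by
          rw [← hc.comm_mul_right hyX hw0X (X.inv_mem hw0X), mul_inv_cancel]
          exact SpCtx.comm_one_right y
        have h2 : ⁅y, w0⁆ * ⁅y, w0⁆ = 1 := by
          rw [← pow_two]; exact hc.comm_sq hyX hw0X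
        exact mul_left_cancel (h1.trans h2.symm)
      have hcover : ((C : Subgroup G) : Set G) ⊆ Kset ∪ (fun g => g * w0) '' Kset := by
        intro w hw
        have hwC : w ∈ C := hw
        have hwX : w ∈ X := ((hCmem w).mp hwC).1
        by_cases hwN : inN ⁅y, w⁆
        · left; exact ⟨hwC, hwN⟩
        · right
          refine ⟨w * w0⁻¹, ⟨C.mul_mem hwC (C.inv_mem hw0C), ?_⟩, by group⟩
          rw [hc.comm_mul_right hyX hwX (X.inv_mem hw0X), hinv]
          exact P1 _ (hc.comm y hyX w hwX) _ (hc.comm y hyX w0 hw0X) hwN hw0N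
      have h1 := Set.ncard_le_ncard hcover (Set.toFinite _)
      have h2 := Set.ncard_union_le Kset ((fun g => g * w0) '' Kset)
      have h3 : ((fun g => g * w0) '' Kset).ncard ≤ Kset.ncard :=
        Set.ncard_image_le (Set.toFinite _)
      omega

end SpCtx

end Cfsg.Agent.Lib.Helper4.Ngp
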