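import Mathlib
import Cfsg.Agent.Lib.Helper5.NgpNE1b

set_option autoImplicit false

/-! S1904, package NE1, part gs: the Gauss sum lemma. -/

namespace Cfsg.Agent.Lib.Helper4.Ngp

open Cfsg.Agent.Lib.Helper8.SmTwo
open scoped commutatorElement

universe u

variable {G : Type u} [Group G]

namespace SpCtx

variable {X Z : Subgroup G}

/-- two elements of `Z` different from `1`, and different from each other -/
theorem ne1gs_exists_two [Finite G] (hc : SpCtx X Z) :
    ∃ z0 ∈ Z, ∃ z1 ∈ Z, z0 ≠ 1 ∧ z1 ≠ 1 ∧ z1 ≠ z0 := by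
  classical
  have h3 : (Z : Set G).ncard = 4 := by
    rw [← Nat.card_coe_set_eq]; exact hc.card
  have hex0 : ∃ z0 ∈ Z, z0 ≠ 1 := by
    by_contra hcon
    push_neg at hcon
    have h1 : (Z : Set G) ⊆ {1} := fun g hg => hcon g hg
    have h2 := Set.ncard_le_ncard h1 (Set.toFinite _)
    rw [Set.ncard_singleton] at h2
    omega
  obtain ⟨z0, hz0, hz01⟩ := hex0
  have hex1 : ∃ z1 ∈ Z, z1 ≠ 1 ∧ z1 ≠ z0 := by
    by_contra hcon
    push_neg at hcon
    have h1 : (Z : Set G) ⊆ {1, z0} := by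
      intro g hg
      by_cases h : g = 1
      · left; exact h
      · right; exact hcon g hg h
    have h2 := Set.ncard_le_ncard h1 (Set.toFinite _)
    have h4 : ({1, z0} : Set G).ncard ≤ 2 := by
      refine (Set.ncard_insert_le _ _).trans ?_
      rw [Set.ncard_singleton]
    omega
  obtain ⟨z1, hz1, hz11, hz10⟩ := hex1
  exact ⟨z0, hz0, z1, hz1, hz01, hz11, hz10⟩

theorem gauss_sum [Finite G] (hc : SpCtx X Z)
    (hon : ∀ (x : G) (hx : x ∈ X), x ∉ Z → (commHom hc x hx).range = ⊤) :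
    ∃ T : ℤ, T ^ 2 = 4 * (Nat.card X : ℤ) := by
  classical
  haveI : Fintype ↥X := Fintype.ofFinite _
  obtain ⟨z0, hz0, z1, hz1, hz01, hz11, hz10⟩ := hc.ne1gs_exists_two
  have hz02 : z0 * z0 = 1 := by rw [← pow_two]; exact hc.exp z0 hz0
  let inN : G → Prop := fun g => g = 1 ∨ g = z0
  let ε : G → ℤ := fun g => if g = 1 ∨ g = z0 then 1 else -1
  have hε1 : ∀ g, inN g → ε g = 1 := fun g hg => if_pos hg
  have hε2 : ∀ g, ¬ inN g → ε g = -1 := fun g hg => if_neg hg
  have hεsq : ∀ g, ε g * ε g = 1 := by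
    intro g
    by_cases hg : inN g
    · rw [hε1 g hg]; norm_num
    · rw [hε2 g hg]; norm_num
  have P1 : ∀ a ∈ Z, ∀ b ∈ Z, ¬ inN a → ¬ inN b → inN (a * b) := by
    intro a ha b hb hna hnb
    simp only [inN, not_or] at hna hnb
    exact hc.ne1b_four hz0 hz01 ha hb hna.1 hna.2 hnb.1 hnb.2
  have P2 : ∀ a b : G, inN a → inN b → inN (a * b) := by
    intro a b ha hb
    rcases ha with rfl | rfl <;> rcases hb with rfl | rfl
    · left; rw [one_mul]
    · right; rw [one_mul]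
    · right; rw [mul_one]
    · left; exact hz02
  have P3 : ∀ a b : G, inN a → ¬ inN b → ¬ inN (a * b) := by
    intro a b ha hnb hab
    apply hnb
    rcases ha with h | h
    · rwa [h, one_mul] at hab
    · rw [h] at hab
      have : b = z0 * (z0 * b) := by rw [← mul_assoc, hz02, one_mul]
      rw [this]
      exact P2 _ _ (Or.inr rfl) hab
  have hεmul : ∀ a ∈ Z, ∀ b ∈ Z, ε (a * b) = ε a * ε b := by
    intro a ha b hb
    by_cases hna : inN a <;> by_cases hnb : inN b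
    · rw [hε1 _ (P2 a b hna hnb), hε1 a hna, hε1 b hnb]; norm_num
    · rw [hε2 _ (P3 a b hna hnb), hε1 a hna, hε2 b hnb]; norm_num
    · have hcm : a * b = b * a := hc.cen a ha b (hc.hZX hb)
      rw [hcm, hε2 _ (P3 b a hnb hna), hε2 a hna, hε1 b hnb]; norm_num
    · rw [hε1 _ (P1 a ha b hb hna hnb), hε2 a hna, hε2 b hnb]; norm_num
  -- the inner sums
  have hS : ∀ u : ↥X, (∑ x : ↥X, ε ⁅(u : G), (x : G)⁆)
      = if (u : G) ∈ Z then (Fintype.card ↥X : ℤ) else 0 := by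
    intro u
    split_ifs with hu
    · have h1 : ∀ x : ↥X, ε ⁅(u : G), (x : G)⁆ = 1 := by
        intro x
        apply hε1
        left
        rw [SpCtx.comm_eq_one_iff]
        exact hc.cen _ hu _ x.2
      rw [Finset.sum_congr rfl (fun x _ => h1 x)]
      simp
    · have hr := hon (u : G) u.2 hu
      have hmem : (⟨z1, hz1⟩ : ↥Z) ∈ (commHom hc (u : G) u.2).range := by
        rw [hr]; exact Subgroup.mem_top _
      obtain ⟨x0, hx0⟩ := hmem
      have hx0' : ⁅(u : G), (x0 : G)⁆ = z1 := by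
        have := congrArg Subtype.val hx0
        rwa [commHom_apply] at this
      have hεx0 : ε ⁅(u : G), (x0 : G)⁆ = -1 := by
        apply hε2
        rw [hx0']
        simp only [inN, not_or]
        exact ⟨hz11, hz10⟩
      have h1 : (∑ x : ↥X, ε ⁅(u : G), (x : G)⁆)
          = ∑ x : ↥X, ε ⁅(u : G), ((x * x0 : ↥X) : G)⁆ :=
        (Equiv.sum_comp (Equiv.mulRight x0) (fun x : ↥X => ε ⁅(u : G), (x : G)⁆)).symm
      have h2 : ∀ x : ↥X, ε ⁅(u : G), ((x * x0 : ↥X) : G)⁆ = - ε ⁅(u : G), (x : G)⁆ := by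
        intro x
        rw [Subgroup.coe_mul, hc.comm_mul_right u.2 x.2 x0.2,
          hεmul _ (hc.comm _ u.2 _ x.2) _ (hc.comm _ u.2 _ x0.2), hεx0]
        ring
      rw [Finset.sum_congr rfl (fun x _ => h2 x), Finset.sum_neg_distrib] at h1
      omega
  -- the count of central elements
  have hcount : (∑ u : ↥X, (if (u : G) ∈ Z then (Fintype.card ↥X : ℤ) else 0))
      = 4 * (Fintype.card ↥X : ℤ) := by
    rw [← Finset.sum_filter, Finset.sum_const]
    have h1 : (Finset.univ.filter (fun u : ↥X => (u : G) ∈ Z)).card = 4 := by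
      have h2 : (Finset.univ.filter (fun u : ↥X => (u : G) ∈ Z)).card
          = Nat.card (Z.subgroupOf X) := by
        rw [Nat.card_eq_fintype_card, Fintype.card_subtype]
        rfl
      rw [h2, Nat.card_congr (Subgroup.subgroupOfEquivOfLe hc.hZX).toEquiv]
      exact hc.card
    rw [h1]
    simp
  refine ⟨∑ x : ↥X, ε ((x : G) ^ 2), ?_⟩
  rw [Nat.card_eq_fintype_card, pow_two, Finset.sum_mul_sum]
  have h1 : ∀ x : ↥X, (∑ y : ↥X, ε ((x : G) ^ 2) * ε ((y : G) ^ 2))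
      = ∑ u : ↥X, ε ((u : G) ^ 2) * ε ⁅(u : G), (x : G)⁆ := by
    intro x
    have h2 : (∑ y : ↥X, ε ((x : G) ^ 2) * ε ((y : G) ^ 2))
        = ∑ u : ↥X, ε ((x : G) ^ 2) * ε (((x * u : ↥X) : G) ^ 2) :=
      (Equiv.sum_comp (Equiv.mulLeft x) (fun y : ↥X => ε ((x : G) ^ 2) * ε ((y : G) ^ 2))).symm
    rw [h2]
    apply Finset.sum_congr rfl
    intro u _
    rw [Subgroup.coe_mul, hc.sq_mul x.2 u.2,
      hεmul _ (Z.mul_mem (hc.sq _ x.2) (hc.sq _ u.2)) _ (hc.comm _ u.2 _ x.2),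
      hεmul _ (hc.sq _ x.2) _ (hc.sq _ u.2)]
    calc ε ((x : G) ^ 2) * (ε ((x : G) ^ 2) * ε ((u : G) ^ 2) * ε ⁅(u : G), (x : G)⁆)
        = (ε ((x : G) ^ 2) * ε ((x : G) ^ 2)) * (ε ((u : G) ^ 2) * ε ⁅(u : G), (x : G)⁆) := by
          ring
      _ = ε ((u : G) ^ 2) * ε ⁅(u : G), (x : G)⁆ := by rw [hεsq, one_mul]
  rw [Finset.sum_congr rfl (fun x _ => h1 x), Finset.sum_comm]
  have h3 : ∀ u : ↥X, (∑ x : ↥X, ε ((u : G) ^ 2) * ε ⁅(u : G), (x : G)⁆)
      = if (u : G) ∈ Z then (Fintype.card ↥X : ℤ) else 0 := by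
    intro u
    rw [← Finset.mul_sum, hS u]
    split_ifs with hu
    · have : ε ((u : G) ^ 2) = 1 := by
        apply hε1; left; exact hc.exp _ hu
      rw [this, one_mul]
    · rw [mul_zero]
  rw [Finset.sum_congr rfl (fun u _ => h3 u), hcount]

end SpCtx

end Cfsg.Agent.Lib.Helper4.Ngp
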