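import Mathlib
import Cfsg.Agent.Lib.Helper5.NgpNE1gs
import Cfsg.Agent.Lib.Helper5.NgpNE1lba
import Cfsg.Agent.Lib.Helper2.SmTwoPT

set_option autoImplicit false

/-! S1904, package NE1, part lbb: `|X| ≠ 32`. -/

namespace Cfsg.Agent.Lib.Helper4.Ngp

open Cfsg.Agent.Lib.Helper8.SmTwo
open scoped commutatorElement

universe u

variable {G : Type u} [Group G]

/-- no integer has square `128` -/
theorem ne1_sq_ne_128 (T : ℤ) : T ^ 2 ≠ 128 := by
  intro h
  have h1 : (T.natAbs : ℤ) ^ 2 = 128 := by rw [Int.natAbs_sq]; exact h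
  have h2 : T.natAbs ^ 2 = 128 := by exact_mod_cast h1
  have h3 : T.natAbs < 12 := by nlinarith
  interval_cases T.natAbs <;> omega

/-- no integer has square `512` -/
theorem ne1_sq_ne_512 (T : ℤ) : T ^ 2 ≠ 512 := by
  intro h
  have h1 : (T.natAbs : ℤ) ^ 2 = 512 := by rw [Int.natAbs_sq]; exact h
  have h2 : T.natAbs ^ 2 = 512 := by exact_mod_cast h1
  have h3 : T.natAbs < 23 := by nlinarith
  interval_cases T.natAbs <;> omega

theorem ne1_card_sup_ge [Finite G] {W : Subgroup G} {y : G} (hyW : y ∉ W) :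
    2 * Nat.card W ≤ Nat.card (W ⊔ Subgroup.zpowers y : Subgroup G) := by
  have hle : W ≤ W ⊔ Subgroup.zpowers y := le_sup_left
  have hdvd := Subgroup.card_dvd_of_le hle
  obtain ⟨m, hm⟩ := hdvd
  have hpos : 0 < Nat.card W := Nat.card_pos
  have hm1 : m ≠ 1 := by
    intro h1
    rw [h1, mul_one] at hm
    have := Subgroup.eq_of_le_of_card_ge hle (le_of_eq hm)
    apply hyW
    rw [this]
    exact (le_sup_right : Subgroup.zpowers y ≤ W ⊔ Subgroup.zpowers y) (Subgroup.mem_zpowers y)
  have hm0 : m ≠ 0 := by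
    intro h0
    rw [h0, mul_zero] at hm
    have : 0 < Nat.card (W ⊔ Subgroup.zpowers y : Subgroup G) := Nat.card_pos
    omega
  have hm2 : 2 ≤ m := by omega
  rw [hm]
  calc 2 * Nat.card W = Nat.card W * 2 := mul_comm _ _
    _ ≤ Nat.card W * m := Nat.mul_le_mul_left _ hm2

theorem card_ne_32 [Finite G] (X A : Subgroup G) (h : Hyp X A)
    (hc : SpCtx X (X ⊓ Subgroup.centralizer (X : Set G))) : Nat.card X ≠ 32 := by
  classical
  intro h32
  set Z := X ⊓ Subgroup.centralizer (X : Set G) with hZ
  -- step 1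
  have hex : ∃ (u : G) (hu : u ∈ X), u ∉ Z ∧ (commHom hc u hu).range ≠ ⊤ := by
    by_contra hcon
    push_neg at hcon
    obtain ⟨T, hT⟩ := hc.gauss_sum (fun x hx hxZ => hcon x hx hxZ)
    rw [h32] at hT
    exact ne1_sq_ne_128 T (by rw [hT]; norm_num)
  obtain ⟨u, hu, huZ, hr⟩ := hex
  have hdvd := card_range_commHom_dvd hc u hu
  have hmul := card_eq_range_mul_centralizer hc u hu
  set B : Subgroup G := X ⊓ Subgroup.centralizer ({u} : Set G) with hB
  have hBmem : ∀ w, w ∈ B ↔ w ∈ X ∧ u * w = w * u := by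
    intro w
    rw [hB, Subgroup.mem_inf, Subgroup.mem_centralizer_iff]
    constructor
    · rintro ⟨h1, h2⟩
      exact ⟨h1, h2 u rfl⟩
    · rintro ⟨h1, h2⟩
      refine ⟨h1, fun g hg => ?_⟩
      rw [Set.mem_singleton_iff] at hg
      rw [hg]; exact h2
  have hr4 : Nat.card (commHom hc u hu).range ≠ 4 := by
    intro h4
    apply hr
    rw [← Subgroup.card_eq_iff_eq_top, h4, hc.card]
  have hr12 : Nat.card (commHom hc u hu).range = 1 ∨ Nat.card (commHom hc u hu).range = 2 := by
    have hle : Nat.card (commHom hc u hu).range ≤ 4 := Nat.le_of_dvd (by norm_num) hdvd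
    have hpos : 0 < Nat.card (commHom hc u hu).range := Nat.card_pos
    generalize Nat.card (commHom hc u hu).range = r at *
    interval_cases r
    · left; rfl
    · right; rfl
    · exfalso; revert hdvd; decide
    · exact absurd rfl hr4
  have hBX : B ≤ X := inf_le_left
  have hBne : B ≠ X := by
    intro hBeq
    apply huZ
    apply hc.full u hu
    intro y hy
    have hyB : y ∈ B := by rw [hBeq]; exact hy
    exact ((hBmem y).mp hyB).2
  have hB16 : Nat.card B = 16 := by
    rcases hr12 with h1 | h2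
    · exfalso
      apply hBne
      apply Subgroup.eq_of_le_of_card_ge hBX
      rw [hmul, h1, one_mul]
    · rw [h2, h32] at hmul; omega
  have hidx : B.relIndex X = 2 := by
    have := pt_relIndex_mul_card hBX
    rw [hB16, h32] at this; omega
  have hZB : Z ≤ B := by
    intro z hz
    rw [hBmem]
    exact ⟨hc.hZX hz, (hc.cen z hz u hu).symm⟩
  have huB : u ∈ B := (hBmem u).mpr ⟨hu, rfl⟩
  -- step 3: B is abelian
  have hBab : ∀ a ∈ B, ∀ b ∈ B, a * b = b * a := by
    have hWB : Z ⊔ Subgroup.zpowers u ≤ B :=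
      sup_le hZB (by rw [Subgroup.zpowers_le]; exact huB)
    have hW8 : 8 ≤ Nat.card (Z ⊔ Subgroup.zpowers u : Subgroup G) := by
      have := ne1_card_sup_ge (W := Z) huZ
      rw [hc.card] at this; omega
    have hexy : ∃ y ∈ B, Z ⊔ Subgroup.zpowers u ⊔ Subgroup.zpowers y = B := by
      by_cases hWeq : Z ⊔ Subgroup.zpowers u = B
      · refine ⟨1, B.one_mem, ?_⟩
        rw [Subgroup.zpowers_one_eq_bot, sup_bot_eq]; exact hWeq
      · obtain ⟨y, hy, hyW, hW2B, hW2card⟩ := ne1_step hWB hWeq
        refine ⟨y, hy, ?_⟩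
        apply Subgroup.eq_of_le_of_card_ge hW2B
        rw [hB16]; omega
    obtain ⟨y, hyB, hS⟩ := hexy
    have hyX : y ∈ X := hBX hyB
    have huy : ⁅u, y⁆ = 1 := by
      rw [SpCtx.comm_eq_one_iff]; exact ((hBmem y).mp hyB).2
    intro a ha b hb
    have h1 := hc.comm_mem_zpowers hu hyX a (by rw [hS]; exact ha) b (by rw [hS]; exact hb)
    rw [huy, Subgroup.zpowers_one_eq_bot, Subgroup.mem_bot] at h1
    exact SpCtx.comm_eq_one_iff.mp h1
  -- step 4: A normalizes B
  have key : ∀ a ∈ A, ∀ b ∈ B, a * b * a⁻¹ ∈ B := by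
    intro a ha b hb
    set B' : Subgroup G := B.map (MulAut.conj a).toMonoidHom with hB'
    have hmemB' : ∀ g, g ∈ B' ↔ ∃ b ∈ B, a * b * a⁻¹ = g := by
      intro g
      rw [hB', Subgroup.mem_map]
      simp only [MulEquiv.coe_toMonoidHom, MulAut.conj_apply]
    have hB'X : B' ≤ X := by
      intro g hg
      obtain ⟨b, hb, rfl⟩ := (hmemB' g).mp hg
      exact conj_mem_of_mem_normalizer (h.hAX ha) (hBX hb)
    have hB'card : Nat.card B' = 16 := by
      rw [hB', Subgroup.card_map_of_injective (MulAut.conj a).injective]; exact hB16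
    have hB'ab : ∀ g1 ∈ B', ∀ g2 ∈ B', g1 * g2 = g2 * g1 := by
      intro g1 hg1 g2 hg2
      obtain ⟨b1, hb1, rfl⟩ := (hmemB' g1).mp hg1
      obtain ⟨b2, hb2, rfl⟩ := (hmemB' g2).mp hg2
      have := hBab b1 hb1 b2 hb2
      calc a * b1 * a⁻¹ * (a * b2 * a⁻¹) = a * (b1 * b2) * a⁻¹ := by group
        _ = a * (b2 * b1) * a⁻¹ := by rw [this]
        _ = a * b2 * a⁻¹ * (a * b1 * a⁻¹) := by group
    have hBB' : B' = B := by
      by_contra hne
      -- B ⊔ B' = X
      have hsupX : B ⊔ B' ≤ X := sup_le hBX hB'X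
      have hnle : ¬ B' ≤ B := by
        intro hle
        apply hne
        apply Subgroup.eq_of_le_of_card_ge hle
        rw [hB16, hB'card]
      have hsup : B ⊔ B' = X := by
        apply Subgroup.eq_of_le_of_card_ge hsupX
        have hle : B ≤ B ⊔ B' := le_sup_left
        obtain ⟨m, hm⟩ := Subgroup.card_dvd_of_le hle
        have hm1 : m ≠ 1 := by
          intro h1
          rw [h1, mul_one] at hm
          have := Subgroup.eq_of_le_of_card_ge hle (le_of_eq hm)
          apply hnle
          rw [this]; exact le_sup_right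
        have hm0 : m ≠ 0 := by
          intro h0
          rw [h0, mul_zero] at hm
          have : 0 < Nat.card (B ⊔ B' : Subgroup G) := Nat.card_pos
          omega
        have hm2 : 2 ≤ m := by omega
        rw [h32, hm, hB16]
        omega
      -- B ⊓ B' ≤ Z
      have hinfZ : B ⊓ B' ≤ Z := by
        intro g hg
        rw [Subgroup.mem_inf] at hg
        apply hc.full g (hBX hg.1)
        intro y hy
        have hy' : y ∈ B ⊔ B' := by rw [hsup]; exact hy
        have hcen : B ⊔ B' ≤ Subgroup.centralizer ({g} : Set G) := by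
          apply sup_le
          · intro w hw
            rw [Subgroup.mem_centralizer_iff]
            intro k hk
            rw [Set.mem_singleton_iff] at hk
            rw [hk]; exact hBab g hg.1 w hw
          · intro w hw
            rw [Subgroup.mem_centralizer_iff]
            intro k hk
            rw [Set.mem_singleton_iff] at hk
            rw [hk]; exact hB'ab g hg.2 w hw
        have := hcen hy'
        rw [Subgroup.mem_centralizer_iff] at this
        exact this g rfl
      have hinfcard : Nat.card (B ⊓ B' : Subgroup G) ≤ 4 := by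
        have := Subgroup.card_le_of_le hinfZ
        rwa [hc.card] at this
      have hidx' : B'.relIndex X = 2 := by
        have := pt_relIndex_mul_card hB'X
        rw [hB'card, h32] at this; omega
      have h1 : (B ⊓ B').relIndex X ≤ 4 := by
        have := Subgroup.relIndex_inf_le (H := B) (K := B') (L := X)
        rw [hidx, hidx'] at this
        exact this
      have h2 := pt_relIndex_mul_card (N := B ⊓ B') (Y := X) (inf_le_left.trans hBX)
      rw [h32] at h2
      nlinarith
    rw [← hBB']
    exact (hmemB' _).mpr ⟨b, hb, rfl⟩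
  have hAB : A ≤ Subgroup.normalizer (B : Set G) := by
    intro a ha
    refine mem_normalizer_of_conj_mem (key a ha) (fun k hk => ?_)
    have := key a⁻¹ (A.inv_mem ha) k hk
    simpa using this
  -- step 5
  have h5 := commutator_le_of_relIndex_two X A B hBX hidx h.hAX hAB
  rw [h.hcomm] at h5
  have h6 := Subgroup.card_le_of_le h5
  omega

end Cfsg.Agent.Lib.Helper4.Ngp
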