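import Mathlib
import Cfsg.Agent.Lib.Helper5.NgpNB2a2
import Cfsg.Agent.Lib.Helper5.NgpNE1lbb
import Cfsg.Agent.Lib.Helper4.NgpNG
import Cfsg.Agent.Lib.Helper4.NgpNCS
import Cfsg.Agent.Lib.Helper7.NgpNL

set_option autoImplicit false

/-! S1904, package NB2a: a non-central maximal invariant abelian subgroup is self-centralizing. -/

namespace Cfsg.Agent.Lib.Helper4.Ngp

open Cfsg.Agent.Lib.Helper8.SmTwo
open scoped commutatorElement

universe u

variable {G : Type u} [Group G]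

theorem CCtx.sq_mul {R Z : Subgroup G} (hc : CCtx R Z) {u v : G} (hu : u ∈ R) (hv : v ∈ R) :
    (u * v) ^ 2 = u ^ 2 * v ^ 2 * ⁅v, u⁆ := by
  have hcz := hc.cen _ (hc.comm v hv u hu)
  have h1 : v * u = ⁅v, u⁆ * (u * v) := by
    simp only [commutatorElement_def]; group
  calc (u * v) ^ 2 = u * (v * u) * v := by rw [pow_two]; group
    _ = u * (⁅v, u⁆ * (u * v)) * v := by rw [h1]
    _ = (u * ⁅v, u⁆) * (u * v * v) := by group
    _ = (⁅v, u⁆ * u) * (u * v * v) := by rw [hcz u hu]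
    _ = ⁅v, u⁆ * (u ^ 2 * v ^ 2) := by rw [pow_two, pow_two]; group
    _ = u ^ 2 * v ^ 2 * ⁅v, u⁆ := by
      rw [hcz _ (R.mul_mem (R.pow_mem hu 2) (R.pow_mem hv 2))]

theorem centralizer_eq_of_isMaxInvAb [Finite G] (X A U : Subgroup G) (h : Hyp X A)
    (hU : IsMaxInvAb X A U) (hnc : ¬ U ≤ Subgroup.centralizer (X : Set G)) :
    X ⊓ Subgroup.centralizer (U : Set G) = U := by
  classical
  obtain ⟨hInv, hab, hmax⟩ := hU
  obtain ⟨hUX, hXU, hAU⟩ := hInv
  have hInv : Inv X A U := ⟨hUX, hXU, hAU⟩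
  have hncA : ¬ A ≤ Subgroup.centralizer (U : Set G) := fun hc =>
    hnc (le_centralizer_of_le_centralizer X A U h.hcomm hInv hc)
  have L := lemma_L X A U h hInv hab hncA
  set E := om U 1 with hE
  set P := pw U 1 with hP
  have hmemE : ∀ g, g ∈ E ↔ g ∈ U ∧ g ^ 2 = 1 := by
    intro g
    rw [hE, mem_om hab 1 g, pow_one]
  have hmemP : ∀ g, g ∈ P ↔ ∃ u ∈ U, g = u ^ 2 := by
    intro g
    rw [hP, mem_pw hab 1 g, pow_one]
  have hEU : E ≤ U := om_le U 1
  have hPU : P ≤ U := pw_le U 1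
  have hE4 : Nat.card E = 4 := L.v4.1
  have hEexp : ∀ e ∈ E, e ^ 2 = 1 := L.v4.2
  have hEX : E ≤ X := hEU.trans hUX
  have hXE : X ≤ Subgroup.normalizer (E : Set G) := (hInv.om 1).2.1
  -- U ≠ E
  have hUE : ∃ u ∈ U, u ^ 2 ≠ 1 := by
    by_contra hcon
    push_neg at hcon
    apply hnc
    intro u hu
    rw [Subgroup.mem_centralizer_iff]
    intro x hx
    have huE : u ∈ E := (hmemE u).mpr ⟨hu, hcon u hu⟩
    have := L.cent hx
    rw [Subgroup.mem_centralizer_iff] at this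
    exact (this u huE).symm
  have hPne : P ≠ ⊥ := by
    obtain ⟨u, hu, hu2⟩ := hUE
    intro hbot
    apply hu2
    have : u ^ 2 ∈ P := (hmemP _).mpr ⟨u, hu, rfl⟩
    rw [hbot, Subgroup.mem_bot] at this
    exact this
  have hEP : E ≤ P := L.min P hPU (hInv.pw 1).2.2 hPne
  have hcardU : Nat.card U = 4 * Nat.card P := by
    have := card_om_mul_card_pw hab 1
    rw [← this]
    show Nat.card E * Nat.card P = 4 * Nat.card P
    rw [hE4]
  -- the contradiction hypothesis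
  by_contra hne
  set C : Subgroup G := X ⊓ Subgroup.centralizer (U : Set G) with hC
  have hCmem : ∀ c, c ∈ C ↔ c ∈ X ∧ ∀ u ∈ U, c * u = u * c := by
    intro c
    rw [hC, Subgroup.mem_inf, Subgroup.mem_centralizer_iff]
    constructor
    · rintro ⟨h1, h2⟩
      exact ⟨h1, fun u hu => (h2 u hu).symm⟩
    · rintro ⟨h1, h2⟩
      exact ⟨h1, fun u hu => (h2 u hu).symm⟩
  have hUC : U ≤ C := by
    intro u hu
    rw [hCmem]
    exact ⟨hUX hu, fun v hv => hab u hu v hv⟩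
  have hXC : X ≤ Subgroup.normalizer (C : Set G) := by
    intro x hx
    have key : ∀ x ∈ X, ∀ c ∈ C, x * c * x⁻¹ ∈ C := by
      intro x hx c hc
      rw [hCmem] at hc ⊢
      refine ⟨X.mul_mem (X.mul_mem hx hc.1) (X.inv_mem hx), ?_⟩
      intro u hu
      have hu' : x⁻¹ * u * x ∈ U := conj_inv_mem_of_mem_normalizer (hXU hx) hu
      have := hc.2 _ hu'
      calc x * c * x⁻¹ * u = x * (c * (x⁻¹ * u * x)) * x⁻¹ := by group
        _ = x * ((x⁻¹ * u * x) * c) * x⁻¹ := by rw [this]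
        _ = u * (x * c * x⁻¹) := by group
    refine mem_normalizer_of_conj_mem (key x hx) (fun c hc => ?_)
    have := key x⁻¹ (X.inv_mem hx) c hc
    simpa using this
  obtain ⟨c0, hc0C, hc0U, hc0sq, hc0x⟩ :=
    exists_central_section_elt X U C h.hX hUC inf_le_left hXU hXC (Ne.symm hne)
  set R := secR X U with hR
  have hUR : U ≤ R := le_secR hUX hab hXU
  have hc0R : c0 ∈ R := ⟨((hCmem c0).mp hc0C).1, ((hCmem c0).mp hc0C).2, hc0sq, hc0x⟩
  have hRne : U ≠ R := fun heq => hc0U (heq ▸ hc0R)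
  have hRInv : Inv X A R := ⟨secR_le, secR_normalizer_X hUR, secR_normalizer_A h.hAX hAU⟩
  have hRnab : ¬ IsAb R := fun hRab => hRne (hmax R hRInv hRab hUR).symm
  -- commutator context of R
  have hcc : CCtx R E := by
    refine ⟨hEU.trans hUR, ?_, ?_, hEexp⟩
    · intro e he r hr
      exact (hr.2.1 e (hEU he)).symm
    · intro r hr s hs
      rw [hmemE]
      have hcU : ⁅r, s⁆ ∈ U := hr.2.2.2 s hs.1
      refine ⟨hcU, ?_⟩
      have h1 : ⁅r * r, s⁆ = (r * ⁅r, s⁆ * r⁻¹) * ⁅r, s⁆ := by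
        simp only [commutatorElement_def]; group
      have h2 : r * ⁅r, s⁆ * r⁻¹ = ⁅r, s⁆ := by
        rw [hr.2.1 _ hcU, mul_inv_cancel_right]
      have h3 : ⁅r * r, s⁆ = 1 := by
        rw [CCtx.cc_comm_eq_one_iff]
        have := hs.2.1 _ hr.2.2.1
        rw [pow_two] at this
        exact this.symm
      rw [pow_two, ← h3, h1, h2]
  -- Claim 1
  have claim1 : ∀ d ∈ R, d ^ 2 ∈ P → d ∈ U := by
    intro d hd hdP
    obtain ⟨u, hu, hdu⟩ := (hmemP _).mp hdP
    have huR : u ∈ R := hUR hu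
    set t := d * u⁻¹ with ht
    have htR : t ∈ R := R.mul_mem hd (R.inv_mem huR)
    have ht2 : t ^ 2 = 1 := by
      have hcm : Commute d u⁻¹ := hd.2.1 _ (U.inv_mem hu)
      rw [ht, hcm.mul_pow, hdu, inv_pow, mul_inv_cancel]
    have htE : ∀ e ∈ E, e * t = t * e := fun e he => (htR.2.1 e (hEU he)).symm
    have hconj : ∀ x ∈ X, ∃ e ∈ E, x * t * x⁻¹ = e * t := by
      intro x hx
      have hwU : (⁅t, x⁆)⁻¹ ∈ U := U.inv_mem (htR.2.2.2 x hx)
      have h1 : x * t * x⁻¹ = (⁅t, x⁆)⁻¹ * t := by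
        simp only [commutatorElement_def]; group
      refine ⟨(⁅t, x⁆)⁻¹, ?_, h1⟩
      rw [hmemE]
      refine ⟨hwU, ?_⟩
      have h2 : (x * t * x⁻¹) ^ 2 = 1 := by
        rw [conj_pow, ht2, mul_one, mul_inv_cancel]
      have hcm : Commute (⁅t, x⁆)⁻¹ t := (htR.2.1 _ hwU).symm
      rw [h1, hcm.mul_pow, ht2, mul_one] at h2
      exact h2
    have htE' : t ∈ E :=
      nb2a_involution_mem h.hN hEX hXE hE4 hEexp htR.1 ht2 htE hconj
    have hd' : d = t * u := by rw [ht]; group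
    rw [hd']
    exact U.mul_mem (hEU htE') hu
  -- counting
  have hcount : Nat.card R ≤ 4 * Nat.card U := by
    have h1 := nb2a_card_le (R := R) (U := U) (P := P) hUR hPU (fun d hd => hd.2.2.1)
      (by
        intro d hd d' hd' hw
        have hcm : Commute d (d⁻¹ * d') := hd.2.1 _ hw
        have h2 : d' = d * (d⁻¹ * d') := by group
        have h3 : d' ^ 2 = d ^ 2 * (d⁻¹ * d') ^ 2 := by
          conv_lhs => rw [h2]
          exact hcm.mul_pow 2
        rw [h3, inv_mul_cancel_left]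
        exact (hmemP _).mpr ⟨_, hw, rfl⟩)
      (by
        intro d hd d' hd' hw
        have hwR : d⁻¹ * d' ∈ R := R.mul_mem (R.inv_mem hd) hd'
        apply claim1 _ hwR
        have h2 : d' = d * (d⁻¹ * d') := by group
        have h3 : d' ^ 2 = d ^ 2 * (d⁻¹ * d') ^ 2 * ⁅d⁻¹ * d', d⁆ := by
          conv_lhs => rw [h2]
          exact hcc.sq_mul hd hwR
        rw [h3] at hw
        have h4 : (d ^ 2)⁻¹ * (d ^ 2 * (d⁻¹ * d') ^ 2 * ⁅d⁻¹ * d', d⁆)
            = (d⁻¹ * d') ^ 2 * ⁅d⁻¹ * d', d⁆ := by group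
        rw [h4] at hw
        have h5 : ⁅d⁻¹ * d', d⁆ ∈ P := hEP (hcc.comm _ hwR _ hd)
        have h6 := P.mul_mem hw (P.inv_mem h5)
        rwa [mul_inv_cancel_right] at h6)
    rw [hcardU] at h1
    have hPpos : 0 < Nat.card P := Nat.card_pos
    have h2 : Nat.card R * Nat.card P ≤ (4 * Nat.card U) * Nat.card P := by
      calc Nat.card R * Nat.card P ≤ 4 * Nat.card P * Nat.card U := by
            rw [hcardU]; exact h1
        _ = (4 * Nat.card U) * Nat.card P := by ring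
    exact Nat.le_of_mul_le_mul_right h2 hPpos
  -- generators
  have hgen : ∃ d1 ∈ R, ∃ d2 ∈ R, U ⊔ Subgroup.zpowers d1 ⊔ Subgroup.zpowers d2 = R := by
    obtain ⟨d1, hd1, hd1U, hW1R, hW1card⟩ := ne1_step hUR hRne
    by_cases h1 : U ⊔ Subgroup.zpowers d1 = R
    · refine ⟨d1, hd1, 1, R.one_mem, ?_⟩
      rw [Subgroup.zpowers_one_eq_bot, sup_bot_eq]; exact h1
    · obtain ⟨d2, hd2, hd2W, hW2R, hW2card⟩ := ne1_step hW1R h1
      refine ⟨d1, hd1, d2, hd2, ?_⟩
      apply Subgroup.eq_of_le_of_card_ge hW2R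
      omega
  obtain ⟨d1, hd1, d2, hd2, hS⟩ := hgen
  have hUcen : ∀ v ∈ U, ∀ r ∈ R, v * r = r * v := fun v hv r hr => (hr.2.1 v hv).symm
  have hall := hcc.comm_mem_zpowers hUR hUcen hd1 hd2
  rw [hS] at hall
  set c := ⁅d1, d2⁆ with hcdef
  have hcE : c ∈ E := hcc.comm d1 hd1 d2 hd2
  have hc2 : c ^ 2 = 1 := hEexp c hcE
  have hc1 : c ≠ 1 := by
    intro hc1
    apply hRnab
    intro a ha b hb
    have := hall a ha b hb
    rw [hc1, Subgroup.zpowers_one_eq_bot, Subgroup.mem_bot] at this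
    exact CCtx.cc_comm_eq_one_iff.mp this
  -- c is fixed by A
  have hfix : c ∈ U ⊓ Subgroup.centralizer (A : Set G) := by
    rw [Subgroup.mem_inf]
    refine ⟨hEU hcE, ?_⟩
    rw [Subgroup.mem_centralizer_iff]
    intro a ha
    have h1 : a * c * a⁻¹ = ⁅a * d1 * a⁻¹, a * d2 * a⁻¹⁆ := by
      rw [hcdef]; simp only [commutatorElement_def]; group
    have h2 : a * c * a⁻¹ ∈ Subgroup.zpowers c := by
      rw [h1]
      exact hall _ (conj_mem_of_mem_normalizer (hRInv.2.2 ha) hd1) _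
        (conj_mem_of_mem_normalizer (hRInv.2.2 ha) hd2)
    rw [pt_mem_zpowers_of_sq hc2] at h2
    rcases h2 with h2 | h2
    · exfalso
      apply hc1
      have : c = a⁻¹ * (a * c * a⁻¹) * a := by group
      rw [this, h2]; group
    · calc a * c = (a * c * a⁻¹) * a := by group
        _ = c * a := by rw [h2]
  rw [L.fix, Subgroup.mem_bot] at hfix
  exact hc1 hfix

end Cfsg.Agent.Lib.Helper4.Ngp
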