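import Mathlib
import Cfsg.Agent.Lib.Helper5.NgpNE1lbb

set_option autoImplicit false

/-! S1904, package NE1: a special `2`-group `X` with centre of order `4` satisfying `Hyp X A` has
order `64` and exactly three involutions, all central. -/

namespace Cfsg.Agent.Lib.Helper4.Ngp

open Cfsg.Agent.Lib.Helper8.SmTwo
open scoped commutatorElement

universe u

variable {G : Type u} [Group G]

namespace SpCtx

variable {X Z : Subgroup G}

theorem card_le [Finite G] (hc : SpCtx X Z) (hX : IsPGroup 2 X) : Nat.card X ≤ 64 := by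
  by_contra hgt
  push_neg at hgt
  have hfact : Fact (Nat.Prime 2) := ⟨Nat.prime_two⟩
  -- every non-central element has a surjective commutator homomorphism
  have hon : ∀ (x : G) (hx : x ∈ X), x ∉ Z → (commHom hc x hx).range = ⊤ := by
    intro x hx hxZ
    have hdvd := card_range_commHom_dvd hc x hx
    have hmul := card_eq_range_mul_centralizer hc x hx
    have hC := hc.card_centralizer_le hx hxZ
    rw [← Subgroup.card_eq_iff_eq_top, hc.card]
    have hle : Nat.card (commHom hc x hx).range ≤ 4 := Nat.le_of_dvd (by norm_num) hdvd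
    generalize Nat.card (commHom hc x hx).range = r at *
    generalize Nat.card (X ⊓ Subgroup.centralizer ({x} : Set G) : Subgroup G) = c at *
    interval_cases r
    · omega
    · omega
    · omega
    · exfalso; revert hdvd; decide
    · rfl
  obtain ⟨T, hT⟩ := hc.gauss_sum hon
  -- |X| = 128
  obtain ⟨x, hx, hxZ⟩ := hc.ne_center
  have hmul := card_eq_range_mul_centralizer hc x hx
  have hC := hc.card_centralizer_le hx hxZ
  have hr : Nat.card (commHom hc x hx).range = 4 := by
    rw [hon x hx hxZ, Subgroup.card_top]; exact hc.card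
  have hle : Nat.card X ≤ 128 := by rw [hmul, hr]; omega
  obtain ⟨k, hk⟩ := hX.exists_card_eq
  have hk7 : k = 7 := by
    have h1 : 2 ^ 6 < 2 ^ k := by rw [← hk]; exact hgt
    have h2 : 2 ^ k ≤ 2 ^ 7 := by rw [← hk]; exact hle
    have h3 : 6 < k := (Nat.pow_lt_pow_iff_right (by norm_num)).mp h1
    have h4 : k ≤ 7 := (Nat.pow_le_pow_iff_right (by norm_num)).mp h2
    omega
  rw [hk, hk7] at hT
  exact ne1_sq_ne_512 T (by rw [hT]; norm_num)

end SpCtx

theorem card_of_special_four [Finite G] (X A : Subgroup G) (h : Hyp X A) (hs : SpecialData X 4) :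
    Nat.card X = 64 ∧ Nat.card {t : G // t ∈ X ∧ orderOf t = 2} = 3 ∧
      ∀ t ∈ X, orderOf t = 2 → t ∈ Subgroup.centralizer (X : Set G) := by
  classical
  have hc := spCtx_of_special X A h hs
  set Z := X ⊓ Subgroup.centralizer (X : Set G) with hZ
  have hinvZ : ∀ t ∈ X, orderOf t = 2 → t ∈ Z := by
    intro t ht ho
    apply hc.anis t ht
    rw [← ho]; exact pow_orderOf_eq_one t
  refine ⟨?_, ?_, ?_⟩
  · have h1 := hc.card_le h.hX
    have h2 := hc.card_ge_32 h.hX
    have h3 := card_ne_32 X A h hc
    have hfact : Fact (Nat.Prime 2) := ⟨Nat.prime_two⟩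
    obtain ⟨k, hk⟩ := h.hX.exists_card_eq
    rw [hk] at h1 h2 h3 ⊢
    have h1' : 2 ^ k ≤ 2 ^ 6 := by norm_num; exact h1
    have h2' : 2 ^ 5 ≤ 2 ^ k := by norm_num; exact h2
    have h4 : k ≤ 6 := (Nat.pow_le_pow_iff_right (a := 2) (by norm_num)).mp h1'
    have h5 : 5 ≤ k := (Nat.pow_le_pow_iff_right (a := 2) (by norm_num)).mp h2'
    have h6 : k ≠ 5 := by
      intro h5'; apply h3; rw [h5']; norm_num
    have : k = 6 := by omega
    rw [this]; norm_num
  · have hset : {t : G | t ∈ X ∧ orderOf t = 2} = (Z : Set G) \ {1} := by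
      ext t
      constructor
      · rintro ⟨ht, ho⟩
        refine ⟨hinvZ t ht ho, ?_⟩
        rw [Set.mem_singleton_iff]
        intro h1
        rw [h1, orderOf_one] at ho
        omega
      · rintro ⟨htZ, ht1⟩
        rw [Set.mem_singleton_iff] at ht1
        refine ⟨hc.hZX htZ, ?_⟩
        exact orderOf_eq_prime (hc.exp t htZ) ht1
    show Nat.card ↥{t : G | t ∈ X ∧ orderOf t = 2} = 3
    rw [Nat.card_coe_set_eq, hset, Set.ncard_diff_singleton_of_mem (Z.one_mem)]
    have : (Z : Set G).ncard = 4 := by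
      rw [← Nat.card_coe_set_eq]; exact hc.card
    rw [this]
  · intro t ht ho
    exact (hinvZ t ht ho).2

end Cfsg.Agent.Lib.Helper4.Ngp
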