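import Mathlib
import Cfsg.Agent.Lib.Helper5.SchmDefs

/-!
# S4394, package PC2, part a: element-level form of `SE` and commutator calculus
-/

set_option autoImplicit false

namespace Cfsg.Agent.Lib.Helper5.Schm

universe u

variable {G : Type u} [Group G]

/-- `SE` for a subgroup `S` of `G`, stated with elements of `G`. -/
structure SEin (p : ℕ) (S : Subgroup G) : Prop where
  cls : ∀ x ∈ S, ∀ y ∈ S, ∀ z ∈ S, (x * y * x⁻¹ * y⁻¹) * z = z * (x * y * x⁻¹ * y⁻¹)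
  pw : ∀ x ∈ S, ∀ z ∈ S, x ^ p * z = z * x ^ p
  semi : ∀ y ∈ S, (∃ x ∈ S, y * x ≠ x * y) → ∀ z ∈ S, (∀ x ∈ S, z * x = x * z) →
    ∃ g ∈ S, y * g * y⁻¹ * g⁻¹ = z
  exp : p ≠ 2 → ∀ x ∈ S, x ^ p = 1
  small : p ≤ 3 → ¬ (Nat.card S = p ^ 3 ∧
    ∃ R : Subgroup G, R ≤ S ∧ Nat.card R = p ^ 2 ∧ ∀ x ∈ R, x ^ p = 1)

theorem SEin.of_SE {p : ℕ} {S : Subgroup G} (h : SE p ↥S) : SEin p S where
  cls := by
    intro x hx y hy z hz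
    have h1 := h.cls ⟨x, hx⟩ ⟨y, hy⟩ ⟨z, hz⟩
    exact congrArg Subtype.val h1
  pw := by
    intro x hx z hz
    have h1 := h.pw ⟨x, hx⟩ ⟨z, hz⟩
    exact congrArg Subtype.val h1
  semi := by
    intro y hy hnc z hz hzc
    obtain ⟨x, hx, hxy⟩ := hnc
    have h1 : ∃ x' : ↥S, (⟨y, hy⟩ : ↥S) * x' ≠ x' * ⟨y, hy⟩ := by
      refine ⟨⟨x, hx⟩, ?_⟩
      intro hcon
      exact hxy (congrArg Subtype.val hcon)
    have h2 : ∀ x' : ↥S, (⟨z, hz⟩ : ↥S) * x' = x' * ⟨z, hz⟩ := by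
      intro x'
      exact Subtype.ext (hzc x' x'.2)
    obtain ⟨g, hg⟩ := h.semi ⟨y, hy⟩ h1 ⟨z, hz⟩ h2
    exact ⟨g, g.2, congrArg Subtype.val hg⟩
  exp := by
    intro hp x hx
    have h1 := h.exp hp ⟨x, hx⟩
    exact congrArg Subtype.val h1
  small := by
    intro hp3 hcon
    apply h.small hp3
    obtain ⟨hcard, R, hRS, hRcard, hRexp⟩ := hcon
    refine ⟨hcard, R.subgroupOf S, ?_, ?_⟩
    · rw [Nat.card_congr (Subgroup.subgroupOfEquivOfLe hRS).toEquiv]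
      exact hRcard
    · intro x hx
      have h1 := hRexp (x : G) (Subgroup.mem_subgroupOf.mp hx)
      apply Subtype.ext
      rw [Subgroup.coe_pow, h1]
      rfl

/-! ### commutators that are central -/

/-- `⁅x, a b⁆ = ⁅x, a⁆ ⁅x, b⁆` when `⁅x, b⁆` commutes with `a`. -/
theorem cm_mul_right (x a b : G) (h : (x * b * x⁻¹ * b⁻¹) * a = a * (x * b * x⁻¹ * b⁻¹)) :
    x * (a * b) * x⁻¹ * (a * b)⁻¹ = (x * a * x⁻¹ * a⁻¹) * (x * b * x⁻¹ * b⁻¹) := by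
  have h1 : x * (a * b) * x⁻¹ * (a * b)⁻¹ = (x * a * x⁻¹ * a⁻¹) * (a * (x * b * x⁻¹ * b⁻¹)) * a⁻¹ := by
    group
  rw [h1, ← h]; group

/-- `⁅x, a ^ i⁆ = ⁅x, a⁆ ^ i` when `⁅x, a⁆` commutes with `a`. -/
theorem cm_pow_right (x a : G) (h : (x * a * x⁻¹ * a⁻¹) * a = a * (x * a * x⁻¹ * a⁻¹)) (i : ℕ) :
    x * a ^ i * x⁻¹ * (a ^ i)⁻¹ = (x * a * x⁻¹ * a⁻¹) ^ i := by
  induction i with
  | zero => simp
  | succ i ih =>
    have hc : Commute (x * a * x⁻¹ * a⁻¹) a := h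
    have h2 : (x * a * x⁻¹ * a⁻¹) * a ^ i = a ^ i * (x * a * x⁻¹ * a⁻¹) := (hc.pow_right i).eq
    rw [pow_succ a i, cm_mul_right x (a ^ i) a h2, ih, pow_succ]

/-- `⁅a b, x⁆ = ⁅b, x⁆ ⁅a, x⁆` when `⁅b, x⁆` commutes with `a`. -/
theorem cm_mul_left (a b x : G) (h : (b * x * b⁻¹ * x⁻¹) * a = a * (b * x * b⁻¹ * x⁻¹)) :
    (a * b) * x * (a * b)⁻¹ * x⁻¹ = (b * x * b⁻¹ * x⁻¹) * (a * x * a⁻¹ * x⁻¹) := by
  have h1 : (a * b) * x * (a * b)⁻¹ * x⁻¹ = (a * (b * x * b⁻¹ * x⁻¹)) * x * a⁻¹ * x⁻¹ := by group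
  rw [h1, ← h]; group

end Cfsg.Agent.Lib.Helper5.Schm
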