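import Mathlib
import Cfsg.Agent.Lib.Helper5.SchmC2a
import Cfsg.Agent.Lib.Lead.CoprimeAction3

/-!
# S4394, package PC2, part b: the context and steps 0-4
-/

set_option autoImplicit false

namespace Cfsg.Agent.Lib.Helper5.Schm

universe u

/-- The centre of `S`, as a subgroup of `G`. -/
def ZS {G : Type u} [Group G] (S : Subgroup G) : Subgroup G :=
  Subgroup.centralizer (S : Set G) ⊓ S

theorem mem_ZS {G : Type u} [Group G] {S : Subgroup G} {z : G} :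
    z ∈ ZS S ↔ (∀ x ∈ S, x * z = z * x) ∧ z ∈ S := by
  unfold ZS
  rw [Subgroup.mem_inf, Subgroup.mem_centralizer_iff]
  rfl

/-- The working context: `R` plays `O_p(G)`. -/
structure Ctx (p : ℕ) (G : Type u) [Group G] (S R M : Subgroup G) (r : ℕ) (s : G) : Prop where
  se : SEin p S
  Sp : IsPGroup p S
  Rn : R.Normal
  RS : R ≤ S
  CR : Subgroup.centralizer (R : Set G) ≤ R
  rprime : r.Prime
  rne : r ≠ p
  Mr : IsPGroup r M
  sS : s ∈ S
  sM : s ∈ Subgroup.normalizer (M : Set G)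
  snc : s ∉ Subgroup.centralizer (M : Set G)
  decomp : ∀ x ∈ S, ∃ ρ ∈ R, ∃ h ∈ S ⊓ Subgroup.centralizer (M : Set G), ∃ i : ℕ,
    x = ρ * h * s ^ i
  minimal : ∀ N : Subgroup G, N ≤ M → N ≠ M → s ∈ Subgroup.normalizer (N : Set G) →
    s ∈ Subgroup.centralizer (N : Set G)

namespace Ctx

variable {p : ℕ} [hp : Fact p.Prime] {G : Type u} [Group G] [Finite G] {S R M : Subgroup G}
  {r : ℕ} {s : G}

theorem Rp (h : Ctx p G S R M r s) : IsPGroup p R := h.Sp.to_le h.RS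

theorem disj (h : Ctx p G S R M r s) {x : G} (hxM : x ∈ M) (hxR : x ∈ R) : x = 1 := by
  obtain ⟨k, hk⟩ := h.Mr ⟨x, hxM⟩
  obtain ⟨j, hj⟩ := h.Rp ⟨x, hxR⟩
  have hk' : x ^ r ^ k = 1 := by simpa using congrArg Subtype.val hk
  have hj' : x ^ p ^ j = 1 := by simpa using congrArg Subtype.val hj
  have h1 : orderOf x ∣ r ^ k := orderOf_dvd_of_pow_eq_one hk'
  have h2 : orderOf x ∣ p ^ j := orderOf_dvd_of_pow_eq_one hj'
  have hcop : (r ^ k).Coprime (p ^ j) :=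
    Nat.Coprime.pow _ _ ((Nat.coprime_primes h.rprime hp.out).mpr h.rne)
  exact orderOf_eq_one_iff.mp (Nat.eq_one_of_dvd_coprimes hcop h1 h2)

/-- conjugation by `s` preserves `M` -/
theorem conj_s_mem (h : Ctx p G S R M r s) {m : G} (hm : m ∈ M) : s * m * s⁻¹ ∈ M :=
  (Subgroup.mem_normalizer_iff.mp h.sM m).mp hm

theorem conj_s_inv_mem (h : Ctx p G S R M r s) {m : G} (hm : m ∈ M) : s⁻¹ * m * s ∈ M := by
  have h1 := (Subgroup.mem_normalizer_iff.mp h.sM (s⁻¹ * m * s)).mpr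
  apply h1
  have : s * (s⁻¹ * m * s) * s⁻¹ = m := by group
  rw [this]; exact hm

/-- commutators of elements of `S` are central in `S` -/
theorem cm_mem_ZS (h : Ctx p G S R M r s) {a b : G} (ha : a ∈ S) (hb : b ∈ S) :
    a * b * a⁻¹ * b⁻¹ ∈ ZS S := by
  rw [mem_ZS]
  refine ⟨fun x hx => (h.se.cls a ha b hb x hx).symm, ?_⟩
  exact S.mul_mem (S.mul_mem (S.mul_mem ha hb) (S.inv_mem ha)) (S.inv_mem hb)

theorem ZS_le_R (h : Ctx p G S R M r s) : ZS S ≤ R := by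
  intro z hz
  rw [mem_ZS] at hz
  apply h.CR
  rw [Subgroup.mem_centralizer_iff]
  intro x hx
  exact hz.1 x (h.RS hx)

/-- `s ^ p` is central in `S` -/
theorem sp_mem_ZS (h : Ctx p G S R M r s) : s ^ p ∈ ZS S := by
  rw [mem_ZS]
  exact ⟨fun x hx => (h.se.pw s h.sS x hx).symm, S.pow_mem h.sS p⟩

theorem sp_mem_R (h : Ctx p G S R M r s) : s ^ p ∈ R := h.ZS_le_R h.sp_mem_ZS

/-- `s ^ p` centralizes `M` -/
theorem sp_comm (h : Ctx p G S R M r s) {m : G} (hm : m ∈ M) : s ^ p * m = m * s ^ p := by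
  have hN : s ^ p ∈ Subgroup.normalizer (M : Set G) := Subgroup.pow_mem _ h.sM p
  have h1 : s ^ p * m * (s ^ p)⁻¹ ∈ M := (Subgroup.mem_normalizer_iff.mp hN m).mp hm
  have h2 : s ^ p * m * (s ^ p)⁻¹ * m⁻¹ ∈ M := M.mul_mem h1 (M.inv_mem hm)
  have h3 : s ^ p * m * (s ^ p)⁻¹ * m⁻¹ ∈ R := by
    haveI := h.Rn
    have h4 : m * (s ^ p)⁻¹ * m⁻¹ ∈ R :=
      Subgroup.Normal.conj_mem h.Rn _ (R.inv_mem h.sp_mem_R) m
    have h5 : s ^ p * m * (s ^ p)⁻¹ * m⁻¹ = s ^ p * (m * (s ^ p)⁻¹ * m⁻¹) := by group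
    rw [h5]; exact R.mul_mem h.sp_mem_R h4
  have h6 := h.disj h2 h3
  have h7 : s ^ p * m = (s ^ p * m * (s ^ p)⁻¹ * m⁻¹) * (m * s ^ p) := by group
  rw [h7, h6, one_mul]

/-- `s ^ (p * k)` conjugation on `M` is trivial -/
theorem conj_pow_p (h : Ctx p G S R M r s) {m : G} (hm : m ∈ M) :
    s ^ p * m * (s ^ p)⁻¹ = m := by
  rw [h.sp_comm hm]; group

/-- Step 2: `M` is generated by the commutators `⁅s, m⁆`. -/
theorem comm_gen (h : Ctx p G S R M r s) :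
    Subgroup.closure {x : G | ∃ m ∈ M, x = s * m * s⁻¹ * m⁻¹} = M := by
  haveI : Fact r.Prime := ⟨h.rprime⟩
  obtain ⟨N, hN⟩ : ∃ N : Subgroup G,
      N = Subgroup.closure {x : G | ∃ m ∈ M, x = s * m * s⁻¹ * m⁻¹} := ⟨_, rfl⟩
  rw [← hN]
  have hNM : N ≤ M := by
    rw [hN, Subgroup.closure_le]
    rintro _ ⟨m, hm, rfl⟩
    exact M.mul_mem (h.conj_s_mem hm) (M.inv_mem hm)
  by_contra hne
  have key : ∀ n ∈ Subgroup.closure {x : G | ∃ m ∈ M, x = s * m * s⁻¹ * m⁻¹},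
      s * n * s⁻¹ ∈ Subgroup.closure {x : G | ∃ m ∈ M, x = s * m * s⁻¹ * m⁻¹} := by
    intro n hn
    induction hn using Subgroup.closure_induction with
    | mem x hx =>
      obtain ⟨m, hm, rfl⟩ := hx
      apply Subgroup.subset_closure
      refine ⟨s * m * s⁻¹, h.conj_s_mem hm, ?_⟩
      group
    | one => simp
    | mul a b _ _ iha ihb =>
      have : s * (a * b) * s⁻¹ = (s * a * s⁻¹) * (s * b * s⁻¹) := by group
      rw [this]; exact Subgroup.mul_mem _ iha ihb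
    | inv a _ iha =>
      have : s * a⁻¹ * s⁻¹ = (s * a * s⁻¹)⁻¹ := by group
      rw [this]; exact Subgroup.inv_mem _ iha
  have hsN : s ∈ Subgroup.normalizer (N : Set G) := by
    apply Subgroup.mem_normalizer_fintype
    intro n hn
    have hn' : n ∈ N := hn
    show s * n * s⁻¹ ∈ N
    rw [hN] at hn' ⊢
    exact key n hn'
  have hsC := h.minimal N hNM hne hsN
  rw [Subgroup.mem_centralizer_iff] at hsC
  -- then `s` centralizes `M`
  apply h.snc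
  rw [Subgroup.mem_centralizer_iff]
  intro m hm
  -- n := s m s⁻¹ m⁻¹ ∈ N commutes with s
  have hnN : s * m * s⁻¹ * m⁻¹ ∈ N := by
    rw [hN]; exact Subgroup.subset_closure ⟨m, hm, rfl⟩
  have hns : (s * m * s⁻¹ * m⁻¹) * s = s * (s * m * s⁻¹ * m⁻¹) := hsC _ hnN
  -- s^k m s^-k = n^k m
  have hpow : ∀ k : ℕ, s ^ k * m * (s ^ k)⁻¹ = (s * m * s⁻¹ * m⁻¹) ^ k * m := by
    intro k
    induction k with
    | zero => simp
    | succ k ih =>
      have h1 : s ^ (k + 1) * m * (s ^ (k + 1))⁻¹ = s * (s ^ k * m * (s ^ k)⁻¹) * s⁻¹ := by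
        rw [pow_succ']; group
      rw [h1, ih]
      have hc : Commute (s * m * s⁻¹ * m⁻¹) s := hns
      have h2 : s * (s * m * s⁻¹ * m⁻¹) ^ k = (s * m * s⁻¹ * m⁻¹) ^ k * s :=
        ((hc.pow_left k).eq).symm
      have h3 : s * ((s * m * s⁻¹ * m⁻¹) ^ k * m) * s⁻¹ =
          (s * (s * m * s⁻¹ * m⁻¹) ^ k) * m * s⁻¹ := by group
      rw [h3, h2, pow_succ]
      group
  have h1 := hpow p
  rw [h.conj_pow_p hm] at h1
  have h2 : (s * m * s⁻¹ * m⁻¹) ^ p = 1 := by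
    have : (s * m * s⁻¹ * m⁻¹) ^ p * m = 1 * m := by rw [one_mul]; exact h1.symm
    exact mul_right_cancel this
  -- n ∈ M is an r-element with n^p = 1
  have hnM : s * m * s⁻¹ * m⁻¹ ∈ M := hNM hnN
  obtain ⟨k, hk⟩ := h.Mr ⟨_, hnM⟩
  have hk' : (s * m * s⁻¹ * m⁻¹) ^ r ^ k = 1 := by simpa using congrArg Subtype.val hk
  have hd1 : orderOf (s * m * s⁻¹ * m⁻¹) ∣ r ^ k := orderOf_dvd_of_pow_eq_one hk'
  have hd2 : orderOf (s * m * s⁻¹ * m⁻¹) ∣ p := orderOf_dvd_of_pow_eq_one h2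
  have hcop : (r ^ k).Coprime p :=
    Nat.Coprime.pow_left _ ((Nat.coprime_primes h.rprime hp.out).mpr h.rne)
  have h3 : s * m * s⁻¹ * m⁻¹ = 1 :=
    orderOf_eq_one_iff.mp (Nat.eq_one_of_dvd_coprimes hcop hd1 hd2)
  have h4 : m * s = (s * m * s⁻¹ * m⁻¹)⁻¹ * (s * m) := by group
  rw [h4, h3, inv_one, one_mul]

end Ctx

end Cfsg.Agent.Lib.Helper5.Schm
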