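import Mathlib
import Cfsg.Agent.Lib.Helper5.SchmC2b

/-!
# S4394, package PC2, part c: `Y = Z(R)`, steps 3-4
-/

set_option autoImplicit false

namespace Cfsg.Agent.Lib.Helper5.Schm

universe u

section YR

variable {G : Type u} [Group G]

/-- The centre of `R`, as a subgroup of `G`. -/
def YR (R : Subgroup G) : Subgroup G :=
  Subgroup.centralizer (R : Set G) ⊓ R

theorem mem_YR {R : Subgroup G} {y : G} :
    y ∈ YR R ↔ (∀ x ∈ R, x * y = y * x) ∧ y ∈ R := by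
  unfold YR
  rw [Subgroup.mem_inf, Subgroup.mem_centralizer_iff]
  rfl

instance YR_normal (R : Subgroup G) [R.Normal] : (YR R).Normal := by
  unfold YR
  infer_instance

theorem YR_le (R : Subgroup G) : YR R ≤ R := inf_le_right

theorem YR_comm {R : Subgroup G} {a b : G} (ha : a ∈ YR R) (hb : b ∈ YR R) : a * b = b * a :=
  ((mem_YR.mp hb).1 a (YR_le R ha))

/-- the elements of `G` acting trivially on `R / Z(R)` -/
def trivRY (R : Subgroup G) [R.Normal] : Subgroup G where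
  carrier := {g | ∀ x ∈ R, g * x * g⁻¹ * x⁻¹ ∈ YR R}
  mul_mem' := by
    intro a b ha hb x hx
    have h1 : a * b * x * (a * b)⁻¹ * x⁻¹ = a * (b * x * b⁻¹ * x⁻¹) * a⁻¹ * (a * x * a⁻¹ * x⁻¹) := by
      group
    rw [h1]
    exact (YR R).mul_mem (Subgroup.Normal.conj_mem inferInstance _ (hb x hx) a) (ha x hx)
  one_mem' := by
    intro x _
    have : (1 : G) * x * 1⁻¹ * x⁻¹ = 1 := by group
    rw [this]; exact (YR R).one_mem
  inv_mem' := by
    intro a ha x hx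
    have h1 : a⁻¹ * x * a⁻¹⁻¹ * x⁻¹ = a⁻¹ * (a * x * a⁻¹ * x⁻¹)⁻¹ * a⁻¹⁻¹ := by group
    rw [h1]
    exact Subgroup.Normal.conj_mem inferInstance _ ((YR R).inv_mem (ha x hx)) a⁻¹

theorem mem_trivRY {R : Subgroup G} [R.Normal] {g : G} :
    g ∈ trivRY R ↔ ∀ x ∈ R, g * x * g⁻¹ * x⁻¹ ∈ YR R := Iff.rfl

instance trivRY_normal (R : Subgroup G) [hR : R.Normal] : (trivRY R).Normal := by
  constructor
  intro g hg a
  rw [mem_trivRY] at hg ⊢
  intro x hx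
  have hx' : a⁻¹ * x * a⁻¹⁻¹ ∈ R := hR.conj_mem x hx a⁻¹
  have h1 : a * g * a⁻¹ * x * (a * g * a⁻¹)⁻¹ * x⁻¹ =
      a * (g * (a⁻¹ * x * a⁻¹⁻¹) * g⁻¹ * (a⁻¹ * x * a⁻¹⁻¹)⁻¹) * a⁻¹ := by group
  rw [h1]
  exact Subgroup.Normal.conj_mem inferInstance _ (hg _ hx') a

end YR

namespace Ctx

variable {p : ℕ} [hp : Fact p.Prime] {G : Type u} [Group G] [Finite G] {S R M : Subgroup G}
  {r : ℕ} {s : G}

theorem ZS_le_YR (h : Ctx p G S R M r s) : ZS S ≤ YR R := by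
  intro z hz
  rw [mem_YR]
  refine ⟨fun x hx => (mem_ZS.mp hz).1 x (h.RS hx), h.ZS_le_R hz⟩

theorem YR_le_S (h : Ctx p G S R M r s) : YR R ≤ S := (YR_le R).trans h.RS

/-- Step 3: `M` acts trivially on `R / Z(R)`. -/
theorem M_triv (h : Ctx p G S R M r s) {m : G} (hm : m ∈ M) {x : G} (hx : x ∈ R) :
    m * x * m⁻¹ * x⁻¹ ∈ YR R := by
  haveI := h.Rn
  have hs : s ∈ trivRY R := by
    rw [mem_trivRY]
    intro x hx
    exact h.ZS_le_YR (h.cm_mem_ZS h.sS (h.RS hx))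
  have hM : M ≤ trivRY R := by
    rw [← h.comm_gen, Subgroup.closure_le]
    rintro _ ⟨m, hm, rfl⟩
    have h1 : s * m * s⁻¹ * m⁻¹ = s * (m * s * m⁻¹)⁻¹ := by group
    rw [h1]
    exact (trivRY R).mul_mem hs ((trivRY R).inv_mem
      (Subgroup.Normal.conj_mem inferInstance s hs m))
  exact (mem_trivRY.mp (hM hm)) x hx

/-- Step 4: `M` acts faithfully on `Z(R)`. -/
theorem M_faith (h : Ctx p G S R M r s) {m : G} (hm : m ∈ M)
    (hc : ∀ y ∈ YR R, m * y = y * m) : m = 1 := by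
  haveI := h.Rn
  apply h.disj hm
  apply h.CR
  rw [Subgroup.mem_centralizer_iff]
  intro x hx
  -- y := m x m⁻¹ x⁻¹ ∈ Y commutes with m
  have hy : m * x * m⁻¹ * x⁻¹ ∈ YR R := h.M_triv hm hx
  have hym := hc _ hy
  have hpow : ∀ k : ℕ, m ^ k * x * (m ^ k)⁻¹ = (m * x * m⁻¹ * x⁻¹) ^ k * x := by
    intro k
    induction k with
    | zero => simp
    | succ k ih =>
      have h1 : m ^ (k + 1) * x * (m ^ (k + 1))⁻¹ = m * (m ^ k * x * (m ^ k)⁻¹) * m⁻¹ := by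
        rw [pow_succ']; group
      rw [h1, ih]
      have hcm : Commute m (m * x * m⁻¹ * x⁻¹) := hym
      have h2 : m * (m * x * m⁻¹ * x⁻¹) ^ k = (m * x * m⁻¹ * x⁻¹) ^ k * m := (hcm.pow_right k).eq
      have h3 : m * ((m * x * m⁻¹ * x⁻¹) ^ k * x) * m⁻¹ =
          (m * (m * x * m⁻¹ * x⁻¹) ^ k) * x * m⁻¹ := by group
      rw [h3, h2, pow_succ]
      group
  have h1 := hpow (orderOf m)
  rw [pow_orderOf_eq_one] at h1
  have h2 : (m * x * m⁻¹ * x⁻¹) ^ orderOf m = 1 := by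
    have : (m * x * m⁻¹ * x⁻¹) ^ orderOf m * x = 1 * x := by
      rw [← h1]; group
    exact mul_right_cancel this
  -- y is a p-element, orderOf m an r-power
  obtain ⟨j, hj⟩ := h.Rp ⟨_, YR_le R hy⟩
  have hj' : (m * x * m⁻¹ * x⁻¹) ^ p ^ j = 1 := by simpa using congrArg Subtype.val hj
  obtain ⟨k, hk⟩ := h.Mr ⟨m, hm⟩
  have hk' : m ^ r ^ k = 1 := by simpa using congrArg Subtype.val hk
  have hd0 : orderOf m ∣ r ^ k := orderOf_dvd_of_pow_eq_one hk'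
  have hd1 : orderOf (m * x * m⁻¹ * x⁻¹) ∣ r ^ k :=
    (orderOf_dvd_of_pow_eq_one h2).trans hd0
  have hd2 : orderOf (m * x * m⁻¹ * x⁻¹) ∣ p ^ j := orderOf_dvd_of_pow_eq_one hj'
  have hcop : (r ^ k).Coprime (p ^ j) :=
    Nat.Coprime.pow _ _ ((Nat.coprime_primes h.rprime hp.out).mpr h.rne)
  have h3 : m * x * m⁻¹ * x⁻¹ = 1 :=
    orderOf_eq_one_iff.mp (Nat.eq_one_of_dvd_coprimes hcop hd1 hd2)
  have h4 : x * m = (m * x * m⁻¹ * x⁻¹)⁻¹ * (m * x) := by group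
  rw [h4, h3, inv_one, one_mul]

theorem M_ne_bot (h : Ctx p G S R M r s) : M ≠ ⊥ := by
  intro hM
  apply h.snc
  rw [hM, Subgroup.mem_centralizer_iff]
  intro m hm
  have : m = 1 := hm
  rw [this, one_mul, mul_one]

/-- `s` does not act on `M` as an inner automorphism of `M`. -/
theorem not_inner (h : Ctx p G S R M r s) {m₀ : G} (hm₀ : m₀ ∈ M) :
    ∃ m ∈ M, s * m * s⁻¹ ≠ m₀ * m * m₀⁻¹ := by
  haveI : Fact r.Prime := ⟨h.rprime⟩
  by_contra hcon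
  push_neg at hcon
  apply h.M_ne_bot
  haveI : Group.IsNilpotent M := h.Mr.isNilpotent
  apply Cfsg.Agent.Lib.Lead.eq_bot_of_le_commutator_nilpotent M M le_rfl
  conv_lhs => rw [← h.comm_gen]
  rw [Subgroup.closure_le]
  rintro _ ⟨m, hm, rfl⟩
  rw [hcon m hm]
  have h1 : m₀ * m * m₀⁻¹ * m⁻¹ = (m * m₀ * m⁻¹ * m₀⁻¹)⁻¹ := by group
  rw [h1]
  apply Subgroup.inv_mem
  exact Subgroup.commutator_mem_commutator hm hm₀

end Ctx

end Cfsg.Agent.Lib.Helper5.Schm
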