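import Mathlib
import Cfsg.Agent.Lib.Helper5.SchmC2c
import Cfsg.Agent.Lib.Lead.Coprime

/-!
# S4394, package PC2, part d: step 6 (F2), uniformly in `p`

`Y₁ := [Z(R), M]` and `g := μ`, any element of `M` moved by `s`.
-/

set_option autoImplicit false

namespace Cfsg.Agent.Lib.Helper5.Schm

universe u

/-- The output of step 6. -/
structure F2 {G : Type u} [Group G] (S R M : Subgroup G) (s g : G) (Y₁ : Subgroup G) : Prop where
  gM : g ∈ M
  le : Y₁ ≤ YR R
  ne : Y₁ ≠ ⊥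
  sN : s ∈ Subgroup.normalizer (Y₁ : Set G)
  gN : g ∈ Subgroup.normalizer (Y₁ : Set G)
  hN : ∀ h ∈ S ⊓ Subgroup.centralizer (M : Set G), h ∈ Subgroup.normalizer (Y₁ : Set G)
  key : ∀ y ∈ Y₁, s * y = y * s → s * (g⁻¹ * y * g) = (g⁻¹ * y * g) * s → y = 1

namespace Ctx

variable {p : ℕ} [hp : Fact p.Prime] {G : Type u} [Group G] [Finite G] {S R M : Subgroup G}
  {r : ℕ} {s : G}

/-- elements of `R` commute with elements of `Z(R)` -/
theorem comm_of_mem_YR (_h : Ctx p G S R M r s) {x y : G} (hx : x ∈ R) (hy : y ∈ YR R) :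
    x * y = y * x := (mem_YR.mp hy).1 x hx

/-- if `⁅s, m⁆` commutes with `s` then `m` commutes with `s` -/
theorem comm_of_cm_comm (h : Ctx p G S R M r s) {m : G} (hm : m ∈ M)
    (hns : (s * m * s⁻¹ * m⁻¹) * s = s * (s * m * s⁻¹ * m⁻¹)) : m * s = s * m := by
  have hpow : ∀ k : ℕ, s ^ k * m * (s ^ k)⁻¹ = (s * m * s⁻¹ * m⁻¹) ^ k * m := by
    intro k
    induction k with
    | zero => simp
    | succ k ih =>
      have h1 : s ^ (k + 1) * m * (s ^ (k + 1))⁻¹ = s * (s ^ k * m * (s ^ k)⁻¹) * s⁻¹ := by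
        rw [pow_succ']; group
      rw [h1, ih]
      have hc : Commute (s * m * s⁻¹ * m⁻¹) s := hns
      have h2 : s * (s * m * s⁻¹ * m⁻¹) ^ k = (s * m * s⁻¹ * m⁻¹) ^ k * s :=
        ((hc.pow_left k).eq).symm
      have h3 : s * ((s * m * s⁻¹ * m⁻¹) ^ k * m) * s⁻¹ =
          (s * (s * m * s⁻¹ * m⁻¹) ^ k) * m * s⁻¹ := by group
      rw [h3, h2, pow_succ]
      group
  have h1 := hpow p
  rw [h.conj_pow_p hm] at h1
  have h2 : (s * m * s⁻¹ * m⁻¹) ^ p = 1 := by
    have : (s * m * s⁻¹ * m⁻¹) ^ p * m = 1 * m := by rw [one_mul]; exact h1.symm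
    exact mul_right_cancel this
  have hnM : s * m * s⁻¹ * m⁻¹ ∈ M := M.mul_mem (h.conj_s_mem hm) (M.inv_mem hm)
  obtain ⟨k, hk⟩ := h.Mr ⟨_, hnM⟩
  have hk' : (s * m * s⁻¹ * m⁻¹) ^ r ^ k = 1 := by simpa using congrArg Subtype.val hk
  have hd1 : orderOf (s * m * s⁻¹ * m⁻¹) ∣ r ^ k := orderOf_dvd_of_pow_eq_one hk'
  have hd2 : orderOf (s * m * s⁻¹ * m⁻¹) ∣ p := orderOf_dvd_of_pow_eq_one h2
  have hcop : (r ^ k).Coprime p :=
    Nat.Coprime.pow_left _ ((Nat.coprime_primes h.rprime hp.out).mpr h.rne)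
  have h3 : s * m * s⁻¹ * m⁻¹ = 1 :=
    orderOf_eq_one_iff.mp (Nat.eq_one_of_dvd_coprimes hcop hd1 hd2)
  have h4 : m * s = (s * m * s⁻¹ * m⁻¹)⁻¹ * (s * m) := by group
  rw [h4, h3, inv_one, one_mul]

theorem card_coprime (h : Ctx p G S R M r s) :
    (Nat.card M).Coprime (Nat.card (YR R)) := by
  haveI : Fact r.Prime := ⟨h.rprime⟩
  obtain ⟨k, hk⟩ := IsPGroup.iff_card.mp h.Mr
  obtain ⟨j, hj⟩ := IsPGroup.iff_card.mp (h.Rp.to_le (YR_le R))
  rw [hj, hk]
  exact Nat.Coprime.pow _ _ ((Nat.coprime_primes h.rprime hp.out).mpr h.rne)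

/-- Step 6. -/
theorem f2 (h : Ctx p G S R M r s) : ∃ (g : G) (Y₁ : Subgroup G), F2 S R M s g Y₁ := by
  haveI := h.Rn
  have hex : ∃ m ∈ M, m * s ≠ s * m := by
    by_contra hcon
    push_neg at hcon
    exact h.snc (Subgroup.mem_centralizer_iff.mpr hcon)
  obtain ⟨μ, hμ, hμs⟩ := hex
  haveI : IsMulCommutative (YR R) := ⟨⟨fun a b => Subtype.ext (YR_comm a.2 b.2)⟩⟩
  have hnormY : ∀ a : G, a ∈ Subgroup.normalizer ((YR R : Subgroup G) : Set G) := by
    intro a
    exact (Subgroup.normalizer_eq_top (H := YR R)) ▸ Subgroup.mem_top a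
  have hMY : M ≤ Subgroup.normalizer ((YR R : Subgroup G) : Set G) := fun a _ => hnormY a
  obtain ⟨hd1, hd2⟩ := Cfsg.Agent.Lib.Lead.coprime_abelian_decomp M (YR R) hMY h.card_coprime
  have hnormC : ∀ a : G, a ∈ Subgroup.normalizer (M : Set G) →
      a ∈ Subgroup.normalizer ((⁅YR R, M⁆ : Subgroup G) : Set G) := by
    intro a ha
    apply Cfsg.Agent.Lib.Lead.normalizer_inf_le_normalizer_commutator
    exact ⟨hnormY a, ha⟩
  refine ⟨μ, ⁅YR R, M⁆, ?_⟩
  constructor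
  · exact hμ
  · exact Subgroup.commutator_le_left _ _
  · intro hbot
    rw [hbot, sup_bot_eq] at hd2
    apply hμs
    have h1 : μ = 1 := by
      apply h.M_faith hμ
      intro y hy
      have h1 : y ∈ YR R ⊓ Subgroup.centralizer (M : Set G) := by rw [hd2]; exact hy
      exact Subgroup.mem_centralizer_iff.mp h1.2 μ hμ
    rw [h1, one_mul, mul_one]
  · exact hnormC s h.sM
  · exact hnormC μ (Subgroup.le_normalizer hμ)
  · intro x hx
    exact hnormC x (Subgroup.centralizer_le_normalizer (M : Set G) hx.2)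
  · intro y hy hys hyu
    have hyY : y ∈ YR R := Subgroup.commutator_le_left _ _ hy
    -- y commutes with μ s μ⁻¹
    have hu : (μ * s * μ⁻¹) * y = y * (μ * s * μ⁻¹) := by
      have h1 : (μ * s * μ⁻¹) * y = μ * (s * (μ⁻¹ * y * μ)) * μ⁻¹ := by group
      rw [h1, hyu]; group
    -- D := the elements of M commuting with y
    obtain ⟨D, hD⟩ : ∃ D : Subgroup G, D = M ⊓ Subgroup.centralizer ({y} : Set G) := ⟨_, rfl⟩
    have hDM : D ≤ M := by rw [hD]; exact inf_le_left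
    have memD : ∀ m : G, m ∈ D ↔ m ∈ M ∧ m * y = y * m := by
      intro m
      rw [hD, Subgroup.mem_inf, Subgroup.mem_centralizer_singleton_iff]
    have hsD : s ∈ Subgroup.normalizer (D : Set G) := by
      apply Subgroup.mem_normalizer_fintype
      intro n hn
      have hn' : n ∈ D := hn
      show s * n * s⁻¹ ∈ D
      rw [memD] at hn' ⊢
      refine ⟨h.conj_s_mem hn'.1, ?_⟩
      have hc1 : Commute s y := hys
      have hc2 : Commute n y := hn'.2
      exact ((hc1.mul_left hc2).mul_left hc1.inv_left).eq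
    by_cases hDeq : D = M
    · -- y is centralized by M
      have hmem : y ∈ (YR R ⊓ Subgroup.centralizer (M : Set G)) ⊓ ⁅YR R, M⁆ := by
        refine ⟨⟨hyY, ?_⟩, hy⟩
        show y ∈ Subgroup.centralizer (M : Set G)
        rw [Subgroup.mem_centralizer_iff]
        intro m hm
        have : m ∈ D := by rw [hDeq]; exact hm
        exact ((memD m).mp this).2
      rw [hd1] at hmem
      exact hmem
    · exfalso
      have hsC := h.minimal D hDM hDeq hsD
      rw [Subgroup.mem_centralizer_iff] at hsC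
      -- n := s μ s⁻¹ μ⁻¹ ∈ D
      have hn : s * μ * s⁻¹ * μ⁻¹ ∈ D := by
        rw [memD]
        refine ⟨M.mul_mem (h.conj_s_mem hμ) (M.inv_mem hμ), ?_⟩
        have hc1 : Commute s y := hys
        have hc2 : Commute (μ * s * μ⁻¹) y := hu
        have h1 : s * μ * s⁻¹ * μ⁻¹ = s * (μ * s * μ⁻¹)⁻¹ := by group
        rw [h1]
        exact (hc1.mul_left hc2.inv_left).eq
      exact hμs (h.comm_of_cm_comm hμ (hsC _ hn))

end Ctx

end Cfsg.Agent.Lib.Helper5.Schm
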