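import Mathlib
import Cfsg.Agent.Lib.Helper5.PSLCoset12

set_option autoImplicit false

/-!
The centralizer of a standard graph-field involution in the inner-diagonal group is the projective
general unitary group.
-/

namespace Cfsg.Agent.Lib.Helper5.PSLCoset

open Matrix Matrix.SpecialLinearGroup Cfsg.Agent.Lib.Helper5.SLnAut Cfsg.Agent.Lib.Helper5.SLnBN

section
variable {n : ℕ} {F : Type*} [Field F] [Finite F]

theorem semi_mem_centralizer_of_mem_commSub
    {x : MulAut (ProjectiveSpecialLinearGroup (Fin n) F)} {c : GL (Fin n) F}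
    (hc : c ∈ commSub (semiHom n F) x) :
    semi c (1 : F ≃+* F) ∈ Subgroup.centralizer {x} := hc

theorem centralizer_graphfield_equiv (hn : 2 ≤ n) (σ : F ≃+* F) (hσ : orderOf σ = 2) (q : ℕ)
    (hσq : ∀ a : F, σ a = a ^ q) :
    Nonempty (↥(Cfsg.inndiagPSL n F ⊓
      Subgroup.centralizer {semi (1 : GL (Fin n) F) σ * tauBar}) ≃* Cfsg.PGU n F q) := by
  have : Nontrivial (Fin n) := Fin.nontrivial_iff_two_le.2 hn
  have hcent : ∀ g : GL (Fin n) F, g ∈ Cfsg.GU n F q →
      semi g (1 : F ≃+* F) ∈ Cfsg.inndiagPSL n F ⊓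
        Subgroup.centralizer {semi (1 : GL (Fin n) F) σ * tauBar} := by
    intro g hg
    refine Subgroup.mem_inf.2 ⟨semi_mem_inndiag g, ?_⟩
    apply semi_mem_centralizer_of_mem_commSub
    rw [mem_commSub_graphfield]
    exact ⟨1, one_ne_zero, by rw [one_smul]; exact (mem_GU_iff' σ q hσq g).1 hg⟩
  obtain ⟨φ, hφ⟩ : ∃ φ : ↥(Cfsg.GU n F q) →* ↥(Cfsg.inndiagPSL n F ⊓
      Subgroup.centralizer {semi (1 : GL (Fin n) F) σ * tauBar}),
      ∀ g, (φ g : MulAut (ProjectiveSpecialLinearGroup (Fin n) F))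
        = semi (g : GL (Fin n) F) (1 : F ≃+* F) :=
    ⟨{ toFun := fun g => ⟨semi (g : GL (Fin n) F) (1 : F ≃+* F), hcent g.1 g.2⟩
       map_one' := by
         apply Subtype.ext
         exact semi_one_one
       map_mul' := by
         intro g g'
         apply Subtype.ext
         exact (semi_one_mul_semi_one (g : GL (Fin n) F) (g' : GL (Fin n) F)).symm },
      fun g => rfl⟩
  have hsurj : Function.Surjective φ := by
    rintro ⟨a, ha⟩
    obtain ⟨ha1, ha2⟩ := Subgroup.mem_inf.1 ha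
    obtain ⟨c, rfl⟩ := mem_inndiag_iff.1 ha1
    have hc : c ∈ commSub (semiHom n F) (semi (1 : GL (Fin n) F) σ * tauBar) := ha2
    obtain ⟨a₀, ha₀, c', hcc', hunit⟩ := exists_unitary_smul hn σ hσ c hc
    refine ⟨⟨c', (mem_GU_iff' σ q hσq c').2 hunit⟩, ?_⟩
    apply Subtype.ext
    rw [hφ]
    exact (semi_eq_of_smul c c' 1 a₀ ha₀ hcc').symm
  have hker : φ.ker = (Cfsg.Geo.scalars (Fin n) F).subgroupOf (Cfsg.GU n F q) := by
    ext g
    rw [MonoidHom.mem_ker, Subgroup.mem_subgroupOf, Cfsg.Geo.mem_scalars_iff]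
    constructor
    · intro h
      have h1 : semi (g : GL (Fin n) F) (1 : F ≃+* F) = semi (1 : GL (Fin n) F) 1 := by
        rw [← hφ, h, semi_one_one]
        rfl
      obtain ⟨-, z, hz0, hz⟩ := semi_eq_semi _ _ _ _ h1
      exact ⟨Units.mk0 z hz0, by rw [hz, Units.val_one, Units.val_mk0]⟩
    · rintro ⟨z, hz⟩
      apply Subtype.ext
      rw [hφ]
      have h1 : semi (g : GL (Fin n) F) (1 : F ≃+* F) = semi (1 : GL (Fin n) F) 1 :=
        semi_eq_of_smul _ _ 1 (z : F) z.ne_zero (by rw [hz, Units.val_one])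
      rw [h1, semi_one_one]
      rfl
  exact ⟨((QuotientGroup.quotientMulEquivOfEq hker).symm.trans
    (QuotientGroup.quotientKerEquivOfSurjective φ hsurj)).symm⟩

end

end Cfsg.Agent.Lib.Helper5.PSLCoset
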