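import Mathlib
import Cfsg.Agent.Lib.Helper5.PSLCoset13
import Cfsg.Agent.Lib.Helper5.SLnAutPred
import Cfsg.Agent.S2703

set_option autoImplicit false

/-!
Involutory graph automorphisms of `PSL_n(F)`: the automorphism attached to an invertible matrix
`c` (conjugation by `c` after the inverse transpose), products, conjugates and centralizers in the
inner-diagonal group.
-/

namespace Cfsg.Agent.Lib.Helper5.GraphInv

open Matrix Matrix.SpecialLinearGroup Cfsg.Agent.Lib.Helper5.SLnAut Cfsg.Agent.Lib.Helper5.SLnBN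
  Cfsg.Agent.Lib.Helper5.PSLCoset

section tau
variable {ι : Type} [Fintype ι] [DecidableEq ι] {F : Type*} [Field F]

theorem tauGL_mul (g h : GL ι F) : tauGL (g * h) = tauGL g * tauGL h := by
  apply Units.ext
  rw [Units.val_mul, tauGL_coe, tauGL_coe, tauGL_coe, _root_.mul_inv_rev, Units.val_mul,
    Matrix.transpose_mul]

theorem tauGL_tauGL (g : GL ι F) : tauGL (tauGL g) = g := by
  apply Units.ext
  rw [tauGL_coe, tauGL_inv_coe, Matrix.transpose_transpose]

theorem tauGL_inv (g : GL ι F) : tauGL g⁻¹ = (tauGL g)⁻¹ := by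
  apply Units.ext
  rw [tauGL_coe, inv_inv, tauGL_inv_coe]

theorem tauGL_one : tauGL (1 : GL ι F) = 1 := by
  apply Units.ext
  rw [tauGL_coe, inv_one, Units.val_one, Matrix.transpose_one]

/-- The inverse transpose as a homomorphism. -/
def tauHom (ι : Type) [Fintype ι] [DecidableEq ι] (F : Type*) [Field F] : GL ι F →* GL ι F where
  toFun := tauGL
  map_one' := tauGL_one
  map_mul' := tauGL_mul

theorem tauHom_apply (g : GL ι F) : tauHom ι F g = tauGL g := rfl

/-- The transpose of an invertible matrix, as an invertible matrix. -/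
def trGL (g : GL ι F) : GL ι F := (tauGL g)⁻¹

theorem trGL_coe (g : GL ι F) : ((trGL g : GL ι F) : Matrix ι ι F) = (g : Matrix ι ι F)ᵀ := rfl

theorem tauGL_mem_scalars (g : GL ι F) (hg : g ∈ Cfsg.Geo.scalars ι F) :
    tauGL g ∈ Cfsg.Geo.scalars ι F := by
  have h1 : trGL g ∈ Cfsg.Geo.scalars ι F := by
    rw [Cfsg.Geo.mem_scalars_iff] at hg ⊢
    obtain ⟨c, hc⟩ := hg
    exact ⟨c, by rw [trGL_coe, hc, Matrix.transpose_smul, Matrix.transpose_one]⟩
  have h2 := (Cfsg.Geo.scalars ι F).inv_mem h1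
  unfold trGL at h2
  rw [inv_inv] at h2
  exact h2

end tau

section gam
variable {n : ℕ} {F : Type*} [Field F]

/-- The graph automorphism attached to `c`: the inverse transpose followed by conjugation by
`c`. -/
noncomputable def gam (c : GL (Fin n) F) : MulAut (ProjectiveSpecialLinearGroup (Fin n) F) :=
  semi c (1 : F ≃+* F) * tauBar

theorem gam_isGraph (hn : 3 ≤ n) (c : GL (Fin n) F) : Cfsg.IsGraphAutClassPSL (gam c) :=
  ⟨hn, semi c 1, tauBar, isInnerDiagonal_semi_one c, isInverseTranspose_tauBar, rfl⟩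

theorem exists_gam_of_isGraph {γ : MulAut (ProjectiveSpecialLinearGroup (Fin n) F)}
    (h : Cfsg.IsGraphAutClassPSL γ) : ∃ c : GL (Fin n) F, γ = gam c := by
  obtain ⟨-, δ, τ, hδ, hτ, rfl⟩ := h
  obtain ⟨c, rfl⟩ := eq_semi_of_innerDiagonal hδ
  rw [eq_tauBar_of_invTranspose hτ]
  exact ⟨c, rfl⟩

theorem gam_mul_semi (c g : GL (Fin n) F) :
    gam c * semi g (1 : F ≃+* F) = gam (c * tauGL g) := by
  unfold gam
  rw [mul_assoc, tauBar_mul_semi, ← mul_assoc, semi_one_mul_semi_one]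

theorem semi_mul_gam (c g : GL (Fin n) F) :
    semi g (1 : F ≃+* F) * gam c = gam (g * c) := by
  unfold gam
  rw [← mul_assoc, semi_one_mul_semi_one]

theorem gam_mul_gam (c c' : GL (Fin n) F) :
    gam c * gam c' = semi (c * tauGL c') (1 : F ≃+* F) := by
  unfold gam
  rw [mul_assoc, ← mul_assoc tauBar, tauBar_mul_semi, mul_assoc, tauBar_mul_self, mul_one,
    semi_one_mul_semi_one]

theorem semi_conj_gam (c g : GL (Fin n) F) :
    semi g (1 : F ≃+* F) * gam c * (semi g (1 : F ≃+* F))⁻¹ = gam (g * c * trGL g) := by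
  rw [semi_one_inv, semi_mul_gam, gam_mul_semi, tauGL_inv]
  rfl

theorem gam_injective [Nontrivial (Fin n)] {c c' : GL (Fin n) F} (h : gam c = gam c') :
    ∃ z : F, z ≠ 0 ∧ (c : Matrix (Fin n) (Fin n) F) = z • (c' : Matrix (Fin n) (Fin n) F) := by
  unfold gam at h
  have h1 := mul_right_cancel h
  exact (semi_eq_semi _ _ _ _ h1).2

theorem gam_eq_of_smul {c c' : GL (Fin n) F} (z : F) (hz : z ≠ 0)
    (h : (c : Matrix (Fin n) (Fin n) F) = z • (c' : Matrix (Fin n) (Fin n) F)) :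
    gam c = gam c' := by
  unfold gam
  rw [semi_eq_of_smul c c' 1 z hz h]

theorem gam_ne_one (hn : 3 ≤ n) (c : GL (Fin n) F) : gam c ≠ 1 := by
  intro h
  unfold gam at h
  have h1 : (tauBar : MulAut (ProjectiveSpecialLinearGroup (Fin n) F))
      = semi c⁻¹ (1 : F ≃+* F) := by
    rw [← semi_one_inv]
    exact (eq_inv_of_mul_eq_one_right h)
  exact tauBar_ne_semi hn _ _ h1

/-- The graph automorphism attached to `c` is an involution exactly when `c` is proportional to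
its transpose. -/
theorem orderOf_gam_eq_two_iff (hn : 3 ≤ n) (c : GL (Fin n) F) :
    orderOf (gam c) = 2 ↔ ∃ z : F, z ≠ 0 ∧
      (c : Matrix (Fin n) (Fin n) F) = z • (c : Matrix (Fin n) (Fin n) F)ᵀ := by
  have : Nontrivial (Fin n) := Fin.nontrivial_iff_two_le.2 (by omega)
  have : Fact (Nat.Prime 2) := ⟨Nat.prime_two⟩
  rw [orderOf_eq_prime_iff, pow_two, gam_mul_gam]
  constructor
  · rintro ⟨h1, -⟩
    rw [← semi_one_one] at h1
    obtain ⟨-, z, hz0, hz⟩ := semi_eq_semi _ _ _ _ h1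
    refine ⟨z, hz0, ?_⟩
    rw [Units.val_mul, Units.val_one, tauGL_coe] at hz
    have h2 := congrArg (fun M => M * (c : Matrix (Fin n) (Fin n) F)ᵀ) hz
    beta_reduce at h2
    rw [Matrix.mul_assoc, ← Matrix.transpose_mul, ← Units.val_mul, mul_inv_cancel, Units.val_one,
      Matrix.transpose_one, Matrix.mul_one, Matrix.smul_mul, Matrix.one_mul] at h2
    exact h2
  · rintro ⟨z, hz0, hz⟩
    refine ⟨?_, gam_ne_one hn c⟩
    rw [← semi_one_one]
    apply semi_eq_of_smul _ _ 1 z hz0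
    rw [Units.val_mul, Units.val_one, tauGL_coe]
    conv_lhs => rw [hz]
    rw [Matrix.smul_mul, ← Matrix.transpose_mul, ← Units.val_mul, inv_mul_cancel, Units.val_one,
      Matrix.transpose_one]

theorem mem_commSub_gam [Nontrivial (Fin n)] (c g : GL (Fin n) F) :
    g ∈ commSub (semiHom n F) (gam c) ↔ ∃ z : F, z ≠ 0 ∧
      (g : Matrix (Fin n) (Fin n) F) * (c : Matrix (Fin n) (Fin n) F)
        * (g : Matrix (Fin n) (Fin n) F)ᵀ = z • (c : Matrix (Fin n) (Fin n) F) := by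
  rw [mem_commSub, semiHom_apply, semi_mul_gam, gam_mul_semi]
  have key : (g * c * trGL g : GL (Fin n) F) * tauGL g = g * c := by
    unfold trGL
    rw [inv_mul_cancel_right]
  constructor
  · intro h
    obtain ⟨z, hz0, hz⟩ := gam_injective h
    refine ⟨z, hz0, ?_⟩
    have h2 := congrArg (fun M => M * ((trGL g : GL (Fin n) F) : Matrix (Fin n) (Fin n) F)) hz
    beta_reduce at h2
    rw [← Units.val_mul, Matrix.smul_mul, ← Units.val_mul] at h2
    unfold trGL at h2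
    rw [mul_inv_cancel_right, Units.val_mul, Units.val_mul, tauGL_inv_coe] at h2
    exact h2
  · rintro ⟨z, hz0, hz⟩
    apply gam_eq_of_smul z hz0
    rw [← key, Units.val_mul (g * c * trGL g), Units.val_mul, Units.val_mul, trGL_coe, hz,
      Units.val_mul, Matrix.smul_mul]

/-- Conjugacy of two of these automorphisms under the inner-diagonal group. -/
theorem isConjUnder_gam_iff [Nontrivial (Fin n)] (c c' : GL (Fin n) F) :
    Cfsg.IsConjUnder (Cfsg.inndiagPSL n F) (gam c) (gam c') ↔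
      ∃ (g : GL (Fin n) F) (z : F), z ≠ 0 ∧ (c' : Matrix (Fin n) (Fin n) F)
        = z • ((g : Matrix (Fin n) (Fin n) F) * (c : Matrix (Fin n) (Fin n) F)
          * (g : Matrix (Fin n) (Fin n) F)ᵀ) := by
  constructor
  · rintro ⟨h, hh, he⟩
    obtain ⟨g, rfl⟩ := mem_inndiag_iff.1 hh
    rw [semi_conj_gam] at he
    obtain ⟨z, hz0, hz⟩ := gam_injective he
    refine ⟨g, z, hz0, ?_⟩
    rw [hz, Units.val_mul, Units.val_mul, trGL_coe]
  · rintro ⟨g, z, hz0, hz⟩
    refine ⟨semi g 1, semi_mem_inndiag g, ?_⟩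
    rw [semi_conj_gam]
    apply gam_eq_of_smul z hz0
    rw [hz, Units.val_mul, Units.val_mul, trGL_coe]

end gam

section cent
variable {n : ℕ} {F : Type*} [Field F] [Finite F]

/-- The centralizer of an automorphism in the inner-diagonal group is the group of matrices
commuting with it, modulo scalars. -/
theorem centralizer_equiv_projQuot (hn : 2 ≤ n)
    (x : MulAut (ProjectiveSpecialLinearGroup (Fin n) F)) :
    Nonempty (↥(Cfsg.inndiagPSL n F ⊓ Subgroup.centralizer {x})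
      ≃* Cfsg.projQuot (commSub (semiHom n F) x)) := by
  have : Nontrivial (Fin n) := Fin.nontrivial_iff_two_le.2 hn
  have hcent : ∀ g : GL (Fin n) F, g ∈ commSub (semiHom n F) x →
      semi g (1 : F ≃+* F) ∈ Cfsg.inndiagPSL n F ⊓ Subgroup.centralizer {x} := by
    intro g hg
    exact Subgroup.mem_inf.2 ⟨semi_mem_inndiag g, semi_mem_centralizer_of_mem_commSub hg⟩
  obtain ⟨φ, hφ⟩ : ∃ φ : ↥(commSub (semiHom n F) x) →* ↥(Cfsg.inndiagPSL n F ⊓
      Subgroup.centralizer {x}),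
      ∀ g, (φ g : MulAut (ProjectiveSpecialLinearGroup (Fin n) F))
        = semi (g : GL (Fin n) F) (1 : F ≃+* F) :=
    ⟨{ toFun := fun g => ⟨semi (g : GL (Fin n) F) (1 : F ≃+* F), hcent g.1 g.2⟩
       map_one' := by
         apply Subtype.ext
         exact semi_one_one
       map_mul' := by
         intro g g'
         apply Subtype.ext
         exact (semi_one_mul_semi_one (g : GL (Fin n) F) (g' : GL (Fin n) F)).symm },
      fun g => rfl⟩
  have hsurj : Function.Surjective φ := by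
    rintro ⟨a, ha⟩
    obtain ⟨ha1, ha2⟩ := Subgroup.mem_inf.1 ha
    obtain ⟨c, rfl⟩ := mem_inndiag_iff.1 ha1
    have hc : c ∈ commSub (semiHom n F) x := ha2
    refine ⟨⟨c, hc⟩, ?_⟩
    apply Subtype.ext
    rw [hφ]
  have hker : φ.ker = (Cfsg.Geo.scalars (Fin n) F).subgroupOf (commSub (semiHom n F) x) := by
    ext g
    rw [MonoidHom.mem_ker, Subgroup.mem_subgroupOf, Cfsg.Geo.mem_scalars_iff]
    constructor
    · intro h
      have h1 : semi (g : GL (Fin n) F) (1 : F ≃+* F) = semi (1 : GL (Fin n) F) 1 := by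
        rw [← hφ, h, semi_one_one]
        rfl
      obtain ⟨-, z, hz0, hz⟩ := semi_eq_semi _ _ _ _ h1
      exact ⟨Units.mk0 z hz0, by rw [hz, Units.val_one, Units.val_mk0]⟩
    · rintro ⟨z, hz⟩
      apply Subtype.ext
      rw [hφ]
      have h1 : semi (g : GL (Fin n) F) (1 : F ≃+* F) = semi (1 : GL (Fin n) F) 1 :=
        semi_eq_of_smul _ _ 1 (z : F) z.ne_zero (by rw [hz, Units.val_one])
      rw [h1, semi_one_one]
      rfl
  exact ⟨((QuotientGroup.quotientMulEquivOfEq hker).symm.trans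
    (QuotientGroup.quotientKerEquivOfSurjective φ hsurj)).symm⟩

end cent

section transfer
variable {ι₁ ι₂ : Type} [Fintype ι₁] [DecidableEq ι₁] [Fintype ι₂] [DecidableEq ι₂]
  {F : Type*} [Field F]

/-- Transfer of a projective quotient along an isomorphism of general linear groups preserving
scalars. -/
theorem projQuot_transfer (φ : GL ι₁ F →* GL ι₂ F) (ψ : GL ι₂ F →* GL ι₁ F)
    (hφψ : ∀ h, φ (ψ h) = h) (hψφ : ∀ g, ψ (φ g) = g)
    (hφs : ∀ g, g ∈ Cfsg.Geo.scalars ι₁ F → φ g ∈ Cfsg.Geo.scalars ι₂ F)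
    (hψs : ∀ h, h ∈ Cfsg.Geo.scalars ι₂ F → ψ h ∈ Cfsg.Geo.scalars ι₁ F)
    (H₁ : Subgroup (GL ι₁ F)) (H₂ : Subgroup (GL ι₂ F))
    (h12 : ∀ g, g ∈ H₁ → φ g ∈ H₂) (h21 : ∀ h, h ∈ H₂ → ψ h ∈ H₁) :
    Nonempty (Cfsg.projQuot H₁ ≃* Cfsg.projQuot H₂) := by
  let ρ : ↥H₁ →* ↥H₂ :=
    { toFun := fun g => ⟨φ g.1, h12 g.1 g.2⟩
      map_one' := by
        apply Subtype.ext
        exact map_one _
      map_mul' := by
        intro g g'
        apply Subtype.ext
        exact map_mul _ _ _ }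
  let θ : ↥H₁ →* Cfsg.projQuot H₂ := (QuotientGroup.mk' _).comp ρ
  have hsurj : Function.Surjective θ := by
    intro x
    obtain ⟨h, rfl⟩ := QuotientGroup.mk_surjective x
    refine ⟨⟨ψ h.1, h21 h.1 h.2⟩, ?_⟩
    show QuotientGroup.mk (ρ _) = QuotientGroup.mk h
    congr 1
    apply Subtype.ext
    exact hφψ h.1
  have hker : θ.ker = (Cfsg.Geo.scalars ι₁ F).subgroupOf H₁ := by
    ext g
    rw [MonoidHom.mem_ker, Subgroup.mem_subgroupOf]
    show QuotientGroup.mk (ρ g) = 1 ↔ _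
    rw [QuotientGroup.eq_one_iff, Subgroup.mem_subgroupOf]
    constructor
    · intro h
      have := hψs _ h
      rw [show ((ρ g : ↥H₂) : GL ι₂ F) = φ g.1 from rfl, hψφ] at this
      exact this
    · intro h
      exact hφs _ h
  exact ⟨(QuotientGroup.quotientMulEquivOfEq hker).symm.trans
    (QuotientGroup.quotientKerEquivOfSurjective θ hsurj)⟩

end transfer

section forms
variable {ι : Type} [Fintype ι] [DecidableEq ι] {F : Type*} [Field F]

theorem dot_mulVec_mul (h A : Matrix ι ι F) (u v : ι → F) :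
    (h *ᵥ u) ⬝ᵥ (A *ᵥ (h *ᵥ v)) = u ⬝ᵥ ((hᵀ * A * h) *ᵥ v) := by
  symm
  rw [← Matrix.mulVec_mulVec, ← Matrix.mulVec_mulVec, Matrix.dotProduct_mulVec u hᵀ,
    Matrix.vecMul_transpose]

theorem mem_bilSim_iff (A : Matrix ι ι F) (h : GL ι F) :
    h ∈ Cfsg.Geo.similarityGroup (fun u v : ι → F => u ⬝ᵥ (A *ᵥ v)) ↔
      ∃ z : F, z ≠ 0 ∧ (h : Matrix ι ι F)ᵀ * A * (h : Matrix ι ι F) = z • A := by
  constructor
  · rintro ⟨c, hc⟩
    refine ⟨c, c.ne_zero, ?_⟩
    ext i j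
    have h1 := hc (Pi.single i 1) (Pi.single j 1)
    beta_reduce at h1
    rw [dot_mulVec_mul, Matrix.mulVec_single_one, single_one_dotProduct,
      Matrix.mulVec_single_one, single_one_dotProduct] at h1
    exact h1
  · rintro ⟨z, hz, h1⟩
    refine ⟨Units.mk0 z hz, fun u v => ?_⟩
    show ((h : Matrix ι ι F) *ᵥ u) ⬝ᵥ (A *ᵥ ((h : Matrix ι ι F) *ᵥ v)) = z * (u ⬝ᵥ (A *ᵥ v))
    rw [dot_mulVec_mul, h1, Matrix.smul_mulVec, dotProduct_smul, smul_eq_mul]

theorem inv_congr (X X' c : Matrix ι ι F) (h1 : X' * X = 1) (z : F) (hz : z ≠ 0)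
    (h : X * c * Xᵀ = z • c) : X' * c * X'ᵀ = z⁻¹ • c := by
  have h2 : X' * (X * c * Xᵀ) * X'ᵀ = c := by
    calc X' * (X * c * Xᵀ) * X'ᵀ = (X' * X) * c * (X' * X)ᵀ := by
          rw [Matrix.transpose_mul]
          simp only [Matrix.mul_assoc]
      _ = c := by rw [h1, Matrix.transpose_one, Matrix.one_mul, Matrix.mul_one]
  rw [h, Matrix.mul_smul, Matrix.smul_mul] at h2
  calc X' * c * X'ᵀ = z⁻¹ • (z • (X' * c * X'ᵀ)) := by
        rw [smul_smul, inv_mul_cancel₀ hz, one_smul]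
    _ = z⁻¹ • c := by rw [h2]

theorem tauGL_cond (c : Matrix ι ι F) (g : GL ι F)
    (h : ∃ z : F, z ≠ 0 ∧ (g : Matrix ι ι F) * c * (g : Matrix ι ι F)ᵀ = z • c) :
    ∃ z : F, z ≠ 0 ∧ ((tauGL g : GL ι F) : Matrix ι ι F)ᵀ * c
      * ((tauGL g : GL ι F) : Matrix ι ι F) = z • c := by
  obtain ⟨z, hz, h1⟩ := h
  refine ⟨z⁻¹, inv_ne_zero hz, ?_⟩
  rw [tauGL_coe, Matrix.transpose_transpose]
  apply inv_congr (g : Matrix ι ι F) _ c _ z hz h1
  rw [← Units.val_mul, inv_mul_cancel, Units.val_one]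

theorem tauGL_cond' (c : Matrix ι ι F) (h : GL ι F)
    (hh : ∃ z : F, z ≠ 0 ∧ (h : Matrix ι ι F)ᵀ * c * (h : Matrix ι ι F) = z • c) :
    ∃ z : F, z ≠ 0 ∧ ((tauGL h : GL ι F) : Matrix ι ι F) * c
      * ((tauGL h : GL ι F) : Matrix ι ι F)ᵀ = z • c := by
  obtain ⟨z, hz, h1⟩ := hh
  refine ⟨z⁻¹, inv_ne_zero hz, ?_⟩
  rw [tauGL_coe]
  apply inv_congr (h : Matrix ι ι F)ᵀ _ c _ z hz
  · rw [Matrix.transpose_transpose]
    exact h1
  · rw [← Matrix.transpose_mul, ← Units.val_mul, mul_inv_cancel, Units.val_one,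
      Matrix.transpose_one]

end forms

section centforms
variable {n : ℕ} {F : Type*} [Field F] [Finite F]

theorem mem_quadSim_iff (h2 : (2 : F) ≠ 0) (A : Matrix (Fin n) (Fin n) F) (hA : Aᵀ = A)
    (h : GL (Fin n) F) :
    h ∈ Cfsg.Geo.quadSimilarityGroup (fun v : Fin n → F => v ⬝ᵥ (A *ᵥ v)) ↔
      ∃ z : F, z ≠ 0 ∧ (h : Matrix (Fin n) (Fin n) F)ᵀ * A * (h : Matrix (Fin n) (Fin n) F)
        = z • A := by
  constructor
  · rintro ⟨c, hc⟩
    refine ⟨c, c.ne_zero, ?_⟩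
    have hS : ((h : Matrix (Fin n) (Fin n) F)ᵀ * A * (h : Matrix (Fin n) (Fin n) F)
        - (c : F) • A)ᵀ = (h : Matrix (Fin n) (Fin n) F)ᵀ * A * (h : Matrix (Fin n) (Fin n) F)
        - (c : F) • A := by
      rw [Matrix.transpose_sub, Matrix.transpose_mul, Matrix.transpose_mul,
        Matrix.transpose_transpose, Matrix.transpose_smul, hA, Matrix.mul_assoc]
    have h0 := Cfsg.Agent.S2703.eq_smul_one_of_quad h2 _ hS 0 (by
      intro v
      rw [Matrix.sub_mulVec, dotProduct_sub, ← dot_mulVec_mul, Matrix.smul_mulVec,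
        dotProduct_smul, smul_eq_mul, zero_mul, sub_eq_zero]
      exact hc v)
    rw [zero_smul, sub_eq_zero] at h0
    exact h0
  · rintro ⟨z, hz, h1⟩
    refine ⟨Units.mk0 z hz, fun v => ?_⟩
    show ((h : Matrix (Fin n) (Fin n) F) *ᵥ v) ⬝ᵥ (A *ᵥ ((h : Matrix (Fin n) (Fin n) F) *ᵥ v))
      = z * (v ⬝ᵥ (A *ᵥ v))
    rw [dot_mulVec_mul, h1, Matrix.smul_mulVec, dotProduct_smul, smul_eq_mul]

/-- The centralizer of the graph automorphism of a symmetric matrix is the projective conformal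
orthogonal group of its quadratic form. -/
theorem centralizer_gam_sym (hn : 2 ≤ n) (h2 : (2 : F) ≠ 0) (c : GL (Fin n) F)
    (hc : (c : Matrix (Fin n) (Fin n) F)ᵀ = c) :
    Nonempty (↥(Cfsg.inndiagPSL n F ⊓ Subgroup.centralizer {gam c})
      ≃* Cfsg.PGO F (fun v : Fin n → F => v ⬝ᵥ ((c : Matrix (Fin n) (Fin n) F) *ᵥ v))) := by
  have : Nontrivial (Fin n) := Fin.nontrivial_iff_two_le.2 hn
  obtain ⟨e₀⟩ := centralizer_equiv_projQuot hn (gam c)
  obtain ⟨e₁⟩ := projQuot_transfer (tauHom (Fin n) F) (tauHom (Fin n) F)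
    (fun h => tauGL_tauGL h) (fun g => tauGL_tauGL g)
    (fun g hg => tauGL_mem_scalars g hg) (fun g hg => tauGL_mem_scalars g hg)
    (commSub (semiHom n F) (gam c))
    (Cfsg.Geo.quadSimilarityGroup
      (fun v : Fin n → F => v ⬝ᵥ ((c : Matrix (Fin n) (Fin n) F) *ᵥ v)))
    (fun g hg => by
      rw [tauHom_apply, mem_quadSim_iff h2 _ hc]
      exact tauGL_cond _ g ((mem_commSub_gam c g).1 hg))
    (fun h hh => by
      rw [tauHom_apply, mem_commSub_gam]
      exact tauGL_cond' _ h ((mem_quadSim_iff h2 _ hc h).1 hh))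
  exact ⟨e₀.trans e₁⟩

/-- The centralizer of the graph automorphism of any matrix is the projective similarity group
of its bilinear form. -/
theorem centralizer_gam_bil (hn : 2 ≤ n) (c : GL (Fin n) F) :
    Nonempty (↥(Cfsg.inndiagPSL n F ⊓ Subgroup.centralizer {gam c})
      ≃* Cfsg.projQuot (Cfsg.Geo.similarityGroup
        (fun u v : Fin n → F => u ⬝ᵥ ((c : Matrix (Fin n) (Fin n) F) *ᵥ v)))) := by
  have : Nontrivial (Fin n) := Fin.nontrivial_iff_two_le.2 hn
  obtain ⟨e₀⟩ := centralizer_equiv_projQuot hn (gam c)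
  obtain ⟨e₁⟩ := projQuot_transfer (tauHom (Fin n) F) (tauHom (Fin n) F)
    (fun h => tauGL_tauGL h) (fun g => tauGL_tauGL g)
    (fun g hg => tauGL_mem_scalars g hg) (fun g hg => tauGL_mem_scalars g hg)
    (commSub (semiHom n F) (gam c))
    (Cfsg.Geo.similarityGroup
      (fun u v : Fin n → F => u ⬝ᵥ ((c : Matrix (Fin n) (Fin n) F) *ᵥ v)))
    (fun g hg => by
      rw [tauHom_apply, mem_bilSim_iff]
      exact tauGL_cond _ g ((mem_commSub_gam c g).1 hg))
    (fun h hh => by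
      rw [tauHom_apply, mem_commSub_gam]
      exact tauGL_cond' _ h ((mem_bilSim_iff _ h).1 hh))
  exact ⟨e₀.trans e₁⟩

end centforms

section bilcongr
variable {ι₁ ι₂ : Type} [Fintype ι₁] [DecidableEq ι₁] [Fintype ι₂] [DecidableEq ι₂]
  {F : Type*} [Field F]

open Cfsg.Agent.S2703 in
theorem glCongr_mem_bilSim (P : Matrix ι₂ ι₁ F) (P' : Matrix ι₁ ι₂ F) (h1 : P * P' = 1)
    (h2 : P' * P = 1) (f₁ : (ι₁ → F) → (ι₁ → F) → F) (f₂ : (ι₂ → F) → (ι₂ → F) → F)
    (hf : ∀ u v, f₂ (P *ᵥ u) (P *ᵥ v) = f₁ u v)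
    (g : GL ι₁ F) (hg : g ∈ Cfsg.Geo.similarityGroup f₁) :
    glCongr P P' h1 h2 g ∈ Cfsg.Geo.similarityGroup f₂ := by
  obtain ⟨c, hc⟩ := hg
  refine ⟨c, fun u v => ?_⟩
  have hu : u = P *ᵥ (P' *ᵥ u) := by
    rw [Matrix.mulVec_mulVec, h1, Matrix.one_mulVec]
  have hv : v = P *ᵥ (P' *ᵥ v) := by
    rw [Matrix.mulVec_mulVec, h1, Matrix.one_mulVec]
  rw [glCongr_coe, ← Matrix.mulVec_mulVec, ← Matrix.mulVec_mulVec, ← Matrix.mulVec_mulVec,
    ← Matrix.mulVec_mulVec, hf, hc]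
  conv_rhs => rw [hu, hv, hf]

open Cfsg.Agent.S2703 in
/-- Isometric bilinear forms have isomorphic projective similarity groups. -/
theorem bilSim_congr (E : (ι₁ → F) ≃ₗ[F] (ι₂ → F)) (f₁ : (ι₁ → F) → (ι₁ → F) → F)
    (f₂ : (ι₂ → F) → (ι₂ → F) → F) (hE : ∀ u v, f₂ (E u) (E v) = f₁ u v) :
    Nonempty (Cfsg.projQuot (Cfsg.Geo.similarityGroup f₁)
      ≃* Cfsg.projQuot (Cfsg.Geo.similarityGroup f₂)) := by
  have h1 : LinearMap.toMatrix' E.toLinearMap * LinearMap.toMatrix' E.symm.toLinearMap = 1 := by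
    rw [← LinearMap.toMatrix'_comp, LinearEquiv.comp_symm, LinearMap.toMatrix'_id]
  have h2 : LinearMap.toMatrix' E.symm.toLinearMap * LinearMap.toMatrix' E.toLinearMap = 1 := by
    rw [← LinearMap.toMatrix'_comp, LinearEquiv.symm_comp, LinearMap.toMatrix'_id]
  have hf : ∀ u v, f₂ (LinearMap.toMatrix' E.toLinearMap *ᵥ u)
      (LinearMap.toMatrix' E.toLinearMap *ᵥ v) = f₁ u v := by
    intro u v
    rw [LinearMap.toMatrix'_mulVec, LinearMap.toMatrix'_mulVec]
    exact hE u v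
  have hf' : ∀ u v, f₁ (LinearMap.toMatrix' E.symm.toLinearMap *ᵥ u)
      (LinearMap.toMatrix' E.symm.toLinearMap *ᵥ v) = f₂ u v := by
    intro u v
    rw [← hf, Matrix.mulVec_mulVec, Matrix.mulVec_mulVec, h1, Matrix.one_mulVec,
      Matrix.one_mulVec]
  exact projQuot_transfer (glCongr _ _ h1 h2) (glCongr _ _ h2 h1)
    (fun h => glCongr_glCongr _ _ h2 h1 h) (fun g => glCongr_glCongr _ _ h1 h2 g)
    (fun g hg => glCongr_mem_scalars _ _ h1 h2 g hg)
    (fun g hg => glCongr_mem_scalars _ _ h2 h1 g hg) _ _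
    (fun g hg => glCongr_mem_bilSim _ _ h1 h2 f₁ f₂ hf g hg)
    (fun g hg => glCongr_mem_bilSim _ _ h2 h1 f₂ f₁ hf' g hg)

end bilcongr

end Cfsg.Agent.Lib.Helper5.GraphInv
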