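import Mathlib
import Cfsg.Agent.Lib.Helper5.PSLCoset13

set_option autoImplicit false

/-!
Standard forms: an involutory graph-field automorphism of `PSL_n(F)` is conjugate under the
inner-diagonal group to the standard one.
-/

namespace Cfsg.Agent.Lib.Helper5.PSLCoset

open Matrix Matrix.SpecialLinearGroup Cfsg.Agent.Lib.Helper5.SLnAut Cfsg.Agent.Lib.Helper5.SLnBN

section
variable {n : ℕ} {F : Type*} [Field F] [Fintype F]

theorem ringAut_comm {p f : ℕ} [Fact p.Prime] (hf : 1 ≤ f) (hF : Fintype.card F = p ^ f)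
    (σ τ : F ≃+* F) : σ * τ = τ * σ := by
  obtain ⟨hcyc, -⟩ := Cfsg.Agent.Lib.Helper5.PSL2Aut.ringAut_cyclic_card hf hF
  exact (IsCyclic.commGroup (α := F ≃+* F)).mul_comm σ τ

theorem sigEpsHom_conj {p f : ℕ} [Fact p.Prime] (hf : 1 ≤ f) (hF : Fintype.card F = p ^ f)
    (hn : 3 ≤ n) (α x : MulAut (ProjectiveSpecialLinearGroup (Fin n) F)) :
    sigEpsHom hf hF hn (α * x * α⁻¹) = sigEpsHom hf hF hn x := by
  rw [map_mul, map_mul, map_inv]
  apply Prod.ext
  · show (sigEpsHom hf hF hn α).1 * (sigEpsHom hf hF hn x).1 * ((sigEpsHom hf hF hn α).1)⁻¹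
      = (sigEpsHom hf hF hn x).1
    rw [ringAut_comm hf hF, ← mul_assoc, inv_mul_cancel, one_mul]
  · show (sigEpsHom hf hF hn α).2 * (sigEpsHom hf hF hn x).2 * ((sigEpsHom hf hF hn α).2)⁻¹
      = (sigEpsHom hf hF hn x).2
    rw [mul_comm, ← mul_assoc, inv_mul_cancel, one_mul]

/-- An involutory graph-field automorphism is conjugate under the inner-diagonal group to a
standard one. -/
theorem graphfield_stdform {p f : ℕ} [Fact p.Prime] (hf : 1 ≤ f) (hF : Fintype.card F = p ^ f)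
    (hn : 3 ≤ n) (x : MulAut (ProjectiveSpecialLinearGroup (Fin n) F))
    (hx : Cfsg.IsGraphFieldAutClassPSL x) (hx2 : orderOf x = 2) :
    ∃ σ : F ≃+* F, orderOf σ = 2 ∧ ∃ h : GL (Fin n) F,
      x = semi h (1 : F ≃+* F) * (semi (1 : GL (Fin n) F) σ * tauBar)
        * (semi h (1 : F ≃+* F))⁻¹ := by
  obtain ⟨-, α, φ, γ, σ, hσ1, hφ, hγ, hαx⟩ := hx
  have hx₀ : α * x * α⁻¹ = semi (1 : GL (Fin n) F) σ * tauBar := by
    rw [hαx, eq_semi_of_stdField hφ, eq_tauBar_of_invTranspose hγ]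
  have hord : orderOf (semi (1 : GL (Fin n) F) σ * tauBar) = 2 := by
    rw [← hx₀, ← MulAut.conj_apply, MulEquiv.orderOf_eq, hx2]
  obtain ⟨-, hσ2⟩ := graphfield_order hn σ hσ1 Nat.prime_two hord
  refine ⟨σ, hσ2, ?_⟩
  have h1 : sigEpsHom hf hF hn x = (σ, Multiplicative.ofAdd (1 : ZMod 2)) := by
    rw [← sigEpsHom_conj hf hF hn α x, hx₀]
    have : semi (1 : GL (Fin n) F) σ * tauBar = std 1 σ 1 := by
      unfold std
      rw [tauPow_one]
    rw [this, sigEpsHom_std]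
  obtain ⟨g, hg⟩ := sigEps_spec hf hF (by omega : 2 ≤ n) x
  have h1' : sigEps hf hF (by omega : 2 ≤ n) x = (σ, Multiplicative.ofAdd (1 : ZMod 2)) := h1
  rw [h1'] at hg
  have hg' : x = semi g σ * tauBar := by
    rw [hg]
    unfold std
    show semi g σ * tauPow (1 : ZMod 2) = _
    rw [tauPow_one]
  have hpow : (semi g σ * tauBar) ^ 2 = 1 := by
    rw [← hg', ← hx2]
    exact pow_orderOf_eq_one x
  obtain ⟨h, hh⟩ := graphfield_conj hn g σ hσ2 hpow
  exact ⟨h, by rw [hg', hh]⟩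

end

end Cfsg.Agent.Lib.Helper5.PSLCoset
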