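import Mathlib
import Cfsg.Agent.Lib.Helper5.PSLCoset14

set_option autoImplicit false

/-!
Field automorphisms of `PSL_n(F)` of prime order: standard form, the matrices commuting with a
standard field automorphism, and the class splitting count.
-/

namespace Cfsg.Agent.Lib.Helper5.PSLCoset

open Matrix Matrix.SpecialLinearGroup Cfsg.Agent.Lib.Helper5.SLnAut Cfsg.Agent.Lib.Helper5.SLnBN

section
variable {n : ℕ} {F : Type*} [Field F] [Fintype F]

/-- A conjugate of a standard field automorphism is induced by a semilinear map with the same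
field automorphism. -/
theorem exists_semi_of_conj {p f : ℕ} [Fact p.Prime] (hf : 1 ≤ f) (hF : Fintype.card F = p ^ f)
    (hn : 2 ≤ n) (σ : F ≃+* F) (α : MulAut (ProjectiveSpecialLinearGroup (Fin n) F)) :
    ∃ g : GL (Fin n) F, α⁻¹ * semi (1 : GL (Fin n) F) σ * α = semi g σ := by
  have key : ∀ (a : GL (Fin n) F) (τ : F ≃+* F), ∃ g : GL (Fin n) F,
      (semi a τ)⁻¹ * semi (1 : GL (Fin n) F) σ * semi a τ = semi g σ := by
    intro a τ
    obtain ⟨a', ha'⟩ := semi_inv a τ
    rw [ha', semi_mul_semi, semi_mul_semi]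
    have : τ⁻¹ * σ * τ = σ := by
      rw [mul_assoc, ringAut_comm hf hF σ τ, ← mul_assoc, inv_mul_cancel, one_mul]
    rw [this]
    exact ⟨_, rfl⟩
  obtain ⟨a, τ, h | h⟩ := exists_semi_tau_all hf hF hn α
  · rw [h]
    exact key a τ
  · rw [h]
    obtain ⟨g, hg⟩ := key a τ
    refine ⟨tauGL g, ?_⟩
    have h1 : (semi a τ * tauBar)⁻¹ * semi (1 : GL (Fin n) F) σ * (semi a τ * tauBar)
        = tauBar⁻¹ * ((semi a τ)⁻¹ * semi (1 : GL (Fin n) F) σ * semi a τ) * tauBar := by
      group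
    rw [h1, hg]
    have h2 : (tauBar : MulAut (ProjectiveSpecialLinearGroup (Fin n) F))⁻¹ = tauBar :=
      inv_eq_of_mul_eq_one_left tauBar_mul_self
    rw [h2, tauBar_mul_semi, mul_assoc, tauBar_mul_self, mul_one]

/-- A field automorphism of prime order is conjugate under the inner-diagonal group to a
standard one. -/
theorem field_stdform {p f : ℕ} [Fact p.Prime] (hf : 1 ≤ f) (hF : Fintype.card F = p ^ f)
    (hn : 2 ≤ n) (x : MulAut (ProjectiveSpecialLinearGroup (Fin n) F))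
    (hx : Cfsg.IsFieldAutClassPSL x) {r : ℕ} (hr : r.Prime) (hxr : orderOf x = r) :
    ∃ σ : F ≃+* F, orderOf σ = r ∧ ∃ h : GL (Fin n) F,
      x = semi h (1 : F ≃+* F) * semi (1 : GL (Fin n) F) σ * (semi h (1 : F ≃+* F))⁻¹ := by
  have : Nontrivial (Fin n) := Fin.nontrivial_iff_two_le.2 hn
  obtain ⟨α, σ, hσ1, hstd⟩ := hx
  have hx₀ : α * x * α⁻¹ = semi (1 : GL (Fin n) F) σ := eq_semi_of_stdField hstd
  have hσr : orderOf σ = r := by
    haveI : Fact r.Prime := ⟨hr⟩
    apply orderOf_eq_prime_iff.2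
    refine ⟨?_, hσ1⟩
    have h1 : (semi (1 : GL (Fin n) F) σ) ^ r = 1 := by
      rw [← hx₀, ← hxr, ← MulAut.conj_apply, ← MulEquiv.orderOf_eq (MulAut.conj α) x]
      exact pow_orderOf_eq_one _
    rw [semi_one_pow, ← semi_one_one] at h1
    exact (semi_eq_semi _ _ _ _ h1).1
  refine ⟨σ, hσr, ?_⟩
  obtain ⟨g, hg⟩ := exists_semi_of_conj hf hF hn σ α
  have hxg : x = semi g σ := by
    rw [← hg, ← hx₀]
    group
  have hpow : (semi g σ) ^ r = 1 := by
    rw [← hxg, ← hxr]
    exact pow_orderOf_eq_one x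
  obtain ⟨h, hh⟩ := field_conj hn g σ r hσr hr.pos hpow
  exact ⟨h, by rw [hxg, hh]⟩

end

section
variable {n : ℕ} {F : Type*} [Field F]

theorem mem_commSub_field [Nontrivial (Fin n)] (σ : F ≃+* F) (c : GL (Fin n) F) :
    c ∈ commSub (semiHom n F) (semi (1 : GL (Fin n) F) σ) ↔
      ∃ z : F, z ≠ 0 ∧ (c : Matrix (Fin n) (Fin n) F)
        = z • (c : Matrix (Fin n) (Fin n) F).map σ := by
  rw [mem_commSub, semiHom_apply, semi_one_mul_semi, mul_one, semi_mul_semi, one_mul, mul_one]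
  constructor
  · intro h
    obtain ⟨-, z, hz0, hz⟩ := semi_eq_semi _ _ _ _ h
    exact ⟨z, hz0, hz⟩
  · rintro ⟨z, hz0, hz⟩
    exact semi_eq_of_smul _ _ σ z hz0 hz

theorem map_pow_smul (σ : F ≃+* F) (z : F) (c : Matrix (Fin n) (Fin n) F)
    (hc : c = z • c.map σ) (k : ℕ) : c = nrm σ k z • c.map (σ ^ k : F ≃+* F) := by
  induction k with
  | zero =>
    rw [nrm_zero, one_smul, pow_zero]
    ext i j
    rfl
  | succ k ih =>
    have h1 : c.map (σ ^ k : F ≃+* F)
        = (σ ^ k : F ≃+* F) z • c.map (σ ^ (k + 1) : F ≃+* F) := by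
      conv_lhs => rw [hc]
      ext i j
      simp only [Matrix.map_apply, Matrix.smul_apply, smul_eq_mul, map_mul]
      rw [pow_succ]
      rfl
    have h2 : nrm σ (k + 1) z = nrm σ k z * (σ ^ k : F ≃+* F) z := by
      unfold nrm
      rw [Finset.prod_range_succ]
    conv_lhs => rw [ih, h1, smul_smul, ← h2]

end

section
variable {n : ℕ} {F : Type*} [Field F] [Finite F]

/-- A matrix commuting with a standard field automorphism is a scalar multiple of a matrix fixed
by the field automorphism. -/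
theorem exists_fixed_smul (hn : 2 ≤ n) (σ : F ≃+* F) (r : ℕ) (hσ : orderOf σ = r) (hr0 : 0 < r)
    (c : GL (Fin n) F) (hc : c ∈ commSub (semiHom n F) (semi (1 : GL (Fin n) F) σ)) :
    ∃ (b : F) (hb0 : b ≠ 0) (c' : GL (Fin n) F),
      (c : Matrix (Fin n) (Fin n) F) = b • (c' : Matrix (Fin n) (Fin n) F) ∧
      (c' : Matrix (Fin n) (Fin n) F).map σ = (c' : Matrix (Fin n) (Fin n) F) := by
  have : Nontrivial (Fin n) := Fin.nontrivial_iff_two_le.2 hn
  have hσr : σ ^ r = 1 := by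
    rw [← hσ]
    exact pow_orderOf_eq_one σ
  obtain ⟨z, hz0, hz⟩ := (mem_commSub_field σ c).1 hc
  have h1 := map_pow_smul σ z _ hz r
  rw [hσr] at h1
  have h2 : (c : Matrix (Fin n) (Fin n) F).map ((1 : F ≃+* F)) = c := by
    ext i j
    rfl
  rw [h2] at h1
  have hnz : nrm σ r z = 1 := by
    obtain ⟨k, l, hkl⟩ : ∃ k l, (c : Matrix (Fin n) (Fin n) F) k l ≠ 0 := by
      by_contra hcon
      push Not at hcon
      have h0 : (c : Matrix (Fin n) (Fin n) F) = 0 := by
        ext k l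
        exact hcon k l
      have h1 : (1 : Matrix (Fin n) (Fin n) F) = 0 := by
        rw [← Units.val_one (α := Matrix (Fin n) (Fin n) F), ← mul_inv_cancel c, Units.val_mul,
          h0, Matrix.zero_mul]
      have := congrFun (congrFun h1 ⟨0, by omega⟩) ⟨0, by omega⟩
      rw [Matrix.one_apply_eq, Matrix.zero_apply] at this
      exact one_ne_zero this
    have h3 := congrFun (congrFun h1 k) l
    rw [Matrix.smul_apply, smul_eq_mul] at h3
    have h4 : (nrm σ r z - 1) * (c : Matrix (Fin n) (Fin n) F) k l = 0 := by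
      rw [sub_mul, one_mul, ← h3, sub_self]
    rcases mul_eq_zero.1 h4 with h5 | h5
    · exact sub_eq_zero.1 h5
    · exact absurd h5 hkl
  obtain ⟨b, hb0, hb⟩ := hilbert90_scalar σ r hσ hr0 z hnz
  -- `σ b = z⁻¹ b`
  have hσb : σ b = z⁻¹ * b := by
    calc σ b = z⁻¹ * (z * σ b) := by rw [← mul_assoc, inv_mul_cancel₀ hz0, one_mul]
      _ = z⁻¹ * b := by rw [hb]
  obtain ⟨c', hc'⟩ : ∃ c' : GL (Fin n) F, c' = smulGL b⁻¹ (inv_ne_zero hb0) c := ⟨_, rfl⟩
  have hc'coe : (c' : Matrix (Fin n) (Fin n) F) = b⁻¹ • (c : Matrix (Fin n) (Fin n) F) := by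
    rw [hc', coe_smulGL]
  refine ⟨b, hb0, c', ?_, ?_⟩
  · rw [hc'coe, smul_smul, mul_inv_cancel₀ hb0, one_smul]
  · have h5 : (b⁻¹ • (c : Matrix (Fin n) (Fin n) F)).map σ
        = σ b⁻¹ • (c : Matrix (Fin n) (Fin n) F).map σ := by
      ext i j
      simp
    rw [hc'coe, h5, map_inv₀, hσb]
    conv_rhs => rw [hz]
    rw [smul_smul]
    congr 1
    field_simp

end

end Cfsg.Agent.Lib.Helper5.PSLCoset
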