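import Mathlib
import Cfsg.Agent.Lib.Helper5.PSLCoset15

set_option autoImplicit false

/-!
The class splitting count of a standard field automorphism of `PSL_n(F)`.
-/

namespace Cfsg.Agent.Lib.Helper5.PSLCoset

open Matrix Matrix.SpecialLinearGroup Cfsg.Agent.Lib.Helper5.SLnAut Cfsg.Agent.Lib.Helper5.SLnBN

section
variable {n : ℕ} {F : Type*} [Field F]

theorem semiHom_scalar (u : Fˣ) :
    semiHom n F (Matrix.GeneralLinearGroup.scalar (Fin n) u) = 1 := by
  rw [semiHom_apply, ← semi_one_one]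
  apply semi_eq_of_smul _ _ 1 (u : F) u.ne_zero
  rw [Matrix.GeneralLinearGroup.coe_scalar, Units.val_one, Matrix.scalar_apply,
    Matrix.smul_one_eq_diagonal]

theorem scalar_mem_commSub (x : MulAut (ProjectiveSpecialLinearGroup (Fin n) F)) (u : Fˣ) :
    Matrix.GeneralLinearGroup.scalar (Fin n) u ∈ commSub (semiHom n F) x := by
  rw [mem_commSub, semiHom_scalar, one_mul, mul_one]

theorem det_scalar (u : Fˣ) :
    Matrix.GeneralLinearGroup.det (Matrix.GeneralLinearGroup.scalar (Fin n) u) = u ^ n := by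
  apply Units.ext
  rw [Matrix.GeneralLinearGroup.val_det_apply, Matrix.GeneralLinearGroup.coe_scalar]
  simp

end

section
variable {n : ℕ} {F : Type*} [Field F] [Finite F]

theorem map_det_commSub_field (hn : 2 ≤ n) (σ : F ≃+* F) (r : ℕ) (hσ : orderOf σ = r)
    (hr0 : 0 < r) :
    (commSub (semiHom n F) (semi (1 : GL (Fin n) F) σ)).map
        (Matrix.GeneralLinearGroup.det (n := Fin n) (R := F))
      = (powMonoidHom n : Fˣ →* Fˣ).range ⊔ fixU σ := by
  have : Nontrivial (Fin n) := Fin.nontrivial_iff_two_le.2 hn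
  apply le_antisymm
  · rintro _ ⟨c, hc, rfl⟩
    obtain ⟨b, hb0, c', hcc', hfix⟩ := exists_fixed_smul hn σ r hσ hr0 c hc
    have hdet : Matrix.GeneralLinearGroup.det c
        = (Units.mk0 b hb0) ^ n * Matrix.GeneralLinearGroup.det c' := by
      apply Units.ext
      rw [Units.val_mul, Matrix.GeneralLinearGroup.val_det_apply,
        Matrix.GeneralLinearGroup.val_det_apply, hcc', Matrix.det_smul, Fintype.card_fin,
        Units.val_pow_eq_pow_val, Units.val_mk0]
    show Matrix.GeneralLinearGroup.det c ∈ _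
    rw [hdet]
    apply Subgroup.mul_mem
    · exact Subgroup.mem_sup_left ⟨Units.mk0 b hb0, rfl⟩
    · apply Subgroup.mem_sup_right
      rw [mem_fixU, Matrix.GeneralLinearGroup.val_det_apply]
      have := (RingHom.map_det (σ : F →+* F) (c' : Matrix (Fin n) (Fin n) F))
      have h2 : σ ((c' : Matrix (Fin n) (Fin n) F).det)
          = ((c' : Matrix (Fin n) (Fin n) F).map σ).det := this
      rw [h2, hfix]
  · rw [sup_le_iff]
    constructor
    · rintro _ ⟨u, rfl⟩
      exact ⟨Matrix.GeneralLinearGroup.scalar (Fin n) u, scalar_mem_commSub _ u, det_scalar u⟩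
    · intro w hw
      rw [mem_fixU] at hw
      refine ⟨dgNHom ⟨0, by omega⟩ w, ?_, det_dgNHom _ w⟩
      rw [SetLike.mem_coe, mem_commSub_field]
      refine ⟨1, one_ne_zero, ?_⟩
      rw [one_smul]
      change (diagGL (Pi.mulSingle (⟨0, by omega⟩ : Fin n) w) : Matrix (Fin n) (Fin n) F)
        = (diagGL (Pi.mulSingle (⟨0, by omega⟩ : Fin n) w) : Matrix (Fin n) (Fin n) F).map σ
      rw [diagGL_coe, Matrix.diagonal_map (map_zero σ)]
      congr 1
      ext k
      by_cases hk : k = ⟨0, by omega⟩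
      · subst hk
        rw [Pi.mulSingle_eq_same]
        exact hw.symm
      · rw [Pi.mulSingle_eq_of_ne hk, Units.val_one, map_one]

end

section
variable {n : ℕ} {F : Type*} [Field F] [Fintype F]

theorem index_fixU {p f : ℕ} [Fact p.Prime] (hF : Fintype.card F = p ^ f) (σ : F ≃+* F) (r : ℕ)
    (hσ : orderOf σ = r) (hr0 : 0 < r) :
    (fixU σ).index = (p ^ f - 1) / (p ^ (f / r) - 1) := by
  have h1 := (fixU σ).card_mul_index
  rw [card_fixU hF σ r hσ hr0, Nat.card_units, Nat.card_eq_fintype_card, hF] at h1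
  have hpos : 0 < p ^ (f / r) - 1 := by
    rw [← card_fixU hF σ r hσ hr0]
    exact Nat.card_pos
  exact (Nat.div_eq_of_eq_mul_right hpos h1.symm).symm

theorem splitCount_field {p f : ℕ} [Fact p.Prime] (hF : Fintype.card F = p ^ f) (hn : 2 ≤ n)
    (σ : F ≃+* F) (r : ℕ) (hσ : orderOf σ = r) (hr0 : 0 < r) :
    Cfsg.splitClassCount (Cfsg.inndiagPSL n F)
      (Cfsg.Inn (ProjectiveSpecialLinearGroup (Fin n) F)) (semi (1 : GL (Fin n) F) σ)
      = Nat.gcd n ((p ^ f - 1) / (p ^ (f / r) - 1)) := by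
  rw [splitCount_eq (by omega), map_det_commSub_field hn σ r hσ hr0, index_pow_sup,
    index_fixU hF σ r hσ hr0, Nat.gcd_comm]

end

end Cfsg.Agent.Lib.Helper5.PSLCoset
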