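import Mathlib
import Cfsg.Agent.Lib.Helper5.PSLCoset16

set_option autoImplicit false

/-!
The centralizer of a standard field automorphism of `PSL_n(F)` in the inner-diagonal group is
`PGL_n` over the fixed field.
-/

namespace Cfsg.Agent.Lib.Helper5.PSLCoset

open Matrix Matrix.SpecialLinearGroup Cfsg.Agent.Lib.Helper5.SLnAut Cfsg.Agent.Lib.Helper5.SLnBN

section
variable {F : Type*} [Field F] [Fintype F]

/-- An embedding of a field with `p^(f/r)` elements onto the fixed field. -/
theorem exists_embedding_fixed {p f : ℕ} [Fact p.Prime] (hF : Fintype.card F = p ^ f)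
    (σ : F ≃+* F) (r : ℕ) (hσ : orderOf σ = r) (hr0 : 0 < r)
    (F₀ : Type*) [Field F₀] [Fintype F₀] (hF₀ : Fintype.card F₀ = p ^ (f / r)) :
    ∃ ι : F₀ →+* F, ∀ a : F, σ a = a ↔ a ∈ Set.range ι := by
  classical
  obtain ⟨-, hcard⟩ := card_fixed hF σ r hσ hr0
  obtain ⟨E, hE⟩ : ∃ E : Subfield F, E = RingHom.eqLocusField (σ : F →+* F) (RingHom.id F) :=
    ⟨_, rfl⟩
  have hmem : ∀ a : F, a ∈ E ↔ σ a = a := by
    intro a
    rw [hE]
    exact Iff.rfl
  haveI : Fintype E := Fintype.ofFinite E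
  have hcardE : Fintype.card F₀ = Fintype.card E := by
    rw [hF₀, ← hcard, ← Nat.card_eq_fintype_card]
    apply Nat.card_congr
    exact Equiv.subtypeEquivRight (fun a => (hmem a).symm)
  have e : F₀ ≃+* E := FiniteField.ringEquivOfCardEq hcardE
  refine ⟨E.subtype.comp (e : F₀ →+* E), ?_⟩
  intro a
  rw [← hmem]
  constructor
  · intro ha
    exact ⟨e.symm ⟨a, ha⟩, by simp⟩
  · rintro ⟨b, rfl⟩
    exact (e b).2

end

section
variable {n : ℕ} {F : Type*} [Field F] [Fintype F]

theorem centralizer_field_equiv {p f : ℕ} [Fact p.Prime] (hF : Fintype.card F = p ^ f)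
    (hn : 2 ≤ n) (σ : F ≃+* F) (r : ℕ) (hσ : orderOf σ = r) (hr0 : 0 < r)
    (F₀ : Type*) [Field F₀] [Fintype F₀] (hF₀ : Fintype.card F₀ = p ^ (f / r)) :
    Nonempty (↥(Cfsg.inndiagPSL n F ⊓
      Subgroup.centralizer {semi (1 : GL (Fin n) F) σ}) ≃* Matrix.ProjGenLinGroup (Fin n) F₀) := by
  have : Nontrivial (Fin n) := Fin.nontrivial_iff_two_le.2 hn
  obtain ⟨ι, hι⟩ := exists_embedding_fixed hF σ r hσ hr0 F₀ hF₀
  have hιfix : ∀ b : F₀, σ (ι b) = ι b := fun b => (hι _).2 ⟨b, rfl⟩
  have hcent : ∀ g : GL (Fin n) F₀,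
      semi (Matrix.GeneralLinearGroup.map ι g) (1 : F ≃+* F) ∈ Cfsg.inndiagPSL n F ⊓
        Subgroup.centralizer {semi (1 : GL (Fin n) F) σ} := by
    intro g
    refine Subgroup.mem_inf.2 ⟨semi_mem_inndiag _, ?_⟩
    apply semi_mem_centralizer_of_mem_commSub
    rw [mem_commSub_field]
    refine ⟨1, one_ne_zero, ?_⟩
    rw [one_smul]
    ext i j
    show ι ((g : Matrix (Fin n) (Fin n) F₀) i j) = σ (ι ((g : Matrix (Fin n) (Fin n) F₀) i j))
    rw [hιfix]
  obtain ⟨φ, hφ⟩ : ∃ φ : GL (Fin n) F₀ →* ↥(Cfsg.inndiagPSL n F ⊓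
      Subgroup.centralizer {semi (1 : GL (Fin n) F) σ}),
      ∀ g, (φ g : MulAut (ProjectiveSpecialLinearGroup (Fin n) F))
        = semi (Matrix.GeneralLinearGroup.map ι g) (1 : F ≃+* F) :=
    ⟨{ toFun := fun g => ⟨semi (Matrix.GeneralLinearGroup.map ι g) (1 : F ≃+* F), hcent g⟩
       map_one' := by
         apply Subtype.ext
         show semi (Matrix.GeneralLinearGroup.map ι 1) (1 : F ≃+* F) = 1
         rw [map_one]
         exact semi_one_one
       map_mul' := by
         intro g g'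
         apply Subtype.ext
         show semi (Matrix.GeneralLinearGroup.map ι (g * g')) (1 : F ≃+* F)
           = semi (Matrix.GeneralLinearGroup.map ι g) (1 : F ≃+* F)
             * semi (Matrix.GeneralLinearGroup.map ι g') (1 : F ≃+* F)
         rw [map_mul, semi_one_mul_semi_one] },
      fun g => rfl⟩
  have hsurj : Function.Surjective φ := by
    rintro ⟨a, ha⟩
    obtain ⟨ha1, ha2⟩ := Subgroup.mem_inf.1 ha
    obtain ⟨c, rfl⟩ := mem_inndiag_iff.1 ha1
    have hc : c ∈ commSub (semiHom n F) (semi (1 : GL (Fin n) F) σ) := ha2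
    obtain ⟨b, hb0, c', hcc', hfix⟩ := exists_fixed_smul hn σ r hσ hr0 c hc
    -- lift `c'` to a matrix over `F₀`
    have hentry : ∀ i j, ∃ t : F₀, ι t = (c' : Matrix (Fin n) (Fin n) F) i j := by
      intro i j
      have h1 : σ ((c' : Matrix (Fin n) (Fin n) F) i j) = (c' : Matrix (Fin n) (Fin n) F) i j :=
        congrFun (congrFun hfix i) j
      exact (hι _).1 h1
    choose g₀ hg₀ using hentry
    have hmap : (Matrix.of g₀ : Matrix (Fin n) (Fin n) F₀).map ι
        = (c' : Matrix (Fin n) (Fin n) F) := by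
      ext i j
      exact hg₀ i j
    have hdet : ι (Matrix.of g₀ : Matrix (Fin n) (Fin n) F₀).det
        = (c' : Matrix (Fin n) (Fin n) F).det := by
      rw [← hmap]
      exact RingHom.map_det ι _
    have hdet0 : (Matrix.of g₀ : Matrix (Fin n) (Fin n) F₀).det ≠ 0 := by
      intro h0
      rw [h0, map_zero] at hdet
      have hu : IsUnit (c' : Matrix (Fin n) (Fin n) F).det :=
        (Matrix.isUnit_iff_isUnit_det _).1 ⟨c', rfl⟩
      rw [← hdet] at hu
      exact not_isUnit_zero hu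
    have hu₀ : IsUnit (Matrix.of g₀ : Matrix (Fin n) (Fin n) F₀) :=
      (Matrix.isUnit_iff_isUnit_det _).2 (isUnit_iff_ne_zero.2 hdet0)
    refine ⟨hu₀.unit, ?_⟩
    apply Subtype.ext
    rw [hφ]
    symm
    apply semi_eq_of_smul c _ 1 b hb0
    rw [hcc']
    congr 1
    exact hmap.symm
  have hker : φ.ker = Subgroup.center (GL (Fin n) F₀) := by
    ext g
    rw [MonoidHom.mem_ker]
    constructor
    · intro h
      have h1 : semi (Matrix.GeneralLinearGroup.map ι g) (1 : F ≃+* F)
          = semi (1 : GL (Fin n) F) 1 := by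
        rw [← hφ, h, semi_one_one]
        rfl
      obtain ⟨-, z, hz0, hz⟩ := semi_eq_semi _ _ _ _ h1
      rw [Units.val_one] at hz
      rw [Matrix.GeneralLinearGroup.mem_center_iff_val_mem_range_scalar]
      refine ⟨(g : Matrix (Fin n) (Fin n) F₀) ⟨0, by omega⟩ ⟨0, by omega⟩, ?_⟩
      ext i j
      have hij : ι ((g : Matrix (Fin n) (Fin n) F₀) i j)
          = (z • (1 : Matrix (Fin n) (Fin n) F)) i j := congrFun (congrFun hz i) j
      rw [Matrix.scalar_apply, Matrix.diagonal_apply]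
      by_cases h : i = j
      · subst h
        rw [if_pos rfl]
        apply ι.injective
        rw [hij]
        have h00 : ι ((g : Matrix (Fin n) (Fin n) F₀) ⟨0, by omega⟩ ⟨0, by omega⟩)
            = (z • (1 : Matrix (Fin n) (Fin n) F)) ⟨0, by omega⟩ ⟨0, by omega⟩ :=
          congrFun (congrFun hz _) _
        rw [h00, Matrix.smul_apply, Matrix.smul_apply, Matrix.one_apply_eq, Matrix.one_apply_eq]
      · rw [if_neg h]
        apply ι.injective
        rw [hij, Matrix.smul_apply, Matrix.one_apply_ne h, smul_zero, map_zero]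
    · intro h
      have h1 := Matrix.GeneralLinearGroup.map_center_le ι h
      rw [Subgroup.mem_comap, Matrix.GeneralLinearGroup.center_eq_range_scalar] at h1
      obtain ⟨u, hu⟩ := h1
      apply Subtype.ext
      rw [hφ, ← hu]
      exact semiHom_scalar u
  exact ⟨((QuotientGroup.quotientMulEquivOfEq hker).symm.trans
    (QuotientGroup.quotientKerEquivOfSurjective φ hsurj)).symm⟩

end

end Cfsg.Agent.Lib.Helper5.PSLCoset
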