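import Mathlib
import Cfsg.Prelude.Def_LieTypeDatum

set_option autoImplicit false

/-! Generic group theory for the action of a normalising group on the central quotient of a
commutator subgroup. -/

namespace Cfsg.Agent.Lib.Helper5.PGO

section Generic

variable {G : Type*} [Group G]

theorem char_mem_iff (H : Subgroup G) [hH : H.Characteristic] (α : G ≃* G) (x : G) :
    α x ∈ H ↔ x ∈ H := by
  have h := hH.fixed α
  constructor
  · intro hx
    rw [← h]
    exact hx
  · intro hx
    rw [← h] at hx
    exact hx

/-- restriction of automorphisms to a characteristic subgroup -/
def resChar (H : Subgroup G) [H.Characteristic] : MulAut G →* MulAut H where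
  toFun α :=
    { toFun := fun x => ⟨α x, (char_mem_iff H α x).2 x.2⟩
      invFun := fun x => ⟨α.symm x, (char_mem_iff H α.symm x).2 x.2⟩
      left_inv := fun x => by
        apply Subtype.ext
        simp
      right_inv := fun x => by
        apply Subtype.ext
        simp
      map_mul' := fun x y => by
        apply Subtype.ext
        simp }
  map_one' := by
    ext x
    rfl
  map_mul' α β := by
    ext x
    rfl

@[simp] theorem resChar_apply (H : Subgroup G) [H.Characteristic] (α : MulAut G) (x : H) :
    ((resChar H α x : H) : G) = α (x : G) := rfl

theorem map_eq_of_char (H : Subgroup G) [H.Characteristic] (α : G ≃* G) :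
    H.map α.toMonoidHom = H := by
  ext x
  constructor
  · rintro ⟨y, hy, rfl⟩
    exact (char_mem_iff H α y).2 hy
  · intro hx
    refine ⟨α.symm x, (char_mem_iff H α.symm x).2 hx, ?_⟩
    simp

/-- the automorphism induced on the quotient by a characteristic subgroup -/
noncomputable def quotChar (H : Subgroup G) [H.Characteristic] [H.Normal] :
    MulAut G →* MulAut (G ⧸ H) where
  toFun α := QuotientGroup.congr H H α (map_eq_of_char H α)
  map_one' := by
    ext x
    induction x using QuotientGroup.induction_on with
    | H x => rfl
  map_mul' α β := by
    ext x
    induction x using QuotientGroup.induction_on with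
    | H x => rfl

@[simp] theorem quotChar_mk (H : Subgroup G) [H.Characteristic] [H.Normal] (α : MulAut G) (x : G) :
    quotChar H α (QuotientGroup.mk x) = QuotientGroup.mk (α x) := rfl

end Generic

end Cfsg.Agent.Lib.Helper5.PGO
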