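import Mathlib
import Cfsg.Agent.Lib.Helper5.SLnOut1
import Cfsg.Agent.Lib.Helper5.PGO1

set_option autoImplicit false

/-! Automorphisms of `PSU_n` induced by conformal unitary matrices and by field automorphisms. -/

namespace Cfsg.Agent.Lib.Helper5.PSUAut

open Matrix Matrix.SpecialLinearGroup Cfsg.Agent.Lib.Helper5.SLnAut Cfsg.Agent.Lib.Helper5.PGO

section
variable {n : ℕ} {F : Type*} [Field F] {q : ℕ}

/-- the conformal unitary group -/
abbrev CU (n : ℕ) (F : Type*) [Field F] (q : ℕ) : Subgroup (GL (Fin n) F) :=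
  Cfsg.Geo.similarityGroup (Cfsg.hermForm n F q)

theorem mem_SU_iff (s : SpecialLinearGroup (Fin n) F) :
    s ∈ Cfsg.SU n F q ↔ ∀ u v, Cfsg.hermForm n F q ((s : Matrix (Fin n) (Fin n) F) *ᵥ u)
      ((s : Matrix (Fin n) (Fin n) F) *ᵥ v) = Cfsg.hermForm n F q u v := Iff.rfl

/-- automorphisms of `SL_n` stabilising `SU_n` -/
def stab (n : ℕ) (F : Type*) [Field F] (q : ℕ) :
    Subgroup (MulAut (SpecialLinearGroup (Fin n) F)) where
  carrier := {θ | ∀ s, θ s ∈ Cfsg.SU n F q ↔ s ∈ Cfsg.SU n F q}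
  mul_mem' := by
    intro a b ha hb s
    rw [MulAut.mul_apply, ha, hb]
  one_mem' := fun s => Iff.rfl
  inv_mem' := by
    intro a ha s
    have := ha (a⁻¹ s)
    rw [MulAut.apply_inv_self] at this
    exact this.symm

theorem mem_stab {θ : MulAut (SpecialLinearGroup (Fin n) F)} :
    θ ∈ stab n F q ↔ ∀ s, θ s ∈ Cfsg.SU n F q ↔ s ∈ Cfsg.SU n F q := Iff.rfl

/-- restriction to `SU_n` -/
def resSU : ↥(stab n F q) →* MulAut ↥(Cfsg.SU n F q) where
  toFun θ :=
    { toFun := fun s => ⟨θ.1 s.1, (θ.2 s.1).2 s.2⟩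
      invFun := fun s => ⟨θ.1⁻¹ s.1, ((stab n F q).inv_mem θ.2 s.1).2 s.2⟩
      left_inv := fun s => by
        apply Subtype.ext
        exact MulAut.inv_apply_self _ θ.1 s.1
      right_inv := fun s => by
        apply Subtype.ext
        exact MulAut.apply_inv_self _ θ.1 s.1
      map_mul' := fun s t => by
        apply Subtype.ext
        exact map_mul θ.1 s.1 t.1 }
  map_one' := by
    ext s
    rfl
  map_mul' a b := by
    ext s
    rfl

theorem resSU_apply (θ : ↥(stab n F q)) (s : ↥(Cfsg.SU n F q)) :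
    ((resSU θ s : ↥(Cfsg.SU n F q)) : SpecialLinearGroup (Fin n) F) = θ.1 s.1 := rfl

/-- the induced automorphism of `PSU_n` -/
noncomputable def psuAut : ↥(stab n F q) →* MulAut (Cfsg.PSU n F q) :=
  (quotChar (Subgroup.center ↥(Cfsg.SU n F q))).comp resSU

theorem psuAut_mk (θ : ↥(stab n F q)) (s : ↥(Cfsg.SU n F q)) :
    psuAut θ (QuotientGroup.mk s) = QuotientGroup.mk (resSU θ s) := rfl

end

end Cfsg.Agent.Lib.Helper5.PSUAut
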