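import Mathlib
import Cfsg.Agent.Lib.Helper5.PSUAut1

set_option autoImplicit false

/-! Conformal unitary matrices and field automorphisms stabilise `SU_n`. -/

namespace Cfsg.Agent.Lib.Helper5.PSUAut

open Matrix Matrix.SpecialLinearGroup Cfsg.Agent.Lib.Helper5.SLnAut Cfsg.Agent.Lib.Helper5.PGO

section
variable {n : ℕ} {F : Type*} [Field F] {q : ℕ}

theorem herm_map (σ : F ≃+* F) (x y : Fin n → F) :
    Cfsg.hermForm n F q (fun i => σ (x i)) (fun i => σ (y i)) = σ (Cfsg.hermForm n F q x y) := by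
  unfold Cfsg.hermForm
  rw [map_sum]
  apply Finset.sum_congr rfl
  intro i _
  rw [map_mul, map_pow]

theorem map_mulVec' (σ : F ≃+* F) (M : Matrix (Fin n) (Fin n) F) (x : Fin n → F) :
    M.map σ *ᵥ (fun i => σ (x i)) = fun i => σ ((M *ᵥ x) i) := by
  funext i
  have := RingHom.map_mulVec (σ : F →+* F) M x i
  exact this.symm

theorem glConj_mem_aux (g : GL (Fin n) F) (hg : g ∈ CU n F q) (s : SpecialLinearGroup (Fin n) F)
    (hs : s ∈ Cfsg.SU n F q) : glConj g s ∈ Cfsg.SU n F q := by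
  obtain ⟨c, hc⟩ := hg
  rw [mem_SU_iff] at hs ⊢
  intro u v
  have hinv : ∀ x : Fin n → F, (g : Matrix (Fin n) (Fin n) F) *ᵥ
      (((g⁻¹ : GL (Fin n) F) : Matrix (Fin n) (Fin n) F) *ᵥ x) = x := by
    intro x
    rw [Matrix.mulVec_mulVec, ← Units.val_mul, mul_inv_cancel, Units.val_one, Matrix.one_mulVec]
  rw [glConj_coe, ← Matrix.mulVec_mulVec, ← Matrix.mulVec_mulVec, ← Matrix.mulVec_mulVec,
    ← Matrix.mulVec_mulVec, hc, hs, ← hc, hinv, hinv]

theorem glConj_mem_stab (g : GL (Fin n) F) (hg : g ∈ CU n F q) : glConj g ∈ stab n F q := by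
  intro s
  constructor
  · intro h
    have := glConj_mem_aux g⁻¹ (inv_mem hg) _ h
    rw [← MulAut.mul_apply, ← map_mul, inv_mul_cancel, map_one] at this
    exact this
  · exact glConj_mem_aux g hg s

theorem fieldAut_mem_aux (σ : F ≃+* F) (s : SpecialLinearGroup (Fin n) F)
    (hs : s ∈ Cfsg.SU n F q) : fieldAut σ s ∈ Cfsg.SU n F q := by
  rw [mem_SU_iff] at hs ⊢
  intro u v
  obtain ⟨u, rfl⟩ : ∃ u' : Fin n → F, u = fun i => σ (u' i) :=
    ⟨fun i => σ.symm (u i), by funext i; rw [RingEquiv.apply_symm_apply]⟩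
  obtain ⟨v, rfl⟩ : ∃ v' : Fin n → F, v = fun i => σ (v' i) :=
    ⟨fun i => σ.symm (v i), by funext i; rw [RingEquiv.apply_symm_apply]⟩
  rw [fieldAut_coe, map_mulVec', map_mulVec', herm_map, hs, herm_map]

theorem fieldAut_mem_stab (σ : F ≃+* F) : fieldAut σ ∈ stab n F q := by
  intro s
  constructor
  · intro h
    have := fieldAut_mem_aux (q := q) σ⁻¹ _ h
    rw [← MulAut.mul_apply, ← map_mul, inv_mul_cancel, map_one] at this
    exact this
  · exact fieldAut_mem_aux σ s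

/-- conjugation by a conformal unitary matrix, on `PSU_n` -/
noncomputable def cjC : ↥(CU n F q) →* MulAut (Cfsg.PSU n F q) where
  toFun g := psuAut ⟨glConj (g : GL (Fin n) F), glConj_mem_stab _ g.2⟩
  map_one' := by
    rw [← map_one psuAut]
    congr 1
    exact Subtype.ext (map_one glConj)
  map_mul' g h := by
    rw [← map_mul psuAut]
    congr 1
    apply Subtype.ext
    exact map_mul glConj _ _

/-- a field automorphism, on `PSU_n` -/
noncomputable def fa : (F ≃+* F) →* MulAut (Cfsg.PSU n F q) where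
  toFun σ := psuAut ⟨fieldAut σ, fieldAut_mem_stab σ⟩
  map_one' := by
    rw [← map_one psuAut]
    congr 1
  map_mul' σ τ := by
    rw [← map_mul psuAut]
    congr 1

theorem cjC_mk (g : ↥(CU n F q)) (s : ↥(Cfsg.SU n F q)) :
    cjC g (QuotientGroup.mk s) = QuotientGroup.mk
      (⟨glConj (g : GL (Fin n) F) s.1, (glConj_mem_stab _ g.2 s.1).2 s.2⟩ :
        ↥(Cfsg.SU n F q)) := rfl

theorem fa_mk (σ : F ≃+* F) (s : ↥(Cfsg.SU n F q)) :
    (fa σ : MulAut (Cfsg.PSU n F q)) (QuotientGroup.mk s) = QuotientGroup.mk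
      (⟨fieldAut σ s.1, (fieldAut_mem_stab σ s.1).2 s.2⟩ : ↥(Cfsg.SU n F q)) := rfl

/-- the image of a conformal unitary matrix under a field automorphism -/
theorem map_mem_CU (σ : F ≃+* F) (g : GL (Fin n) F) (hg : g ∈ CU n F q) :
    Matrix.GeneralLinearGroup.map (σ : F →+* F) g ∈ CU n F q := by
  obtain ⟨c, hc⟩ := hg
  refine ⟨Units.map (σ : F →* F) c, fun u v => ?_⟩
  obtain ⟨u, rfl⟩ : ∃ u' : Fin n → F, u = fun i => σ (u' i) :=
    ⟨fun i => σ.symm (u i), by funext i; rw [RingEquiv.apply_symm_apply]⟩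
  obtain ⟨v, rfl⟩ : ∃ v' : Fin n → F, v = fun i => σ (v' i) :=
    ⟨fun i => σ.symm (v i), by funext i; rw [RingEquiv.apply_symm_apply]⟩
  have hcoe : ((Matrix.GeneralLinearGroup.map (σ : F →+* F) g : GL (Fin n) F) :
      Matrix (Fin n) (Fin n) F) = (g : Matrix (Fin n) (Fin n) F).map σ := rfl
  rw [hcoe, map_mulVec', map_mulVec', herm_map, hc, herm_map, map_mul]
  rfl

/-- the action of field automorphisms on the conformal unitary group -/
def mapCU (σ : F ≃+* F) (g : ↥(CU n F q)) : ↥(CU n F q) :=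
  ⟨Matrix.GeneralLinearGroup.map (σ : F →+* F) (g : GL (Fin n) F), map_mem_CU σ _ g.2⟩

theorem fa_mul_cjC (σ : F ≃+* F) (g : ↥(CU n F q)) :
    (fa σ : MulAut (Cfsg.PSU n F q)) * cjC g = cjC (mapCU σ g) * fa σ := by
  apply MulEquiv.ext
  intro x
  obtain ⟨s, rfl⟩ := QuotientGroup.mk_surjective x
  rw [MulAut.mul_apply, MulAut.mul_apply, cjC_mk, fa_mk, fa_mk, cjC_mk]
  congr 1
  apply Subtype.ext
  exact fieldAut_glConj σ (g : GL (Fin n) F) s.1

end

end Cfsg.Agent.Lib.Helper5.PSUAut
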