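import Mathlib
import Cfsg.Agent.Lib.Helper5.PSUAut2
import Cfsg.Agent.Lib.Helper5.PSLCoset12
import Cfsg.Agent.Lib.Helper2.HermDecomp
import Cfsg.Agent.Lib.Helper2.UT3

set_option autoImplicit false

/-! The inner-diagonal group of `PSU_n` is the image of the conformal unitary group. -/

namespace Cfsg.Agent.Lib.Helper5.PSUAut

open Matrix Matrix.SpecialLinearGroup Cfsg.Agent.Lib.Helper5.SLnAut Cfsg.Agent.Lib.Helper5.PGO
  Cfsg.Agent.Lib.Helper5.PSLCoset

section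
variable {n : ℕ} {F : Type*} [Field F] {q : ℕ}

theorem GU_le_CU : Cfsg.GU n F q ≤ CU n F q := by
  intro g hg
  refine ⟨1, fun u v => ?_⟩
  rw [Units.val_one, one_mul]
  exact hg u v

theorem mem_CU_iff (σ : F ≃+* F) (hσq : ∀ a : F, σ a = a ^ q) (g : GL (Fin n) F) :
    g ∈ CU n F q ↔ ∃ c : Fˣ,
      (g : Matrix (Fin n) (Fin n) F)ᵀ * (g : Matrix (Fin n) (Fin n) F).map σ
        = (c : F) • (1 : Matrix (Fin n) (Fin n) F) := by
  have hmap : ∀ v : Fin n → F, (fun i => σ (((g : Matrix (Fin n) (Fin n) F) *ᵥ v) i))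
      = (g : Matrix (Fin n) (Fin n) F).map σ *ᵥ (fun i => σ (v i)) := by
    intro v
    ext i
    simp [Matrix.mulVec, dotProduct, map_sum, map_mul]
  have hform : ∀ u v : Fin n → F,
      Cfsg.hermForm n F q ((g : Matrix (Fin n) (Fin n) F) *ᵥ u)
        ((g : Matrix (Fin n) (Fin n) F) *ᵥ v)
      = u ⬝ᵥ (((g : Matrix (Fin n) (Fin n) F)ᵀ * (g : Matrix (Fin n) (Fin n) F).map σ)
        *ᵥ (fun i => σ (v i))) := by
    intro u v
    rw [hermForm_eq σ q hσq, hmap]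
    conv_rhs => rw [← Matrix.mulVec_mulVec, Matrix.dotProduct_mulVec, Matrix.vecMul_transpose]
  constructor
  · rintro ⟨c, hc⟩
    refine ⟨c, ?_⟩
    ext i j
    have h1 := hc (Pi.single i 1) (fun k => σ.symm ((Pi.single j (1 : F) : Fin n → F) k))
    rw [hform, hermForm_eq σ q hσq] at h1
    simp only [RingEquiv.apply_symm_apply] at h1
    rw [Matrix.mulVec_single_one, single_one_dotProduct, single_one_dotProduct,
      Matrix.col_apply, Pi.single_apply] at h1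
    rw [h1, Matrix.smul_apply, Matrix.one_apply, smul_eq_mul]
  · rintro ⟨c, hc⟩
    refine ⟨c, fun u v => ?_⟩
    rw [hform, hc, Matrix.smul_mulVec, Matrix.one_mulVec, dotProduct_smul, smul_eq_mul,
      hermForm_eq σ q hσq]

theorem cjC_eq_of_smul (g g' : ↥(CU n F q)) (z : F) (hz : z ≠ 0)
    (h : ((g : GL (Fin n) F) : Matrix (Fin n) (Fin n) F)
      = z • ((g' : GL (Fin n) F) : Matrix (Fin n) (Fin n) F)) : cjC g = cjC g' := by
  show psuAut _ = psuAut _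
  congr 1
  apply Subtype.ext
  exact glConj_eq_of_smul _ _ z hz h

theorem cjC_eq_one_of_scalar (g : ↥(CU n F q)) (z : F) (hz : z ≠ 0)
    (h : ((g : GL (Fin n) F) : Matrix (Fin n) (Fin n) F) = z • (1 : Matrix (Fin n) (Fin n) F)) :
    cjC g = 1 := by
  rw [← map_one (cjC (n := n) (F := F) (q := q))]
  apply cjC_eq_of_smul g 1 z hz
  rw [h]
  rfl

end

section
variable {n : ℕ} {F : Type*} [Field F] [Fintype F] {q : ℕ}

/-- every conformal unitary matrix is a scalar multiple of a unitary matrix -/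
theorem exists_smul_mem_GU (hF : Fintype.card F = q ^ 2) (g : GL (Fin n) F)
    (hg : g ∈ CU n F q) : ∃ g' : GL (Fin n) F, g' ∈ Cfsg.GU n F q ∧ ∃ z : F, z ≠ 0 ∧
      (g : Matrix (Fin n) (Fin n) F) = z • (g' : Matrix (Fin n) (Fin n) F) := by
  obtain ⟨σ, hσ, hσq⟩ := Cfsg.Agent.Lib.Helper2.HermDecomp.exists_sigma hF
  have hσ2 := Cfsg.Agent.Lib.Helper2.WittHerm.sigma_sigma hσ
  obtain ⟨c, hc⟩ := (mem_CU_iff σ hσq g).1 hg
  by_cases hn : n = 0
  · subst hn
    refine ⟨g, ?_, 1, one_ne_zero, by rw [one_smul]⟩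
    rw [mem_GU_iff σ q hσq]
    exact Subsingleton.elim _ _
  have hcfix : σ (c : F) = c := by
    have h1 : (((g : Matrix (Fin n) (Fin n) F)ᵀ * (g : Matrix (Fin n) (Fin n) F).map σ).map σ)ᵀ
        = (g : Matrix (Fin n) (Fin n) F)ᵀ * (g : Matrix (Fin n) (Fin n) F).map σ := by
      rw [Matrix.map_mul, Matrix.transpose_mul, Matrix.transpose_map, Matrix.transpose_transpose,
        Matrix.map_map]
      congr 1
      ext i j
      simp [hσ2]
    rw [hc] at h1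
    have h2 := congrFun (congrFun h1 ⟨0, Nat.pos_of_ne_zero hn⟩) ⟨0, Nat.pos_of_ne_zero hn⟩
    simpa using h2
  obtain ⟨w, hw0, hw⟩ := Cfsg.Agent.Lib.Helper2.UT.exists_norm_eq hσ (c : F) c.ne_zero hcfix
  obtain ⟨g', hg'⟩ : ∃ g' : GL (Fin n) F, g' = Matrix.GeneralLinearGroup.scalar (Fin n)
      (Units.mk0 w hw0)⁻¹ * g := ⟨_, rfl⟩
  have hg'c : (g' : Matrix (Fin n) (Fin n) F) = w⁻¹ • (g : Matrix (Fin n) (Fin n) F) := by
    rw [hg', Units.val_mul, Matrix.GeneralLinearGroup.coe_scalar, Matrix.scalar_apply,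
      ← Matrix.smul_eq_diagonal_mul]
    simp
  refine ⟨g', ?_, w, hw0, ?_⟩
  · rw [mem_GU_iff σ q hσq, hg'c, Matrix.transpose_smul]
    have : (w⁻¹ • (g : Matrix (Fin n) (Fin n) F)).map σ
        = (σ w)⁻¹ • (g : Matrix (Fin n) (Fin n) F).map σ := by
      ext i j
      simp
    rw [this, Matrix.smul_mul, Matrix.mul_smul, hc, smul_smul, smul_smul, ← hw]
    have hσw : σ w ≠ 0 := (map_ne_zero_iff _ σ.injective).2 hw0
    have : w⁻¹ * (σ w)⁻¹ * (w * σ w) = 1 := by field_simp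
    rw [this, one_smul]
  · rw [hg'c, smul_smul, mul_inv_cancel₀ hw0, one_smul]

theorem isInnerDiagonal_cjC (hF : Fintype.card F = q ^ 2) (g : ↥(CU n F q)) :
    Cfsg.IsInnerDiagonalAutPSU (cjC g) := by
  obtain ⟨g', hg', z, hz, h⟩ := exists_smul_mem_GU hF g.1 g.2
  have h1 : cjC g = cjC ⟨g', GU_le_CU hg'⟩ := cjC_eq_of_smul _ _ z hz h
  refine ⟨g', hg', fun s s' hs => ?_⟩
  rw [h1, cjC_mk]
  congr 1
  apply Subtype.ext
  apply Subtype.ext
  rw [hs]
  exact glConj_coe _ _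

end

section
variable {n : ℕ} {F : Type*} [Field F] {q : ℕ}

theorem eq_cjC_of_isInnerDiagonal {δ : MulAut (Cfsg.PSU n F q)}
    (h : Cfsg.IsInnerDiagonalAutPSU δ) : ∃ g : ↥(CU n F q), (g : GL (Fin n) F) ∈ Cfsg.GU n F q ∧
      δ = cjC g := by
  obtain ⟨g, hg, h⟩ := h
  refine ⟨⟨g, GU_le_CU hg⟩, hg, ?_⟩
  apply MulEquiv.ext
  intro x
  obtain ⟨s, rfl⟩ := QuotientGroup.mk_surjective x
  rw [cjC_mk]
  apply h
  exact glConj_coe _ _

theorem isFieldAut_fa (σ : F ≃+* F) :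
    Cfsg.IsFieldAutPSUOf σ (fa σ : MulAut (Cfsg.PSU n F q)) := by
  intro s s' hs
  rw [fa_mk]
  congr 1
  apply Subtype.ext
  apply Subtype.ext
  rw [hs]
  rfl

theorem eq_fa_of_isFieldAut {σ : F ≃+* F} {φ : MulAut (Cfsg.PSU n F q)}
    (h : Cfsg.IsFieldAutPSUOf σ φ) : φ = fa σ := by
  apply MulEquiv.ext
  intro x
  obtain ⟨s, rfl⟩ := QuotientGroup.mk_surjective x
  rw [fa_mk]
  apply h
  rfl

end

section
variable {n : ℕ} {F : Type*} [Field F] [Fintype F] {q : ℕ}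

theorem inndiagPSU_eq (hF : Fintype.card F = q ^ 2) :
    Cfsg.inndiagPSU n F q = (cjC (n := n) (F := F) (q := q)).range := by
  unfold Cfsg.inndiagPSU Cfsg.autSubgroupOf
  apply le_antisymm
  · rw [Subgroup.closure_le]
    intro δ hδ
    obtain ⟨g, -, rfl⟩ := eq_cjC_of_isInnerDiagonal hδ
    exact ⟨g, rfl⟩
  · rintro _ ⟨g, rfl⟩
    exact Subgroup.subset_closure (isInnerDiagonal_cjC hF g)

end

end Cfsg.Agent.Lib.Helper5.PSUAut
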