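import Mathlib
import Cfsg.Agent.Lib.Helper5.PSUAut3
import Cfsg.Agent.Lib.Helper2.UT15
import Cfsg.Agent.Lib.Helper9.SURoot2
import Cfsg.Agent.Lib.Helper1.SUCenter
import Cfsg.Agent.Lib.Helper2.GUIsom

set_option autoImplicit false

/-! Faithfulness of the action of the conformal semilinear unitary group on `PSU_n`, `n ≥ 3`. -/

namespace Cfsg.Agent.Lib.Helper5.PSUAut

open Matrix Matrix.SpecialLinearGroup Cfsg.Agent.Lib.Helper5.SLnAut Cfsg.Agent.Lib.Helper5.PGO
  Cfsg.Agent.Lib.Helper5.PSLCoset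

section
variable {F : Type*} [Field F] {σ : F ≃+* F} {V : Type*} [AddCommGroup V] [Module F V]
  {H : V → V → F}

theorem tau_eq_one_of_fix (hσ : orderOf σ = 2) (h : IsHerm σ H) (τ : F ≃+* F) (g : V → V)
    (hadd : ∀ x y, g (x + y) = g x + g y) (hsmul : ∀ (a : F) x, g (a • x) = τ a • g x)
    (hfix : ∀ x, x ≠ 0 → H x x = 0 → ∃ l : F, g x = l • x)
    (hinj : ∀ x, g x = 0 → x = 0)
    {u v w : V} (huu : H u u = 0) (hvv : H v v = 0) (huv : H u v = 1) (hww : H w w = 1)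
    (huw : H u w = 0) (hvw : H v w = 0) (y : F) : τ y = y := by
  have hσ2 := Cfsg.Agent.Lib.Helper2.WittHerm.sigma_sigma hσ
  have hvu : H v u = 1 := by rw [h.symm u v, huv, map_one]
  have hwu : H w u = 0 := by rw [h.symm u w, huw, map_zero]
  have hwv : H w v = 0 := by rw [h.symm v w, hvw, map_zero]
  have hu0 : u ≠ 0 := by
    intro h0
    rw [h0, h.zero_left] at huv
    exact zero_ne_one huv
  have hv0 : v ≠ 0 := by
    intro h0
    rw [h0, h.zero_right] at huv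
    exact zero_ne_one huv
  obtain ⟨a, ha⟩ := hfix u hu0 huu
  obtain ⟨l, hl⟩ := hfix v hv0 hvv
  have ha0 : a ≠ 0 := by
    intro h0
    rw [h0, zero_smul] at ha
    exact hu0 (hinj u ha)
  obtain ⟨A, hA⟩ : ∃ A : F, A = H (g w) v := ⟨_, rfl⟩
  obtain ⟨B, hB⟩ : ∃ B : F, B = H (g w) w := ⟨_, rfl⟩
  obtain ⟨C, hC⟩ : ∃ C : F, C = H (g w) u := ⟨_, rfl⟩
  have key : ∀ y z : F, z + σ z + y * σ y = 0 →
      ∃ e : F, a + τ y * A = e ∧ τ y * B = e * y ∧ τ y * C + τ z * l = e * z := by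
    intro y z hyz
    obtain ⟨p, hp⟩ : ∃ p : V, p = u + y • w + z • v := ⟨_, rfl⟩
    have hpv : H p v = 1 := by
      rw [hp, h.add_left, h.add_left, h.smul_left, h.smul_left, huv, hwv, hvv]
      ring
    have hpw : H p w = y := by
      rw [hp, h.add_left, h.add_left, h.smul_left, h.smul_left, huw, hww, hvw]
      ring
    have hpu : H p u = z := by
      rw [hp, h.add_left, h.add_left, h.smul_left, h.smul_left, huu, hwu, hvu]
      ring
    have hpp : H p p = 0 := by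
      have : H p p = H p u + σ y * H p w + σ z * H p v := by
        conv_lhs => rw [hp]
        rw [h.add_right, h.add_right, h.smul_right, h.smul_right, ← hp]
      rw [this, hpu, hpw, hpv]
      linear_combination hyz
    have hp0 : p ≠ 0 := by
      intro h0
      rw [h0, h.zero_left] at hpv
      exact zero_ne_one hpv
    obtain ⟨e, he⟩ := hfix p hp0 hpp
    have hgp : g p = a • u + τ y • g w + (τ z * l) • v := by
      rw [hp, hadd, hadd, hsmul, hsmul, ha, hl, smul_smul]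
    refine ⟨e, ?_, ?_, ?_⟩
    · have h1 : H (g p) v = e * H p v := by rw [he, h.smul_left]
      rw [hgp, h.add_left, h.add_left, h.smul_left, h.smul_left, h.smul_left, huv, hvv, ← hA,
        hpv] at h1
      linear_combination h1
    · have h1 : H (g p) w = e * H p w := by rw [he, h.smul_left]
      rw [hgp, h.add_left, h.add_left, h.smul_left, h.smul_left, h.smul_left, huw, hvw, ← hB,
        hpw] at h1
      linear_combination h1
    · have h1 : H (g p) u = e * H p u := by rw [he, h.smul_left]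
      rw [hgp, h.add_left, h.add_left, h.smul_left, h.smul_left, h.smul_left, huu, hvu, ← hC,
        hpu] at h1
      linear_combination h1
  obtain ⟨μ, hμ0, hμ⟩ := Cfsg.Agent.Lib.Helper2.UT.exists_skew hσ
  obtain ⟨z₁, hz₁⟩ := Cfsg.Agent.Lib.Helper2.WittHerm.exists_trace hσ (-1 : F)
    (by rw [map_neg, map_one])
  -- the pair `(0, μ)`
  obtain ⟨e₀, h01, -, h03⟩ := key 0 μ (by rw [hμ, map_zero]; ring)
  rw [map_zero, zero_mul, add_zero] at h01
  rw [map_zero, zero_mul, zero_add, ← h01] at h03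
  -- the pair `(1, z₁)`
  obtain ⟨e₁, h11, h12, h13⟩ := key 1 z₁ (by rw [map_one]; linear_combination hz₁)
  -- the pair `(1, z₁ + μ)`
  obtain ⟨e₂, h21, -, h23⟩ := key 1 (z₁ + μ) (by
    rw [map_one, map_add, hμ]; linear_combination hz₁)
  rw [map_one, one_mul] at h11 h12 h13 h21 h23
  rw [mul_one] at h12
  have he12 : e₂ = e₁ := by rw [← h21, ← h11]
  have he1 : e₁ = a := by
    have : (e₁ - a) * μ = 0 := by
      rw [map_add, he12] at h23
      linear_combination h13 - h23 + h03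
    rcases mul_eq_zero.1 this with h0 | h0
    · linear_combination h0
    · exact absurd h0 hμ0
  have hA0 : A = 0 := by linear_combination h11 + he1
  have hBa : B = a := by rw [h12, he1]
  -- the general pair
  obtain ⟨z, hz⟩ := Cfsg.Agent.Lib.Helper2.WittHerm.exists_trace hσ (-(y * σ y))
    (by rw [map_neg, map_mul, hσ2]; ring)
  obtain ⟨e, h1, h2, -⟩ := key y z (by linear_combination hz)
  rw [hA0, mul_zero, add_zero] at h1
  rw [hBa, ← h1] at h2
  have : (τ y - y) * a = 0 := by linear_combination h2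
  rcases mul_eq_zero.1 this with h0 | h0
  · linear_combination h0
  · exact absurd h0 ha0

/-- a hyperbolic pair with an orthogonal vector of norm one, from an orthonormal triple -/
theorem exists_triple [Finite F] (hσ : orderOf σ = 2) (h : IsHerm σ H) {b₀ b₁ b₂ : V}
    (h00 : H b₀ b₀ = 1) (h11 : H b₁ b₁ = 1) (h22 : H b₂ b₂ = 1) (h01 : H b₀ b₁ = 0)
    (h02 : H b₀ b₂ = 0) (h12 : H b₁ b₂ = 0) :
    ∃ u v w : V, H u u = 0 ∧ H v v = 0 ∧ H u v = 1 ∧ H w w = 1 ∧ H u w = 0 ∧ H v w = 0 := by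
  have hσ2 := Cfsg.Agent.Lib.Helper2.WittHerm.sigma_sigma hσ
  have h10 : H b₁ b₀ = 0 := by rw [h.symm b₀ b₁, h01, map_zero]
  obtain ⟨ω, hω0, hω⟩ := Cfsg.Agent.Lib.Helper2.UT.exists_norm_eq hσ (-1 : F)
    (neg_ne_zero.2 one_ne_zero) (by rw [map_neg, map_one])
  obtain ⟨x, hx⟩ := Cfsg.Agent.Lib.Helper2.WittHerm.exists_trace hσ (1 : F) (map_one σ)
  refine ⟨b₀ + ω • b₁, x • b₀ + (ω * (x - 1)) • b₁, b₂, ?_, ?_, ?_, h22, ?_, ?_⟩
  · simp only [h.add_left, h.add_right, h.smul_left, h.smul_right, h00, h11, h01, h10]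
    linear_combination hω
  · simp only [h.add_left, h.add_right, h.smul_left, h.smul_right, h00, h11, h01, h10, map_mul,
      map_sub, map_one]
    linear_combination ((x - 1) * (σ x - 1)) * hω + hx
  · simp only [h.add_left, h.add_right, h.smul_left, h.smul_right, h00, h11, h01, h10, map_mul,
      map_sub, map_one]
    linear_combination (σ x - 1) * hω
  · simp only [h.add_left, h.smul_left, h02, h12]
    ring
  · simp only [h.add_left, h.smul_left, h02, h12]
    ring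

end


section
variable {n : ℕ} {F : Type*} [Field F] [Fintype F] {q : ℕ}

/-- the action of a twisted conjugate of a unitary transvection -/
theorem twist_mulVec (hF : Fintype.card F = q ^ 2) (b : GL (Fin n) F) (τ : F ≃+* F)
    (p : Fin n → F) (hp : Cfsg.hermForm n F q p p = 0) (c : F) (hc : c ^ q + c = 0)
    (s : ↥(Cfsg.SU n F q))
    (hs : ((s : SpecialLinearGroup (Fin n) F) : Matrix (Fin n) (Fin n) F)
      = Cfsg.unitaryTransvection n q p c) (x : Fin n → F) :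
    ((glConj b (fieldAut τ s.1) : SpecialLinearGroup (Fin n) F) : Matrix (Fin n) (Fin n) F) *ᵥ x
      = x + (τ c * Cfsg.hermForm n F q (((b⁻¹ : GL (Fin n) F) : Matrix (Fin n) (Fin n) F) *ᵥ x)
          (fun i => τ (p i))) • ((b : Matrix (Fin n) (Fin n) F) *ᵥ (fun i => τ (p i))) := by
  obtain ⟨y, hy⟩ : ∃ y : Fin n → F, y = ((b⁻¹ : GL (Fin n) F) : Matrix (Fin n) (Fin n) F) *ᵥ x :=
    ⟨_, rfl⟩
  obtain ⟨y', hy'⟩ : ∃ y' : Fin n → F, y = fun i => τ (y' i) :=
    ⟨fun i => τ.symm (y i), by funext i; rw [RingEquiv.apply_symm_apply]⟩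
  have hx : x = (b : Matrix (Fin n) (Fin n) F) *ᵥ y := by
    rw [hy, Matrix.mulVec_mulVec, ← Units.val_mul, mul_inv_cancel, Units.val_one,
      Matrix.one_mulVec]
  rw [glConj_coe, fieldAut_coe, ← Matrix.mulVec_mulVec, ← Matrix.mulVec_mulVec, ← hy, hs]
  have h1 : (Cfsg.unitaryTransvection n q p c).map τ *ᵥ y
      = y + (τ c * Cfsg.hermForm n F q y (fun i => τ (p i))) • (fun i => τ (p i)) := by
    rw [hy', map_mulVec', Cfsg.Agent.Lib.Helper2.Herm.unitaryTransvection_mulVec, herm_map]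
    funext i
    simp only [Pi.add_apply, Pi.smul_apply, smul_eq_mul, map_add, map_mul]
  rw [h1, Matrix.mulVec_add, Matrix.mulVec_smul, ← hx]

theorem fix_iso (hF : Fintype.card F = q ^ 2) (hn : 3 ≤ n) (b : ↥(CU n F q)) (τ : F ≃+* F)
    (h : cjC b * fa τ = 1) (p : Fin n → F) (hp0 : p ≠ 0) (hp : Cfsg.hermForm n F q p p = 0) :
    ∃ l : F, ((b : GL (Fin n) F) : Matrix (Fin n) (Fin n) F) *ᵥ (fun i => τ (p i)) = l • p := by
  haveI : Fact (Fintype.card F = q ^ 2) := ⟨hF⟩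
  obtain ⟨σ, hσ, hσq⟩ := Cfsg.Agent.Lib.Helper2.HermDecomp.exists_sigma hF
  have hσ2 := Cfsg.Agent.Lib.Helper2.WittHerm.sigma_sigma hσ
  have hq2 : 2 ≤ q := Cfsg.Agent.Lib.Helper1.HermCount.two_le_q hF
  have hH := Cfsg.Agent.Lib.Helper2.GUIsom.isHerm_hermForm n q σ hσ2 hσq
  have hnd : ∀ v : Fin n → F, (∀ w, Cfsg.hermForm n F q v w = 0) → v = 0 :=
    fun v hv => Cfsg.Agent.Lib.Helper2.GUIsom.hermForm_nondeg n q (by omega) v hv
  obtain ⟨c, hc0, hc⟩ := Cfsg.Agent.Lib.Helper2.UT.exists_skew hσ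
  have hcs : c ^ q + c = 0 := by rw [← hσq, hc]; ring
  obtain ⟨s, hs⟩ : ∃ s : ↥(Cfsg.SU n F q),
      ((s : SpecialLinearGroup (Fin n) F) : Matrix (Fin n) (Fin n) F)
        = Cfsg.unitaryTransvection n q p c :=
    ⟨Cfsg.Agent.H9SURoot.tv p c, Cfsg.Agent.H9SURoot.tv_coe hp hcs⟩
  obtain ⟨p'', hp''⟩ : ∃ p'' : Fin n → F,
      p'' = ((b : GL (Fin n) F) : Matrix (Fin n) (Fin n) F) *ᵥ (fun i => τ (p i)) := ⟨_, rfl⟩
  -- the relation in the quotient
  have h1 := DFunLike.congr_fun h (QuotientGroup.mk s)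
  rw [MulAut.mul_apply, fa_mk, cjC_mk, MulAut.one_apply, QuotientGroup.eq] at h1
  obtain ⟨z, hz⟩ : ∃ z : ↥(Cfsg.SU n F q), z = (⟨glConj (b : GL (Fin n) F)
      (fieldAut τ s.1), (glConj_mem_stab _ b.2 _).2 ((fieldAut_mem_stab τ s.1).2 s.2)⟩ :
        ↥(Cfsg.SU n F q))⁻¹ * s := ⟨_, rfl⟩
  rw [← hz] at h1
  have hzs := Cfsg.Agent.Lib.Helper1.SUCenter.central_scalar hF hn z h1 ⟨0, by omega⟩
  obtain ⟨ζ, hζ⟩ : ∃ ζ : F, ζ = ((z : SpecialLinearGroup (Fin n) F) :
      Matrix (Fin n) (Fin n) F) ⟨0, by omega⟩ ⟨0, by omega⟩ := ⟨_, rfl⟩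
  rw [← hζ] at hzs
  have hsz : s = (⟨glConj (b : GL (Fin n) F) (fieldAut τ s.1),
      (glConj_mem_stab _ b.2 _).2 ((fieldAut_mem_stab τ s.1).2 s.2)⟩ : ↥(Cfsg.SU n F q)) * z := by
    rw [hz, mul_inv_cancel_left]
  have hmat : ((s : SpecialLinearGroup (Fin n) F) : Matrix (Fin n) (Fin n) F)
      = ζ • ((glConj (b : GL (Fin n) F) (fieldAut τ s.1) : SpecialLinearGroup (Fin n) F) :
        Matrix (Fin n) (Fin n) F) := by
    have := congrArg (fun t : ↥(Cfsg.SU n F q) =>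
      ((t : SpecialLinearGroup (Fin n) F) : Matrix (Fin n) (Fin n) F)) hsz
    simp only [Subgroup.coe_mul, Matrix.SpecialLinearGroup.coe_mul] at this
    rw [this, hzs, Matrix.mul_smul, Matrix.mul_one]
  have key : ∀ x : Fin n → F, x + (c * Cfsg.hermForm n F q x p) • p
      = ζ • x + (ζ * (τ c * Cfsg.hermForm n F q
        ((((b : GL (Fin n) F)⁻¹ : GL (Fin n) F) : Matrix (Fin n) (Fin n) F) *ᵥ x)
          (fun i => τ (p i)))) • p'' := by
    intro x
    rw [← Cfsg.Agent.Lib.Helper2.Herm.unitaryTransvection_mulVec, ← hs, hmat, Matrix.smul_mulVec,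
      twist_mulVec hF _ τ p hp c hcs s hs, smul_add, smul_smul, ← hp'']
  have hτp : Cfsg.hermForm n F q (fun i => τ (p i)) (fun i => τ (p i)) = 0 := by
    rw [herm_map, hp, map_zero]
  have hinv : (((b : GL (Fin n) F)⁻¹ : GL (Fin n) F) : Matrix (Fin n) (Fin n) F) *ᵥ p''
      = fun i => τ (p i) := by
    rw [hp'', Matrix.mulVec_mulVec, ← Units.val_mul, inv_mul_cancel, Units.val_one,
      Matrix.one_mulVec]
  have hτp0 : (fun i => τ (p i)) ≠ 0 := by
    intro h0
    apply hp0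
    funext i
    have := congrFun h0 i
    simpa using this
  have hp''0 : p'' ≠ 0 := by
    intro h0
    rw [h0, Matrix.mulVec_zero] at hinv
    exact hτp0 hinv.symm
  have hζ1 : ζ = 1 := by
    by_contra hne
    have h2 := key p''
    rw [hinv, hτp, mul_zero, mul_zero, zero_smul, add_zero] at h2
    have h3 : p'' = ((ζ - 1)⁻¹ * (c * Cfsg.hermForm n F q p'' p)) • p := by
      have h4 : (ζ - 1) • p'' = (c * Cfsg.hermForm n F q p'' p) • p := by
        rw [sub_smul, one_smul, ← h2]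
        abel
      rw [← smul_smul, ← h4, smul_smul, inv_mul_cancel₀ (sub_ne_zero.2 hne), one_smul]
    obtain ⟨κ, hκ⟩ : ∃ κ : F, κ = (ζ - 1)⁻¹ * (c * Cfsg.hermForm n F q p'' p) := ⟨_, rfl⟩
    rw [← hκ] at h3
    have hκ0 : κ ≠ 0 := by
      intro h0
      rw [h0, zero_smul] at h3
      exact hp''0 h3
    have h5 : (((b : GL (Fin n) F)⁻¹ : GL (Fin n) F) : Matrix (Fin n) (Fin n) F) *ᵥ p
        = κ⁻¹ • (fun i => τ (p i)) := by
      rw [← hinv, h3, Matrix.mulVec_smul, smul_smul, inv_mul_cancel₀ hκ0, one_smul]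
    have h6 := key p
    rw [hp, mul_zero, zero_smul, add_zero, h5, hH.smul_left, hτp, mul_zero, mul_zero, mul_zero,
      zero_smul, add_zero] at h6
    apply hne
    have h7 : (ζ - 1) • p = 0 := by rw [sub_smul, one_smul, ← h6, sub_self]
    rcases smul_eq_zero.1 h7 with h8 | h8
    · linear_combination h8
    · exact absurd h8 hp0
  -- now `ζ = 1`
  obtain ⟨x, hx⟩ : ∃ x : Fin n → F, Cfsg.hermForm n F q x p ≠ 0 := by
    by_contra hcon
    push Not at hcon
    apply hp0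
    apply hnd
    intro w
    rw [hH.symm w p, hcon, map_zero]
  have h2 := key x
  rw [hζ1, one_smul, one_mul, add_right_inj] at h2
  obtain ⟨e, he⟩ : ∃ e : F, e = τ c * Cfsg.hermForm n F q
      ((((b : GL (Fin n) F)⁻¹ : GL (Fin n) F) : Matrix (Fin n) (Fin n) F) *ᵥ x)
        (fun i => τ (p i)) := ⟨_, rfl⟩
  rw [← he] at h2
  have he0 : e ≠ 0 := by
    intro h0
    rw [h0, zero_smul] at h2
    rcases smul_eq_zero.1 h2 with h8 | h8
    · exact (mul_ne_zero hc0 hx) h8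
    · exact hp0 h8
  refine ⟨e⁻¹ * (c * Cfsg.hermForm n F q x p), ?_⟩
  rw [← hp'', ← smul_smul, h2, smul_smul, inv_mul_cancel₀ he0, one_smul]

end


section
variable {n : ℕ} {F : Type*} [Field F] [Fintype F] {q : ℕ}

omit [Fintype F] in
theorem herm_single (hq : q ≠ 0) (i j : Fin n) :
    Cfsg.hermForm n F q (Pi.single i 1) (Pi.single j 1) = if i = j then 1 else 0 := by
  classical
  unfold Cfsg.hermForm
  rw [Finset.sum_eq_single i]
  · rw [Pi.single_eq_same, one_mul]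
    by_cases hij : i = j
    · rw [if_pos hij, hij, Pi.single_eq_same, one_pow]
    · rw [if_neg hij, Pi.single_eq_of_ne hij, zero_pow hq]
  · intro k _ hk
    rw [Pi.single_eq_of_ne hk, zero_mul]
  · intro h
    exact absurd (Finset.mem_univ i) h

/-- faithfulness of the action of the conformal semilinear group on `PSU_n`, `n ≥ 3` -/
theorem faithful (hF : Fintype.card F = q ^ 2) (hn : 3 ≤ n) (b : ↥(CU n F q)) (τ : F ≃+* F)
    (h : cjC b * fa τ = 1) : τ = 1 ∧ ∃ l : F, l ≠ 0 ∧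
      ((b : GL (Fin n) F) : Matrix (Fin n) (Fin n) F) = l • (1 : Matrix (Fin n) (Fin n) F) := by
  obtain ⟨σ, hσ, hσq⟩ := Cfsg.Agent.Lib.Helper2.HermDecomp.exists_sigma hF
  have hσ2 := Cfsg.Agent.Lib.Helper2.WittHerm.sigma_sigma hσ
  have hq2 : 2 ≤ q := Cfsg.Agent.Lib.Helper1.HermCount.two_le_q hF
  have hq0 : q ≠ 0 := by omega
  have hH := Cfsg.Agent.Lib.Helper2.GUIsom.isHerm_hermForm n q σ hσ2 hσq
  have hnd : ∀ v : Fin n → F, (∀ w, Cfsg.hermForm n F q v w = 0) → v = 0 :=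
    fun v hv => Cfsg.Agent.Lib.Helper2.GUIsom.hermForm_nondeg n q hq0 v hv
  have hdetb : ((b : GL (Fin n) F) : Matrix (Fin n) (Fin n) F).det ≠ 0 :=
    ((Matrix.isUnit_iff_isUnit_det _).1 (b : GL (Fin n) F).isUnit).ne_zero
  obtain ⟨g, hg⟩ : ∃ g : (Fin n → F) → (Fin n → F), g = fun x =>
      ((b : GL (Fin n) F) : Matrix (Fin n) (Fin n) F) *ᵥ (fun i => τ (x i)) := ⟨_, rfl⟩
  have hadd : ∀ x y, g (x + y) = g x + g y := by
    intro x y
    rw [hg]
    show _ *ᵥ _ = _ *ᵥ _ + _ *ᵥ _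
    rw [← Matrix.mulVec_add]
    congr 1
    funext i
    simp
  have hsmul : ∀ (a : F) x, g (a • x) = τ a • g x := by
    intro a x
    rw [hg]
    show _ *ᵥ _ = _ • (_ *ᵥ _)
    rw [← Matrix.mulVec_smul]
    congr 1
    funext i
    simp
  have hfix : ∀ x, x ≠ 0 → Cfsg.hermForm n F q x x = 0 → ∃ l : F, g x = l • x := by
    intro x hx0 hx
    rw [hg]
    exact fix_iso hF hn b τ h x hx0 hx
  have hinj : ∀ x, g x = 0 → x = 0 := by
    intro x hx
    rw [hg] at hx
    have := Matrix.eq_zero_of_mulVec_eq_zero hdetb hx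
    funext i
    have h1 := congrFun this i
    simpa using h1
  obtain ⟨u, v, w, huu, hvv, huv, hww, huw, hvw⟩ := exists_triple hσ hH
    (b₀ := Pi.single (⟨0, by omega⟩ : Fin n) (1 : F))
    (b₁ := Pi.single (⟨1, by omega⟩ : Fin n) (1 : F))
    (b₂ := Pi.single (⟨2, by omega⟩ : Fin n) (1 : F))
    (by rw [herm_single hq0, if_pos rfl]) (by rw [herm_single hq0, if_pos rfl])
    (by rw [herm_single hq0, if_pos rfl])
    (by rw [herm_single hq0, if_neg (by intro h; simpa using congrArg Fin.val h)])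
    (by rw [herm_single hq0, if_neg (by intro h; simpa using congrArg Fin.val h)])
    (by rw [herm_single hq0, if_neg (by intro h; simpa using congrArg Fin.val h)])
  have hτ : τ = 1 := by
    apply RingEquiv.ext
    intro y
    exact tau_eq_one_of_fix hσ hH τ g hadd hsmul hfix hinj huu hvv huv hww huw hvw y
  refine ⟨hτ, ?_⟩
  have hglin : ∀ x, g x = Matrix.toLin' ((b : GL (Fin n) F) : Matrix (Fin n) (Fin n) F) x := by
    intro x
    rw [hg, Matrix.toLin'_apply, hτ]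
    rfl
  obtain ⟨l, hl⟩ := Cfsg.Agent.Lib.Helper2.UT.scalar_of_fix hσ hH hnd
    (by rw [Module.finrank_fin_fun]; omega)
    (Matrix.toLin' ((b : GL (Fin n) F) : Matrix (Fin n) (Fin n) F))
    (fun x hx0 hx => by
      obtain ⟨l, hl⟩ := hfix x hx0 hx
      exact ⟨l, by rw [← hglin, hl]⟩)
  have hbl : ((b : GL (Fin n) F) : Matrix (Fin n) (Fin n) F)
      = l • (1 : Matrix (Fin n) (Fin n) F) := by
    apply Matrix.toLin'.injective
    apply LinearMap.ext
    intro x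
    rw [hl, Matrix.toLin'_apply, Matrix.smul_mulVec, Matrix.one_mulVec]
  refine ⟨l, ?_, hbl⟩
  intro h0
  haveI : Nonempty (Fin n) := ⟨⟨0, by omega⟩⟩
  rw [hbl, h0, zero_smul, Matrix.det_zero] at hdetb
  exact hdetb rfl

theorem cjC_eq_one_iff (hF : Fintype.card F = q ^ 2) (hn : 3 ≤ n) (b : ↥(CU n F q)) :
    cjC b = 1 ↔ ∃ l : F, l ≠ 0 ∧
      ((b : GL (Fin n) F) : Matrix (Fin n) (Fin n) F) = l • (1 : Matrix (Fin n) (Fin n) F) := by
  constructor
  · intro h
    refine (faithful hF hn b 1 ?_).2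
    rw [map_one, mul_one, h]
  · rintro ⟨l, hl0, hl⟩
    exact cjC_eq_one_of_scalar b l hl0 hl

theorem cjC_fa_inj (hF : Fintype.card F = q ^ 2) (hn : 3 ≤ n) (b b' : ↥(CU n F q))
    (τ τ' : F ≃+* F) (h : cjC b * fa τ = cjC b' * fa τ') : τ = τ' ∧ ∃ l : F, l ≠ 0 ∧
      ((b : GL (Fin n) F) : Matrix (Fin n) (Fin n) F)
        = l • ((b' : GL (Fin n) F) : Matrix (Fin n) (Fin n) F) := by
  have h1 : cjC (b'⁻¹ * b) * (fa (τ * τ'⁻¹) : MulAut (Cfsg.PSU n F q)) = 1 := by
    rw [map_mul, map_mul, map_inv, map_inv]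
    have : cjC b = cjC b' * fa τ' * (fa τ : MulAut (Cfsg.PSU n F q))⁻¹ := by
      rw [← h, mul_inv_cancel_right]
    rw [this]
    group
  obtain ⟨hτ, l, hl0, hl⟩ := faithful hF hn _ _ h1
  refine ⟨mul_inv_eq_one.1 hτ, l, hl0, ?_⟩
  have h2 : ((b : GL (Fin n) F) : Matrix (Fin n) (Fin n) F)
      = ((b' : GL (Fin n) F) : Matrix (Fin n) (Fin n) F)
        * (((b'⁻¹ * b : ↥(CU n F q)) : GL (Fin n) F) : Matrix (Fin n) (Fin n) F) := by
    rw [← Units.val_mul, ← Subgroup.coe_mul, mul_inv_cancel_left]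
  rw [h2, hl, Matrix.mul_smul, Matrix.mul_one]

end


end Cfsg.Agent.Lib.Helper5.PSUAut
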