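import Mathlib
import Cfsg.Agent.Lib.Helper5.PSUAut4
import Cfsg.Agent.Lib.Helper5.PSLCoset11
import Cfsg.Agent.Lib.Helper5.PSLCoset7
import Cfsg.Agent.Lib.Helper5.PSL2Aut6

set_option autoImplicit false

/-! Involutory graph automorphisms of `PSU_n` in standard form. -/

namespace Cfsg.Agent.Lib.Helper5.PSUAut

open Matrix Matrix.SpecialLinearGroup Cfsg.Agent.Lib.Helper5.SLnAut Cfsg.Agent.Lib.Helper5.PGO
  Cfsg.Agent.Lib.Helper5.PSLCoset

section
variable {n : ℕ} {F : Type*} [Field F] {q : ℕ}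

/-- the action of a field automorphism on the conformal unitary group, as a homomorphism -/
def mapCUHom (σ : F ≃+* F) : ↥(CU n F q) →* ↥(CU n F q) where
  toFun := mapCU σ
  map_one' := Subtype.ext (map_one _)
  map_mul' g h := Subtype.ext (map_mul _ _ _)

theorem mapCUHom_apply (σ : F ≃+* F) (g : ↥(CU n F q)) : mapCUHom σ g = mapCU σ g := rfl

theorem mapCU_coe (σ : F ≃+* F) (g : ↥(CU n F q)) :
    (((mapCU σ g : ↥(CU n F q)) : GL (Fin n) F) : Matrix (Fin n) (Fin n) F)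
      = ((g : GL (Fin n) F) : Matrix (Fin n) (Fin n) F).map σ := rfl

/-- the graph automorphism attached to a conformal unitary matrix -/
noncomputable def gamU (σ : F ≃+* F) (a : ↥(CU n F q)) : MulAut (Cfsg.PSU n F q) :=
  cjC a * fa σ

theorem cjC_mul_gamU (σ : F ≃+* F) (h a : ↥(CU n F q)) :
    cjC h * gamU σ a = gamU σ (h * a) := by
  unfold gamU
  rw [map_mul, mul_assoc]

theorem gamU_mul_cjC (σ : F ≃+* F) (a h : ↥(CU n F q)) :
    gamU σ a * cjC h = gamU σ (a * mapCU σ h) := by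
  unfold gamU
  rw [mul_assoc, fa_mul_cjC, map_mul, mul_assoc]

theorem cjC_conj_gamU (σ : F ≃+* F) (h a : ↥(CU n F q)) :
    cjC h * gamU σ a * (cjC h)⁻¹ = gamU σ (h * a * (mapCU σ h)⁻¹) := by
  rw [← map_inv, cjC_mul_gamU, gamU_mul_cjC, ← mapCUHom_apply, map_inv, mapCUHom_apply]

theorem gamU_mul_gamU (σ : F ≃+* F) (a a' : ↥(CU n F q)) :
    gamU σ a * gamU σ a' = cjC (a * mapCU σ a') * fa (σ * σ) := by
  unfold gamU
  rw [mul_assoc, ← mul_assoc (fa σ), fa_mul_cjC, map_mul, map_mul]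
  group

theorem scalar_mem_CU (z : Fˣ) :
    Matrix.GeneralLinearGroup.scalar (Fin n) z ∈ CU n F q := by
  refine ⟨z * z ^ q, fun u v => ?_⟩
  have h : ∀ x : Fin n → F,
      ((Matrix.GeneralLinearGroup.scalar (Fin n) z : GL (Fin n) F) :
        Matrix (Fin n) (Fin n) F) *ᵥ x = (z : F) • x := by
    intro x
    rw [Matrix.GeneralLinearGroup.coe_scalar, Matrix.scalar_apply, ← Matrix.smul_one_eq_diagonal,
      Matrix.smul_mulVec, Matrix.one_mulVec]
  rw [h, h, Cfsg.Agent.Lib.Helper2.Herm.herm_smul_left,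
    Cfsg.Agent.Lib.Helper2.Herm.herm_smul_right, Units.val_mul, Units.val_pow_eq_pow_val]
  ring

end

section
variable {n : ℕ} {F : Type*} [Field F] [Fintype F] {q : ℕ}

theorem gamU_eq_iff (hF : Fintype.card F = q ^ 2) (hn : 3 ≤ n) (σ : F ≃+* F)
    (a a' : ↥(CU n F q)) : gamU σ a = gamU σ a' ↔ ∃ l : F, l ≠ 0 ∧
      ((a : GL (Fin n) F) : Matrix (Fin n) (Fin n) F)
        = l • ((a' : GL (Fin n) F) : Matrix (Fin n) (Fin n) F) := by
  constructor
  · intro h
    exact (cjC_fa_inj hF hn a a' σ σ h).2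
  · rintro ⟨l, hl0, hl⟩
    unfold gamU
    rw [cjC_eq_of_smul a a' l hl0 hl]

theorem mem_commSub_gamU (hF : Fintype.card F = q ^ 2) (hn : 3 ≤ n) (σ : F ≃+* F)
    (a h : ↥(CU n F q)) :
    h ∈ commSub (cjC (n := n) (F := F) (q := q)) (gamU σ a) ↔ ∃ z : F, z ≠ 0 ∧
      ((h : GL (Fin n) F) : Matrix (Fin n) (Fin n) F)
        * ((a : GL (Fin n) F) : Matrix (Fin n) (Fin n) F)
        = z • (((a : GL (Fin n) F) : Matrix (Fin n) (Fin n) F)
          * ((h : GL (Fin n) F) : Matrix (Fin n) (Fin n) F).map σ) := by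
  rw [mem_commSub, cjC_mul_gamU, gamU_mul_cjC, gamU_eq_iff hF hn]
  rfl

theorem isConjUnder_gamU_iff (hF : Fintype.card F = q ^ 2) (hn : 3 ≤ n) (σ : F ≃+* F)
    (a a' : ↥(CU n F q)) :
    Cfsg.IsConjUnder (Cfsg.inndiagPSU n F q) (gamU σ a) (gamU σ a') ↔
      ∃ (h : ↥(CU n F q)) (z : F), z ≠ 0 ∧
        ((a' : GL (Fin n) F) : Matrix (Fin n) (Fin n) F)
          * ((h : GL (Fin n) F) : Matrix (Fin n) (Fin n) F).map σ
        = z • (((h : GL (Fin n) F) : Matrix (Fin n) (Fin n) F)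
          * ((a : GL (Fin n) F) : Matrix (Fin n) (Fin n) F)) := by
  rw [inndiagPSU_eq hF]
  have key : ∀ h : ↥(CU n F q), (gamU σ a' = cjC h * gamU σ a * (cjC h)⁻¹ ↔
      ∃ z : F, z ≠ 0 ∧ ((a' : GL (Fin n) F) : Matrix (Fin n) (Fin n) F)
          * ((h : GL (Fin n) F) : Matrix (Fin n) (Fin n) F).map σ
        = z • (((h : GL (Fin n) F) : Matrix (Fin n) (Fin n) F)
          * ((a : GL (Fin n) F) : Matrix (Fin n) (Fin n) F))) := by
    intro h
    rw [cjC_conj_gamU, gamU_eq_iff hF hn]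
    constructor
    · rintro ⟨l, hl0, hl⟩
      refine ⟨l, hl0, ?_⟩
      have h1 : a' * mapCU σ h = (a' * mapCU σ h) := rfl
      have h2 : ((a' * mapCU σ h : ↥(CU n F q)) : GL (Fin n) F)
          = ((a' : ↥(CU n F q)) : GL (Fin n) F) * ((mapCU σ h : ↥(CU n F q)) : GL (Fin n) F) := rfl
      calc ((a' : GL (Fin n) F) : Matrix (Fin n) (Fin n) F)
            * ((h : GL (Fin n) F) : Matrix (Fin n) (Fin n) F).map σ
          = (l • (((h * a * (mapCU σ h)⁻¹ : ↥(CU n F q)) : GL (Fin n) F) :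
              Matrix (Fin n) (Fin n) F))
            * (((mapCU σ h : ↥(CU n F q)) : GL (Fin n) F) : Matrix (Fin n) (Fin n) F) := by
            rw [← hl]; rfl
        _ = l • ((((h * a * (mapCU σ h)⁻¹ * mapCU σ h : ↥(CU n F q)) : GL (Fin n) F) :
              Matrix (Fin n) (Fin n) F)) := by
            rw [Matrix.smul_mul]; rfl
        _ = _ := by rw [inv_mul_cancel_right]; rfl
    · rintro ⟨z, hz0, hz⟩
      refine ⟨z, hz0, ?_⟩
      calc ((a' : GL (Fin n) F) : Matrix (Fin n) (Fin n) F)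
          = (((a' * mapCU σ h * (mapCU σ h)⁻¹ : ↥(CU n F q)) : GL (Fin n) F) :
              Matrix (Fin n) (Fin n) F) := by rw [mul_inv_cancel_right]
        _ = (((a' : GL (Fin n) F) : Matrix (Fin n) (Fin n) F)
            * ((h : GL (Fin n) F) : Matrix (Fin n) (Fin n) F).map σ)
            * ((((mapCU σ h)⁻¹ : ↥(CU n F q)) : GL (Fin n) F) :
              Matrix (Fin n) (Fin n) F) := rfl
        _ = z • ((((h * a * (mapCU σ h)⁻¹ : ↥(CU n F q)) : GL (Fin n) F) :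
              Matrix (Fin n) (Fin n) F)) := by
            rw [hz, Matrix.smul_mul]; rfl
  constructor
  · rintro ⟨_, ⟨h, rfl⟩, hh⟩
    exact ⟨h, (key h).1 hh⟩
  · rintro ⟨h, hh⟩
    exact ⟨cjC h, ⟨h, rfl⟩, (key h).2 hh⟩

theorem ringAut_cyclic : IsCyclic (F ≃+* F) := by
  obtain ⟨p, hchar⟩ := CharP.exists F
  obtain ⟨k, hp, hk⟩ := FiniteField.card F p
  haveI : Fact p.Prime := ⟨hp⟩
  exact (Cfsg.Agent.Lib.Helper5.PSL2Aut.ringAut_cyclic_card (F := F) (p := p) (f := k)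
    k.pos hk).1

theorem gamU_isGraph (hF : Fintype.card F = q ^ 2) (hn : 3 ≤ n) (σ : F ≃+* F)
    (hσ : orderOf σ = 2) (a : ↥(CU n F q)) : Cfsg.IsGraphAutClassPSU (gamU σ a) :=
  ⟨hn, cjC a, fa σ, σ, by rw [hσ]; exact even_two, isInnerDiagonal_cjC hF a, isFieldAut_fa σ, rfl⟩

theorem orderOf_gamU (hF : Fintype.card F = q ^ 2) (hn : 3 ≤ n) (σ : F ≃+* F)
    (hσ : orderOf σ = 2) (a : ↥(CU n F q))
    (ha : ((a : GL (Fin n) F) : Matrix (Fin n) (Fin n) F)
      * ((a : GL (Fin n) F) : Matrix (Fin n) (Fin n) F).map σ = 1) :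
    orderOf (gamU σ a) = 2 := by
  haveI : Fact (Nat.Prime 2) := ⟨Nat.prime_two⟩
  apply orderOf_eq_prime
  · rw [pow_two, gamU_mul_gamU]
    have h1 : a * mapCU σ a = 1 := by
      apply Subtype.ext
      apply Units.ext
      exact ha
    have h2 : σ * σ = 1 := by
      rw [← pow_two, ← hσ]
      exact pow_orderOf_eq_one σ
    rw [h1, h2, map_one, map_one, mul_one]
  · intro h
    unfold gamU at h
    have := (faithful hF hn a σ h).1
    rw [this, orderOf_one] at hσ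
    omega

theorem exists_gamU_of_isGraph (hF : Fintype.card F = q ^ 2) (hn : 3 ≤ n) (σ : F ≃+* F)
    (hσ : orderOf σ = 2) (γ : MulAut (Cfsg.PSU n F q)) (hγ : Cfsg.IsGraphAutClassPSU γ)
    (h2 : orderOf γ = 2) : ∃ a : ↥(CU n F q), γ = gamU σ a ∧
      ((a : GL (Fin n) F) : Matrix (Fin n) (Fin n) F)
        * ((a : GL (Fin n) F) : Matrix (Fin n) (Fin n) F).map σ = 1 := by
  have hσ2 := Cfsg.Agent.Lib.Helper2.WittHerm.sigma_sigma hσ
  obtain ⟨-, δ, φ, σ', hev, hδ, hφ, rfl⟩ := hγ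
  obtain ⟨g, -, rfl⟩ := eq_cjC_of_isInnerDiagonal hδ
  rw [eq_fa_of_isFieldAut hφ] at h2 ⊢
  have hsq : gamU σ' g * gamU σ' g = 1 := by
    have := pow_orderOf_eq_one (cjC g * (fa σ' : MulAut (Cfsg.PSU n F q)))
    rw [h2, pow_two] at this
    exact this
  rw [gamU_mul_gamU] at hsq
  obtain ⟨hσ'2, l, hl0, hl⟩ := faithful hF hn _ _ hsq
  have hσ'ord : orderOf σ' = 2 := by
    have h3 : orderOf σ' ∣ 2 := orderOf_dvd_of_pow_eq_one (by rw [pow_two]; exact hσ'2)
    rcases (Nat.dvd_prime Nat.prime_two).1 h3 with h4 | h4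
    · rw [h4] at hev
      exact absurd hev (by decide)
    · exact h4
  haveI := ringAut_cyclic (F := F)
  haveI : Finite (F ≃+* F) :=
    Finite.of_injective (fun e : F ≃+* F => (e : F → F)) DFunLike.coe_injective
  have hσσ' : σ' = σ := eq_of_orderOf_two hσ'ord hσ
  subst hσσ'
  obtain ⟨A, hA⟩ : ∃ A : Matrix (Fin n) (Fin n) F,
      A = ((g : GL (Fin n) F) : Matrix (Fin n) (Fin n) F) := ⟨_, rfl⟩
  have hl' : A * A.map σ' = l • (1 : Matrix (Fin n) (Fin n) F) := by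
    rw [hA]
    exact hl
  have hlfix : σ' l = l := by
    have h3 : A * (l⁻¹ • A.map σ') = 1 := by
      rw [Matrix.mul_smul, hl', smul_smul, inv_mul_cancel₀ hl0, one_smul]
    have h4 : A.map σ' * A = l • (1 : Matrix (Fin n) (Fin n) F) := by
      have h5 := mul_eq_one_comm.1 h3
      rw [Matrix.smul_mul] at h5
      calc A.map σ' * A = l • (l⁻¹ • (A.map σ' * A)) := by
            rw [smul_smul, mul_inv_cancel₀ hl0, one_smul]
        _ = l • 1 := by rw [h5]
    have h6 := congrArg (fun M : Matrix (Fin n) (Fin n) F => M.map σ') hl'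
    simp only [Matrix.map_mul] at h6
    have h7 : (A.map σ').map σ' = A := by
      ext i j
      simp [hσ2]
    rw [h7, h4] at h6
    have h8 := congrFun (congrFun h6 ⟨0, by omega⟩) ⟨0, by omega⟩
    simp only [Matrix.smul_apply, Matrix.one_apply_eq, smul_eq_mul, mul_one,
      Matrix.map_apply, map_mul, map_one] at h8
    exact h8.symm
  obtain ⟨ν, hν0, hν⟩ := Cfsg.Agent.Lib.Helper2.UT.exists_norm_eq hσ l⁻¹ (inv_ne_zero hl0)
    (by rw [map_inv₀, hlfix])
  obtain ⟨a, ha⟩ : ∃ a : ↥(CU n F q), a = ⟨Matrix.GeneralLinearGroup.scalar (Fin n)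
      (Units.mk0 ν hν0) * (g : GL (Fin n) F),
        (CU n F q).mul_mem (scalar_mem_CU _) g.2⟩ := ⟨_, rfl⟩
  have hac : ((a : GL (Fin n) F) : Matrix (Fin n) (Fin n) F) = ν • A := by
    rw [ha, hA]
    show ((Matrix.GeneralLinearGroup.scalar (Fin n) (Units.mk0 ν hν0) * (g : GL (Fin n) F) :
      GL (Fin n) F) : Matrix (Fin n) (Fin n) F) = _
    rw [Units.val_mul, Matrix.GeneralLinearGroup.coe_scalar, Matrix.scalar_apply,
      ← Matrix.smul_eq_diagonal_mul]
    rfl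
  refine ⟨a, ?_, ?_⟩
  · show gamU σ' g = gamU σ' a
    rw [gamU_eq_iff hF hn]
    refine ⟨ν⁻¹, inv_ne_zero hν0, ?_⟩
    rw [hac, smul_smul, inv_mul_cancel₀ hν0, one_smul, hA]
  · rw [hac]
    have : (ν • A).map σ' = σ' ν • A.map σ' := by
      ext i j
      simp
    rw [this, Matrix.smul_mul, Matrix.mul_smul, hl', smul_smul, smul_smul, hν,
      inv_mul_cancel₀ hl0, one_smul]

end

end Cfsg.Agent.Lib.Helper5.PSUAut
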