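import Mathlib
import Cfsg.Agent.Lib.Helper5.PSUAut5
import Cfsg.Agent.Lib.Helper5.PSLCoset17
import Cfsg.Agent.Lib.Helper5.PSLCoset5
import Cfsg.Agent.Lib.Helper5.PSLCoset2
import Cfsg.Agent.Lib.Helper5.GraphInv

set_option autoImplicit false

/-! Descent of involutory graph automorphisms of `PSU_n` to bilinear forms over the fixed
field. -/

namespace Cfsg.Agent.Lib.Helper5.PSUAut

open Matrix Matrix.SpecialLinearGroup Cfsg.Agent.Lib.Helper5.SLnAut Cfsg.Agent.Lib.Helper5.PGO
  Cfsg.Agent.Lib.Helper5.PSLCoset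

section
variable {F : Type*} [Field F] {F₀ : Type*} [Field F₀]

/-- an embedding of the fixed field of an involutory automorphism -/
structure Desc (ι : F₀ →+* F) (σ : F ≃+* F) : Prop where
  invol : ∀ a, σ (σ a) = a
  fixed : ∀ a, σ a = a ↔ a ∈ Set.range ι

variable {ι : F₀ →+* F} {σ : F ≃+* F} {k l : Type*}

theorem Desc.map_map (hd : Desc ι σ) (M : Matrix k l F) : (M.map σ).map σ = M := by
  ext i j
  simp [hd.invol]

theorem Desc.fix_iota (hd : Desc ι σ) (a : F₀) : σ (ι a) = ι a := (hd.fixed _).2 ⟨a, rfl⟩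

theorem Desc.map_iota (hd : Desc ι σ) (M₀ : Matrix k l F₀) : (M₀.map ι).map σ = M₀.map ι := by
  ext i j
  simp [hd.fix_iota]

theorem Desc.exists_map (hd : Desc ι σ) (M : Matrix k l F) (h : M.map σ = M) :
    ∃ M₀ : Matrix k l F₀, M = M₀.map ι := by
  have h1 : ∀ i j, ∃ a : F₀, ι a = M i j := by
    intro i j
    have := congrFun (congrFun h i) j
    exact (hd.fixed _).1 this
  choose f hf using h1
  refine ⟨Matrix.of f, ?_⟩
  ext i j
  simp [hf]

theorem map_iota_inj {M₀ M₀' : Matrix k l F₀} (h : M₀.map ι = M₀'.map ι) : M₀ = M₀' :=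
  Matrix.map_injective ι.injective h

theorem Desc.fixed_of_smul (hd : Desc ι σ) (A B : Matrix k l F) (hA : A.map σ = A)
    (hB : B.map σ = B) (hA0 : A ≠ 0) (c : F) (h : c • A = B) : σ c = c := by
  obtain ⟨i, j, hij⟩ : ∃ i j, A i j ≠ 0 := by
    by_contra hcon
    push Not at hcon
    apply hA0
    ext i j
    exact hcon i j
  have h1 := congrArg (fun M : Matrix k l F => M.map σ) h
  have h2 : (c • A).map σ = σ c • A.map σ := by
    ext i j
    simp
  simp only [h2, hA, hB] at h1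
  rw [← h] at h1
  have h3 := congrFun (congrFun h1 i) j
  simp only [Matrix.smul_apply, smul_eq_mul] at h3
  exact mul_right_cancel₀ hij h3

theorem Desc.exists_smul_map (hd : Desc ι σ) (K : Matrix k l F) (hK0 : K ≠ 0) (z : F)
    (h : K = z • K.map σ) : ∃ w : F, w ≠ 0 ∧ ∃ K₀ : Matrix k l F₀, K = w • K₀.map ι := by
  obtain ⟨i, j, hij⟩ : ∃ i j, K i j ≠ 0 := by
    by_contra hcon
    push Not at hcon
    apply hK0
    ext i j
    exact hcon i j
  have hz0 : z ≠ 0 := by
    intro h0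
    rw [h0, zero_smul] at h
    exact hK0 h
  obtain ⟨w, hw⟩ : ∃ w : F, w = K i j := ⟨_, rfl⟩
  have hw0 : w ≠ 0 := by rw [hw]; exact hij
  have hwz : w = z * σ w := by
    have := congrFun (congrFun h i) j
    simp only [Matrix.smul_apply, Matrix.map_apply, smul_eq_mul] at this
    rw [hw]
    exact this
  have hσw : σ w ≠ 0 := (map_ne_zero_iff _ σ.injective).2 hw0
  have hfix : (w⁻¹ • K).map σ = w⁻¹ • K := by
    have h2 : (w⁻¹ • K).map σ = (σ w)⁻¹ • K.map σ := by
      ext i j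
      simp
    rw [h2]
    conv_rhs => rw [h, smul_smul]
    congr 1
    field_simp
    linear_combination hwz
  obtain ⟨K₀, hK₀⟩ := hd.exists_map _ hfix
  refine ⟨w, hw0, K₀, ?_⟩
  rw [← hK₀, smul_smul, mul_inv_cancel₀ hw0, one_smul]

end

end Cfsg.Agent.Lib.Helper5.PSUAut
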