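import Mathlib
import Cfsg.Agent.Lib.Helper5.PSUAut6

set_option autoImplicit false

namespace Cfsg.Agent.Lib.Helper5.PSUAut

open Matrix Matrix.SpecialLinearGroup Cfsg.Agent.Lib.Helper5.SLnAut Cfsg.Agent.Lib.Helper5.PGO
  Cfsg.Agent.Lib.Helper5.PSLCoset Cfsg.Agent.Lib.Helper5.GraphInv

section
variable {n : ℕ} {F : Type*} [Field F] {q : ℕ} {F₀ : Type*} [Field F₀]

/-- the relation between an involutory graph automorphism and a bilinear form over the fixed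
field -/
def Rel (ι : F₀ →+* F) (σ : F ≃+* F) (γ : MulAut (Cfsg.PSU n F q))
    (M₀ : Matrix (Fin n) (Fin n) F₀) : Prop :=
  ∃ (a : ↥(CU n F q)) (P : GL (Fin n) F) (κ : F), κ ≠ 0 ∧ γ = gamU σ a ∧
    ((a : GL (Fin n) F) : Matrix (Fin n) (Fin n) F) * (P : Matrix (Fin n) (Fin n) F).map σ
      = (P : Matrix (Fin n) (Fin n) F) ∧
    (P : Matrix (Fin n) (Fin n) F)ᵀ * (P : Matrix (Fin n) (Fin n) F).map σ = κ • M₀.map ι

theorem det_ne_zero_of_GL (g : GL (Fin n) F) : (g : Matrix (Fin n) (Fin n) F).det ≠ 0 :=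
  ((Matrix.isUnit_iff_isUnit_det _).1 g.isUnit).ne_zero

theorem det_map_sigma (σ : F ≃+* F) (X : Matrix (Fin n) (Fin n) F) :
    (X.map σ).det = σ X.det := by
  have := RingHom.map_det (σ : F →+* F) X
  exact this.symm

theorem det_map_iota (ι : F₀ →+* F) (X : Matrix (Fin n) (Fin n) F₀) :
    (X.map ι).det = ι X.det := by
  have := RingHom.map_det ι X
  exact this.symm

/-- cancellation of invertible matrices -/
theorem cancel_both (U V : GL (Fin n) F) {A B : Matrix (Fin n) (Fin n) F}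
    (h : (U : Matrix (Fin n) (Fin n) F) * A * (V : Matrix (Fin n) (Fin n) F)
      = (U : Matrix (Fin n) (Fin n) F) * B * (V : Matrix (Fin n) (Fin n) F)) : A = B := by
  have h1 := (Units.mul_left_inj V).1 h
  exact (Units.mul_right_inj U).1 h1

theorem gram_mul (σ : F ≃+* F) (X K : Matrix (Fin n) (Fin n) F) :
    (X * K)ᵀ * (X * K).map σ = Kᵀ * (Xᵀ * X.map σ) * K.map σ := by
  rw [Matrix.transpose_mul, Matrix.map_mul]
  simp only [Matrix.mul_assoc]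

theorem gram_mul' (σ : F ≃+* F) (Z X : Matrix (Fin n) (Fin n) F) :
    (Z * X)ᵀ * (Z * X).map σ = Xᵀ * (Zᵀ * Z.map σ) * X.map σ := by
  rw [Matrix.transpose_mul, Matrix.map_mul]
  simp only [Matrix.mul_assoc]

theorem mapGL_coe (σ : F ≃+* F) (P : GL (Fin n) F) :
    ((Matrix.GeneralLinearGroup.map (σ : F →+* F) P : GL (Fin n) F) :
      Matrix (Fin n) (Fin n) F) = (P : Matrix (Fin n) (Fin n) F).map σ := rfl

theorem mem_CU_of_gram (σ : F ≃+* F) (hσq : ∀ a : F, σ a = a ^ q) (Z P : GL (Fin n) F)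
    (c : F) (hc : c ≠ 0)
    (h : ((Z : Matrix (Fin n) (Fin n) F) * (P : Matrix (Fin n) (Fin n) F))ᵀ
      * ((Z : Matrix (Fin n) (Fin n) F) * (P : Matrix (Fin n) (Fin n) F)).map σ
        = c • ((P : Matrix (Fin n) (Fin n) F)ᵀ * (P : Matrix (Fin n) (Fin n) F).map σ)) :
    Z ∈ CU n F q := by
  rw [mem_CU_iff σ hσq]
  refine ⟨Units.mk0 c hc, ?_⟩
  apply cancel_both (tauGL P)⁻¹ (Matrix.GeneralLinearGroup.map (σ : F →+* F) P)
  rw [tauGL_inv_coe, mapGL_coe, ← gram_mul', h, Units.val_mk0, Matrix.mul_smul, Matrix.mul_one,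
    Matrix.smul_mul]

theorem gram_of_mem_CU (σ : F ≃+* F) (hσq : ∀ a : F, σ a = a ^ q) (Z : GL (Fin n) F)
    (hZ : Z ∈ CU n F q) (X : Matrix (Fin n) (Fin n) F) :
    ∃ c : F, c ≠ 0 ∧ ((Z : Matrix (Fin n) (Fin n) F) * X)ᵀ
      * ((Z : Matrix (Fin n) (Fin n) F) * X).map σ = c • (Xᵀ * X.map σ) := by
  obtain ⟨c, hc⟩ := (mem_CU_iff σ hσq Z).1 hZ
  refine ⟨c, c.ne_zero, ?_⟩
  rw [gram_mul', hc, Matrix.mul_smul, Matrix.mul_one, Matrix.smul_mul]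

end

section
variable {n : ℕ} {F : Type*} [Field F] {F₀ : Type*} [Field F₀] {ι : F₀ →+* F} {σ : F ≃+* F}

theorem gram_smul_iota (hd : Desc ι σ) (w κ : F) (K₀ M : Matrix (Fin n) (Fin n) F₀) :
    (w • K₀.map ι)ᵀ * (κ • M.map ι) * (w • K₀.map ι).map σ
      = (w * σ w * κ) • (K₀ᵀ * M * K₀).map ι := by
  have hwσ : (w • K₀.map ι).map σ = σ w • K₀.map ι := by
    ext i j
    simp [hd.fix_iota]
  rw [hwσ, Matrix.map_mul, Matrix.map_mul, Matrix.transpose_map]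
  simp only [Matrix.transpose_smul, Matrix.smul_mul, Matrix.mul_smul, smul_smul]
  congr 1
  ring

theorem map_smul_one (ι : F₀ →+* F) (c : F₀) :
    (c • (1 : Matrix (Fin n) (Fin n) F₀)).map ι = ι c • (1 : Matrix (Fin n) (Fin n) F) := by
  ext i j
  by_cases h : i = j
  · subst h
    simp
  · simp [Matrix.one_apply_ne h]

theorem descend_smul (hd : Desc ι σ) (A₀ B₀ : Matrix (Fin n) (Fin n) F₀)
    (hB : B₀.map ι ≠ 0) (c : F) (hc0 : c ≠ 0) (h : A₀.map ι = c • B₀.map ι) :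
    ∃ c₀ : F₀, c₀ ≠ 0 ∧ A₀ = c₀ • B₀ := by
  have h1 := hd.fixed_of_smul (B₀.map ι) (A₀.map ι) (hd.map_iota _) (hd.map_iota _) hB c h.symm
  obtain ⟨c₀, hc₀⟩ := (hd.fixed c).1 h1
  refine ⟨c₀, ?_, ?_⟩
  · intro h0
    rw [h0, map_zero] at hc₀
    exact hc0 hc₀.symm
  · apply map_iota_inj (ι := ι)
    rw [h, ← hc₀]
    ext i j
    simp

end

section
variable {n : ℕ} {F : Type*} [Field F] [Fintype F] {q : ℕ} {F₀ : Type*} [Field F₀]
  {ι : F₀ →+* F} {σ : F ≃+* F}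

theorem centralizer_rel (hF : Fintype.card F = q ^ 2) (hn : 3 ≤ n)
    (hσq : ∀ a : F, σ a = a ^ q) (hd : Desc ι σ)
    (γ : MulAut (Cfsg.PSU n F q)) (M₀ : Matrix (Fin n) (Fin n) F₀) (hrel : Rel ι σ γ M₀) :
    Nonempty (↥(Cfsg.inndiagPSU n F q ⊓ Subgroup.centralizer {γ}) ≃*
      Cfsg.projQuot (Cfsg.Geo.similarityGroup
        (fun u v : Fin n → F₀ => u ⬝ᵥ (M₀ *ᵥ v)))) := by
  haveI : Nonempty (Fin n) := ⟨⟨0, by omega⟩⟩
  obtain ⟨a, P, κ, hκ, rfl, haP, hPM⟩ := hrel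
  obtain ⟨X, hX⟩ : ∃ X : Matrix (Fin n) (Fin n) F, X = (P : Matrix (Fin n) (Fin n) F) :=
    ⟨_, rfl⟩
  obtain ⟨A, hA⟩ : ∃ A : Matrix (Fin n) (Fin n) F,
      A = ((a : GL (Fin n) F) : Matrix (Fin n) (Fin n) F) := ⟨_, rfl⟩
  rw [← hX] at haP hPM
  rw [← hA] at haP
  have hM₀0 : M₀.map ι ≠ 0 := by
    intro h0
    have h1 : (Xᵀ * X.map σ).det ≠ 0 := by
      rw [Matrix.det_mul, Matrix.det_transpose, det_map_sigma, hX]
      exact mul_ne_zero (det_ne_zero_of_GL P)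
        ((map_ne_zero_iff _ σ.injective).2 (det_ne_zero_of_GL P))
    rw [hPM, h0, smul_zero, Matrix.det_zero] at h1
    exact h1 rfl
  obtain ⟨Sim, hSim⟩ : ∃ Sim : Subgroup (GL (Fin n) F₀), Sim = Cfsg.Geo.similarityGroup
        (fun u v : Fin n → F₀ => u ⬝ᵥ (M₀ *ᵥ v)) := ⟨_, rfl⟩
  rw [← hSim]
  obtain ⟨ψ₀, hψ₀⟩ : ∃ ψ₀ : GL (Fin n) F₀ →* GL (Fin n) F, ∀ k₀,
      ψ₀ k₀ = P * Matrix.GeneralLinearGroup.map ι k₀ * P⁻¹ :=
    ⟨(MulAut.conj P).toMonoidHom.comp (Matrix.GeneralLinearGroup.map ι), fun k₀ => rfl⟩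
  have hψX : ∀ k₀ : GL (Fin n) F₀, (ψ₀ k₀ : Matrix (Fin n) (Fin n) F) * X
      = X * (k₀ : Matrix (Fin n) (Fin n) F₀).map ι := by
    intro k₀
    rw [hψ₀, hX, ← Units.val_mul, inv_mul_cancel_right, Units.val_mul]
    rfl
  -- membership in the conformal unitary group
  have hψCU : ∀ k₀ : GL (Fin n) F₀, k₀ ∈ Sim → ψ₀ k₀ ∈ CU n F q := by
    intro k₀ hk₀
    rw [hSim, mem_bilSim_iff] at hk₀
    obtain ⟨z, hz0, hz⟩ := hk₀
    apply mem_CU_of_gram σ hσq (ψ₀ k₀) P (ι z) ((map_ne_zero_iff _ ι.injective).2 hz0)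
    rw [← hX, hψX, gram_mul, hPM]
    have h1 : (k₀ : Matrix (Fin n) (Fin n) F₀).map ι
        = (1 : F) • (k₀ : Matrix (Fin n) (Fin n) F₀).map ι := by rw [one_smul]
    rw [h1, gram_smul_iota hd, hz, smul_smul]
    have : (z • M₀).map ι = ι z • M₀.map ι := by
      ext i j
      simp
    rw [this, smul_smul, map_one]
    congr 1
    ring
  -- membership in the centralizer
  have hψcomm : ∀ (k₀ : GL (Fin n) F₀) (hk₀ : k₀ ∈ Sim),
      (⟨ψ₀ k₀, hψCU k₀ hk₀⟩ : ↥(CU n F q)) ∈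
        commSub (cjC (n := n) (F := F) (q := q)) (gamU σ a) := by
    intro k₀ hk₀
    rw [mem_commSub_gamU hF hn]
    refine ⟨1, one_ne_zero, ?_⟩
    rw [one_smul, ← hA]
    show (ψ₀ k₀ : Matrix (Fin n) (Fin n) F) * A = A * (ψ₀ k₀ : Matrix (Fin n) (Fin n) F).map σ
    apply (Units.mul_left_inj (Matrix.GeneralLinearGroup.map (σ : F →+* F) P)).1
    rw [mapGL_coe, ← hX, Matrix.mul_assoc, haP, Matrix.mul_assoc, ← Matrix.map_mul, hψX,
      Matrix.map_mul, hd.map_iota, ← Matrix.mul_assoc, haP]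
  have hmemC : ∀ (k₀ : GL (Fin n) F₀) (hk₀ : k₀ ∈ Sim),
      cjC (⟨ψ₀ k₀, hψCU k₀ hk₀⟩ : ↥(CU n F q)) ∈
        Cfsg.inndiagPSU n F q ⊓ Subgroup.centralizer {gamU σ a} := by
    intro k₀ hk₀
    refine Subgroup.mem_inf.2 ⟨?_, ?_⟩
    · rw [inndiagPSU_eq hF]
      exact ⟨_, rfl⟩
    · rw [mem_centralizer_singleton]
      exact mem_commSub.1 (hψcomm k₀ hk₀)
  obtain ⟨φ, hφ⟩ : ∃ φ : ↥Sim →* ↥(Cfsg.inndiagPSU n F q ⊓
      Subgroup.centralizer {gamU σ a}),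
      ∀ g : ↥Sim, (φ g : MulAut (Cfsg.PSU n F q))
        = cjC (⟨ψ₀ g.1, hψCU g.1 g.2⟩ : ↥(CU n F q)) :=
    ⟨{ toFun := fun g => ⟨cjC (⟨ψ₀ g.1, hψCU g.1 g.2⟩ : ↥(CU n F q)), hmemC g.1 g.2⟩
       map_one' := by
         apply Subtype.ext
         show cjC _ = 1
         rw [← map_one (cjC (n := n) (F := F) (q := q))]
         congr 1
         apply Subtype.ext
         exact map_one ψ₀
       map_mul' := by
         intro g g'
         apply Subtype.ext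
         show cjC _ = cjC _ * cjC _
         rw [← map_mul (cjC (n := n) (F := F) (q := q))]
         congr 1
         apply Subtype.ext
         exact map_mul ψ₀ _ _ },
      fun g => rfl⟩
  have hsurj : Function.Surjective φ := by
    rintro ⟨x, hx⟩
    obtain ⟨hx1, hx2⟩ := Subgroup.mem_inf.1 hx
    rw [inndiagPSU_eq hF] at hx1
    obtain ⟨h, rfl⟩ := hx1
    rw [mem_centralizer_singleton] at hx2
    have hcomm : h ∈ commSub (cjC (n := n) (F := F) (q := q)) (gamU σ a) := mem_commSub.2 hx2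
    rw [mem_commSub_gamU hF hn] at hcomm
    obtain ⟨z, hz0, hz⟩ := hcomm
    obtain ⟨H, hH⟩ : ∃ H : Matrix (Fin n) (Fin n) F,
        H = ((h : GL (Fin n) F) : Matrix (Fin n) (Fin n) F) := ⟨_, rfl⟩
    rw [← hA, ← hH] at hz
    obtain ⟨K, hK⟩ : ∃ K : Matrix (Fin n) (Fin n) F,
        K = ((P⁻¹ * (h : GL (Fin n) F) * P : GL (Fin n) F) : Matrix (Fin n) (Fin n) F) :=
      ⟨_, rfl⟩
    have hXK : X * K = H * X := by
      rw [hK, hX, hH, ← Units.val_mul, ← Units.val_mul]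
      congr 1
      group
    have hKσ : K = z • K.map σ := by
      apply (Units.mul_right_inj P).1
      rw [← hX, Matrix.mul_smul, hXK]
      calc H * X = H * A * X.map σ := by rw [Matrix.mul_assoc, haP]
        _ = z • (A * (H * X).map σ) := by
            rw [hz, Matrix.smul_mul, Matrix.map_mul, Matrix.mul_assoc]
        _ = z • (X * K.map σ) := by
            rw [← hXK, Matrix.map_mul, ← Matrix.mul_assoc, haP]
    have hKdet : K.det ≠ 0 := by rw [hK]; exact det_ne_zero_of_GL _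
    have hK0 : K ≠ 0 := by
      intro h0
      rw [h0, Matrix.det_zero] at hKdet
      exact hKdet rfl
    obtain ⟨w, hw0, K₀, hK₀⟩ := hd.exists_smul_map K hK0 z hKσ
    have hK₀det : K₀.det ≠ 0 := by
      intro h0
      apply hKdet
      rw [hK₀, Matrix.det_smul, det_map_iota, h0, map_zero, mul_zero]
    obtain ⟨g₀, hg₀⟩ : ∃ g₀ : GL (Fin n) F₀, (g₀ : Matrix (Fin n) (Fin n) F₀) = K₀ :=
      ⟨Matrix.GeneralLinearGroup.mkOfDetNeZero K₀ hK₀det, rfl⟩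
    obtain ⟨μ, hμ0, hμ⟩ := gram_of_mem_CU σ hσq (h : GL (Fin n) F) h.2 X
    rw [← hH, ← hXK, gram_mul, hPM, hK₀, gram_smul_iota hd, smul_smul] at hμ
    have hσw : σ w ≠ 0 := (map_ne_zero_iff _ σ.injective).2 hw0
    have hne : w * σ w * κ ≠ 0 := mul_ne_zero (mul_ne_zero hw0 hσw) hκ
    obtain ⟨c₀, hc₀0, hc₀⟩ := descend_smul hd (K₀ᵀ * M₀ * K₀) M₀ hM₀0
      ((w * σ w * κ)⁻¹ * (μ * κ))
      (mul_ne_zero (inv_ne_zero hne) (mul_ne_zero hμ0 hκ)) (by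
        rw [← smul_smul, ← hμ, smul_smul, inv_mul_cancel₀ hne, one_smul])
    have hg₀Sim : g₀ ∈ Sim := by
      rw [hSim, mem_bilSim_iff]
      exact ⟨c₀, hc₀0, by rw [hg₀, hc₀]⟩
    refine ⟨⟨g₀, hg₀Sim⟩, ?_⟩
    apply Subtype.ext
    rw [hφ]
    apply cjC_eq_of_smul _ _ w⁻¹ (inv_ne_zero hw0)
    show (ψ₀ g₀ : Matrix (Fin n) (Fin n) F) = w⁻¹ • ((h : GL (Fin n) F) : Matrix (Fin n) (Fin n) F)
    apply (Units.mul_left_inj P).1
    rw [← hX, hψX, hg₀, Matrix.smul_mul, ← hH, ← hXK, hK₀, Matrix.mul_smul, smul_smul,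
      inv_mul_cancel₀ hw0, one_smul]
  have hker : φ.ker = (Cfsg.Geo.scalars (Fin n) F₀).subgroupOf Sim := by
    ext g
    rw [MonoidHom.mem_ker, Subgroup.mem_subgroupOf, Cfsg.Geo.mem_scalars_iff]
    have h1 : φ g = 1 ↔ cjC (⟨ψ₀ g.1, hψCU g.1 g.2⟩ : ↥(CU n F q)) = 1 := by
      rw [← hφ]
      exact ⟨fun h => by rw [h]; rfl, fun h => Subtype.ext h⟩
    rw [h1, cjC_eq_one_iff hF hn]
    constructor
    · rintro ⟨l, hl0, hl⟩
      have hl' : (ψ₀ g.1 : Matrix (Fin n) (Fin n) F) = l • 1 := hl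
      have h2 : ((g : GL (Fin n) F₀) : Matrix (Fin n) (Fin n) F₀).map ι
          = l • (1 : Matrix (Fin n) (Fin n) F) := by
        apply (Units.mul_right_inj P).1
        rw [← hX, ← hψX, hl', Matrix.smul_mul, Matrix.one_mul, Matrix.mul_smul, Matrix.mul_one]
      have h3 : ι (((g : GL (Fin n) F₀) : Matrix (Fin n) (Fin n) F₀) ⟨0, by omega⟩ ⟨0, by omega⟩)
          = l := by
        have := congrFun (congrFun h2 ⟨0, by omega⟩) ⟨0, by omega⟩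
        simpa using this
      obtain ⟨c, hc⟩ : ∃ c : F₀, c =
          ((g : GL (Fin n) F₀) : Matrix (Fin n) (Fin n) F₀) ⟨0, by omega⟩ ⟨0, by omega⟩ :=
        ⟨_, rfl⟩
      rw [← hc] at h3
      have hc0 : c ≠ 0 := by
        intro h0
        rw [h0, map_zero] at h3
        exact hl0 h3.symm
      refine ⟨Units.mk0 c hc0, ?_⟩
      apply map_iota_inj (ι := ι)
      rw [h2, ← h3, Units.val_mk0, map_smul_one]
    · rintro ⟨c, hc⟩
      refine ⟨ι c, (map_ne_zero_iff _ ι.injective).2 c.ne_zero, ?_⟩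
      show (ψ₀ g.1 : Matrix (Fin n) (Fin n) F) = ι c • 1
      apply (Units.mul_left_inj P).1
      rw [← hX, hψX, hc, Matrix.smul_mul, Matrix.one_mul]
      rw [map_smul_one, Matrix.mul_smul, Matrix.mul_one]
  exact ⟨((QuotientGroup.quotientMulEquivOfEq hker).symm.trans
    (QuotientGroup.quotientKerEquivOfSurjective φ hsurj)).symm⟩

theorem isConjUnder_rel_iff (hF : Fintype.card F = q ^ 2) (hn : 3 ≤ n)
    (hσq : ∀ a : F, σ a = a ^ q) (hd : Desc ι σ)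
    (γ₁ γ₂ : MulAut (Cfsg.PSU n F q)) (M₁ M₂ : Matrix (Fin n) (Fin n) F₀)
    (h₁ : Rel ι σ γ₁ M₁) (h₂ : Rel ι σ γ₂ M₂) :
    Cfsg.IsConjUnder (Cfsg.inndiagPSU n F q) γ₁ γ₂ ↔
      ∃ (g₀ : GL (Fin n) F₀) (c : F₀), c ≠ 0 ∧
        (g₀ : Matrix (Fin n) (Fin n) F₀)ᵀ * M₂ * (g₀ : Matrix (Fin n) (Fin n) F₀) = c • M₁ := by
  haveI : Nonempty (Fin n) := ⟨⟨0, by omega⟩⟩
  obtain ⟨a₁, P₁, κ₁, hκ₁, rfl, haP₁, hPM₁⟩ := h₁
  obtain ⟨a₂, P₂, κ₂, hκ₂, rfl, haP₂, hPM₂⟩ := h₂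
  obtain ⟨X₁, hX₁⟩ : ∃ X₁ : Matrix (Fin n) (Fin n) F, X₁ = (P₁ : Matrix (Fin n) (Fin n) F) :=
    ⟨_, rfl⟩
  obtain ⟨X₂, hX₂⟩ : ∃ X₂ : Matrix (Fin n) (Fin n) F, X₂ = (P₂ : Matrix (Fin n) (Fin n) F) :=
    ⟨_, rfl⟩
  obtain ⟨A₁, hA₁⟩ : ∃ A₁ : Matrix (Fin n) (Fin n) F,
      A₁ = ((a₁ : GL (Fin n) F) : Matrix (Fin n) (Fin n) F) := ⟨_, rfl⟩
  obtain ⟨A₂, hA₂⟩ : ∃ A₂ : Matrix (Fin n) (Fin n) F,
      A₂ = ((a₂ : GL (Fin n) F) : Matrix (Fin n) (Fin n) F) := ⟨_, rfl⟩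
  rw [← hX₁] at haP₁ hPM₁
  rw [← hA₁] at haP₁
  rw [← hX₂] at haP₂ hPM₂
  rw [← hA₂] at haP₂
  have hM₁0 : M₁.map ι ≠ 0 := by
    intro h0
    have h1 : (X₁ᵀ * X₁.map σ).det ≠ 0 := by
      rw [Matrix.det_mul, Matrix.det_transpose, det_map_sigma, hX₁]
      exact mul_ne_zero (det_ne_zero_of_GL P₁)
        ((map_ne_zero_iff _ σ.injective).2 (det_ne_zero_of_GL P₁))
    rw [hPM₁, h0, smul_zero, Matrix.det_zero] at h1
    exact h1 rfl
  rw [isConjUnder_gamU_iff hF hn]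
  constructor
  · rintro ⟨h, z, hz0, hz⟩
    obtain ⟨H, hH⟩ : ∃ H : Matrix (Fin n) (Fin n) F,
        H = ((h : GL (Fin n) F) : Matrix (Fin n) (Fin n) F) := ⟨_, rfl⟩
    rw [← hA₂, ← hA₁, ← hH] at hz
    obtain ⟨K, hK⟩ : ∃ K : Matrix (Fin n) (Fin n) F,
        K = ((P₂⁻¹ * (h : GL (Fin n) F) * P₁ : GL (Fin n) F) : Matrix (Fin n) (Fin n) F) :=
      ⟨_, rfl⟩
    have hXK : X₂ * K = H * X₁ := by
      rw [hK, hX₂, hH, hX₁, ← Units.val_mul, ← Units.val_mul]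
      congr 1
      group
    have hKσ : K.map σ = z • K := by
      apply (Units.mul_right_inj P₂).1
      rw [← hX₂, Matrix.mul_smul, hXK]
      calc X₂ * K.map σ = A₂ * (X₂ * K).map σ := by
            rw [Matrix.map_mul, ← Matrix.mul_assoc, haP₂]
        _ = A₂ * H.map σ * X₁.map σ := by rw [hXK, Matrix.map_mul, Matrix.mul_assoc]
        _ = z • (H * (A₁ * X₁.map σ)) := by rw [hz, Matrix.smul_mul, Matrix.mul_assoc]
        _ = z • (H * X₁) := by rw [haP₁]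
    have hKdet : K.det ≠ 0 := by rw [hK]; exact det_ne_zero_of_GL _
    have hK0 : K ≠ 0 := by
      intro h0
      rw [h0, Matrix.det_zero] at hKdet
      exact hKdet rfl
    obtain ⟨w, hw0, K₀, hK₀⟩ := hd.exists_smul_map K hK0 z⁻¹ (by
      rw [hKσ, smul_smul, inv_mul_cancel₀ hz0, one_smul])
    have hK₀det : K₀.det ≠ 0 := by
      intro h0
      apply hKdet
      rw [hK₀, Matrix.det_smul, det_map_iota, h0, map_zero, mul_zero]
    obtain ⟨g₀, hg₀⟩ : ∃ g₀ : GL (Fin n) F₀, (g₀ : Matrix (Fin n) (Fin n) F₀) = K₀ :=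
      ⟨Matrix.GeneralLinearGroup.mkOfDetNeZero K₀ hK₀det, rfl⟩
    obtain ⟨μ, hμ0, hμ⟩ := gram_of_mem_CU σ hσq (h : GL (Fin n) F) h.2 X₁
    rw [← hH, ← hXK, gram_mul, hPM₁, hPM₂, hK₀, gram_smul_iota hd, smul_smul] at hμ
    have hσw : σ w ≠ 0 := (map_ne_zero_iff _ σ.injective).2 hw0
    have hne : w * σ w * κ₂ ≠ 0 := mul_ne_zero (mul_ne_zero hw0 hσw) hκ₂
    obtain ⟨c₀, hc₀0, hc₀⟩ := descend_smul hd (K₀ᵀ * M₂ * K₀) M₁ hM₁0
      ((w * σ w * κ₂)⁻¹ * (μ * κ₁))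
      (mul_ne_zero (inv_ne_zero hne) (mul_ne_zero hμ0 hκ₁)) (by
        rw [← smul_smul, ← hμ, smul_smul, inv_mul_cancel₀ hne, one_smul])
    exact ⟨g₀, c₀, hc₀0, by rw [hg₀, hc₀]⟩
  · rintro ⟨g₀, c, hc0, hg₀⟩
    obtain ⟨G, hG⟩ : ∃ G : Matrix (Fin n) (Fin n) F,
        G = (g₀ : Matrix (Fin n) (Fin n) F₀).map ι := ⟨_, rfl⟩
    obtain ⟨eg, heg⟩ : ∃ eg : GL (Fin n) F,
        eg = P₂ * Matrix.GeneralLinearGroup.map ι g₀ * P₁⁻¹ := ⟨_, rfl⟩
    obtain ⟨E, hE⟩ : ∃ E : Matrix (Fin n) (Fin n) F, E = (eg : Matrix (Fin n) (Fin n) F) :=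
      ⟨_, rfl⟩
    have hEX : E * X₁ = X₂ * G := by
      rw [hE, heg, hX₁, hX₂, hG, ← Units.val_mul, inv_mul_cancel_right, Units.val_mul]
      rfl
    have hGσ : G.map σ = G := by rw [hG, hd.map_iota]
    have hG1 : G = (1 : F) • (g₀ : Matrix (Fin n) (Fin n) F₀).map ι := by rw [one_smul, hG]
    have hgram : (E * X₁)ᵀ * (E * X₁).map σ
        = (κ₂ * ι c * κ₁⁻¹) • (X₁ᵀ * X₁.map σ) := by
      rw [hEX, gram_mul, hPM₁, hPM₂, hG1, gram_smul_iota hd, hg₀, smul_smul]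
      have : (c • M₁).map ι = ι c • M₁.map ι := by
        ext i j
        simp
      rw [this, smul_smul]
      congr 1
      rw [map_one]
      field_simp
    have hmem : eg ∈ CU n F q := by
      apply mem_CU_of_gram σ hσq eg P₁ (κ₂ * ι c * κ₁⁻¹)
        (mul_ne_zero (mul_ne_zero hκ₂ ((map_ne_zero_iff _ ι.injective).2 hc0))
          (inv_ne_zero hκ₁))
      rw [← hE, ← hX₁]
      exact hgram
    refine ⟨⟨eg, hmem⟩, 1, one_ne_zero, ?_⟩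
    rw [one_smul, ← hA₂, ← hA₁]
    show A₂ * (eg : Matrix (Fin n) (Fin n) F).map σ = (eg : Matrix (Fin n) (Fin n) F) * A₁
    rw [← hE]
    apply (Units.mul_left_inj (Matrix.GeneralLinearGroup.map (σ : F →+* F) P₁)).1
    rw [mapGL_coe, ← hX₁, Matrix.mul_assoc, ← Matrix.map_mul, hEX, Matrix.map_mul, hGσ,
      ← Matrix.mul_assoc, haP₂, Matrix.mul_assoc, haP₁, hEX]


theorem exists_rel_of_isGraph (hF : Fintype.card F = q ^ 2) (hn : 3 ≤ n)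
    (hσ : orderOf σ = 2) (hσq : ∀ a : F, σ a = a ^ q) (hd : Desc ι σ)
    (γ : MulAut (Cfsg.PSU n F q)) (hγ : Cfsg.IsGraphAutClassPSU γ) (h2 : orderOf γ = 2) :
    ∃ M₀ : Matrix (Fin n) (Fin n) F₀, (M₀ᵀ = M₀ ∨ M₀ᵀ = -M₀) ∧ Rel ι σ γ M₀ := by
  haveI : Nonempty (Fin n) := ⟨⟨0, by omega⟩⟩
  obtain ⟨a, rfl, ha⟩ := exists_gamU_of_isGraph hF hn σ hσ γ hγ h2
  obtain ⟨A, hA⟩ : ∃ A : Matrix (Fin n) (Fin n) F,
      A = ((a : GL (Fin n) F) : Matrix (Fin n) (Fin n) F) := ⟨_, rfl⟩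
  rw [← hA] at ha
  have h1σ : (1 : Matrix (Fin n) (Fin n) F).map σ = 1 := by
    ext i j
    simp [Matrix.one_apply, apply_ite]
  have htw : tw σ A 2 = 1 := by
    rw [tw_succ, tw_succ, tw_zero, h1σ, mul_one]
    exact ha
  obtain ⟨X, hu, hh⟩ := hilbert90_matrix σ A 2 hσ (by norm_num) htw
  obtain ⟨P, hP⟩ : ∃ P : GL (Fin n) F, (P : Matrix (Fin n) (Fin n) F) = X := ⟨hu.unit, rfl⟩
  obtain ⟨c, hc⟩ := (mem_CU_iff σ hσq (a : GL (Fin n) F)).1 a.2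
  rw [← hA] at hc
  obtain ⟨Y, hY⟩ : ∃ Y : Matrix (Fin n) (Fin n) F, Y = X.map σ := ⟨_, rfl⟩
  rw [← hY] at hh
  have hYσ : Y.map σ = X := by rw [hY, hd.map_map]
  have hY2 : Y = A.map σ * X := by
    have := congrArg (fun M : Matrix (Fin n) (Fin n) F => M.map σ) hh
    simp only [Matrix.map_mul, hYσ] at this
    rw [← hY] at this
    exact this.symm
  have hXt : Xᵀ = Yᵀ * Aᵀ := by rw [← Matrix.transpose_mul, hh]
  obtain ⟨M, hM⟩ : ∃ M : Matrix (Fin n) (Fin n) F, M = Xᵀ * Y := ⟨_, rfl⟩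
  have hMt : Mᵀ = Yᵀ * X := by rw [hM, Matrix.transpose_mul, Matrix.transpose_transpose]
  have hMc : M = (c : F) • Mᵀ := by
    have h3 : Xᵀ * Y = Yᵀ * Aᵀ * (A.map σ * X) := by rw [← hXt, ← hY2]
    rw [hMt, hM, h3, Matrix.mul_assoc, ← Matrix.mul_assoc Aᵀ, hc, Matrix.smul_mul, Matrix.one_mul,
      Matrix.mul_smul]
  have hMσ : M.map σ = Mᵀ := by
    rw [hMt, hM, Matrix.map_mul, hYσ, Matrix.transpose_map, ← hY]
  have hXdet : X.det ≠ 0 := by rw [← hP]; exact det_ne_zero_of_GL P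
  have hMdet : M.det ≠ 0 := by
    rw [hM, Matrix.det_mul, Matrix.det_transpose, hY, det_map_sigma]
    exact mul_ne_zero hXdet ((map_ne_zero_iff _ σ.injective).2 hXdet)
  have hM0 : M ≠ 0 := by
    intro h0
    rw [h0, Matrix.det_zero] at hMdet
    exact hMdet rfl
  have hMtc : Mᵀ = (c : F) • M := by
    conv_lhs => rw [hMc, Matrix.transpose_smul, Matrix.transpose_transpose]
  have hcc : (c : F) * c = 1 := by
    have h3 : M = ((c : F) * c) • M := by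
      conv_lhs => rw [hMc, hMtc, smul_smul]
    obtain ⟨i, j, hij⟩ : ∃ i j, M i j ≠ 0 := by
      by_contra hcon
      push Not at hcon
      apply hM0
      ext i j
      exact hcon i j
    have h4 := congrFun (congrFun h3 i) j
    rw [Matrix.smul_apply, smul_eq_mul] at h4
    have h5 : (1 - (c : F) * c) * M i j = 0 := by linear_combination h4
    rcases mul_eq_zero.1 h5 with h6 | h6
    · linear_combination -h6
    · exact absurd h6 hij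
  have hc1 : (c : F) = 1 ∨ (c : F) = -1 := by
    have : ((c : F) - 1) * ((c : F) + 1) = 0 := by linear_combination hcc
    rcases mul_eq_zero.1 this with h | h
    · left; linear_combination h
    · right; linear_combination h
  rcases hc1 with hc1 | hc1
  · -- symmetric case
    rw [hc1, one_smul] at hMc hMtc
    have hfix : M.map σ = M := by rw [hMσ, hMtc]
    obtain ⟨M₀, hM₀⟩ := hd.exists_map M hfix
    refine ⟨M₀, Or.inl ?_, a, P, 1, one_ne_zero, rfl, ?_, ?_⟩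
    · apply map_iota_inj (ι := ι)
      rw [Matrix.transpose_map, ← hM₀, hMtc]
    · rw [hP, ← hA, ← hY]
      exact hh
    · rw [hP, ← hY, ← hM, one_smul, hM₀]
  · -- skew case
    rw [hc1] at hMc hMtc
    obtain ⟨η, hη0, hη⟩ := Cfsg.Agent.Lib.Helper2.UT.exists_skew hσ
    have hfix : (η⁻¹ • M).map σ = η⁻¹ • M := by
      have h3 : (η⁻¹ • M).map σ = (σ η)⁻¹ • M.map σ := by
        ext i j
        simp
      rw [h3, hMσ, hMtc, hη, smul_smul]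
      congr 1
      field_simp
    obtain ⟨M₀, hM₀⟩ := hd.exists_map _ hfix
    have hM' : M = η • M₀.map ι := by
      rw [← hM₀, smul_smul, mul_inv_cancel₀ hη0, one_smul]
    refine ⟨M₀, Or.inr ?_, a, P, η, hη0, rfl, ?_, ?_⟩
    · apply map_iota_inj (ι := ι)
      rw [Matrix.transpose_map, ← hM₀, Matrix.transpose_smul, hMtc]
      have : (-M₀).map ι = -(M₀.map ι) := by
        ext i j
        simp
      rw [this, ← hM₀]
      simp
    · rw [hP, ← hA, ← hY]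
      exact hh
    · rw [hP, ← hY, ← hM, hM']


theorem exists_of_sym (hF : Fintype.card F = q ^ 2) (hn : 3 ≤ n)
    (hσ : orderOf σ = 2) (hσq : ∀ a : F, σ a = a ^ q) (hd : Desc ι σ)
    (M₀ : GL (Fin n) F₀)
    (hM₀ : (M₀ : Matrix (Fin n) (Fin n) F₀)ᵀ = (M₀ : Matrix (Fin n) (Fin n) F₀)
      ∨ (M₀ : Matrix (Fin n) (Fin n) F₀)ᵀ = -(M₀ : Matrix (Fin n) (Fin n) F₀)) :
    ∃ γ : MulAut (Cfsg.PSU n F q), Cfsg.IsGraphAutClassPSU γ ∧ orderOf γ = 2 ∧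
      Rel ι σ γ (M₀ : Matrix (Fin n) (Fin n) F₀) := by
  haveI : Nonempty (Fin n) := ⟨⟨0, by omega⟩⟩
  obtain ⟨κ, ε, hκ0, hκσ, hεε, hM₀ε⟩ : ∃ κ ε : F, κ ≠ 0 ∧ σ κ = ε * κ ∧ ε * ε = 1 ∧
      ((M₀ : Matrix (Fin n) (Fin n) F₀)ᵀ).map ι
        = ε • (M₀ : Matrix (Fin n) (Fin n) F₀).map ι := by
    rcases hM₀ with h | h
    · exact ⟨1, 1, one_ne_zero, by rw [map_one, one_mul], one_mul 1, by rw [h, one_smul]⟩
    · obtain ⟨η, hη0, hη⟩ := Cfsg.Agent.Lib.Helper2.UT.exists_skew hσ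
      refine ⟨η, -1, hη0, by rw [hη]; ring, by ring, ?_⟩
      rw [h]
      ext i j
      simp
  obtain ⟨N, hN⟩ : ∃ N : Matrix (Fin n) (Fin n) F,
      N = κ • (M₀ : Matrix (Fin n) (Fin n) F₀).map ι := ⟨_, rfl⟩
  have hNσ : N.map σ = ε • N := by
    have h3 : (κ • (M₀ : Matrix (Fin n) (Fin n) F₀).map ι).map σ
        = σ κ • ((M₀ : Matrix (Fin n) (Fin n) F₀).map ι).map σ := by
      ext i j
      simp
    rw [hN, h3, hd.map_iota, hκσ, smul_smul]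
  have hNt : Nᵀ = ε • N := by
    rw [hN, Matrix.transpose_smul, ← Matrix.transpose_map, hM₀ε, smul_smul, smul_smul, mul_comm]
  have hNherm : ∀ k l, σ (N k l) = N l k := by
    intro k l
    have h1 := congrFun (congrFun hNσ k) l
    have h2 := congrFun (congrFun hNt l) k
    rw [Matrix.map_apply] at h1
    rw [Matrix.transpose_apply] at h2
    rw [Matrix.smul_apply, smul_eq_mul] at h1 h2
    rw [h1, h2, ← mul_assoc, hεε, one_mul]
  have hNdet : N.det ≠ 0 := by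
    rw [hN, Matrix.det_smul, det_map_iota]
    exact mul_ne_zero (pow_ne_zero _ hκ0)
      ((map_ne_zero_iff _ ι.injective).2 (det_ne_zero_of_GL M₀))
  have hNu : IsUnit N := (Matrix.isUnit_iff_isUnit_det _).2 (IsUnit.mk0 _ hNdet)
  obtain ⟨E, hE⟩ := exists_congr_one hσ hNherm hNu
  have hEu : IsUnit E := by
    rw [Matrix.mul_assoc] at hE
    exact IsUnit.of_mul_eq_one _ hE
  obtain ⟨Eg, hEg⟩ : ∃ Eg : GL (Fin n) F, (Eg : Matrix (Fin n) (Fin n) F) = E := ⟨hEu.unit, rfl⟩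
  obtain ⟨E', hE'⟩ : ∃ E' : Matrix (Fin n) (Fin n) F,
      E' = ((Eg⁻¹ : GL (Fin n) F) : Matrix (Fin n) (Fin n) F) := ⟨_, rfl⟩
  have hE'E : E' * E = 1 := by
    rw [hE', ← hEg, ← Units.val_mul, inv_mul_cancel, Units.val_one]
  have hEE' : E * E' = 1 := by
    rw [hE', ← hEg, ← Units.val_mul, mul_inv_cancel, Units.val_one]
  have h1σ : (1 : Matrix (Fin n) (Fin n) F).map σ = 1 := by
    ext i j
    simp [Matrix.one_apply, apply_ite]
  have hE'Eσ : E'.map σ * E.map σ = 1 := by rw [← Matrix.map_mul, hE'E, h1σ]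
  obtain ⟨P, hP⟩ : ∃ P : GL (Fin n) F, P = tauGL Eg := ⟨_, rfl⟩
  obtain ⟨X, hX⟩ : ∃ X : Matrix (Fin n) (Fin n) F, X = (P : Matrix (Fin n) (Fin n) F) := ⟨_, rfl⟩
  have hXE : X = E'ᵀ := by rw [hX, hP, tauGL_coe, hE']
  obtain ⟨Y, hY⟩ : ∃ Y : Matrix (Fin n) (Fin n) F, Y = X.map σ := ⟨_, rfl⟩
  have hYE : Y = (E'.map σ)ᵀ := by rw [hY, hXE, Matrix.transpose_map]
  have hXY : Xᵀ * Y = N := by
    rw [hXE, hYE, Matrix.transpose_transpose]
    calc E' * (E'.map σ)ᵀ = E' * (E * N * (E.map σ)ᵀ) * (E'.map σ)ᵀ := by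
          rw [hE, Matrix.mul_one]
      _ = (E' * E) * N * ((E.map σ)ᵀ * (E'.map σ)ᵀ) := by
          simp only [Matrix.mul_assoc]
      _ = N := by
          rw [hE'E, ← Matrix.transpose_mul, hE'Eσ, Matrix.transpose_one, Matrix.one_mul,
            Matrix.mul_one]
  obtain ⟨Pσ, hPσ⟩ : ∃ Pσ : GL (Fin n) F,
      Pσ = Matrix.GeneralLinearGroup.map (σ : F →+* F) P := ⟨_, rfl⟩
  have hPσc : (Pσ : Matrix (Fin n) (Fin n) F) = Y := by rw [hPσ, hY, hX]; rfl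
  obtain ⟨ag, hag⟩ : ∃ ag : GL (Fin n) F, ag = P * Pσ⁻¹ := ⟨_, rfl⟩
  obtain ⟨A, hA⟩ : ∃ A : Matrix (Fin n) (Fin n) F,
      A = (ag : Matrix (Fin n) (Fin n) F) := ⟨_, rfl⟩
  have hAY : A * Y = X := by
    rw [hA, hag, ← hPσc, ← Units.val_mul, inv_mul_cancel_right, hX]
  have hYσ : Y.map σ = X := by rw [hY, hd.map_map]
  have hY2 : Y = A.map σ * X := by
    have := congrArg (fun M : Matrix (Fin n) (Fin n) F => M.map σ) hAY
    simp only [Matrix.map_mul, hYσ] at this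
    rw [← hY] at this
    exact this.symm
  have hXt : Xᵀ = Yᵀ * Aᵀ := by rw [← Matrix.transpose_mul, hAY]
  have hYtX : Yᵀ * X = ε • N := by
    rw [← hNσ, ← hXY, Matrix.map_mul, hYσ, Matrix.transpose_map, ← hY]
  have hAA : Aᵀ * A.map σ = ε • (1 : Matrix (Fin n) (Fin n) F) := by
    apply cancel_both (tauGL Pσ)⁻¹ P
    have h3 : Xᵀ * Y = Yᵀ * Aᵀ * (A.map σ * X) := by rw [← hXt, ← hY2]
    rw [tauGL_inv_coe, hPσc, ← hX, Matrix.mul_smul, Matrix.mul_one, Matrix.smul_mul, hYtX, smul_smul,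
      hεε, one_smul, ← hXY, h3]
    simp only [Matrix.mul_assoc]
  have hAσA : A * A.map σ = 1 := by
    have h3 : A * A.map σ * X = 1 * X := by
      rw [Matrix.mul_assoc, ← hY2, hAY, Matrix.one_mul]
    rw [hX] at h3
    exact (Units.mul_left_inj P).1 h3
  have hε0 : ε ≠ 0 := by
    intro h0
    rw [h0, mul_zero] at hεε
    exact zero_ne_one hεε
  have hmem : ag ∈ CU n F q := by
    rw [mem_CU_iff σ hσq]
    exact ⟨Units.mk0 ε hε0, by rw [← hA, hAA]; rfl⟩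
  refine ⟨gamU σ ⟨ag, hmem⟩, gamU_isGraph hF hn σ hσ _,
    orderOf_gamU hF hn σ hσ _ (by rw [← hAσA, hA]), ⟨ag, hmem⟩, P, κ, hκ0, rfl, ?_, ?_⟩
  · show (ag : Matrix (Fin n) (Fin n) F) * _ = _
    rw [← hA, ← hX, ← hY, hAY]
  · rw [← hX, ← hY, hXY, hN]


end

end Cfsg.Agent.Lib.Helper5.PSUAut
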