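import Mathlib
import Cfsg.Agent.Lib.Helper5.PSUAut7

set_option autoImplicit false

/-! Interface lemmas for the involutory graph automorphisms of `PSU_n`. -/

namespace Cfsg.Agent.Lib.Helper5.PSUAut

open Matrix Matrix.SpecialLinearGroup Cfsg.Agent.Lib.Helper5.SLnAut Cfsg.Agent.Lib.Helper5.PGO
  Cfsg.Agent.Lib.Helper5.PSLCoset Cfsg.Agent.Lib.Helper5.GraphInv

section
variable {F : Type*} [Field F] [Fintype F] {q : ℕ} {F₀ : Type*} [Field F₀] [Fintype F₀]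

/-- the involution of a field with `q²` elements and an embedding of the field with `q`
elements onto its fixed field -/
theorem exists_desc (hF : Fintype.card F = q ^ 2) (hF₀ : Fintype.card F₀ = q) :
    ∃ (σ : F ≃+* F) (ι : F₀ →+* F), orderOf σ = 2 ∧ (∀ a : F, σ a = a ^ q) ∧ Desc ι σ := by
  obtain ⟨σ, hσ, hσq⟩ := Cfsg.Agent.Lib.Helper2.HermDecomp.exists_sigma hF
  obtain ⟨p, hchar⟩ := CharP.exists F₀
  obtain ⟨k, hp, hk⟩ := FiniteField.card F₀ p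
  haveI : Fact p.Prime := ⟨hp⟩
  have hF' : Fintype.card F = p ^ (2 * (k : ℕ)) := by
    rw [hF, ← hF₀, hk, ← pow_mul, mul_comm]
  obtain ⟨ι, hι⟩ := exists_embedding_fixed hF' σ 2 hσ (by norm_num) F₀
    (by rw [hk, Nat.mul_div_cancel_left _ (by norm_num : 0 < 2)])
  exact ⟨σ, ι, hσ, hσq, ⟨Cfsg.Agent.Lib.Helper2.WittHerm.sigma_sigma hσ, hι⟩⟩

end

section
variable {n : ℕ} {F : Type*} [Field F] {q : ℕ} {F₀ : Type*} [Field F₀]
  {ι : F₀ →+* F} {σ : F ≃+* F}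

theorem Rel.det_ne_zero {γ : MulAut (Cfsg.PSU n F q)} {M₀ : Matrix (Fin n) (Fin n) F₀}
    (h : Rel ι σ γ M₀) : M₀.det ≠ 0 := by
  obtain ⟨a, P, κ, hκ, -, -, hPM⟩ := h
  intro h0
  have h1 : ((P : Matrix (Fin n) (Fin n) F)ᵀ * (P : Matrix (Fin n) (Fin n) F).map σ).det ≠ 0 := by
    rw [Matrix.det_mul, Matrix.det_transpose, det_map_sigma]
    exact mul_ne_zero (det_ne_zero_of_GL P)
      ((map_ne_zero_iff _ σ.injective).2 (det_ne_zero_of_GL P))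
  rw [hPM, Matrix.det_smul, det_map_iota, h0, map_zero, mul_zero] at h1
  exact h1 rfl

/-- in odd dimension the form is symmetric -/
theorem sym_of_odd {m : ℕ} (hnm : n = 2 * m + 1) (M₀ : Matrix (Fin n) (Fin n) F₀)
    (hdet : M₀.det ≠ 0) (h : M₀ᵀ = M₀ ∨ M₀ᵀ = -M₀) : M₀ᵀ = M₀ := by
  rcases h with h | h
  · exact h
  · have h1 : M₀.det = -M₀.det := by
      have hpow : (-1 : F₀) ^ n = -1 := Odd.neg_one_pow ⟨m, hnm⟩
      conv_lhs => rw [← Matrix.det_transpose, h, Matrix.det_neg, Fintype.card_fin, hpow]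
      ring
    have h2 : (2 : F₀) * M₀.det = 0 := by linear_combination h1
    rcases mul_eq_zero.1 h2 with h3 | h3
    · have h4 : (-1 : F₀) = 1 := by linear_combination -h3
      rw [h, ← neg_one_smul F₀ M₀, h4, one_smul]
    · exact absurd h3 hdet

end

section
variable {n : ℕ} {F : Type*} [Field F] [Fintype F] {q : ℕ} {F₀ : Type*} [Field F₀] [Finite F₀]
  {ι : F₀ →+* F} {σ : F ≃+* F}

/-- the centralizer for a symmetric form in odd characteristic -/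
theorem centralizer_rel_sym (hF : Fintype.card F = q ^ 2) (hn : 3 ≤ n)
    (hσq : ∀ a : F, σ a = a ^ q) (hd : Desc ι σ) (h2 : (2 : F₀) ≠ 0)
    (γ : MulAut (Cfsg.PSU n F q)) (M₀ : Matrix (Fin n) (Fin n) F₀) (hM : M₀ᵀ = M₀)
    (hrel : Rel ι σ γ M₀) :
    Nonempty (↥(Cfsg.inndiagPSU n F q ⊓ Subgroup.centralizer {γ}) ≃*
      Cfsg.PGO F₀ (fun v : Fin n → F₀ => v ⬝ᵥ (M₀ *ᵥ v))) := by
  obtain ⟨e⟩ := centralizer_rel hF hn hσq hd γ M₀ hrel
  have hS : Cfsg.Geo.similarityGroup (fun u v : Fin n → F₀ => u ⬝ᵥ (M₀ *ᵥ v))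
      = Cfsg.Geo.quadSimilarityGroup (fun v : Fin n → F₀ => v ⬝ᵥ (M₀ *ᵥ v)) := by
    ext g
    rw [mem_bilSim_iff, mem_quadSim_iff h2 M₀ hM]
  rw [hS] at e
  exact ⟨e⟩

end

end Cfsg.Agent.Lib.Helper5.PSUAut
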