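import Mathlib
import Cfsg.Agent.Lib.Helper5.PSUAut8
import Cfsg.Agent.Lib.Helper5.PSLCoset8
import Cfsg.Agent.Lib.Helper5.SLnOut4
import Cfsg.Agent.S0278

set_option autoImplicit false

/-! The class-splitting count for automorphisms of `PSU_n` through the determinant. -/

namespace Cfsg.Agent.Lib.Helper5.PSUAut

open Matrix Matrix.SpecialLinearGroup Cfsg.Agent.Lib.Helper5.SLnAut Cfsg.Agent.Lib.Helper5.PGO
  Cfsg.Agent.Lib.Helper5.PSLCoset Cfsg.Agent.Lib.Helper5.GraphInv Cfsg.Agent.Lib.Helper5.SLnBN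

section
variable {F : Type*} [Field F]

/-- the units of norm one -/
def U1 (F : Type*) [Field F] (q : ℕ) : Subgroup Fˣ where
  carrier := {u | (u : F) * (u : F) ^ q = 1}
  mul_mem' := by
    intro a b ha hb
    show ((a * b : Fˣ) : F) * ((a * b : Fˣ) : F) ^ q = 1
    have ha' : (a : F) * (a : F) ^ q = 1 := ha
    have hb' : (b : F) * (b : F) ^ q = 1 := hb
    rw [Units.val_mul, mul_pow]
    calc (a : F) * b * ((a : F) ^ q * (b : F) ^ q)
        = ((a : F) * (a : F) ^ q) * ((b : F) * (b : F) ^ q) := by ring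
      _ = 1 := by rw [ha', hb', one_mul]
  one_mem' := by
    show ((1 : Fˣ) : F) * ((1 : Fˣ) : F) ^ q = 1
    rw [Units.val_one, one_pow, one_mul]
  inv_mem' := by
    intro a ha
    have ha' : (a : F) * (a : F) ^ q = 1 := ha
    show ((a⁻¹ : Fˣ) : F) * ((a⁻¹ : Fˣ) : F) ^ q = 1
    rw [Units.val_inv_eq_inv_val, inv_pow, ← mul_inv, ha', inv_one]

theorem mem_U1 {q : ℕ} {u : Fˣ} : u ∈ U1 F q ↔ (u : F) * (u : F) ^ q = 1 := Iff.rfl

end

section
variable {F : Type*} [Field F] [Fintype F] {q : ℕ}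

theorem card_U1 (hF : Fintype.card F = q ^ 2) : Nat.card ↥(U1 F q) = q + 1 := by
  rw [← Cfsg.Agent.S0278.card_norm_one hF]
  rfl

theorem index_pow_U1 (hF : Fintype.card F = q ^ 2) (k : ℕ) :
    (powMonoidHom k : ↥(U1 F q) →* ↥(U1 F q)).range.index = Nat.gcd k (q + 1) := by
  rw [IsCyclic.index_powMonoidHom_range, card_U1 hF, Nat.gcd_comm]

theorem neg_one_mem_U1 (hodd : Odd q) : (-1 : Fˣ) ∈ U1 F q := by
  rw [mem_U1]
  rw [Units.val_neg, Units.val_one, Odd.neg_one_pow hodd]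
  ring

/-- the index of the subgroup generated by `-1` and the `m`-th powers -/
theorem index_neg_pow_U1 (hF : Fintype.card F = q ^ 2) (hodd : Odd q) (m : ℕ)
    (W : Subgroup ↥(U1 F q)) (hW : W = Subgroup.zpowers (⟨-1, neg_one_mem_U1 hodd⟩ : ↥(U1 F q))) :
    ((powMonoidHom m : ↥(U1 F q) →* ↥(U1 F q)).range ⊔ W).index
      = Nat.gcd (2 * m) (q + 1) / 2 := by
  rw [index_pow_sup]
  have hq2 : 2 ≤ q := Cfsg.Agent.Lib.Helper1.HermCount.two_le_q hF
  have h2 : (2 : F) ≠ 0 := by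
    intro h0
    have hchar : ringChar F = 2 :=
      CharP.ringChar_of_prime_eq_zero Nat.prime_two (by exact_mod_cast h0)
    have heven := (FiniteField.even_card_iff_char_two).1 hchar
    rw [hF] at heven
    have : ¬ Odd (q ^ 2) := by
      rw [Nat.not_odd_iff_even]
      exact Nat.even_iff.2 heven
    exact this (Odd.pow hodd)
  have hne : (⟨-1, neg_one_mem_U1 hodd⟩ : ↥(U1 F q)) ≠ 1 := by
    intro h
    have h1 := congrArg (fun u : ↥(U1 F q) => ((u : Fˣ) : F)) h
    simp only [Units.val_neg, Units.val_one, OneMemClass.coe_one] at h1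
    apply h2
    linear_combination -h1
  have hord : orderOf (⟨-1, neg_one_mem_U1 hodd⟩ : ↥(U1 F q)) = 2 := by
    apply orderOf_eq_prime
    · apply Subtype.ext
      show (-1 : Fˣ) ^ 2 = 1
      rw [neg_one_sq]
    · exact hne
  have hcard : Nat.card W = 2 := by
    rw [hW, Nat.card_zpowers, hord]
  have h1 := Subgroup.card_mul_index W
  rw [hcard, card_U1 hF] at h1
  rw [← h1, Nat.gcd_mul_left, Nat.mul_div_cancel_left _ (by norm_num : 0 < 2), Nat.gcd_comm]

end

section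
variable {n : ℕ} {F : Type*} [Field F] [Fintype F] {q : ℕ}

theorem det_mem_U1 (hF : Fintype.card F = q ^ 2) (g : GL (Fin n) F) (hg : g ∈ Cfsg.GU n F q) :
    Matrix.GeneralLinearGroup.det g ∈ U1 F q := by
  obtain ⟨σ, hσ, hσq⟩ := Cfsg.Agent.Lib.Helper2.HermDecomp.exists_sigma hF
  rw [mem_U1, Matrix.GeneralLinearGroup.val_det_apply, ← hσq, ← det_map_sigma,
    ← Matrix.det_transpose, ← Matrix.det_mul, (mem_GU_iff σ q hσq g).1 hg, Matrix.det_one]

/-- the determinant on the general unitary group -/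
def detGU (hF : Fintype.card F = q ^ 2) (n : ℕ) : ↥(Cfsg.GU n F q) →* ↥(U1 F q) where
  toFun g := ⟨Matrix.GeneralLinearGroup.det (g : GL (Fin n) F), det_mem_U1 hF g.1 g.2⟩
  map_one' := by
    apply Subtype.ext
    exact map_one _
  map_mul' g h := by
    apply Subtype.ext
    exact map_mul _ _ _

theorem detGU_coe (hF : Fintype.card F = q ^ 2) (g : ↥(Cfsg.GU n F q)) :
    ((detGU hF n g : ↥(U1 F q)) : Fˣ) = Matrix.GeneralLinearGroup.det (g : GL (Fin n) F) := rfl

theorem dgN_mem_GU (hF : Fintype.card F = q ^ 2) (hn : 1 ≤ n) (u : Fˣ) (hu : u ∈ U1 F q) :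
    dgNHom (⟨0, by omega⟩ : Fin n) u ∈ Cfsg.GU n F q := by
  obtain ⟨σ, hσ, hσq⟩ := Cfsg.Agent.Lib.Helper2.HermDecomp.exists_sigma hF
  rw [mem_GU_iff σ q hσq]
  change (diagGL (Pi.mulSingle (⟨0, by omega⟩ : Fin n) u) : Matrix (Fin n) (Fin n) F)ᵀ
    * (diagGL (Pi.mulSingle (⟨0, by omega⟩ : Fin n) u) : Matrix (Fin n) (Fin n) F).map σ = 1
  rw [diagGL_coe, Matrix.diagonal_transpose, Matrix.diagonal_map (map_zero σ),
    Matrix.diagonal_mul_diagonal, ← Matrix.diagonal_one]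
  congr 1
  funext i
  by_cases hi : i = (⟨0, by omega⟩ : Fin n)
  · subst hi
    simp only [Pi.mulSingle_eq_same, Function.comp]
    rw [hσq]
    exact hu
  · simp only [Pi.mulSingle_eq_of_ne hi, Function.comp, Units.val_one, map_one, mul_one]

theorem detGU_surjective (hF : Fintype.card F = q ^ 2) (hn : 1 ≤ n) :
    Function.Surjective (detGU hF n) := by
  intro u
  refine ⟨⟨dgNHom (⟨0, by omega⟩ : Fin n) u.1, dgN_mem_GU hF hn u.1 u.2⟩, ?_⟩
  apply Subtype.ext
  rw [detGU_coe]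
  exact det_dgNHom _ _

/-- conjugation by unitary matrices on `PSU_n` -/
noncomputable def rhoGU (n : ℕ) (F : Type*) [Field F] (q : ℕ) :
    ↥(Cfsg.GU n F q) →* MulAut (Cfsg.PSU n F q) :=
  (cjC (n := n) (F := F) (q := q)).comp (Subgroup.inclusion GU_le_CU)

theorem rhoGU_apply (g : ↥(Cfsg.GU n F q)) :
    rhoGU n F q g = cjC ⟨(g : GL (Fin n) F), GU_le_CU g.2⟩ := rfl

theorem range_rhoGU (hF : Fintype.card F = q ^ 2) :
    (rhoGU n F q).range = Cfsg.inndiagPSU n F q := by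
  rw [inndiagPSU_eq hF]
  apply le_antisymm
  · rintro _ ⟨g, rfl⟩
    exact ⟨_, rfl⟩
  · rintro _ ⟨g, rfl⟩
    obtain ⟨g', hg', z, hz, h⟩ := exists_smul_mem_GU hF g.1 g.2
    refine ⟨⟨g', hg'⟩, ?_⟩
    rw [rhoGU_apply]
    exact (cjC_eq_of_smul g ⟨g', GU_le_CU hg'⟩ z hz h).symm

theorem map_ker_detGU (hF : Fintype.card F = q ^ 2) :
    (detGU hF n).ker.map (rhoGU n F q) = Cfsg.Inn (Cfsg.PSU n F q) := by
  ext β
  constructor
  · rintro ⟨g, hg, rfl⟩
    rw [SetLike.mem_coe, MonoidHom.mem_ker] at hg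
    have hdet : ((g : GL (Fin n) F) : Matrix (Fin n) (Fin n) F).det = 1 := by
      have := congrArg (fun u : ↥(U1 F q) => ((u : Fˣ) : F)) hg
      exact this
    obtain ⟨s, e⟩ : ∃ s : SpecialLinearGroup (Fin n) F,
        Matrix.SpecialLinearGroup.toGL s = (g : GL (Fin n) F) :=
      ⟨⟨((g : GL (Fin n) F) : Matrix (Fin n) (Fin n) F), hdet⟩, Units.ext rfl⟩
    have hs : s ∈ Cfsg.SU n F q := by
      intro u v
      have := g.2 u v
      rw [← e] at this
      exact this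
    refine ⟨QuotientGroup.mk ⟨s, hs⟩, ?_⟩
    apply MulEquiv.ext
    intro x
    obtain ⟨t, rfl⟩ := QuotientGroup.mk_surjective x
    rw [rhoGU_apply, cjC_mk, MulAut.conj_apply, ← QuotientGroup.mk_inv, ← QuotientGroup.mk_mul,
      ← QuotientGroup.mk_mul]
    congr 1
    apply Subtype.ext
    show s * t.1 * s⁻¹ = glConj (g : GL (Fin n) F) t.1
    rw [← e, glConj_toGL]
  · rintro ⟨x, rfl⟩
    obtain ⟨s, rfl⟩ := QuotientGroup.mk_surjective x
    have hmem : Matrix.SpecialLinearGroup.toGL s.1 ∈ Cfsg.GU n F q := by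
      intro u v
      exact s.2 u v
    refine ⟨⟨Matrix.SpecialLinearGroup.toGL s.1, hmem⟩, ?_, ?_⟩
    · rw [SetLike.mem_coe, MonoidHom.mem_ker]
      apply Subtype.ext
      apply Units.ext
      rw [detGU_coe, Matrix.GeneralLinearGroup.val_det_apply]
      exact s.1.2
    · apply MulEquiv.ext
      intro x
      obtain ⟨t, rfl⟩ := QuotientGroup.mk_surjective x
      rw [rhoGU_apply, cjC_mk, MulAut.conj_apply, ← QuotientGroup.mk_inv, ← QuotientGroup.mk_mul,
        ← QuotientGroup.mk_mul]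
      congr 1

/-- the splitting count through the determinant -/
theorem splitCountU_eq (hF : Fintype.card F = q ^ 2) (hn : 1 ≤ n)
    (x : MulAut (Cfsg.PSU n F q)) :
    Cfsg.splitClassCount (Cfsg.inndiagPSU n F q) (Cfsg.Inn (Cfsg.PSU n F q)) x
      = ((commSub (rhoGU n F q) x).map (detGU hF n)).index := by
  rw [← range_rhoGU hF, ← map_ker_detGU hF]
  exact splitClassCount_eq_index_map (rhoGU n F q) _ (detGU_surjective hF hn) x

end

end Cfsg.Agent.Lib.Helper5.PSUAut
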