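import Mathlib
import Cfsg.Agent.Lib.Helper5.SolvTriA

set_option autoImplicit false
set_option linter.style.haveILetI false
set_option linter.unusedSectionVars false
set_option linter.unusedVariables false
set_option maxHeartbeats 800000

/-! Lucido's three primes lemma: a solvable group whose order is divisible by three primes has
an element whose order is the product of two of them. -/

namespace Cfsg.Agent.Lib.Helper5.SolvTri

open Cfsg.Agent.Lib.Lead
open scoped Pointwise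

universe u

theorem prime_dvd_card_of_ne_bot {G : Type u} [Group G] [Finite G] {p : ℕ} [Fact p.Prime]
    {V : Subgroup G} (hVp : IsPGroup p V) (hV1 : V ≠ ⊥) : p ∣ Nat.card V := by
  obtain ⟨j, hj⟩ := IsPGroup.iff_card.mp hVp
  have hj0 : j ≠ 0 := by
    rintro rfl
    rw [pow_zero] at hj
    exact hV1 (Subgroup.card_eq_one.mp hj)
  rw [hj]
  exact dvd_pow_self p hj0

theorem lucido_aux : ∀ (N : ℕ) (X : Type u) [Group X] [Finite X], Nat.card X = N →
    Group.IsSolvable X → ∀ τ : Finset ℕ, 3 ≤ τ.card → (∀ a ∈ τ, a.Prime ∧ a ∣ Nat.card X) →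
    ∃ a ∈ τ, ∃ b ∈ τ, a ≠ b ∧ ∃ g : X, orderOf g = a * b := by
  intro N
  induction N using Nat.strong_induction_on with
  | _ N ih =>
  intro X _ _ hN hsolv τ hτ3 hτ
  haveI := hsolv
  obtain ⟨m, n, hmn, hcop, hm, hn⟩ :=
    Cfsg.Agent.Lib.Helper7.exists_pi_split (↑τ : Set ℕ) (Nat.card X) Nat.card_pos.ne'
  have hXpos : 0 < Nat.card X := Nat.card_pos
  have hmpos : 0 < m := Nat.pos_of_ne_zero (by rintro rfl; simp at hmn; omega)
  have hnpos : 0 < n := Nat.pos_of_ne_zero (by rintro rfl; simp at hmn; omega)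
  by_cases hn1 : n = 1
  swap
  · obtain ⟨H, hH⟩ := hall_exists X m n hmn hcop
    have hlt : Nat.card H < N := by
      rw [hH, ← hN, hmn]
      have : 2 ≤ n := by omega
      nlinarith
    have hdiv : ∀ a ∈ τ, a.Prime ∧ a ∣ Nat.card H := by
      intro a ha
      refine ⟨(hτ a ha).1, ?_⟩
      rw [hH]
      have h1 := (hτ a ha).2
      rw [hmn] at h1
      rcases (Nat.Prime.dvd_mul (hτ a ha).1).mp h1 with h | h
      · exact h
      · exact absurd (Finset.mem_coe.mpr ha) (hn a (hτ a ha).1 h)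
    obtain ⟨a, ha, b, hb, hab, g, hg⟩ := ih (Nat.card H) hlt H rfl inferInstance τ hτ3 hdiv
    exact ⟨a, ha, b, hb, hab, (g : X), by rw [Subgroup.orderOf_coe]; exact hg⟩
  have hall : ∀ ℓ : ℕ, ℓ.Prime → ℓ ∣ Nat.card X → ℓ ∈ τ := by
    intro ℓ hℓ hd
    rw [hmn, hn1, mul_one] at hd
    exact Finset.mem_coe.mp (hm ℓ hℓ hd)
  -- `X` is nontrivial
  obtain ⟨a1, ha1⟩ := Finset.card_pos.mp (by omega : 0 < τ.card)
  have hnt : Nontrivial X := by
    rw [← Finite.one_lt_card_iff_nontrivial]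
    have h1 := (hτ a1 ha1).1.two_le
    have h2 := Nat.le_of_dvd hXpos (hτ a1 ha1).2
    omega
  obtain ⟨p, V, hp, hVn, hVc, hVp, hV1, hVexp⟩ := exists_normal_abelian_pgroup (G := X)
  haveI := hVn
  haveI : Fact p.Prime := ⟨hp⟩
  have hpV : p ∣ Nat.card V := prime_dvd_card_of_ne_bot hVp hV1
  have hpτ : p ∈ τ := hall p hp (hpV.trans (Subgroup.card_subgroup_dvd_card V))
  have hcardXV : Nat.card V * V.index = Nat.card X := V.card_mul_index
  have hidx : Nat.card (X ⧸ V) = V.index := (Subgroup.index_eq_card V).symm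
  have hVgt : 1 < Nat.card V := by
    have := Nat.le_of_dvd Nat.card_pos hpV
    have := hp.two_le
    omega
  by_cases hq : ∀ a ∈ τ, a ∣ Nat.card (X ⧸ V)
  · have hlt : Nat.card (X ⧸ V) < N := by
      rw [hidx, ← hN, ← hcardXV]
      have : 0 < V.index := Nat.pos_of_ne_zero V.index_ne_zero_of_finite
      nlinarith
    obtain ⟨a, ha, b, hb, hab, g', hg'⟩ := ih _ hlt (X ⧸ V) rfl inferInstance τ hτ3
      (fun a ha => ⟨(hτ a ha).1, hq a ha⟩)
    obtain ⟨g, hg⟩ := exists_orderOf_of_surj (QuotientGroup.mk' V)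
      (QuotientGroup.mk'_surjective V) ⟨g', hg'⟩
    exact ⟨a, ha, b, hb, hab, g, hg⟩
  push Not at hq
  obtain ⟨a0, ha0, ha0d⟩ := hq
  have hdividx : ∀ b ∈ τ, b ≠ p → b ∣ V.index := by
    intro b hb hbp
    have h1 : b ∣ Nat.card V * V.index := by rw [hcardXV]; exact (hτ b hb).2
    rcases (Nat.Prime.dvd_mul (hτ b hb).1).mp h1 with h | h
    · exfalso
      obtain ⟨j, hj⟩ := IsPGroup.iff_card.mp hVp
      rw [hj] at h
      exact hbp ((Nat.prime_dvd_prime_iff_eq (hτ b hb).1 hp).mp ((hτ b hb).1.dvd_of_dvd_pow h))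
    · exact h
  have ha0p : a0 = p := by
    by_contra hne
    exact ha0d (hidx ▸ hdividx a0 ha0 hne)
  have hpidx : ¬ p ∣ V.index := by
    rw [← hidx, ← ha0p]; exact ha0d
  have hcopV : (Nat.card V).Coprime V.index := by
    obtain ⟨j, hj⟩ := IsPGroup.iff_card.mp hVp
    rw [hj]
    exact Nat.Coprime.pow_left _ ((Nat.Prime.coprime_iff_not_dvd hp).mpr hpidx)
  obtain ⟨B, hB⟩ := Subgroup.exists_right_complement'_of_coprime hcopV
  have hBcard : Nat.card B = V.index := by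
    have h1 := hB.card_mul_card
    apply Nat.eq_of_mul_eq_mul_left (Nat.card_pos : 0 < Nat.card V)
    rw [h1, hcardXV]
  -- a second and third prime
  obtain ⟨q0, hq0τ, hq0p⟩ : ∃ q0 ∈ τ, q0 ≠ p := by
    have h1 := Finset.card_erase_of_mem hpτ
    have : 0 < (τ.erase p).card := by omega
    obtain ⟨q0, hq0⟩ := Finset.card_pos.mp this
    rw [Finset.mem_erase] at hq0
    exact ⟨q0, hq0.2, hq0.1⟩
  have hBnt : Nontrivial B := by
    rw [← Finite.one_lt_card_iff_nontrivial, hBcard]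
    have h1 := (hτ q0 hq0τ).1.two_le
    have h2 := Nat.le_of_dvd (Nat.pos_of_ne_zero V.index_ne_zero_of_finite)
      (hdividx q0 hq0τ hq0p)
    omega
  obtain ⟨q, D, hq, hDn, hDc, hDq, hD1, hDexp⟩ := exists_normal_abelian_pgroup (G := B)
  haveI := hDn
  haveI : Fact q.Prime := ⟨hq⟩
  have hqB : q ∣ Nat.card B :=
    (prime_dvd_card_of_ne_bot hDq hD1).trans (Subgroup.card_subgroup_dvd_card D)
  have hqτ : q ∈ τ := hall q hq (hqB.trans (Subgroup.card_subgroup_dvd_card B))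
  have hqp : q ≠ p := by
    rintro rfl
    exact hpidx (hBcard ▸ hqB)
  obtain ⟨r, hrτ, hrp, hrq⟩ : ∃ r ∈ τ, r ≠ p ∧ r ≠ q := by
    have h1 := Finset.card_erase_of_mem hpτ
    have h2 : q ∈ τ.erase p := Finset.mem_erase.mpr ⟨hqp, hqτ⟩
    have h3 := Finset.card_erase_of_mem h2
    have : 0 < ((τ.erase p).erase q).card := by omega
    obtain ⟨r, hr⟩ := Finset.card_pos.mp this
    rw [Finset.mem_erase, Finset.mem_erase] at hr
    exact ⟨r, hr.2.2, hr.2.1, hr.1⟩
  have hr : r.Prime := (hτ r hrτ).1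
  haveI : Fact r.Prime := ⟨hr⟩
  have hrB : r ∣ Nat.card B := by rw [hBcard]; exact hdividx r hrτ hrp
  obtain ⟨y, hy⟩ := exists_prime_orderOf_dvd_card' r hrB
  -- the image of `D` in `X`
  set D' : Subgroup X := D.map B.subtype with hD'
  have hD'mem : ∀ d ∈ D', ∃ e : B, e ∈ D ∧ (e : X) = d := by
    intro d hd
    obtain ⟨e, he, hed⟩ := Subgroup.mem_map.mp hd
    exact ⟨e, he, hed⟩
  have hD'comm : ∀ a ∈ D', ∀ b ∈ D', a * b = b * a := by
    intro a ha b hb
    obtain ⟨e, he, rfl⟩ := hD'mem a ha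
    obtain ⟨f, hf, rfl⟩ := hD'mem b hb
    have h1 : (⟨e, he⟩ : D) * ⟨f, hf⟩ = ⟨f, hf⟩ * ⟨e, he⟩ := mul_comm' _ _
    have h2 : e * f = f * e := congrArg Subtype.val h1
    exact_mod_cast congrArg Subtype.val h2
  have hD'exp : ∀ d ∈ D', d ^ q = 1 := by
    intro d hd
    obtain ⟨e, he, rfl⟩ := hD'mem d hd
    have := hDexp e he
    exact_mod_cast congrArg Subtype.val this
  have hD'q : IsPGroup q D' := by
    intro d
    exact ⟨1, Subtype.ext (by simpa using hD'exp d d.2)⟩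
  have hD'1 : D' ≠ ⊥ := by
    intro h
    apply hD1
    rw [hD'] at h
    exact (Subgroup.map_eq_bot_iff_of_injective D B.subtype_injective).mp h
  have hBD' : B ≤ Subgroup.normalizer (D' : Set X) := le_normalizer_map_subtype B D
  have hy' : orderOf (y : X) = r := by rw [Subgroup.orderOf_coe]; exact hy
  have hVnorm : ∀ H : Subgroup X, H ≤ Subgroup.normalizer (V : Set X) := by
    intro H
    rw [Subgroup.normalizer_eq_top_iff.mpr hVn]
    exact le_top
  have hordV : ∀ v ∈ V, v ≠ 1 → orderOf v = p := fun v hv hv1 =>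
    orderOf_eq_prime (hVexp v hv) hv1
  have hordD : ∀ d ∈ D', d ≠ 1 → orderOf d = q := fun d hd hd1 =>
    orderOf_eq_prime (hD'exp d hd) hd1
  by_cases h5 : ∃ d ∈ D', d ≠ 1 ∧ ∃ v ∈ V, v ≠ 1 ∧ Commute d v
  · obtain ⟨d, hd, hd1, v, hv, hv1, hdv⟩ := h5
    exact ⟨q, hqτ, p, hpτ, hqp, d * v,
      orderOf_mul_primes hq hp hqp (hordD d hd hd1) (hordV v hv hv1) hdv⟩
  push Not at h5
  by_cases h6 : ∃ d ∈ D', d ≠ 1 ∧ Commute (y : X) d
  · obtain ⟨d, hd, hd1, hyd⟩ := h6
    exact ⟨r, hrτ, q, hqτ, hrq, (y : X) * d,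
      orderOf_mul_primes hr hq hrq hy' (hordD d hd hd1) hyd⟩
  push Not at h6
  obtain ⟨v, hv, hv1, hyv⟩ := frob_fix hp hq hr hqp.symm hrp.symm hrq.symm V D' (y : X)
    (by rw [← hy']; exact pow_orderOf_eq_one _) ⟨hVc, hVexp⟩ hV1 hD'comm hD'q hD'1
    (hVnorm D') (hVnorm ⊤ (Subgroup.mem_top _)) (hBD' y.2)
    (fun d hd hd1 v hv hdv => by
      by_contra hv1
      exact h5 d hd hd1 v hv hv1 hdv)
    (fun d hd hyd => by
      by_contra hd1
      exact h6 d hd hd1 hyd)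
  exact ⟨r, hrτ, p, hpτ, hrp, (y : X) * v,
    orderOf_mul_primes hr hp hrp hy' (hordV v hv hv1) hyv⟩

/-- **Lucido's lemma**: in a finite solvable group whose order is divisible by (at least) three
primes of `τ`, some element has order the product of two distinct primes of `τ` -/
theorem lucido (X : Type u) [Group X] [Finite X] (hsolv : Group.IsSolvable X) (τ : Finset ℕ)
    (hτ3 : 3 ≤ τ.card) (hτ : ∀ a ∈ τ, a.Prime ∧ a ∣ Nat.card X) :
    ∃ a ∈ τ, ∃ b ∈ τ, a ≠ b ∧ ∃ g : X, orderOf g = a * b :=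
  lucido_aux _ X rfl hsolv τ hτ3 hτ

end Cfsg.Agent.Lib.Helper5.SolvTri
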