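import Mathlib
import Cfsg.Agent.Lib.Helper5.SolvTriB
import Cfsg.Agent.Lib.Lead.CoprimeTools

set_option autoImplicit false
set_option linter.style.haveILetI false
set_option linter.unusedSectionVars false
set_option linter.unusedVariables false
set_option maxHeartbeats 800000

/-! The four primes criterion (row 3814): a minimal solvable counterexample and its first
properties. -/

namespace Cfsg.Agent.Lib.Helper5.SolvTri

open Cfsg.Agent.Lib.Lead
open scoped Pointwise

universe u

/-- a solvable group with all pair orders and no triple order on the four primes of `σ` -/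
structure Cex (σ : Finset ℕ) (G : Type u) [Group G] : Prop where
  solv : Group.IsSolvable G
  card4 : σ.card = 4
  prime : ∀ p ∈ σ, p.Prime
  pair : ∀ p ∈ σ, ∀ q ∈ σ, p ≠ q → ∃ g : G, orderOf g = p * q
  triple : ∀ p ∈ σ, ∀ q ∈ σ, ∀ r ∈ σ, p ≠ q → q ≠ r → p ≠ r → ∀ g : G, orderOf g ≠ p * q * r

/-- a counterexample of least order (within its universe) -/
def MinCex (σ : Finset ℕ) (G : Type u) [Group G] [Finite G] : Prop :=
  Cex σ G ∧ ∀ (H : Type u) [Group H] [Finite H], Nat.card H < Nat.card G → ¬ Cex σ H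

/-- every counterexample yields a minimal one -/
theorem exists_minCex (σ : Finset ℕ) : ∀ (n : ℕ) (G : Type u) [Group G] [Finite G],
    Nat.card G = n → Cex σ G →
    ∃ (H : Type u) (_ : Group H) (_ : Finite H), MinCex σ H := by
  intro n
  induction n using Nat.strong_induction_on with
  | _ n ih =>
  intro G _ _ hn hG
  by_cases hmin : ∀ (H : Type u) [Group H] [Finite H], Nat.card H < Nat.card G → ¬ Cex σ H
  · exact ⟨G, inferInstance, inferInstance, hG, hmin⟩
  · push Not at hmin
    obtain ⟨H, iH, fH, hlt, hH⟩ := hmin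
    exact ih (Nat.card H) (hn ▸ hlt) H rfl hH

section facts
variable {σ : Finset ℕ} {G : Type u} [Group G] [Finite G]

theorem MinCex.cex (h : MinCex σ G) : Cex σ G := h.1

/-- three pairwise commuting elements of three distinct prime orders in `σ` do not exist -/
theorem Cex.no_three (h : Cex σ G) {a b c : ℕ} (ha : a ∈ σ) (hb : b ∈ σ) (hc : c ∈ σ)
    (hab : a ≠ b) (hac : a ≠ c) (hbc : b ≠ c) {x y z : G} (hx : orderOf x = a)
    (hy : orderOf y = b) (hz : orderOf z = c) (hxy : Commute x y) (hxz : Commute x z)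
    (hyz : Commute y z) : False :=
  h.triple a ha b hb c hc hab hbc hac (x * y * z)
    (orderOf_mul_three (h.prime a ha) (h.prime b hb) (h.prime c hc) hab hac hbc hx hy hz
      hxy hxz hyz)

/-- for `t ∈ σ` there is another prime in `σ` -/
theorem Cex.exists_ne (h : Cex σ G) {t : ℕ} (ht : t ∈ σ) : ∃ u ∈ σ, u ≠ t := by
  have h1 := Finset.card_erase_of_mem ht
  have : 0 < (σ.erase t).card := by rw [h1, h.card4]; norm_num
  obtain ⟨u, hu⟩ := Finset.card_pos.mp this
  rw [Finset.mem_erase] at hu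
  exact ⟨u, hu.2, hu.1⟩

theorem Cex.dvd_card (h : Cex σ G) {t : ℕ} (ht : t ∈ σ) : t ∣ Nat.card G := by
  obtain ⟨u, hu, hut⟩ := h.exists_ne ht
  obtain ⟨g, hg⟩ := h.pair t ht u hu hut.symm
  exact (Dvd.intro _ hg.symm).trans (orderOf_dvd_natCard g)

/-- **F1**: a subgroup containing elements of all six pair orders is everything -/
theorem MinCex.eq_top_of_pairs (h : MinCex σ G) (H : Subgroup G)
    (hH : ∀ p ∈ σ, ∀ q ∈ σ, p ≠ q → ∃ g ∈ H, orderOf g = p * q) : H = ⊤ := by
  by_contra hne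
  have hlt : Nat.card H < Nat.card G := by
    have h1 : Nat.card H ≤ Nat.card G := Subgroup.card_le_card_group H
    have h2 : Nat.card H ≠ Nat.card G := fun he => hne (Subgroup.eq_top_of_card_eq H he)
    omega
  haveI := h.1.solv
  refine h.2 H hlt ⟨inferInstance, h.1.card4, h.1.prime, ?_, ?_⟩
  · intro p hp q hq hpq
    obtain ⟨g, hg, hgo⟩ := hH p hp q hq hpq
    exact ⟨⟨g, hg⟩, by rw [Subgroup.orderOf_mk]; exact hgo⟩
  · intro p hp q hq r hr hpq hqr hpr g
    rw [← Subgroup.orderOf_coe]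
    exact h.1.triple p hp q hq r hr hpq hqr hpr (g : G)

/-- **R2**: a proper quotient misses a pair order -/
theorem MinCex.quot_missing (h : MinCex σ G) (N : Subgroup G) [N.Normal] (hN : N ≠ ⊥) :
    ∃ p ∈ σ, ∃ q ∈ σ, p ≠ q ∧ ∀ g : G ⧸ N, orderOf g ≠ p * q := by
  by_contra hno
  push Not at hno
  have hlt : Nat.card (G ⧸ N) < Nat.card G := by
    rw [← Subgroup.index_eq_card, ← N.card_mul_index]
    have h1 : 1 < Nat.card N := by
      rw [Subgroup.one_lt_card_iff_ne_bot]; exact hN
    have h2 : 0 < N.index := Nat.pos_of_ne_zero N.index_ne_zero_of_finite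
    nlinarith
  haveI := h.1.solv
  refine h.2 (G ⧸ N) hlt ⟨inferInstance, h.1.card4, h.1.prime, hno, ?_⟩
  intro p hp q hq r hr hpq hqr hpr g' hg'
  obtain ⟨g, hg⟩ := exists_orderOf_of_surj (QuotientGroup.mk' N)
    (QuotientGroup.mk'_surjective N) ⟨g', hg'⟩
  exact h.1.triple p hp q hq r hr hpq hqr hpr g hg

/-- **R5**: the group is a `σ`-group -/
theorem MinCex.mem_of_dvd_card (h : MinCex σ G) {ℓ : ℕ} (hℓ : ℓ.Prime) (hd : ℓ ∣ Nat.card G) :
    ℓ ∈ σ := by
  haveI := h.1.solv
  obtain ⟨m, n, hmn, hcop, hm, hn⟩ :=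
    Cfsg.Agent.Lib.Helper7.exists_pi_split (↑σ : Set ℕ) (Nat.card G) Nat.card_pos.ne'
  obtain ⟨H, hH⟩ := hall_exists G m n hmn hcop
  have htop : H = ⊤ := by
    apply h.eq_top_of_pairs
    intro p hp q hq hpq
    obtain ⟨g, hg⟩ := h.1.pair p hp q hq hpq
    have hU : (Nat.card (Subgroup.zpowers g)).Coprime n := by
      rw [Nat.card_zpowers, hg]
      apply Nat.coprime_of_dvd
      intro k hk hkpq hkn
      apply hn k hk hkn
      rcases (Nat.Prime.dvd_mul hk).mp hkpq with h1 | h1
      · rw [(Nat.prime_dvd_prime_iff_eq hk (h.1.prime p hp)).mp h1]; exact Finset.mem_coe.mpr hp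
      · rw [(Nat.prime_dvd_prime_iff_eq hk (h.1.prime q hq)).mp h1]; exact Finset.mem_coe.mpr hq
    obtain ⟨k, hk⟩ := hall_conj_into G m n hmn hcop H hH (Subgroup.zpowers g) hU
    exact ⟨k * g * k⁻¹, hk g (Subgroup.mem_zpowers g), by rw [orderOf_conj', hg]⟩
  have hcm : Nat.card G = m := by
    rw [← hH, htop]; exact (Subgroup.card_top).symm
  rw [hcm] at hd
  exact Finset.mem_coe.mp (hm ℓ hℓ hd)

end facts

end Cfsg.Agent.Lib.Helper5.SolvTri
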