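import Mathlib
import Cfsg.Agent.Lib.Helper5.SolvTriC

set_option autoImplicit false
set_option linter.style.haveILetI false
set_option linter.unusedSectionVars false
set_option linter.unusedVariables false
set_option maxHeartbeats 800000

/-! The four primes criterion (row 3814): rank two subgroups for every prime of `σ` (F3) and
the quotient fact (Fact A). -/

namespace Cfsg.Agent.Lib.Helper5.SolvTri

open Cfsg.Agent.Lib.Lead
open scoped Pointwise

universe u

section facts
variable {σ : Finset ℕ} {G : Type u} [Group G] [Finite G]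

/-- conjugating a `t`-element into a fixed Sylow `t`-subgroup -/
theorem exists_conj_mem_sylow {t : ℕ} [Fact t.Prime] (P : Sylow t G) {x : G}
    (hx : orderOf x = t) : ∃ k : G, k * x * k⁻¹ ∈ (P : Subgroup G) := by
  have hpg : IsPGroup t (Subgroup.zpowers x) :=
    IsPGroup.of_card (n := 1) (by rw [Nat.card_zpowers, hx, pow_one])
  obtain ⟨Q, hQ⟩ := hpg.exists_le_sylow
  obtain ⟨k, hk⟩ := MulAction.exists_smul_eq G Q P
  refine ⟨k, ?_⟩
  have h1 : x ∈ (Q : Subgroup G) := hQ (Subgroup.mem_zpowers x)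
  have h2 : (MulAut.conj k) • (Q : Subgroup G) = (P : Subgroup G) := by
    rw [← hk]; rfl
  rw [← h2]
  have := Subgroup.smul_mem_pointwise_smul x (MulAut.conj k) (Q : Subgroup G) h1
  simpa [MulAut.smul_def, MulAut.conj_apply] using this

/-- **F3**: for every `t ∈ σ` there are two commuting elements of order `t` generating a
noncyclic group -/
theorem MinCex.exists_rank2 (h : MinCex σ G) {t : ℕ} (ht : t ∈ σ) :
    ∃ x y : G, orderOf x = t ∧ orderOf y = t ∧ Commute x y ∧ y ∉ Subgroup.zpowers x := by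
  by_contra hno
  push Not at hno
  have htp : t.Prime := h.1.prime t ht
  haveI : Fact t.Prime := ⟨htp⟩
  haveI := h.1.solv
  obtain ⟨P⟩ : Nonempty (Sylow t G) := inferInstance
  have hP1 : (P : Subgroup G) ≠ ⊥ := P.ne_bot_of_dvd_card (h.1.dvd_card ht)
  haveI : Nontrivial (P : Subgroup G) := (Subgroup.nontrivial_iff_ne_bot _).mpr hP1
  haveI : Nontrivial (Subgroup.center (P : Subgroup G)) := P.2.center_nontrivial
  have hZp : IsPGroup t (Subgroup.center (P : Subgroup G)) := P.2.to_subgroup _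
  have hZd : t ∣ Nat.card (Subgroup.center (P : Subgroup G)) := by
    obtain ⟨j, hj⟩ := IsPGroup.iff_card.mp hZp
    have hj0 : j ≠ 0 := by
      rintro rfl
      rw [pow_zero] at hj
      have := (Finite.one_lt_card_iff_nontrivial).mpr
        (inferInstance : Nontrivial (Subgroup.center (P : Subgroup G)))
      omega
    rw [hj]; exact dvd_pow_self t hj0
  obtain ⟨z0, hz0⟩ := exists_prime_orderOf_dvd_card' t hZd
  set z : G := ((z0 : (P : Subgroup G)) : G) with hz
  have hzo : orderOf z = t := by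
    rw [hz, Subgroup.orderOf_coe, Subgroup.orderOf_coe]; exact hz0
  have hzP : z ∈ (P : Subgroup G) := (z0 : (P : Subgroup G)).2
  have hzc : ∀ w ∈ (P : Subgroup G), Commute z w := by
    intro w hw
    have h1 := Subgroup.mem_center_iff.mp z0.2 ⟨w, hw⟩
    have h2 : w * z = z * w := congrArg Subtype.val h1
    exact h2.symm
  -- every other prime divides the order of the centralizer of `z`
  have hdiv : ∀ u ∈ σ, u ≠ t → u ∣ Nat.card (Subgroup.centralizer ({z} : Set G)) := by
    intro u hu hut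
    obtain ⟨g, hg⟩ := h.1.pair t ht u hu hut.symm
    obtain ⟨x0, y0, hx0, hy0, hc0, -, -⟩ :=
      split_orderOf htp.pos (h.1.prime u hu).pos hg
    obtain ⟨k, hk⟩ := exists_conj_mem_sylow P hx0
    have hx1 : orderOf (k * x0 * k⁻¹) = t := by rw [orderOf_conj', hx0]
    have hy1 : orderOf (k * y0 * k⁻¹) = u := by rw [orderOf_conj', hy0]
    have hzx : z ∈ Subgroup.zpowers (k * x0 * k⁻¹) :=
      hno _ _ hx1 hzo (hzc _ hk).symm
    have hc1 : Commute (k * y0 * k⁻¹) (k * x0 * k⁻¹) := by
      show k * y0 * k⁻¹ * (k * x0 * k⁻¹) = k * x0 * k⁻¹ * (k * y0 * k⁻¹)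
      have : y0 * x0 = x0 * y0 := hc0.symm
      calc k * y0 * k⁻¹ * (k * x0 * k⁻¹) = k * (y0 * x0) * k⁻¹ := by group
        _ = k * (x0 * y0) * k⁻¹ := by rw [this]
        _ = k * x0 * k⁻¹ * (k * y0 * k⁻¹) := by group
    have hc2 : Commute (k * y0 * k⁻¹) z := by
      obtain ⟨i, hi⟩ := Subgroup.mem_zpowers_iff.mp hzx
      rw [← hi]
      exact hc1.zpow_right i
    have hmem : k * y0 * k⁻¹ ∈ Subgroup.centralizer ({z} : Set G) := by
      rw [Subgroup.mem_centralizer_iff]
      intro w hw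
      rw [Set.mem_singleton_iff] at hw
      subst hw
      exact hc2.symm
    have := orderOf_dvd_natCard (⟨k * y0 * k⁻¹, hmem⟩ : Subgroup.centralizer ({z} : Set G))
    rwa [Subgroup.orderOf_mk, hy1] at this
  have hcard3 : 3 ≤ (σ.erase t).card := by
    rw [Finset.card_erase_of_mem ht, h.1.card4]
  obtain ⟨a, ha, b, hb, hab, g, hg⟩ := lucido (Subgroup.centralizer ({z} : Set G))
    inferInstance (σ.erase t) hcard3 (fun a ha => by
      rw [Finset.mem_erase] at ha
      exact ⟨h.1.prime a ha.2, hdiv a ha.2 ha.1⟩)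
  rw [Finset.mem_erase] at ha hb
  have hgo : orderOf (g : G) = a * b := by rw [Subgroup.orderOf_coe]; exact hg
  have hcz : Commute z (g : G) :=
    (Subgroup.mem_centralizer_iff.mp g.2 z (Set.mem_singleton z))
  have hcop : Nat.Coprime (orderOf z) (orderOf (g : G)) := by
    rw [hzo, hgo]
    exact Nat.Coprime.mul_right ((Nat.coprime_primes htp (h.1.prime a ha.2)).mpr ha.1.symm)
      ((Nat.coprime_primes htp (h.1.prime b hb.2)).mpr hb.1.symm)
  have hord : orderOf (z * (g : G)) = t * a * b := by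
    rw [hcz.orderOf_mul_eq_mul_orderOf_of_coprime hcop, hzo, hgo, mul_assoc]
  exact h.1.triple t ht a ha.2 b hb.2 ha.1.symm hab hb.1.symm _ hord

/-- the order of the image of `g` modulo a normal `t`-subgroup, for `g` of order prime to `t` -/
theorem orderOf_mk_eq {t : ℕ} [Fact t.Prime] (N : Subgroup G) [N.Normal] (hN : IsPGroup t N)
    (g : G) (hcop : (orderOf g).Coprime t) :
    orderOf (QuotientGroup.mk' N g) = orderOf g := by
  apply Nat.dvd_antisymm (orderOf_map_dvd _ g)
  set m := orderOf (QuotientGroup.mk' N g) with hm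
  have h1 : (QuotientGroup.mk' N g) ^ m = 1 := pow_orderOf_eq_one _
  have h2 : g ^ m ∈ N := by
    rw [← QuotientGroup.eq_one_iff]
    have : ((g ^ m : G) : G ⧸ N) = (QuotientGroup.mk' N g) ^ m := by simp
    rw [this, h1]
  obtain ⟨k, hk⟩ := hN ⟨g ^ m, h2⟩
  have h3 : (g ^ m) ^ (t ^ k) = 1 := by
    have := congrArg Subtype.val hk
    simpa using this
  rw [← pow_mul] at h3
  have h4 : orderOf g ∣ m * t ^ k := orderOf_dvd_of_pow_eq_one h3
  exact (Nat.Coprime.pow_right k hcop).dvd_of_dvd_mul_right h4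

/-- **Fact A**: for a nontrivial normal `t`-subgroup `N` (`t ∈ σ`) there is another prime
`u ∈ σ` such that every `t`-element commuting with an element of order `u` lies in `N` -/
theorem MinCex.factA (h : MinCex σ G) {t : ℕ} (ht : t ∈ σ) (N : Subgroup G) [N.Normal]
    (hNt : IsPGroup t N) (hN1 : N ≠ ⊥) :
    ∃ u ∈ σ, u ≠ t ∧ ∀ x e : G, (∃ k : ℕ, orderOf x = t ^ k) → orderOf e = u → Commute x e →
      x ∈ N := by
  have htp : t.Prime := h.1.prime t ht
  haveI : Fact t.Prime := ⟨htp⟩
  obtain ⟨p, hp, q, hq, hpq, hmiss⟩ := h.quot_missing N hN1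
  -- the missing pair involves `t`
  have key : ∃ u ∈ σ, u ≠ t ∧ ∀ g : G ⧸ N, orderOf g ≠ t * u := by
    by_cases hpt : p = t
    · subst hpt
      exact ⟨q, hq, hpq.symm, hmiss⟩
    by_cases hqt : q = t
    · subst hqt
      exact ⟨p, hp, hpq, fun g hg => hmiss g (by rw [hg, mul_comm])⟩
    exfalso
    obtain ⟨g, hg⟩ := h.1.pair p hp q hq hpq
    have hcop : (orderOf g).Coprime t := by
      rw [hg]
      exact Nat.Coprime.mul_left ((Nat.coprime_primes (h.1.prime p hp) htp).mpr hpt)
        ((Nat.coprime_primes (h.1.prime q hq) htp).mpr hqt)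
    exact hmiss (QuotientGroup.mk' N g) (by rw [orderOf_mk_eq N hNt g hcop, hg])
  obtain ⟨u, hu, hut, hmiss'⟩ := key
  have hup : u.Prime := h.1.prime u hu
  refine ⟨u, hu, hut, ?_⟩
  intro x e ⟨k, hxk⟩ heu hxe
  by_contra hxN
  set xb : G ⧸ N := QuotientGroup.mk' N x with hxb
  have hxb1 : xb ≠ 1 := by
    intro h1
    apply hxN
    rw [← QuotientGroup.eq_one_iff]
    exact h1
  have hxbd : orderOf xb ∣ t ^ k := by rw [← hxk]; exact orderOf_map_dvd _ x
  obtain ⟨j, hjk, hj⟩ := (Nat.dvd_prime_pow htp).mp hxbd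
  have hj0 : j ≠ 0 := by
    rintro rfl
    rw [pow_zero] at hj
    exact hxb1 (orderOf_eq_one_iff.mp hj)
  have htd : t ∣ orderOf xb := by rw [hj]; exact dvd_pow_self t hj0
  set xb' : G ⧸ N := xb ^ (orderOf xb / t) with hxb'
  have hxo : orderOf xb' = t :=
    orderOf_pow_orderOf_div (by rw [hj]; exact (pow_pos htp.pos j).ne') htd
  have heo : orderOf (QuotientGroup.mk' N e) = u := by
    rw [orderOf_mk_eq N hNt e (by rw [heu]; exact (Nat.coprime_primes hup htp).mpr hut), heu]
  have hcb : Commute xb (QuotientGroup.mk' N e) := by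
    show xb * _ = _ * xb
    rw [hxb, ← map_mul, ← map_mul, hxe.eq]
  have hcb' : Commute xb' (QuotientGroup.mk' N e) := hcb.pow_left _
  exact hmiss' _ (orderOf_mul_primes htp hup hut.symm hxo heo hcb')

end facts

end Cfsg.Agent.Lib.Helper5.SolvTri
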