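import Mathlib
import Cfsg.Agent.Lib.Helper5.SolvTriD

set_option autoImplicit false
set_option linter.style.haveILetI false
set_option linter.unusedSectionVars false
set_option linter.unusedVariables false
set_option maxHeartbeats 800000

/-! The four primes criterion (row 3814): nontrivial normal `t`-subgroups of a minimal
counterexample are minimal normal, elementary abelian and Sylow (F4); there are one or two such
primes (F5). -/

namespace Cfsg.Agent.Lib.Helper5.SolvTri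

open Cfsg.Agent.Lib.Lead
open scoped Pointwise

universe u

section facts
variable {σ : Finset ℕ} {G : Type u} [Group G] [Finite G]

theorem le_normalizer_of_normal' (H N : Subgroup G) [hN : N.Normal] :
    H ≤ Subgroup.normalizer (N : Set G) := by
  rw [Subgroup.normalizer_eq_top_iff.mpr hN]
  exact le_top

/-- **F4a**: a nontrivial normal subgroup of a normal `t`-subgroup is everything -/
theorem MinCex.normal_t_le (h : MinCex σ G) {t : ℕ} (ht : t ∈ σ) (N M : Subgroup G) [N.Normal]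
    [M.Normal] (hNt : IsPGroup t N) (hM1 : M ≠ ⊥) (hMN : M ≤ N) : N ≤ M := by
  have htp : t.Prime := h.1.prime t ht
  haveI : Fact t.Prime := ⟨htp⟩
  have hMt : IsPGroup t M := hNt.to_le hMN
  obtain ⟨u, hu, hut, hA⟩ := h.factA ht M hMt hM1
  obtain ⟨x, y, hx, hy, hc, hyx⟩ := h.exists_rank2 hu
  have hup : u.Prime := h.1.prime u hu
  haveI : Fact u.Prime := ⟨hup⟩
  have hxu : x ^ u = 1 := by rw [← hx]; exact pow_orderOf_eq_one x
  have hyu : y ^ u = 1 := by rw [← hy]; exact pow_orderOf_eq_one y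
  haveI := E2_comm hxu hyu hc
  have hncyc := E2_not_cyclic hup hx hy hc hyx
  have hEN : E2 x y ≤ Subgroup.normalizer (N : Set G) := le_normalizer_of_normal' _ N
  have hcop : (Nat.card (E2 x y)).Coprime (Nat.card N) :=
    IsPGroup.coprime_card_of_ne u t hut _ _ (E2_isPGroup hxu hyu hc) hNt
  rw [← generated_by_centralizers (E2 x y) N hncyc hEN hcop]
  refine iSup₂_le fun e he => ?_
  intro v hv
  obtain ⟨hvN, hvC⟩ := Subgroup.mem_inf.mp hv
  have hev : Commute e v := Subgroup.mem_centralizer_iff.mp hvC e (Set.mem_singleton e)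
  obtain ⟨k, hk⟩ := (IsPGroup.iff_orderOf.mp hNt) ⟨v, hvN⟩
  rw [Subgroup.orderOf_mk] at hk
  exact hA v e ⟨k, hk⟩ (E2_orderOf hup hxu hyu hc he.1 he.2) hev.symm

/-- **F4b**: a nontrivial normal `t`-subgroup is a minimal normal subgroup -/
theorem MinCex.normal_t_min (h : MinCex σ G) {t : ℕ} (ht : t ∈ σ) (N : Subgroup G) [N.Normal]
    (hNt : IsPGroup t N) :
    ∀ M : Subgroup G, M.Normal → M ≤ N → M = ⊥ ∨ M = N := by
  intro M hMn hMN
  by_cases hM1 : M = ⊥
  · exact Or.inl hM1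
  · exact Or.inr (le_antisymm hMN (h.normal_t_le ht N M hNt hM1 hMN))

/-- **F4b**: a nontrivial normal `t`-subgroup is elementary abelian -/
theorem MinCex.normal_t_elemAb (h : MinCex σ G) {t : ℕ} (ht : t ∈ σ) (N : Subgroup G)
    [N.Normal] (hNt : IsPGroup t N) (hN1 : N ≠ ⊥) : Cfsg.IsElementaryAbelian t N := by
  have htp : t.Prime := h.1.prime t ht
  haveI : Fact t.Prime := ⟨htp⟩
  haveI := h.1.solv
  have hmin := h.normal_t_min ht N hNt
  have hc := Cfsg.Agent.Lib.Helper2.isMulCommutative_of_minNormal_of_solvable N hN1 hmin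
  obtain ⟨p, hp, hexp, d, hd, hcard⟩ :=
    Cfsg.Agent.Lib.Helper2.exists_prime_pow_of_minNormal_abelian N hN1 hmin hc
  obtain ⟨j, hj⟩ := IsPGroup.iff_card.mp hNt
  have hpt : p = t := by
    have h1 : p ∣ t ^ j := by
      rw [← hj, hcard]; exact dvd_pow_self p hd.ne'
    exact (Nat.prime_dvd_prime_iff_eq hp htp).mp (hp.dvd_of_dvd_pow h1)
  subst hpt
  exact ⟨hc, hexp⟩

theorem MinCex.orderOf_of_mem_normal_t (h : MinCex σ G) {t : ℕ} (ht : t ∈ σ) (N : Subgroup G)
    [N.Normal] (hNt : IsPGroup t N) (hN1 : N ≠ ⊥) {v : G} (hv : v ∈ N) (hv1 : v ≠ 1) :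
    orderOf v = t := by
  haveI : Fact t.Prime := ⟨h.1.prime t ht⟩
  exact orderOf_eq_prime ((h.normal_t_elemAb ht N hNt hN1).2 v hv) hv1

/-- **F4c**: a nontrivial normal `t`-subgroup is a Sylow subgroup -/
theorem MinCex.normal_t_sylow (h : MinCex σ G) {t : ℕ} (ht : t ∈ σ) (N : Subgroup G)
    [hNn : N.Normal] (hNt : IsPGroup t N) (hN1 : N ≠ ⊥) : ¬ t ∣ N.index := by
  have htp : t.Prime := h.1.prime t ht
  haveI : Fact t.Prime := ⟨htp⟩
  haveI := h.1.solv
  obtain ⟨k, n', hn', hcard⟩ :=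
    Nat.exists_eq_pow_mul_and_not_dvd (Nat.card_pos (α := G)).ne' t htp.ne_one
  have hcard' : Nat.card G = n' * t ^ k := by rw [hcard, mul_comm]
  have hcop : n'.Coprime (t ^ k) :=
    Nat.Coprime.pow_right k ((Nat.Prime.coprime_iff_not_dvd htp).mpr hn').symm
  obtain ⟨H, hH⟩ := hall_exists G n' (t ^ k) hcard' hcop
  obtain ⟨j, hj⟩ := IsPGroup.iff_card.mp hNt
  have htop : H ⊔ N = ⊤ := by
    apply h.eq_top_of_pairs
    have key : ∀ u ∈ σ, u ≠ t → ∃ w ∈ H ⊔ N, orderOf w = t * u := by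
      intro u hu hut
      obtain ⟨x, y, hx, hy, hc, hyx⟩ := h.exists_rank2 hu
      have hup : u.Prime := h.1.prime u hu
      haveI : Fact u.Prime := ⟨hup⟩
      have hxu : x ^ u = 1 := by rw [← hx]; exact pow_orderOf_eq_one x
      have hyu : y ^ u = 1 := by rw [← hy]; exact pow_orderOf_eq_one y
      haveI := E2_comm hxu hyu hc
      have hncyc := E2_not_cyclic hup hx hy hc hyx
      have hEN : E2 x y ≤ Subgroup.normalizer (N : Set G) := le_normalizer_of_normal' _ N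
      have hcopEN : (Nat.card (E2 x y)).Coprime (Nat.card N) :=
        IsPGroup.coprime_card_of_ne u t hut _ _ (E2_isPGroup hxu hyu hc) hNt
      have hcopE : (Nat.card (E2 x y)).Coprime (t ^ k) := by
        obtain ⟨i, hi⟩ := IsPGroup.iff_card.mp (E2_isPGroup hxu hyu hc)
        rw [hi]
        exact Nat.coprime_pow_primes _ _ hup htp hut
      obtain ⟨g, hg⟩ := hall_conj_into G n' (t ^ k) hcard' hcop H hH (E2 x y) hcopE
      obtain ⟨e, he, he1, v, hv, hv1, hev⟩ := exists_fix (E2 x y) N hncyc hEN hcopEN hN1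
      refine ⟨g * (v * e) * g⁻¹, ?_, ?_⟩
      · have : g * (v * e) * g⁻¹ = (g * v * g⁻¹) * (g * e * g⁻¹) := by group
        rw [this]
        exact Subgroup.mul_mem _ (Subgroup.mem_sup_right (hNn.conj_mem v hv g))
          (Subgroup.mem_sup_left (hg e he))
      · rw [orderOf_conj']
        exact orderOf_mul_primes htp hup hut.symm (h.orderOf_of_mem_normal_t ht N hNt hN1 hv hv1)
          (E2_orderOf hup hxu hyu hc he he1) hev.symm
    intro p hp q hq hpq
    by_cases hpt : p = t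
    · subst hpt
      exact key q hq hpq.symm
    by_cases hqt : q = t
    · subst hqt
      obtain ⟨w, hw, hwo⟩ := key p hp hpq
      exact ⟨w, hw, by rw [hwo, mul_comm]⟩
    · obtain ⟨g0, hg0⟩ := h.1.pair p hp q hq hpq
      have hU : (Nat.card (Subgroup.zpowers g0)).Coprime (t ^ k) := by
        rw [Nat.card_zpowers, hg0]
        exact Nat.Coprime.pow_right k
          (Nat.Coprime.mul_left ((Nat.coprime_primes (h.1.prime p hp) htp).mpr hpt)
            ((Nat.coprime_primes (h.1.prime q hq) htp).mpr hqt))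
      obtain ⟨g, hg⟩ := hall_conj_into G n' (t ^ k) hcard' hcop H hH (Subgroup.zpowers g0) hU
      exact ⟨g * g0 * g⁻¹, Subgroup.mem_sup_left (hg g0 (Subgroup.mem_zpowers g0)),
        by rw [orderOf_conj', hg0]⟩
  have hHN : H ≤ Subgroup.normalizer (N : Set G) := le_normalizer_of_normal' _ N
  have h1 := card_sup_mul_card_inf H N hHN
  have hinf : H ⊓ N = ⊥ := by
    apply Subgroup.inf_eq_bot_of_coprime
    rw [hH, hj]
    exact Nat.Coprime.pow_right j ((Nat.Prime.coprime_iff_not_dvd htp).mpr hn').symm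
  rw [htop, hinf, Subgroup.card_top, Subgroup.card_bot, mul_one, hH] at h1
  have h2 := N.card_mul_index
  have h3 : N.index = n' := by
    apply Nat.eq_of_mul_eq_mul_right (Nat.card_pos : 0 < Nat.card N)
    rw [mul_comm, h2, h1]
  rw [h3]
  exact hn'

/-- a normal `t`-subgroup contains every `t`-element -/
theorem MinCex.mem_normal_t (h : MinCex σ G) {t : ℕ} (ht : t ∈ σ) (N : Subgroup G)
    [N.Normal] (hNt : IsPGroup t N) (hN1 : N ≠ ⊥) {x : G} {k : ℕ} (hx : orderOf x = t ^ k) :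
    x ∈ N := by
  have htp : t.Prime := h.1.prime t ht
  have hidx := h.normal_t_sylow ht N hNt hN1
  rw [← QuotientGroup.eq_one_iff]
  have h1 : orderOf (QuotientGroup.mk' N x) ∣ t ^ k := hx ▸ orderOf_map_dvd (QuotientGroup.mk' N) x
  have h2 : orderOf (QuotientGroup.mk' N x) ∣ N.index := by
    rw [Subgroup.index_eq_card]; exact orderOf_dvd_natCard _
  have hcop : (t ^ k).Coprime N.index :=
    Nat.Coprime.pow_left k ((Nat.Prime.coprime_iff_not_dvd htp).mpr hidx)
  have h3 : orderOf (QuotientGroup.mk' N x) = 1 :=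
    Nat.Coprime.eq_one_of_dvd (Nat.Coprime.coprime_dvd_left h1 hcop) h2
  exact orderOf_eq_one_iff.mp h3

/-- the property of having a nontrivial normal `t`-subgroup -/
def HasNormal (G : Type u) [Group G] (t : ℕ) : Prop :=
  ∃ N : Subgroup G, N.Normal ∧ IsPGroup t N ∧ N ≠ ⊥

/-- two nontrivial normal `t`-subgroups coincide -/
theorem MinCex.normal_t_unique (h : MinCex σ G) {t : ℕ} (ht : t ∈ σ) (N M : Subgroup G)
    [N.Normal] [M.Normal] (hNt : IsPGroup t N) (hN1 : N ≠ ⊥) (hMt : IsPGroup t M)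
    (hM1 : M ≠ ⊥) : N = M := by
  haveI : Fact t.Prime := ⟨h.1.prime t ht⟩
  apply le_antisymm
  · intro x hx
    obtain ⟨k, hk⟩ := (IsPGroup.iff_orderOf.mp hNt) ⟨x, hx⟩
    rw [Subgroup.orderOf_mk] at hk
    exact h.mem_normal_t ht M hMt hM1 hk
  · intro x hx
    obtain ⟨k, hk⟩ := (IsPGroup.iff_orderOf.mp hMt) ⟨x, hx⟩
    rw [Subgroup.orderOf_mk] at hk
    exact h.mem_normal_t ht N hNt hN1 hk

/-- normal subgroups for different primes commute elementwise -/
theorem commute_of_normal_pgroups {t1 t2 : ℕ} [Fact t1.Prime] [Fact t2.Prime] (h12 : t1 ≠ t2)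
    (N1 N2 : Subgroup G) [h1 : N1.Normal] [h2 : N2.Normal] (hN1 : IsPGroup t1 N1)
    (hN2 : IsPGroup t2 N2) {x y : G} (hx : x ∈ N1) (hy : y ∈ N2) : Commute x y :=
  Subgroup.commute_of_normal_of_disjoint N1 N2 h1 h2
    (disjoint_iff.mpr (Subgroup.inf_eq_bot_of_coprime
      (IsPGroup.coprime_card_of_ne t1 t2 h12 N1 N2 hN1 hN2))) x y hx hy

/-- **F5**: at most two primes have a nontrivial normal subgroup -/
theorem MinCex.not_three_normal (h : MinCex σ G) {t1 t2 t3 : ℕ} (h1 : t1 ∈ σ) (h2 : t2 ∈ σ)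
    (h3 : t3 ∈ σ) (h12 : t1 ≠ t2) (h13 : t1 ≠ t3) (h23 : t2 ≠ t3) (H1 : HasNormal G t1)
    (H2 : HasNormal G t2) (H3 : HasNormal G t3) : False := by
  obtain ⟨N1, hn1, hp1, hb1⟩ := H1
  obtain ⟨N2, hn2, hp2, hb2⟩ := H2
  obtain ⟨N3, hn3, hp3, hb3⟩ := H3
  haveI : Fact t1.Prime := ⟨h.1.prime t1 h1⟩
  haveI : Fact t2.Prime := ⟨h.1.prime t2 h2⟩
  haveI : Fact t3.Prime := ⟨h.1.prime t3 h3⟩
  obtain ⟨a1, ha1⟩ := (Subgroup.ne_bot_iff_exists_ne_one).1 hb1
  obtain ⟨a2, ha2⟩ := (Subgroup.ne_bot_iff_exists_ne_one).1 hb2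
  obtain ⟨a3, ha3⟩ := (Subgroup.ne_bot_iff_exists_ne_one).1 hb3
  have ha1' : (a1 : G) ≠ 1 := fun h => ha1 (Subtype.ext h)
  have ha2' : (a2 : G) ≠ 1 := fun h => ha2 (Subtype.ext h)
  have ha3' : (a3 : G) ≠ 1 := fun h => ha3 (Subtype.ext h)
  exact h.1.no_three h1 h2 h3 h12 h13 h23
    (h.orderOf_of_mem_normal_t h1 N1 hp1 hb1 a1.2 ha1')
    (h.orderOf_of_mem_normal_t h2 N2 hp2 hb2 a2.2 ha2')
    (h.orderOf_of_mem_normal_t h3 N3 hp3 hb3 a3.2 ha3')
    (commute_of_normal_pgroups h12 N1 N2 hp1 hp2 a1.2 a2.2)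
    (commute_of_normal_pgroups h13 N1 N3 hp1 hp3 a1.2 a3.2)
    (commute_of_normal_pgroups h23 N2 N3 hp2 hp3 a2.2 a3.2)

/-- some prime of `σ` has a nontrivial normal subgroup -/
theorem MinCex.exists_hasNormal (h : MinCex σ G) : ∃ t ∈ σ, HasNormal G t := by
  haveI := h.1.solv
  obtain ⟨a1, ha1⟩ := Finset.card_pos.mp (by rw [h.1.card4]; norm_num : 0 < σ.card)
  have hnt : Nontrivial G := by
    rw [← Finite.one_lt_card_iff_nontrivial]
    have h1 := (h.1.prime a1 ha1).two_le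
    have h2 := Nat.le_of_dvd Nat.card_pos (h.1.dvd_card ha1)
    omega
  obtain ⟨p, M, hp, hMn, hMc, hMp, hM1, hMexp⟩ := exists_normal_abelian_pgroup (G := G)
  haveI : Fact p.Prime := ⟨hp⟩
  exact ⟨p, h.mem_of_dvd_card hp
    ((prime_dvd_card_of_ne_bot hMp hM1).trans (Subgroup.card_subgroup_dvd_card M)),
    M, hMn, hMp, hM1⟩

/-- a prime with a nontrivial normal subgroup lies in `σ` -/
theorem MinCex.mem_of_hasNormal (h : MinCex σ G) {s : ℕ} (hs : s.Prime) (H : HasNormal G s) :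
    s ∈ σ := by
  obtain ⟨N, hn, hp, hb⟩ := H
  haveI : Fact s.Prime := ⟨hs⟩
  exact h.mem_of_dvd_card hs
    ((prime_dvd_card_of_ne_bot hp hb).trans (Subgroup.card_subgroup_dvd_card N))

/-- **F5**: the case distinction: one or two primes with a nontrivial normal subgroup -/
theorem MinCex.cases (h : MinCex σ G) :
    (∃ t ∈ σ, HasNormal G t ∧ ∀ s : ℕ, s.Prime → HasNormal G s → s = t) ∨
    (∃ t1 ∈ σ, ∃ t2 ∈ σ, t1 ≠ t2 ∧ HasNormal G t1 ∧ HasNormal G t2 ∧
      ∀ s : ℕ, s.Prime → HasNormal G s → s = t1 ∨ s = t2) := by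
  obtain ⟨t, ht, Ht⟩ := h.exists_hasNormal
  by_cases h1 : ∀ s : ℕ, s.Prime → HasNormal G s → s = t
  · exact Or.inl ⟨t, ht, Ht, h1⟩
  · push Not at h1
    obtain ⟨t2, ht2p, Ht2, ht2t⟩ := h1
    have ht2 := h.mem_of_hasNormal ht2p Ht2
    refine Or.inr ⟨t, ht, t2, ht2, fun e => ht2t e.symm, Ht, Ht2, ?_⟩
    intro s hs Hs
    by_contra hne
    push Not at hne
    exact h.not_three_normal ht ht2 (h.mem_of_hasNormal hs Hs) (fun e => ht2t e.symm)
      (fun e => hne.1 e.symm) (fun e => hne.2 e.symm) Ht Ht2 Hs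

end facts

end Cfsg.Agent.Lib.Helper5.SolvTri
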