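import Mathlib
import Cfsg.Agent.Lib.Helper5.SolvTriE

set_option autoImplicit false
set_option linter.style.haveILetI false
set_option linter.unusedSectionVars false
set_option linter.unusedVariables false
set_option maxHeartbeats 800000

/-! The four primes criterion (row 3814): the structure `G = F ⋊ T` of a minimal
counterexample (F6), for one or for two normal Sylow subgroups, and the final glue. -/

namespace Cfsg.Agent.Lib.Helper5.SolvTri

open Cfsg.Agent.Lib.Lead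
open scoped Pointwise

universe u

section general
variable {G : Type u} [Group G] [Finite G]

/-- a nontrivial normal subgroup of a finite solvable group contains a nontrivial normal
subgroup of prime power order -/
theorem exists_normal_pgroup_le [Group.IsSolvable G] (M : Subgroup G) [hMn : M.Normal]
    (hM1 : M ≠ ⊥) :
    ∃ (ℓ : ℕ) (L : Subgroup G), ℓ.Prime ∧ L.Normal ∧ IsPGroup ℓ L ∧ L ≠ ⊥ ∧ L ≤ M := by
  obtain ⟨L, hLn, hL1, hLM, hmin⟩ :=
    Cfsg.Agent.Lib.Lead.HallCount.exists_minimal_normal_le (Nat.card M) M rfl hMn hM1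
  haveI := hLn
  have hc := Cfsg.Agent.Lib.Helper2.isMulCommutative_of_minNormal_of_solvable L hL1 hmin
  obtain ⟨ℓ, hℓ, hexp, d, hd, hcard⟩ :=
    Cfsg.Agent.Lib.Helper2.exists_prime_pow_of_minNormal_abelian L hL1 hmin hc
  haveI : Fact ℓ.Prime := ⟨hℓ⟩
  exact ⟨ℓ, L, hℓ, hLn, IsPGroup.of_card hcard, hL1, hLM⟩

/-- a complement `T` of a normal subgroup `F` containing all normal subgroups of prime power
order acts faithfully on `F` -/
theorem faithful_of_complement [Group.IsSolvable G] (F T : Subgroup G) [hFn : F.Normal]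
    (hFT : F.IsComplement' T)
    (hL : ∀ (ℓ : ℕ) (L : Subgroup G), ℓ.Prime → L.Normal → IsPGroup ℓ L → L ≠ ⊥ → L ≤ F) :
    T ⊓ Subgroup.centralizer (F : Set G) = ⊥ := by
  by_contra hC1
  set C : Subgroup G := T ⊓ Subgroup.centralizer (F : Set G) with hC
  have htop : T ⊔ F = ⊤ := by rw [sup_comm]; exact hFT.sup_eq_top
  have hTF : T ≤ Subgroup.normalizer (F : Set G) := le_normalizer_of_normal' T F
  have hCn : C.Normal := by
    refine ⟨fun c hc g => ?_⟩
    obtain ⟨hcT, hcC⟩ := Subgroup.mem_inf.mp hc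
    obtain ⟨a, ha, b, hb, rfl⟩ := mem_sup_nrm hTF (htop ▸ Subgroup.mem_top g : g ∈ T ⊔ F)
    have hbc : b * c = c * b := Subgroup.mem_centralizer_iff.mp hcC b hb
    have h1 : a * b * c * (a * b)⁻¹ = a * c * a⁻¹ := by
      calc a * b * c * (a * b)⁻¹ = a * (b * c) * b⁻¹ * a⁻¹ := by group
        _ = a * (c * b) * b⁻¹ * a⁻¹ := by rw [hbc]
        _ = a * c * a⁻¹ := by group
    rw [h1]
    refine Subgroup.mem_inf.mpr ⟨T.mul_mem (T.mul_mem ha hcT) (T.inv_mem ha), ?_⟩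
    haveI : (Subgroup.centralizer (F : Set G)).Normal := Subgroup.normal_centralizer
    exact Subgroup.Normal.conj_mem inferInstance c hcC a
  haveI := hCn
  obtain ⟨ℓ, L, hℓ, hLn, hLp, hL1, hLC⟩ := exists_normal_pgroup_le C hC1
  have hLF : L ≤ F := hL ℓ L hℓ hLn hLp hL1
  have hLT : L ≤ T := hLC.trans inf_le_left
  have : L ≤ F ⊓ T := le_inf hLF hLT
  rw [hFT.disjoint.eq_bot] at this
  exact hL1 (le_bot_iff.mp this)

/-- elements of the centralizer of `P` normalize every subgroup of `P` -/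
theorem centralizer_le_normalizer_of_le (P V : Subgroup G) (hV : V ≤ P) :
    Subgroup.centralizer (P : Set G) ≤ Subgroup.normalizer (V : Set G) := by
  intro c hc
  rw [Subgroup.mem_normalizer_iff]
  intro v
  constructor
  · intro hv
    have h1 : v * c = c * v := Subgroup.mem_centralizer_iff.mp hc v (hV hv)
    have : c * v * c⁻¹ = v := by rw [← h1]; group
    rw [this]; exact hv
  · intro hv
    have h1 : (c * v * c⁻¹) * c = c * (c * v * c⁻¹) :=
      Subgroup.mem_centralizer_iff.mp hc _ (hV hv)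
    have h2 : v = c * v * c⁻¹ := by
      have : c * v = c * (c * v * c⁻¹) := by rw [← h1]; group
      exact mul_left_cancel this
    rw [h2]; exact hv

end general

section facts
variable {σ : Finset ℕ} {G : Type u} [Group G] [Finite G]

/-- **F6**, irreducibility: a subgroup of the normal `t`-subgroup `P` normalized by `R`, where
`C_G(P) R = G`, is trivial or `P` -/
theorem MinCex.irred (h : MinCex σ G) {t : ℕ} (ht : t ∈ σ) (P : Subgroup G) [P.Normal]
    (hPt : IsPGroup t P) (V : Subgroup G) (hV : V ≤ P) (R : Subgroup G)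
    (hR : R ≤ Subgroup.normalizer (V : Set G))
    (hgen : Subgroup.centralizer (P : Set G) ⊔ R = ⊤) : V = ⊥ ∨ V = P := by
  have h1 : Subgroup.normalizer (V : Set G) = ⊤ := by
    rw [eq_top_iff, ← hgen]
    exact sup_le (centralizer_le_normalizer_of_le P V hV) hR
  have hVn : V.Normal := Subgroup.normalizer_eq_top_iff.mp h1
  exact h.normal_t_min ht P hPt V hVn hV

/-- an abelian subgroup lies in its centralizer -/
theorem le_centralizer_of_elemAb {t : ℕ} (P : Subgroup G) (hP : Cfsg.IsElementaryAbelian t P) :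
    P ≤ Subgroup.centralizer (P : Set G) := by
  intro x hx
  rw [Subgroup.mem_centralizer_iff]
  intro y hy
  haveI := hP.1
  have h1 : (⟨y, hy⟩ : P) * ⟨x, hx⟩ = ⟨x, hx⟩ * ⟨y, hy⟩ := mul_comm' _ _
  exact congrArg Subtype.val h1

/-- **F6**, one normal Sylow subgroup: a complement acting faithfully -/
theorem MinCex.case1_struct (h : MinCex σ G) {t : ℕ} (ht : t ∈ σ) (P : Subgroup G)
    [hPn : P.Normal] (hPt : IsPGroup t P) (hP1 : P ≠ ⊥)
    (huniq : ∀ s : ℕ, s.Prime → HasNormal G s → s = t) :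
    ∃ K : Subgroup G, P.IsComplement' K ∧ ¬ t ∣ Nat.card K ∧
      K ⊓ Subgroup.centralizer (P : Set G) = ⊥ := by
  have htp : t.Prime := h.1.prime t ht
  haveI : Fact t.Prime := ⟨htp⟩
  haveI := h.1.solv
  have hidx := h.normal_t_sylow ht P hPt hP1
  obtain ⟨j, hj⟩ := IsPGroup.iff_card.mp hPt
  have hcop : (Nat.card P).Coprime P.index := by
    rw [hj]
    exact Nat.Coprime.pow_left _ ((Nat.Prime.coprime_iff_not_dvd htp).mpr hidx)
  obtain ⟨K, hK⟩ := Subgroup.exists_right_complement'_of_coprime hcop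
  have hKcard : Nat.card K = P.index := by
    have h1 := hK.card_mul_card
    apply Nat.eq_of_mul_eq_mul_left (Nat.card_pos : 0 < Nat.card P)
    rw [h1, P.card_mul_index]
  refine ⟨K, hK, by rw [hKcard]; exact hidx, ?_⟩
  apply faithful_of_complement P K hK
  intro ℓ L hℓ hLn hLp hL1
  have hℓt : ℓ = t := huniq ℓ hℓ ⟨L, hLn, hLp, hL1⟩
  subst hℓt
  haveI := hLn
  exact (h.normal_t_unique ht L P hLp hL1 hPt hP1).le

/-- **MIN** for one normal Sylow subgroup `P` with complement `K`: a subgroup of `K` with the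
pair orders of the other primes and a singular element of each prime order is `K` -/
theorem MinCex.case1_min (h : MinCex σ G) {t : ℕ} (ht : t ∈ σ) (P : Subgroup G)
    [hPn : P.Normal] (hPt : IsPGroup t P) (hP1 : P ≠ ⊥) (K : Subgroup G)
    (hK : P.IsComplement' K) (K₁ : Subgroup G) (hK₁ : K₁ ≤ K)
    (hpair : ∀ a ∈ σ, ∀ b ∈ σ, a ≠ t → b ≠ t → a ≠ b → ∃ g ∈ K₁, orderOf g = a * b)
    (hsing : ∀ a ∈ σ, a ≠ t → ∃ y ∈ K₁, orderOf y = a ∧ Sing P y) : K₁ = K := by
  have htp : t.Prime := h.1.prime t ht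
  have htop : K₁ ⊔ P = ⊤ := by
    apply h.eq_top_of_pairs
    have key : ∀ a ∈ σ, a ≠ t → ∃ w ∈ K₁ ⊔ P, orderOf w = t * a := by
      intro a ha hat
      obtain ⟨y, hy, hyo, v, hv, hv1, hyv⟩ := hsing a ha hat
      exact ⟨v * y, Subgroup.mul_mem _ (Subgroup.mem_sup_right hv) (Subgroup.mem_sup_left hy),
        orderOf_mul_primes htp (h.1.prime a ha) hat.symm
          (h.orderOf_of_mem_normal_t ht P hPt hP1 hv hv1) hyo hyv.symm⟩
    intro p hp q hq hpq
    by_cases hpt : p = t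
    · subst hpt
      exact key q hq hpq.symm
    by_cases hqt : q = t
    · subst hqt
      obtain ⟨w, hw, hwo⟩ := key p hp hpq
      exact ⟨w, hw, by rw [hwo, mul_comm]⟩
    · obtain ⟨g, hg, hgo⟩ := hpair p hp q hq hpt hqt hpq
      exact ⟨g, Subgroup.mem_sup_left hg, hgo⟩
  have h1 := card_sup_mul_card_inf K₁ P (le_normalizer_of_normal' K₁ P)
  have hinf : K₁ ⊓ P = ⊥ := by
    have : K₁ ⊓ P ≤ P ⊓ K := le_inf inf_le_right (inf_le_left.trans hK₁)
    rw [hK.disjoint.eq_bot] at this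
    exact le_bot_iff.mp this
  rw [htop, hinf, Subgroup.card_top, Subgroup.card_bot, mul_one] at h1
  have h2 := hK.card_mul_card
  have h3 : Nat.card K₁ = Nat.card K := by
    apply Nat.eq_of_mul_eq_mul_right (Nat.card_pos : 0 < Nat.card P)
    rw [← h1, ← h2, mul_comm]
  exact Subgroup.eq_of_le_of_card_ge hK₁ h3.ge

/-- **F6**, two normal Sylow subgroups `P`, `Q`: a complement of `P Q` acting faithfully -/
theorem MinCex.case2_struct (h : MinCex σ G) {t1 t2 : ℕ} (h1 : t1 ∈ σ) (h2 : t2 ∈ σ)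
    (h12 : t1 ≠ t2) (P Q : Subgroup G) [hPn : P.Normal] [hQn : Q.Normal]
    (hP : IsPGroup t1 P) (hP1 : P ≠ ⊥) (hQ : IsPGroup t2 Q) (hQ1 : Q ≠ ⊥)
    (huniq : ∀ s : ℕ, s.Prime → HasNormal G s → s = t1 ∨ s = t2) :
    ∃ T : Subgroup G, (P ⊔ Q).IsComplement' T ∧ ¬ t1 ∣ Nat.card T ∧ ¬ t2 ∣ Nat.card T ∧
      T ⊓ Subgroup.centralizer ((P ⊔ Q : Subgroup G) : Set G) = ⊥ := by
  have ht1 : t1.Prime := h.1.prime t1 h1
  have ht2 : t2.Prime := h.1.prime t2 h2
  haveI : Fact t1.Prime := ⟨ht1⟩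
  haveI : Fact t2.Prime := ⟨ht2⟩
  haveI := h.1.solv
  have hidx1 := h.normal_t_sylow h1 P hP hP1
  have hidx2 := h.normal_t_sylow h2 Q hQ hQ1
  have hF1 : ¬ t1 ∣ (P ⊔ Q).index := fun hd =>
    hidx1 (hd.trans (Subgroup.index_dvd_of_le le_sup_left))
  have hF2 : ¬ t2 ∣ (P ⊔ Q).index := fun hd =>
    hidx2 (hd.trans (Subgroup.index_dvd_of_le le_sup_right))
  obtain ⟨j1, hj1⟩ := IsPGroup.iff_card.mp hP
  obtain ⟨j2, hj2⟩ := IsPGroup.iff_card.mp hQ
  have hcardF : Nat.card (P ⊔ Q : Subgroup G) = t1 ^ j1 * t2 ^ j2 := by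
    have h3 := card_sup_mul_card_inf P Q (le_normalizer_of_normal' P Q)
    have hinf : P ⊓ Q = ⊥ := Subgroup.inf_eq_bot_of_coprime
      (IsPGroup.coprime_card_of_ne t1 t2 h12 P Q hP hQ)
    rw [hinf, Subgroup.card_bot, mul_one, hj1, hj2] at h3
    exact h3
  have hcop : (Nat.card (P ⊔ Q : Subgroup G)).Coprime (P ⊔ Q).index := by
    rw [hcardF]
    exact Nat.Coprime.mul_left
      (Nat.Coprime.pow_left _ ((Nat.Prime.coprime_iff_not_dvd ht1).mpr hF1))
      (Nat.Coprime.pow_left _ ((Nat.Prime.coprime_iff_not_dvd ht2).mpr hF2))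
  obtain ⟨T, hT⟩ := Subgroup.exists_right_complement'_of_coprime hcop
  have hTcard : Nat.card T = (P ⊔ Q).index := by
    have h3 := hT.card_mul_card
    apply Nat.eq_of_mul_eq_mul_left (Nat.card_pos : 0 < Nat.card (P ⊔ Q : Subgroup G))
    rw [h3, (P ⊔ Q).card_mul_index]
  refine ⟨T, hT, by rw [hTcard]; exact hF1, by rw [hTcard]; exact hF2, ?_⟩
  apply faithful_of_complement (P ⊔ Q) T hT
  intro ℓ L hℓ hLn hLp hL1
  haveI := hLn
  rcases huniq ℓ hℓ ⟨L, hLn, hLp, hL1⟩ with hℓt | hℓt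
  · subst hℓt
    exact (h.normal_t_unique h1 L P hLp hL1 hP hP1).le.trans le_sup_left
  · subst hℓt
    exact (h.normal_t_unique h2 L Q hLp hL1 hQ hQ1).le.trans le_sup_right

/-- fact (0) for two normal Sylow subgroups: no nonidentity element of a complement is singular
on both -/
theorem MinCex.case2_not_both (h : MinCex σ G) {t1 t2 : ℕ} (h1 : t1 ∈ σ) (h2 : t2 ∈ σ)
    (h12 : t1 ≠ t2) (P Q : Subgroup G) [hPn : P.Normal] [hQn : Q.Normal]
    (hP : IsPGroup t1 P) (hP1 : P ≠ ⊥) (hQ : IsPGroup t2 Q) (hQ1 : Q ≠ ⊥) (T : Subgroup G)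
    (hT1 : ¬ t1 ∣ Nat.card T) (hT2 : ¬ t2 ∣ Nat.card T) {g : G} (hg : g ∈ T) (hg1 : g ≠ 1) :
    ¬ (Sing P g ∧ Sing Q g) := by
  rintro ⟨⟨v, hv, hv1, hgv⟩, ⟨w, hw, hw1, hgw⟩⟩
  haveI : Fact t1.Prime := ⟨h.1.prime t1 h1⟩
  haveI : Fact t2.Prime := ⟨h.1.prime t2 h2⟩
  have hog : orderOf g ≠ 1 := fun h0 => hg1 (orderOf_eq_one_iff.mp h0)
  obtain ⟨ℓ, hℓ, hℓd⟩ := Nat.exists_prime_and_dvd hog
  have hℓT : ℓ ∣ Nat.card T := by
    have := orderOf_dvd_natCard (⟨g, hg⟩ : T)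
    rw [Subgroup.orderOf_mk] at this
    exact hℓd.trans this
  have hℓσ : ℓ ∈ σ :=
    h.mem_of_dvd_card hℓ (hℓT.trans (Subgroup.card_subgroup_dvd_card T))
  have hℓ1 : t1 ≠ ℓ := by rintro rfl; exact hT1 hℓT
  have hℓ2 : t2 ≠ ℓ := by rintro rfl; exact hT2 hℓT
  have hgo : orderOf (g ^ (orderOf g / ℓ)) = ℓ :=
    orderOf_pow_orderOf_div (orderOf_pos g).ne' hℓd
  exact h.1.no_three h1 h2 hℓσ h12 hℓ1 hℓ2
    (h.orderOf_of_mem_normal_t h1 P hP hP1 hv hv1)
    (h.orderOf_of_mem_normal_t h2 Q hQ hQ1 hw hw1) hgo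
    (commute_of_normal_pgroups h12 P Q hP hQ hv hw)
    (hgv.symm.pow_right _) (hgw.symm.pow_right _)

end facts

/-- the one-prime case is impossible -/
def Case1Closed : Prop :=
  ∀ (σ : Finset ℕ) (G : Type u) [Group G] [Finite G], MinCex σ G → ∀ t ∈ σ, HasNormal G t →
    (∀ s : ℕ, s.Prime → HasNormal G s → s = t) → False

/-- the two-primes case is impossible -/
def Case2Closed : Prop :=
  ∀ (σ : Finset ℕ) (G : Type u) [Group G] [Finite G], MinCex σ G → ∀ t1 ∈ σ, ∀ t2 ∈ σ,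
    t1 ≠ t2 → HasNormal G t1 → HasNormal G t2 →
    (∀ s : ℕ, s.Prime → HasNormal G s → s = t1 ∨ s = t2) → False

/-- the glue: if both cases are impossible, the four primes criterion holds -/
theorem four_primes_of_cases (c1 : Case1Closed.{u}) (c2 : Case2Closed.{u})
    {G : Type u} [Group G] [Finite G] (σ : Finset ℕ) (hσ : 4 ≤ σ.card)
    (hprime : ∀ p ∈ σ, p.Prime)
    (h2 : ∀ p ∈ σ, ∀ q ∈ σ, p ≠ q → ∃ g : G, orderOf g = p * q)
    (h3 : ∀ p ∈ σ, ∀ q ∈ σ, ∀ r ∈ σ, p ≠ q → q ≠ r → p ≠ r → ∀ g : G, orderOf g ≠ p * q * r) :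
    ¬ Group.IsSolvable G := by
  intro hsolv
  obtain ⟨σ0, hσ0, hcard⟩ := Finset.exists_subset_card_eq hσ
  have hcex : Cex σ0 G :=
    ⟨hsolv, hcard, fun p hp => hprime p (hσ0 hp),
      fun p hp q hq hpq => h2 p (hσ0 hp) q (hσ0 hq) hpq,
      fun p hp q hq r hr hpq hqr hpr => h3 p (hσ0 hp) q (hσ0 hq) r (hσ0 hr) hpq hqr hpr⟩
  obtain ⟨H, iH, fH, hmin⟩ := exists_minCex σ0 (Nat.card G) G rfl hcex
  rcases hmin.cases with ⟨t, ht, Ht, huniq⟩ | ⟨t1, ht1, t2, ht2, h12, H1, H2, huniq⟩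
  · exact c1 σ0 H hmin t ht Ht huniq
  · exact c2 σ0 H hmin t1 ht1 t2 ht2 h12 H1 H2 huniq

end Cfsg.Agent.Lib.Helper5.SolvTri
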