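import Mathlib
import Cfsg.Agent.Lib.Helper5.NilCount1

/-!
The number of nilpotent `n × n` matrices over a finite field with `q` elements is `q ^ (n (n - 1))`
(Fine and Herstein), by counting all matrices through their Fitting decomposition.
-/

set_option autoImplicit false

namespace Cfsg.Agent.Lib.Helper5.NilCount


section arith

theorem sum_identity (Q : ℚ) (γ : ℕ → ℚ) (hγ0 : ∀ k, γ k ≠ 0)
    (hγ : ∀ k, γ (k + 1) = (Q ^ (k + 1) - 1) * Q ^ k * γ k) (n : ℕ) :
    ∑ k ∈ Finset.range (n + 1), γ n * Q ^ (k * (k - 1)) / γ k = Q ^ (n * n) := by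
  induction n with
  | zero => simp [hγ0 0]
  | succ n ih =>
    rw [Finset.sum_range_succ]
    have h1 : ∑ k ∈ Finset.range (n + 1), γ (n + 1) * Q ^ (k * (k - 1)) / γ k =
        (Q ^ (n + 1) - 1) * Q ^ n * ∑ k ∈ Finset.range (n + 1), γ n * Q ^ (k * (k - 1)) / γ k := by
      rw [Finset.mul_sum]
      apply Finset.sum_congr rfl
      intro k _
      rw [hγ n]
      ring
    rw [h1, ih, mul_div_cancel_left₀ _ (hγ0 _)]
    have e1 : (n + 1) * (n + 1 - 1) = n * n + n := by
      rw [Nat.add_sub_cancel]; ring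
    have e2 : (n + 1) * (n + 1) = n * n + n + (n + 1) := by ring
    rw [e1, e2, pow_add, pow_add, pow_add]
    ring

theorem nil_formula (Q : ℚ) (γ : ℕ → ℚ) (hγ0 : ∀ k, γ k ≠ 0)
    (hγ : ∀ k, γ (k + 1) = (Q ^ (k + 1) - 1) * Q ^ k * γ k)
    (nil : ℕ → ℚ) (tr : ℕ → ℕ → ℚ)
    (h1 : ∀ n k, k ≤ n → tr n k * γ k = γ n * nil k)
    (h2 : ∀ n, ∑ k ∈ Finset.range (n + 1), tr n k = Q ^ (n * n)) (n : ℕ) :
    nil n = Q ^ (n * (n - 1)) := by
  induction n using Nat.strong_induction_on with
  | _ n ih =>
    have h3 := h2 n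
    have h4 := sum_identity Q γ hγ0 hγ n
    rw [Finset.sum_range_succ] at h3 h4
    have h5 : ∑ k ∈ Finset.range n, tr n k = ∑ k ∈ Finset.range n, γ n * Q ^ (k * (k - 1)) / γ k := by
      apply Finset.sum_congr rfl
      intro k hk
      have hk' : k < n := Finset.mem_range.1 hk
      rw [eq_div_iff (hγ0 k), h1 n k hk'.le, ih k hk']
    have h6 : tr n n = nil n := by
      have := h1 n n le_rfl
      rw [mul_comm] at this
      exact mul_left_cancel₀ (hγ0 n) this
    rw [mul_div_cancel_left₀ _ (hγ0 _)] at h4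
    rw [h5, h6] at h3
    linarith

end arith



open Matrix Polynomial

section count
variable {K : Type*} [Field K] [Fintype K] {α β : Type*} [Fintype α] [Fintype β] [DecidableEq α] [DecidableEq β]

theorem card_trailing :
    Nat.card {T : Matrix (α ⊕ β) (α ⊕ β) K // T.charpoly.natTrailingDegree = Fintype.card α} *
      (Nat.card (GL α K) * Nat.card (GL β K)) =
    Nat.card (GL (α ⊕ β) K) * (Nat.card {N : Matrix α α K // IsNilpotent N} * Nat.card (GL β K)) := by
  classical
  have h := card_saturation (G := GL (α ⊕ β) K) (X := Matrix (α ⊕ β) (α ⊕ β) K)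
    (fun g T => g.val * T * (g⁻¹).val) (by intro x; simp)
    (by intro g h x; rw [_root_.mul_inv_rev, Units.val_mul, Units.val_mul]; simp only [mul_assoc])
    (nilUnitSet K α β) (blockHom K α β).range (fun s hs g => conj_mem_nilUnitSet_iff hs g)
  rw [card_range_blockHom, card_nilUnitSet] at h
  rw [← h]
  congr 1
  apply Nat.card_congr
  apply Equiv.subtypeEquivRight
  intro T
  constructor
  · intro hT
    obtain ⟨g, N, A, hN, hA, hg⟩ := exists_conj_of_natTrailingDegree T hT
    exact ⟨g, _, ⟨N, A, hN, hA, rfl⟩, hg⟩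
  · rintro ⟨g, s, hs, rfl⟩
    have e : ((g⁻¹ : GL (α ⊕ β) K)).val = (g.val)⁻¹ := Matrix.coe_units_inv g
    rw [e, Matrix.charpoly_units_conj]
    exact natTrailingDegree_of_mem hs

end count

section fin
variable (K : Type*) [Field K] [Fintype K]

/-- the number of nilpotent `k × k` matrices. -/
noncomputable def nilN (k : ℕ) : ℕ := Nat.card {N : Matrix (Fin k) (Fin k) K // IsNilpotent N}

/-- the order of `GL_k`. -/
noncomputable def glN (k : ℕ) : ℕ := Nat.card (GL (Fin k) K)

/-- the number of `n × n` matrices whose characteristic polynomial has trailing degree `k`. -/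
noncomputable def trailN (n k : ℕ) : ℕ :=
  Nat.card {T : Matrix (Fin n) (Fin n) K // T.charpoly.natTrailingDegree = k}

theorem glN_pos (k : ℕ) : 0 < glN K k := Nat.card_pos

theorem trailN_mul (n k : ℕ) (hk : k ≤ n) : trailN K n k * glN K k = glN K n * nilN K k := by
  classical
  have h := card_trailing (K := K) (α := Fin k) (β := Fin (n - k))
  let e : Fin k ⊕ Fin (n - k) ≃ Fin n := finSumFinEquiv.trans (finCongr (by omega))
  have h1 : Nat.card {T : Matrix (Fin k ⊕ Fin (n - k)) (Fin k ⊕ Fin (n - k)) K //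
      T.charpoly.natTrailingDegree = Fintype.card (Fin k)} = trailN K n k := by
    apply Nat.card_congr
    refine (Matrix.reindex e e).subtypeEquiv ?_
    intro T
    rw [Matrix.charpoly_reindex, Fintype.card_fin]
  have h2 : Nat.card (GL (Fin k ⊕ Fin (n - k)) K) = glN K n :=
    Nat.card_congr (Units.mapEquiv (Matrix.reindexAlgEquiv K K e).toMulEquiv).toEquiv
  rw [h1, h2] at h
  have h3 : (trailN K n k * glN K k) * glN K (n - k) = (glN K n * nilN K k) * glN K (n - k) := by
    unfold glN nilN at *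
    rw [mul_assoc, h, mul_assoc]
  exact Nat.eq_of_mul_eq_mul_right (glN_pos K _) h3

theorem sum_trailN (n : ℕ) :
    ∑ k ∈ Finset.range (n + 1), trailN K n k = Fintype.card K ^ (n * n) := by
  classical
  have hle : ∀ T : Matrix (Fin n) (Fin n) K, T.charpoly.natTrailingDegree < n + 1 := by
    intro T
    have h1 := Polynomial.natTrailingDegree_le_natDegree (p := T.charpoly)
    rw [Matrix.charpoly_natDegree_eq_dim, Fintype.card_fin] at h1
    omega
  let f : Matrix (Fin n) (Fin n) K → Fin (n + 1) := fun T => ⟨_, hle T⟩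
  have h1 := Nat.card_congr (Equiv.sigmaFiberEquiv f)
  rw [Nat.card_sigma] at h1
  have h2 : Nat.card (Matrix (Fin n) (Fin n) K) = Fintype.card K ^ (n * n) := by
    have : Fintype.card (Fin n → Fin n → K) = Fintype.card K ^ (n * n) := by
      rw [Fintype.card_fun, Fintype.card_fun, Fintype.card_fin, ← pow_mul]
    rw [Nat.card_eq_fintype_card]
    exact this
  rw [← h2, ← h1, Finset.sum_range]
  apply Finset.sum_congr rfl
  intro k _
  unfold trailN
  apply Nat.card_congr
  apply Equiv.subtypeEquivRight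
  intro T
  simp only [f, Fin.ext_iff]

theorem glN_cast (k : ℕ) :
    (glN K k : ℚ) = ∏ i : Fin k, ((Fintype.card K : ℚ) ^ k - (Fintype.card K : ℚ) ^ (i : ℕ)) := by
  unfold glN
  rw [Matrix.card_GL_field, Nat.cast_prod]
  apply Finset.prod_congr rfl
  intro i _
  rw [Nat.cast_sub (Nat.pow_le_pow_right Fintype.card_pos i.2.le)]
  push_cast
  rfl

theorem glN_succ (k : ℕ) :
    (glN K (k + 1) : ℚ) =
      ((Fintype.card K : ℚ) ^ (k + 1) - 1) * (Fintype.card K : ℚ) ^ k * (glN K k : ℚ) := by
  rw [glN_cast, glN_cast, Fin.prod_univ_succ]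
  simp only [Fin.val_zero, pow_zero, Fin.val_succ]
  rw [mul_assoc]
  congr 1
  have : ∀ i : Fin k, (Fintype.card K : ℚ) ^ (k + 1) - (Fintype.card K : ℚ) ^ ((i : ℕ) + 1) =
      (Fintype.card K : ℚ) * ((Fintype.card K : ℚ) ^ k - (Fintype.card K : ℚ) ^ (i : ℕ)) := by
    intro i
    ring
  simp only [this]
  rw [Finset.prod_mul_distrib, Finset.prod_const, Finset.card_univ, Fintype.card_fin]

end fin


section final
variable (K : Type*) [Field K] [Fintype K]

/-- Fine--Herstein: the number of nilpotent `n × n` matrices over a field with `q` elements. -/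
theorem nilN_eq (n : ℕ) : nilN K n = Fintype.card K ^ (n * (n - 1)) := by
  have hq : (1 : ℚ) < (Fintype.card K : ℚ) := by exact_mod_cast Fintype.one_lt_card
  have key := nil_formula (Fintype.card K : ℚ) (fun k => (glN K k : ℚ))
    (fun k => by exact_mod_cast (glN_pos K k).ne') (fun k => glN_succ K k)
    (fun k => (nilN K k : ℚ)) (fun n k => (trailN K n k : ℚ))
    (fun n k hk => by exact_mod_cast trailN_mul K n k hk)
    (fun n => by exact_mod_cast sum_trailN K n) n
  exact_mod_cast key

end final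

end Cfsg.Agent.Lib.Helper5.NilCount
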