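import Mathlib
import Cfsg.Agent.Lib.Helper5.NilCount2

set_option autoImplicit false

/-!
# Unipotent elements of the finite symplectic groups: definitions

`spSet Ω` is the set of isometries of the bilinear form with Gram matrix `Ω`, and `aSet Ω` the affine
space of matrices `A` with `A* = -1 - A` (the Cayley--Wall parameters of the isometries without
eigenvalue `1`).  The counting functions below are taken for the standard matrix `J`.
-/

namespace Cfsg.Agent.Lib.Helper5.SpUn

open Matrix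

section defs
variable {F : Type*} [Field F] {ι : Type*} [Fintype ι] [DecidableEq ι]

/-- isometries of the form with Gram matrix `Ω`. -/
def spSet (Ω : Matrix ι ι F) : Set (Matrix ι ι F) := {g | gᵀ * Ω * g = Ω}

/-- the matrices `A` whose adjoint is `-1 - A`. -/
def aSet (Ω : Matrix ι ι F) : Set (Matrix ι ι F) := {A | Aᵀ * Ω + Ω * A + Ω = 0}

theorem mem_spSet {Ω g : Matrix ι ι F} : g ∈ spSet Ω ↔ gᵀ * Ω * g = Ω := Iff.rfl

theorem mem_aSet {Ω A : Matrix ι ι F} : A ∈ aSet Ω ↔ Aᵀ * Ω + Ω * A + Ω = 0 := Iff.rfl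

end defs

section counts
variable (F : Type*) [Field F] [Fintype F]

/-- the order of `Sp_{2n}`. -/
noncomputable def sN (n : ℕ) : ℕ :=
  Nat.card {g : Matrix (Fin n ⊕ Fin n) (Fin n ⊕ Fin n) F // g ∈ spSet (J (Fin n) F)}

/-- the number of unipotent elements of `Sp_{2n}`. -/
noncomputable def uN (n : ℕ) : ℕ :=
  Nat.card {g : Matrix (Fin n ⊕ Fin n) (Fin n ⊕ Fin n) F //
    g ∈ spSet (J (Fin n) F) ∧ IsNilpotent (g - 1)}

/-- the number of elements of `Sp_{2n}` without eigenvalue `1`. -/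
noncomputable def eN (n : ℕ) : ℕ :=
  Nat.card {g : Matrix (Fin n ⊕ Fin n) (Fin n ⊕ Fin n) F //
    g ∈ spSet (J (Fin n) F) ∧ IsUnit (g - 1)}

/-- the size of the affine space `aSet`. -/
noncomputable def aN (n : ℕ) : ℕ :=
  Nat.card {A : Matrix (Fin n ⊕ Fin n) (Fin n ⊕ Fin n) F // A ∈ aSet (J (Fin n) F)}

/-- the number of invertible elements of `aSet`. -/
noncomputable def iN (n : ℕ) : ℕ :=
  Nat.card {A : Matrix (Fin n ⊕ Fin n) (Fin n ⊕ Fin n) F // A ∈ aSet (J (Fin n) F) ∧ IsUnit A}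

/-- the number of elements `A` of `aSet` with `A (A + 1)` nilpotent. -/
noncomputable def hN (n : ℕ) : ℕ :=
  Nat.card {A : Matrix (Fin n ⊕ Fin n) (Fin n ⊕ Fin n) F //
    A ∈ aSet (J (Fin n) F) ∧ IsNilpotent (A * (A + 1))}

end counts

end Cfsg.Agent.Lib.Helper5.SpUn
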