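import Mathlib
import Cfsg.Agent.Lib.Helper2.SL2A5b
import Cfsg.Agent.Lib.Helper2.DSubP7

set_option autoImplicit false

/-!
# The `A₅`-subgroups of `PSL₂(11)` through a fixed element of order five
-/

namespace Cfsg.Agent.Lib.Helper5.A5PSL11

open Matrix

theorem F1 : ∀ c : Equiv.Perm (Fin 5), Equiv.Perm.sign c = 1 → c ≠ 1 → c ^ 5 = 1 →
    ∃ a : Equiv.Perm (Fin 5), Equiv.Perm.sign a = 1 ∧ a * a = 1 ∧ a ≠ 1 ∧ (a * c) ^ 3 = 1 := by
  set_option maxRecDepth 100000 in decide

theorem F2 : ∀ g : Equiv.Perm (Fin 5), Equiv.Perm.sign g = 1 → g ^ 6 = 1 →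
    g ^ 2 = 1 ∨ g ^ 3 = 1 := by
  set_option maxRecDepth 100000 in decide

theorem F1' (c : alternatingGroup (Fin 5)) (hc1 : c ≠ 1) (hc5 : c ^ 5 = 1) :
    ∃ a : alternatingGroup (Fin 5), a * a = 1 ∧ a ≠ 1 ∧ (a * c) ^ 3 = 1 := by
  obtain ⟨a, ha, h1, h2, h3⟩ := F1 c.1 (Equiv.Perm.mem_alternatingGroup.mp c.2)
    (fun h => hc1 (Subtype.ext h)) (by rw [← Subgroup.coe_pow, hc5]; rfl)
  refine ⟨⟨a, Equiv.Perm.mem_alternatingGroup.mpr ha⟩, Subtype.ext h1, ?_, Subtype.ext ?_⟩
  · intro h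
    exact h2 (congrArg Subtype.val h)
  · rw [Subgroup.coe_pow]
    exact h3

theorem F2' (g : alternatingGroup (Fin 5)) (h6 : g ^ 6 = 1) : g ^ 2 = 1 ∨ g ^ 3 = 1 := by
  rcases F2 g.1 (Equiv.Perm.mem_alternatingGroup.mp g.2) (by rw [← Subgroup.coe_pow, h6]; rfl)
    with h | h
  · left
    apply Subtype.ext
    rw [Subgroup.coe_pow]
    exact h
  · right
    apply Subtype.ext
    rw [Subgroup.coe_pow]
    exact h

section

variable {F : Type*} [Field F] [Fintype F]

local notation "G" => Matrix.ProjectiveSpecialLinearGroup (Fin 2) F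
local notation "SL" => Matrix.SpecialLinearGroup (Fin 2) F

theorem eleven (hF : Fintype.card F = 11) : (11 : F) = 0 := by
  have := Nat.cast_card_eq_zero F
  rw [hF] at this
  exact_mod_cast this

theorem two_ne (hF : Fintype.card F = 11) : (2 : F) ≠ 0 := by
  haveI : Fact (Nat.Prime 11) := ⟨by norm_num⟩
  haveI := charP_of_card_eq_prime hF
  intro h
  have h1 : ((2 : ℕ) : F) = 0 := by exact_mod_cast h
  rw [CharP.cast_eq_zero_iff F 11] at h1
  omega

/-- every nonzero element is `± 5 ^ j` -/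
theorem units_enum (hF : Fintype.card F = 11) (y : F) (hy : y ≠ 0) :
    ∃ j : ℕ, y = (4 * 4) ^ j ∨ y = -(4 * 4) ^ j := by
  have key : ∀ y : ZMod 11, y ≠ 0 → ∃ j : Fin 5, y = (4 * 4) ^ (j : ℕ) ∨ y = -(4 * 4) ^ (j : ℕ) := by
    decide
  let e := ZMod.ringEquivOfPrime F (by norm_num : Nat.Prime 11) hF
  obtain ⟨y', rfl⟩ := e.surjective y
  have hy' : y' ≠ 0 := by
    rintro rfl
    exact hy (map_zero e)
  have h4 : e 4 = 4 := map_ofNat e 4
  obtain ⟨j, h | h⟩ := key y' hy'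
  · refine ⟨j, Or.inl ?_⟩
    rw [h, map_pow, map_mul, h4]
  · refine ⟨j, Or.inr ?_⟩
    rw [h, map_neg, map_pow, map_mul, h4]

/-- the unit `4` with inverse `3` -/
def u4 (hF : Fintype.card F = 11) : Fˣ :=
  ⟨4, 3, by linear_combination eleven hF, by linear_combination eleven hF⟩

/-- the diagonal element of order five -/
def Cm (hF : Fintype.card F = 11) : SL :=
  ⟨!![4, 0; 0, 3], by rw [det_fin_two_of]; linear_combination eleven hF⟩

/-- the involutions (mod sign) whose product with `Cm` has trace one -/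
def Am (y : Fˣ) : SL :=
  ⟨!![1, (y : F); -2 * ((y⁻¹ : Fˣ) : F), -1], by
    rw [det_fin_two_of]
    have := y.mul_inv
    linear_combination 2 * this⟩

theorem trace_Am (y : Fˣ) : ((Am y : SL) : Matrix (Fin 2) (Fin 2) F).trace = 0 := by
  simp [Am, Matrix.trace_fin_two]

theorem trace_Am_Cm (hF : Fintype.card F = 11) (y : Fˣ) :
    ((Am y * Cm hF : SL) : Matrix (Fin 2) (Fin 2) F).trace = 1 := by
  rw [Matrix.SpecialLinearGroup.coe_mul]
  simp [Am, Cm, Matrix.trace_fin_two, Matrix.mul_apply, Fin.sum_univ_two]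
  ring

theorem Am_coe (y : Fˣ) : ((Am y : SL) : Matrix (Fin 2) (Fin 2) F) =
    !![1, (y : F); -2 * ((y⁻¹ : Fˣ) : F), -1] := rfl

theorem Cm_coe (hF : Fintype.card F = 11) : ((Cm hF : SL) : Matrix (Fin 2) (Fin 2) F) =
    !![4, 0; 0, 3] := rfl

theorem Cm_pow (hF : Fintype.card F = 11) : (Cm hF) ^ 5 = 1 := by
  apply Subtype.ext
  rw [Matrix.SpecialLinearGroup.coe_pow, Cm_coe]
  have h : (!![4, 0; 0, 3] : Matrix (Fin 2) (Fin 2) F) = Matrix.diagonal ![4, 3] := by
    ext i j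
    fin_cases i <;> fin_cases j <;> simp
  rw [h, Matrix.diagonal_pow]
  have h11 := eleven hF
  ext i j
  fin_cases i <;> fin_cases j
  · simp
    linear_combination 93 * h11
  · simp
  · simp
  · simp
    linear_combination 22 * h11

theorem Cm_not_scalar (hF : Fintype.card F = 11) :
    ¬ ∃ r : F, ((Cm hF : SL) : Matrix (Fin 2) (Fin 2) F) = r • (1 : Matrix (Fin 2) (Fin 2) F) := by
  rw [Cfsg.Agent.Lib.Helper5.not_scalar_iff]
  right; right
  simp only [Cm]
  intro h
  have h1 : (4 : F) = 3 := by simpa using h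
  have : (1 : F) = 0 := by linear_combination h1
  exact one_ne_zero this

theorem Am_not_scalar (y : Fˣ) :
    ¬ ∃ r : F, ((Am y : SL) : Matrix (Fin 2) (Fin 2) F) = r • (1 : Matrix (Fin 2) (Fin 2) F) := by
  rw [Cfsg.Agent.Lib.Helper5.not_scalar_iff]
  left
  simp [Am]

/-- conjugation by `Cm` multiplies the parameter by `5` -/
theorem Cm_mul_Am (hF : Fintype.card F = 11) (y : Fˣ) :
    Cm hF * Am y = Am (u4 hF * u4 hF * y) * Cm hF := by
  apply Subtype.ext
  rw [Matrix.SpecialLinearGroup.coe_mul, Matrix.SpecialLinearGroup.coe_mul]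
  have h11 := eleven hF
  have e1 : ((u4 hF * u4 hF * y : Fˣ) : F) = 4 * 4 * y := rfl
  have e2 : (((u4 hF * u4 hF * y)⁻¹ : Fˣ) : F) = ((y⁻¹ : Fˣ) : F) * (3 * 3) := by
    rw [_root_.mul_inv_rev, _root_.mul_inv_rev]
    rfl
  rw [Am_coe, Am_coe, Cm_coe, e1, e2, Matrix.mul_fin_two, Matrix.mul_fin_two]
  obtain ⟨yi, hyi⟩ : ∃ yi : F, yi = ((y⁻¹ : Fˣ) : F) := ⟨_, rfl⟩
  rw [← hyi]
  ext i j
  fin_cases i <;> fin_cases j
  · simp
  · simp
    linear_combination (-4) * (y : F) * h11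
  · simp
    linear_combination (-6) * yi * h11
  · simp

theorem natCast_ne (hF : Fintype.card F = 11) (n : ℕ) (h0 : 0 < n) (hn : n < 11) : (n : F) ≠ 0 := by
  haveI : Fact (Nat.Prime 11) := ⟨by norm_num⟩
  haveI := charP_of_card_eq_prime hF
  intro h
  rw [CharP.cast_eq_zero_iff F 11] at h
  have := Nat.le_of_dvd h0 h
  omega

/-- the element of order five -/
def cc (hF : Fintype.card F = 11) : G := QuotientGroup.mk (Cm hF)

/-- the involutions -/
def aa (y : Fˣ) : G := QuotientGroup.mk (Am y)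

theorem cc_pow (hF : Fintype.card F = 11) : (cc hF) ^ 5 = 1 := by
  unfold cc
  rw [← QuotientGroup.mk_pow, Cm_pow]
  rfl

theorem cc_ne_one (hF : Fintype.card F = 11) : cc hF ≠ 1 := by
  unfold cc
  rw [Ne, Cfsg.Agent.Lib.Helper5.mk_eq_one_iff]
  exact Cm_not_scalar hF

theorem aa_mul_self (y : Fˣ) : aa y * aa y = (1 : G) := by
  unfold aa
  rw [← QuotientGroup.mk_mul, Cfsg.Agent.Lib.Helper2.SL2A5.sq_of_trace_zero (trace_Am y)]
  exact Cfsg.Agent.Lib.Helper2.SL2A5.mk_neg_one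

theorem aa_ne_one (y : Fˣ) : (aa y : G) ≠ 1 := by
  unfold aa
  rw [Ne, Cfsg.Agent.Lib.Helper5.mk_eq_one_iff]
  exact Am_not_scalar y

theorem aa_cc_pow (hF : Fintype.card F = 11) (y : Fˣ) : (aa y * cc hF) ^ 3 = 1 := by
  unfold aa cc
  rw [← QuotientGroup.mk_mul, ← QuotientGroup.mk_pow,
    Cfsg.Agent.Lib.Helper2.SL2A5.cube_of_trace_one (trace_Am_Cm hF y)]
  exact Cfsg.Agent.Lib.Helper2.SL2A5.mk_neg_one

theorem cc_mul_aa (hF : Fintype.card F = 11) (y : Fˣ) :
    cc hF * aa y = aa (u4 hF * u4 hF * y) * cc hF := by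
  unfold aa cc
  rw [← QuotientGroup.mk_mul, ← QuotientGroup.mk_mul, Cm_mul_Am]

/-- a nontrivial `(2,3,5)`-generated group is `A₅` -/
theorem gen_A5 {K : Type*} [Group K] (a b : K) (haa : a * a = 1) (hb3 : b ^ 3 = 1)
    (hab5 : (a * b) ^ 5 = 1) (ha1 : a ≠ 1) :
    Nat.card (Subgroup.closure ({a, b} : Set K)) = 60 ∧
      Nonempty (Subgroup.closure ({a, b} : Set K) ≃* alternatingGroup (Fin 5)) := by
  let L : Subgroup K := Subgroup.closure {a, b}
  have haK : a ∈ L := Subgroup.subset_closure (by simp)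
  have hbK : b ∈ L := Subgroup.subset_closure (by simp)
  have hgen : Cfsg.Agent.Lib.Helper2.Tri235.Gen L ⟨a, haK⟩ ⟨b, hbK⟩ := by
    refine ⟨Subtype.ext haa, Subtype.ext ?_, Subtype.ext ?_, ?_⟩
    · rw [Subgroup.coe_pow]; exact hb3
    · rw [Subgroup.coe_pow]; exact hab5
    · have h1 := Subgroup.closure_closure_coe_preimage (k := ({a, b} : Set K))
      convert h1 using 2
      ext x
      simp only [Set.mem_insert_iff, Set.mem_singleton_iff, Set.mem_preimage, Subtype.ext_iff]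
  have hne : ∃ x : L, x ≠ 1 := ⟨⟨a, haK⟩, fun h => ha1 (congrArg Subtype.val h)⟩
  haveI := hgen.isSimpleGroup hne
  haveI := hgen.finite_card_le.1
  exact ⟨hgen.card_eq_sixty hne, Cfsg.Agent.S0494.result (hgen.card_eq_sixty hne)⟩

/-- the `A₅`-subgroups through `cc` -/
def KK (hF : Fintype.card F = 11) (y : Fˣ) : Subgroup G :=
  Subgroup.closure {aa y, aa y * cc hF}

theorem KK_spec (hF : Fintype.card F = 11) (y : Fˣ) :
    Nat.card (KK hF y) = 60 ∧ Nonempty (KK hF y ≃* alternatingGroup (Fin 5)) := by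
  apply gen_A5 _ _ (aa_mul_self y) (aa_cc_pow hF y) _ (aa_ne_one y)
  rw [← mul_assoc, aa_mul_self, one_mul, cc_pow]

theorem aa_mem (hF : Fintype.card F = 11) (y : Fˣ) : aa y ∈ KK hF y :=
  Subgroup.subset_closure (by simp)

theorem cc_mem (hF : Fintype.card F = 11) (y : Fˣ) : cc hF ∈ KK hF y := by
  have h1 : aa y ∈ KK hF y := aa_mem hF y
  have h2 : aa y * cc hF ∈ KK hF y := Subgroup.subset_closure (by simp)
  have := Subgroup.mul_mem _ (Subgroup.inv_mem _ h1) h2
  rwa [inv_mul_cancel_left] at this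

/-- a subgroup of order `60` containing `aa y` and `cc` is `KK y` -/
theorem eq_KK (hF : Fintype.card F = 11) (y : Fˣ) (L : Subgroup G) (hL : Nat.card L = 60)
    (ha : aa y ∈ L) (hc : cc hF ∈ L) : L = KK hF y := by
  haveI : Finite G := Cfsg.Agent.Lib.Helper2.DSub.finite_psl (F := F)
  symm
  apply Subgroup.eq_of_le_of_card_ge
  · unfold KK
    rw [Subgroup.closure_le]
    rintro x (rfl | rfl)
    · exact ha
    · exact Subgroup.mul_mem _ ha hc
  · rw [hL, (KK_spec hF y).1]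

theorem KK_mul (hF : Fintype.card F = 11) (y : Fˣ) : KK hF (u4 hF * u4 hF * y) = KK hF y := by
  symm
  apply eq_KK hF _ _ (KK_spec hF y).1 _ (cc_mem hF y)
  have h : aa (u4 hF * u4 hF * y) = cc hF * aa y * (cc hF)⁻¹ := by
    rw [cc_mul_aa, mul_inv_cancel_right]
  rw [h]
  exact Subgroup.mul_mem _ (Subgroup.mul_mem _ (cc_mem hF y) (aa_mem hF y))
    (Subgroup.inv_mem _ (cc_mem hF y))

theorem KK_pow (hF : Fintype.card F = 11) (y : Fˣ) (j : ℕ) :
    KK hF ((u4 hF * u4 hF) ^ j * y) = KK hF y := by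
  induction j with
  | zero => rw [pow_zero, one_mul]
  | succ j ih => rw [pow_succ', mul_assoc, KK_mul, ih]

theorem KK_cases (hF : Fintype.card F = 11) (y : Fˣ) :
    KK hF y = KK hF 1 ∨ KK hF y = KK hF (-1) := by
  obtain ⟨j, h | h⟩ := units_enum hF (y : F) y.ne_zero
  · left
    have : y = (u4 hF * u4 hF) ^ j * 1 := by
      apply Units.ext
      rw [h]
      simp [u4]
    rw [this, KK_pow]
  · right
    have : y = (u4 hF * u4 hF) ^ j * (-1) := by
      apply Units.ext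
      rw [h]
      simp [u4]
    rw [this, KK_pow]

/-- parametrisation of the involutions `a` with `(a c)³ = 1` -/
theorem param (hF : Fintype.card F = 11) (a : G) (h1 : a * a = 1) (hne : a ≠ 1)
    (h3 : (a * cc hF) ^ 3 = 1) : ∃ y : Fˣ, a = aa y := by
  have h11 := eleven hF
  have h2F := two_ne hF
  haveI : Fact (Nat.Prime 2) := ⟨Nat.prime_two⟩
  have hord : orderOf a = 2 := orderOf_eq_prime (by rw [pow_two]; exact h1) hne
  obtain ⟨A, hA, rfl⟩ := Cfsg.Agent.Lib.Helper2.SL2Four.exists_lift h2F a hord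
  have htr := (Cfsg.Agent.Lib.Helper2.SL2Four.sq_eq_neg_one_iff A).1 hA
  have hdet := A.2
  rw [Matrix.det_fin_two] at hdet
  rw [Matrix.trace_fin_two] at htr
  unfold cc at h3
  rw [← QuotientGroup.mk_mul, ← QuotientGroup.mk_pow, QuotientGroup.eq_one_iff,
    Cfsg.Agent.Lib.Helper2.SL2Four.mem_center_iff'] at h3
  -- the cube of `B = A C`
  have hB2 := Cfsg.Agent.Lib.Helper2.SL2A5.sq_eq (A * Cm hF)
  have hB3 := Cfsg.Agent.Lib.Helper2.SL2A5.pow3 hB2
  rw [← Matrix.SpecialLinearGroup.coe_pow] at hB3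
  have hBc : ((A * Cm hF : SL) : Matrix (Fin 2) (Fin 2) F) =
      !![4 * A 0 0, 3 * A 0 1; 4 * A 1 0, 3 * A 1 1] := by
    rw [Matrix.SpecialLinearGroup.coe_mul, Cm_coe]
    ext i j
    fin_cases i <;> fin_cases j <;> simp [Matrix.mul_apply, Fin.sum_univ_two, mul_comm]
  have htB : ((A * Cm hF : SL) : Matrix (Fin 2) (Fin 2) F).trace = A 0 0 := by
    rw [hBc, Matrix.trace_fin_two_of]
    linear_combination 3 * htr
  rw [htB, hBc] at hB3
  obtain ⟨x, hx⟩ : ∃ x : F, x = A 0 0 := ⟨_, rfl⟩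
  obtain ⟨y, hy⟩ : ∃ y : F, y = A 0 1 := ⟨_, rfl⟩
  obtain ⟨z, hz⟩ : ∃ z : F, z = A 1 0 := ⟨_, rfl⟩
  obtain ⟨w, hw⟩ : ∃ w : F, w = A 1 1 := ⟨_, rfl⟩
  rw [← hx, ← hw] at htr
  rw [← hx, ← hy, ← hz, ← hw] at hB3 hdet
  -- `x ^ 2 = 1`
  have hx2 : x ^ 2 = 1 := by
    by_contra hcon
    have hne' : x ^ 2 - 1 ≠ 0 := sub_ne_zero.mpr hcon
    have e01 : ((A * Cm hF) ^ 3 : SL).1 0 1 = 0 := by
      rcases h3 with h | h <;> rw [h] <;> simp
    have e10 : ((A * Cm hF) ^ 3 : SL).1 1 0 = 0 := by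
      rcases h3 with h | h <;> rw [h] <;> simp
    have e00 : ((A * Cm hF) ^ 3 : SL).1 0 0 = ((A * Cm hF) ^ 3 : SL).1 1 1 := by
      rcases h3 with h | h <;> rw [h] <;> simp
    rw [hB3] at e01 e10 e00
    simp at e01 e10 e00
    have h3F : (3 : F) ≠ 0 := by exact_mod_cast natCast_ne hF 3 (by norm_num) (by norm_num)
    have h4F : (4 : F) ≠ 0 := by exact_mod_cast natCast_ne hF 4 (by norm_num) (by norm_num)
    have h7F : (7 : F) ≠ 0 := by exact_mod_cast natCast_ne hF 7 (by norm_num) (by norm_num)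
    have hy0 : y = 0 := by
      rcases e01 with h | h
      · exact absurd h hne'
      · rcases h with h | h
        · exact absurd h h3F
        · exact h
    have hz0 : z = 0 := by
      rcases e10 with h | h
      · exact absurd h hne'
      · rcases h with h | h
        · exact absurd h h4F
        · exact h
    have hx0 : x = 0 := by
      rcases e00 with h | h
      · have : 7 * x = 0 := by linear_combination h + 3 * htr
        rcases mul_eq_zero.mp this with h | h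
        · exact absurd h h7F
        · exact h
      · exact absurd h hne'
    rw [hx0, hy0] at hdet
    simp at hdet
  have hyz : y * z = -2 := by linear_combination -hdet - hx2 + x * htr
  have hy0 : y ≠ 0 := by
    rintro rfl
    apply h2F
    linear_combination hyz
  have hx1 : x = 1 ∨ x = -1 := by
    have : (x - 1) * (x + 1) = 0 := by linear_combination hx2
    rcases mul_eq_zero.mp this with h | h
    · exact Or.inl (by linear_combination h)
    · exact Or.inr (by linear_combination h)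
  rcases hx1 with h | h
  · refine ⟨Units.mk0 y hy0, ?_⟩
    unfold aa
    congr 1
    apply Subtype.ext
    rw [Am_coe]
    ext i j
    fin_cases i <;> fin_cases j
    · simp [← hx, h]
    · simp [← hy]
    · simp [← hz]
      field_simp
      linear_combination hyz
    · simp [← hw]
      linear_combination htr - h
  · refine ⟨Units.mk0 (-y) (neg_ne_zero.mpr hy0), ?_⟩
    unfold aa
    rw [← Cfsg.Agent.Lib.Helper2.SL2Four.mk_neg]
    congr 1
    apply Subtype.ext
    rw [Matrix.SpecialLinearGroup.coe_neg, Am_coe]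
    ext i j
    fin_cases i <;> fin_cases j
    · simp [← hx, h]
    · simp [← hy]
    · simp [← hz]
      field_simp
      linear_combination -hyz
    · simp [← hw]
      linear_combination htr - h

/-- the product of the two basic involutions -/
theorem Bm_coe : ((Am (1 : Fˣ) * Am (-1 : Fˣ) : SL) : Matrix (Fin 2) (Fin 2) F) =
    !![3, -2; -4, 3] := by
  rw [Matrix.SpecialLinearGroup.coe_mul, Am_coe, Am_coe, Matrix.mul_fin_two]
  ext i j
  fin_cases i <;> fin_cases j <;> simp <;> ring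

theorem Bm_sq (hF : Fintype.card F = 11) :
    (((Am (1 : Fˣ) * Am (-1 : Fˣ)) ^ 2 : SL) : Matrix (Fin 2) (Fin 2) F) = !![6, -1; -2, 6] := by
  have h11 := eleven hF
  rw [Matrix.SpecialLinearGroup.coe_pow, Bm_coe, pow_two, Matrix.mul_fin_two]
  ext i j
  fin_cases i <;> fin_cases j <;> simp
  · linear_combination h11
  · linear_combination (-1) * h11
  · linear_combination (-2) * h11
  · linear_combination h11

theorem Bm_cube (hF : Fintype.card F = 11) :
    (((Am (1 : Fˣ) * Am (-1 : Fˣ)) ^ 3 : SL) : Matrix (Fin 2) (Fin 2) F) = !![0, -4; 3, 0] := by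
  have h11 := eleven hF
  have h2 := Bm_sq hF
  rw [Matrix.SpecialLinearGroup.coe_pow] at h2
  rw [Matrix.SpecialLinearGroup.coe_pow, pow_succ, h2, Bm_coe, Matrix.mul_fin_two]
  ext i j
  fin_cases i <;> fin_cases j <;> simp
  · linear_combination 2 * h11
  · linear_combination (-1) * h11
  · linear_combination (-3) * h11
  · linear_combination 2 * h11

theorem Bm_six (hF : Fintype.card F = 11) : (Am (1 : Fˣ) * Am (-1 : Fˣ) : SL) ^ 6 = -1 := by
  have h11 := eleven hF
  apply Subtype.ext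
  have h3 := Bm_cube hF
  rw [Matrix.SpecialLinearGroup.coe_pow] at h3
  rw [Matrix.SpecialLinearGroup.coe_pow, show (6 : ℕ) = 3 * 2 by norm_num, pow_mul, h3, pow_two,
    Matrix.mul_fin_two, Matrix.SpecialLinearGroup.coe_neg, Matrix.SpecialLinearGroup.coe_one]
  ext i j
  fin_cases i <;> fin_cases j <;> simp
  · linear_combination h11
  · linear_combination h11

theorem KK_ne (hF : Fintype.card F = 11) : KK hF 1 ≠ KK hF (-1) := by
  intro heq
  have h11 := eleven hF
  obtain ⟨b, hb⟩ : ∃ b : G, b = aa (1 : Fˣ) * aa (-1 : Fˣ) := ⟨_, rfl⟩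
  have hbm : b ∈ KK hF 1 := by
    rw [hb]
    apply Subgroup.mul_mem _ (aa_mem hF 1)
    rw [heq]
    exact aa_mem hF (-1)
  have hb' : b = QuotientGroup.mk (Am (1 : Fˣ) * Am (-1 : Fˣ)) := by
    rw [hb]; rfl
  have hb6 : b ^ 6 = 1 := by
    rw [hb', ← QuotientGroup.mk_pow, Bm_six hF]
    exact Cfsg.Agent.Lib.Helper2.SL2A5.mk_neg_one
  have hb2 : b ^ 2 ≠ 1 := by
    rw [hb', ← QuotientGroup.mk_pow, Ne, Cfsg.Agent.Lib.Helper5.mk_eq_one_iff,
      Cfsg.Agent.Lib.Helper5.not_scalar_iff, Bm_sq hF]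
    left
    simp
  have hb3 : b ^ 3 ≠ 1 := by
    rw [hb', ← QuotientGroup.mk_pow, Ne, Cfsg.Agent.Lib.Helper5.mk_eq_one_iff,
      Cfsg.Agent.Lib.Helper5.not_scalar_iff, Bm_cube hF]
    left
    have h4F : (4 : F) ≠ 0 := by exact_mod_cast natCast_ne hF 4 (by norm_num) (by norm_num)
    simpa using h4F
  obtain ⟨e⟩ := (KK_spec hF 1).2
  rcases F2' (e ⟨b, hbm⟩) (by rw [← map_pow, show (⟨b, hbm⟩ : KK hF 1) ^ 6 = 1 from
    Subtype.ext (by rw [Subgroup.coe_pow]; exact hb6), map_one]) with h | h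
  · rw [← map_pow, ← map_one e] at h
    have := e.injective h
    exact hb2 (by simpa using congrArg Subtype.val this)
  · rw [← map_pow, ← map_one e] at h
    have := e.injective h
    exact hb3 (by simpa using congrArg Subtype.val this)

end

end Cfsg.Agent.Lib.Helper5.A5PSL11
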