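import Mathlib
import Cfsg.Agent.Lib.Helper2.AlpDefs
import Cfsg.Agent.Lib.Helper4.SecMod
import Cfsg.Agent.Lib.Helper8.AlpBmod
import Cfsg.Agent.Lib.Helper9.AlpBnil

set_option autoImplicit false
set_option linter.unusedVariables false
set_option linter.unusedSectionVars false

/-! S3782 (Alperin), package B-grp: the Nakayama step, group form (`lcs_step_of_agemo`). -/

namespace Cfsg.Agent.Lib.Helper5.AlpBgrp

open Cfsg.Agent.Lib.Helper2.Alp Cfsg.Agent.Lib.Helper4.SecMod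
open Cfsg.Agent.Lib.Helper8.AlpBmod Cfsg.Agent.Lib.Helper9.AlpBnil
open scoped commutatorElement

section general

/-- compatible additive maps intertwine the powers of `u - 1`. -/
theorem bgrp_intertwine {A A' : Type*} [AddCommGroup A] [AddCommGroup A'] (π : A →+ A')
    (u : AddMonoid.End A) (u' : AddMonoid.End A') (h : ∀ a, π (u a) = u' (π a)) (k : ℕ) :
    ∀ a : A, π (((u - 1) ^ k) a) = ((u' - 1) ^ k) (π a) := by
  induction k with
  | zero => intro a; simp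
  | succ k ih =>
    intro a
    have e1 : ((u - 1) ^ (k + 1)) a = ((u - 1) ^ k) (u a - a) := by
      rw [pow_succ]; rfl
    have e2 : ((u' - 1) ^ (k + 1)) (π a) = ((u' - 1) ^ k) (u' (π a) - π a) := by
      rw [pow_succ]; rfl
    rw [e1, e2, ih, map_sub, h]

end general

section maps

variable {T : Type*} [Group T] {X Y Z L : Subgroup T}

/-- the projection `X/Z → X/Y` of section modules (`Z ≤ Y`). -/
noncomputable def secProj (hXZ : Sec X Z L) (hXY : Sec X Y L) (hZY : Z ≤ Y) : hXZ.M →+ hXY.M :=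
  AddMonoidHom.mk'
    (fun m => Additive.ofMul (Quotient.map' (s₁ := QuotientGroup.leftRel (Z.subgroupOf X))
      (s₂ := QuotientGroup.leftRel (Y.subgroupOf X)) (fun x : X => x)
      (by
        intro a b hab
        rw [QuotientGroup.leftRel_apply, Subgroup.mem_subgroupOf] at hab ⊢
        exact hZY hab)
      (Additive.toMul m)))
    (by
      intro a b
      obtain ⟨x, hx, rfl⟩ := hXZ.cls_surj a
      obtain ⟨y, hy, rfl⟩ := hXZ.cls_surj b
      rfl)

theorem secProj_cls (hXZ : Sec X Z L) (hXY : Sec X Y L) (hZY : Z ≤ Y) {x : T} (hx : x ∈ X) :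
    secProj hXZ hXY hZY (hXZ.cls x hx) = hXY.cls x hx := rfl

theorem secProj_smul (hXZ : Sec X Z L) (hXY : Sec X Y L) (hZY : Z ≤ Y) (g : L) (a : hXZ.M) :
    secProj hXZ hXY hZY (g • a) = g • secProj hXZ hXY hZY a := by
  obtain ⟨x, hx, rfl⟩ := hXZ.cls_surj a
  rw [hXZ.smul_cls, secProj_cls, secProj_cls, hXY.smul_cls]

/-- the inclusion `Y/Z → X/Z` of section modules (`Y ≤ X`). -/
noncomputable def secIncl (hYZ : Sec Y Z L) (hXZ : Sec X Z L) (hYX : Y ≤ X) : hYZ.M →+ hXZ.M :=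
  AddMonoidHom.mk'
    (fun m => Additive.ofMul (Quotient.map' (s₁ := QuotientGroup.leftRel (Z.subgroupOf Y))
      (s₂ := QuotientGroup.leftRel (Z.subgroupOf X)) (fun y : Y => (⟨(y : T), hYX y.2⟩ : X))
      (by
        intro a b hab
        rw [QuotientGroup.leftRel_apply, Subgroup.mem_subgroupOf] at hab ⊢
        exact hab)
      (Additive.toMul m)))
    (by
      intro a b
      obtain ⟨x, hx, rfl⟩ := hYZ.cls_surj a
      obtain ⟨y, hy, rfl⟩ := hYZ.cls_surj b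
      rfl)

theorem secIncl_cls (hYZ : Sec Y Z L) (hXZ : Sec X Z L) (hYX : Y ≤ X) {y : T} (hy : y ∈ Y) :
    secIncl hYZ hXZ hYX (hYZ.cls y hy) = hXZ.cls y (hYX hy) := rfl

theorem secIncl_smul (hYZ : Sec Y Z L) (hXZ : Sec X Z L) (hYX : Y ≤ X) (g : L) (a : hYZ.M) :
    secIncl hYZ hXZ hYX (g • a) = g • secIncl hYZ hXZ hYX a := by
  obtain ⟨y, hy, rfl⟩ := hYZ.cls_surj a
  rw [hYZ.smul_cls, secIncl_cls, secIncl_cls, hXZ.smul_cls]

end maps

section main

variable {P : Type*} [Group P] [Finite P] {p : ℕ} [Fact p.Prime]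

/-- a section of a finite `p`-group has `p`-power order. -/
theorem bgrp_card_pow (hP : IsPGroup p P) {X Y : Subgroup P} (h : Sec X Y (⊤ : Subgroup P)) :
    ∃ k, Nat.card h.M = p ^ k := by
  obtain ⟨n, hn⟩ := IsPGroup.iff_card.1 hP
  have h1 : Nat.card h.M ∣ p ^ n := by
    rw [← hn]
    exact h.card_dvd.trans (Subgroup.card_subgroup_dvd_card X)
  obtain ⟨k, _, hk⟩ := (Nat.dvd_prime_pow (Fact.out : p.Prime)).1 h1
  exact ⟨k, hk⟩

/-- the endomorphism induced by a `p`-element has `p`-power order. -/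
theorem bgrp_pow_one (hP : IsPGroup p P) {X Y : Subgroup P} (h : Sec X Y (⊤ : Subgroup P))
    (g : ↥(⊤ : Subgroup P)) :
    ∃ j, (DistribMulAction.toAddMonoidEnd ↥(⊤ : Subgroup P) h.M g) ^ (p ^ j) = 1 := by
  obtain ⟨j, hj⟩ := hP (g : P)
  refine ⟨j, ?_⟩
  rw [← map_pow]
  have : g ^ (p ^ j) = 1 := Subtype.ext (by simpa using hj)
  rw [this, map_one]

/-- `(u_g - 1)^B = 0` on a section of order at most `p^B`. -/
theorem bgrp_nil (hP : IsPGroup p P) {X Y : Subgroup P} (h : Sec X Y (⊤ : Subgroup P)) (B : ℕ)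
    (hB : Y.relIndex X ≤ p ^ B) (g : ↥(⊤ : Subgroup P)) :
    (DistribMulAction.toAddMonoidEnd ↥(⊤ : Subgroup P) h.M g - 1) ^ B = 0 := by
  obtain ⟨j, hj⟩ := bgrp_pow_one hP h g
  exact sub_one_pow_eq_zero (bgrp_card_pow hP h) _ j hj B (by rw [h.card_eq]; exact hB)

/-- (B-grp) the Nakayama step, group form. -/
theorem lcs_step_of_agemo (hP : IsPGroup p P) (s N B : ℕ) (X Y Z : Subgroup P) [X.Normal]
    [Y.Normal] [Z.Normal]
    (hZY : Z ≤ Y) (hYX : Y ≤ X) (hXX : ⁅X, X⁆ ≤ Z) (hY : ⁅X, agemo p s P⁆ = Y)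
    (hZ : ⁅Y, agemo p s P⁆ ≤ Z)
    (hX1 : ∀ x ∈ X, x ^ (p ^ N) ∈ Y) (hY1 : ∀ y ∈ Y, y ^ (p ^ N) ∈ Z)
    (hXB : Y.relIndex X ≤ p ^ B) (hYB : Z.relIndex Y ≤ p ^ B)
    (hs1 : 2 * B ≤ p ^ s) (hs2 : ∀ t, p ^ t < B → t + N + 1 ≤ s) : Y ≤ Z := by
  have comm_of : ∀ (X' Z' : Subgroup P), ⁅X', X'⁆ ≤ Z' →
      ∀ x ∈ X', ∀ y ∈ X', x * y * x⁻¹ * y⁻¹ ∈ Z' := by
    intro X' Z' h x hx y hy
    have := h (Subgroup.commutator_mem_commutator hx hy)
    rwa [commutatorElement_def] at this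
  have hXZ : Sec X Z (⊤ : Subgroup P) :=
    ⟨hZY.trans hYX, comm_of X Z hXX, fun g _ x hx => ‹X.Normal›.conj_mem x hx g,
      fun g _ x hx => ‹Z.Normal›.conj_mem x hx g⟩
  have hXY : Sec X Y (⊤ : Subgroup P) :=
    ⟨hYX, comm_of X Y (hXX.trans hZY), fun g _ x hx => ‹X.Normal›.conj_mem x hx g,
      fun g _ x hx => ‹Y.Normal›.conj_mem x hx g⟩
  have hYZ : Sec Y Z (⊤ : Subgroup P) :=
    ⟨hZY, comm_of Y Z ((Subgroup.commutator_mono hYX hYX).trans hXX),
      fun g _ x hx => ‹Y.Normal›.conj_mem x hx g, fun g _ x hx => ‹Z.Normal›.conj_mem x hx g⟩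
  let uA : ↥(⊤ : Subgroup P) →* AddMonoid.End hXZ.M :=
    DistribMulAction.toAddMonoidEnd ↥(⊤ : Subgroup P) hXZ.M
  have huA : ∀ (g : ↥(⊤ : Subgroup P)) (a : hXZ.M), (uA g - 1) a = g • a - a := fun g a => rfl
  let M : AddSubgroup hXZ.M := (secIncl hYZ hXZ hYX).range
  let S : Set hXZ.M := {x | ∃ u ∈ Set.range uA, ∃ a : hXZ.M, x = (u ^ (p ^ s) - 1) a}
  -- kernel of the projection lies in `M`
  have hker : ∀ a : hXZ.M, secProj hXZ hXY hZY a = 0 → a ∈ M := by
    intro a ha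
    obtain ⟨x, hx, rfl⟩ := hXZ.cls_surj a
    rw [secProj_cls, hXY.cls_eq_zero] at ha
    exact ⟨hYZ.cls x ha, rfl⟩
  have hMbot : M = ⊥ := by
    apply nakayama_mod (p := p) M N B s (Set.range uA)
    · intro a
      obtain ⟨x, hx, rfl⟩ := hXZ.cls_surj a
      rw [← hXZ.cls_pow]
      exact ⟨hYZ.cls _ (hX1 x hx), rfl⟩
    · rintro a ⟨b, rfl⟩
      rw [← map_nsmul, hYZ.nsmul_eq_zero hY1, map_zero]
    · rintro u ⟨g, rfl⟩ a
      apply hker
      have h1 := bgrp_intertwine (secProj hXZ hXY hZY) (uA g)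
        (DistribMulAction.toAddMonoidEnd ↥(⊤ : Subgroup P) hXY.M g)
        (fun a => secProj_smul hXZ hXY hZY g a) B a
      rw [h1, bgrp_nil hP hXY B hXB g]
      rfl
    · rintro u ⟨g, rfl⟩ a ⟨b, rfl⟩
      have h1 := bgrp_intertwine (secIncl hYZ hXZ hYX)
        (DistribMulAction.toAddMonoidEnd ↥(⊤ : Subgroup P) hYZ.M g) (uA g)
        (fun a => secIncl_smul hYZ hXZ hYX g a) B b
      rw [← h1, bgrp_nil hP hYZ B hYB g]
      exact map_zero _
    · -- generation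
      set C : AddSubgroup hXZ.M := AddSubgroup.closure S with hC
      let Tg : Subgroup P :=
        { carrier := {h | ∀ a : hXZ.M, (⟨h, Subgroup.mem_top h⟩ : ↥(⊤ : Subgroup P)) • a - a ∈ C}
          one_mem' := by
            intro a
            have : (⟨1, Subgroup.mem_top 1⟩ : ↥(⊤ : Subgroup P)) = 1 := rfl
            rw [this, one_smul, sub_self]
            exact C.zero_mem
          mul_mem' := by
            intro h1 h2 hh1 hh2 a
            have e : (⟨h1 * h2, Subgroup.mem_top _⟩ : ↥(⊤ : Subgroup P)) =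
                ⟨h1, Subgroup.mem_top _⟩ * ⟨h2, Subgroup.mem_top _⟩ := rfl
            rw [e, mul_smul]
            have := C.add_mem (hh1 ((⟨h2, Subgroup.mem_top _⟩ : ↥(⊤ : Subgroup P)) • a)) (hh2 a)
            rwa [sub_add_sub_cancel] at this
          inv_mem' := by
            intro h1 hh1 a
            have e : (⟨h1⁻¹, Subgroup.mem_top _⟩ : ↥(⊤ : Subgroup P)) =
                (⟨h1, Subgroup.mem_top _⟩ : ↥(⊤ : Subgroup P))⁻¹ := rfl
            rw [e]
            have := C.neg_mem (hh1 ((⟨h1, Subgroup.mem_top _⟩ : ↥(⊤ : Subgroup P))⁻¹ • a))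
            rwa [smul_inv_smul, neg_sub] at this }
      have hagT : agemo p s P ≤ Tg := by
        unfold agemo
        rw [Subgroup.closure_le]
        rintro _ ⟨g, rfl⟩ a
        apply AddSubgroup.subset_closure
        refine ⟨uA ⟨g, Subgroup.mem_top g⟩, ⟨_, rfl⟩, a, ?_⟩
        rw [← map_pow, huA]
        rfl
      have hYpre : Y ≤ hXZ.pre C := by
        rw [← hY, Subgroup.commutator_le]
        intro x hx h hh
        have hxh : h * x⁻¹ * h⁻¹ ∈ X := ‹X.Normal›.conj_mem _ (X.inv_mem hx) h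
        have e : ⁅x, h⁆ = x * (h * x⁻¹ * h⁻¹) := by rw [commutatorElement_def]; group
        rw [e, hXZ.mem_pre_iff (X.mul_mem hx hxh), hXZ.cls_mul hx hxh]
        have h2 : hXZ.cls (h * x⁻¹ * h⁻¹) hxh =
            (⟨h, Subgroup.mem_top h⟩ : ↥(⊤ : Subgroup P)) • hXZ.cls x⁻¹ (X.inv_mem hx) := rfl
        rw [h2, hXZ.cls_inv hx, smul_neg]
        have h3 := C.neg_mem (hagT hh (hXZ.cls x hx))
        have e2 : hXZ.cls x hx + -((⟨h, Subgroup.mem_top h⟩ : ↥(⊤ : Subgroup P)) • hXZ.cls x hx) =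
            -((⟨h, Subgroup.mem_top h⟩ : ↥(⊤ : Subgroup P)) • hXZ.cls x hx - hXZ.cls x hx) := by
          abel
        rw [e2]
        exact h3
      rintro a ⟨b, rfl⟩
      obtain ⟨y, hy, rfl⟩ := hYZ.cls_surj b
      rw [secIncl_cls]
      exact (hXZ.mem_pre_iff (hYX hy)).1 (hYpre hy)
    · exact hs1
    · exact hs2
  intro y hy
  have h1 : hXZ.cls y (hYX hy) ∈ M := ⟨hYZ.cls y hy, rfl⟩
  rw [hMbot, AddSubgroup.mem_bot, hXZ.cls_eq_zero] at h1
  exact h1

end main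

end Cfsg.Agent.Lib.Helper5.AlpBgrp
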