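import Mathlib

set_option autoImplicit false

/-!
# Polynomial sequences in a filtered group (Lazard--Leibman), by induction on the order of
differences, and a weak Hall--Petresco formula.
-/

namespace Cfsg.Agent.Lib.Helper5.PolySeq

open scoped commutatorElement

variable {X : Type*} [Group X]

/-- left difference of a sequence -/
def der (g : ℕ → X) : ℕ → X := fun n => g (n + 1) * (g n)⁻¹

/-- shift of a sequence -/
def sh (g : ℕ → X) : ℕ → X := fun n => g (n + 1)

theorem der_apply (g : ℕ → X) (n : ℕ) : der g n = g (n + 1) * (g n)⁻¹ := rfl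

theorem sh_apply (g : ℕ → X) (n : ℕ) : sh g n = g (n + 1) := rfl

theorem der_one : der (1 : ℕ → X) = 1 := by
  funext n
  simp [der]

theorem der_sh (g : ℕ → X) : der (sh g) = sh (der g) := rfl

theorem comm_apply (g h : ℕ → X) (n : ℕ) : ⁅g, h⁆ n = ⁅g n, h n⁆ := by
  simp [commutatorElement_def]

theorem der_mul (g h : ℕ → X) : der (g * h) = der g * (g * der h * g⁻¹) := by
  funext n
  simp only [der, Pi.mul_apply, Pi.inv_apply]
  group

theorem der_inv (g : ℕ → X) : der g⁻¹ = (sh g)⁻¹ * (der g)⁻¹ * sh g := by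
  funext n
  simp only [der, sh, Pi.mul_apply, Pi.inv_apply]
  group

theorem der_comm (g h : ℕ → X) :
    der ⁅g, h⁆ = (der g * ⁅g, der h⁆ * (der g)⁻¹) *
      ((der g * ⁅der h, ⁅g, h⁆⁆ * (der g)⁻¹) * ⁅der g, ⁅g, h⁆⁆) *
      (⁅g, h⁆ * ⁅der g, sh h⁆ * ⁅g, h⁆⁻¹) := by
  funext n
  simp only [der, sh, Pi.mul_apply, Pi.inv_apply, comm_apply, commutatorElement_def]
  group

/-- polynomial up to order `M` at level `k` -/
def PM (Γ : ℕ → Subgroup X) : ℕ → ℕ → (ℕ → X) → Prop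
  | 0, k, g => ∀ n, g n ∈ Γ k
  | (M + 1), k, g => (∀ n, g n ∈ Γ k) ∧ PM Γ M (k + 1) (der g)

variable {Γ : ℕ → Subgroup X}

theorem PM_vals {M k : ℕ} {g : ℕ → X} (h : PM Γ M k g) : ∀ n, g n ∈ Γ k := by
  cases M with
  | zero => exact h
  | succ M => exact h.1

theorem PM_one (M k : ℕ) : PM Γ M k (1 : ℕ → X) := by
  induction M generalizing k with
  | zero => intro n; exact (Γ k).one_mem
  | succ M ih =>
    refine ⟨fun n => (Γ k).one_mem, ?_⟩
    rw [der_one]
    exact ih _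

theorem PM_of_succ {M k : ℕ} {g : ℕ → X} (h : PM Γ (M + 1) k g) : PM Γ M k g := by
  induction M generalizing k g with
  | zero => exact h.1
  | succ M ih => exact ⟨h.1, ih h.2⟩

theorem PM_mono_succ (hanti : Antitone Γ) {M k : ℕ} {g : ℕ → X} (h : PM Γ M (k + 1) g) :
    PM Γ M k g := by
  induction M generalizing k g with
  | zero => intro n; exact hanti (Nat.le_succ k) (h n)
  | succ M ih => exact ⟨fun n => hanti (Nat.le_succ k) (h.1 n), ih h.2⟩

theorem PM_mono (hanti : Antitone Γ) {M k k' : ℕ} (hk : k ≤ k') {g : ℕ → X}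
    (h : PM Γ M k' g) : PM Γ M k g := by
  induction hk with
  | refl => exact h
  | step _ ih => exact ih (PM_mono_succ hanti h)

theorem PM_sh {M k : ℕ} {g : ℕ → X} (h : PM Γ M k g) : PM Γ M k (sh g) := by
  induction M generalizing k g with
  | zero => intro n; exact h (n + 1)
  | succ M ih =>
    refine ⟨fun n => h.1 (n + 1), ?_⟩
    rw [der_sh]
    exact ih h.2

/-- closure properties at order `M` -/
structure Cl (Γ : ℕ → Subgroup X) (M : ℕ) : Prop where
  mul : ∀ k g h, PM Γ M k g → PM Γ M k h → PM Γ M k (g * h)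
  inv : ∀ k g, PM Γ M k g → PM Γ M k g⁻¹
  comm : ∀ i j g h, PM Γ M i g → PM Γ M j h → PM Γ M (i + j) ⁅g, h⁆

theorem Cl.conj (hanti : Antitone Γ) {M : ℕ} (hC : Cl Γ M) {l k : ℕ} {t w : ℕ → X}
    (ht : PM Γ M l t) (hw : PM Γ M k w) : PM Γ M k (t * w * t⁻¹) := by
  have h1 : t * w * t⁻¹ = ⁅t, w⁆ * w := by
    rw [commutatorElement_def]; group
  rw [h1]
  exact hC.mul _ _ _ (PM_mono hanti (Nat.le_add_left k l) (hC.comm _ _ _ _ ht hw)) hw

theorem cl_zero (hcomm : ∀ i j, ⁅Γ i, Γ j⁆ ≤ Γ (i + j)) : Cl Γ 0 := by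
  refine ⟨?_, ?_, ?_⟩
  · intro k g h hg hh n
    exact (Γ k).mul_mem (hg n) (hh n)
  · intro k g hg n
    exact (Γ k).inv_mem (hg n)
  · intro i j g h hg hh n
    rw [comm_apply]
    exact hcomm i j (Subgroup.commutator_mem_commutator (hg n) (hh n))

theorem cl_succ (hanti : Antitone Γ) (hcomm : ∀ i j, ⁅Γ i, Γ j⁆ ≤ Γ (i + j)) {M : ℕ}
    (hC : Cl Γ M) : Cl Γ (M + 1) := by
  refine ⟨?_, ?_, ?_⟩
  · intro k g h hg hh
    refine ⟨fun n => (Γ k).mul_mem (hg.1 n) (hh.1 n), ?_⟩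
    rw [der_mul]
    exact hC.mul _ _ _ hg.2 (hC.conj hanti (PM_of_succ hg) hh.2)
  · intro k g hg
    refine ⟨fun n => (Γ k).inv_mem (hg.1 n), ?_⟩
    rw [der_inv]
    have h1 : PM Γ M k (sh g)⁻¹ := hC.inv _ _ (PM_sh (PM_of_succ hg))
    have h2 := hC.conj hanti h1 (hC.inv _ _ hg.2)
    rw [inv_inv] at h2
    exact h2
  · intro i j g h hg hh
    refine ⟨?_, ?_⟩
    · intro n
      rw [comm_apply]
      exact hcomm i j (Subgroup.commutator_mem_commutator (hg.1 n) (hh.1 n))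
    · rw [der_comm]
      have hg0 := PM_of_succ hg
      have hh0 := PM_of_succ hh
      have hc : PM Γ M (i + j) ⁅g, h⁆ := hC.comm _ _ _ _ hg0 hh0
      have hu : PM Γ M (i + 1) (der g) := hg.2
      have hv : PM Γ M (j + 1) (der h) := hh.2
      have t1 : PM Γ M (i + j + 1) (der g * ⁅g, der h⁆ * (der g)⁻¹) := by
        apply hC.conj hanti hu
        have := hC.comm _ _ _ _ hg0 hv
        rwa [← add_assoc] at this
      have t2 : PM Γ M (i + j + 1) (der g * ⁅der h, ⁅g, h⁆⁆ * (der g)⁻¹) := by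
        apply hC.conj hanti hu
        have := hC.comm _ _ _ _ hv hc
        exact PM_mono hanti (by omega) this
      have t3 : PM Γ M (i + j + 1) ⁅der g, ⁅g, h⁆⁆ := by
        have := hC.comm _ _ _ _ hu hc
        exact PM_mono hanti (by omega) this
      have t4 : PM Γ M (i + j + 1) (⁅g, h⁆ * ⁅der g, sh h⁆ * ⁅g, h⁆⁻¹) := by
        apply hC.conj hanti hc
        have := hC.comm _ _ _ _ hu (PM_sh hh0)
        exact PM_mono hanti (by omega) this
      exact hC.mul _ _ _ (hC.mul _ _ _ t1 (hC.mul _ _ _ t2 t3)) t4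

theorem cl (hanti : Antitone Γ) (hcomm : ∀ i j, ⁅Γ i, Γ j⁆ ≤ Γ (i + j)) : ∀ M, Cl Γ M
  | 0 => cl_zero hcomm
  | M + 1 => cl_succ hanti hcomm (cl hanti hcomm M)

/-- polynomial sequences at level `k` -/
def P (Γ : ℕ → Subgroup X) (k : ℕ) (g : ℕ → X) : Prop := ∀ M, PM Γ M k g

theorem P_iff {k : ℕ} {g : ℕ → X} : P Γ k g ↔ (∀ n, g n ∈ Γ k) ∧ P Γ (k + 1) (der g) := by
  constructor
  · intro h
    exact ⟨h 0, fun M => (h (M + 1)).2⟩
  · rintro ⟨h1, h2⟩ M
    cases M with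
    | zero => exact h1
    | succ M => exact ⟨h1, h2 M⟩

theorem P_one (k : ℕ) : P Γ k (1 : ℕ → X) := fun M => PM_one M k

theorem P_mul (hanti : Antitone Γ) (hcomm : ∀ i j, ⁅Γ i, Γ j⁆ ≤ Γ (i + j)) {k : ℕ}
    {g h : ℕ → X} (hg : P Γ k g) (hh : P Γ k h) : P Γ k (g * h) :=
  fun M => (cl hanti hcomm M).mul _ _ _ (hg M) (hh M)

theorem P_inv (hanti : Antitone Γ) (hcomm : ∀ i j, ⁅Γ i, Γ j⁆ ≤ Γ (i + j)) {k : ℕ}
    {g : ℕ → X} (hg : P Γ k g) : P Γ k g⁻¹ :=
  fun M => (cl hanti hcomm M).inv _ _ (hg M)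

/-- binomial monomials are polynomial -/
theorem P_monomial (hanti : Antitone Γ) (m : ℕ) : ∀ (k : ℕ) (c : X), c ∈ Γ (k + m) →
    P Γ k (fun n => c ^ (n.choose m)) := by
  induction m with
  | zero =>
    intro k c hc
    rw [P_iff]
    refine ⟨fun n => by simpa using hc, ?_⟩
    have : der (fun n : ℕ => c ^ (n.choose 0)) = 1 := by
      funext n
      simp [der]
    rw [this]
    exact P_one _
  | succ m ih =>
    intro k c hc
    rw [P_iff]
    refine ⟨fun n => hanti (Nat.le_add_right k (m + 1)) ((Γ _).pow_mem hc _), ?_⟩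
    have : der (fun n : ℕ => c ^ (n.choose (m + 1))) = fun n => c ^ (n.choose m) := by
      funext n
      simp only [der]
      rw [Nat.choose_succ_succ, pow_add, mul_inv_cancel_right]
    rw [this]
    apply ih
    have : k + 1 + m = k + (m + 1) := by omega
    rw [this]
    exact hc

theorem P_pow (hanti : Antitone Γ) {x : X} (hx : x ∈ Γ 1) : P Γ 0 (fun n => x ^ n) := by
  have := P_monomial hanti 1 0 x (by simpa using hx)
  simpa using this

/-- a polynomial sequence at level `k` vanishing at `0, …, m-1` has values in `Γ (k + m)` -/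
theorem P_vanish (m : ℕ) : ∀ (k : ℕ) (g : ℕ → X), P Γ k g → (∀ j < m, g j = 1) →
    ∀ n, g n ∈ Γ (k + m) := by
  induction m with
  | zero =>
    intro k g hg _ n
    exact (P_iff.mp hg).1 n
  | succ m ih =>
    intro k g hg hv
    have hd := (P_iff.mp hg).2
    have hdv : ∀ j < m, der g j = 1 := by
      intro j hj
      rw [der_apply, hv (j + 1) (by omega), hv j (by omega)]
      simp
    have h1 := ih (k + 1) (der g) hd hdv
    have e : k + 1 + m = k + (m + 1) := by omega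
    rw [e] at h1
    intro n
    induction n with
    | zero =>
      rw [hv 0 (by omega)]
      exact (Γ _).one_mem
    | succ n ihn =>
      have : g (n + 1) = der g n * g n := by
        rw [der_apply, inv_mul_cancel_right]
      rw [this]
      exact (Γ _).mul_mem (h1 n) ihn

/-- the tail of the Taylor expansion evaluated at `N` lies in `Υ` -/
theorem tail_mem (hanti : Antitone Γ) (hcomm : ∀ i j, ⁅Γ i, Γ j⁆ ≤ Γ (i + j)) {s : ℕ}
    (hs : Γ s = ⊥) (N : ℕ) (Υ : Subgroup X)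
    (hΥ : ∀ i, 2 ≤ i → i < s → ∀ c ∈ Γ i, c ^ (N.choose i) ∈ Υ) :
    ∀ (d m : ℕ) (g : ℕ → X), m + d = s → 2 ≤ m → P Γ 0 g → (∀ j < m, g j = 1) → g N ∈ Υ := by
  intro d
  induction d with
  | zero =>
    intro m g hm _ hg hv
    have := P_vanish m 0 g hg hv N
    rw [zero_add, show m = s by omega, hs, Subgroup.mem_bot] at this
    rw [this]
    exact Υ.one_mem
  | succ d ih =>
    intro m g hm hm2 hg hv
    have hc : g m ∈ Γ m := by
      have := P_vanish m 0 g hg hv m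
      rwa [zero_add] at this
    set c := g m with hcdef
    have he : P Γ 0 (fun n : ℕ => c ^ (n.choose m)) := P_monomial hanti m 0 c (by rwa [zero_add])
    have hg' : P Γ 0 ((fun n : ℕ => c ^ (n.choose m))⁻¹ * g) := P_mul hanti hcomm (P_inv hanti hcomm he) hg
    have hv' : ∀ j < m + 1, ((fun n : ℕ => c ^ (n.choose m))⁻¹ * g) j = 1 := by
      intro j hj
      simp only [Pi.mul_apply, Pi.inv_apply]
      rcases Nat.lt_succ_iff_lt_or_eq.mp hj with h | h
      · rw [Nat.choose_eq_zero_of_lt h, pow_zero, hv j h]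
        simp
      · rw [h, Nat.choose_self, pow_one, ← hcdef]
        simp
    have := ih (m + 1) _ (by omega) (by omega) hg' hv'
    simp only [Pi.mul_apply, Pi.inv_apply] at this
    have h2 : g N = c ^ (N.choose m) * ((c ^ (N.choose m))⁻¹ * g N) := by group
    rw [h2]
    exact Υ.mul_mem (hΥ m hm2 (by omega) c hc) this

/-- weak Hall--Petresco: `(xy)^{-N} x^N y^N` lies in any subgroup containing the
`N.choose i`-th powers of `Γ i`, `2 ≤ i < s`, when `Γ s = ⊥`. -/
theorem hall_petresco_weak (hanti : Antitone Γ) (hcomm : ∀ i j, ⁅Γ i, Γ j⁆ ≤ Γ (i + j)) {s : ℕ}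
    (hs2 : 2 ≤ s) (hs : Γ s = ⊥) (N : ℕ) (Υ : Subgroup X)
    (hΥ : ∀ i, 2 ≤ i → i < s → ∀ c ∈ Γ i, c ^ (N.choose i) ∈ Υ) {x y : X} (hx : x ∈ Γ 1)
    (hy : y ∈ Γ 1) : ((x * y) ^ N)⁻¹ * x ^ N * y ^ N ∈ Υ := by
  have hxy : P Γ 0 (fun n => (x * y) ^ n) := P_pow hanti ((Γ 1).mul_mem hx hy)
  have hg : P Γ 0 ((fun n => (x * y) ^ n)⁻¹ * (fun n => x ^ n) * (fun n => y ^ n)) :=
    P_mul hanti hcomm (P_mul hanti hcomm (P_inv hanti hcomm hxy) (P_pow hanti hx)) (P_pow hanti hy)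
  have := tail_mem hanti hcomm hs N Υ hΥ (s - 2) 2 _ (by omega) le_rfl hg (by
    intro j hj
    interval_cases j
    · simp
    · simp [mul_assoc])
  simpa using this

end Cfsg.Agent.Lib.Helper5.PolySeq
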