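import Mathlib
import Cfsg.Agent.Lib.Helper2.AlpDefs
import Cfsg.Agent.S4206
import Cfsg.Agent.Lib.Helper5.AlpBgrp
import Cfsg.Agent.Lib.Helper7.AlpGA
import Cfsg.Agent.Lib.Helper9.AlpGR

set_option autoImplicit false
set_option linter.unusedVariables false
set_option linter.unusedSectionVars false

/-! S3782 (Alperin), package GB: `℧_s(P)` has class at most `ξ + 2` (`agemo_nilpotent`). -/

namespace Cfsg.Agent.Lib.Helper5.AlpGB

open Cfsg.Agent.Lib.Helper2.Alp
open Cfsg.Agent.Lib.Helper5.AlpBgrp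
open Cfsg.Agent.Lib.Helper7.AlpGA Cfsg.Agent.Lib.Helper9.AlpGR
open scoped commutatorElement

universe u

section

variable {P : Type*} [Group P]

/-- `℧_s(P)` is characteristic. -/
instance agemo_characteristic (p s : ℕ) : (agemo p s P).Characteristic := by
  rw [Subgroup.characteristic_iff_map_eq]
  intro φ
  unfold agemo
  rw [MonoidHom.map_closure]
  congr 1
  ext x
  constructor
  · rintro ⟨_, ⟨g, rfl⟩, rfl⟩
    exact ⟨φ g, by simp⟩
  · rintro ⟨g, rfl⟩
    exact ⟨(φ.symm g) ^ (p ^ s), ⟨_, rfl⟩, by simp⟩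

/-- a characteristic subgroup is mapped onto itself by the coercion of a `MulEquiv`. -/
theorem map_coe_eq_of_characteristic (X : Subgroup P) [hX : X.Characteristic] (α : P ≃* P) :
    X.map (α : P →* P) = X :=
  Subgroup.characteristic_iff_map_eq.1 hX α

/-- if `X_{k+1} = [X_k, H]` stabilises in a nilpotent `H`, it is trivial. -/
theorem lcs_eq_bot_of_le_succ (H : Subgroup P) (hnil : Group.IsNilpotent H) (k : ℕ)
    (h : H.lowerCentralSeries k ≤ H.lowerCentralSeries (k + 1)) : H.lowerCentralSeries k = ⊥ := by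
  have heq : H.lowerCentralSeries (k + 1) = H.lowerCentralSeries k :=
    le_antisymm (Subgroup.lowerCentralSeries_antitone H (Nat.le_succ k)) h
  have hall : ∀ t, H.lowerCentralSeries (k + t) = H.lowerCentralSeries k := by
    intro t
    induction t with
    | zero => rfl
    | succ t ih =>
      rw [← add_assoc, Subgroup.lowerCentralSeries_succ, ih, ← Subgroup.lowerCentralSeries_succ, heq]
  obtain ⟨n, hn⟩ := (Subgroup.isNilpotent_iff_lowerCentralSeries H).1 hnil
  rw [← hall n, eq_bot_iff, ← hn]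
  exact Subgroup.lowerCentralSeries_antitone H (Nat.le_add_left n k)

end

/-- (GB) in `_of` form: `℧_s(P)` has class at most `max (ξ+1) 2` for the explicit `s`, given the
Lie-ring theorem L3. -/
theorem agemo_nilpotent_of (h3 : L3Statement.{u}) {P : Type u} [Group P] [Finite P] {p : ℕ}
    [Fact p.Prime] (hP : IsPGroup p P) (α : P ≃* P) (hαp : α ^ p = 1) (m : ℕ)
    (hfix : Nat.card {g : P // α g = g} ≤ p ^ m) (s : ℕ)
    (hs : (m + xi p + 2) + p * m * (m + xi p + 2) + 1 ≤ s) :
    (agemo p s P).lowerCentralSeries (xi p + 2) = ⊥ := by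
  have hp : p.Prime := Fact.out
  set H : Subgroup P := agemo p s P with hH
  set N : ℕ := m + xi p + 2 with hN
  set B : ℕ := p * m * N with hB
  set i : ℕ := max (xi p) 1 with hi
  have hi1 : 1 ≤ i := le_max_right _ _
  have hiξ : xi p ≤ i := le_max_left _ _
  have hHα : H.map (α : P →* P) = H := map_coe_eq_of_characteristic H α
  have hanti := Subgroup.lowerCentralSeries_antitone H
  have hXα : ∀ n, (H.lowerCentralSeries n).map (α : P →* P) = H.lowerCentralSeries n :=
    fun n => map_coe_eq_of_characteristic _ α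
  have hnorm : ∀ n, (H.lowerCentralSeries n).Normal := fun n => Subgroup.normal_of_characteristic _
  haveI := hnorm i
  haveI := hnorm (i + 1)
  haveI := hnorm (i + 2)
  have hpow : ∀ n, xi p ≤ n → ∀ x ∈ H.lowerCentralSeries n,
      x ^ (p ^ N) ∈ H.lowerCentralSeries (n + 1) :=
    fun n hn x hx => pow_mem_lcs_succ_sub_of h3 hP α hαp m hfix H hHα n hn x hx
  have hidx : ∀ n, xi p ≤ n →
      (H.lowerCentralSeries (n + 1)).relIndex (H.lowerCentralSeries n) ≤ p ^ B := by
    intro n hn
    apply relIndex_le_of_exponent α hαp m hfix _ _ (hanti (Nat.le_succ n)) (hXα n) (hXα (n + 1))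
      _ N (hpow n hn)
    rw [Subgroup.lowerCentralSeries_succ]
    exact Subgroup.commutator_mono le_rfl (hanti (Nat.zero_le n))
  have hXX : ⁅H.lowerCentralSeries i, H.lowerCentralSeries i⁆ ≤ H.lowerCentralSeries (i + 2) := by
    have h1 := Cfsg.Agent.S4206.result (G := P) (fun n => H.lowerCentralSeries n) hnorm
      (fun n => hanti (Nat.le_succ n)) H (fun n => le_of_eq rfl) i i
    exact h1.trans (hanti (by omega))
  have hs1 : 2 * B ≤ p ^ s := by
    have h1 : B + 1 ≤ s := by omega
    have h2 : 2 ^ (B + 1) ≤ 2 ^ s := Nat.pow_le_pow_right (by norm_num) h1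
    have h3 : 2 ^ s ≤ p ^ s := Nat.pow_le_pow_left hp.two_le s
    have h4 : B < 2 ^ B := Nat.lt_two_pow_self
    have h5 : 2 ^ (B + 1) = 2 * 2 ^ B := by rw [pow_succ]; ring
    omega
  have hs2 : ∀ t, p ^ t < B → t + N + 1 ≤ s := by
    intro t ht
    have h1 : t < p ^ t := Nat.lt_pow_self hp.one_lt
    omega
  have hstep : H.lowerCentralSeries (i + 1) ≤ H.lowerCentralSeries (i + 2) :=
    lcs_step_of_agemo hP s N B (H.lowerCentralSeries i) (H.lowerCentralSeries (i + 1))
      (H.lowerCentralSeries (i + 2)) (hanti (Nat.le_succ _)) (hanti (Nat.le_succ _)) hXX rfl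
      (le_of_eq rfl) (hpow i hiξ) (hpow (i + 1) (by omega)) (hidx i hiξ) (hidx (i + 1) (by omega))
      hs1 hs2
  have hnil : Group.IsNilpotent H := (hP.to_subgroup H).isNilpotent
  have hbot := lcs_eq_bot_of_le_succ H hnil (i + 1) hstep
  rw [eq_bot_iff, ← hbot]
  apply hanti
  have : i ≤ xi p + 1 := by
    rw [hi]
    exact max_le (Nat.le_succ _) (by omega)
  omega

end Cfsg.Agent.Lib.Helper5.AlpGB
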