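import Mathlib
import Cfsg.Agent.Lib.Helper5.AlpGB
import Cfsg.Agent.Lib.Helper7.AlpGA2

set_option autoImplicit false

/-! S3782 (Alperin), package GB, exact form: `℧_s(P)` has class at most `ξ + 2`. -/

namespace Cfsg.Agent.Lib.Helper5.AlpGB

open Cfsg.Agent.Lib.Helper2.Alp

universe u

/-- (GB) `℧_s(P)` has class at most `max (ξ+1) 2` for the explicit `s`. -/
theorem agemo_nilpotent {P : Type u} [Group P] [Finite P] {p : ℕ} [Fact p.Prime]
    (hP : IsPGroup p P) (α : P ≃* P) (hαp : α ^ p = 1) (m : ℕ)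
    (hfix : Nat.card {g : P // α g = g} ≤ p ^ m) (s : ℕ)
    (hs : (m + xi p + 2) + p * m * (m + xi p + 2) + 1 ≤ s) :
    (agemo p s P).lowerCentralSeries (xi p + 2) = ⊥ :=
  agemo_nilpotent_of Cfsg.Agent.Lib.Helper7.AlpGA.l3Statement hP α hαp m hfix s hs

end Cfsg.Agent.Lib.Helper5.AlpGB
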