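import Mathlib
import Cfsg.Agent.Lib.Helper2.Basic

set_option autoImplicit false

namespace Cfsg.Agent.Lib.Helper5.AltAb

open Equiv

variable {α : Type*} [Fintype α] [DecidableEq α]

/-- `A` is supported on `S`: every element of `A` fixes every point outside `S`. -/
def Supp (A : Subgroup (Perm α)) (S : Set α) : Prop := ∀ a ∈ A, ∀ x, x ∉ S → a x = x

/-- elementwise commutativity. -/
def Ab (A : Subgroup (Perm α)) : Prop := ∀ a ∈ A, ∀ b ∈ A, a * b = b * a

/-- all elements are even. -/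
def Ev (A : Subgroup (Perm α)) : Prop := ∀ a ∈ A, Perm.sign a = 1

/-- orbit of a point. -/
def orb (A : Subgroup (Perm α)) (x : α) : Set α := {y | ∃ a ∈ A, a x = y}

/-- point stabilizer. -/
def stb (A : Subgroup (Perm α)) (x : α) : Subgroup (Perm α) where
  carrier := {a | a ∈ A ∧ a x = x}
  mul_mem' := by
    intro a b ha hb
    exact ⟨A.mul_mem ha.1 hb.1, by rw [Perm.mul_apply, hb.2, ha.2]⟩
  one_mem' := ⟨A.one_mem, rfl⟩
  inv_mem' := by
    intro a ha
    refine ⟨A.inv_mem ha.1, ?_⟩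
    rw [Perm.inv_eq_iff_eq]; exact ha.2.symm

theorem mem_stb {A : Subgroup (Perm α)} {x : α} {a : Perm α} :
    a ∈ stb A x ↔ a ∈ A ∧ a x = x := Iff.rfl

theorem stb_le (A : Subgroup (Perm α)) (x : α) : stb A x ≤ A := fun _ h => h.1

theorem mem_orb_self (A : Subgroup (Perm α)) (x : α) : x ∈ orb A x := ⟨1, A.one_mem, rfl⟩

theorem card_eq (A : Subgroup (Perm α)) (x : α) :
    Nat.card A = (orb A x).ncard * Nat.card (stb A x) := by
  classical
  have e := MulAction.orbitProdStabilizerEquivGroup A x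
  have h1 : Nat.card A = Nat.card (MulAction.orbit A x) * Nat.card (MulAction.stabilizer A x) := by
    rw [← Nat.card_prod]; exact (Nat.card_congr e).symm
  have h2 : Nat.card (MulAction.orbit A x) = (orb A x).ncard := by
    rw [← Nat.card_coe_set_eq]
    apply Nat.card_congr
    apply Equiv.setCongr
    ext y
    constructor
    · rintro ⟨a, rfl⟩
      exact ⟨a.1, a.2, rfl⟩
    · rintro ⟨a, ha, rfl⟩
      exact ⟨⟨a, ha⟩, rfl⟩
  have h3 : Nat.card (MulAction.stabilizer A x) = Nat.card (stb A x) := by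
    apply Nat.card_congr
    refine ⟨fun a => ⟨a.1.1, a.1.2, a.2⟩, fun a => ⟨⟨a.1, a.2.1⟩, a.2.2⟩, ?_, ?_⟩
    · intro a; rfl
    · intro a; rfl
  rw [h1, h2, h3]

theorem stb_fixes {A : Subgroup (Perm α)} (hA : Ab A) {x : α} {k : Perm α} (hk : k ∈ stb A x)
    {y : α} (hy : y ∈ orb A x) : k y = y := by
  obtain ⟨a, ha, rfl⟩ := hy
  have h := hA k hk.1 a ha
  have h2 : (k * a) x = (a * k) x := by rw [h]
  rw [Perm.mul_apply, Perm.mul_apply, hk.2] at h2
  exact h2

theorem orb_subset {A : Subgroup (Perm α)} {S : Set α} (hS : Supp A S) {x : α} (hx : x ∈ S) :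
    orb A x ⊆ S := by
  rintro y ⟨a, ha, rfl⟩
  by_contra hy
  have h1 : a⁻¹ (a x) = a x := hS a⁻¹ (A.inv_mem ha) _ hy
  have h2 : a⁻¹ (a x) = x := by simp
  rw [h2] at h1
  rw [← h1] at hy
  exact hy hx

theorem supp_stb {A : Subgroup (Perm α)} (hA : Ab A) {S : Set α} (hS : Supp A S) (x : α) :
    Supp (stb A x) (S \ orb A x) := by
  intro k hk y hy
  by_cases hyS : y ∈ S
  · have : y ∈ orb A x := by
      by_contra h; exact hy ⟨hyS, h⟩
    exact stb_fixes hA hk this
  · exact hS k hk.1 y hyS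

theorem ab_stb {A : Subgroup (Perm α)} (hA : Ab A) (x : α) : Ab (stb A x) :=
  fun a ha b hb => hA a ha.1 b hb.1

theorem ev_stb {A : Subgroup (Perm α)} (hA : Ev A) (x : α) : Ev (stb A x) :=
  fun a ha => hA a ha.1

theorem ab_mono {A B : Subgroup (Perm α)} (h : A ≤ B) (hB : Ab B) : Ab A :=
  fun a ha b hb => hB a (h ha) b (h hb)

theorem ev_mono {A B : Subgroup (Perm α)} (h : A ≤ B) (hB : Ev B) : Ev A :=
  fun a ha => hB a (h ha)

theorem supp_mono {A : Subgroup (Perm α)} {S T : Set α} (h : S ⊆ T) (hA : Supp A S) : Supp A T :=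
  fun a ha x hx => hA a ha x (fun hxS => hx (h hxS))

theorem eq_bot_of_supp_empty {A : Subgroup (Perm α)} (h : Supp A ∅) : A = ⊥ := by
  rw [Subgroup.eq_bot_iff_forall]
  intro a ha
  ext x
  exact h a ha x (Set.notMem_empty x)

theorem orb_ncard_pos (A : Subgroup (Perm α)) (x : α) : 0 < (orb A x).ncard := by
  rw [Set.ncard_pos]
  exact ⟨x, mem_orb_self A x⟩

theorem ncard_diff_orb {A : Subgroup (Perm α)} {S : Set α} (hS : Supp A S) {x : α} (hx : x ∈ S) :
    (S \ orb A x).ncard + (orb A x).ncard = S.ncard := by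
  exact Set.ncard_diff_add_ncard_of_subset (orb_subset hS hx)

theorem cube_le_three_pow (m : ℕ) : m ^ 3 ≤ 3 ^ m := by
  induction m using Nat.strong_induction_on with
  | _ m ih =>
    rcases Nat.lt_or_ge m 4 with h | h
    · interval_cases m <;> norm_num
    · have h1 := ih (m - 1) (by omega)
      obtain ⟨k, rfl⟩ : ∃ k, m = k + 1 := ⟨m - 1, by omega⟩
      simp only [Nat.add_sub_cancel] at h1
      have hk : 3 ≤ k := by omega
      have h2 : (k + 1) ^ 3 ≤ 3 * k ^ 3 := by
        nlinarith [sq_nonneg (k - 3 : ℤ), mul_pos (by omega : 0 < k) (by omega : 0 < k)]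
      calc (k + 1) ^ 3 ≤ 3 * k ^ 3 := h2
        _ ≤ 3 * 3 ^ k := Nat.mul_le_mul_left 3 h1
        _ = 3 ^ (k + 1) := by ring

/-- The bound for abelian subgroups of symmetric groups. -/
theorem card_cube_le (n : ℕ) : ∀ (A : Subgroup (Perm α)) (S : Set α), Ab A → Supp A S → S.ncard = n →
    (Nat.card A) ^ 3 ≤ 3 ^ n := by
  induction n using Nat.strong_induction_on with
  | _ n ih =>
    intro A S hA hS hn
    by_cases hne : S = ∅
    · subst hne
      rw [eq_bot_of_supp_empty hS]
      simp only [Subgroup.card_bot, one_pow]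
      exact Nat.one_le_pow _ _ (by norm_num)
    · obtain ⟨x, hx⟩ := Set.nonempty_iff_ne_empty.mpr hne
      have h1 := card_eq A x
      have h2 := ncard_diff_orb hS hx
      have h3 := orb_ncard_pos A x
      have h4 := ih (S \ orb A x).ncard (by omega) (stb A x) (S \ orb A x) (ab_stb hA x)
        (supp_stb hA hS x) rfl
      rw [h1, mul_pow]
      calc (orb A x).ncard ^ 3 * Nat.card (stb A x) ^ 3
          ≤ 3 ^ (orb A x).ncard * 3 ^ (S \ orb A x).ncard :=
            Nat.mul_le_mul (cube_le_three_pow _) h4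
        _ = 3 ^ n := by rw [← pow_add, ← hn, ← h2, add_comm]

end Cfsg.Agent.Lib.Helper5.AltAb
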