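import Mathlib

set_option autoImplicit false

namespace Cfsg.Agent.Lib.Helper5.AltAb

/-- The largest order of an abelian subgroup of the alternating group of degree `n`. -/
def N : ℕ → ℕ
  | 0 => 1 | 1 => 1 | 2 => 1 | 3 => 3 | 4 => 4 | 5 => 5 | 6 => 9 | 7 => 12 | 8 => 16
  | (n+9) => 3 * N (n+6)

theorem N_add_nine (n : ℕ) : N (n + 9) = 3 * N (n + 6) := by
  rw [N]

theorem N_add_three {n : ℕ} (h : 6 ≤ n) : N (n + 3) = 3 * N n := by
  obtain ⟨k, rfl⟩ : ∃ k, n = k + 6 := ⟨n - 6, by omega⟩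
  exact N_add_nine k

theorem N_pos (n : ℕ) : 0 < N n := by
  induction n using Nat.strong_induction_on with
  | _ n ih =>
    rcases Nat.lt_or_ge n 9 with h | h
    · interval_cases n <;> simp [N]
    · obtain ⟨k, rfl⟩ : ∃ k, n = k + 9 := ⟨n - 9, by omega⟩
      rw [N_add_nine]
      have := ih (k + 6) (by omega)
      omega

theorem three_mul_N_le (n : ℕ) : 3 * N n ≤ N (n + 3) := by
  rcases Nat.lt_or_ge n 6 with h | h
  · interval_cases n <;> simp [N]
  · rw [N_add_three h]

theorem N_sub_three {r : ℕ} (h : 6 ≤ r) (h8 : r ≠ 8) : N r = 3 * N (r - 3) := by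
  rcases Nat.lt_or_ge r 9 with h9 | h9
  · interval_cases r <;> simp_all [N]
  · have := N_add_three (n := r - 3) (by omega)
    rwa [Nat.sub_add_cancel (by omega)] at this

theorem base_le : ∀ m ∈ ({1,3,4,5} : Finset ℕ), ∀ r ∈ ({0,1,2,3,4,5,8} : Finset ℕ),
    m * N r ≤ N (m + r) := by decide

theorem base_eq : ∀ m ∈ ({1,3,4,5} : Finset ℕ), ∀ r ∈ ({0,1,2,3,4,5,8} : Finset ℕ),
    3 ≤ m + r → m * N r = N (m + r) →
    (m = 3 ∨ (m = 4 ∧ (m + r) % 3 ≠ 0) ∨ (m = 5 ∧ r = 0)) ∧ (r = 0 ∨ (3 ≤ r ∧ r ≠ 5)) := by decide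

theorem N_mul_le : ∀ (s m r : ℕ), m + r = s → 1 ≤ m → m ≠ 2 → m * N r ≤ N (m + r) := by
  intro s
  induction s using Nat.strong_induction_on with
  | _ s ih =>
    intro m r hs hm hm2
    by_cases hr : 6 ≤ r ∧ r ≠ 8
    · have h1 := N_sub_three hr.1 hr.2
      have h2 := ih (s - 3) (by omega) m (r - 3) (by omega) hm hm2
      have h3 := three_mul_N_le (m + (r - 3))
      have h4 : m + (r - 3) + 3 = m + r := by omega
      rw [h4] at h3
      rw [h1]
      calc m * (3 * N (r - 3)) = 3 * (m * N (r - 3)) := by ring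
        _ ≤ 3 * N (m + (r - 3)) := Nat.mul_le_mul_left 3 h2
        _ ≤ N (m + r) := h3
    · have hr' : r ∈ ({0,1,2,3,4,5,8} : Finset ℕ) := by
        simp only [Finset.mem_insert, Finset.mem_singleton]
        omega
      rcases Nat.lt_or_ge m 6 with h6 | h6
      · have hm' : m ∈ ({1,3,4,5} : Finset ℕ) := by
          simp only [Finset.mem_insert, Finset.mem_singleton]
          omega
        exact base_le m hm' r hr'
      · have h2 := ih (s - 3) (by omega) (m - 3) r (by omega) (by omega) (by omega)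
        have h3 := three_mul_N_le (m - 3 + r)
        have h4 : m - 3 + r + 3 = m + r := by omega
        rw [h4] at h3
        have h5 : m ≤ 3 * (m - 3) := by omega
        calc m * N r ≤ 3 * (m - 3) * N r := Nat.mul_le_mul_right _ h5
          _ = 3 * ((m - 3) * N r) := by ring
          _ ≤ 3 * N (m - 3 + r) := Nat.mul_le_mul_left 3 h2
          _ ≤ N (m + r) := h3

theorem N_mul_le' {m r : ℕ} (hm : 1 ≤ m) (hm2 : m ≠ 2) : m * N r ≤ N (m + r) :=
  N_mul_le (m + r) m r rfl hm hm2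

theorem N_mul_eq : ∀ (s m r : ℕ), m + r = s → 1 ≤ m → m ≠ 2 → 3 ≤ m + r → m * N r = N (m + r) →
    (m = 3 ∨ (m = 4 ∧ (m + r) % 3 ≠ 0) ∨ (m = 5 ∧ r = 0)) ∧ (r = 0 ∨ (3 ≤ r ∧ r ≠ 5)) := by
  intro s
  induction s using Nat.strong_induction_on with
  | _ s ih =>
    intro m r hs hm hm2 h3s heq
    by_cases hr : 6 ≤ r ∧ r ≠ 8
    · have h1 := N_sub_three hr.1 hr.2
      have h2 := N_mul_le' (r := r - 3) hm hm2
      have h3 := three_mul_N_le (m + (r - 3))
      have h4 : m + (r - 3) + 3 = m + r := by omega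
      rw [h4] at h3
      rw [h1] at heq
      have h5 : m * N (r - 3) = N (m + (r - 3)) := by
        apply le_antisymm h2
        have : 3 * N (m + (r - 3)) ≤ 3 * (m * N (r - 3)) := by
          calc 3 * N (m + (r - 3)) ≤ N (m + r) := h3
            _ = m * (3 * N (r - 3)) := heq.symm
            _ = 3 * (m * N (r - 3)) := by ring
        omega
      have h6 := ih (s - 3) (by omega) m (r - 3) (by omega) hm hm2 (by omega) h5
      obtain ⟨h7, h8⟩ := h6
      refine ⟨?_, Or.inr ⟨by omega, by omega⟩⟩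
      rcases h7 with h7 | h7 | h7
      · exact Or.inl h7
      · refine Or.inr (Or.inl ⟨h7.1, ?_⟩)
        have := h7.2
        omega
      · omega
    · have hr' : r ∈ ({0,1,2,3,4,5,8} : Finset ℕ) := by
        simp only [Finset.mem_insert, Finset.mem_singleton]
        omega
      rcases Nat.lt_or_ge m 6 with h6 | h6
      · have hm' : m ∈ ({1,3,4,5} : Finset ℕ) := by
          simp only [Finset.mem_insert, Finset.mem_singleton]
          omega
        exact base_eq m hm' r hr' h3s heq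
      · exfalso
        have h2 := N_mul_le' (m := m - 3) (r := r) (by omega) (by omega)
        have h3 := three_mul_N_le (m - 3 + r)
        have h4 : m - 3 + r + 3 = m + r := by omega
        rw [h4] at h3
        have h5 : m < 3 * (m - 3) := by omega
        have h6 : m * N r < N (m + r) := by
          calc m * N r < 3 * (m - 3) * N r := Nat.mul_lt_mul_of_pos_right h5 (N_pos r)
            _ = 3 * ((m - 3) * N r) := by ring
            _ ≤ 3 * N (m - 3 + r) := Nat.mul_le_mul_left 3 h2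
            _ ≤ N (m + r) := h3
        omega

theorem N_mul_eq' {m r : ℕ} (hm : 1 ≤ m) (hm2 : m ≠ 2) (h3 : 3 ≤ m + r) (heq : m * N r = N (m + r)) :
    (m = 3 ∨ (m = 4 ∧ (m + r) % 3 ≠ 0) ∨ (m = 5 ∧ r = 0)) ∧ (r = 0 ∨ (3 ≤ r ∧ r ≠ 5)) :=
  N_mul_eq (m + r) m r rfl hm hm2 h3 heq

theorem pow_lt_N_cube : ∀ n : ℕ, 3 ≤ n → 3 ^ (n - 2) < N n ^ 3 := by
  intro n
  induction n using Nat.strong_induction_on with
  | _ n ih =>
    intro hn
    rcases Nat.lt_or_ge n 6 with h | h
    · interval_cases n <;> simp [N]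
    · have h1 := ih (n - 3) (by omega) (by omega)
      have h2 := three_mul_N_le (n - 3)
      rw [Nat.sub_add_cancel (by omega)] at h2
      have h3 : n - 2 = (n - 3 - 2) + 3 := by omega
      rw [h3, pow_add]
      calc 3 ^ (n - 3 - 2) * 3 ^ 3 < N (n - 3) ^ 3 * 3 ^ 3 :=
            Nat.mul_lt_mul_of_pos_right h1 (by norm_num)
        _ = (3 * N (n - 3)) ^ 3 := by ring
        _ ≤ N n ^ 3 := Nat.pow_le_pow_left h2 3

theorem eight_pow_lt_N_cube : ∀ n : ℕ, 4 ≤ n → 8 * 3 ^ (n - 4) < N n ^ 3 := by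
  intro n
  induction n using Nat.strong_induction_on with
  | _ n ih =>
    intro hn
    rcases Nat.lt_or_ge n 7 with h | h
    · interval_cases n <;> simp [N]
    · have h1 := ih (n - 3) (by omega) (by omega)
      have h2 := three_mul_N_le (n - 3)
      rw [Nat.sub_add_cancel (by omega)] at h2
      have h3 : n - 4 = (n - 3 - 4) + 3 := by omega
      rw [h3, pow_add]
      calc 8 * (3 ^ (n - 3 - 4) * 3 ^ 3) = (8 * 3 ^ (n - 3 - 4)) * 3 ^ 3 := by ring
        _ < N (n - 3) ^ 3 * 3 ^ 3 := Nat.mul_lt_mul_of_pos_right h1 (by norm_num)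
        _ = (3 * N (n - 3)) ^ 3 := by ring
        _ ≤ N n ^ 3 := Nat.pow_le_pow_left h2 3

end Cfsg.Agent.Lib.Helper5.AltAb
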