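import Mathlib
import Cfsg.Agent.Lib.Helper5.AltAb1
import Cfsg.Agent.Lib.Helper5.AltAb2

set_option autoImplicit false

namespace Cfsg.Agent.Lib.Helper5.AltAb

open Equiv

variable {α : Type*} [Fintype α] [DecidableEq α]

/-- permutations fixing every point outside `S`. -/
def fx (S : Set α) : Subgroup (Perm α) where
  carrier := {a | ∀ x, x ∉ S → a x = x}
  mul_mem' := by
    intro a b ha hb x hx
    rw [Perm.mul_apply, hb x hx, ha x hx]
  one_mem' := fun _ _ => rfl
  inv_mem' := by
    intro a ha x hx
    rw [Perm.inv_eq_iff_eq]; exact (ha x hx).symm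

theorem mem_fx {S : Set α} {a : Perm α} : a ∈ fx S ↔ ∀ x, x ∉ S → a x = x := Iff.rfl

theorem supp_iff {A : Subgroup (Perm α)} {S : Set α} : Supp A S ↔ A ≤ fx S :=
  ⟨fun h a ha => h a ha, fun h a ha => h ha⟩

theorem ev_iff {A : Subgroup (Perm α)} : Ev A ↔ A ≤ alternatingGroup α :=
  ⟨fun h a ha => Perm.mem_alternatingGroup.mpr (h a ha),
   fun h a ha => Perm.mem_alternatingGroup.mp (h ha)⟩

theorem ab_sup {H L : Subgroup (Perm α)} (hH : Ab H) (hL : Ab L)
    (hHL : ∀ h ∈ H, ∀ l ∈ L, h * l = l * h) : Ab (H ⊔ L) := by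
  have key : ∀ g ∈ H ⊔ L, ∀ h ∈ H, g * h = h * g := by
    intro g hg h hh
    have : H ⊔ L ≤ Subgroup.centralizer {h} := by
      apply sup_le
      · intro a ha
        rw [Subgroup.mem_centralizer_iff]
        intro b hb
        rw [Set.mem_singleton_iff] at hb
        subst hb
        exact hH b hh a ha
      · intro a ha
        rw [Subgroup.mem_centralizer_iff]
        intro b hb
        rw [Set.mem_singleton_iff] at hb
        subst hb
        exact hHL b hh a ha
    have h2 := this hg
    rw [Subgroup.mem_centralizer_iff] at h2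
    exact (h2 h rfl).symm
  have key2 : ∀ g ∈ H ⊔ L, ∀ l ∈ L, g * l = l * g := by
    intro g hg l hl
    have : H ⊔ L ≤ Subgroup.centralizer {l} := by
      apply sup_le
      · intro a ha
        rw [Subgroup.mem_centralizer_iff]
        intro b hb
        rw [Set.mem_singleton_iff] at hb
        subst hb
        exact (hHL a ha b hl).symm
      · intro a ha
        rw [Subgroup.mem_centralizer_iff]
        intro b hb
        rw [Set.mem_singleton_iff] at hb
        subst hb
        exact hL b hl a ha
    have h2 := this hg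
    rw [Subgroup.mem_centralizer_iff] at h2
    exact (h2 l rfl).symm
  intro g hg g' hg'
  have : H ⊔ L ≤ Subgroup.centralizer {g} := by
    apply sup_le
    · intro a ha
      rw [Subgroup.mem_centralizer_iff]
      intro b hb
      rw [Set.mem_singleton_iff] at hb
      subst hb
      exact key b hg a ha
    · intro a ha
      rw [Subgroup.mem_centralizer_iff]
      intro b hb
      rw [Set.mem_singleton_iff] at hb
      subst hb
      exact key2 b hg a ha
  have h2 := this hg'
  rw [Subgroup.mem_centralizer_iff] at h2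
  exact h2 g rfl

theorem ab_zpowers (t : Perm α) : Ab (Subgroup.zpowers t) := by
  intro a ha b hb
  rw [Subgroup.mem_zpowers_iff] at ha hb
  obtain ⟨i, rfl⟩ := ha
  obtain ⟨j, rfl⟩ := hb
  exact (Commute.zpow_zpow_self t i j).eq

theorem comm_zpowers {K : Subgroup (Perm α)} {t : Perm α} (h : ∀ k ∈ K, k * t = t * k) :
    ∀ k ∈ K, ∀ l ∈ Subgroup.zpowers t, k * l = l * k := by
  intro k hk l hl
  rw [Subgroup.mem_zpowers_iff] at hl
  obtain ⟨i, rfl⟩ := hl
  have : Commute k t := h k hk
  exact (this.zpow_right i).eq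

/-- adjoining an odd element commuting with `K` at least doubles the order. -/
theorem two_mul_card_cube_le {K : Subgroup (Perm α)} {R : Set α} (hK : Ab K) (hKe : Ev K)
    (hKs : Supp K R) {t : Perm α} (ht : Perm.sign t = -1) (htc : ∀ k ∈ K, k * t = t * k)
    (hts : t ∈ fx R) : (2 * Nat.card K) ^ 3 ≤ 3 ^ R.ncard := by
  set K' := K ⊔ Subgroup.zpowers t with hK'
  have h1 : Ab K' := ab_sup hK (ab_zpowers t) (comm_zpowers htc)
  have h2 : Supp K' R := by
    rw [supp_iff]
    apply sup_le (supp_iff.mp hKs)
    rw [Subgroup.zpowers_le]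
    exact hts
  have h3 := card_cube_le R.ncard K' R h1 h2 rfl
  have h4 : K ≤ K' := le_sup_left
  have h5 : t ∈ K' := (le_sup_right : Subgroup.zpowers t ≤ K') (Subgroup.mem_zpowers t)
  have h6 : t ∉ K := by
    intro h
    have := hKe t h
    rw [ht] at this
    exact absurd this (by decide)
  have h7 : Nat.card K ∣ Nat.card K' := Subgroup.card_dvd_of_le h4
  have h8 : Nat.card K ≠ Nat.card K' := by
    intro h
    have : K = K' := Subgroup.eq_of_le_of_card_ge h4 (le_of_eq h.symm)
    rw [← this] at h5
    exact h6 h5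
  have h9 : 2 * Nat.card K ≤ Nat.card K' := by
    obtain ⟨c, hc⟩ := h7
    have hpos : 0 < Nat.card K' := Nat.card_pos
    have hKpos : 0 < Nat.card K := Nat.card_pos
    rcases Nat.lt_or_ge c 2 with hc2 | hc2
    · interval_cases c
      · omega
      · omega
    · calc 2 * Nat.card K ≤ c * Nat.card K := Nat.mul_le_mul_right _ hc2
        _ = Nat.card K' := by rw [hc, mul_comm]
  calc (2 * Nat.card K) ^ 3 ≤ (Nat.card K') ^ 3 := Nat.pow_le_pow_left h9 3
    _ ≤ 3 ^ R.ncard := h3

theorem orb_inv {A : Subgroup (Perm α)} (x : α) {a : Perm α} (ha : a ∈ A) (y : α) :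
    a y ∈ orb A x ↔ y ∈ orb A x := by
  constructor
  · rintro ⟨b, hb, hby⟩
    refine ⟨a⁻¹ * b, A.mul_mem (A.inv_mem ha) hb, ?_⟩
    rw [Perm.mul_apply, hby]; simp
  · rintro ⟨b, hb, rfl⟩
    exact ⟨a * b, A.mul_mem ha hb, rfl⟩

theorem swap_comm_of_fix {k : Perm α} {x y : α} (hx : k x = x) (hy : k y = y) :
    k * swap x y = swap x y * k := by
  have h := Equiv.swap_apply_apply k x y
  rw [hx, hy] at h
  calc k * swap x y = (k * swap x y * k⁻¹) * k := by group
    _ = swap x y * k := by rw [← h]

/-- an orbit of size two forces a small group. -/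
theorem orb_two_cube {A : Subgroup (Perm α)} {S : Set α} (hA : Ab A) (hAe : Ev A) (hS : Supp A S)
    {x : α} (hx : x ∈ S) (hm : (orb A x).ncard = 2) : Nat.card A ^ 3 ≤ 3 ^ (S.ncard - 2) := by
  have h1 := card_eq A x
  have h2 := ncard_diff_orb hS hx
  obtain ⟨p, q, hpq, hO⟩ := Set.ncard_eq_two.mp hm
  have hxO : x ∈ orb A x := mem_orb_self A x
  obtain ⟨y, hyO, hyx⟩ : ∃ y ∈ orb A x, y ≠ x := by
    rw [hO] at hxO ⊢
    rcases hxO with rfl | rfl
    · exact ⟨q, Or.inr rfl, hpq.symm⟩
    · exact ⟨p, Or.inl rfl, hpq⟩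
  have hOxy : ∀ z ∈ orb A x, z = x ∨ z = y := by
    intro z hz
    rw [hO] at hz hyO hxO
    simp only [Set.mem_insert_iff, Set.mem_singleton_iff] at hz hyO hxO
    rcases hz with rfl | rfl <;> rcases hyO with rfl | rfl <;> rcases hxO with rfl | rfl <;>
      simp_all
  obtain ⟨a, ha, hax⟩ := hyO
  have hay : a y = x := by
    have : a y ∈ orb A x := (orb_inv x ha y).mpr ⟨a, ha, hax⟩
    rcases hOxy _ this with h | h
    · exact h
    · exfalso
      have : a y = a x := by rw [h, hax]
      exact hyx (a.injective this)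
  set t := swap x y * a with ht
  have htx : t x = x := by rw [ht, Perm.mul_apply, hax, swap_apply_right]
  have hty : t y = y := by rw [ht, Perm.mul_apply, hay, swap_apply_left]
  have hts : Perm.sign t = -1 := by
    rw [ht, map_mul, Perm.sign_swap hyx.symm, hAe a ha, mul_one]
  have htc : ∀ k ∈ stb A x, k * t = t * k := by
    intro k hk
    have hkx : k x = x := hk.2
    have hky : k y = y := stb_fixes hA hk ⟨a, ha, hax⟩
    rw [ht, ← mul_assoc, swap_comm_of_fix hkx hky, mul_assoc, hA k hk.1 a ha, mul_assoc]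
  have htf : t ∈ fx (S \ orb A x) := by
    intro z hz
    by_cases hzS : z ∈ S
    · have hzO : z ∈ orb A x := by
        by_contra h; exact hz ⟨hzS, h⟩
      rcases hOxy z hzO with rfl | rfl
      · exact htx
      · exact hty
    · have hzx : z ≠ x := fun h => hzS (h ▸ hx)
      have hzy : z ≠ y := by
        intro h
        apply hzS
        rw [h, ← hax]
        exact orb_subset hS hx ⟨a, ha, rfl⟩
      rw [ht, Perm.mul_apply, hS a ha z hzS, swap_apply_of_ne_of_ne hzx hzy]
  have h5 := two_mul_card_cube_le (ab_stb hA x) (ev_stb hAe x) (supp_stb hA hS x) hts htc htf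
  rw [hm] at h1 h2
  rw [← h1] at h5
  have hr : (S \ orb A x).ncard = S.ncard - 2 := by omega
  rw [hr] at h5
  exact h5

/-- the even bound. -/
theorem card_le_N (n : ℕ) : ∀ (A : Subgroup (Perm α)) (S : Set α), Ab A → Ev A → Supp A S →
    S.ncard = n → Nat.card A ≤ N n := by
  induction n using Nat.strong_induction_on with
  | _ n ih =>
    intro A S hA hAe hS hn
    by_cases hne : S = ∅
    · subst hne
      rw [eq_bot_of_supp_empty hS]
      simp only [Subgroup.card_bot]
      exact N_pos n
    · obtain ⟨x, hx⟩ := Set.nonempty_iff_ne_empty.mpr hne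
      have h1 := card_eq A x
      have h2 := ncard_diff_orb hS hx
      have h3 := orb_ncard_pos A x
      have h4 := ih (S \ orb A x).ncard (by omega) (stb A x) (S \ orb A x) (ab_stb hA x)
        (ev_stb hAe x) (supp_stb hA hS x) rfl
      by_cases hm : (orb A x).ncard = 2
      · have h5 := orb_two_cube hA hAe hS hx hm
        rw [hn] at h5
        rcases Nat.lt_or_ge n 3 with hn3 | hn3
        · have hn2 : n = 2 := by omega
          subst hn2
          have : Nat.card A ^ 3 ≤ 1 := by simpa using h5
          have h6 : Nat.card A ≤ 1 := by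
            by_contra hc
            have : 2 ≤ Nat.card A := by omega
            have := Nat.pow_le_pow_left this 3
            omega
          calc Nat.card A ≤ 1 := h6
            _ ≤ N 2 := N_pos 2
        · have h6 := pow_lt_N_cube n hn3
          have h7 : Nat.card A ^ 3 < N n ^ 3 := lt_of_le_of_lt h5 h6
          exact le_of_lt (lt_of_pow_lt_pow_left₀ 3 (Nat.zero_le _) h7)
      · have h5 := N_mul_le' (m := (orb A x).ncard) (r := (S \ orb A x).ncard) h3 hm
        rw [h1]
        calc (orb A x).ncard * Nat.card (stb A x) ≤ (orb A x).ncard * N (S \ orb A x).ncard :=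
              Nat.mul_le_mul_left _ h4
          _ ≤ N ((orb A x).ncard + (S \ orb A x).ncard) := h5
          _ = N n := by rw [add_comm, h2, hn]

end Cfsg.Agent.Lib.Helper5.AltAb
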