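import Mathlib
import Cfsg.Agent.Lib.Helper5.AltAb3

set_option autoImplicit false

namespace Cfsg.Agent.Lib.Helper5.AltAb

open Equiv

variable {α : Type*} [Fintype α] [DecidableEq α]

open Classical in
/-- restriction of a permutation to an invariant set. -/
noncomputable def rs (a : Perm α) (O : Set α) (h : ∀ y, a y ∈ O ↔ y ∈ O) : Perm α :=
  Perm.ofSubtype (a.subtypePerm h)

open Classical in
theorem rs_mem (a : Perm α) (O : Set α) (h : ∀ y, a y ∈ O ↔ y ∈ O) {y : α} (hy : y ∈ O) :
    rs a O h y = a y := by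
  unfold rs
  exact Perm.ofSubtype_subtypePerm_of_mem h hy

open Classical in
theorem rs_not_mem (a : Perm α) (O : Set α) (h : ∀ y, a y ∈ O ↔ y ∈ O) {y : α} (hy : y ∉ O) :
    rs a O h y = y := by
  unfold rs
  exact Perm.ofSubtype_subtypePerm_of_not_mem h hy

/-- the restriction homomorphism of `A` to the orbit of `x`. -/
noncomputable def rho (A : Subgroup (Perm α)) (x : α) : A →* Perm α where
  toFun a := rs a.1 (orb A x) (orb_inv x a.2)
  map_one' := by
    ext y
    by_cases hy : y ∈ orb A x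
    · rw [rs_mem _ _ _ hy]; rfl
    · rw [rs_not_mem _ _ _ hy]; rfl
  map_mul' := by
    intro a b
    ext y
    by_cases hy : y ∈ orb A x
    · rw [rs_mem _ _ _ hy, Perm.mul_apply, rs_mem _ _ _ hy,
        rs_mem _ _ _ ((orb_inv x b.2 y).mpr hy)]
      rfl
    · rw [rs_not_mem _ _ _ hy, Perm.mul_apply, rs_not_mem _ _ _ hy, rs_not_mem _ _ _ hy]

theorem rho_mem (A : Subgroup (Perm α)) (x : α) (a : A) {y : α} (hy : y ∈ orb A x) :
    rho A x a y = a.1 y := rs_mem _ _ _ hy

theorem rho_not_mem (A : Subgroup (Perm α)) (x : α) (a : A) {y : α} (hy : y ∉ orb A x) :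
    rho A x a y = y := rs_not_mem _ _ _ hy

theorem rho_fx (A : Subgroup (Perm α)) (x : α) (a : A) : rho A x a ∈ fx (orb A x) :=
  fun _ hy => rho_not_mem A x a hy

theorem mem_ker_rho {A : Subgroup (Perm α)} (hA : Ab A) (x : α) (a : A) :
    a ∈ (rho A x).ker ↔ a.1 ∈ stb A x := by
  rw [MonoidHom.mem_ker]
  constructor
  · intro h
    refine ⟨a.2, ?_⟩
    have := rho_mem A x a (mem_orb_self A x)
    rw [h] at this
    exact this.symm
  · intro h
    ext y
    by_cases hy : y ∈ orb A x
    · rw [rho_mem A x a hy]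
      exact stb_fixes hA h hy
    · rw [rho_not_mem A x a hy]; rfl

theorem card_ker_rho {A : Subgroup (Perm α)} (hA : Ab A) (x : α) :
    Nat.card (rho A x).ker = Nat.card (stb A x) := by
  apply Nat.card_congr
  refine ⟨fun a => ⟨a.1.1, (mem_ker_rho hA x a.1).mp a.2⟩,
    fun a => ⟨⟨a.1, a.2.1⟩, (mem_ker_rho hA x _).mpr a.2⟩, ?_, ?_⟩
  · intro a; rfl
  · intro a; rfl

theorem index_ker_rho {A : Subgroup (Perm α)} (hA : Ab A) (x : α) :
    (rho A x).ker.index = (orb A x).ncard := by
  have h1 := Subgroup.card_mul_index (rho A x).ker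
  rw [card_ker_rho hA x, card_eq A x] at h1
  have hpos : 0 < Nat.card (stb A x) := Nat.card_pos
  have h2 : Nat.card (stb A x) * (rho A x).ker.index = Nat.card (stb A x) * (orb A x).ncard := by
    rw [h1, mul_comm]
  exact Nat.eq_of_mul_eq_mul_left hpos h2

theorem rho_pow_eq_one {A : Subgroup (Perm α)} (hA : Ab A) (x : α) (a : A) :
    (rho A x a) ^ (orb A x).ncard = 1 := by
  have h := Subgroup.pow_index_mem (rho A x).ker a
  rw [index_ker_rho hA x, MonoidHom.mem_ker, map_pow] at h
  exact h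

theorem sign_rho_of_odd {A : Subgroup (Perm α)} (hA : Ab A) (x : α) (a : A)
    (hodd : Odd (orb A x).ncard) : Perm.sign (rho A x a) = 1 := by
  have h := rho_pow_eq_one hA x a
  have h2 : Perm.sign (rho A x a) ^ (orb A x).ncard = 1 := by
    rw [← map_pow, h, map_one]
  rcases Int.units_eq_one_or (Perm.sign (rho A x a)) with h3 | h3
  · exact h3
  · rw [h3, Odd.neg_one_pow hodd] at h2
    exact absurd h2 (by decide)

/-- the part of `a` outside the orbit of `x`. -/
noncomputable def tt (A : Subgroup (Perm α)) (x : α) (a : A) : Perm α := a.1 * (rho A x a)⁻¹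

theorem tt_mem_orb (A : Subgroup (Perm α)) (x : α) (a : A) {y : α} (hy : y ∈ orb A x) :
    tt A x a y = y := by
  unfold tt
  rw [Perm.mul_apply]
  have h1 : (rho A x a)⁻¹ y = a.1⁻¹ y := by
    rw [Perm.inv_eq_iff_eq]
    have hy' : a.1⁻¹ y ∈ orb A x := (orb_inv x (A.inv_mem a.2) y).mpr hy
    rw [rho_mem A x a hy']
    simp
  rw [h1]; simp

theorem tt_not_mem_orb (A : Subgroup (Perm α)) (x : α) (a : A) {y : α} (hy : y ∉ orb A x) :
    tt A x a y = a.1 y := by
  unfold tt
  rw [Perm.mul_apply]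
  have h1 : (rho A x a)⁻¹ y = y := by
    rw [Perm.inv_eq_iff_eq]
    exact (rho_not_mem A x a hy).symm
  rw [h1]

theorem tt_fx {A : Subgroup (Perm α)} {S : Set α} (hS : Supp A S) (x : α) (a : A) :
    tt A x a ∈ fx (S \ orb A x) := by
  intro y hy
  by_cases hyO : y ∈ orb A x
  · exact tt_mem_orb A x a hyO
  · rw [tt_not_mem_orb A x a hyO]
    apply hS a.1 a.2
    intro hyS
    exact hy ⟨hyS, hyO⟩

theorem rho_comm_stb {A : Subgroup (Perm α)} (hA : Ab A) (x : α) (a : A) {k : Perm α}
    (hk : k ∈ stb A x) : k * rho A x a = rho A x a * k := by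
  ext y
  rw [Perm.mul_apply, Perm.mul_apply]
  by_cases hy : y ∈ orb A x
  · rw [rho_mem A x a hy, stb_fixes hA hk hy, rho_mem A x a hy]
    exact stb_fixes hA hk ((orb_inv x a.2 y).mpr hy)
  · have hky : k y ∉ orb A x := by
      intro h
      exact hy ((orb_inv x hk.1 y).mp h)
    rw [rho_not_mem A x a hy, rho_not_mem A x a hky]

theorem tt_comm_stb {A : Subgroup (Perm α)} (hA : Ab A) (x : α) (a : A) {k : Perm α}
    (hk : k ∈ stb A x) : k * tt A x a = tt A x a * k := by
  unfold tt
  have h1 : k * a.1 = a.1 * k := hA k hk.1 a.1 a.2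
  have h2 : k * (rho A x a)⁻¹ = (rho A x a)⁻¹ * k := by
    have := rho_comm_stb hA x a hk
    calc k * (rho A x a)⁻¹ = (rho A x a)⁻¹ * (rho A x a * k) * (rho A x a)⁻¹ := by group
      _ = (rho A x a)⁻¹ * (k * rho A x a) * (rho A x a)⁻¹ := by rw [this]
      _ = (rho A x a)⁻¹ * k := by group
  rw [← mul_assoc, h1, mul_assoc, h2, mul_assoc]

theorem sign_tt {A : Subgroup (Perm α)} (hAe : Ev A) (x : α) (a : A) :
    Perm.sign (tt A x a) = Perm.sign (rho A x a) := by
  unfold tt
  rw [map_mul, hAe a.1 a.2, one_mul, map_inv]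
  rcases Int.units_eq_one_or (Perm.sign (rho A x a)) with h | h <;> rw [h] <;> decide

/-- the structure of groups of maximal order. -/
theorem eq_struct {A : Subgroup (Perm α)} {S : Set α} {n : ℕ} (hA : Ab A) (hAe : Ev A)
    (hS : Supp A S) (hn : S.ncard = n) (h3 : 3 ≤ n) (hc : Nat.card A = N n) {x : α} (hx : x ∈ S) :
    ((orb A x).ncard = 3 ∨ ((orb A x).ncard = 4 ∧ n % 3 ≠ 0) ∨
        ((orb A x).ncard = 5 ∧ (S \ orb A x).ncard = 0)) ∧
      ((S \ orb A x).ncard = 0 ∨ (3 ≤ (S \ orb A x).ncard ∧ (S \ orb A x).ncard ≠ 5)) ∧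
      Nat.card (stb A x) = N (S \ orb A x).ncard ∧ (∀ a : A, rho A x a ∈ A) := by
  have h1 := card_eq A x
  have h2 := ncard_diff_orb hS hx
  have hm1 := orb_ncard_pos A x
  have hK := card_le_N (S \ orb A x).ncard (stb A x) (S \ orb A x) (ab_stb hA x)
    (ev_stb hAe x) (supp_stb hA hS x) rfl
  have hm2 : (orb A x).ncard ≠ 2 := by
    intro hm
    have h5 := orb_two_cube hA hAe hS hx hm
    rw [hn, hc] at h5
    have h6 := pow_lt_N_cube n h3
    omega
  have h5 := N_mul_le' (m := (orb A x).ncard) (r := (S \ orb A x).ncard) hm1 hm2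
  have hsum : (orb A x).ncard + (S \ orb A x).ncard = n := by omega
  rw [hsum] at h5
  have h6 : (orb A x).ncard * Nat.card (stb A x) ≤ (orb A x).ncard * N (S \ orb A x).ncard :=
    Nat.mul_le_mul_left _ hK
  have h7 : (orb A x).ncard * N (S \ orb A x).ncard = N n := by
    apply le_antisymm h5
    rw [← hc, h1]; exact h6
  have h8 : Nat.card (stb A x) = N (S \ orb A x).ncard := by
    have : (orb A x).ncard * Nat.card (stb A x) = (orb A x).ncard * N (S \ orb A x).ncard := by
      rw [h7, ← hc, h1]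
    exact Nat.eq_of_mul_eq_mul_left hm1 this
  have h9 := N_mul_eq' (m := (orb A x).ncard) (r := (S \ orb A x).ncard) hm1 hm2
    (by omega) (by rw [hsum]; exact h7)
  rw [hsum] at h9
  obtain ⟨h10, h11⟩ := h9
  refine ⟨h10, h11, h8, ?_⟩
  -- all restrictions are even
  have hev : ∀ a : A, Perm.sign (rho A x a) = 1 := by
    intro a
    rcases h10 with hm | hm | hm
    · exact sign_rho_of_odd hA x a (by rw [hm]; decide)
    · by_contra hne
      have hs : Perm.sign (tt A x a) = -1 := by
        rw [sign_tt hAe x a]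
        rcases Int.units_eq_one_or (Perm.sign (rho A x a)) with h | h
        · exact absurd h hne
        · exact h
      have h12 := two_mul_card_cube_le (ab_stb hA x) (ev_stb hAe x) (supp_stb hA hS x) hs
        (fun k hk => tt_comm_stb hA x a hk) (tt_fx hS x a)
      have h13 : Nat.card A = 4 * Nat.card (stb A x) := by rw [h1, hm.1]
      have h14 : (S \ orb A x).ncard = n - 4 := by omega
      rw [h14] at h12
      have h15 : Nat.card A ^ 3 = 8 * (2 * Nat.card (stb A x)) ^ 3 := by rw [h13]; ring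
      have h16 := eight_pow_lt_N_cube n (by omega)
      rw [← hc, h15] at h16
      omega
    · exact sign_rho_of_odd hA x a (by rw [hm.1]; decide)
  intro a
  have hs : Perm.sign (tt A x a) = 1 := by rw [sign_tt hAe x a]; exact hev a
  set K' := stb A x ⊔ Subgroup.zpowers (tt A x a) with hK'
  have k1 : Ab K' := ab_sup (ab_stb hA x) (ab_zpowers _)
    (comm_zpowers (fun k hk => tt_comm_stb hA x a hk))
  have k2 : Supp K' (S \ orb A x) := by
    rw [supp_iff]
    apply sup_le (supp_iff.mp (supp_stb hA hS x))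
    rw [Subgroup.zpowers_le]
    exact tt_fx hS x a
  have k3 : Ev K' := by
    rw [ev_iff]
    apply sup_le (ev_iff.mp (ev_stb hAe x))
    rw [Subgroup.zpowers_le]
    exact Perm.mem_alternatingGroup.mpr hs
  have k4 := card_le_N (S \ orb A x).ncard K' (S \ orb A x) k1 k3 k2 rfl
  rw [← h8] at k4
  have k5 : stb A x = K' := Subgroup.eq_of_le_of_card_ge le_sup_left k4
  have k6 : tt A x a ∈ stb A x := by
    rw [k5]
    exact (le_sup_right : Subgroup.zpowers (tt A x a) ≤ K') (Subgroup.mem_zpowers _)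
  have k7 : rho A x a = (tt A x a)⁻¹ * a.1 := by
    unfold tt; group
  rw [k7]
  exact A.mul_mem (A.inv_mem k6.1) a.2

end Cfsg.Agent.Lib.Helper5.AltAb
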