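import Mathlib
import Cfsg.Agent.Lib.Helper5.AltAb4

set_option autoImplicit false

namespace Cfsg.Agent.Lib.Helper5.AltAb

open Equiv

variable {α : Type*} [Fintype α] [DecidableEq α]

/-- the regular part of `A` on the orbit of `x`. -/
noncomputable def AO (A : Subgroup (Perm α)) (x : α) : Subgroup (Perm α) := (rho A x).range

theorem mem_AO {A : Subgroup (Perm α)} {x : α} {b : Perm α} :
    b ∈ AO A x ↔ ∃ a : A, rho A x a = b := MonoidHom.mem_range

theorem card_AO {A : Subgroup (Perm α)} (hA : Ab A) (x : α) :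
    Nat.card (AO A x) = (orb A x).ncard := by
  unfold AO
  rw [← Subgroup.index_ker, index_ker_rho hA x]

theorem AO_le_fx (A : Subgroup (Perm α)) (x : α) : AO A x ≤ fx (orb A x) := by
  intro b hb
  obtain ⟨a, rfl⟩ := mem_AO.mp hb
  exact rho_fx A x a

theorem AO_trans (A : Subgroup (Perm α)) (x : α) {y : α} (hy : y ∈ orb A x) :
    ∃ b ∈ AO A x, b x = y := by
  obtain ⟨a, ha, rfl⟩ := hy
  refine ⟨rho A x ⟨a, ha⟩, mem_AO.mpr ⟨_, rfl⟩, ?_⟩
  exact rho_mem A x ⟨a, ha⟩ (mem_orb_self A x)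

theorem AO_free {A : Subgroup (Perm α)} (hA : Ab A) (x : α) {b : Perm α} (hb : b ∈ AO A x)
    (hbx : b x = x) : b = 1 := by
  obtain ⟨a, rfl⟩ := mem_AO.mp hb
  have h1 : a.1 x = x := by
    rw [← rho_mem A x a (mem_orb_self A x)]; exact hbx
  have h2 : a ∈ (rho A x).ker := (mem_ker_rho hA x a).mpr ⟨a.2, h1⟩
  exact MonoidHom.mem_ker.mp h2

theorem AO_ab {A : Subgroup (Perm α)} (hA : Ab A) (x : α) : Ab (AO A x) := by
  intro b hb c hc
  obtain ⟨a, rfl⟩ := mem_AO.mp hb
  obtain ⟨a', rfl⟩ := mem_AO.mp hc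
  rw [← map_mul, ← map_mul]
  congr 1
  exact Subtype.ext (hA a.1 a.2 a'.1 a'.2)

theorem AO_free' {A : Subgroup (Perm α)} (hA : Ab A) (x : α) {b c : Perm α} (hb : b ∈ AO A x)
    (hc : c ∈ AO A x) (h : b x = c x) : b = c := by
  have h1 : (c⁻¹ * b) x = x := by
    rw [Perm.mul_apply, h]; simp
  have h2 := AO_free hA x ((AO A x).mul_mem ((AO A x).inv_mem hc) hb) h1
  calc b = c * (c⁻¹ * b) := by group
    _ = c := by rw [h2, mul_one]

theorem AO_no_fix {A : Subgroup (Perm α)} (hA : Ab A) (x : α) {b : Perm α} (hb : b ∈ AO A x)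
    (hb1 : b ≠ 1) {y : α} (hy : y ∈ orb A x) : b y ≠ y := by
  intro h
  obtain ⟨c, hc, rfl⟩ := AO_trans A x hy
  apply hb1
  apply AO_free hA x hb
  have h1 : (b * c) x = c x := h
  rw [AO_ab hA x b hb c hc, Perm.mul_apply] at h1
  exact c.injective h1

theorem AO_le {A : Subgroup (Perm α)} {x : α} (hrho : ∀ a : A, rho A x a ∈ A) : AO A x ≤ A := by
  intro b hb
  obtain ⟨a, rfl⟩ := mem_AO.mp hb
  exact hrho a

theorem tt_mem_stb {A : Subgroup (Perm α)} {x : α} (hrho : ∀ a : A, rho A x a ∈ A) (a : A) :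
    tt A x a ∈ stb A x := by
  refine ⟨?_, tt_mem_orb A x a (mem_orb_self A x)⟩
  unfold tt
  exact A.mul_mem a.2 (A.inv_mem (hrho a))

theorem eq_tt_mul_rho (A : Subgroup (Perm α)) (x : α) (a : A) : a.1 = tt A x a * rho A x a := by
  unfold tt; group

theorem AO_sup_stb {A : Subgroup (Perm α)} {x : α} (hrho : ∀ a : A, rho A x a ∈ A) :
    AO A x ⊔ stb A x = A := by
  apply le_antisymm
  · exact sup_le (AO_le hrho) (stb_le A x)
  · intro a ha
    have h0 : a = tt A x ⟨a, ha⟩ * rho A x ⟨a, ha⟩ := eq_tt_mul_rho A x ⟨a, ha⟩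
    rw [h0]
    apply Subgroup.mul_mem
    · exact (le_sup_right : stb A x ≤ AO A x ⊔ stb A x) (tt_mem_stb hrho ⟨a, ha⟩)
    · exact (le_sup_left : AO A x ≤ AO A x ⊔ stb A x) (mem_AO.mpr ⟨_, rfl⟩)

theorem orb_stb_eq {A : Subgroup (Perm α)} {x : α} (hrho : ∀ a : A, rho A x a ∈ A) {z : α}
    (hz : z ∉ orb A x) : orb (stb A x) z = orb A z := by
  ext y
  constructor
  · rintro ⟨k, hk, rfl⟩
    exact ⟨k, hk.1, rfl⟩
  · rintro ⟨a, ha, rfl⟩
    refine ⟨tt A x ⟨a, ha⟩, tt_mem_stb hrho ⟨a, ha⟩, ?_⟩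
    exact tt_not_mem_orb A x ⟨a, ha⟩ hz

/-- in the case of an orbit of size four the regular part has exponent two. -/
theorem AO_sq {A : Subgroup (Perm α)} (hA : Ab A) (hAe : Ev A) {x : α}
    (hrho : ∀ a : A, rho A x a ∈ A) (h4 : (orb A x).ncard = 4) {b : Perm α} (hb : b ∈ AO A x) :
    b * b = 1 := by
  by_contra hne
  have hcard : Nat.card (AO A x) = 4 := by rw [card_AO hA x, h4]
  haveI : Finite (AO A x) := Nat.finite_of_card_ne_zero (by rw [hcard]; norm_num)
  have hb1 : b ≠ 1 := by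
    intro h; apply hne; rw [h, mul_one]
  have hpow : b ^ 4 = 1 := by
    have := pow_card_eq_one' (G := AO A x) (x := ⟨b, hb⟩)
    rw [hcard] at this
    exact congrArg Subtype.val this
  have hord : orderOf b = 4 := by
    have h1 : orderOf b ∣ 4 := orderOf_dvd_of_pow_eq_one hpow
    have h2 : orderOf b ≠ 1 := by
      intro h; exact hb1 (orderOf_eq_one_iff.mp h)
    have h3 : orderOf b ≠ 2 := by
      intro h
      apply hne
      rw [← pow_two, ← h, pow_orderOf_eq_one]
    have h4' : orderOf b ∈ Nat.divisors 4 := by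
      rw [Nat.mem_divisors]; exact ⟨h1, by norm_num⟩
    have h5 : Nat.divisors 4 = {1, 2, 4} := by decide
    rw [h5] at h4'
    simp only [Finset.mem_insert, Finset.mem_singleton] at h4'
    omega
  have hz : Subgroup.zpowers b = AO A x := by
    apply Subgroup.eq_of_le_of_card_ge
    · rw [Subgroup.zpowers_le]; exact hb
    · rw [Nat.card_zpowers, hord, hcard]
  have hbx : b x ≠ x := AO_no_fix hA x hb hb1 (mem_orb_self A x)
  have hcyc : b.IsCycle := by
    refine ⟨x, hbx, ?_⟩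
    intro y hy
    have hyO : y ∈ orb A x := by
      by_contra h
      exact hy (AO_le_fx A x hb y h)
    obtain ⟨c, hc, hcx⟩ := AO_trans A x hyO
    rw [← hz, Subgroup.mem_zpowers_iff] at hc
    obtain ⟨i, rfl⟩ := hc
    exact ⟨i, hcx⟩
  have hsupp : b.support.card = 4 := by
    rw [← h4, ← Set.ncard_coe_finset]
    congr 1
    ext y
    simp only [Finset.mem_coe, Perm.mem_support]
    constructor
    · intro hy
      by_contra h
      exact hy (AO_le_fx A x hb y h)
    · intro hy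
      exact AO_no_fix hA x hb hb1 hy
  have hs := hcyc.sign
  rw [hsupp, hAe b (AO_le hrho hb)] at hs
  exact absurd hs (by decide)

/-- Klein four structure. -/
theorem AO_klein {A : Subgroup (Perm α)} (hA : Ab A) (hAe : Ev A) {x : α}
    (hrho : ∀ a : A, rho A x a ∈ A) (h4 : (orb A x).ncard = 4) : IsKleinFour (AO A x) := by
  have hcard : Nat.card (AO A x) = 4 := by rw [card_AO hA x, h4]
  refine ⟨hcard, ?_⟩
  have h1 : Monoid.exponent (AO A x) ∣ 2 := by
    apply Monoid.exponent_dvd_of_forall_pow_eq_one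
    intro g
    apply Subtype.ext
    have := AO_sq hA hAe hrho h4 g.2
    rw [pow_two]
    exact this
  have h2 : Monoid.exponent (AO A x) ≠ 1 := by
    intro h
    rw [Monoid.exp_eq_one_iff] at h
    have := Nat.card_eq_one_iff_unique.mpr ⟨h, ⟨1⟩⟩
    omega
  have h3 : Monoid.exponent (AO A x) ∈ Nat.divisors 2 := by
    rw [Nat.mem_divisors]; exact ⟨h1, by norm_num⟩
  have h5 : Nat.divisors 2 = {1, 2} := by decide
  rw [h5] at h3
  simp only [Finset.mem_insert, Finset.mem_singleton] at h3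
  omega

end Cfsg.Agent.Lib.Helper5.AltAb
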