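import Mathlib
import Cfsg.Agent.Lib.Helper5.AltAb5

set_option autoImplicit false

namespace Cfsg.Agent.Lib.Helper5.AltAb

open Equiv

variable {α : Type*} [Fintype α] [DecidableEq α]

theorem fx_preserves {R : Set α} {k : Perm α} (hk : k ∈ fx R) (z : α) : k z ∈ R ↔ z ∈ R := by
  constructor
  · intro h
    by_contra hz
    rw [hk z hz] at h
    exact hz h
  · intro h
    by_contra hz
    have h1 := hk (k z) hz
    have h2 : k z = z := k.injective h1
    rw [h2] at hz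
    exact hz h

theorem conj_eq_of_mul_eq {σ c d : Perm α} (h : σ * c = d * σ) :
    (MulAut.conj σ).toMonoidHom c = d := by
  show σ * c * σ⁻¹ = d
  rw [h]; group

/-- the gluing step of the conjugacy proof. -/
theorem glue {A B : Subgroup (Perm α)} {S T : Set α} {x x' : α}
    (hA : Ab A) (hB : Ab B) (hSA : Supp A S) (hSB : Supp B T) (hx : x ∈ S) (hx' : x' ∈ T)
    (hrA : ∀ a : A, rho A x a ∈ A) (hrB : ∀ b : B, rho B x' b ∈ B)
    (φ : AO A x ≃* AO B x')
    (σ₁ : Perm α) (h1 : ∀ z, z ∈ S \ orb A x ↔ σ₁ z ∈ T \ orb B x')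
    (h2 : stb B x' = (stb A x).map (MulAut.conj σ₁).toMonoidHom)
    (hcard : S.ncard = T.ncard) :
    ∃ σ : Perm α, (∀ z, z ∈ S ↔ σ z ∈ T) ∧ B = A.map (MulAut.conj σ).toMonoidHom := by
  classical
  have hb : ∀ y : {y // y ∈ orb A x}, ∃ b : AO A x, b.1 x = y.1 := by
    intro y
    obtain ⟨b, hb, hbx⟩ := AO_trans A x y.2
    exact ⟨⟨b, hb⟩, hbx⟩
  choose bf hbf using hb
  let eO : {y // y ∈ orb A x} → α := fun y => (φ (bf y)).1 x'
  have heO_mem : ∀ y, eO y ∈ orb B x' := by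
    intro y
    exact ⟨(φ (bf y)).1, AO_le hrB (φ (bf y)).2, rfl⟩
  have heO_inj : Function.Injective eO := by
    intro y z h
    have h1 : φ (bf y) = φ (bf z) := Subtype.ext (AO_free' hB x' (φ (bf y)).2 (φ (bf z)).2 h)
    have h2 : bf y = bf z := φ.injective h1
    apply Subtype.ext
    rw [← hbf y, ← hbf z, h2]
  have heO_eqv : ∀ (c : AO A x) (y : {y // y ∈ orb A x}) (hcy : c.1 y.1 ∈ orb A x),
      eO ⟨c.1 y.1, hcy⟩ = (φ c).1 (eO y) := by
    intro c y hcy
    have h1 : bf ⟨c.1 y.1, hcy⟩ = c * bf y := by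
      apply Subtype.ext
      apply AO_free' hA x (bf _).2 ((AO A x).mul_mem c.2 (bf y).2)
      rw [hbf]
      show c.1 y.1 = (c.1 * (bf y).1) x
      rw [Perm.mul_apply, hbf]
    show (φ (bf ⟨c.1 y.1, hcy⟩)).1 x' = (φ c).1 ((φ (bf y)).1 x')
    rw [h1, map_mul]
    rfl
  let g : α → α := fun z => if h : z ∈ orb A x then eO ⟨z, h⟩ else σ₁ z
  have hg_in : ∀ z (h : z ∈ orb A x), g z = eO ⟨z, h⟩ := fun z h => dif_pos h
  have hg_out : ∀ z, z ∉ orb A x → g z = σ₁ z := fun z h => dif_neg h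
  have hOS : orb A x ⊆ S := orb_subset hSA hx
  have hOT : orb B x' ⊆ T := orb_subset hSB hx'
  have hgT : ∀ z, z ∈ S → g z ∈ T := by
    intro z hz
    by_cases h : z ∈ orb A x
    · rw [hg_in z h]; exact hOT (heO_mem _)
    · rw [hg_out z h]; exact ((h1 z).mp ⟨hz, h⟩).1
  have hg_inj : ∀ z w, z ∈ S → w ∈ S → g z = g w → z = w := by
    intro z w hz hw hzw
    by_cases h : z ∈ orb A x <;> by_cases h' : w ∈ orb A x
    · rw [hg_in z h, hg_in w h'] at hzw
      exact congrArg Subtype.val (heO_inj hzw)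
    · exfalso
      rw [hg_in z h, hg_out w h'] at hzw
      have := ((h1 w).mp ⟨hw, h'⟩).2
      rw [← hzw] at this
      exact this (heO_mem _)
    · exfalso
      rw [hg_out z h, hg_in w h'] at hzw
      have := ((h1 z).mp ⟨hz, h⟩).2
      rw [hzw] at this
      exact this (heO_mem _)
    · rw [hg_out z h, hg_out w h'] at hzw
      exact σ₁.injective hzw
  let f : {z // z ∈ S} → {z // z ∈ T} := fun z => ⟨g z.1, hgT z.1 z.2⟩
  have hf_inj : Function.Injective f := by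
    intro z w h
    apply Subtype.ext
    exact hg_inj z.1 w.1 z.2 w.2 (congrArg Subtype.val h)
  have hf_bij : Function.Bijective f := by
    apply hf_inj.bijective_of_nat_card_le
    rw [Nat.card_coe_set_eq, Nat.card_coe_set_eq, hcard]
  let e : {z // z ∈ S} ≃ {z // z ∈ T} := Equiv.ofBijective f hf_bij
  let σ : Perm α := e.extendSubtype
  have hσS : ∀ z, z ∈ S → σ z = g z := by
    intro z hz
    show e.extendSubtype z = g z
    rw [Equiv.extendSubtype_apply_of_mem e z hz]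
    rfl
  have hσ_iff : ∀ z, z ∈ S ↔ σ z ∈ T := by
    intro z
    constructor
    · intro hz; exact Equiv.extendSubtype_mem e z hz
    · intro hz; by_contra h; exact Equiv.extendSubtype_not_mem e z h hz
  have hσ_out : ∀ z, z ∉ orb A x → σ z ∉ orb B x' := by
    intro z hz
    by_cases hzS : z ∈ S
    · rw [hσS z hzS, hg_out z hz]
      exact ((h1 z).mp ⟨hzS, hz⟩).2
    · intro h
      exact hzS ((hσ_iff z).mpr (hOT h))
  have hσ_in : ∀ z, z ∈ orb A x → σ z ∈ orb B x' := by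
    intro z hz
    rw [hσS z (hOS hz), hg_in z hz]
    exact heO_mem _
  have hc1 : ∀ c : AO A x, σ * c.1 = (φ c).1 * σ := by
    intro c
    ext z
    rw [Perm.mul_apply, Perm.mul_apply]
    by_cases hz : z ∈ orb A x
    · have hcz : c.1 z ∈ orb A x := (orb_inv x (AO_le hrA c.2) z).mpr hz
      rw [hσS _ (hOS hcz), hg_in _ hcz, hσS z (hOS hz), hg_in z hz]
      exact heO_eqv c ⟨z, hz⟩ hcz
    · rw [AO_le_fx A x c.2 z hz]
      exact (AO_le_fx B x' (φ c).2 (σ z) (hσ_out z hz)).symm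
  have hc2 : ∀ k ∈ stb A x, σ * k = (σ₁ * k * σ₁⁻¹) * σ := by
    intro k hk
    have hkfx : k ∈ fx (S \ orb A x) := supp_iff.mp (supp_stb hA hSA x) hk
    have hk' : σ₁ * k * σ₁⁻¹ ∈ stb B x' := by
      rw [h2]
      exact Subgroup.mem_map.mpr ⟨k, hk, rfl⟩
    have hk'fx : σ₁ * k * σ₁⁻¹ ∈ fx (T \ orb B x') := supp_iff.mp (supp_stb hB hSB x') hk'
    ext z
    rw [Perm.mul_apply, Perm.mul_apply]
    by_cases hz : z ∈ S \ orb A x
    · have hkz : k z ∈ S \ orb A x := (fx_preserves hkfx z).mpr hz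
      rw [hσS _ hkz.1, hg_out _ hkz.2, hσS z hz.1, hg_out z hz.2]
      simp [Perm.mul_apply]
    · rw [hkfx z hz]
      have hσz : σ z ∉ T \ orb B x' := by
        intro h
        have hzS : z ∈ S := (hσ_iff z).mpr h.1
        have hzO : z ∈ orb A x := by
          by_contra h'
          exact hz ⟨hzS, h'⟩
        exact h.2 (hσ_in z hzO)
      exact (hk'fx (σ z) hσz).symm
  refine ⟨σ, hσ_iff, ?_⟩
  have hAO : (AO A x).map (MulAut.conj σ).toMonoidHom = AO B x' := by
    ext b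
    rw [Subgroup.mem_map]
    constructor
    · rintro ⟨c, hc, rfl⟩
      rw [conj_eq_of_mul_eq (hc1 ⟨c, hc⟩)]
      exact (φ ⟨c, hc⟩).2
    · intro hb
      refine ⟨(φ.symm ⟨b, hb⟩).1, (φ.symm ⟨b, hb⟩).2, ?_⟩
      rw [conj_eq_of_mul_eq (hc1 (φ.symm ⟨b, hb⟩))]
      simp
  have hst : (stb A x).map (MulAut.conj σ).toMonoidHom = stb B x' := by
    rw [h2]
    ext b
    rw [Subgroup.mem_map, Subgroup.mem_map]
    constructor
    · rintro ⟨k, hk, rfl⟩
      refine ⟨k, hk, ?_⟩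
      rw [conj_eq_of_mul_eq (hc2 k hk)]
      rfl
    · rintro ⟨k, hk, rfl⟩
      refine ⟨k, hk, ?_⟩
      rw [conj_eq_of_mul_eq (hc2 k hk)]
      rfl
  calc B = AO B x' ⊔ stb B x' := (AO_sup_stb hrB).symm
    _ = (AO A x).map (MulAut.conj σ).toMonoidHom ⊔ (stb A x).map (MulAut.conj σ).toMonoidHom := by
        rw [hAO, hst]
    _ = (AO A x ⊔ stb A x).map (MulAut.conj σ).toMonoidHom := (Subgroup.map_sup _ _ _).symm
    _ = A.map (MulAut.conj σ).toMonoidHom := by rw [AO_sup_stb hrA]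

end Cfsg.Agent.Lib.Helper5.AltAb
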