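import Mathlib
import Cfsg.Agent.Lib.Helper5.AltAb6

set_option autoImplicit false

namespace Cfsg.Agent.Lib.Helper5.AltAb

open Equiv

variable {α : Type*} [Fintype α] [DecidableEq α]

/-- an even abelian group of the largest possible order supported on `S`. -/
def Good (n : ℕ) (S : Set α) (A : Subgroup (Perm α)) : Prop :=
  Ab A ∧ Ev A ∧ Supp A S ∧ S.ncard = n ∧ Nat.card A = N n

theorem Good.struct {n : ℕ} {S : Set α} {A : Subgroup (Perm α)} (h : Good n S A) (h3 : 3 ≤ n)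
    {x : α} (hx : x ∈ S) :
    ((orb A x).ncard = 3 ∨ ((orb A x).ncard = 4 ∧ n % 3 ≠ 0) ∨
        ((orb A x).ncard = 5 ∧ (S \ orb A x).ncard = 0)) ∧
      ((S \ orb A x).ncard = 0 ∨ (3 ≤ (S \ orb A x).ncard ∧ (S \ orb A x).ncard ≠ 5)) ∧
      Nat.card (stb A x) = N (S \ orb A x).ncard ∧ (∀ a : A, rho A x a ∈ A) :=
  eq_struct h.1 h.2.1 h.2.2.1 h.2.2.2.1 h3 h.2.2.2.2 hx

theorem Good.stb {n : ℕ} {S : Set α} {A : Subgroup (Perm α)} (h : Good n S A) (h3 : 3 ≤ n)
    {x : α} (hx : x ∈ S) : Good (S \ orb A x).ncard (S \ orb A x) (stb A x) :=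
  ⟨ab_stb h.1 x, ev_stb h.2.1 x, supp_stb h.1 h.2.2.1 x, rfl, (h.struct h3 hx).2.2.1⟩

theorem Good.sum {n : ℕ} {S : Set α} {A : Subgroup (Perm α)} (h : Good n S A)
    {x : α} (hx : x ∈ S) : (S \ orb A x).ncard + (orb A x).ncard = n := by
  rw [← h.2.2.2.1]; exact ncard_diff_orb h.2.2.1 hx

theorem Good.nonempty {n : ℕ} {S : Set α} {A : Subgroup (Perm α)} (h : Good n S A) (h3 : 3 ≤ n) :
    ∃ x, x ∈ S := by
  have : S.ncard ≠ 0 := by rw [h.2.2.2.1]; omega
  obtain ⟨x, hx⟩ := Set.nonempty_of_ncard_ne_zero this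
  exact ⟨x, hx⟩

theorem exists_orb_four : ∀ n : ℕ, 3 ≤ n → n ≠ 5 → n % 3 ≠ 0 → ∀ (S : Set α) (A : Subgroup (Perm α)),
    Good n S A → ∃ x ∈ S, (orb A x).ncard = 4 := by
  intro n
  induction n using Nat.strong_induction_on with
  | _ n ih =>
    intro h3 h5 hmod S A hG
    obtain ⟨x, hx⟩ := hG.nonempty h3
    obtain ⟨s1, s2, s3, s4⟩ := hG.struct h3 hx
    have hsum := hG.sum hx
    rcases s1 with hm | hm | hm
    · have hr : (S \ orb A x).ncard = n - 3 := by omega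
      have hr0 : (S \ orb A x).ncard ≠ 0 := by omega
      have hr3 : 3 ≤ (S \ orb A x).ncard ∧ (S \ orb A x).ncard ≠ 5 := by
        rcases s2 with h | h
        · exact absurd h hr0
        · exact h
      obtain ⟨z, hz, hz4⟩ := ih (S \ orb A x).ncard (by omega) hr3.1 hr3.2 (by omega)
        (S \ orb A x) (stb A x) (hG.stb h3 hx)
      refine ⟨z, hz.1, ?_⟩
      rw [← orb_stb_eq s4 hz.2]
      exact hz4
    · exact ⟨x, hx, hm.1⟩
    · omega

theorem orb_three_of_mod {n : ℕ} {S : Set α} {A : Subgroup (Perm α)} (hG : Good n S A)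
    (h3 : 3 ≤ n) (hmod : n % 3 = 0) {x : α} (hx : x ∈ S) : (orb A x).ncard = 3 := by
  obtain ⟨s1, -, -, -⟩ := hG.struct h3 hx
  have hsum := hG.sum hx
  rcases s1 with hm | hm | hm
  · exact hm
  · exact absurd hmod hm.2
  · omega

theorem good_zero {S : Set α} {A : Subgroup (Perm α)} (h : Good 0 S A) : S = ∅ ∧ A = ⊥ := by
  have h1 : S = ∅ := (Set.ncard_eq_zero (Set.toFinite S)).mp h.2.2.2.1
  refine ⟨h1, ?_⟩
  have := h.2.2.1
  rw [h1] at this
  exact eq_bot_of_supp_empty this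

/-- conjugacy of the groups of maximal order (inside the symmetric group). -/
theorem conj_main : ∀ n : ℕ, (n = 0 ∨ (3 ≤ n ∧ n ≠ 5)) → ∀ (S T : Set α) (A B : Subgroup (Perm α)),
    Good n S A → Good n T B →
    ∃ σ : Perm α, (∀ z, z ∈ S ↔ σ z ∈ T) ∧ B = A.map (MulAut.conj σ).toMonoidHom := by
  intro n
  induction n using Nat.strong_induction_on with
  | _ n ih =>
    intro hn S T A B hGA hGB
    rcases hn with hn | ⟨h3, h5⟩
    · subst hn
      obtain ⟨hS, hA⟩ := good_zero hGA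
      obtain ⟨hT, hB⟩ := good_zero hGB
      refine ⟨1, ?_, ?_⟩
      · intro z; rw [hS, hT]; simp
      · rw [hA, hB, Subgroup.map_bot]
    · -- choose base points with orbits of the same size
      obtain ⟨x, hx, x', hx', hmm, hm34⟩ : ∃ x, x ∈ S ∧ ∃ x', x' ∈ T ∧
          (orb A x).ncard = (orb B x').ncard ∧ ((orb A x).ncard = 3 ∨ (orb A x).ncard = 4) := by
        by_cases hmod : n % 3 = 0
        · obtain ⟨x, hx⟩ := hGA.nonempty h3
          obtain ⟨x', hx'⟩ := hGB.nonempty h3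
          refine ⟨x, hx, x', hx', ?_, Or.inl (orb_three_of_mod hGA h3 hmod hx)⟩
          rw [orb_three_of_mod hGA h3 hmod hx, orb_three_of_mod hGB h3 hmod hx']
        · obtain ⟨x, hx, hx4⟩ := exists_orb_four n h3 h5 hmod S A hGA
          obtain ⟨x', hx', hx4'⟩ := exists_orb_four n h3 h5 hmod T B hGB
          exact ⟨x, hx, x', hx', by rw [hx4, hx4'], Or.inr hx4⟩
      obtain ⟨-, a2, -, a4⟩ := hGA.struct h3 hx
      obtain ⟨-, -, -, b4⟩ := hGB.struct h3 hx'
      have hsumA := hGA.sum hx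
      have hsumB := hGB.sum hx'
      have hmpos := orb_ncard_pos A x
      have hrr : (T \ orb B x').ncard = (S \ orb A x).ncard := by omega
      have hGKA := hGA.stb h3 hx
      have hGKB := hGB.stb h3 hx'
      rw [hrr] at hGKB
      have hr : (S \ orb A x).ncard = 0 ∨ (3 ≤ (S \ orb A x).ncard ∧ (S \ orb A x).ncard ≠ 5) := a2
      obtain ⟨σ₁, hσ₁, hσ₁'⟩ := ih (S \ orb A x).ncard (by omega) hr (S \ orb A x) (T \ orb B x')
        (stb A x) (stb B x') hGKA hGKB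
      have hφ : Nonempty (AO A x ≃* AO B x') := by
        rcases hm34 with hm | hm
        · haveI : Fact (Nat.Prime 3) := ⟨by norm_num⟩
          exact ⟨mulEquivOfPrimeCardEq (p := 3) (by rw [card_AO hGA.1 x, hm])
            (by rw [card_AO hGB.1 x', ← hmm, hm])⟩
        · haveI := AO_klein hGA.1 hGA.2.1 a4 hm
          haveI := AO_klein hGB.1 hGB.2.1 b4 (by rw [← hmm, hm])
          exact IsKleinFour.nonempty_mulEquiv
      obtain ⟨φ⟩ := hφ
      exact glue hGA.1 hGB.1 hGA.2.2.1 hGB.2.2.1 hx hx' a4 b4 φ σ₁ hσ₁ hσ₁'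
        (by rw [hGA.2.2.2.1, hGB.2.2.2.1])

end Cfsg.Agent.Lib.Helper5.AltAb
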