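import Mathlib
import Cfsg.Agent.Lib.Helper5.AltAb7

set_option autoImplicit false

namespace Cfsg.Agent.Lib.Helper5.AltAb

open Equiv

variable {α : Type*} [Fintype α] [DecidableEq α]

theorem comm_of_disjoint {O R : Set α} (hOR : Disjoint O R) {h k : Perm α} (hh : h ∈ fx O)
    (hk : k ∈ fx R) : h * k = k * h := by
  ext z
  rw [Perm.mul_apply, Perm.mul_apply]
  by_cases hz : z ∈ O
  · have hzR : z ∉ R := fun h' => Set.disjoint_left.mp hOR hz h'
    have hhz : h z ∈ O := (fx_preserves hh z).mpr hz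
    have hhzR : h z ∉ R := fun h' => Set.disjoint_left.mp hOR hhz h'
    rw [hk z hzR, hk (h z) hhzR]
  · rw [hh z hz]
    by_cases hzR : z ∈ R
    · have hkz : k z ∈ R := (fx_preserves hk z).mpr hzR
      have hkzO : k z ∉ O := fun h' => Set.disjoint_left.mp hOR h' hkz
      rw [hh (k z) hkzO]
    · rw [hk z hzR, hh z hz]

theorem fx_inf_of_disjoint {O R : Set α} (hOR : Disjoint O R) : fx O ⊓ fx R = ⊥ := by
  rw [Subgroup.eq_bot_iff_forall]
  intro g hg
  ext z
  by_cases hz : z ∈ O
  · have hzR : z ∉ R := fun h' => Set.disjoint_left.mp hOR hz h'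
    exact hg.2 z hzR
  · exact hg.1 z hz

/-- products of groups with disjoint supports. -/
theorem sup_of_disjoint {O R : Set α} (hOR : Disjoint O R) {H K : Subgroup (Perm α)}
    (hH : Ab H) (hHe : Ev H) (hHs : Supp H O) (hK : Ab K) (hKe : Ev K) (hKs : Supp K R) :
    Ab (H ⊔ K) ∧ Ev (H ⊔ K) ∧ Supp (H ⊔ K) (O ∪ R) ∧ Nat.card ↥(H ⊔ K) = Nat.card H * Nat.card K := by
  have hcomm : ∀ h ∈ H, ∀ k ∈ K, h * k = k * h := fun h hh k hk =>
    comm_of_disjoint hOR (supp_iff.mp hHs hh) (supp_iff.mp hKs hk)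
  refine ⟨ab_sup hH hK hcomm, ?_, ?_, ?_⟩
  · rw [ev_iff]
    exact sup_le (ev_iff.mp hHe) (ev_iff.mp hKe)
  · rw [supp_iff]
    apply sup_le
    · exact supp_iff.mp (supp_mono Set.subset_union_left hHs)
    · exact supp_iff.mp (supp_mono Set.subset_union_right hKs)
  · have h1 : H ≤ Subgroup.normalizer (K : Set (Perm α)) := by
      intro h hh
      apply Cfsg.Agent.Lib.Helper2.mem_normalizer_of_commute
      intro k hk
      exact hcomm h hh k hk
    have h2 := Cfsg.Agent.Lib.Helper2.card_sup_mul_card_inf H K h1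
    have h3 : H ⊓ K = ⊥ := by
      apply le_antisymm _ bot_le
      rw [← fx_inf_of_disjoint hOR]
      exact inf_le_inf (supp_iff.mp hHs) (supp_iff.mp hKs)
    rw [h3, Subgroup.card_bot, mul_one] at h2
    exact h2

open Classical in
/-- lifting a subgroup of permutations of a subset. -/
noncomputable def lft (O : Set α) (H : Subgroup (Perm {z // z ∈ O})) : Subgroup (Perm α) :=
  H.map Perm.ofSubtype

open Classical in
theorem card_lft (O : Set α) (H : Subgroup (Perm {z // z ∈ O})) :
    Nat.card (lft O H) = Nat.card H := by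
  unfold lft
  exact Subgroup.card_map_of_injective Perm.ofSubtype_injective

open Classical in
theorem supp_lft (O : Set α) (H : Subgroup (Perm {z // z ∈ O})) : Supp (lft O H) O := by
  intro a ha z hz
  unfold lft at ha
  obtain ⟨b, -, rfl⟩ := Subgroup.mem_map.mp ha
  exact Perm.ofSubtype_apply_of_not_mem b hz

open Classical in
theorem ev_lft (O : Set α) (H : Subgroup (Perm {z // z ∈ O}))
    (hH : ∀ b ∈ H, Perm.sign b = 1) : Ev (lft O H) := by
  intro a ha
  unfold lft at ha
  obtain ⟨b, hb, rfl⟩ := Subgroup.mem_map.mp ha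
  rw [Perm.sign_ofSubtype]
  exact hH b hb

open Classical in
theorem ab_lft (O : Set α) (H : Subgroup (Perm {z // z ∈ O}))
    (hH : ∀ b ∈ H, ∀ c ∈ H, b * c = c * b) : Ab (lft O H) := by
  intro a ha a' ha'
  unfold lft at ha ha'
  obtain ⟨b, hb, rfl⟩ := Subgroup.mem_map.mp ha
  obtain ⟨c, hc, rfl⟩ := Subgroup.mem_map.mp ha'
  rw [← map_mul, ← map_mul, hH b hb c hc]

open Classical in
theorem exists_three {O : Set α} (hO : O.ncard = 3) :
    ∃ H : Subgroup (Perm α), Ab H ∧ Ev H ∧ Supp H O ∧ Nat.card H = 3 := by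
  have hc : Nat.card {z // z ∈ O} = 3 := by rw [← hO]; exact Nat.card_coe_set_eq O
  haveI : Nontrivial {z // z ∈ O} := by
    rw [← Finite.one_lt_card_iff_nontrivial, hc]; norm_num
  have hcard : Nat.card (alternatingGroup {z // z ∈ O}) = 3 := by
    rw [nat_card_alternatingGroup, hc]; rfl
  refine ⟨lft O (alternatingGroup {z // z ∈ O}), ?_, ?_, supp_lft _ _, ?_⟩
  · apply ab_lft
    haveI : Fact (Nat.Prime 3) := ⟨by norm_num⟩
    haveI : IsCyclic (alternatingGroup {z // z ∈ O}) := isCyclic_of_prime_card hcard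
    intro b hb c hc'
    have := (IsCyclic.commutative (α := alternatingGroup {z // z ∈ O})).is_comm.comm ⟨b, hb⟩ ⟨c, hc'⟩
    exact congrArg Subtype.val this
  · apply ev_lft
    intro b hb
    exact Perm.mem_alternatingGroup.mp hb
  · rw [card_lft, hcard]

open Classical in
theorem exists_four {O : Set α} (hO : O.ncard = 4) :
    ∃ H : Subgroup (Perm α), Ab H ∧ Ev H ∧ Supp H O ∧ Nat.card H = 4 := by
  have hc : Nat.card {z // z ∈ O} = 4 := by rw [← hO]; exact Nat.card_coe_set_eq O
  have hcard := alternatingGroup.kleinFour_card_of_card_eq_four hc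
  haveI := alternatingGroup.kleinFour_isKleinFour hc
  set V : Subgroup (Perm {z // z ∈ O}) :=
    (alternatingGroup.kleinFour {z // z ∈ O}).map (alternatingGroup {z // z ∈ O}).subtype with hV
  have hVcard : Nat.card V = 4 := by
    rw [hV, Subgroup.card_map_of_injective (Subgroup.subtype_injective _), hcard]
  refine ⟨lft O V, ?_, ?_, supp_lft _ _, ?_⟩
  · apply ab_lft
    intro b hb c hc'
    obtain ⟨b', hb', rfl⟩ := Subgroup.mem_map.mp hb
    obtain ⟨c', hc'', rfl⟩ := Subgroup.mem_map.mp hc'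
    have h1 : (⟨b', hb'⟩ : alternatingGroup.kleinFour {z // z ∈ O}) * ⟨c', hc''⟩ =
        ⟨c', hc''⟩ * ⟨b', hb'⟩ :=
      (IsKleinFour.isMulCommutative (G := alternatingGroup.kleinFour {z // z ∈ O})).is_comm.comm _ _
    have h2 : b' * c' = c' * b' := congrArg Subtype.val h1
    rw [← map_mul, ← map_mul, h2]
  · apply ev_lft
    intro b hb
    obtain ⟨b', -, rfl⟩ := Subgroup.mem_map.mp hb
    exact Perm.mem_alternatingGroup.mp b'.2
  · rw [card_lft, hVcard]

theorem good_bot {n : ℕ} (hn : n ≤ 2) {S : Set α} (hS : S.ncard = n) :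
    Good n S (⊥ : Subgroup (Perm α)) := by
  refine ⟨?_, ?_, ?_, hS, ?_⟩
  · intro a ha b hb
    rw [Subgroup.mem_bot] at ha hb
    rw [ha, hb]
  · intro a ha
    rw [Subgroup.mem_bot] at ha
    rw [ha, map_one]
  · intro a ha z _
    rw [Subgroup.mem_bot] at ha
    rw [ha]; rfl
  · rw [Subgroup.card_bot]
    interval_cases n <;> rfl

/-- existence of groups of the maximal order. -/
theorem exists_good : ∀ n : ℕ, n ≠ 5 → ∀ S : Set α, S.ncard = n → ∃ A : Subgroup (Perm α), Good n S A := by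
  intro n
  induction n using Nat.strong_induction_on with
  | _ n ih =>
    intro h5 S hS
    rcases Nat.lt_or_ge n 3 with h3 | h3
    · exact ⟨⊥, good_bot (by omega) hS⟩
    · by_cases hn3 : n = 3
      · obtain ⟨H, h1, h2, h3', h4⟩ := exists_three (by rw [hS, hn3] : S.ncard = 3)
        refine ⟨H, h1, h2, h3', hS, ?_⟩
        rw [h4, hn3]; rfl
      by_cases hn4 : n = 4
      · obtain ⟨H, h1, h2, h3', h4⟩ := exists_four (by rw [hS, hn4] : S.ncard = 4)
        refine ⟨H, h1, h2, h3', hS, ?_⟩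
        rw [h4, hn4]; rfl
      by_cases hn8 : n = 8
      · obtain ⟨O, hOS, hO⟩ := Set.exists_subset_card_eq (s := S) (n := 4) (by omega)
        obtain ⟨H, h1, h2, h3', h4⟩ := exists_four hO
        have hR : (S \ O).ncard = 4 := by
          have := Set.ncard_diff_add_ncard_of_subset hOS (Set.toFinite S)
          omega
        obtain ⟨K, k1, k2, k3, k4, k5⟩ := ih 4 (by omega) (by norm_num) (S \ O) hR
        obtain ⟨p1, p2, p3, p4⟩ := sup_of_disjoint (Set.disjoint_sdiff_right) h1 h2 h3' k1 k2 k3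
        refine ⟨H ⊔ K, p1, p2, ?_, hS, ?_⟩
        · rw [Set.union_diff_cancel hOS] at p3; exact p3
        · rw [p4, h4, k5, hn8]; rfl
      · obtain ⟨O, hOS, hO⟩ := Set.exists_subset_card_eq (s := S) (n := 3) (by omega)
        obtain ⟨H, h1, h2, h3', h4⟩ := exists_three hO
        have hR : (S \ O).ncard = n - 3 := by
          have := Set.ncard_diff_add_ncard_of_subset hOS (Set.toFinite S)
          omega
        obtain ⟨K, k1, k2, k3, k4, k5⟩ := ih (n - 3) (by omega) (by omega) (S \ O) hR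
        obtain ⟨p1, p2, p3, p4⟩ := sup_of_disjoint (Set.disjoint_sdiff_right) h1 h2 h3' k1 k2 k3
        refine ⟨H ⊔ K, p1, p2, ?_, hS, ?_⟩
        · rw [Set.union_diff_cancel hOS] at p3; exact p3
        · rw [p4, h4, k5]
          have h6 : 6 ≤ n := by omega
          exact (N_sub_three h6 hn8).symm

end Cfsg.Agent.Lib.Helper5.AltAb
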