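import Mathlib
import Cfsg.Agent.Lib.Helper5.AltAb8

set_option autoImplicit false

namespace Cfsg.Agent.Lib.Helper5.AltAb

open Equiv

variable {α : Type*} [Fintype α] [DecidableEq α]

theorem swap_conj_three {c : Perm α} {x y w : α} (hxy : x ≠ y) (hxw : x ≠ w) (hyw : y ≠ w)
    (h1 : c x = y) (h2 : c y = w) (h3 : c w = x)
    (hfix : ∀ z, z ≠ x → z ≠ y → z ≠ w → c z = z) :
    swap x y * c * (swap x y)⁻¹ = c * c := by
  rw [swap_inv]
  ext z
  simp only [Perm.mul_apply]
  by_cases hzx : z = x
  · subst hzx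
    rw [swap_apply_left, h2, swap_apply_of_ne_of_ne hxw.symm hyw.symm, h1, h2]
  by_cases hzy : z = y
  · subst hzy
    rw [swap_apply_right, h1, swap_apply_right, h2, h3]
  by_cases hzw : z = w
  · subst hzw
    rw [swap_apply_of_ne_of_ne hzx hzy, h3, swap_apply_left, h1]
  · rw [swap_apply_of_ne_of_ne hzx hzy, hfix z hzx hzy hzw, swap_apply_of_ne_of_ne hzx hzy,
      hfix z hzx hzy hzw]

theorem swap_conj_four_u {u : Perm α} {x y w q : α} (hxw : x ≠ w) (hxq : x ≠ q)
    (hyw : y ≠ w) (hyq : y ≠ q)
    (h1 : u x = y) (h2 : u y = x) (h3 : u w = q) (h4 : u q = w)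
    (hfix : ∀ z, z ≠ x → z ≠ y → z ≠ w → z ≠ q → u z = z) :
    swap x y * u * (swap x y)⁻¹ = u := by
  rw [swap_inv]
  ext z
  simp only [Perm.mul_apply]
  by_cases hzx : z = x
  · subst hzx
    rw [swap_apply_left, h2, swap_apply_left, h1]
  by_cases hzy : z = y
  · subst hzy
    rw [swap_apply_right, h1, swap_apply_right, h2]
  by_cases hzw : z = w
  · subst hzw
    rw [swap_apply_of_ne_of_ne hzx hzy, h3, swap_apply_of_ne_of_ne hxq.symm hyq.symm]
  by_cases hzq : z = q
  · subst hzq
    rw [swap_apply_of_ne_of_ne hzx hzy, h4, swap_apply_of_ne_of_ne hxw.symm hyw.symm]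
  · rw [swap_apply_of_ne_of_ne hzx hzy, hfix z hzx hzy hzw hzq, swap_apply_of_ne_of_ne hzx hzy]

theorem swap_conj_four_v {u v : Perm α} {x y w q : α} (hxw : x ≠ w) (hxq : x ≠ q)
    (hyw : y ≠ w) (hyq : y ≠ q)
    (h1 : u x = y) (h2 : u y = x) (h3 : u w = q) (h4 : u q = w)
    (k1 : v x = w) (k2 : v w = x) (k3 : v y = q) (k4 : v q = y)
    (hfixu : ∀ z, z ≠ x → z ≠ y → z ≠ w → z ≠ q → u z = z)
    (hfixv : ∀ z, z ≠ x → z ≠ y → z ≠ w → z ≠ q → v z = z) :
    swap x y * v * (swap x y)⁻¹ = u * v := by
  rw [swap_inv]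
  ext z
  simp only [Perm.mul_apply]
  by_cases hzx : z = x
  · subst hzx
    rw [swap_apply_left, k3, swap_apply_of_ne_of_ne hxq.symm hyq.symm, k1, h3]
  by_cases hzy : z = y
  · subst hzy
    rw [swap_apply_right, k1, swap_apply_of_ne_of_ne hxw.symm hyw.symm, k3, h4]
  by_cases hzw : z = w
  · subst hzw
    rw [swap_apply_of_ne_of_ne hzx hzy, k2, swap_apply_left, h1]
  by_cases hzq : z = q
  · subst hzq
    rw [swap_apply_of_ne_of_ne hzx hzy, k4, swap_apply_right, h2]
  · rw [swap_apply_of_ne_of_ne hzx hzy, hfixv z hzx hzy hzw hzq, swap_apply_of_ne_of_ne hzx hzy,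
      hfixu z hzx hzy hzw hzq]

/-- a group of maximal order is normalized by an odd permutation. -/
theorem odd_normalizer {n : ℕ} {S : Set α} {A : Subgroup (Perm α)} (hG : Good n S A)
    (h3 : 3 ≤ n) (h5 : n ≠ 5) :
    ∃ τ : Perm α, Perm.sign τ = -1 ∧ A.map (MulAut.conj τ).toMonoidHom = A := by
  obtain ⟨x, hx⟩ := hG.nonempty h3
  obtain ⟨s1, -, -, hrho⟩ := hG.struct h3 hx
  have hsum := hG.sum hx
  have hA := hG.1
  have hm3 : 3 ≤ (orb A x).ncard := by rcases s1 with h | h | h <;> omega
  obtain ⟨y, hyO, hyx⟩ : ∃ y ∈ orb A x, y ≠ x := Set.exists_ne_of_one_lt_ncard (by omega) x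
  obtain ⟨c, hc, hcx⟩ := AO_trans A x hyO
  have hxy : x ≠ y := hyx.symm
  suffices hAO : ∀ b ∈ AO A x, swap x y * b * (swap x y)⁻¹ ∈ AO A x by
    refine ⟨swap x y, Perm.sign_swap hxy, ?_⟩
    have hle : A.map (MulAut.conj (swap x y)).toMonoidHom ≤ A := by
      rw [Subgroup.map_le_iff_le_comap]
      conv_lhs => rw [← AO_sup_stb hrho]
      apply sup_le
      · intro b hb
        exact AO_le hrho (hAO b hb)
      · intro k hk
        show swap x y * k * (swap x y)⁻¹ ∈ A
        have h1 := swap_comm_of_fix (stb_fixes hA hk (mem_orb_self A x)) (stb_fixes hA hk hyO)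
        have : swap x y * k * (swap x y)⁻¹ = k := by
          rw [← h1]; group
        rw [this]; exact hk.1
    have hfin : Finite A := inferInstance
    apply Subgroup.eq_of_le_of_card_ge hle
    rw [Subgroup.card_map_of_injective (MulAut.conj (swap x y)).injective]
  have hc1 : c ≠ 1 := by
    intro h; rw [h] at hcx; exact hxy hcx
  have hfixO : ∀ b ∈ AO A x, ∀ z, z ∉ orb A x → b z = z := fun b hb z hz => AO_le_fx A x hb z hz
  rcases s1 with hm | hm | hm
  · -- orbit of size three
    have hcard : Nat.card (AO A x) = 3 := by rw [card_AO hA x, hm]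
    haveI : Finite (AO A x) := Nat.finite_of_card_ne_zero (by rw [hcard]; norm_num)
    have hpow : c ^ 3 = 1 := by
      have := pow_card_eq_one' (G := AO A x) (x := ⟨c, hc⟩)
      rw [hcard] at this
      exact congrArg Subtype.val this
    have hccc : c * c * c = 1 := by rw [← hpow, pow_succ, pow_two]
    set w := c y with hw
    have hcw : c w = x := by
      have : (c * c * c) x = x := by rw [hccc]; rfl
      simpa [Perm.mul_apply, hcx] using this
    have hyw : y ≠ w := by
      intro h
      exact AO_no_fix hA x hc hc1 hyO h.symm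
    have hxw : x ≠ w := by
      intro h
      -- c w = x = w, so c fixes w
      have hwO : w ∈ orb A x := by rw [← h]; exact mem_orb_self A x
      apply AO_no_fix hA x hc hc1 hwO
      rw [hcw]; exact h
    have hwO : w ∈ orb A x := (fx_preserves (AO_le_fx A x hc) y).mpr hyO
    have hOeq : orb A x = {x, y, w} := by
      symm
      apply Set.eq_of_subset_of_ncard_le
      · intro z hz
        rcases hz with h | h | h
        · rw [h]; exact mem_orb_self A x
        · rw [h]; exact hyO
        · rw [h]; exact hwO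
      · rw [hm, Set.ncard_eq_three.mpr ⟨x, y, w, hxy, hxw, hyw, rfl⟩]
      · exact Set.toFinite _
    have hfix : ∀ z, z ≠ x → z ≠ y → z ≠ w → c z = z := by
      intro z h1 h2 h3
      apply hfixO c hc
      rw [hOeq]
      simp [h1, h2, h3]
    have hconj : swap x y * c * (swap x y)⁻¹ = c * c :=
      swap_conj_three hxy hxw hyw hcx rfl hcw hfix
    have hcc : c * c ∈ AO A x := (AO A x).mul_mem hc hc
    intro b hb
    have hbx : b x ∈ orb A x := (fx_preserves (AO_le_fx A x hb) x).mpr (mem_orb_self A x)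
    rw [hOeq] at hbx
    rcases hbx with h | h | h
    · rw [AO_free hA x hb h]; simp
    · have : b = c := AO_free' hA x hb hc (by rw [h, hcx])
      rw [this, hconj]; exact hcc
    · have : b = c * c := AO_free' hA x hb hcc (by rw [h, Perm.mul_apply, hcx])
      rw [this]
      have : swap x y * (c * c) * (swap x y)⁻¹
          = (swap x y * c * (swap x y)⁻¹) * (swap x y * c * (swap x y)⁻¹) := by group
      rw [this, hconj]
      exact (AO A x).mul_mem hcc hcc
  · -- orbit of size four
    obtain ⟨hm, -⟩ := hm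
    have hsq : ∀ b ∈ AO A x, b * b = 1 := fun b hb => AO_sq hA hG.2.1 hrho hm hb
    have hsq' : ∀ b ∈ AO A x, ∀ z, b (b z) = z := by
      intro b hb z
      have := hsq b hb
      have h2 : (b * b) z = z := by rw [this]; rfl
      exact h2
    obtain ⟨w, hwO, hwx, hwy⟩ : ∃ w ∈ orb A x, w ≠ x ∧ w ≠ y := by
      have h1 : ((orb A x) \ {x, y}).ncard ≠ 0 := by
        have := Set.le_ncard_diff ({x, y} : Set α) (orb A x) (Set.toFinite _)
        have h2 : ({x, y} : Set α).ncard = 2 := Set.ncard_pair hxy
        omega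
      obtain ⟨w, hw⟩ := Set.nonempty_of_ncard_ne_zero h1
      refine ⟨w, hw.1, ?_, ?_⟩
      · intro h; exact hw.2 (by rw [h]; simp)
      · intro h; exact hw.2 (by rw [h]; simp)
    obtain ⟨v, hv, hvx⟩ := AO_trans A x hwO
    set q := v y with hq
    have hcy : c y = x := by rw [← hcx]; exact hsq' c hc x
    have hvw : v w = x := by rw [← hvx]; exact hsq' v hv x
    have hvq : v q = y := hsq' v hv y
    have hcw : c w = q := by
      have := hG.1
      have h1 := AO_ab hA x c hc v hv
      have h2 : (c * v) x = (v * c) x := by rw [h1]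
      rw [Perm.mul_apply, Perm.mul_apply, hvx, hcx] at h2
      exact h2
    have hcq : c q = w := by rw [← hcw]; exact hsq' c hc w
    have hxw : x ≠ w := hwx.symm
    have hyw : y ≠ w := hwy.symm
    have hxq : x ≠ q := by
      intro h
      apply hyw
      have : v x = v q := by rw [← h]
      rw [hvx, hvq] at this
      exact this.symm
    have hyq : y ≠ q := by
      intro h
      have hv1 : v = 1 := by
        by_contra hv1
        exact AO_no_fix hA x hv hv1 hyO h.symm
      rw [hv1] at hvx
      exact hxw hvx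
    have hwq : w ≠ q := by
      intro h
      apply hxy
      apply v.injective
      rw [hvx, h]
    have hqO : q ∈ orb A x := (fx_preserves (AO_le_fx A x hv) y).mpr hyO
    have hOeq : orb A x = {x, y, w, q} := by
      symm
      apply Set.eq_of_subset_of_ncard_le
      · intro z hz
        rcases hz with h | h | h | h
        · rw [h]; exact mem_orb_self A x
        · rw [h]; exact hyO
        · rw [h]; exact hwO
        · rw [h]; exact hqO
      · rw [hm]
        have h1 : ({w, q} : Set α).ncard = 2 := Set.ncard_pair hwq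
        have h2 : ({y, w, q} : Set α).ncard = 3 := by
          rw [Set.ncard_insert_of_notMem (by simp [hyw, hyq]) (Set.toFinite _), h1]
        rw [Set.ncard_insert_of_notMem (by simp [hxy, hxw, hxq]) (Set.toFinite _), h2]
      · exact Set.toFinite _
    have hfix : ∀ b ∈ AO A x, ∀ z, z ≠ x → z ≠ y → z ≠ w → z ≠ q → b z = z := by
      intro b hb z h1 h2 h3 h4
      apply hfixO b hb
      rw [hOeq]
      simp [h1, h2, h3, h4]
    have hconju : swap x y * c * (swap x y)⁻¹ = c :=
      swap_conj_four_u hxw hxq hyw hyq hcx hcy hcw hcq (hfix c hc)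
    have hconjv : swap x y * v * (swap x y)⁻¹ = c * v :=
      swap_conj_four_v hxw hxq hyw hyq hcx hcy hcw hcq hvx hvw rfl hvq (hfix c hc) (hfix v hv)
    have hcv : c * v ∈ AO A x := (AO A x).mul_mem hc hv
    intro b hb
    have hbx : b x ∈ orb A x := (fx_preserves (AO_le_fx A x hb) x).mpr (mem_orb_self A x)
    rw [hOeq] at hbx
    rcases hbx with h | h | h | h
    · rw [AO_free hA x hb h]; simp
    · have : b = c := AO_free' hA x hb hc (by rw [h, hcx])
      rw [this, hconju]; exact hc
    · have : b = v := AO_free' hA x hb hv (by rw [h, hvx])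
      rw [this, hconjv]; exact hcv
    · have : b = c * v := AO_free' hA x hb hcv (by rw [h, Perm.mul_apply, hvx, hcw])
      rw [this]
      have : swap x y * (c * v) * (swap x y)⁻¹
          = (swap x y * c * (swap x y)⁻¹) * (swap x y * v * (swap x y)⁻¹) := by group
      rw [this, hconju, hconjv]
      exact (AO A x).mul_mem hc hcv
  · omega

end Cfsg.Agent.Lib.Helper5.AltAb
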