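import Mathlib
import Cfsg.Agent.Lib.Helper5.AltAb9

set_option autoImplicit false

namespace Cfsg.Agent.Lib.Helper5.AltAb

open Equiv
open scoped Pointwise

variable {α : Type*} [Fintype α] [DecidableEq α]

/-- push a subgroup of the alternating group to the symmetric group. -/
def up (A : Subgroup (alternatingGroup α)) : Subgroup (Perm α) :=
  A.map (alternatingGroup α).subtype

theorem mem_up {A : Subgroup (alternatingGroup α)} {a : Perm α} :
    a ∈ up A ↔ ∃ h : a ∈ alternatingGroup α, (⟨a, h⟩ : alternatingGroup α) ∈ A := by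
  unfold up
  rw [Subgroup.mem_map]
  constructor
  · rintro ⟨b, hb, rfl⟩
    exact ⟨b.2, hb⟩
  · rintro ⟨h, hb⟩
    exact ⟨⟨a, h⟩, hb, rfl⟩

theorem card_up (A : Subgroup (alternatingGroup α)) : Nat.card (up A) = Nat.card A :=
  Subgroup.card_map_of_injective (Subgroup.subtype_injective _)

theorem ev_up (A : Subgroup (alternatingGroup α)) : Ev (up A) := by
  intro a ha
  obtain ⟨h, -⟩ := mem_up.mp ha
  exact Perm.mem_alternatingGroup.mp h

theorem ab_up (A : Subgroup (alternatingGroup α)) (hA : IsMulCommutative A) : Ab (up A) := by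
  intro a ha b hb
  obtain ⟨h1, h1'⟩ := mem_up.mp ha
  obtain ⟨h2, h2'⟩ := mem_up.mp hb
  have := (isMulCommutative_iff.mp hA) ⟨⟨a, h1⟩, h1'⟩ ⟨⟨b, h2⟩, h2'⟩
  have h3 := congrArg (fun t : A => (t.1.1 : Perm α)) this
  exact h3

theorem supp_up (A : Subgroup (alternatingGroup α)) : Supp (up A) Set.univ :=
  fun _ _ x hx => absurd (Set.mem_univ x) hx

theorem up_injective : Function.Injective (up : Subgroup (alternatingGroup α) → _) :=
  Subgroup.map_injective (Subgroup.subtype_injective _)

theorem exists_down (C' : Subgroup (Perm α)) (h1 : Ab C') (h2 : Ev C') :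
    ∃ C : Subgroup (alternatingGroup α), IsMulCommutative C ∧ Nat.card C = Nat.card C' := by
  have hle : C' ≤ alternatingGroup α := ev_iff.mp h2
  refine ⟨C'.subgroupOf (alternatingGroup α), ?_, ?_⟩
  · rw [isMulCommutative_iff]
    intro a b
    apply Subtype.ext
    apply Subtype.ext
    exact h1 a.1.1 (Subgroup.mem_subgroupOf.mp a.2) b.1.1 (Subgroup.mem_subgroupOf.mp b.2)
  · exact Nat.card_congr (Subgroup.subgroupOfEquivOfLe hle).toEquiv

theorem up_conj (A : Subgroup (alternatingGroup α)) (g : alternatingGroup α) :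
    up (MulAut.conj g • A) = (up A).map (MulAut.conj (g : Perm α)).toMonoidHom := by
  ext a
  constructor
  · intro ha
    obtain ⟨h, hb⟩ := mem_up.mp ha
    rw [Subgroup.mem_smul_pointwise_iff_exists] at hb
    obtain ⟨s, hs, hsb⟩ := hb
    rw [Subgroup.mem_map]
    refine ⟨s.1, mem_up.mpr ⟨s.2, hs⟩, ?_⟩
    have := congrArg Subtype.val hsb
    exact this
  · intro ha
    rw [Subgroup.mem_map] at ha
    obtain ⟨s, hs, rfl⟩ := ha
    obtain ⟨h, hs'⟩ := mem_up.mp hs
    rw [mem_up]
    have hmem : (MulAut.conj (g : Perm α)).toMonoidHom s ∈ alternatingGroup α := by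
      show (g : Perm α) * s * (g : Perm α)⁻¹ ∈ alternatingGroup α
      exact (alternatingGroup α).mul_mem ((alternatingGroup α).mul_mem g.2 h)
        ((alternatingGroup α).inv_mem g.2)
    refine ⟨hmem, ?_⟩
    rw [Subgroup.mem_smul_pointwise_iff_exists]
    exact ⟨⟨s, h⟩, hs', rfl⟩

theorem ncard_univ_eq : (Set.univ : Set α).ncard = Fintype.card α := by
  rw [Set.ncard_univ, Nat.card_eq_fintype_card]

theorem card_up_le (C : Subgroup (alternatingGroup α)) (hC : IsMulCommutative C) :
    Nat.card C ≤ N (Fintype.card α) := by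
  rw [← card_up]
  exact card_le_N _ (up C) Set.univ (ab_up C hC) (ev_up C) (supp_up C) ncard_univ_eq

theorem good_up (hn5 : Fintype.card α ≠ 5) (A : Subgroup (alternatingGroup α))
    (hA : IsMulCommutative A)
    (hAmax : ∀ C : Subgroup (alternatingGroup α), IsMulCommutative C → Nat.card C ≤ Nat.card A) :
    Good (Fintype.card α) Set.univ (up A) := by
  refine ⟨ab_up A hA, ev_up A, supp_up A, ncard_univ_eq, ?_⟩
  apply le_antisymm
  · rw [card_up]; exact card_up_le A hA
  · obtain ⟨A0, hA0⟩ := exists_good (Fintype.card α) hn5 (Set.univ : Set α) ncard_univ_eq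
    obtain ⟨C, hC, hCc⟩ := exists_down A0 hA0.1 hA0.2.1
    rw [card_up, ← hA0.2.2.2.2, ← hCc]
    exact hAmax C hC

/-- the small cases. -/
theorem final_small (h2 : Fintype.card α ≤ 2)
    (A B : Subgroup (alternatingGroup α)) :
    ∃ g : alternatingGroup α, B = MulAut.conj g • A := by
  have hone : ∀ c : alternatingGroup α, c = 1 := by
    intro c
    have h1 := card_up_le (Subgroup.zpowers c) inferInstance
    rw [Nat.card_zpowers] at h1
    have hN : N (Fintype.card α) = 1 := by
      interval_cases (Fintype.card α) <;> rfl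
    rw [hN] at h1
    have h0 : 0 < orderOf c := orderOf_pos c
    exact orderOf_eq_one_iff.mp (by omega)
  have hcard : ∀ C : Subgroup (alternatingGroup α), C = ⊥ := by
    intro C
    rw [Subgroup.eq_bot_iff_forall]
    intro x _
    exact hone x
  refine ⟨1, ?_⟩
  rw [hcard A, hcard B]
  simp

/-- degree five: Sylow. -/
theorem final_five (h5 : Fintype.card α = 5)
    (A B : Subgroup (alternatingGroup α)) (hA : IsMulCommutative A) (hB : IsMulCommutative B)
    (hAmax : ∀ C : Subgroup (alternatingGroup α), IsMulCommutative C → Nat.card C ≤ Nat.card A)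
    (hBmax : ∀ C : Subgroup (alternatingGroup α), IsMulCommutative C → Nat.card C ≤ Nat.card B) :
    ∃ g : alternatingGroup α, B = MulAut.conj g • A := by
  haveI : Fact (Nat.Prime 5) := ⟨by norm_num⟩
  haveI : Nontrivial α := Fintype.one_lt_card_iff_nontrivial.mp (by omega)
  have hG : Nat.card (alternatingGroup α) = 60 := by
    rw [nat_card_alternatingGroup, Nat.card_eq_fintype_card, h5]; rfl
  have h5dvd : 5 ∣ Nat.card (alternatingGroup α) := by rw [hG]; norm_num
  obtain ⟨c, hc⟩ := exists_prime_orderOf_dvd_card' 5 h5dvd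
  have hcard : ∀ C : Subgroup (alternatingGroup α), IsMulCommutative C →
      (∀ D : Subgroup (alternatingGroup α), IsMulCommutative D → Nat.card D ≤ Nat.card C) →
      Nat.card C = 5 := by
    intro C hC hmax
    apply le_antisymm
    · have := card_up_le C hC
      rw [h5] at this
      exact this
    · have := hmax (Subgroup.zpowers c) inferInstance
      rw [Nat.card_zpowers, hc] at this
      exact this
  have hSyl : ∀ C : Subgroup (alternatingGroup α), Nat.card C = 5 →
      ∃ P : Sylow 5 (alternatingGroup α), (P : Subgroup (alternatingGroup α)) = C := by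
    intro C hC
    have hp : IsPGroup 5 C := IsPGroup.of_card (n := 1) (by rw [hC]; rfl)
    obtain ⟨P, hP⟩ := hp.exists_le_sylow
    refine ⟨P, ?_⟩
    symm
    apply Subgroup.eq_of_le_of_card_ge hP
    obtain ⟨k, hk⟩ := IsPGroup.iff_card.mp P.2
    have hdvd : Nat.card P ∣ 60 := by rw [← hG]; exact Subgroup.card_subgroup_dvd_card _
    rw [hk] at hdvd
    have hk1 : k ≤ 1 := by
      by_contra hk2
      have h25 : 5 ^ 2 ∣ 5 ^ k := Nat.pow_dvd_pow 5 (by omega)
      have := dvd_trans h25 hdvd
      omega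
    rw [hk, hC]
    calc 5 ^ k ≤ 5 ^ 1 := Nat.pow_le_pow_right (by norm_num) hk1
      _ = 5 := rfl
  obtain ⟨P, hP⟩ := hSyl A (hcard A hA hAmax)
  obtain ⟨Q, hQ⟩ := hSyl B (hcard B hB hBmax)
  obtain ⟨g, hg⟩ := MulAction.exists_smul_eq (alternatingGroup α) P Q
  refine ⟨g, ?_⟩
  rw [← hP, ← hQ, ← hg]
  rfl

/-- abelian subgroups of the largest order in an alternating group are conjugate. -/
theorem final (A B : Subgroup (alternatingGroup α)) (hA : IsMulCommutative A)
    (hB : IsMulCommutative B)
    (hAmax : ∀ C : Subgroup (alternatingGroup α), IsMulCommutative C → Nat.card C ≤ Nat.card A)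
    (hBmax : ∀ C : Subgroup (alternatingGroup α), IsMulCommutative C → Nat.card C ≤ Nat.card B) :
    ∃ g : alternatingGroup α, B = MulAut.conj g • A := by
  by_cases h2 : Fintype.card α ≤ 2
  · exact final_small h2 A B
  by_cases h5 : Fintype.card α = 5
  · exact final_five h5 A B hA hB hAmax hBmax
  have h3 : 3 ≤ Fintype.card α := by omega
  have hGA := good_up h5 A hA hAmax
  have hGB := good_up h5 B hB hBmax
  obtain ⟨σ, -, hσ⟩ := conj_main _ (Or.inr ⟨h3, h5⟩) _ _ _ _ hGA hGB
  obtain ⟨σ', hσ'1, hσ'⟩ : ∃ σ' : Perm α, Perm.sign σ' = 1 ∧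
      up B = (up A).map (MulAut.conj σ').toMonoidHom := by
    rcases Int.units_eq_one_or (Perm.sign σ) with h | h
    · exact ⟨σ, h, hσ⟩
    · obtain ⟨τ, hτ1, hτ⟩ := odd_normalizer hGA h3 h5
      refine ⟨σ * τ, by rw [Perm.sign_mul, h, hτ1]; rfl, ?_⟩
      rw [hσ]
      conv_lhs => rw [← hτ]
      rw [Subgroup.map_map]
      congr 1
  refine ⟨⟨σ', Perm.mem_alternatingGroup.mpr hσ'1⟩, ?_⟩
  apply up_injective
  rw [up_conj]
  exact hσ'

end Cfsg.Agent.Lib.Helper5.AltAb
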