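import Mathlib

/-!
# Two leaves of Lemma B of S4150 (degree 13)

* `sylow13_false`: a group of order `13·12·11·10·3^β` has no Sylow 13-normalizer of order `13 r`, `r ∣ 12`.
* `fix5_false`: the coprime-action count in the case `|Fix P| = 5`.
-/

namespace Cfsg.Agent.Lib.Helper5.AltGenB5

open Equiv

theorem pow3_mod13 (β : ℕ) : 3 ^ β % 13 = 1 ∨ 3 ^ β % 13 = 3 ∨ 3 ^ β % 13 = 9 := by
  induction β with
  | zero => left; rfl
  | succ k ih =>
    rw [pow_succ]
    rcases ih with h | h | h <;> omega

theorem sylow13_false {H : Type*} [Group H] [Finite H] (β : ℕ)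
    (hH : Nat.card H = 13 * 12 * 11 * 10 * 3 ^ β) (P : Sylow 13 H) (r : ℕ) (hr : r ∣ 12)
    (hN : Nat.card (Subgroup.normalizer (P : Set H)) = 13 * r) : False := by
  have : Fact (Nat.Prime 13) := ⟨by norm_num⟩
  have h1 := card_sylow_modEq_one 13 H
  rw [P.card_eq_index_normalizer] at h1
  have h2 := Subgroup.index_mul_card (Subgroup.normalizer (P : Set H))
  rw [hN, hH] at h2
  generalize (Subgroup.normalizer (P : Set H)).index = n at h1 h2
  have h3 : n * r = 1320 * 3 ^ β := by
    apply Nat.eq_of_mul_eq_mul_left (by norm_num : 0 < 13)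
    linarith
  have h4 : n % 13 = 1 := h1
  have hr12 : r ≤ 12 := Nat.le_of_dvd (by norm_num) hr
  have hy := pow3_mod13 β
  generalize 3 ^ β = y at h3 hy
  interval_cases r <;> first | (exfalso; revert hr; decide) | omega


/-- A permutation of order dividing `5` of a finite type whose cardinality is prime to `5` has a fixed point. -/
theorem exists_fixed_of_pow5 {β : Type*} [Fintype β] [DecidableEq β] (e : Perm β) (he : e ^ 5 = 1)
    (hc : ¬ 5 ∣ Fintype.card β) : ∃ b, e b = b := by
  have : Fact (Nat.Prime 5) := ⟨by norm_num⟩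
  have h := Equiv.Perm.card_compl_support_modEq (p := 5) (n := 1) (σ := e) (by simpa using he)
  by_contra hne
  simp only [not_exists] at hne
  have : e.supportᶜ = ∅ := by
    ext b
    simp only [Finset.mem_compl, Equiv.Perm.mem_support, not_not, Finset.notMem_empty, iff_false]
    exact hne b
  rw [this, Finset.card_empty] at h
  exact hc ((Nat.modEq_zero_iff_dvd).mp h.symm)

/-- If a permutation of order dividing `5` has exactly one fixed point, the cardinality is `≡ 1 (mod 5)`. -/
theorem card_modEq_one_of_unique_fixed {β : Type*} [Fintype β] [DecidableEq β] (e : Perm β)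
    (he : e ^ 5 = 1) (b₀ : β) (hb₀ : e b₀ = b₀) (huniq : ∀ b, e b = b → b = b₀) :
    Fintype.card β % 5 = 1 := by
  have : Fact (Nat.Prime 5) := ⟨by norm_num⟩
  have h := Equiv.Perm.card_compl_support_modEq (p := 5) (n := 1) (σ := e) (by simpa using he)
  have : e.supportᶜ = {b₀} := by
    ext b
    simp only [Finset.mem_compl, Equiv.Perm.mem_support, not_not, Finset.mem_singleton]
    exact ⟨huniq b, fun h => h ▸ hb₀⟩
  rw [this, Finset.card_singleton] at h
  exact h.symm


theorem subtypePerm_pow_val {β : Type*} (f : Perm β) {p : β → Prop} [Finite {x // p x}]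
    (h : ∀ x, p x → p (f x)) (k : ℕ) (x : {x // p x}) :
    (((f.subtypePermOfFintype h) ^ k) x : β) = (f ^ k) x := by
  induction k generalizing x with
  | zero => rfl
  | succ k ih =>
    rw [pow_succ, pow_succ, Perm.mul_apply, Perm.mul_apply, ih]
    rfl

theorem subtypePerm_pow5 {β : Type*} (f : Perm β) {p : β → Prop} [Finite {x // p x}]
    (h : ∀ x, p x → p (f x)) (hf : f ^ 5 = 1) : (f.subtypePermOfFintype h) ^ 5 = 1 := by
  ext x
  rw [subtypePerm_pow_val, hf]
  rfl

theorem fix5_false {α : Type*} [Fintype α] [DecidableEq α] (hα : Fintype.card α < 16)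
    (P : Subgroup (Equiv.Perm α)) (hP : IsPGroup 2 P) (w : Equiv.Perm α) (hw : orderOf w = 5)
    (hwP : ∀ g ∈ P, w * g * w⁻¹ ∈ P)
    (hfix : (Finset.univ.filter fun a => w a = a).card = 3)
    (hF : ∀ a, w a = a → ∃ g ∈ P, g a ≠ a) : False := by
  classical
  have : Fact (Nat.Prime 2) := ⟨Nat.prime_two⟩
  have hw5 : w ^ 5 = 1 := by rw [← hw]; exact pow_orderOf_eq_one w
  -- the centralizer of `w` in `P` fixes a point `r` of `Fix w`
  let C : Subgroup (Equiv.Perm α) := P ⊓ Subgroup.centralizer {w}
  have hC : IsPGroup 2 C := hP.to_le inf_le_left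
  have hCcomm : ∀ c ∈ C, w * c = c * w := fun c hc =>
    (Subgroup.mem_centralizer_iff.mp hc.2 w (Set.mem_singleton w))
  let S : SubMulAction C α :=
    { carrier := {a | w a = a}
      smul_mem' := by
        intro c a ha
        have h1 := hCcomm c.1 c.2
        show w (c.1 a) = c.1 a
        have : (w * c.1) a = (c.1 * w) a := by rw [h1]
        simpa [Equiv.Perm.mul_apply, show w a = a from ha] using this }
  have hScard : Nat.card S = 3 := by
    rw [← hfix, Nat.card_eq_fintype_card, ← Fintype.card_subtype]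
    exact Fintype.card_congr (Equiv.subtypeEquivRight (fun a => Iff.rfl))
  obtain ⟨r0, hr0⟩ := hC.nonempty_fixed_point_of_prime_not_dvd_card S (by rw [hScard]; norm_num)
  obtain ⟨r, hwr⟩ : ∃ r : α, w r = r ∧ ∀ c ∈ C, c r = r := by
    refine ⟨r0.1, r0.2, fun c hc => ?_⟩
    have := hr0 ⟨c, hc⟩
    exact congrArg Subtype.val this
  obtain ⟨hwr, hCr⟩ := hwr
  have hwir : w⁻¹ r = r := by rw [Equiv.Perm.inv_eq_iff_eq]; exact hwr.symm
  -- the orbit of `r` under `P`
  let O : Finset α := Finset.univ.filter fun x => ∃ g ∈ P, g r = x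
  have hrO : r ∈ O := by
    simp only [O, Finset.mem_filter, Finset.mem_univ, true_and]
    exact ⟨1, P.one_mem, rfl⟩
  have hOw : ∀ x, x ∈ O → w x ∈ O := by
    intro x hx
    simp only [O, Finset.mem_filter, Finset.mem_univ, true_and] at hx ⊢
    obtain ⟨g, hg, rfl⟩ := hx
    refine ⟨w * g * w⁻¹, hwP g hg, ?_⟩
    simp [Equiv.Perm.mul_apply, hwir]
  -- cardinality of the orbit
  have hOorb : (MulAction.orbit P r : Set α) = (O : Set α) := by
    ext x
    simp only [MulAction.mem_orbit_iff, O, Finset.coe_filter, Finset.mem_univ, true_and,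
      Set.mem_ofPred_eq, Subtype.exists, Subgroup.mk_smul, Equiv.Perm.smul_def, exists_prop]
  obtain ⟨n, hn⟩ := hP.card_orbit (α := α) r
  have hOcard : O.card = 2 ^ n := by
    rw [← hn, hOorb]
    simp
  have hn1 : 1 ≤ n := by
    obtain ⟨g, hg, hgr⟩ := hF r hwr
    have hgO : g r ∈ O := by
      simp only [O, Finset.mem_filter, Finset.mem_univ, true_and]
      exact ⟨g, hg, rfl⟩
    have h2 : 2 ≤ O.card := by
      have : ({r, g r} : Finset α) ⊆ O := by
        intro x hx
        simp only [Finset.mem_insert, Finset.mem_singleton] at hx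
        rcases hx with rfl | rfl
        · exact hrO
        · exact hgO
      calc 2 = ({r, g r} : Finset α).card := (Finset.card_pair (Ne.symm hgr)).symm
        _ ≤ O.card := Finset.card_le_card this
    by_contra h0
    have : n = 0 := by omega
    rw [hOcard, this] at h2
    norm_num at h2
  have hn3 : n ≤ 3 := by
    have h1 : O.card ≤ Fintype.card α := Finset.card_le_univ O
    rw [hOcard] at h1
    by_contra h4
    have : 2 ^ 4 ≤ 2 ^ n := Nat.pow_le_pow_right (by norm_num) (by omega)
    omega
  -- `w` acts on the orbit with exactly one fixed point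
  let e : Perm {x // x ∈ O} := w.subtypePermOfFintype hOw
  have he5 : e ^ 5 = 1 := subtypePerm_pow5 w hOw hw5
  have huniq : ∀ b : {x // x ∈ O}, e b = b → b = ⟨r, hrO⟩ := by
    rintro ⟨x, hx⟩ hb
    have hwx : w x = x := congrArg Subtype.val hb
    simp only [O, Finset.mem_filter, Finset.mem_univ, true_and] at hx
    obtain ⟨g, hg, hgx⟩ := hx
    -- the coset `Y = {g' ∈ P | g' r = x}`, of 2-power size, is stable under conjugation by `w`
    let St : Subgroup (Perm α) := P ⊓ MulAction.stabilizer (Perm α) r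
    have hSt : IsPGroup 2 St := hP.to_le inf_le_left
    obtain ⟨k, hk⟩ := hSt.exists_card_eq
    let Y : Finset (Perm α) := Finset.univ.filter fun g' => g' ∈ P ∧ g' r = x
    have hYmem : ∀ g', g' ∈ Y ↔ g' ∈ P ∧ g' r = x := fun g' => by
      simp only [Y, Finset.mem_filter, Finset.mem_univ, true_and]
    let cj : Perm (Perm α) := (MulAut.conj w).toEquiv
    have hcjapp : ∀ g', cj g' = w * g' * w⁻¹ := fun g' => rfl
    have hcjpow : ∀ (j : ℕ) g', (cj ^ j) g' = w ^ j * g' * (w ^ j)⁻¹ := by
      intro j
      induction j with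
      | zero => intro g'; simp
      | succ j ih =>
        intro g'
        rw [pow_succ, Perm.mul_apply, ih, hcjapp, pow_succ]
        group
    have hcj5 : cj ^ 5 = 1 := by
      ext1 g'
      rw [hcjpow, hw5]
      simp
    have hcjY : ∀ g', g' ∈ Y → cj g' ∈ Y := by
      intro g' hg'
      rw [hYmem] at hg' ⊢
      refine ⟨hwP g' hg'.1, ?_⟩
      rw [hcjapp]
      simp [Perm.mul_apply, hwir, hg'.2, hwx]
    let e2 : Perm {g' // g' ∈ Y} := cj.subtypePermOfFintype hcjY
    have he2 : e2 ^ 5 = 1 := subtypePerm_pow5 cj hcjY hcj5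
    have hYcard : Fintype.card {g' // g' ∈ Y} = 2 ^ k := by
      rw [← hk, Nat.card_eq_fintype_card]
      refine (Fintype.card_congr ?_).symm
      refine
        { toFun := fun s => ⟨g * s.1, (hYmem _).mpr ⟨P.mul_mem hg s.2.1, ?_⟩⟩
          invFun := fun g' => ⟨g⁻¹ * g'.1, ⟨P.mul_mem (P.inv_mem hg) ((hYmem _).mp g'.2).1, ?_⟩⟩
          left_inv := fun s => by simp
          right_inv := fun g' => by simp }
      · have : s.1 r = r := s.2.2
        rw [Perm.mul_apply, this, hgx]
      · show (g⁻¹ * g'.1) • r = r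
        have : g'.1 r = x := ((hYmem _).mp g'.2).2
        rw [Perm.smul_def, Perm.mul_apply, this, ← hgx]
        simp
    have h5 : ¬ 5 ∣ Fintype.card {g' // g' ∈ Y} := by
      rw [hYcard]
      intro h
      have := Nat.Prime.dvd_of_dvd_pow (by norm_num : Nat.Prime 5) h
      omega
    obtain ⟨c, hc⟩ := exists_fixed_of_pow5 e2 he2 h5
    have hc1 : w * c.1 * w⁻¹ = c.1 := congrArg Subtype.val hc
    have hcY := (hYmem _).mp c.2
    have hcC : c.1 ∈ C := by
      refine ⟨hcY.1, ?_⟩
      show c.1 ∈ Subgroup.centralizer {w}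
      rw [Subgroup.mem_centralizer_iff]
      intro h hh
      rw [Set.mem_singleton_iff] at hh
      subst hh
      calc h * c.1 = (h * c.1 * h⁻¹) * h := by group
        _ = c.1 * h := by rw [hc1]
    have := hCr c.1 hcC
    apply Subtype.ext
    show x = r
    rw [← hcY.2, this]
  have hcard := card_modEq_one_of_unique_fixed e he5 ⟨r, hrO⟩ (Subtype.ext hwr) huniq
  rw [Fintype.card_coe, hOcard] at hcard
  interval_cases n <;> omega

end Cfsg.Agent.Lib.Helper5.AltGenB5
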