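import Mathlib
import Cfsg.Prelude.Def_LocalEven
import Cfsg.Agent.Lib.Helper9.AutAlt1

set_option autoImplicit false

namespace Cfsg.Agent.Lib.Helper5.ThreeMin

open Equiv Equiv.Perm Subgroup
open Cfsg.Agent.Lib.Helper9.H9AutAlt
open scoped Pointwise

universe u

variable {Ω : Type u} [Fintype Ω] [DecidableEq Ω]

/-- a transitive subgroup generated by 3-cycles contains the alternating group -/
theorem alt_le_closure_of_transitive (D : Set (Perm Ω)) (h3D : ∀ d ∈ D, d.IsThreeCycle)
    (hDne : D.Nonempty) (htrans : ∀ x y : Ω, ∃ m ∈ closure D, m x = y) :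
    alternatingGroup Ω ≤ closure D := by
  obtain ⟨d₀, hd₀⟩ := hDne
  refine alternatingGroup_le_of_isPreprimitive_of_isThreeCycle_mem ?_ (h3D d₀ hd₀)
    (subset_closure hd₀)
  set G' := closure D with hG'
  haveI : MulAction.IsPretransitive G' Ω := by
    constructor
    intro x y
    obtain ⟨m, hm, hxy⟩ := htrans x y
    exact ⟨⟨m, hm⟩, hxy⟩
  refine ⟨?_⟩
  intro B hB
  by_cases hBs : B.Subsingleton
  · exact Or.inl hBs
  right
  rw [Set.not_subsingleton_iff] at hBs
  obtain ⟨x, hx, y, hy, hxy⟩ := hBs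
  have key : G' ≤ (MulAction.stabilizer G' B).map G'.subtype := by
    rw [hG', closure_le]
    intro d hd
    have hdG : d ∈ G' := subset_closure hd
    refine ⟨⟨d, hdG⟩, ?_, rfl⟩
    rw [SetLike.mem_coe, MulAction.mem_stabilizer_iff]
    rcases hB.smul_eq_or_disjoint ⟨d, hdG⟩ with h | h
    · exact h
    exfalso
    have hgx' : (⟨d, hdG⟩ : G') • x ∉ B := by
      intro hcon
      exact Set.disjoint_left.mp h (Set.smul_mem_smul_set hx) hcon
    have hgy' : (⟨d, hdG⟩ : G') • y ∉ B := by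
      intro hcon
      exact Set.disjoint_left.mp h (Set.smul_mem_smul_set hy) hcon
    have e1 : ((⟨d, hdG⟩ : G') • x : Ω) = d x := rfl
    have e2 : ((⟨d, hdG⟩ : G') • y : Ω) = d y := rfl
    rw [e1] at hgx'
    rw [e2] at hgy'
    have n2 : d x ≠ x := by
      intro h; apply hgx'; rw [h]; exact hx
    have n3 : d x ≠ y := by
      intro h; apply hgx'; rw [h]; exact hy
    have n4 : d y ≠ x := by
      intro h; apply hgy'; rw [h]; exact hx
    have n5 : d y ≠ y := by
      intro h; apply hgy'; rw [h]; exact hy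
    have n6 : d x ≠ d y := fun h => hxy (d.injective h)
    have hsub : ({x, y, d x, d y} : Finset Ω) ⊆ d.support := by
      intro z hz
      simp only [Finset.mem_insert, Finset.mem_singleton] at hz
      rcases hz with rfl | rfl | rfl | rfl
      · exact mem_support.mpr n2
      · exact mem_support.mpr n5
      · exact apply_mem_support.mpr (mem_support.mpr n2)
      · exact apply_mem_support.mpr (mem_support.mpr n5)
    have hcard : ({x, y, d x, d y} : Finset Ω).card = 4 := by
      rw [Finset.card_insert_of_notMem, Finset.card_insert_of_notMem,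
        Finset.card_insert_of_notMem, Finset.card_singleton]
      · simp only [Finset.mem_singleton]; exact n6
      · simp only [Finset.mem_insert, Finset.mem_singleton, not_or]
        exact ⟨n3.symm, n5.symm⟩
      · simp only [Finset.mem_insert, Finset.mem_singleton, not_or]
        exact ⟨hxy, n2.symm, n4.symm⟩
    have := Finset.card_le_card hsub
    rw [hcard, (h3D d hd).card_support] at this
    omega
  rw [Set.eq_univ_iff_forall]
  intro w
  obtain ⟨m, hm, hmw⟩ := htrans x w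
  obtain ⟨g', hg', hgm⟩ := key hm
  rw [SetLike.mem_coe, MulAction.mem_stabilizer_iff] at hg'
  have : g' • x = w := by
    show (g'.1 : Perm Ω) x = w
    have : (g'.1 : Perm Ω) = m := hgm
    rw [this, hmw]
  rw [← this, ← hg']
  exact Set.smul_mem_smul_set hx

/-- the subgroup of permutations preserving the fibres of `π` as a partition -/
def Hpi {κ : Type*} (π : Ω → κ) : Subgroup (Perm Ω) where
  carrier := {σ | ∀ x y, π (σ x) = π (σ y) ↔ π x = π y}
  one_mem' := fun x y => Iff.rfl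
  mul_mem' := by
    intro a b ha hb x y
    rw [Perm.mul_apply, Perm.mul_apply, ha, hb]
  inv_mem' := by
    intro a ha x y
    have := ha (a⁻¹ x) (a⁻¹ y)
    rw [show a (a⁻¹ x) = x from (Equiv.eq_symm_apply a).mp rfl,
      show a (a⁻¹ y) = y from (Equiv.eq_symm_apply a).mp rfl] at this
    exact this.symm

theorem mem_Hpi {κ : Type*} (π : Ω → κ) (σ : Perm Ω) :
    σ ∈ Hpi π ↔ ∀ x y, π (σ x) = π (σ y) ↔ π x = π y := Iff.rfl

theorem mem_Hpi_of_semiconj {κ : Type*} (π : Ω → κ) (σ : Perm Ω) (g : κ → κ)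
    (hg : Function.Injective g) (h : ∀ x, π (σ x) = g (π x)) : σ ∈ Hpi π := by
  intro x y
  rw [h, h]
  exact hg.eq_iff

theorem mem_Hpi_of_fix {κ : Type*} (π : Ω → κ) (σ : Perm Ω) (h : ∀ x, π (σ x) = π x) :
    σ ∈ Hpi π :=
  mem_Hpi_of_semiconj π σ id Function.injective_id h

theorem mem_alt_of_pow_three (σ : Perm Ω) (h : σ ^ 3 = 1) : σ ∈ alternatingGroup Ω := by
  rw [mem_alternatingGroup]
  have h2 : sign σ ^ 3 = 1 := by rw [← map_pow, h, map_one]
  rcases Int.units_eq_one_or (sign σ) with h1 | h1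
  · exact h1
  · rw [h1] at h2
    exact absurd h2 (by decide)

/-- the unique maximal subgroup over a Sylow subgroup in a `p`-minimal group -/
theorem exists_max_of_isPMinimal {G : Type*} [Group G] [Finite G] {p : ℕ}
    (hG : Cfsg.IsPMinimal p G) (S : Sylow p G) :
    ∃ M : Subgroup G, M ≠ ⊤ ∧ ∀ H : Subgroup G, H ≠ ⊤ → (S : Subgroup G) ≤ H → H ≤ M := by
  obtain ⟨-, M, ⟨hM, hSM⟩, huniq⟩ := hG S
  refine ⟨M, hM.1, ?_⟩
  intro H hH hSH
  rcases eq_top_or_exists_le_coatom H with h | ⟨K, hK, hHK⟩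
  · exact absurd h hH
  · have := huniq K ⟨hK, hSH.trans hHK⟩
    rw [← this]
    exact hHK

/-- translation to subgroups of `Perm Ω` -/
theorem exists_max_perm (hmin : Cfsg.IsPMinimal 3 (alternatingGroup Ω)) (S : Subgroup (Perm Ω))
    (hSA : S ≤ alternatingGroup Ω)
    (hcard : Nat.card S = 3 ^ (Nat.card (alternatingGroup Ω)).factorization 3) :
    ∃ M : Subgroup (Perm Ω), M ≤ alternatingGroup Ω ∧ M ≠ alternatingGroup Ω ∧
      ∀ H : Subgroup (Perm Ω), H ≤ alternatingGroup Ω → H ≠ alternatingGroup Ω → S ≤ H →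
        H ≤ M := by
  haveI : Fact (Nat.Prime 3) := ⟨Nat.prime_three⟩
  have hc' : Nat.card (S.subgroupOf (alternatingGroup Ω)) =
      3 ^ (Nat.card (alternatingGroup Ω)).factorization 3 := by
    rw [Nat.card_congr (Subgroup.subgroupOfEquivOfLe hSA).toEquiv, hcard]
  obtain ⟨M, hM, hMmax⟩ := exists_max_of_isPMinimal hmin (Sylow.ofCard _ hc')
  have htop : (⊤ : Subgroup (alternatingGroup Ω)).map (alternatingGroup Ω).subtype =
      alternatingGroup Ω := by
    rw [← MonoidHom.range_eq_map, Subgroup.range_subtype]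
  refine ⟨M.map (alternatingGroup Ω).subtype, Subgroup.map_subtype_le _, ?_, ?_⟩
  · intro h
    apply hM
    apply Subgroup.map_injective (alternatingGroup Ω).subtype_injective
    rw [h, htop]
  · intro H hHA hHne hSH
    have h1 : H.subgroupOf (alternatingGroup Ω) ≠ ⊤ := by
      intro h
      rw [Subgroup.subgroupOf_eq_top] at h
      exact hHne (le_antisymm hHA h)
    have h2 : ((Sylow.ofCard _ hc' : Sylow 3 (alternatingGroup Ω)) :
        Subgroup (alternatingGroup Ω)) ≤ H.subgroupOf (alternatingGroup Ω) := by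
      intro x hx
      rw [Subgroup.mem_subgroupOf]
      apply hSH
      have : x ∈ S.subgroupOf (alternatingGroup Ω) := hx
      rwa [Subgroup.mem_subgroupOf] at this
    have h3 := hMmax _ h1 h2
    have h4 := Subgroup.map_mono (f := (alternatingGroup Ω).subtype) h3
    rwa [Subgroup.map_subgroupOf_eq_of_le hHA] at h4

/-- connectivity through the 3-cycles of `M` -/
def Conn (M : Subgroup (Perm Ω)) (x y : Ω) : Prop :=
  ∃ m ∈ closure {c | c ∈ M ∧ c.IsThreeCycle}, m x = y

theorem Conn.refl (M : Subgroup (Perm Ω)) (x : Ω) : Conn M x x := ⟨1, Subgroup.one_mem _, rfl⟩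

theorem Conn.symm {M : Subgroup (Perm Ω)} {x y : Ω} (h : Conn M x y) : Conn M y x := by
  obtain ⟨m, hm, rfl⟩ := h
  exact ⟨m⁻¹, Subgroup.inv_mem _ hm, Perm.inv_eq_iff_eq.mpr rfl⟩

theorem Conn.trans {M : Subgroup (Perm Ω)} {x y z : Ω} (h1 : Conn M x y) (h2 : Conn M y z) :
    Conn M x z := by
  obtain ⟨m, hm, rfl⟩ := h1
  obtain ⟨m', hm', rfl⟩ := h2
  exact ⟨m' * m, Subgroup.mul_mem _ hm' hm, rfl⟩

theorem conn_cyc {M : Subgroup (Perm Ω)} {a b c : Ω} (hab : a ≠ b) (hac : a ≠ c) (hbc : b ≠ c)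
    (h : cyc a b c ∈ M) : Conn M a b ∧ Conn M b c := by
  have hm : cyc a b c ∈ closure {c | c ∈ M ∧ c.IsThreeCycle} :=
    subset_closure ⟨h, cyc_isThreeCycle hab hac hbc⟩
  exact ⟨⟨_, hm, cyc_apply_fst hab hac⟩, ⟨_, hm, cyc_apply_snd hac hbc⟩⟩

theorem contra_of_connected (M : Subgroup (Perm Ω)) (hMA : M ≤ alternatingGroup Ω)
    (hMne : M ≠ alternatingGroup Ω) (hc : ∃ c ∈ M, c.IsThreeCycle)
    (htrans : ∀ x y, Conn M x y) : False := by
  have h1 : alternatingGroup Ω ≤ closure {c | c ∈ M ∧ c.IsThreeCycle} := by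
    apply alt_le_closure_of_transitive
    · intro d hd; exact hd.2
    · obtain ⟨c, hc1, hc2⟩ := hc
      exact ⟨c, hc1, hc2⟩
    · exact htrans
  have h2 : closure {c | c ∈ M ∧ c.IsThreeCycle} ≤ M := by
    rw [closure_le]
    intro c hc
    exact hc.1
  exact hMne (le_antisymm hMA (h1.trans h2))

/-- membership in `M` through a partition-preserving subgroup -/
theorem mem_of_mem_Hpi {κ : Type*} (π : Ω → κ) (S M : Subgroup (Perm Ω))
    (hM : ∀ H : Subgroup (Perm Ω), H ≤ alternatingGroup Ω → H ≠ alternatingGroup Ω → S ≤ H →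
      H ≤ M)
    (hSA : S ≤ alternatingGroup Ω) (hS : S ≤ Hpi π)
    (hne : ∃ σ ∈ alternatingGroup Ω, σ ∉ Hpi π) (σ : Perm Ω) (hσA : σ ∈ alternatingGroup Ω)
    (hσ : σ ∈ Hpi π) : σ ∈ M := by
  have h1 : Hpi π ⊓ alternatingGroup Ω ≠ alternatingGroup Ω := by
    intro h
    obtain ⟨τ, hτA, hτ⟩ := hne
    apply hτ
    rw [← h] at hτA
    exact hτA.1
  exact hM _ inf_le_right h1 (le_inf hS hSA) ⟨hσ, hσA⟩

end Cfsg.Agent.Lib.Helper5.ThreeMin
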