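import Mathlib
import Cfsg.Prelude.Def_LocalEven
import Cfsg.Agent.Lib.Helper5.ThreeMin1
import Cfsg.Agent.Lib.Helper5.SylSym6

set_option autoImplicit false

namespace Cfsg.Agent.Lib.Helper5.ThreeMin

open Equiv Equiv.Perm Subgroup
open Cfsg.Agent.Lib.Helper9.H9AutAlt
open Cfsg.Agent.Lib.Helper5.SylSym
open scoped Pointwise

section general

variable {Ω : Type*} [Fintype Ω] [DecidableEq Ω]

theorem cyc_mem_alt {a b c : Ω} (hab : a ≠ b) (hac : a ≠ c) (hbc : b ≠ c) :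
    cyc a b c ∈ alternatingGroup Ω :=
  (cyc_isThreeCycle hab hac hbc).mem_alternatingGroup

theorem cyc_mem_Hpi {κ : Type*} (π : Ω → κ) {a b c : Ω} (hab : a ≠ b) (hac : a ≠ c)
    (hbc : b ≠ c) (h1 : π a = π b) (h2 : π b = π c) : cyc a b c ∈ Hpi π := by
  apply mem_Hpi_of_fix
  intro x
  by_cases hxa : x = a
  · subst hxa
    rw [cyc_apply_fst hab hac, h1]
  by_cases hxb : x = b
  · subst hxb
    rw [cyc_apply_snd hac hbc, h2]
  by_cases hxc : x = c
  · subst hxc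
    rw [cyc_apply_trd, h1, h2]
  rw [cyc_apply_of_ne hxa hxb hxc]

theorem cyc_not_mem_Hpi {κ : Type*} (π : Ω → κ) {x y z : Ω} (hxy : x ≠ y) (hxz : x ≠ z)
    (hyz : y ≠ z) (h1 : π x = π y) (h2 : π y ≠ π z) : cyc x y z ∉ Hpi π := by
  intro h
  have := (h x y).mpr h1
  rw [cyc_apply_fst hxy hxz, cyc_apply_snd hxz hyz] at this
  exact h2 this

/-- the data of the unique maximal subgroup over `S` -/
structure IsMax (S M : Subgroup (Perm Ω)) : Prop where
  le : M ≤ alternatingGroup Ω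
  ne : M ≠ alternatingGroup Ω
  sle : S ≤ alternatingGroup Ω
  max : ∀ H : Subgroup (Perm Ω), H ≤ alternatingGroup Ω → H ≠ alternatingGroup Ω → S ≤ H →
    H ≤ M

theorem IsMax.mem {S M : Subgroup (Perm Ω)} (h : IsMax S M) {κ : Type*} (π : Ω → κ)
    (hS : S ≤ Hpi π) {x y z : Ω} (hxy : x ≠ y) (hxz : x ≠ z) (hyz : y ≠ z) (h1 : π x = π y)
    (h2 : π y ≠ π z) {σ : Perm Ω} (hσA : σ ∈ alternatingGroup Ω) (hσ : σ ∈ Hpi π) : σ ∈ M :=
  mem_of_mem_Hpi π S M h.max h.sle hS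
    ⟨cyc x y z, cyc_mem_alt hxy hxz hyz, cyc_not_mem_Hpi π hxy hxz hyz h1 h2⟩ σ hσA hσ

theorem IsMax.cyc_mem {S M : Subgroup (Perm Ω)} (h : IsMax S M) {κ : Type*} (π : Ω → κ)
    (hS : S ≤ Hpi π) {x y z : Ω} (hxy : x ≠ y) (hxz : x ≠ z) (hyz : y ≠ z) (h1 : π x = π y)
    (h2 : π y ≠ π z) {a b c : Ω} (hab : a ≠ b) (hac : a ≠ c) (hbc : b ≠ c) (h3 : π a = π b)
    (h4 : π b = π c) : cyc a b c ∈ M :=
  h.mem π hS hxy hxz hyz h1 h2 (cyc_mem_alt hab hac hbc) (cyc_mem_Hpi π hab hac hbc h3 h4)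

theorem IsMax.conn {S M : Subgroup (Perm Ω)} (h : IsMax S M) {κ : Type*} (π : Ω → κ)
    (hS : S ≤ Hpi π) {x y z : Ω} (hxy : x ≠ y) (hxz : x ≠ z) (hyz : y ≠ z) (h1 : π x = π y)
    (h2 : π y ≠ π z) {a b c : Ω} (hab : a ≠ b) (hac : a ≠ c) (hbc : b ≠ c) (h3 : π a = π b)
    (h4 : π b = π c) : Conn M a b ∧ Conn M b c :=
  conn_cyc hab hac hbc (h.cyc_mem π hS hxy hxz hyz h1 h2 hab hac hbc h3 h4)

theorem IsMax.contra {S M : Subgroup (Perm Ω)} (h : IsMax S M) (hc : ∃ c ∈ M, c.IsThreeCycle)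
    (htrans : ∀ x y, Conn M x y) : False :=
  contra_of_connected M h.le h.ne hc htrans

theorem exists_isMax (hmin : Cfsg.IsPMinimal 3 (alternatingGroup Ω)) (S : Subgroup (Perm Ω))
    (hSA : S ≤ alternatingGroup Ω)
    (hcard : Nat.card S = 3 ^ (Nat.card (alternatingGroup Ω)).factorization 3) :
    ∃ M, IsMax S M := by
  obtain ⟨M, h1, h2, h3⟩ := exists_max_perm hmin S hSA hcard
  exact ⟨M, ⟨h1, h2, hSA, h3⟩⟩

end general

/-- transport of `p`-minimality along an isomorphism -/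
theorem isPMinimal_of_mulEquiv {G H : Type*} [Group G] [Group H] {p : ℕ} (e : G ≃* H)
    (h : Cfsg.IsPMinimal p G) : Cfsg.IsPMinimal p H := by
  intro S
  have hr : (S : Subgroup H) ≤ e.toMonoidHom.range := by
    rw [MonoidHom.range_eq_top.mpr e.surjective]
    exact le_top
  set S' : Sylow p G := S.comapOfInjective e.toMonoidHom e.injective hr with hS'
  have hS'c : (S' : Subgroup G) = (S : Subgroup H).comap e.toMonoidHom :=
    Sylow.coe_comapOfInjective _ _ _ _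
  obtain ⟨hnn, M, ⟨hM, hSM⟩, huniq⟩ := h S'
  have hmapcomap : ∀ K : Subgroup H, (K.comap e.toMonoidHom).map e.toMonoidHom = K := by
    intro K
    exact Subgroup.map_comap_eq_self_of_surjective e.surjective K
  have hcomapmap : ∀ K : Subgroup G, (K.map e.toMonoidHom).comap e.toMonoidHom = K := by
    intro K
    exact Subgroup.comap_map_eq_self_of_injective e.injective K
  refine ⟨?_, M.map e.toMonoidHom, ⟨?_, ?_⟩, ?_⟩
  · intro hn
    apply hnn
    rw [hS'c]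
    exact hn.comap _
  · have := (MulEquiv.mapSubgroup e).isCoatom_iff (a := M)
    exact this.mpr hM
  · rw [← hmapcomap (S : Subgroup H), ← hS'c]
    exact Subgroup.map_mono hSM
  · intro K ⟨hK, hSK⟩
    have hK' : IsCoatom (K.comap e.toMonoidHom) := by
      have := (MulEquiv.mapSubgroup e).isCoatom_iff (a := K.comap e.toMonoidHom)
      rw [← this]
      show IsCoatom ((K.comap e.toMonoidHom).map e.toMonoidHom)
      rw [hmapcomap]
      exact hK
    have h2 : (S' : Subgroup G) ≤ K.comap e.toMonoidHom := by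
      rw [hS'c]
      exact Subgroup.comap_mono hSK
    have := huniq _ ⟨hK', h2⟩
    rw [← this, hmapcomap]

end Cfsg.Agent.Lib.Helper5.ThreeMin
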