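import Mathlib
import Cfsg.Agent.Lib.Helper5.ThreeMin2
import Cfsg.Agent.Lib.Helper5.AltTwoMax1

set_option autoImplicit false

namespace Cfsg.Agent.Lib.Helper5.AltTwoMax

open Equiv Equiv.Perm Subgroup
open Cfsg.Agent.Lib.Helper9.H9AutAlt
open Cfsg.Agent.Lib.Helper5.ThreeMin

variable {Ω : Type*} [Fintype Ω] [DecidableEq Ω]

/-- the (weak) data of a subgroup containing all the partition stabilizers over `S` -/
structure IsMaxW (S M : Subgroup (Perm Ω)) : Prop where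
  max : ∀ K : Subgroup (Perm Ω), S ≤ K → ¬ alternatingGroup Ω ≤ K →
    K ⊓ alternatingGroup Ω ≤ M
  nle : ¬ alternatingGroup Ω ≤ M

theorem IsMaxW.mem {S M : Subgroup (Perm Ω)} (h : IsMaxW S M) {κ : Type*} (π : Ω → κ)
    (hS : S ≤ Hpi π) {x y z : Ω} (hxy : x ≠ y) (hxz : x ≠ z) (hyz : y ≠ z) (h1 : π x = π y)
    (h2 : π y ≠ π z) {σ : Perm Ω} (hσA : σ ∈ alternatingGroup Ω) (hσ : σ ∈ Hpi π) : σ ∈ M :=
  h.max (Hpi π) hS
    (fun hle => cyc_not_mem_Hpi π hxy hxz hyz h1 h2 (hle (cyc_mem_alt hxy hxz hyz))) ⟨hσ, hσA⟩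

theorem IsMaxW.cyc_mem {S M : Subgroup (Perm Ω)} (h : IsMaxW S M) {κ : Type*} (π : Ω → κ)
    (hS : S ≤ Hpi π) {x y z : Ω} (hxy : x ≠ y) (hxz : x ≠ z) (hyz : y ≠ z) (h1 : π x = π y)
    (h2 : π y ≠ π z) {a b c : Ω} (hab : a ≠ b) (hac : a ≠ c) (hbc : b ≠ c) (h3 : π a = π b)
    (h4 : π b = π c) : cyc a b c ∈ M :=
  h.mem π hS hxy hxz hyz h1 h2 (cyc_mem_alt hab hac hbc) (cyc_mem_Hpi π hab hac hbc h3 h4)

theorem IsMaxW.conn {S M : Subgroup (Perm Ω)} (h : IsMaxW S M) {κ : Type*} (π : Ω → κ)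
    (hS : S ≤ Hpi π) {x y z : Ω} (hxy : x ≠ y) (hxz : x ≠ z) (hyz : y ≠ z) (h1 : π x = π y)
    (h2 : π y ≠ π z) {a b c : Ω} (hab : a ≠ b) (hac : a ≠ c) (hbc : b ≠ c) (h3 : π a = π b)
    (h4 : π b = π c) : Conn M a b ∧ Conn M b c :=
  conn_cyc hab hac hbc (h.cyc_mem π hS hxy hxz hyz h1 h2 hab hac hbc h3 h4)

theorem IsMaxW.contra {S M : Subgroup (Perm Ω)} (h : IsMaxW S M)
    (hc : ∃ c ∈ M, c.IsThreeCycle) (htrans : ∀ x y, Conn M x y) : False := by
  have h1 : alternatingGroup Ω ≤ closure {c | c ∈ M ∧ c.IsThreeCycle} := by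
    apply alt_le_closure_of_transitive
    · intro d hd; exact hd.2
    · obtain ⟨c, hc1, hc2⟩ := hc
      exact ⟨c, hc1, hc2⟩
    · exact htrans
  have h2 : closure {c | c ∈ M ∧ c.IsThreeCycle} ≤ M := by
    rw [closure_le]
    intro c hc
    exact hc.1
  exact h.nle (h1.trans h2)

/-- the alternating case -/
theorem exists_isMaxW_alt (S : Subgroup (Perm Ω))
    (hU : UniqMax ((S ⊓ alternatingGroup Ω).subgroupOf (alternatingGroup Ω))) :
    ∃ M, IsMaxW S M := by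
  obtain ⟨M', hM'ne, -, hmax⟩ := exists_max_of_uniqMax hU
  refine ⟨M'.map (alternatingGroup Ω).subtype, ⟨?_, ?_⟩⟩
  · intro K hSK hK
    have h1 : (K ⊓ alternatingGroup Ω).subgroupOf (alternatingGroup Ω) ≠ ⊤ := by
      intro h
      rw [Subgroup.subgroupOf_eq_top] at h
      exact hK (h.trans inf_le_left)
    have h2 : (S ⊓ alternatingGroup Ω).subgroupOf (alternatingGroup Ω) ≤
        (K ⊓ alternatingGroup Ω).subgroupOf (alternatingGroup Ω) := by
      intro x hx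
      rw [Subgroup.mem_subgroupOf] at hx ⊢
      exact ⟨hSK hx.1, hx.2⟩
    have h3 := hmax _ h1 h2
    have h4 := Subgroup.map_mono (f := (alternatingGroup Ω).subtype) h3
    rwa [Subgroup.map_subgroupOf_eq_of_le inf_le_right] at h4
  · intro hle
    apply hM'ne
    rw [eq_top_iff]
    intro x _
    obtain ⟨y, hy, hyx⟩ := hle x.2
    have : y = x := Subtype.ext hyx
    rwa [this] at hy

/-- the symmetric case -/
theorem exists_isMaxW_perm (S : Subgroup (Perm Ω)) (hU : UniqMax S)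
    (hodd : ∃ s ∈ S, sign s = -1) : ∃ M, IsMaxW S M := by
  obtain ⟨M, hMne, hSM, hmax⟩ := exists_max_of_uniqMax hU
  refine ⟨M, ⟨?_, ?_⟩⟩
  · intro K hSK hK
    have h1 : K ≠ ⊤ := by
      intro h
      rw [h] at hK
      exact hK le_top
    exact inf_le_left.trans (hmax K h1 hSK)
  · intro hle
    apply hMne
    rw [eq_top_iff]
    intro σ _
    obtain ⟨s, hs, hsign⟩ := hodd
    rcases Int.units_eq_one_or (sign σ) with h | h
    · exact hle (mem_alternatingGroup.mpr h)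
    · have h1 : σ * s⁻¹ ∈ alternatingGroup Ω := by
        rw [mem_alternatingGroup, map_mul, map_inv, h, hsign]
        decide
      have := M.mul_mem (hle h1) (hSM hs)
      rwa [inv_mul_cancel_right] at this

end Cfsg.Agent.Lib.Helper5.AltTwoMax
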