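import Mathlib
import Cfsg.Prelude.Def_LocalEven
import Cfsg.Agent.Lib.Helper5.ThreeMin2

set_option autoImplicit false

namespace Cfsg.Agent.Lib.Helper5.ThreeMin

open Equiv Equiv.Perm Subgroup
open Cfsg.Agent.Lib.Helper9.H9AutAlt
open Cfsg.Agent.Lib.Helper5.SylSym
open scoped Pointwise

variable {β γ : Type*} [Fintype β] [DecidableEq β] [Fintype γ] [DecidableEq γ]

/-- the model Sylow subgroup on `(β × ZMod 3) ⊕ γ` -/
def SS (γ : Type*) (T : Subgroup (Perm β)) : Subgroup (Perm ((β × ZMod 3) ⊕ γ)) :=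
  (W (p := 3) T).map (extHom' (β × ZMod 3) γ)

theorem extHom'_inl {α : Type*} (τ : Perm α) (x : α) :
    extHom' α γ τ (Sum.inl x) = Sum.inl (τ x) := rfl

theorem extHom'_inr {α : Type*} (τ : Perm α) (u : γ) :
    extHom' α γ τ (Sum.inr u) = Sum.inr u := rfl

theorem mem_SS {T : Subgroup (Perm β)} {σ : Perm ((β × ZMod 3) ⊕ γ)} :
    σ ∈ SS γ T ↔ ∃ f : β → Multiplicative (ZMod 3), ∃ t ∈ T,
      σ = extHom' (β × ZMod 3) γ (bHom 3 β f * tHom 3 β t) := by
  constructor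
  · rintro ⟨w, ⟨f, t, ht, rfl⟩, rfl⟩
    exact ⟨f, t, ht, rfl⟩
  · rintro ⟨f, t, ht, rfl⟩
    exact ⟨_, ⟨f, t, ht, rfl⟩, rfl⟩

theorem SS_le_Hpi_fix {κ : Type*} (T : Subgroup (Perm β)) (ρ : β → κ) (g : γ → κ)
    (hρ : ∀ t ∈ T, ∀ b, ρ (t b) = ρ b) :
    SS γ T ≤ Hpi (Sum.elim (ρ ∘ Prod.fst) g : (β × ZMod 3) ⊕ γ → κ) := by
  intro σ hσ
  obtain ⟨f, t, ht, rfl⟩ := mem_SS.mp hσ
  apply mem_Hpi_of_fix
  rintro (⟨b, z⟩ | u)
  · rw [extHom'_inl, bt_apply]
    simp only [Sum.elim_inl, Function.comp_apply]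
    exact hρ t ht b
  · rw [extHom'_inr]

theorem SS_le_Hpi_semi {κ : Type*} (T : Subgroup (Perm β)) (ρ : β → κ)
    (hρ : ∀ t ∈ T, ∃ g : κ → κ, Function.Injective g ∧ ∀ b, ρ (t b) = g (ρ b)) :
    SS γ T ≤ Hpi (Sum.map (ρ ∘ Prod.fst) id : (β × ZMod 3) ⊕ γ → κ ⊕ γ) := by
  intro σ hσ
  obtain ⟨f, t, ht, rfl⟩ := mem_SS.mp hσ
  obtain ⟨g, hg, hgt⟩ := hρ t ht
  apply mem_Hpi_of_semiconj _ _ (Sum.map g id) (Sum.map_injective.mpr ⟨hg, Function.injective_id⟩)
  rintro (⟨b, z⟩ | u)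
  · rw [extHom'_inl, bt_apply]
    simp only [Sum.map_inl, Function.comp_apply]
    rw [hgt]
  · rw [extHom'_inr]
    rfl

theorem card_SS (T : Subgroup (Perm β))
    (hT : Nat.card T = 3 ^ padicValNat 3 (Fintype.card β).factorial)
    (hγ : Fintype.card γ < 3) (hβ : 1 ≤ Fintype.card β) :
    Nat.card (SS γ T) =
      3 ^ (Nat.card (alternatingGroup ((β × ZMod 3) ⊕ γ))).factorization 3 := by
  haveI : Fact (Nat.Prime 3) := ⟨Nat.prime_three⟩
  have hcΩ : Fintype.card ((β × ZMod 3) ⊕ γ) = Fintype.card β * 3 + Fintype.card γ := by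
    rw [Fintype.card_sum, Fintype.card_prod, ZMod.card]
  haveI : Nontrivial ((β × ZMod 3) ⊕ γ) := by
    rw [← Fintype.one_lt_card_iff_nontrivial, hcΩ]
    omega
  have h2 := two_mul_nat_card_alternatingGroup (α := (β × ZMod 3) ⊕ γ)
  have h3 : (Nat.card (alternatingGroup ((β × ZMod 3) ⊕ γ))).factorization 3 =
      padicValNat 3 (Fintype.card β * 3 + Fintype.card γ).factorial := by
    have hne : Nat.card (alternatingGroup ((β × ZMod 3) ⊕ γ)) ≠ 0 := Nat.card_pos.ne'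
    have h4 : (2 * Nat.card (alternatingGroup ((β × ZMod 3) ⊕ γ))).factorization 3 =
        (Nat.card (alternatingGroup ((β × ZMod 3) ⊕ γ))).factorization 3 := by
      rw [Nat.factorization_mul (by norm_num) hne]
      simp only [Finsupp.coe_add, Pi.add_apply]
      rw [Nat.factorization_eq_zero_of_not_dvd (by norm_num : ¬ 3 ∣ 2), zero_add]
    rw [← h4, h2, Nat.card_perm, Nat.card_eq_fintype_card, hcΩ,
      Nat.factorization_def _ Nat.prime_three]
  unfold SS
  rw [Subgroup.card_map_of_injective (extHom'_injective _ _), card_W, hT, h3,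
    padicVal_step 3 (Fintype.card β * 3 + Fintype.card γ)]
  have hdiv : (Fintype.card β * 3 + Fintype.card γ) / 3 = Fintype.card β := by omega
  rw [hdiv, ← pow_add, add_comm]

theorem SS_le_alt (T : Subgroup (Perm β))
    (hT : Nat.card T = 3 ^ padicValNat 3 (Fintype.card β).factorial) :
    SS γ T ≤ alternatingGroup ((β × ZMod 3) ⊕ γ) := by
  haveI : Fact (Nat.Prime 3) := ⟨Nat.prime_three⟩
  apply le_alt_of_odd (p := 3) (by norm_num)
  apply IsPGroup.of_card (n := Fintype.card β + padicValNat 3 (Fintype.card β).factorial)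
  unfold SS
  rw [Subgroup.card_map_of_injective (extHom'_injective _ _), card_W, hT, ← pow_add]

/-- a Sylow `3`-subgroup of `Perm β` has the right order -/
theorem exists_T (β : Type*) [Fintype β] [DecidableEq β] :
    ∃ T : Subgroup (Perm β), Nat.card T = 3 ^ padicValNat 3 (Fintype.card β).factorial := by
  haveI : Fact (Nat.Prime 3) := ⟨Nat.prime_three⟩
  obtain ⟨P⟩ : Nonempty (Sylow 3 (Perm β)) := inferInstance
  refine ⟨P, ?_⟩
  rw [P.card_eq_multiplicity, Nat.card_perm, Nat.card_eq_fintype_card,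
    Nat.factorization_def _ Nat.prime_three]

/-- the wreath product has the right order again -/
theorem card_W_T (T : Subgroup (Perm β))
    (hT : Nat.card T = 3 ^ padicValNat 3 (Fintype.card β).factorial) :
    Nat.card (W (p := 3) T) =
      3 ^ padicValNat 3 (Fintype.card (β × ZMod 3)).factorial := by
  haveI : Fact (Nat.Prime 3) := ⟨Nat.prime_three⟩
  rw [card_W, hT, Fintype.card_prod, ZMod.card, padicVal_step 3 (Fintype.card β * 3)]
  have hdiv : (Fintype.card β * 3) / 3 = Fintype.card β := by omega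
  rw [hdiv, ← pow_add, add_comm]

end Cfsg.Agent.Lib.Helper5.ThreeMin
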