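import Mathlib
import Cfsg.Agent.Lib.Helper5.ThreeMin3
import Cfsg.Agent.Lib.Helper5.AltTwoMax2

set_option autoImplicit false

namespace Cfsg.Agent.Lib.Helper5.AltTwoMax

open Equiv Equiv.Perm Subgroup
open Cfsg.Agent.Lib.Helper9.H9AutAlt
open Cfsg.Agent.Lib.Helper5.ThreeMin
open Cfsg.Agent.Lib.Helper5.SylSym

variable {β γ : Type*} [Fintype β] [DecidableEq β] [Fintype γ] [DecidableEq γ]

/-- the model Sylow `2`-subgroup on `(β × ZMod 2) ⊕ γ` -/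
def SS2 (γ : Type*) (T : Subgroup (Perm β)) : Subgroup (Perm ((β × ZMod 2) ⊕ γ)) :=
  (W (p := 2) T).map (extHom' (β × ZMod 2) γ)

theorem mem_SS2 {T : Subgroup (Perm β)} {σ : Perm ((β × ZMod 2) ⊕ γ)} :
    σ ∈ SS2 γ T ↔ ∃ f : β → Multiplicative (ZMod 2), ∃ t ∈ T,
      σ = extHom' (β × ZMod 2) γ (bHom 2 β f * tHom 2 β t) := by
  constructor
  · rintro ⟨w, ⟨f, t, ht, rfl⟩, rfl⟩
    exact ⟨f, t, ht, rfl⟩
  · rintro ⟨f, t, ht, rfl⟩
    exact ⟨_, ⟨f, t, ht, rfl⟩, rfl⟩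

theorem SS2_le_Hpi_fix {κ : Type*} (T : Subgroup (Perm β)) (ρ : β → κ) (g : γ → κ)
    (hρ : ∀ t ∈ T, ∀ b, ρ (t b) = ρ b) :
    SS2 γ T ≤ Hpi (Sum.elim (ρ ∘ Prod.fst) g : (β × ZMod 2) ⊕ γ → κ) := by
  intro σ hσ
  obtain ⟨f, t, ht, rfl⟩ := mem_SS2.mp hσ
  apply mem_Hpi_of_fix
  rintro (⟨b, z⟩ | u)
  · rw [extHom'_inl, bt_apply]
    simp only [Sum.elim_inl, Function.comp_apply]
    exact hρ t ht b
  · rw [extHom'_inr]

theorem SS2_le_Hpi_semi {κ : Type*} (T : Subgroup (Perm β)) (ρ : β → κ)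
    (hρ : ∀ t ∈ T, ∃ g : κ → κ, Function.Injective g ∧ ∀ b, ρ (t b) = g (ρ b)) :
    SS2 γ T ≤ Hpi (Sum.map (ρ ∘ Prod.fst) id : (β × ZMod 2) ⊕ γ → κ ⊕ γ) := by
  intro σ hσ
  obtain ⟨f, t, ht, rfl⟩ := mem_SS2.mp hσ
  obtain ⟨g, hg, hgt⟩ := hρ t ht
  apply mem_Hpi_of_semiconj _ _ (Sum.map g id) (Sum.map_injective.mpr ⟨hg, Function.injective_id⟩)
  rintro (⟨b, z⟩ | u)
  · rw [extHom'_inl, bt_apply]
    simp only [Sum.map_inl, Function.comp_apply]
    rw [hgt]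
  · rw [extHom'_inr]
    rfl

theorem card_SS2 (T : Subgroup (Perm β))
    (hT : Nat.card T = 2 ^ padicValNat 2 (Fintype.card β).factorial)
    (hγ : Fintype.card γ < 2) :
    Nat.card (SS2 γ T) = 2 ^ (Nat.card (Perm ((β × ZMod 2) ⊕ γ))).factorization 2 := by
  haveI : Fact (Nat.Prime 2) := ⟨Nat.prime_two⟩
  have hcΩ : Fintype.card ((β × ZMod 2) ⊕ γ) = Fintype.card β * 2 + Fintype.card γ := by
    rw [Fintype.card_sum, Fintype.card_prod, ZMod.card]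
  unfold SS2
  rw [Subgroup.card_map_of_injective (extHom'_injective _ _), card_W, hT, Nat.card_perm,
    Nat.card_eq_fintype_card, hcΩ, Nat.factorization_def _ Nat.prime_two,
    padicVal_step 2 (Fintype.card β * 2 + Fintype.card γ)]
  have hdiv : (Fintype.card β * 2 + Fintype.card γ) / 2 = Fintype.card β := by omega
  rw [hdiv, ← pow_add, add_comm]

theorem exists_T2 (β : Type*) [Fintype β] [DecidableEq β] :
    ∃ T : Subgroup (Perm β), Nat.card T = 2 ^ padicValNat 2 (Fintype.card β).factorial := by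
  haveI : Fact (Nat.Prime 2) := ⟨Nat.prime_two⟩
  obtain ⟨P⟩ : Nonempty (Sylow 2 (Perm β)) := inferInstance
  refine ⟨P, ?_⟩
  rw [P.card_eq_multiplicity, Nat.card_perm, Nat.card_eq_fintype_card,
    Nat.factorization_def _ Nat.prime_two]

theorem card_W_T2 (T : Subgroup (Perm β))
    (hT : Nat.card T = 2 ^ padicValNat 2 (Fintype.card β).factorial) :
    Nat.card (W (p := 2) T) =
      2 ^ padicValNat 2 (Fintype.card (β × ZMod 2)).factorial := by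
  haveI : Fact (Nat.Prime 2) := ⟨Nat.prime_two⟩
  rw [card_W, hT, Fintype.card_prod, ZMod.card, padicVal_step 2 (Fintype.card β * 2)]
  have hdiv : (Fintype.card β * 2) / 2 = Fintype.card β := by omega
  rw [hdiv, ← pow_add, add_comm]

/-- the model contains an odd permutation -/
theorem exists_odd_SS2 (T : Subgroup (Perm β)) (b₀ : β) :
    ∃ s ∈ SS2 γ T, sign s = -1 := by
  refine ⟨extHom' (β × ZMod 2) γ (bHom 2 β (Pi.mulSingle b₀ (Multiplicative.ofAdd 1))), ?_, ?_⟩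
  · exact ⟨_, ⟨_, 1, T.one_mem, by rw [(tHom 2 β).map_one, mul_one]⟩, rfl⟩
  · rw [sign_extHom', sign_bHom_single]

/-- the model as a Sylow subgroup -/
theorem exists_sylow_SS2 (T : Subgroup (Perm β))
    (hT : Nat.card T = 2 ^ padicValNat 2 (Fintype.card β).factorial)
    (hγ : Fintype.card γ < 2) :
    ∃ P : Sylow 2 (Perm ((β × ZMod 2) ⊕ γ)), (P : Subgroup _) = SS2 γ T := by
  haveI : Fact (Nat.Prime 2) := ⟨Nat.prime_two⟩
  exact ⟨Sylow.ofCard _ (card_SS2 T hT hγ), rfl⟩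

end Cfsg.Agent.Lib.Helper5.AltTwoMax
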