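import Mathlib
import Cfsg.Prelude.Def_LocalEven
import Cfsg.Agent.Lib.Helper5.ThreeMin3

set_option autoImplicit false

namespace Cfsg.Agent.Lib.Helper5.ThreeMin

open Equiv Equiv.Perm Subgroup
open Cfsg.Agent.Lib.Helper9.H9AutAlt
open Cfsg.Agent.Lib.Helper5.SylSym
open scoped Pointwise

variable {β γ : Type*} [Fintype β] [DecidableEq β] [Fintype γ] [DecidableEq γ]

theorem exists_notMem (s : Finset β) (h : s.card < Fintype.card β) : ∃ c, c ∉ s := by
  by_contra hcon
  rw [not_exists] at hcon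
  have : s = Finset.univ := by
    ext x
    simp only [Finset.mem_univ, iff_true]
    exact not_not.mp (hcon x)
  rw [this, Finset.card_univ] at h
  exact lt_irrefl _ h

/-- all three-cycles avoiding a point of `γ` lie in `M` -/
theorem cyc_mem_avoid {T : Subgroup (Perm β)} {M : Subgroup (Perm ((β × ZMod 3) ⊕ γ))}
    (h : IsMax (SS γ T) M) (w : γ) {a b c : (β × ZMod 3) ⊕ γ} (hab : a ≠ b) (hac : a ≠ c)
    (hbc : b ≠ c) (ha : a ≠ Sum.inr w) (hb : b ≠ Sum.inr w) (hc : c ≠ Sum.inr w) :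
    cyc a b c ∈ M := by
  set π : (β × ZMod 3) ⊕ γ → Bool :=
    Sum.elim ((fun _ : β => false) ∘ Prod.fst) (fun u => decide (u = w)) with hπ
  have hS : SS γ T ≤ Hpi π := SS_le_Hpi_fix T _ _ (fun _ _ _ => rfl)
  have hval : ∀ x : (β × ZMod 3) ⊕ γ, x ≠ Sum.inr w → π x = false := by
    rintro (x | u) hx
    · rfl
    · rw [hπ, Sum.elim_inr]
      apply decide_eq_false
      intro huw
      exact hx (by rw [huw])
  have hw : π (Sum.inr w) = true := by
    rw [hπ, Sum.elim_inr]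
    exact decide_eq_true rfl
  refine h.cyc_mem π hS (x := a) (y := b) (z := Sum.inr w) hab ha hb ?_ ?_ hab hac hbc ?_ ?_
  · rw [hval a ha, hval b hb]
  · rw [hval b hb, hw]
    exact Bool.false_ne_true
  · rw [hval a ha, hval b hb]
  · rw [hval b hb, hval c hc]

theorem zmod3_ne : (1 : ZMod 3) ≠ 0 ∧ (2 : ZMod 3) ≠ 0 ∧ (1 : ZMod 3) ≠ 2 := by decide

/-- every point other than `inr w` is connected to the base point -/
theorem conn_base_avoid {T : Subgroup (Perm β)} {M : Subgroup (Perm ((β × ZMod 3) ⊕ γ))}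
    (h : IsMax (SS γ T) M) (w : γ) (b₀ : β) (x : (β × ZMod 3) ⊕ γ) (hx : x ≠ Sum.inr w) :
    Conn M (Sum.inl (b₀, 0)) x := by
  by_cases hxo : x = Sum.inl (b₀, 0)
  · rw [hxo]
    exact Conn.refl M _
  have ho : (Sum.inl (b₀, 0) : (β × ZMod 3) ⊕ γ) ≠ Sum.inr w := Sum.inl_ne_inr
  by_cases hx1 : x = Sum.inl (b₀, 1)
  · have h12 : (Sum.inl (b₀, 0) : (β × ZMod 3) ⊕ γ) ≠ Sum.inl (b₀, 2) := by
      intro h; have := Sum.inl_injective h
      exact zmod3_ne.2.1 (congrArg Prod.snd this).symm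
    have hx2 : x ≠ Sum.inl (b₀, 2) := by
      rw [hx1]
      intro h; have := Sum.inl_injective h
      exact zmod3_ne.2.2 (congrArg Prod.snd this)
    exact (conn_cyc (Ne.symm hxo) h12 hx2
      (cyc_mem_avoid h w (Ne.symm hxo) h12 hx2 ho hx Sum.inl_ne_inr)).1
  · have h11 : (Sum.inl (b₀, 0) : (β × ZMod 3) ⊕ γ) ≠ Sum.inl (b₀, 1) := by
      intro h; have := Sum.inl_injective h
      exact zmod3_ne.1 (congrArg Prod.snd this).symm
    exact (conn_cyc (Ne.symm hxo) h11 hx1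
      (cyc_mem_avoid h w (Ne.symm hxo) h11 hx1 ho hx Sum.inl_ne_inr)).1

theorem exists_threeCycle_avoid {T : Subgroup (Perm β)}
    {M : Subgroup (Perm ((β × ZMod 3) ⊕ γ))}
    (h : IsMax (SS γ T) M) (w : γ) (b₀ : β) : ∃ c ∈ M, c.IsThreeCycle := by
  have h01 : (Sum.inl (b₀, 0) : (β × ZMod 3) ⊕ γ) ≠ Sum.inl (b₀, 1) := by
    intro h; have := Sum.inl_injective h
    exact zmod3_ne.1 (congrArg Prod.snd this).symm
  have h02 : (Sum.inl (b₀, 0) : (β × ZMod 3) ⊕ γ) ≠ Sum.inl (b₀, 2) := by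
    intro h; have := Sum.inl_injective h
    exact zmod3_ne.2.1 (congrArg Prod.snd this).symm
  have h12 : (Sum.inl (b₀, 1) : (β × ZMod 3) ⊕ γ) ≠ Sum.inl (b₀, 2) := by
    intro h; have := Sum.inl_injective h
    exact zmod3_ne.2.2 (congrArg Prod.snd this)
  exact ⟨_, cyc_mem_avoid h w h01 h02 h12 Sum.inl_ne_inr Sum.inl_ne_inr Sum.inl_ne_inr,
    cyc_isThreeCycle h01 h02 h12⟩

/-- the case of two extra points -/
theorem contra_two {T : Subgroup (Perm β)} {M : Subgroup (Perm ((β × ZMod 3) ⊕ γ))}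
    (h : IsMax (SS γ T) M) (u v : γ) (huv : u ≠ v) (b₀ : β) : False := by
  apply h.contra (exists_threeCycle_avoid h u b₀)
  have key : ∀ x, Conn M (Sum.inl (b₀, 0)) x := by
    intro x
    by_cases hxu : x = Sum.inr u
    · apply conn_base_avoid h v b₀ x
      rw [hxu]
      intro h
      exact huv (Sum.inr_injective h)
    · exact conn_base_avoid h u b₀ x hxu
  intro x y
  exact (key x).symm.trans (key y)

/-- a nonconstant invariant function for an intransitive `3`-group -/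
theorem exists_rho (T : Subgroup (Perm β)) (hT : IsPGroup 3 T) (hβ : ∀ k, Fintype.card β ≠ 3 ^ k)
    (b₀ : β) :
    ∃ ρ : β → Bool, (∀ t ∈ T, ∀ b, ρ (t b) = ρ b) ∧ ρ b₀ = true ∧ ∃ b₁, ρ b₁ = false := by
  classical
  haveI : Fact (Nat.Prime 3) := ⟨Nat.prime_three⟩
  refine ⟨fun b => decide (b ∈ MulAction.orbit T b₀), ?_, ?_, ?_⟩
  · intro t ht b
    have h1 : (t b ∈ MulAction.orbit T b₀) ↔ (b ∈ MulAction.orbit T b₀) := by
      rw [← MulAction.orbit_eq_iff, ← MulAction.orbit_eq_iff]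
      have : t b = (⟨t, ht⟩ : T) • b := rfl
      rw [this, MulAction.orbit_smul]
    simp only [h1]
  · exact decide_eq_true (MulAction.mem_orbit_self b₀)
  · by_contra hcon
    rw [not_exists] at hcon
    have hall : ∀ b, b ∈ MulAction.orbit T b₀ := by
      intro b
      have := hcon b
      simpa using this
    obtain ⟨k, hk⟩ := hT.card_orbit b₀
    have huniv : MulAction.orbit T b₀ = Set.univ := Set.eq_univ_iff_forall.mpr hall
    rw [huniv, Nat.card_coe_set_eq, Set.ncard_univ, Nat.card_eq_fintype_card] at hk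
    exact hβ k hk

/-- the case of one extra point -/
theorem contra_one {T : Subgroup (Perm β)} {M : Subgroup (Perm ((β × ZMod 3) ⊕ γ))}
    (h : IsMax (SS γ T) M) (w : γ) (hT : IsPGroup 3 T)
    (hβ : ∀ k, Fintype.card β ≠ 3 ^ k) (b₀ : β) : False := by
  apply h.contra (exists_threeCycle_avoid h w b₀)
  obtain ⟨ρ, hρ, hρ0, b₁, hρ1⟩ := exists_rho T hT hβ b₀
  set π : (β × ZMod 3) ⊕ γ → Bool := Sum.elim (ρ ∘ Prod.fst) (fun _ => true) with hπ
  have hS : SS γ T ≤ Hpi π := SS_le_Hpi_fix T _ _ hρ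
  have h01 : (Sum.inl (b₀, 0) : (β × ZMod 3) ⊕ γ) ≠ Sum.inl (b₀, 1) := by
    intro h; have := Sum.inl_injective h
    exact zmod3_ne.1 (congrArg Prod.snd this).symm
  have hb01 : b₀ ≠ b₁ := by
    intro h
    rw [h, hρ1] at hρ0
    exact Bool.false_ne_true hρ0
  have h0b : (Sum.inl (b₀, 0) : (β × ZMod 3) ⊕ γ) ≠ Sum.inl (b₁, 0) := by
    intro h; have := Sum.inl_injective h
    exact hb01 (congrArg Prod.fst this)
  have hc := h.conn π hS (x := Sum.inr w) (y := Sum.inl (b₀, 0)) (z := Sum.inl (b₁, 0))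
    Sum.inr_ne_inl Sum.inr_ne_inl h0b
    (by rw [hπ]; simp only [Sum.elim_inr, Sum.elim_inl, Function.comp_apply]; exact hρ0.symm)
    (by
      rw [hπ]; simp only [Sum.elim_inl, Function.comp_apply]
      rw [hρ0, hρ1]
      exact Bool.false_ne_true.symm)
    (a := Sum.inr w) (b := Sum.inl (b₀, 0)) (c := Sum.inl (b₀, 1))
    Sum.inr_ne_inl Sum.inr_ne_inl h01
    (by rw [hπ]; simp only [Sum.elim_inr, Sum.elim_inl, Function.comp_apply]; exact hρ0.symm)
    (by rw [hπ]; simp only [Sum.elim_inl, Function.comp_apply])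
  have key : ∀ x, Conn M (Sum.inl (b₀, 0)) x := by
    intro x
    by_cases hxw : x = Sum.inr w
    · rw [hxw]
      exact hc.1.symm
    · exact conn_base_avoid h w b₀ x hxw
  intro x y
  exact (key x).symm.trans (key y)

end Cfsg.Agent.Lib.Helper5.ThreeMin
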