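import Mathlib
import Cfsg.Prelude.Def_LocalEven
import Cfsg.Agent.Lib.Helper5.ThreeMin4

set_option autoImplicit false

namespace Cfsg.Agent.Lib.Helper5.ThreeMin

open Equiv Equiv.Perm Subgroup
open Cfsg.Agent.Lib.Helper9.H9AutAlt
open Cfsg.Agent.Lib.Helper5.SylSym
open scoped Pointwise

variable {β γ : Type*} [Fintype β] [DecidableEq β] [Fintype γ] [DecidableEq γ]

theorem inl_ne_of_fst {b b' : β} (z z' : ZMod 3) (h : b ≠ b') :
    (Sum.inl (b, z) : (β × ZMod 3) ⊕ γ) ≠ Sum.inl (b', z') := by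
  intro h'
  exact h (congrArg Prod.fst (Sum.inl_injective h'))

theorem inl_ne_of_snd (b b' : β) {z z' : ZMod 3} (h : z ≠ z') :
    (Sum.inl (b, z) : (β × ZMod 3) ⊕ γ) ≠ Sum.inl (b', z') := by
  intro h'
  exact h (congrArg Prod.snd (Sum.inl_injective h'))

/-- the case of no extra points -/
theorem contra_zero [IsEmpty γ] {T : Subgroup (Perm β)}
    {M : Subgroup (Perm ((β × ZMod 3) ⊕ γ))}
    (h : IsMax (SS γ T) M) (hcard : 4 ≤ Fintype.card β) {κ : Type*} (ρ : β → κ)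
    (hρ : ∀ t ∈ T, ∃ g : κ → κ, Function.Injective g ∧ ∀ b, ρ (t b) = g (ρ b))
    (b₁ b₂ b₃ : β) (h12 : b₁ ≠ b₂) (hρ12 : ρ b₁ = ρ b₂) (hρ3 : ρ b₂ ≠ ρ b₃) : False := by
  obtain ⟨h10, h20, h12z⟩ := zmod3_ne
  -- triples
  set π₁ : (β × ZMod 3) ⊕ γ → β ⊕ γ := Sum.map ((id : β → β) ∘ Prod.fst) id with hπ₁
  have hS₁ : SS γ T ≤ Hpi π₁ :=
    SS_le_Hpi_semi T id (fun t _ => ⟨t, t.injective, fun _ => rfl⟩)
  have hπ₁v : ∀ (b : β) (z : ZMod 3), π₁ (Sum.inl (b, z)) = Sum.inl b := fun _ _ => rfl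
  have hwit : ∀ b : β, ∃ b' : β, b' ≠ b := by
    intro b
    obtain ⟨c, hc⟩ := exists_notMem ({b} : Finset β) (by rw [Finset.card_singleton]; omega)
    exact ⟨c, fun h => hc (by rw [h]; exact Finset.mem_singleton_self b)⟩
  have rot : ∀ b : β, Conn M (Sum.inl (b, 0)) (Sum.inl (b, 1)) ∧
      Conn M (Sum.inl (b, 1)) (Sum.inl (b, 2)) := by
    intro b
    obtain ⟨b', hb'⟩ := hwit b
    exact h.conn π₁ hS₁ (x := Sum.inl (b, 0)) (y := Sum.inl (b, 1)) (z := Sum.inl (b', 0))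
      (inl_ne_of_snd b b h10.symm) (inl_ne_of_fst 0 0 hb'.symm) (inl_ne_of_fst 1 0 hb'.symm)
      (by rw [hπ₁v, hπ₁v])
      (by rw [hπ₁v, hπ₁v]; intro h; exact hb' (Sum.inl_injective h).symm)
      (inl_ne_of_snd b b h10.symm) (inl_ne_of_snd b b h20.symm) (inl_ne_of_snd b b h12z)
      (by rw [hπ₁v, hπ₁v]) (by rw [hπ₁v, hπ₁v])
  -- base permutations of order three
  have hbase : ∀ τ : Perm β, τ ^ 3 = 1 → extHom' (β × ZMod 3) γ (tHom 3 β τ) ∈ M := by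
    intro τ hτ
    obtain ⟨b', hb'⟩ := hwit b₁
    refine h.mem π₁ hS₁ (x := Sum.inl (b₁, 0)) (y := Sum.inl (b₁, 1)) (z := Sum.inl (b', 0))
      (inl_ne_of_snd b₁ b₁ h10.symm) (inl_ne_of_fst 0 0 hb'.symm) (inl_ne_of_fst 1 0 hb'.symm)
      (by rw [hπ₁v, hπ₁v])
      (by rw [hπ₁v, hπ₁v]; intro h; exact hb' (Sum.inl_injective h).symm) ?_ ?_
    · apply mem_alt_of_pow_three
      rw [← map_pow, ← map_pow, hτ, map_one, map_one]
    · apply mem_Hpi_of_semiconj π₁ _ (Sum.map τ id)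
        (Sum.map_injective.mpr ⟨τ.injective, Function.injective_id⟩)
      rintro (⟨b, z⟩ | u)
      · rfl
      · rfl
  -- the mixed three-cycle
  set π : (β × ZMod 3) ⊕ γ → κ ⊕ γ := Sum.map (ρ ∘ Prod.fst) id with hπ
  have hS : SS γ T ≤ Hpi π := SS_le_Hpi_semi T ρ hρ
  have hπv : ∀ (b : β) (z : ZMod 3), π (Sum.inl (b, z)) = Sum.inl (ρ b) := fun _ _ => rfl
  have h13 : b₁ ≠ b₃ := by
    intro h
    rw [← h, hρ12] at hρ3
    exact hρ3 rfl
  have h23 : b₂ ≠ b₃ := by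
    intro h
    rw [h] at hρ3
    exact hρ3 rfl
  have hc₀ : cyc (Sum.inl (b₁, 0) : (β × ZMod 3) ⊕ γ) (Sum.inl (b₂, 0)) (Sum.inl (b₂, 1)) ∈ M :=
    h.cyc_mem π hS (x := Sum.inl (b₁, 0)) (y := Sum.inl (b₂, 0)) (z := Sum.inl (b₃, 0))
      (inl_ne_of_fst 0 0 h12) (inl_ne_of_fst 0 0 h13) (inl_ne_of_fst 0 0 h23)
      (by rw [hπv, hπv, hρ12])
      (by rw [hπv, hπv]; intro h; exact hρ3 (Sum.inl_injective h))
      (inl_ne_of_fst 0 0 h12) (inl_ne_of_fst 0 1 h12) (inl_ne_of_snd b₂ b₂ h10.symm)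
      (by rw [hπv, hπv, hρ12]) (by rw [hπv, hπv])
  have hconn : ∀ b : β, Conn M (Sum.inl (b₁, 0)) (Sum.inl (b, 0)) := by
    intro b
    by_cases hb1 : b = b₁
    · rw [hb1]
      exact Conn.refl M _
    by_cases hb2 : b = b₂
    · rw [hb2]
      exact (conn_cyc (inl_ne_of_fst 0 0 h12) (inl_ne_of_fst 0 1 h12)
        (inl_ne_of_snd b₂ b₂ h10.symm) hc₀).1
    obtain ⟨b', hb'⟩ := exists_notMem ({b₁, b₂, b} : Finset β)
      (lt_of_le_of_lt Finset.card_le_three (by omega))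
    simp only [Finset.mem_insert, Finset.mem_singleton, not_or] at hb'
    obtain ⟨hb'1, hb'2, hb'b⟩ := hb'
    set τ : Perm β := cyc b₂ b b' with hτ
    have hτ3 : τ ^ 3 = 1 := by
      have := (cyc_isThreeCycle (Ne.symm hb2) (Ne.symm hb'2) (Ne.symm hb'b)).orderOf
      rw [← this]
      exact pow_orderOf_eq_one τ
    have hτ1 : τ b₁ = b₁ := cyc_apply_of_ne h12 (Ne.symm hb1) (Ne.symm hb'1)
    have hτ2 : τ b₂ = b := cyc_apply_fst (Ne.symm hb2) (Ne.symm hb'2)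
    have hmem := M.mul_mem (M.mul_mem (hbase τ hτ3) hc₀) (M.inv_mem (hbase τ hτ3))
    rw [cyc_conj, extHom'_inl, extHom'_inl, extHom'_inl, tHom_apply, tHom_apply, tHom_apply]
      at hmem
    simp only [hτ1, hτ2] at hmem
    exact (conn_cyc (inl_ne_of_fst 0 0 (Ne.symm hb1)) (inl_ne_of_fst 0 1 (Ne.symm hb1))
      (inl_ne_of_snd b b h10.symm) hmem).1
  have key : ∀ x, Conn M (Sum.inl (b₁, 0)) x := by
    rintro (⟨b, z⟩ | u)
    · have hz : z = 0 ∨ z = 1 ∨ z = 2 := by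
        revert z
        decide
      rcases hz with rfl | rfl | rfl
      · exact hconn b
      · exact (hconn b).trans (rot b).1
      · exact ((hconn b).trans (rot b).1).trans (rot b).2
    · exact isEmptyElim u
  apply h.contra ⟨_, hc₀, cyc_isThreeCycle (inl_ne_of_fst 0 0 h12) (inl_ne_of_fst 0 1 h12)
    (inl_ne_of_snd b₂ b₂ h10.symm)⟩
  intro x y
  exact (key x).symm.trans (key y)

end Cfsg.Agent.Lib.Helper5.ThreeMin
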