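import Mathlib
import Cfsg.Agent.Lib.Helper5.ThreeMin5
import Cfsg.Agent.Lib.Helper5.AltTwoMax3

set_option autoImplicit false

namespace Cfsg.Agent.Lib.Helper5.AltTwoMax

open Equiv Equiv.Perm Subgroup
open Cfsg.Agent.Lib.Helper9.H9AutAlt
open Cfsg.Agent.Lib.Helper5.ThreeMin
open Cfsg.Agent.Lib.Helper5.SylSym

variable {β γ : Type*} [Fintype β] [DecidableEq β] [Fintype γ] [DecidableEq γ]

theorem inl_ne_of_fst2 {b b' : β} (z z' : ZMod 2) (h : b ≠ b') :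
    (Sum.inl (b, z) : (β × ZMod 2) ⊕ γ) ≠ Sum.inl (b', z') := by
  intro h'
  exact h (congrArg Prod.fst (Sum.inl_injective h'))

theorem inl_ne_of_snd2 (b b' : β) {z z' : ZMod 2} (h : z ≠ z') :
    (Sum.inl (b, z) : (β × ZMod 2) ⊕ γ) ≠ Sum.inl (b', z') := by
  intro h'
  exact h (congrArg Prod.snd (Sum.inl_injective h'))

theorem zmod2_ne : (0 : ZMod 2) ≠ 1 := by decide

/-- all three-cycles avoiding a point of `γ` lie in `M` -/
theorem cyc_mem_avoid2 {T : Subgroup (Perm β)} {M : Subgroup (Perm ((β × ZMod 2) ⊕ γ))}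
    (h : IsMaxW (SS2 γ T) M) (w : γ) {a b c : (β × ZMod 2) ⊕ γ} (hab : a ≠ b) (hac : a ≠ c)
    (hbc : b ≠ c) (ha : a ≠ Sum.inr w) (hb : b ≠ Sum.inr w) (hc : c ≠ Sum.inr w) :
    cyc a b c ∈ M := by
  set π : (β × ZMod 2) ⊕ γ → Bool :=
    Sum.elim ((fun _ : β => false) ∘ Prod.fst) (fun u => decide (u = w)) with hπ
  have hS : SS2 γ T ≤ Hpi π := SS2_le_Hpi_fix T _ _ (fun _ _ _ => rfl)
  have hval : ∀ x : (β × ZMod 2) ⊕ γ, x ≠ Sum.inr w → π x = false := by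
    rintro (x | u) hx
    · rfl
    · rw [hπ, Sum.elim_inr]
      apply decide_eq_false
      intro huw
      exact hx (by rw [huw])
  have hw : π (Sum.inr w) = true := by
    rw [hπ, Sum.elim_inr]
    exact decide_eq_true rfl
  refine h.cyc_mem π hS (x := a) (y := b) (z := Sum.inr w) hab ha hb ?_ ?_ hab hac hbc ?_ ?_
  · rw [hval a ha, hval b hb]
  · rw [hval b hb, hw]
    exact Bool.false_ne_true
  · rw [hval a ha, hval b hb]
  · rw [hval b hb, hval c hc]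

/-- every point other than `inr w` is connected to the base point -/
theorem conn_base_avoid2 {T : Subgroup (Perm β)} {M : Subgroup (Perm ((β × ZMod 2) ⊕ γ))}
    (h : IsMaxW (SS2 γ T) M) (w : γ) (b₀ b₁ : β) (h01 : b₀ ≠ b₁) (x : (β × ZMod 2) ⊕ γ)
    (hx : x ≠ Sum.inr w) :
    Conn M (Sum.inl (b₀, 0)) x := by
  by_cases hxo : x = Sum.inl (b₀, 0)
  · rw [hxo]
    exact Conn.refl M _
  have ho : (Sum.inl (b₀, 0) : (β × ZMod 2) ⊕ γ) ≠ Sum.inr w := Sum.inl_ne_inr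
  by_cases hx1 : x = Sum.inl (b₀, 1)
  · have h12 : (Sum.inl (b₀, 0) : (β × ZMod 2) ⊕ γ) ≠ Sum.inl (b₁, 0) := inl_ne_of_fst2 0 0 h01
    have hx2 : x ≠ Sum.inl (b₁, 0) := by
      rw [hx1]
      exact inl_ne_of_fst2 1 0 h01
    exact (conn_cyc (Ne.symm hxo) h12 hx2
      (cyc_mem_avoid2 h w (Ne.symm hxo) h12 hx2 ho hx Sum.inl_ne_inr)).1
  · have h11 : (Sum.inl (b₀, 0) : (β × ZMod 2) ⊕ γ) ≠ Sum.inl (b₀, 1) :=
      inl_ne_of_snd2 b₀ b₀ zmod2_ne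
    exact (conn_cyc (Ne.symm hxo) h11 hx1
      (cyc_mem_avoid2 h w (Ne.symm hxo) h11 hx1 ho hx Sum.inl_ne_inr)).1

theorem exists_threeCycle_avoid2 {T : Subgroup (Perm β)}
    {M : Subgroup (Perm ((β × ZMod 2) ⊕ γ))}
    (h : IsMaxW (SS2 γ T) M) (w : γ) (b₀ b₁ : β) (hb : b₀ ≠ b₁) : ∃ c ∈ M, c.IsThreeCycle := by
  have h01 : (Sum.inl (b₀, 0) : (β × ZMod 2) ⊕ γ) ≠ Sum.inl (b₀, 1) :=
    inl_ne_of_snd2 b₀ b₀ zmod2_ne
  have h02 : (Sum.inl (b₀, 0) : (β × ZMod 2) ⊕ γ) ≠ Sum.inl (b₁, 0) := inl_ne_of_fst2 0 0 hb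
  have h12 : (Sum.inl (b₀, 1) : (β × ZMod 2) ⊕ γ) ≠ Sum.inl (b₁, 0) := inl_ne_of_fst2 1 0 hb
  exact ⟨_, cyc_mem_avoid2 h w h01 h02 h12 Sum.inl_ne_inr Sum.inl_ne_inr Sum.inl_ne_inr,
    cyc_isThreeCycle h01 h02 h12⟩

/-- a nonconstant invariant function for an intransitive `p`-group -/
theorem exists_rho_p (p : ℕ) [Fact p.Prime] (T : Subgroup (Perm β)) (hT : IsPGroup p T)
    (hβ : ∀ k, Fintype.card β ≠ p ^ k) (b₀ : β) :
    ∃ ρ : β → Bool, (∀ t ∈ T, ∀ b, ρ (t b) = ρ b) ∧ ρ b₀ = true ∧ ∃ b₁, ρ b₁ = false := by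
  classical
  refine ⟨fun b => decide (b ∈ MulAction.orbit T b₀), ?_, ?_, ?_⟩
  · intro t ht b
    have h1 : (t b ∈ MulAction.orbit T b₀) ↔ (b ∈ MulAction.orbit T b₀) := by
      rw [← MulAction.orbit_eq_iff, ← MulAction.orbit_eq_iff]
      have : t b = (⟨t, ht⟩ : T) • b := rfl
      rw [this, MulAction.orbit_smul]
    simp only [h1]
  · exact decide_eq_true (MulAction.mem_orbit_self b₀)
  · by_contra hcon
    rw [not_exists] at hcon
    have hall : ∀ b, b ∈ MulAction.orbit T b₀ := by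
      intro b
      have := hcon b
      simpa using this
    obtain ⟨k, hk⟩ := hT.card_orbit b₀
    have huniv : MulAction.orbit T b₀ = Set.univ := Set.eq_univ_iff_forall.mpr hall
    rw [huniv, Nat.card_coe_set_eq, Set.ncard_univ, Nat.card_eq_fintype_card] at hk
    exact hβ k hk

/-- the case of one extra point -/
theorem contra_one2 {T : Subgroup (Perm β)} {M : Subgroup (Perm ((β × ZMod 2) ⊕ γ))}
    (h : IsMaxW (SS2 γ T) M) (w : γ) (hT : IsPGroup 2 T)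
    (hβ : ∀ k, Fintype.card β ≠ 2 ^ k) (b₀ : β) : False := by
  haveI : Fact (Nat.Prime 2) := ⟨Nat.prime_two⟩
  obtain ⟨ρ, hρ, hρ0, b₁, hρ1⟩ := exists_rho_p 2 T hT hβ b₀
  have hb01 : b₀ ≠ b₁ := by
    intro h
    rw [h, hρ1] at hρ0
    exact Bool.false_ne_true hρ0
  apply h.contra (exists_threeCycle_avoid2 h w b₀ b₁ hb01)
  set π : (β × ZMod 2) ⊕ γ → Bool := Sum.elim (ρ ∘ Prod.fst) (fun _ => true) with hπ
  have hS : SS2 γ T ≤ Hpi π := SS2_le_Hpi_fix T _ _ hρ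
  have h01 : (Sum.inl (b₀, 0) : (β × ZMod 2) ⊕ γ) ≠ Sum.inl (b₀, 1) :=
    inl_ne_of_snd2 b₀ b₀ zmod2_ne
  have h0b : (Sum.inl (b₀, 0) : (β × ZMod 2) ⊕ γ) ≠ Sum.inl (b₁, 0) := inl_ne_of_fst2 0 0 hb01
  have hc := h.conn π hS (x := Sum.inr w) (y := Sum.inl (b₀, 0)) (z := Sum.inl (b₁, 0))
    Sum.inr_ne_inl Sum.inr_ne_inl h0b
    (by rw [hπ]; simp only [Sum.elim_inr, Sum.elim_inl, Function.comp_apply]; exact hρ0.symm)
    (by
      rw [hπ]; simp only [Sum.elim_inl, Function.comp_apply]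
      rw [hρ0, hρ1]
      exact Bool.false_ne_true.symm)
    (a := Sum.inr w) (b := Sum.inl (b₀, 0)) (c := Sum.inl (b₀, 1))
    Sum.inr_ne_inl Sum.inr_ne_inl h01
    (by rw [hπ]; simp only [Sum.elim_inr, Sum.elim_inl, Function.comp_apply]; exact hρ0.symm)
    (by rw [hπ]; simp only [Sum.elim_inl, Function.comp_apply])
  have key : ∀ x, Conn M (Sum.inl (b₀, 0)) x := by
    intro x
    by_cases hxw : x = Sum.inr w
    · rw [hxw]
      exact hc.1.symm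
    · exact conn_base_avoid2 h w b₀ b₁ hb01 x hxw
  intro x y
  exact (key x).symm.trans (key y)

/-- the case of no extra points -/
theorem contra_zero2 [IsEmpty γ] {T : Subgroup (Perm β)}
    {M : Subgroup (Perm ((β × ZMod 2) ⊕ γ))}
    (h : IsMaxW (SS2 γ T) M) {κ : Type*} (ρ : β → κ)
    (hρ : ∀ t ∈ T, ∃ g : κ → κ, Function.Injective g ∧ ∀ b, ρ (t b) = g (ρ b))
    (b₁ b₂ b₃ : β) (h12 : b₁ ≠ b₂) (hρ12 : ρ b₁ = ρ b₂) (hρ3 : ρ b₂ ≠ ρ b₃) : False := by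
  have h01 := zmod2_ne
  -- pairs
  set π₁ : (β × ZMod 2) ⊕ γ → β ⊕ γ := Sum.map ((id : β → β) ∘ Prod.fst) id with hπ₁
  have hS₁ : SS2 γ T ≤ Hpi π₁ :=
    SS2_le_Hpi_semi T id (fun t _ => ⟨t, t.injective, fun _ => rfl⟩)
  have hπ₁v : ∀ (b : β) (z : ZMod 2), π₁ (Sum.inl (b, z)) = Sum.inl b := fun _ _ => rfl
  -- base permutations
  have hbase : ∀ τ : Perm β, extHom' (β × ZMod 2) γ (tHom 2 β τ) ∈ M := by
    intro τ
    refine h.mem π₁ hS₁ (x := Sum.inl (b₁, 0)) (y := Sum.inl (b₁, 1)) (z := Sum.inl (b₂, 0))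
      (inl_ne_of_snd2 b₁ b₁ h01) (inl_ne_of_fst2 0 0 h12) (inl_ne_of_fst2 1 0 h12)
      (by rw [hπ₁v, hπ₁v])
      (by rw [hπ₁v, hπ₁v]; intro h; exact h12 (Sum.inl_injective h)) ?_ ?_
    · rw [mem_alternatingGroup, sign_extHom', sign_tHom_two]
    · apply mem_Hpi_of_semiconj π₁ _ (Sum.map τ id)
        (Sum.map_injective.mpr ⟨τ.injective, Function.injective_id⟩)
      rintro (⟨b, z⟩ | u)
      · rfl
      · rfl
  -- the mixed three-cycle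
  set π : (β × ZMod 2) ⊕ γ → κ ⊕ γ := Sum.map (ρ ∘ Prod.fst) id with hπ
  have hS : SS2 γ T ≤ Hpi π := SS2_le_Hpi_semi T ρ hρ
  have hπv : ∀ (b : β) (z : ZMod 2), π (Sum.inl (b, z)) = Sum.inl (ρ b) := fun _ _ => rfl
  have h13 : b₁ ≠ b₃ := by
    intro h
    rw [← h, hρ12] at hρ3
    exact hρ3 rfl
  have h23 : b₂ ≠ b₃ := by
    intro h
    rw [h] at hρ3
    exact hρ3 rfl
  have hc₀ : cyc (Sum.inl (b₁, 0) : (β × ZMod 2) ⊕ γ) (Sum.inl (b₂, 0)) (Sum.inl (b₂, 1)) ∈ M :=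
    h.cyc_mem π hS (x := Sum.inl (b₁, 0)) (y := Sum.inl (b₂, 0)) (z := Sum.inl (b₃, 0))
      (inl_ne_of_fst2 0 0 h12) (inl_ne_of_fst2 0 0 h13) (inl_ne_of_fst2 0 0 h23)
      (by rw [hπv, hπv, hρ12])
      (by rw [hπv, hπv]; intro h; exact hρ3 (Sum.inl_injective h))
      (inl_ne_of_fst2 0 0 h12) (inl_ne_of_fst2 0 1 h12) (inl_ne_of_snd2 b₂ b₂ h01)
      (by rw [hπv, hπv, hρ12]) (by rw [hπv, hπv])
  -- conjugates
  have hconj : ∀ τ : Perm β, cyc (Sum.inl (τ b₁, 0) : (β × ZMod 2) ⊕ γ) (Sum.inl (τ b₂, 0))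
      (Sum.inl (τ b₂, 1)) ∈ M := by
    intro τ
    have hmem := M.mul_mem (M.mul_mem (hbase τ) hc₀) (M.inv_mem (hbase τ))
    rw [cyc_conj, extHom'_inl, extHom'_inl, extHom'_inl, tHom_apply, tHom_apply, tHom_apply]
      at hmem
    exact hmem
  have hconn : ∀ b : β, b ≠ b₁ → Conn M (Sum.inl (b₁, 0)) (Sum.inl (b, 0)) ∧
      Conn M (Sum.inl (b, 0)) (Sum.inl (b, 1)) := by
    intro b hb1
    have hτ1 : (swap b₂ b) b₁ = b₁ := Equiv.swap_apply_of_ne_of_ne h12 (Ne.symm hb1)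
    have hτ2 : (swap b₂ b) b₂ = b := Equiv.swap_apply_left b₂ b
    have hmem := hconj (swap b₂ b)
    rw [hτ1, hτ2] at hmem
    exact conn_cyc (inl_ne_of_fst2 0 0 (Ne.symm hb1)) (inl_ne_of_fst2 0 1 (Ne.symm hb1))
      (inl_ne_of_snd2 b b h01) hmem
  have hconn1 : Conn M (Sum.inl (b₁, 0)) (Sum.inl (b₁, 1)) := by
    have hτ1 : (swap b₁ b₂) b₁ = b₂ := Equiv.swap_apply_left b₁ b₂
    have hτ2 : (swap b₁ b₂) b₂ = b₁ := Equiv.swap_apply_right b₁ b₂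
    have hmem := hconj (swap b₁ b₂)
    rw [hτ1, hτ2] at hmem
    exact (conn_cyc (inl_ne_of_fst2 0 0 (Ne.symm h12)) (inl_ne_of_fst2 0 1 (Ne.symm h12))
      (inl_ne_of_snd2 b₁ b₁ h01) hmem).2
  have key : ∀ x, Conn M (Sum.inl (b₁, 0)) x := by
    rintro (⟨b, z⟩ | u)
    · have hz : z = 0 ∨ z = 1 := by
        revert z
        decide
      by_cases hb1 : b = b₁
      · rw [hb1]
        rcases hz with rfl | rfl
        · exact Conn.refl M _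
        · exact hconn1
      · rcases hz with rfl | rfl
        · exact (hconn b hb1).1
        · exact (hconn b hb1).1.trans (hconn b hb1).2
    · exact isEmptyElim u
  apply h.contra ⟨_, hc₀, cyc_isThreeCycle (inl_ne_of_fst2 0 0 h12) (inl_ne_of_fst2 0 1 h12)
    (inl_ne_of_snd2 b₂ b₂ h01)⟩
  intro x y
  exact (key x).symm.trans (key y)

end Cfsg.Agent.Lib.Helper5.AltTwoMax
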