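import Mathlib
import Cfsg.Agent.Lib.Helper5.AltTwoMax4

set_option autoImplicit false

namespace Cfsg.Agent.Lib.Helper5.AltTwoMax

open Equiv Equiv.Perm Subgroup
open Cfsg.Agent.Lib.Helper9.H9AutAlt
open Cfsg.Agent.Lib.Helper5.ThreeMin
open Cfsg.Agent.Lib.Helper5.SylSym

/-- uniqueness of the maximal overgroup transfers between Sylow subgroups of isomorphic groups -/
theorem uniqMax_sylow_equiv {G H : Type*} [Group G] [Group H] [Finite G] [Finite H] {p : ℕ}
    [Fact p.Prime] (E : G ≃* H) (R : Sylow p G) (Q : Sylow p H) :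
    UniqMax (R : Subgroup G) ↔ UniqMax (Q : Subgroup H) := by
  have hr : (R : Subgroup G) ≤ E.symm.toMonoidHom.range := by
    rw [MonoidHom.range_eq_top.mpr E.symm.surjective]
    exact le_top
  set R' : Sylow p H := R.comapOfInjective E.symm.toMonoidHom E.symm.injective hr with hR'
  have hR'c0 : (R' : Subgroup H) = (R : Subgroup G).comap E.symm.toMonoidHom :=
    Sylow.coe_comapOfInjective _ _ _ _
  have hR'c : (R' : Subgroup H) = (R : Subgroup G).map E.toMonoidHom := by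
    rw [hR'c0]
    exact (Subgroup.map_equiv_eq_comap_symm E (R : Subgroup G)).symm
  rw [← uniqMax_sylow R' Q, hR'c, uniqMax_map_iff]

variable {Ω : Type*} [Fintype Ω] [DecidableEq Ω]

theorem isMaxW_of_uniq_alt (n : ℕ) (e : Fin n ≃ Ω) (P : Sylow 2 (Perm Ω))
    (R : Sylow 2 (alternatingGroup (Fin n)))
    (hU : UniqMax (R : Subgroup (alternatingGroup (Fin n)))) :
    ∃ M, IsMaxW (P : Subgroup (Perm Ω)) M := by
  haveI : Fact (Nat.Prime 2) := ⟨Nat.prime_two⟩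
  obtain ⟨Q, hQ⟩ := exists_sylow_inf_normal P (alternatingGroup Ω)
  have h1 : UniqMax (Q : Subgroup (alternatingGroup Ω)) :=
    (uniqMax_sylow_equiv (Equiv.altCongrHom e) R Q).mp hU
  rw [hQ] at h1
  exact exists_isMaxW_alt _ h1

theorem isMaxW_of_uniq_perm (n : ℕ) (e : Fin n ≃ Ω) (P : Sylow 2 (Perm Ω))
    (hodd : ∃ s ∈ (P : Subgroup (Perm Ω)), sign s = -1)
    (R : Sylow 2 (Perm (Fin n))) (hU : UniqMax (R : Subgroup (Perm (Fin n)))) :
    ∃ M, IsMaxW (P : Subgroup (Perm Ω)) M := by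
  haveI : Fact (Nat.Prime 2) := ⟨Nat.prime_two⟩
  have h1 : UniqMax (P : Subgroup (Perm Ω)) :=
    (uniqMax_sylow_equiv (Equiv.permCongrHom e) R P).mp hU
  exact exists_isMaxW_perm _ h1 hodd

section model

variable {β γ : Type*} [Fintype β] [DecidableEq β] [Fintype γ] [DecidableEq γ]

theorem no_max_one (w : γ) (hβk : ∀ k, Fintype.card β ≠ 2 ^ k) (b₀ : β)
    (T : Subgroup (Perm β)) (hT : Nat.card T = 2 ^ padicValNat 2 (Fintype.card β).factorial)
    (M : Subgroup (Perm ((β × ZMod 2) ⊕ γ))) : ¬ IsMaxW (SS2 γ T) M := by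
  haveI : Fact (Nat.Prime 2) := ⟨Nat.prime_two⟩
  intro hM
  exact contra_one2 hM w (IsPGroup.of_card hT) hβk b₀

theorem no_max_zero_a [IsEmpty γ] (hcard : 3 ≤ Fintype.card β)
    (hβk : ∀ k, Fintype.card β ≠ 2 ^ k)
    (T : Subgroup (Perm β)) (hT : Nat.card T = 2 ^ padicValNat 2 (Fintype.card β).factorial)
    (M : Subgroup (Perm ((β × ZMod 2) ⊕ γ))) : ¬ IsMaxW (SS2 γ T) M := by
  haveI : Fact (Nat.Prime 2) := ⟨Nat.prime_two⟩
  intro hM
  obtain ⟨b₀⟩ : Nonempty β := Fintype.card_pos_iff.mp (by omega)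
  obtain ⟨ρ, hρ, hρ0, b₁, hρ1⟩ := exists_rho_p 2 T (IsPGroup.of_card hT) hβk b₀
  have hb01 : b₀ ≠ b₁ := by
    intro h
    rw [h, hρ1] at hρ0
    exact Bool.false_ne_true hρ0
  obtain ⟨c, hc⟩ := exists_notMem ({b₀, b₁} : Finset β)
    (lt_of_le_of_lt Finset.card_le_two (by omega))
  simp only [Finset.mem_insert, Finset.mem_singleton, not_or] at hc
  have hρ' : ∀ t ∈ T, ∃ g : Bool → Bool, Function.Injective g ∧ ∀ b, ρ (t b) = g (ρ b) :=
    fun t ht => ⟨id, Function.injective_id, hρ t ht⟩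
  by_cases hρc : ρ c = true
  · exact contra_zero2 hM ρ hρ' b₀ c b₁ (Ne.symm hc.1) (by rw [hρ0, hρc])
      (by rw [hρc, hρ1]; exact Bool.false_ne_true.symm)
  · rw [Bool.not_eq_true] at hρc
    exact contra_zero2 hM ρ hρ' b₁ c b₀ (Ne.symm hc.2) (by rw [hρ1, hρc])
      (by rw [hρc, hρ0]; exact Bool.false_ne_true)

theorem no_max_zero_b [IsEmpty γ] (hcard : 2 ≤ Fintype.card β) (T' : Subgroup (Perm β))
    (M : Subgroup (Perm (((β × ZMod 2) × ZMod 2) ⊕ γ))) :
    ¬ IsMaxW (SS2 γ (W (p := 2) T')) M := by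
  intro hM
  obtain ⟨b₀⟩ : Nonempty β := Fintype.card_pos_iff.mp (by omega)
  obtain ⟨c, hc⟩ := exists_notMem ({b₀} : Finset β) (by rw [Finset.card_singleton]; omega)
  rw [Finset.mem_singleton] at hc
  have hρ' : ∀ t ∈ W (p := 2) T', ∃ g : β → β, Function.Injective g ∧
      ∀ b, (Prod.fst : β × ZMod 2 → β) (t b) = g (Prod.fst b) := by
    rintro _ ⟨f, t', _, rfl⟩
    exact ⟨t', t'.injective, fun b => by rw [bt_apply]⟩
  refine contra_zero2 hM (Prod.fst : β × ZMod 2 → β) hρ' (b₀, 0) (b₀, 1) (c, 0)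
    ?_ rfl ?_
  · intro h
    exact zmod2_ne (congrArg Prod.snd h)
  · exact Ne.symm hc

end model

/-- for the degrees other than `2 ^ k + 1` no `IsMaxW` exists over a Sylow subgroup of a suitable
model -/
theorem exists_model (n : ℕ) (hn : 5 ≤ n) (h6 : n ≠ 6) (hk : ¬ ∃ k, 2 ≤ k ∧ n = 2 ^ k + 1) :
    ∃ (Ω : Type) (_ : Fintype Ω) (_ : DecidableEq Ω) (_ : Fin n ≃ Ω) (P : Sylow 2 (Perm Ω)),
      (∃ s ∈ (P : Subgroup (Perm Ω)), sign s = -1) ∧
      ∀ M, ¬ IsMaxW (P : Subgroup (Perm Ω)) M := by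
  haveI : Fact (Nat.Prime 2) := ⟨Nat.prime_two⟩
  have hdm : n / 2 * 2 + n % 2 = n := Nat.div_add_mod' n 2
  have hlt : n % 2 < 2 := Nat.mod_lt _ (by norm_num)
  set m := n / 2 with hm
  have hm1 : 0 < m := by omega
  by_cases h1 : n % 2 = 1
  · -- odd degree
    have hmk : ∀ k, m ≠ 2 ^ k := by
      intro k hmk
      apply hk
      refine ⟨k + 1, ?_, ?_⟩
      · by_contra hcon
        have : k = 0 := by omega
        rw [this, pow_zero] at hmk
        omega
      · rw [pow_succ, ← hmk]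
        omega
    obtain ⟨T, hT⟩ := exists_T2 (Fin m)
    have hc : Fintype.card ((Fin m × ZMod 2) ⊕ Fin 1) = n := by
      rw [Fintype.card_sum, Fintype.card_prod, ZMod.card, Fintype.card_fin, Fintype.card_fin]
      omega
    obtain ⟨P, hP⟩ := exists_sylow_SS2 (γ := Fin 1) T hT (by rw [Fintype.card_fin]; norm_num)
    refine ⟨(Fin m × ZMod 2) ⊕ Fin 1, inferInstance, inferInstance,
      (Fintype.equivFinOfCardEq hc).symm, P, ?_, ?_⟩
    · rw [hP]
      exact exists_odd_SS2 T (⟨0, hm1⟩ : Fin m)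
    · intro M
      rw [hP]
      apply no_max_one (0 : Fin 1) _ (⟨0, hm1⟩ : Fin m) T hT
      intro k hk'
      rw [Fintype.card_fin] at hk'
      exact hmk k hk'
  have h0 : n % 2 = 0 := by omega
  have hm4 : 4 ≤ m := by omega
  by_cases hpow : ∃ k, m = 2 ^ k
  · obtain ⟨k, hkm⟩ := hpow
    have hk2 : 2 ≤ k := by
      by_contra hcon
      have : k = 0 ∨ k = 1 := by omega
      rcases this with h | h
      · rw [h, pow_zero] at hkm; omega
      · rw [h, pow_one] at hkm; omega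
    obtain ⟨j, rfl⟩ : ∃ j, k = j + 1 := ⟨k - 1, by omega⟩
    have hj : 1 ≤ j := by omega
    have h2j : 2 ≤ 2 ^ j := by
      calc 2 = 2 ^ 1 := by norm_num
        _ ≤ 2 ^ j := Nat.pow_le_pow_right (by norm_num) hj
    obtain ⟨T', hT'⟩ := exists_T2 (Fin (2 ^ j))
    have hT := card_W_T2 T' hT'
    have hc : Fintype.card (((Fin (2 ^ j) × ZMod 2) × ZMod 2) ⊕ Fin 0) = n := by
      rw [Fintype.card_sum, Fintype.card_prod, Fintype.card_prod, ZMod.card, Fintype.card_fin,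
        Fintype.card_fin]
      rw [pow_succ] at hkm
      omega
    obtain ⟨P, hP⟩ := exists_sylow_SS2 (γ := Fin 0) (W (p := 2) T') hT
      (by rw [Fintype.card_fin]; norm_num)
    refine ⟨((Fin (2 ^ j) × ZMod 2) × ZMod 2) ⊕ Fin 0, inferInstance, inferInstance,
      (Fintype.equivFinOfCardEq hc).symm, P, ?_, ?_⟩
    · rw [hP]
      exact exists_odd_SS2 _ ((⟨0, by omega⟩ : Fin (2 ^ j)), 0)
    · intro M
      rw [hP]
      apply no_max_zero_b
      rw [Fintype.card_fin]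
      exact h2j
  · obtain ⟨T, hT⟩ := exists_T2 (Fin m)
    have hc : Fintype.card ((Fin m × ZMod 2) ⊕ Fin 0) = n := by
      rw [Fintype.card_sum, Fintype.card_prod, ZMod.card, Fintype.card_fin, Fintype.card_fin]
      omega
    obtain ⟨P, hP⟩ := exists_sylow_SS2 (γ := Fin 0) T hT (by rw [Fintype.card_fin]; norm_num)
    refine ⟨(Fin m × ZMod 2) ⊕ Fin 0, inferInstance, inferInstance,
      (Fintype.equivFinOfCardEq hc).symm, P, ?_, ?_⟩
    · rw [hP]
      exact exists_odd_SS2 T (⟨0, hm1⟩ : Fin m)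
    · intro M
      rw [hP]
      apply no_max_zero_a _ _ T hT
      · rw [Fintype.card_fin]; omega
      · intro k hk'
        rw [Fintype.card_fin] at hk'
        exact hpow ⟨k, hk'⟩

theorem not_uniq_alt (n : ℕ) (hn : 5 ≤ n) (h6 : n ≠ 6) (hk : ¬ ∃ k, 2 ≤ k ∧ n = 2 ^ k + 1)
    (R : Sylow 2 (alternatingGroup (Fin n))) :
    ¬ UniqMax (R : Subgroup (alternatingGroup (Fin n))) := by
  intro hU
  obtain ⟨Ω, _, _, e, P, -, hno⟩ := exists_model n hn h6 hk
  obtain ⟨M, hM⟩ := isMaxW_of_uniq_alt n e P R hU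
  exact hno M hM

theorem not_uniq_perm (n : ℕ) (hn : 5 ≤ n) (h6 : n ≠ 6) (hk : ¬ ∃ k, 2 ≤ k ∧ n = 2 ^ k + 1)
    (R : Sylow 2 (Perm (Fin n))) : ¬ UniqMax (R : Subgroup (Perm (Fin n))) := by
  intro hU
  obtain ⟨Ω, _, _, e, P, hodd, hno⟩ := exists_model n hn h6 hk
  obtain ⟨M, hM⟩ := isMaxW_of_uniq_perm n e P hodd R hU
  exact hno M hM

end Cfsg.Agent.Lib.Helper5.AltTwoMax
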