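import Mathlib
import Cfsg.Agent.Lib.Helper9.AutAlt1

set_option autoImplicit false

namespace Cfsg.Agent.Lib.Helper5.AltTwoMax

open Equiv Equiv.Perm Subgroup
open Cfsg.Agent.Lib.Helper9.H9AutAlt

variable {Ω : Type*} [DecidableEq Ω] [Fintype Ω]

/-- two involutions whose supports meet in exactly one point -/
theorem sq_mul_isThreeCycle (σ τ : Perm Ω) (hσ : σ * σ = 1) (hτ : τ * τ = 1) (q : Ω)
    (hσq : σ q ≠ q) (hτq : τ q ≠ q) (hq : ∀ z, σ z ≠ z → τ z ≠ z → z = q) :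
    ((σ * τ) ^ 2).IsThreeCycle := by
  have hσσ : ∀ z, σ (σ z) = z := fun z => by
    rw [← Perm.mul_apply, hσ, Perm.one_apply]
  have hττ : ∀ z, τ (τ z) = z := fun z => by
    rw [← Perm.mul_apply, hτ, Perm.one_apply]
  set a := σ q with ha
  set e := τ q with he
  have hτa : τ a = a := by
    by_contra h
    have h1 : σ a ≠ a := by rw [ha, hσσ]; exact fun h => hσq h.symm
    exact hσq (hq a h1 h)
  have hσe : σ e = e := by
    by_contra h
    have h1 : τ e ≠ e := by rw [he, hττ]; exact fun h => hτq h.symm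
    exact hτq (hq e h h1)
  have hae : a ≠ e := by
    intro h
    have : τ a = q := by rw [h, he, hττ]
    rw [hτa] at this
    exact hσq this
  suffices hsuff : (σ * τ) ^ 2 = cyc q a e by
    rw [hsuff]
    exact cyc_isThreeCycle (Ne.symm hσq) (Ne.symm hτq) hae
  ext z
  rw [pow_two, Perm.mul_apply, Perm.mul_apply, Perm.mul_apply]
  by_cases hzq : z = q
  · rw [hzq, ← he, hσe, cyc_apply_fst (Ne.symm hσq) (Ne.symm hτq), he, hττ]
  by_cases hza : z = a
  · rw [hza, hτa, ha, hσσ, ← he, hσe, cyc_apply_snd (Ne.symm hτq) hae]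
  by_cases hze : z = e
  · rw [hze, he, hττ, ← ha, hτa, ha, hσσ, cyc_apply_trd]
  rw [cyc_apply_of_ne hzq hza hze]
  by_cases hτz : τ z = z
  · rw [hτz]
    by_cases hσz : σ z = z
    · rw [hσz, hτz, hσz]
    · have h1 : σ (σ z) ≠ σ z := by rw [hσσ]; exact fun h => hσz h.symm
      have h2 : σ z ≠ q := by
        intro h
        apply hza
        rw [ha, ← h, hσσ]
      have h3 : τ (σ z) = σ z := by
        by_contra h
        exact h2 (hq _ h1 h)
      rw [h3, hσσ]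
  · have hσz : σ z = z := by
      by_contra h
      exact hzq (hq z h hτz)
    have h1 : τ (τ z) ≠ τ z := by rw [hττ]; exact fun h => hτz h.symm
    have h2 : τ z ≠ q := by
      intro h
      apply hze
      rw [he, ← h, hττ]
    have h3 : σ (τ z) = τ z := by
      by_contra h
      exact h2 (hq _ h h1)
    rw [h3, hττ, hσz]

/-- two involutions whose supports meet in three points -/
theorem mul_isThreeCycle (σ τ : Perm Ω) (hσ : σ * σ = 1) (hτ : τ * τ = 1) (q₁ q₃ x₀ : Ω)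
    (h12 : σ q₁ = τ q₁) (hq12 : σ q₁ ≠ q₁) (hτ3 : τ q₃ = x₀) (hσ0 : σ x₀ = x₀)
    (h31 : q₃ ≠ q₁) (h32 : q₃ ≠ σ q₁) (hσ3 : σ q₃ ≠ q₃)
    (hsτ : ∀ z, τ z ≠ z → z = q₁ ∨ z = σ q₁ ∨ z = q₃ ∨ z = x₀)
    (hsσ : ∀ z, σ z ≠ z → z = q₁ ∨ z = σ q₁ ∨ z = q₃ ∨ z = σ q₃) :
    (σ * τ).IsThreeCycle := by
  have hσσ : ∀ z, σ (σ z) = z := fun z => by
    rw [← Perm.mul_apply, hσ, Perm.one_apply]
  have hττ : ∀ z, τ (τ z) = z := fun z => by
    rw [← Perm.mul_apply, hτ, Perm.one_apply]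
  set q₂ := σ q₁ with hq₂
  set a := σ q₃ with ha
  have hτ2 : τ q₂ = q₁ := by rw [h12, hττ]
  have hσ2 : σ q₂ = q₁ := by rw [hq₂, hσσ]
  have hσa : σ a = q₃ := by rw [ha, hσσ]
  have h30 : q₃ ≠ x₀ := by
    intro h
    apply hσ3
    rw [ha, h]
    exact hσ0
  have ha0 : a ≠ x₀ := by
    intro h
    rw [h, hσ0] at hσa
    exact h30 hσa.symm
  have ha1 : a ≠ q₁ := by
    intro h
    rw [h, ← hq₂] at hσa
    exact h32 hσa.symm
  have ha2 : a ≠ q₂ := by
    intro h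
    rw [h, hσ2] at hσa
    exact h31 hσa.symm
  have hτa : τ a = a := by
    by_contra h
    rcases hsτ a h with h | h | h | h
    · exact ha1 h
    · exact ha2 h
    · exact hσ3 h
    · exact ha0 h
  have h10 : q₁ ≠ x₀ := by
    intro h
    apply hq12
    rw [hq₂, h]
    exact hσ0
  have h20 : q₂ ≠ x₀ := by
    intro h
    have : σ q₂ = q₂ := by rw [h, hσ0]
    rw [hσ2] at this
    exact hq12 this.symm
  have hτ0 : τ x₀ = q₃ := by rw [← hτ3, hττ]
  suffices hsuff : σ * τ = cyc q₃ x₀ a by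
    rw [hsuff]
    exact cyc_isThreeCycle h30 (Ne.symm hσ3) (Ne.symm ha0)
  ext z
  rw [Perm.mul_apply]
  by_cases hz3 : z = q₃
  · rw [hz3, hτ3, hσ0, cyc_apply_fst h30 (Ne.symm hσ3)]
  by_cases hz0 : z = x₀
  · rw [hz0, hτ0, cyc_apply_snd (Ne.symm hσ3) (Ne.symm ha0)]
  by_cases hza : z = a
  · rw [hza, hτa, hσa, cyc_apply_trd]
  rw [cyc_apply_of_ne hz3 hz0 hza]
  by_cases hz1 : z = q₁
  · rw [hz1, ← h12, hσ2]
  by_cases hz2 : z = q₂
  · rw [hz2, hτ2]
  have hτz : τ z = z := by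
    by_contra h
    rcases hsτ z h with h | h | h | h
    · exact hz1 h
    · exact hz2 h
    · exact hz3 h
    · exact hz0 h
  have hσz : σ z = z := by
    by_contra h
    rcases hsσ z h with h | h | h | h
    · exact hz1 h
    · exact hz2 h
    · exact hz3 h
    · exact hza h
  rw [hτz, hσz]

end Cfsg.Agent.Lib.Helper5.AltTwoMax
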