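import Mathlib
import Cfsg.Agent.Lib.Helper5.AltTwoMax6

set_option autoImplicit false

namespace Cfsg.Agent.Lib.Helper5.AltTwoMax

open Equiv Equiv.Perm Subgroup
open Cfsg.Agent.Lib.Helper9.H9AutAlt

variable {Ω : Type*} [DecidableEq Ω] [Fintype Ω]

/-- four points with all translations in `M` -/
def Frame (M : Subgroup (Perm Ω)) (φ : ZMod 2 × ZMod 2 → Ω) : Prop :=
  Function.Injective φ ∧ ∀ v : ZMod 2 × ZMod 2, ∃ θ ∈ M, (∀ u, θ (φ u) = φ (u + v)) ∧
    ∀ z, z ∉ Set.range φ → θ z = z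

theorem v4_add_add : ∀ u v : ZMod 2 × ZMod 2, u + v + v = u := by decide

theorem v4_cases : ∀ u : ZMod 2 × ZMod 2, u = 0 ∨ u = (1, 0) ∨ u = (0, 1) ∨ u = (1, 1) := by
  decide

theorem v4_fourth : ∀ t₁ t₂ t₃ t : ZMod 2 × ZMod 2, t₁ ≠ t₂ → t₁ ≠ t₃ → t₂ ≠ t₃ →
    t = t₁ ∨ t = t₃ ∨ t = t₂ ∨ t = t₂ + (t₃ - t₁) := by decide

theorem v4_add_ne : ∀ s : ZMod 2 × ZMod 2, s + (1, 0) ≠ s := by decide

theorem perm_inv_app {α : Type*} (f : Perm α) (x : α) : f⁻¹ (f x) = x :=
  Perm.inv_eq_iff_eq.mpr rfl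

theorem perm_app_inv {α : Type*} (f : Perm α) (x : α) : f (f⁻¹ x) = x :=
  (Equiv.eq_symm_apply f).mp rfl

theorem frame_invol {M : Subgroup (Perm Ω)} {φ : ZMod 2 × ZMod 2 → Ω} {v : ZMod 2 × ZMod 2}
    {θ : Perm Ω} (h1 : ∀ u, θ (φ u) = φ (u + v)) (h2 : ∀ z, z ∉ Set.range φ → θ z = z) :
    θ * θ = 1 := by
  ext z
  rw [Perm.mul_apply, Perm.one_apply]
  by_cases hz : z ∈ Set.range φ
  · obtain ⟨u, rfl⟩ := hz
    rw [h1, h1, v4_add_add]
  · rw [h2 z hz, h2 z hz]

theorem frame_moved {φ : ZMod 2 × ZMod 2 → Ω} {θ : Perm Ω}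
    (h2 : ∀ z, z ∉ Set.range φ → θ z = z) {z : Ω} (hz : θ z ≠ z) : z ∈ Set.range φ := by
  by_contra h
  exact hz (h2 z h)

theorem Frame.conj {M : Subgroup (Perm Ω)} {φ : ZMod 2 × ZMod 2 → Ω} (h : Frame M φ)
    {g : Perm Ω} (hg : g ∈ M) : Frame M (fun u => g (φ u)) := by
  refine ⟨fun u u' huu' => h.1 (g.injective huu'), ?_⟩
  intro v
  obtain ⟨θ, hθM, hθ1, hθ2⟩ := h.2 v
  refine ⟨g * θ * g⁻¹, M.mul_mem (M.mul_mem hg hθM) (M.inv_mem hg), ?_, ?_⟩
  · intro u
    rw [Perm.mul_apply, Perm.mul_apply, perm_inv_app, hθ1]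
  · intro z hz
    rw [Perm.mul_apply, Perm.mul_apply]
    have : g⁻¹ z ∉ Set.range φ := by
      rintro ⟨u, hu⟩
      apply hz
      refine ⟨u, ?_⟩
      show g (φ u) = z
      rw [hu, perm_app_inv]
    rw [hθ2 _ this, perm_app_inv]

/-- the extraction of a three-cycle -/
theorem exists_threeCycle_of_frames {ι : Type*} (M : Subgroup (Perm Ω)) (B : Ω → Option ι)
    (Φ : ι → ZMod 2 × ZMod 2 → Ω) (hΦ : ∀ i, Frame M (Φ i))
    (hB : ∀ i z, z ∈ Set.range (Φ i) ↔ B z = some i)
    (ψ : ZMod 2 × ZMod 2 → Ω) (hψ : Frame M ψ) (hψ0 : B (ψ 0) = none)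
    (hψ1 : ∀ u, u ≠ 0 → ∃ i, B (ψ u) = some i) : ∃ c ∈ M, c.IsThreeCycle := by
  classical
  obtain ⟨i₁, hi₁⟩ := hψ1 (1, 0) (by decide)
  obtain ⟨i₂, hi₂⟩ := hψ1 (0, 1) (by decide)
  obtain ⟨i₃, hi₃⟩ := hψ1 (1, 1) (by decide)
  -- the one-point case
  have one : ∀ (u : ZMod 2 × ZMod 2) (i : ι), u ≠ 0 → B (ψ u) = some i →
      (∀ u', u' ≠ 0 → u' ≠ u → B (ψ u') ≠ some i) → ∃ c ∈ M, c.IsThreeCycle := by
    intro u i hu0 hui halone
    obtain ⟨σ, hσM, hσ1, hσ2⟩ := (hΦ i).2 (1, 0)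
    obtain ⟨τ, hτM, hτ1, hτ2⟩ := hψ.2 (1, 0)
    obtain ⟨s, hs⟩ := (hB i (ψ u)).mpr hui
    refine ⟨(σ * τ) ^ 2, M.pow_mem (M.mul_mem hσM hτM) 2, ?_⟩
    apply sq_mul_isThreeCycle σ τ (frame_invol (M := M) hσ1 hσ2) (frame_invol (M := M) hτ1 hτ2)
      (ψ u)
    · rw [← hs, hσ1]
      intro h
      exact v4_add_ne s ((hΦ i).1 h)
    · rw [hτ1]
      intro h
      exact v4_add_ne u (hψ.1 h)
    · intro z hσz hτz
      have hz1 := frame_moved hσ2 hσz
      obtain ⟨u', rfl⟩ := frame_moved hτ2 hτz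
      have hBz := (hB i _).mp hz1
      by_cases hu'0 : u' = 0
      · rw [hu'0, hψ0] at hBz
        exact absurd hBz (by simp)
      by_cases hu'u : u' = u
      · rw [hu'u]
      · exact absurd hBz (halone u' hu'0 hu'u)
  by_cases h12 : i₁ = i₂
  · by_cases h13 : i₁ = i₃
    · -- the three-point case
      subst h12
      subst h13
      obtain ⟨t₁, ht₁⟩ := (hB i₁ _).mpr hi₁
      obtain ⟨t₂, ht₂⟩ := (hB i₁ _).mpr hi₂
      obtain ⟨t₃, ht₃⟩ := (hB i₁ _).mpr hi₃
      have hψinj := hψ.1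
      have hφinj := (hΦ i₁).1
      have ht12 : t₁ ≠ t₂ := by
        intro h
        rw [h, ht₂] at ht₁
        have := hψinj ht₁
        revert this
        decide
      have ht13 : t₁ ≠ t₃ := by
        intro h
        rw [h, ht₃] at ht₁
        have := hψinj ht₁
        revert this
        decide
      have ht23 : t₂ ≠ t₃ := by
        intro h
        rw [h, ht₃] at ht₂
        have := hψinj ht₂
        revert this
        decide
      obtain ⟨σ, hσM, hσ1, hσ2⟩ := (hΦ i₁).2 (t₃ - t₁)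
      obtain ⟨τ, hτM, hτ1, hτ2⟩ := hψ.2 (0, 1)
      have hσq1 : σ (ψ (1, 0)) = ψ (1, 1) := by
        rw [← ht₁, hσ1, ← ht₃]
        congr 1
        abel
      have hτq1 : τ (ψ (1, 0)) = ψ (1, 1) := by
        rw [hτ1]
        rfl
      have hψ0not : ψ 0 ∉ Set.range (Φ i₁) := by
        intro h
        have := (hB i₁ _).mp h
        rw [hψ0] at this
        exact absurd this (by simp)
      refine ⟨σ * τ, M.mul_mem hσM hτM, ?_⟩
      apply mul_isThreeCycle σ τ (frame_invol (M := M) hσ1 hσ2) (frame_invol (M := M) hτ1 hτ2)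
        (ψ (1, 0)) (ψ (0, 1)) (ψ 0)
      · rw [hσq1, hτq1]
      · rw [hσq1]
        intro h
        have := hψinj h
        revert this
        decide
      · rw [hτ1]
        rfl
      · exact hσ2 _ hψ0not
      · intro h
        have := hψinj h
        revert this
        decide
      · rw [hσq1]
        intro h
        have := hψinj h
        revert this
        decide
      · rw [← ht₂, hσ1]
        intro h
        have := hφinj h
        have h2 : t₃ - t₁ = 0 := by
          have h3 : t₂ + (t₃ - t₁) = t₂ + 0 := by rw [this, add_zero]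
          exact add_left_cancel h3
        exact ht13 (sub_eq_zero.mp h2).symm
      · intro z hz
        obtain ⟨u, rfl⟩ := frame_moved hτ2 hz
        rw [hσq1]
        rcases v4_cases u with rfl | rfl | rfl | rfl
        · right; right; right; rfl
        · left; rfl
        · right; right; left; rfl
        · right; left; rfl
      · intro z hz
        obtain ⟨t, rfl⟩ := frame_moved hσ2 hz
        rw [hσq1, ← ht₁, ← ht₃, ← ht₂, hσ1]
        rcases v4_fourth t₁ t₂ t₃ t ht12 ht13 ht23 with rfl | rfl | rfl | rfl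
        · left; rfl
        · right; left; rfl
        · right; right; left; rfl
        · right; right; right; rfl
    · -- `(1,1)` is alone
      apply one (1, 1) i₃ (by decide) hi₃
      intro u' hu'0 hu'
      rcases v4_cases u' with rfl | rfl | rfl | rfl
      · exact absurd rfl hu'0
      · rw [hi₁]
        intro h
        exact h13 (Option.some.inj h)
      · rw [hi₂]
        intro h
        exact h13 (h12.trans (Option.some.inj h))
      · exact absurd rfl hu'
  · by_cases h13 : i₁ = i₃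
    · -- `(0,1)` is alone
      apply one (0, 1) i₂ (by decide) hi₂
      intro u' hu'0 hu'
      rcases v4_cases u' with rfl | rfl | rfl | rfl
      · exact absurd rfl hu'0
      · rw [hi₁]
        intro h
        exact h12 (Option.some.inj h)
      · exact absurd rfl hu'
      · rw [hi₃]
        intro h
        exact h12 (h13.trans (Option.some.inj h))
    · -- `(1,0)` is alone
      apply one (1, 0) i₁ (by decide) hi₁
      intro u' hu'0 hu'
      rcases v4_cases u' with rfl | rfl | rfl | rfl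
      · exact absurd rfl hu'0
      · exact absurd rfl hu'
      · rw [hi₂]
        intro h
        exact h12 (Option.some.inj h).symm
      · rw [hi₃]
        intro h
        exact h13 (Option.some.inj h).symm

end Cfsg.Agent.Lib.Helper5.AltTwoMax
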