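import Mathlib
import Cfsg.Agent.Lib.Helper5.AltTwoMax5
import Cfsg.Agent.Lib.Helper5.AltTwoMax7

set_option autoImplicit false

namespace Cfsg.Agent.Lib.Helper5.AltTwoMax

open Equiv Equiv.Perm Subgroup
open Cfsg.Agent.Lib.Helper9.H9AutAlt
open Cfsg.Agent.Lib.Helper5.ThreeMin
open Cfsg.Agent.Lib.Helper5.SylSym

variable {β : Type*} [Fintype β] [DecidableEq β]

/-- the model set for degree `2 ^ k + 1` -/
abbrev Om (β : Type*) := ((β × ZMod 2) × ZMod 2) ⊕ Unit

/-- the fibre function -/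
def trF (b' : β) (c : ZMod 2) : β × ZMod 2 → Multiplicative (ZMod 2) :=
  fun x => if x.1 = b' then Multiplicative.ofAdd c else 1

/-- translation of a block of four points -/
def tr (b' : β) (a c : ZMod 2) : Perm (Om β) :=
  extHom' ((β × ZMod 2) × ZMod 2) Unit
    (bHom 2 (β × ZMod 2) (trF b' c) *
      tHom 2 (β × ZMod 2) (bHom 2 β (Pi.mulSingle b' (Multiplicative.ofAdd a))))

theorem tr_apply_same (b' : β) (a c i j : ZMod 2) :
    tr b' a c (Sum.inl ((b', i), j)) = Sum.inl ((b', i + a), j + c) := by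
  unfold tr
  rw [extHom'_inl, bt_apply, bHom_apply]
  simp [trF]

theorem tr_apply_other (b' b : β) (hb : b ≠ b') (a c i j : ZMod 2) :
    tr b' a c (Sum.inl ((b, i), j)) = Sum.inl ((b, i), j) := by
  unfold tr
  rw [extHom'_inl, bt_apply, bHom_apply]
  simp [trF, hb]

theorem tr_apply_inr (b' : β) (a c : ZMod 2) (u : Unit) :
    tr b' a c (Sum.inr u) = Sum.inr u := rfl

theorem tr_mem_SS2 (T' : Subgroup (Perm β)) (b' : β) (a c : ZMod 2) :
    tr b' a c ∈ SS2 Unit (W (p := 2) T') := by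
  rw [mem_SS2]
  exact ⟨trF b' c, _, ⟨_, 1, T'.one_mem, by rw [(tHom 2 β).map_one, mul_one]⟩, rfl⟩

theorem trF_eq (b' : β) (c : ZMod 2) :
    trF b' c = Pi.mulSingle (b', (0 : ZMod 2)) (Multiplicative.ofAdd c) *
      Pi.mulSingle (b', (1 : ZMod 2)) (Multiplicative.ofAdd c) := by
  funext x
  obtain ⟨b, i⟩ := x
  have hi : i = 0 ∨ i = 1 := by
    revert i
    decide
  by_cases hb : b = b'
  · subst hb
    rcases hi with rfl | rfl
    · simp [trF, Pi.mulSingle_apply]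
    · simp [trF, Pi.mulSingle_apply]
  · have h1 : (b, i) ≠ (b', (0 : ZMod 2)) := fun h => hb (congrArg Prod.fst h)
    have h2 : (b, i) ≠ (b', (1 : ZMod 2)) := fun h => hb (congrArg Prod.fst h)
    simp [trF, Pi.mulSingle_apply, hb, h1, h2]

theorem sign_bHom_mulSingle (x : β × ZMod 2) (c : ZMod 2) :
    sign (bHom 2 (β × ZMod 2) (Pi.mulSingle x (Multiplicative.ofAdd c))) =
      if c = 0 then 1 else -1 := by
  have hc : c = 0 ∨ c = 1 := by
    revert c
    decide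
  rcases hc with rfl | rfl
  · simp
  · rw [sign_bHom_single]
    simp

theorem tr_mem_alt (b' : β) (a c : ZMod 2) : tr b' a c ∈ alternatingGroup (Om β) := by
  rw [mem_alternatingGroup]
  unfold tr
  rw [sign_extHom', map_mul, sign_tHom_two, mul_one, trF_eq, map_mul, map_mul,
    sign_bHom_mulSingle, sign_bHom_mulSingle]
  split_ifs <;> simp

/-- moving the blocks -/
def mv (t' : Perm β) : Perm (Om β) :=
  extHom' ((β × ZMod 2) × ZMod 2) Unit (tHom 2 (β × ZMod 2) (tHom 2 β t'))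

theorem mv_apply_inl (t' : Perm β) (b : β) (i j : ZMod 2) :
    mv t' (Sum.inl ((b, i), j)) = Sum.inl ((t' b, i), j) := rfl

theorem mv_apply_inr (t' : Perm β) (u : Unit) : mv t' (Sum.inr u) = Sum.inr u := rfl

theorem mv_mem_SS2 (T' : Subgroup (Perm β)) (t' : Perm β) (ht' : t' ∈ T') :
    mv t' ∈ SS2 Unit (W (p := 2) T') := by
  rw [mem_SS2]
  refine ⟨1, _, ⟨1, t', ht', by rw [(bHom 2 β).map_one, one_mul]⟩, ?_⟩
  rw [(bHom 2 (β × ZMod 2)).map_one, one_mul]
  rfl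

theorem mv_mem_alt (t' : Perm β) : mv t' ∈ alternatingGroup (Om β) := by
  rw [mem_alternatingGroup]
  unfold mv
  rw [sign_extHom', sign_tHom_two]

/-- the frames of the model -/
def Phi (b' : β) : ZMod 2 × ZMod 2 → Om β := fun u => Sum.inl ((b', u.1), u.2)

/-- the block index -/
def Bidx : Om β → Option β := Sum.elim (fun p => some p.1.1) (fun _ => none)

theorem mem_range_Phi (i : β) (z : Om β) : z ∈ Set.range (Phi i) ↔ Bidx z = some i := by
  constructor
  · rintro ⟨u, rfl⟩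
    rfl
  · intro h
    rcases z with ⟨⟨b, i'⟩, j⟩ | u
    · have : b = i := Option.some.inj h
      subst this
      exact ⟨(i', j), rfl⟩
    · exact absurd h (by simp [Bidx])

theorem frame_Phi (T' : Subgroup (Perm β)) (M : Subgroup (Perm (Om β)))
    (hM : SS2 Unit (W (p := 2) T') ⊓ alternatingGroup (Om β) ≤ M) (b' : β) :
    Frame M (Phi b') := by
  refine ⟨?_, ?_⟩
  · intro u u' h
    have h1 := Sum.inl_injective h
    exact Prod.ext (congrArg (fun p : (β × ZMod 2) × ZMod 2 => p.1.2) h1)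
      (congrArg (fun p : (β × ZMod 2) × ZMod 2 => p.2) h1)
  · intro v
    refine ⟨tr b' v.1 v.2, hM ⟨tr_mem_SS2 T' b' v.1 v.2, tr_mem_alt b' v.1 v.2⟩, ?_, ?_⟩
    · intro u
      exact tr_apply_same b' v.1 v.2 u.1 u.2
    · intro z hz
      rcases z with ⟨⟨b, i⟩, j⟩ | u
      · by_cases hb : b = b'
        · exfalso
          apply hz
          rw [hb]
          exact ⟨(i, j), rfl⟩
        · exact tr_apply_other b' b hb _ _ _ _
      · rfl

theorem Frame.shift {Ω : Type*} [DecidableEq Ω] [Fintype Ω] {M : Subgroup (Perm Ω)}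
    {φ : ZMod 2 × ZMod 2 → Ω} (h : Frame M φ) (u₀ : ZMod 2 × ZMod 2) :
    Frame M (fun u => φ (u₀ + u)) := by
  refine ⟨fun u u' huu' => add_left_cancel (h.1 huu'), ?_⟩
  intro v
  obtain ⟨θ, hθM, hθ1, hθ2⟩ := h.2 v
  refine ⟨θ, hθM, ?_, ?_⟩
  · intro u
    rw [hθ1, add_assoc]
  · intro z hz
    apply hθ2
    rintro ⟨t, rfl⟩
    apply hz
    exact ⟨t - u₀, by simp⟩

/-- transitivity on the first summand -/
theorem exists_move (T' : Subgroup (Perm β)) (htr : ∀ x y : β, ∃ t ∈ T', t x = y)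
    (M : Subgroup (Perm (Om β)))
    (hM : SS2 Unit (W (p := 2) T') ⊓ alternatingGroup (Om β) ≤ M)
    (p p' : (β × ZMod 2) × ZMod 2) :
    ∃ r ∈ M, r (Sum.inl p) = Sum.inl p' ∧ r (Sum.inr ()) = Sum.inr () := by
  obtain ⟨⟨b, i⟩, j⟩ := p
  obtain ⟨⟨b₂, i₂⟩, j₂⟩ := p'
  obtain ⟨t', ht', htb⟩ := htr b b₂
  refine ⟨tr b₂ (i₂ - i) (j₂ - j) * mv t', M.mul_mem
    (hM ⟨tr_mem_SS2 T' _ _ _, tr_mem_alt _ _ _⟩) (hM ⟨mv_mem_SS2 T' t' ht', mv_mem_alt t'⟩), ?_, ?_⟩
  · rw [Perm.mul_apply, mv_apply_inl, htb, tr_apply_same]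
    simp
  · rfl

/-- a three-cycle from an element moving the extra point -/
theorem exists_threeCycle_of_move (T' : Subgroup (Perm β)) (M : Subgroup (Perm (Om β)))
    (hM : SS2 Unit (W (p := 2) T') ⊓ alternatingGroup (Om β) ≤ M) (g : Perm (Om β))
    (hg : g ∈ M) (hgx : g (Sum.inr ()) ≠ Sum.inr ()) : ∃ c ∈ M, c.IsThreeCycle := by
  have hinv : g⁻¹ (Sum.inr ()) ≠ Sum.inr () := by
    intro h
    apply hgx
    have := congrArg g h
    rw [perm_app_inv] at this
    exact this.symm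
  obtain ⟨⟨⟨b₂, i₀⟩, j₀⟩, hp₀⟩ : ∃ p, g⁻¹ (Sum.inr ()) = Sum.inl p := by
    rcases hx : g⁻¹ (Sum.inr ()) with p | u
    · exact ⟨p, rfl⟩
    · exact absurd hx hinv
  have hframe : Frame M (fun u => g (Phi b₂ ((i₀, j₀) + u))) :=
    ((frame_Phi T' M hM b₂).shift (i₀, j₀)).conj hg
  have h0 : g (Phi b₂ ((i₀, j₀) + 0)) = Sum.inr () := by
    rw [add_zero]
    show g (Sum.inl ((b₂, i₀), j₀)) = Sum.inr ()
    rw [← hp₀, perm_app_inv]
  apply exists_threeCycle_of_frames M Bidx Phi (frame_Phi T' M hM) mem_range_Phi _ hframe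
  · show Bidx (g (Phi b₂ ((i₀, j₀) + 0))) = none
    rw [h0]
    rfl
  · intro u hu
    have hne : g (Phi b₂ ((i₀, j₀) + u)) ≠ Sum.inr () := by
      intro h
      rw [← h0] at h
      exact hu (hframe.1 h)
    rcases hx : g (Phi b₂ ((i₀, j₀) + u)) with p | w
    · exact ⟨p.1.1, rfl⟩
    · exact absurd hx hne

end Cfsg.Agent.Lib.Helper5.AltTwoMax
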