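import Mathlib
import Cfsg.Agent.Lib.Helper5.AltTwoMax8

set_option autoImplicit false

namespace Cfsg.Agent.Lib.Helper5.AltTwoMax

open Equiv Equiv.Perm Subgroup
open Cfsg.Agent.Lib.Helper9.H9AutAlt
open Cfsg.Agent.Lib.Helper5.ThreeMin
open Cfsg.Agent.Lib.Helper5.SylSym
open scoped Pointwise

variable {β : Type*} [Fintype β] [DecidableEq β]

theorem isPreprimitive_of_move (T' : Subgroup (Perm β)) (htr : ∀ x y : β, ∃ t ∈ T', t x = y)
    (M : Subgroup (Perm (Om β)))
    (hM : SS2 Unit (W (p := 2) T') ⊓ alternatingGroup (Om β) ≤ M) (g : Perm (Om β))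
    (hg : g ∈ M) (hgx : g (Sum.inr ()) ≠ Sum.inr ()) : MulAction.IsPreprimitive M (Om β) := by
  have key : ∀ z : Om β, ∃ m ∈ M, m (Sum.inr ()) = z := by
    intro z
    rcases z with p | u
    · obtain ⟨p₁, hp₁⟩ : ∃ p₁, g (Sum.inr ()) = Sum.inl p₁ := by
        rcases hx : g (Sum.inr ()) with p | u
        · exact ⟨p, rfl⟩
        · exact absurd hx hgx
      obtain ⟨r, hrM, hr, -⟩ := exists_move T' htr M hM p₁ p
      exact ⟨r * g, M.mul_mem hrM hg, by rw [Perm.mul_apply, hp₁, hr]⟩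
    · exact ⟨1, M.one_mem, rfl⟩
  haveI : MulAction.IsPretransitive M (Om β) := by
    constructor
    intro x y
    obtain ⟨m₁, hm₁, h₁⟩ := key x
    obtain ⟨m₂, hm₂, h₂⟩ := key y
    refine ⟨⟨m₂ * m₁⁻¹, M.mul_mem hm₂ (M.inv_mem hm₁)⟩, ?_⟩
    show (m₂ * m₁⁻¹) x = y
    rw [Perm.mul_apply, ← h₁, perm_inv_app, h₂]
  apply MulAction.IsPreprimitive.of_isTrivialBlock_base (Sum.inr () : Om β)
  intro B hxB hB
  by_cases hBs : B.Subsingleton
  · exact Or.inl hBs
  right
  rw [Set.not_subsingleton_iff] at hBs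
  obtain ⟨y, hy, y', hy', hyy'⟩ := hBs
  obtain ⟨p, hpB⟩ : ∃ p, (Sum.inl p : Om β) ∈ B := by
    rcases y with p | u
    · exact ⟨p, hy⟩
    · rcases y' with p' | u'
      · exact ⟨p', hy'⟩
      · exact absurd rfl hyy'
  rw [Set.eq_univ_iff_forall]
  intro z
  rcases z with p' | u
  · obtain ⟨r, hrM, hr, hr0⟩ := exists_move T' htr M hM p p'
    have hfix : (⟨r, hrM⟩ : M) • B = B := by
      rcases hB.smul_eq_or_disjoint ⟨r, hrM⟩ with h | h
      · exact h
      · exfalso
        have h1 : (Sum.inr () : Om β) ∈ (⟨r, hrM⟩ : M) • B := ⟨Sum.inr (), hxB, hr0⟩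
        exact Set.disjoint_left.mp h h1 hxB
    rw [← hfix]
    exact ⟨Sum.inl p, hpB, hr⟩
  · exact hxB

theorem SS2_fix_inr (T : Subgroup (Perm (β × ZMod 2))) (σ : Perm (Om β)) (hσ : σ ∈ SS2 Unit T)
    (u : Unit) : σ (Sum.inr u) = Sum.inr u := by
  obtain ⟨f, t, -, rfl⟩ := mem_SS2.mp hσ
  rfl

/-- the alternating case for the model -/
theorem uniq_alt_model (T' : Subgroup (Perm β)) (htr : ∀ x y : β, ∃ t ∈ T', t x = y) (b₀ : β) :
    UniqMax ((SS2 Unit (W (p := 2) T') ⊓ alternatingGroup (Om β)).subgroupOf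
      (alternatingGroup (Om β))) := by
  set M₀ : Subgroup (alternatingGroup (Om β)) :=
    (MulAction.stabilizer (Perm (Om β)) (Sum.inr () : Om β)).subgroupOf
      (alternatingGroup (Om β)) with hM₀
  have memM₀ : ∀ x : alternatingGroup (Om β), x ∈ M₀ ↔ (x : Perm (Om β)) (Sum.inr ()) = Sum.inr () := by
    intro x
    rw [hM₀, Subgroup.mem_subgroupOf, MulAction.mem_stabilizer_iff]
    rfl
  have h0 : M₀ ≠ ⊤ := by
    intro h
    have hne1 : (Sum.inr () : Om β) ≠ Sum.inl ((b₀, 0), 0) := Sum.inr_ne_inl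
    have hne2 : (Sum.inr () : Om β) ≠ Sum.inl ((b₀, 0), 1) := Sum.inr_ne_inl
    have hne3 : (Sum.inl ((b₀, 0), 0) : Om β) ≠ Sum.inl ((b₀, 0), 1) := by
      intro h
      have := congrArg Prod.snd (Sum.inl_injective h)
      exact zmod2_ne this
    have hmem : (⟨_, cyc_mem_alt hne1 hne2 hne3⟩ : alternatingGroup (Om β)) ∈ M₀ := by
      rw [h]
      exact Subgroup.mem_top _
    rw [memM₀] at hmem
    rw [cyc_apply_fst hne1 hne2] at hmem
    exact hne1 hmem.symm
  apply uniqMax_of_forall h0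
  · intro x hx
    rw [Subgroup.mem_subgroupOf] at hx
    rw [memM₀]
    exact SS2_fix_inr _ _ hx.1 ()
  · intro M hM hRM
    by_cases hfix : ∀ m ∈ M, (m : Perm (Om β)) (Sum.inr ()) = Sum.inr ()
    · have hle : M ≤ M₀ := fun m hm => (memM₀ m).mpr (hfix m hm)
      by_contra hne
      exact h0 (hM.2 _ (lt_of_le_of_ne hle hne))
    · exfalso
      rw [not_forall] at hfix
      obtain ⟨m, hm⟩ := hfix
      rw [Classical.not_imp] at hm
      obtain ⟨hmM, hmx⟩ := hm
      set M' : Subgroup (Perm (Om β)) := M.map (alternatingGroup (Om β)).subtype with hM'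
      have hRM' : SS2 Unit (W (p := 2) T') ⊓ alternatingGroup (Om β) ≤ M' := by
        intro x hx
        refine ⟨⟨x, hx.2⟩, hRM ?_, rfl⟩
        rw [Subgroup.mem_subgroupOf]
        exact hx
      have hgM' : (m : Perm (Om β)) ∈ M' := ⟨m, hmM, rfl⟩
      obtain ⟨c, hcM', hc3⟩ := exists_threeCycle_of_move T' M' hRM' _ hgM' hmx
      have hprim := isPreprimitive_of_move T' htr M' hRM' _ hgM' hmx
      have hle := alternatingGroup_le_of_isPreprimitive_of_isThreeCycle_mem hprim hc3 hcM'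
      apply hM.1
      rw [eq_top_iff]
      intro x _
      obtain ⟨y, hy, hyx⟩ := hle x.2
      have : y = x := Subtype.ext hyx
      rwa [this] at hy

theorem bHom_single_eq_swap (i : β) :
    bHom 2 β (Pi.mulSingle i (Multiplicative.ofAdd 1)) = Equiv.swap (i, 0) (i, 1) := by
  apply Equiv.ext
  rintro ⟨j, a⟩
  rw [bHom_apply]
  by_cases hj : j = i
  · subst hj
    simp only [Pi.mulSingle_eq_same, toAdd_ofAdd]
    have ha : a = 0 ∨ a = 1 := by
      revert a
      decide
    rcases ha with rfl | rfl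
    · rw [Equiv.swap_apply_left, zero_add]
    · rw [Equiv.swap_apply_right]
      congr 1
  · rw [Pi.mulSingle_eq_of_ne hj]
    rw [Equiv.swap_apply_of_ne_of_ne]
    · simp
    · intro h
      exact hj (congrArg Prod.fst h)
    · intro h
      exact hj (congrArg Prod.fst h)

theorem extHom'_swap {α γ : Type*} [DecidableEq α] [Fintype γ] [DecidableEq γ] (a b : α) :
    extHom' α γ (Equiv.swap a b) = Equiv.swap (Sum.inl a) (Sum.inl b) := by
  apply Equiv.ext
  rintro (x | u)
  · rw [extHom'_inl]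
    by_cases hxa : x = a
    · rw [hxa, Equiv.swap_apply_left, Equiv.swap_apply_left]
    by_cases hxb : x = b
    · rw [hxb, Equiv.swap_apply_right, Equiv.swap_apply_right]
    rw [Equiv.swap_apply_of_ne_of_ne hxa hxb, Equiv.swap_apply_of_ne_of_ne]
    · exact fun h => hxa (Sum.inl_injective h)
    · exact fun h => hxb (Sum.inl_injective h)
  · rw [extHom'_inr, Equiv.swap_apply_of_ne_of_ne Sum.inr_ne_inl Sum.inr_ne_inl]

/-- the symmetric case for the model -/
theorem uniq_perm_model (T' : Subgroup (Perm β)) (htr : ∀ x y : β, ∃ t ∈ T', t x = y) (b₀ : β) :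
    UniqMax (SS2 Unit (W (p := 2) T')) := by
  set M₀ : Subgroup (Perm (Om β)) :=
    MulAction.stabilizer (Perm (Om β)) (Sum.inr () : Om β) with hM₀
  have memM₀ : ∀ x : Perm (Om β), x ∈ M₀ ↔ x (Sum.inr ()) = Sum.inr () := by
    intro x
    rw [hM₀, MulAction.mem_stabilizer_iff]
    rfl
  have h0 : M₀ ≠ ⊤ := by
    intro h
    have hne1 : (Sum.inr () : Om β) ≠ Sum.inl ((b₀, 0), 0) := Sum.inr_ne_inl
    have hmem : Equiv.swap (Sum.inr () : Om β) (Sum.inl ((b₀, 0), 0)) ∈ M₀ := by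
      rw [h]
      exact Subgroup.mem_top _
    rw [memM₀, Equiv.swap_apply_left] at hmem
    exact hne1 hmem.symm
  apply uniqMax_of_forall h0
  · intro x hx
    rw [memM₀]
    exact SS2_fix_inr _ _ hx ()
  · intro M hM hSM
    by_cases hfix : ∀ m ∈ M, m (Sum.inr ()) = Sum.inr ()
    · have hle : M ≤ M₀ := fun m hm => (memM₀ m).mpr (hfix m hm)
      by_contra hne
      exact h0 (hM.2 _ (lt_of_le_of_ne hle hne))
    · exfalso
      rw [not_forall] at hfix
      obtain ⟨m, hm⟩ := hfix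
      rw [Classical.not_imp] at hm
      obtain ⟨hmM, hmx⟩ := hm
      have hRM' : SS2 Unit (W (p := 2) T') ⊓ alternatingGroup (Om β) ≤ M :=
        inf_le_left.trans hSM
      have hprim := isPreprimitive_of_move T' htr M hRM' _ hmM hmx
      have hsw : extHom' ((β × ZMod 2) × ZMod 2) Unit
          (bHom 2 (β × ZMod 2) (Pi.mulSingle (b₀, 0) (Multiplicative.ofAdd 1))) ∈ M := by
        apply hSM
        rw [mem_SS2]
        exact ⟨_, 1, Subgroup.one_mem _, by rw [(tHom 2 (β × ZMod 2)).map_one, mul_one]⟩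
      rw [bHom_single_eq_swap, extHom'_swap] at hsw
      have hisw : (Equiv.swap (Sum.inl (((b₀, 0) : β × ZMod 2), (0 : ZMod 2)) : Om β)
          (Sum.inl ((b₀, 0), 1))).IsSwap := by
        refine ⟨_, _, ?_, rfl⟩
        intro h
        exact zmod2_ne (congrArg Prod.snd (Sum.inl_injective h))
      exact hM.1 (subgroup_eq_top_of_isPreprimitive_of_isSwap_mem hprim _ hisw hsw)

end Cfsg.Agent.Lib.Helper5.AltTwoMax
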