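import Mathlib
import Cfsg.Agent.Lib.Helper5.AltTwoMax9

set_option autoImplicit false

namespace Cfsg.Agent.Lib.Helper5.AltTwoMax

open Equiv Equiv.Perm Subgroup
open Cfsg.Agent.Lib.Helper9.H9AutAlt
open Cfsg.Agent.Lib.Helper5.ThreeMin
open Cfsg.Agent.Lib.Helper5.SylSym

/-- a transitive Sylow `2`-subgroup in degree `2 ^ k` -/
theorem exists_trans_T2 : ∀ (k : ℕ) (β : Type) [Fintype β] [DecidableEq β],
    Fintype.card β = 2 ^ k →
    ∃ T : Subgroup (Perm β), Nat.card T = 2 ^ padicValNat 2 (Fintype.card β).factorial ∧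
      ∀ x y : β, ∃ t ∈ T, t x = y := by
  intro k
  induction k with
  | zero =>
    intro β _ _ hβ
    rw [pow_zero] at hβ
    refine ⟨⊥, ?_, ?_⟩
    · rw [hβ, Subgroup.card_bot]
      simp
    · intro x y
      haveI : Subsingleton β := Fintype.card_le_one_iff_subsingleton.mp (le_of_eq hβ)
      exact ⟨1, Subgroup.one_mem _, Subsingleton.elim _ _⟩
  | succ k ih =>
    intro β _ _ hβ
    obtain ⟨T₀, hT₀, htr₀⟩ := ih (Fin (2 ^ k)) (Fintype.card_fin _)
    have hc : Fintype.card β = Fintype.card (Fin (2 ^ k) × ZMod 2) := by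
      rw [hβ, Fintype.card_prod, Fintype.card_fin, ZMod.card, pow_succ]
    have e : β ≃ Fin (2 ^ k) × ZMod 2 := Fintype.equivOfCardEq hc
    refine ⟨(W (p := 2) T₀).map (Equiv.permCongrHom e.symm).toMonoidHom, ?_, ?_⟩
    · rw [Subgroup.card_map_of_injective (Equiv.permCongrHom e.symm).injective, card_W_T2 T₀ hT₀,
        hc]
    · intro x y
      obtain ⟨t₀, ht₀, hxy⟩ := htr₀ (e x).1 (e y).1
      refine ⟨(Equiv.permCongrHom e.symm) (bHom 2 (Fin (2 ^ k))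
        (fun _ => Multiplicative.ofAdd ((e y).2 - (e x).2)) * tHom 2 (Fin (2 ^ k)) t₀),
        ⟨_, ⟨_, t₀, ht₀, rfl⟩, rfl⟩, ?_⟩
      show e.symm ((bHom 2 (Fin (2 ^ k))
        (fun _ => Multiplicative.ofAdd ((e y).2 - (e x).2)) * tHom 2 (Fin (2 ^ k)) t₀)
          (e.symm.symm x)) = y
      rw [Equiv.symm_symm, bt_apply, hxy]
      simp

theorem exists_model_pow (n k : ℕ) (hk : 2 ≤ k) (hn : n = 2 ^ k + 1) :
    ∃ (T' : Subgroup (Perm (Fin (2 ^ (k - 2))))) (_ : Fin n ≃ Om (Fin (2 ^ (k - 2))))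
      (P : Sylow 2 (Perm (Om (Fin (2 ^ (k - 2)))))),
      (P : Subgroup (Perm (Om (Fin (2 ^ (k - 2)))))) = SS2 Unit (W (p := 2) T') ∧
      ∀ x y : Fin (2 ^ (k - 2)), ∃ t ∈ T', t x = y := by
  obtain ⟨T', hT', htr⟩ := exists_trans_T2 (k - 2) (Fin (2 ^ (k - 2))) (Fintype.card_fin _)
  have hT := card_W_T2 T' hT'
  obtain ⟨P, hP⟩ := exists_sylow_SS2 (γ := Unit) (W (p := 2) T') hT (by simp)
  have hc : Fintype.card (Om (Fin (2 ^ (k - 2)))) = n := by
    rw [Fintype.card_sum, Fintype.card_prod, Fintype.card_prod, ZMod.card, Fintype.card_fin,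
      Fintype.card_unit, hn]
    obtain ⟨j, rfl⟩ : ∃ j, k = j + 2 := ⟨k - 2, by omega⟩
    rw [show j + 2 - 2 = j by omega, pow_succ, pow_succ]
  exact ⟨T', (Fintype.equivFinOfCardEq hc).symm, P, hP, htr⟩

theorem uniq_alt (n k : ℕ) (hk : 2 ≤ k) (hn : n = 2 ^ k + 1)
    (R : Sylow 2 (alternatingGroup (Fin n))) :
    UniqMax (R : Subgroup (alternatingGroup (Fin n))) := by
  haveI : Fact (Nat.Prime 2) := ⟨Nat.prime_two⟩
  obtain ⟨T', e, P, hP, htr⟩ := exists_model_pow n k hk hn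
  obtain ⟨Q, hQ⟩ := exists_sylow_inf_normal P (alternatingGroup (Om (Fin (2 ^ (k - 2)))))
  have h1 : UniqMax (Q : Subgroup (alternatingGroup (Om (Fin (2 ^ (k - 2)))))) := by
    rw [hQ, hP]
    exact uniq_alt_model T' htr ⟨0, by positivity⟩
  exact (uniqMax_sylow_equiv (Equiv.altCongrHom e) R Q).mpr h1

theorem uniq_perm (n k : ℕ) (hk : 2 ≤ k) (hn : n = 2 ^ k + 1)
    (R : Sylow 2 (Perm (Fin n))) :
    UniqMax (R : Subgroup (Perm (Fin n))) := by
  haveI : Fact (Nat.Prime 2) := ⟨Nat.prime_two⟩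
  obtain ⟨T', e, P, hP, htr⟩ := exists_model_pow n k hk hn
  have h1 : UniqMax (P : Subgroup (Perm (Om (Fin (2 ^ (k - 2)))))) := by
    rw [hP]
    exact uniq_perm_model T' htr ⟨0, by positivity⟩
  exact (uniqMax_sylow_equiv (Equiv.permCongrHom e) R P).mpr h1

end Cfsg.Agent.Lib.Helper5.AltTwoMax
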