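import Mathlib
import Cfsg.Prelude.Def_Blocks
import Cfsg.Agent.S0908
import Cfsg.Agent.S0958
import Cfsg.Agent.S0906
import Cfsg.Agent.S0917
import Cfsg.Agent.S0912
import Cfsg.Agent.S0968
import Cfsg.Agent.S4513

/-!
# S4607 (Brandt), package B8 (helper5): `|D| = 2 ⇒ k(B) = 2`

Assembly of landed rows (all helper8): S0908 (`|D| = p ^ defect`), S0958 (first main theorem,
existence of an inducing block of `C_G(x)`), S0906 (defect classes exist), S0917 (defect groups of
the inducing block), S0912 (`O_p ≤ D`), S0968 (the canonical character), S4513 (blocks of defect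
one for `p = 2`).
-/

set_option autoImplicit false

open Cfsg

namespace Cfsg.Agent.Lib.Lead.Brandt

/-- a defect group exists for every block (from a defect class and a Sylow subgroup) -/
theorem exists_defectGroup_B8 {G : Type*} [Group G] [Finite G] (p : ℕ) [Fact p.Prime]
    (M : Ideal AlgInt) (hM : IsPModular p M) (B : Set (IrrCharacter G)) (hB : IsPBlock M B) :
    ∃ Q : Subgroup G, IsDefectGroup p M B Q := by
  obtain ⟨g, hg⟩ := Cfsg.Agent.S0906.result p M hM B hB
  obtain ⟨P⟩ : Nonempty (Sylow p (Subgroup.centralizer ({g} : Set G))) := inferInstance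
  exact ⟨_, g, hg, P, rfl⟩

/-- B8: `|D| = 2 ⇒ |B| = 2` -/
theorem card_block_of_card_defect_two {G : Type*} [Group G] [Finite G] (p : ℕ) [Fact p.Prime]
    (M : Ideal AlgInt) (hM : IsPModular p M) (B : Set (IrrCharacter G)) (hB : IsPBlock M B)
    (D : Subgroup G) (hD : IsDefectGroup p M B D) (h : Nat.card D = 2) : Nat.card B = 2 := by
  classical
  -- `p = 2`
  have h908 := Cfsg.Agent.S0908.result p M hM B hB D hD
  have hp2 : p = 2 := by
    have hp : p.Prime := Fact.out
    rw [h] at h908
    have hd : blockDefect p B ≠ 0 := by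
      intro h0
      rw [h0, pow_zero] at h908
      omega
    have : p ∣ 2 := by
      rw [h908]
      exact dvd_pow_self p hd
    exact (Nat.prime_dvd_prime_iff_eq hp Nat.prime_two).mp this
  subst hp2
  -- `D = ⟨x⟩`, `x` an involution
  obtain ⟨x, hxD, hx1⟩ : ∃ x ∈ D, x ≠ 1 := by
    by_contra hcon
    push Not at hcon
    have : D = ⊥ := (Subgroup.eq_bot_iff_forall _).mpr hcon
    rw [this, Subgroup.card_bot] at h
    omega
  have hzle : Subgroup.zpowers x ≤ D := Subgroup.zpowers_le.mpr hxD
  have hox : orderOf x = 2 := by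
    have h1 : orderOf x ∣ 2 := by
      rw [← h, ← Nat.card_zpowers]
      exact Subgroup.card_dvd_of_le hzle
    have h2 : orderOf x ≠ 1 := by
      rw [Ne, orderOf_eq_one_iff]
      exact hx1
    rcases (Nat.dvd_prime Nat.prime_two).mp h1 with h3 | h3
    · exact absurd h3 h2
    · exact h3
  have hDz : D = Subgroup.zpowers x := by
    symm
    apply Subgroup.eq_of_le_of_card_ge hzle
    rw [Nat.card_zpowers, hox, h]
  subst hDz
  -- `H = C_G(x)`
  have hcent : Subgroup.centralizer ((Subgroup.zpowers x : Subgroup G) : Set G) =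
      Subgroup.centralizer ({x} : Set G) := by
    ext g
    rw [Subgroup.mem_centralizer_iff, Subgroup.mem_centralizer_iff]
    constructor
    · intro hg y hy
      rw [Set.mem_singleton_iff] at hy
      subst hy
      exact hg y (Subgroup.mem_zpowers y)
    · intro hg y hy
      obtain ⟨n, rfl⟩ := Subgroup.mem_zpowers_iff.mp hy
      have hc : Commute x g := hg x rfl
      exact (hc.zpow_left n).eq
  have hPH : Subgroup.zpowers x ⊔ Subgroup.centralizer ((Subgroup.zpowers x : Subgroup G) : Set G) ≤
      Subgroup.centralizer ({x} : Set G) := by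
    rw [hcent]
    refine sup_le ?_ le_rfl
    rw [Subgroup.zpowers_le, Subgroup.mem_centralizer_iff]
    intro y hy
    rw [Set.mem_singleton_iff] at hy
    subst hy
    rfl
  have hHN : Subgroup.centralizer ({x} : Set G) ≤
      Subgroup.normalizer ((Subgroup.zpowers x : Subgroup G) : Set G) := by
    rw [← hcent]
    exact Subgroup.centralizer_le_normalizer _
  have hP2 : IsPGroup 2 (Subgroup.zpowers x) := by
    apply IsPGroup.of_card (n := 1)
    rw [Nat.card_zpowers, hox, pow_one]
  -- the inducing block `b` of `H`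
  obtain ⟨b, hind⟩ := (Cfsg.Agent.S0958.result 2 M hM (Subgroup.zpowers x)
    (Subgroup.centralizer ({x} : Set G)) hP2 hPH hHN B hB).mpr
    ⟨Subgroup.zpowers x, hD, (1 : G), by
      intro y hy
      obtain ⟨z, hz, rfl⟩ := hy
      simpa using hz⟩
  have hb : IsPBlock M b := hind.1
  -- a defect group `Q` of `b`
  obtain ⟨Q, hQ⟩ := exists_defectGroup_B8 2 M hM b hb
  obtain ⟨E, hE, hQE⟩ := Cfsg.Agent.S0917.result 2 M hM (Subgroup.centralizer ({x} : Set G)) b hb B hB
    hind Q hQ
  have hEcard : Nat.card E = 2 := by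
    rw [Cfsg.Agent.S0908.result 2 M hM B hB E hE, ← h908, h]
  have hQcard : Nat.card Q ≤ 2 := by
    rw [← hEcard, ← Subgroup.card_map_of_injective (Subgroup.subtype_injective _) (K := Q)]
    exact Nat.le_of_dvd Nat.card_pos (Subgroup.card_dvd_of_le hQE)
  -- `⟨x⟩ ≤ O_2(H) ≤ Q`
  set xH : ↥(Subgroup.centralizer ({x} : Set G)) := ⟨x, by
    rw [Subgroup.mem_centralizer_iff]
    intro y hy
    rw [Set.mem_singleton_iff] at hy
    subst hy
    rfl⟩ with hxH
  have hxHc : ∀ g : ↥(Subgroup.centralizer ({x} : Set G)), g * xH = xH * g := by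
    intro g
    apply Subtype.ext
    have := g.2
    rw [Subgroup.mem_centralizer_iff] at this
    exact (this x rfl).symm
  have hoxH : orderOf xH = 2 := by
    rw [← hox, ← Subgroup.orderOf_coe]
  have hnorm : (Subgroup.zpowers xH).Normal := by
    constructor
    intro n hn g
    obtain ⟨k, rfl⟩ := Subgroup.mem_zpowers_iff.mp hn
    have hc : Commute g xH := hxHc g
    have : g * xH ^ k * g⁻¹ = xH ^ k := by
      rw [(hc.zpow_right k).eq, mul_inv_cancel_right]
    rw [this]
    exact Subgroup.zpow_mem_zpowers xH k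
  have hP2H : IsPGroup 2 (Subgroup.zpowers xH) := by
    apply IsPGroup.of_card (n := 1)
    rw [Nat.card_zpowers, hoxH, pow_one]
  have hcore : Subgroup.zpowers xH ≤ pCore 2 ↥(Subgroup.centralizer ({x} : Set G)) :=
    le_sSup ⟨hnorm, hP2H⟩
  have hzQ : Subgroup.zpowers xH ≤ Q :=
    hcore.trans (Cfsg.Agent.S0912.result 2 M hM b hb Q hQ)
  have hQz : Subgroup.zpowers xH = Q := by
    apply Subgroup.eq_of_le_of_card_ge hzQ
    rw [Nat.card_zpowers, hoxH]
    exact hQcard
  rw [← hQz] at hQ
  -- the canonical character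
  have htop : Subgroup.zpowers xH ⊔
      Subgroup.centralizer ((Subgroup.zpowers xH : Subgroup _) : Set _) = ⊤ := by
    rw [eq_top_iff]
    intro g _
    apply Subgroup.mem_sup_right
    rw [Subgroup.mem_centralizer_iff]
    intro y hy
    obtain ⟨k, rfl⟩ := Subgroup.mem_zpowers_iff.mp hy
    have hc : Commute xH g := (hxHc g).symm
    exact (hc.zpow_left k).eq
  obtain ⟨⟨θ, ⟨hθb, hθx⟩, -⟩, -, -⟩ := Cfsg.Agent.S0968.result 2 M hM (Subgroup.zpowers xH) hP2H htop b hb hQ
  -- blocks of defect one
  exact (Cfsg.Agent.S4513.result M hM x hox B hB hD b hind θ hθb (by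
    intro z hz
    have : z = xH := Subtype.ext hz
    rw [this]
    exact hθx xH (Subgroup.mem_zpowers xH))).1

end Cfsg.Agent.Lib.Lead.Brandt
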