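import Cfsg.Agent.Lib.Helper1.C2Max_B0

/-!
S5634 PK-B4 : the aligned case.  A transvection `tv b β d` whose centre and axis have "aligned"
zeros in two different blocks gives, by three torus commutators, a cross-block elementary
transvection.
-/

set_option autoImplicit false

namespace Cfsg.Agent.Lib.Helper6.C2Max

open Matrix Cfsg.Agent.H9SLRoot

variable {F : Type*} [Field F] [Fintype F]

namespace PkB

namespace B4

variable {ι : Type*} [Fintype ι] [DecidableEq ι]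

/-- the commutator of `x = 1 + ∑ aₛ αₛᵀ` (all pairings `αₛ · aₜ` zero) with a diagonal matrix -/
theorem fam_step {S : Type*} [Fintype S] (x dd : SpecialLinearGroup ι F) (δ : ι → F)
    (hdd : dd.1 = Matrix.diagonal δ) (a α : S → ι → F)
    (hx : x.1 = 1 + ∑ s, Matrix.vecMulVec (a s) (α s))
    (h1 : ∀ s t, α s ⬝ᵥ a t = 0)
    (h2 : ∀ s t, α s ⬝ᵥ (δ * a t) = 0) :
    (x⁻¹ * (dd * x * dd⁻¹)).1 =
      1 + ∑ s, (Matrix.vecMulVec (δ * a s) (α s / δ) - Matrix.vecMulVec (a s) (α s)) := by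
  have hδ : ∀ k, δ k ≠ 0 := by
    have hdet := dd.2
    rw [hdd, Matrix.det_diagonal] at hdet
    intro k hk
    have : ∏ i, δ i = 0 := Finset.prod_eq_zero (Finset.mem_univ k) hk
    rw [this] at hdet
    exact zero_ne_one hdet
  set N : Matrix ι ι F := ∑ s, Matrix.vecMulVec (a s) (α s) with hN
  set N' : Matrix ι ι F := ∑ s, Matrix.vecMulVec (δ * a s) (α s / δ) with hN'
  have hNN : N * N = 0 := by
    rw [hN, Finset.sum_mul_sum]
    refine Finset.sum_eq_zero fun s _ => Finset.sum_eq_zero fun t _ => ?_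
    rw [Matrix.vecMulVec_mul_vecMulVec, h1, zero_smul, Matrix.vecMulVec_zero]
  have hNN' : N * N' = 0 := by
    rw [hN, hN', Finset.sum_mul_sum]
    refine Finset.sum_eq_zero fun s _ => Finset.sum_eq_zero fun t _ => ?_
    rw [Matrix.vecMulVec_mul_vecMulVec, h2, zero_smul, Matrix.vecMulVec_zero]
  have hΔ : Matrix.diagonal δ * (1 + N) = (1 + N') * Matrix.diagonal δ := by
    rw [mul_add, add_mul, mul_one, one_mul, hN, hN', Matrix.mul_sum, Matrix.sum_mul]
    congr 1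
    refine Finset.sum_congr rfl fun s _ => ?_
    ext r c
    rw [Matrix.diagonal_mul, Matrix.mul_diagonal, Matrix.vecMulVec_apply, Matrix.vecMulVec_apply,
      Pi.mul_apply, Pi.div_apply]
    field_simp [hδ c]
  obtain ⟨z, hz⟩ : ∃ z : SpecialLinearGroup ι F, z = dd * x * dd⁻¹ := ⟨_, rfl⟩
  rw [← hz]
  have hzd : z.1 * Matrix.diagonal δ = Matrix.diagonal δ * (1 + N) := by
    rw [← hdd, ← hx]
    show (z * dd).1 = (dd * x).1
    rw [hz, inv_mul_cancel_right]
  have hdinv : Matrix.diagonal δ * (dd⁻¹).1 = 1 := by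
    rw [← hdd]
    show (dd * dd⁻¹).1 = 1
    rw [mul_inv_cancel]
    rfl
  have hz1 : z.1 = 1 + N' := by
    calc z.1 = z.1 * (Matrix.diagonal δ * (dd⁻¹).1) := by rw [hdinv, mul_one]
      _ = (1 + N') * (Matrix.diagonal δ * (dd⁻¹).1) := by
          rw [← Matrix.mul_assoc, hzd, hΔ, Matrix.mul_assoc]
      _ = 1 + N' := by rw [hdinv, mul_one]
  have hxy : x.1 * (x⁻¹ * z).1 = 1 + N' := by
    show (x * (x⁻¹ * z)).1 = _
    rw [mul_inv_cancel_left, hz1]
  have hinv : (1 - N) * x.1 = 1 := by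
    rw [hx]
    calc (1 - N) * (1 + N) = 1 - N * N := by noncomm_ring
      _ = 1 := by rw [hNN, sub_zero]
  have hy : (x⁻¹ * z).1 = 1 + N' - N := by
    calc (x⁻¹ * z).1 = ((1 - N) * x.1) * (x⁻¹ * z).1 := by rw [hinv, one_mul]
      _ = (1 - N) * (1 + N') := by rw [Matrix.mul_assoc, hxy]
      _ = 1 + N' - N - N * N' := by noncomm_ring
      _ = 1 + N' - N := by rw [hNN', sub_zero]
  rw [hy, hN, hN', Finset.sum_sub_distrib]
  abel

/-- the diagonal of `diag2n` -/
def dfun (p p' : ι) (l : F) : ι → F := fun k => if k = p then l else if k = p' then l⁻¹ else 1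

theorem dfun_mul_of (p p' : ι) (l : F) (x : ι → F) (hx : x p' = 0) :
    dfun p p' l * x = x + (l - 1) • Pi.single p (x p) := by
  funext k
  rw [Pi.mul_apply, Pi.add_apply, Pi.smul_apply, smul_eq_mul]
  unfold dfun
  by_cases h1 : k = p
  · subst h1
    rw [if_pos rfl, Pi.single_eq_same]
    ring
  · rw [if_neg h1, Pi.single_eq_of_ne h1, mul_zero, add_zero]
    by_cases h2 : k = p'
    · subst h2
      rw [if_pos rfl, hx, mul_zero]
    · rw [if_neg h2, one_mul]

theorem dfun_mul_same (p p' : ι) (l : F) (x : ι → F) (hx : x p = 0) (hx' : x p' = 0) :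
    dfun p p' l * x = x := by
  rw [dfun_mul_of p p' l x hx', hx, Pi.single_zero, smul_zero, add_zero]

theorem div_dfun_of (p p' : ι) (hpp : p ≠ p') (l : F) (hl : l ≠ 0) (α : ι → F) (hα : α p = 0) :
    α / dfun p p' l = α + (l - 1) • Pi.single p' (α p') := by
  funext k
  rw [Pi.div_apply, Pi.add_apply, Pi.smul_apply, smul_eq_mul]
  unfold dfun
  by_cases h1 : k = p
  · subst h1
    rw [if_pos rfl, hα, zero_div, Pi.single_eq_of_ne hpp, mul_zero, add_zero]
  · rw [if_neg h1]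
    by_cases h2 : k = p'
    · subst h2
      rw [if_pos rfl, Pi.single_eq_same]
      field_simp
      ring
    · rw [if_neg h2, Pi.single_eq_of_ne h2, mul_zero, add_zero, div_one]

theorem div_dfun_same (p p' : ι) (hpp : p ≠ p') (l : F) (hl : l ≠ 0) (α : ι → F) (hα : α p = 0)
    (hα' : α p' = 0) : α / dfun p p' l = α := by
  rw [div_dfun_of p p' hpp l hl α hα, hα', Pi.single_zero, smul_zero, add_zero]

theorem diag2n_mem {τ : Type*} (blk : ι → τ) {K : Subgroup (SpecialLinearGroup ι F)}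
    (hK : OverB blk K) {p p' : ι} (hpp : p ≠ p') (l : F) (hl : l ≠ 0) :
    SpecialLinearGroup.diag2n hpp l hl ∈ K := by
  apply hK
  rw [SpecialLinearGroup.diag2n_coe]
  exact isBM_diagonal blk _

theorem diag2n_coe' {p p' : ι} (hpp : p ≠ p') (l : F) (hl : l ≠ 0) :
    (SpecialLinearGroup.diag2n hpp l hl).1 = Matrix.diagonal (dfun p p' l) := rfl

theorem vecMulVec_single_single (i j : ι) (a c : F) :
    Matrix.vecMulVec (Pi.single i a) (Pi.single j c) = Matrix.single i j (a * c) := by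
  ext r s
  rw [Matrix.vecMulVec_apply, Matrix.single_apply]
  by_cases h1 : i = r
  · by_cases h2 : j = s
    · subst h1; subst h2
      rw [Pi.single_eq_same, Pi.single_eq_same, if_pos ⟨rfl, rfl⟩]
    · rw [Pi.single_eq_of_ne (Ne.symm h2), mul_zero, if_neg (fun h => h2 h.2)]
  · rw [Pi.single_eq_of_ne (Ne.symm h1), zero_mul, if_neg (fun h => h1 h.1)]

/-- spare copy of PK-B4 (the exact-name version `PkB.cross_of_aligned` is in `Lib/Helper3/C2Max_B4`) -/
theorem cross_of_aligned {ι : Type*} [Fintype ι] [DecidableEq ι] {τ : Type*} (blk : ι → τ)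
    (hq : 3 ≤ Fintype.card F) (K : Subgroup (SpecialLinearGroup ι F)) (hK : OverB blk K)
    (b β : ι → F) (hβb : β ⬝ᵥ b = 0) (d : F) (hd0 : d ≠ 0) (hd : tv b β d ∈ K)
    (i₀ i₁ j₀ j₁ k₀ : ι) (hi : i₀ ≠ i₁) (hib : blk i₀ = blk i₁) (hj : j₀ ≠ j₁)
    (hjb : blk j₀ = blk j₁) (hij : blk i₀ ≠ blk j₀) (hk1 : blk k₀ ≠ blk i₀) (hk2 : blk k₀ ≠ blk j₀)
    (h1 : b i₁ = 0) (h2 : β i₀ = 0) (h3 : b j₁ = 0) (h4 : β j₀ = 0) (h5 : b i₀ ≠ 0)
    (h6 : β j₁ ≠ 0) (hne : i₀ ≠ j₁) :
    ∃ lam : F, lam ≠ 0 ∧ SpecialLinearGroup.transvection hne lam ∈ K := by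
  classical
  -- distinctness of the five indices
  have hi0j0 : i₀ ≠ j₀ := fun e => hij (by rw [e])
  have hi1j0 : i₁ ≠ j₀ := fun e => hij (by rw [hib, e])
  have hi1j1 : i₁ ≠ j₁ := fun e => hij (by rw [hib, e, hjb])
  have hk0i0 : k₀ ≠ i₀ := fun e => hk1 (by rw [e])
  have hk0i1 : k₀ ≠ i₁ := fun e => hk1 (by rw [e, hib])
  have hk0j0 : k₀ ≠ j₀ := fun e => hk2 (by rw [e])
  have hk0j1 : k₀ ≠ j₁ := fun e => hk2 (by rw [e, hjb])
  -- a scalar `l ≠ 0, 1`
  obtain ⟨l, hl0, hl1⟩ : ∃ l : F, l ≠ 0 ∧ l ≠ 1 := by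
    have h : ({0, 1} : Finset F).card < (Finset.univ : Finset F).card := by
      rw [Finset.card_univ]
      exact lt_of_le_of_lt Finset.card_le_two (by omega)
    obtain ⟨k, _, hk⟩ := Finset.exists_mem_notMem_of_card_lt_card h
    refine ⟨k, fun e => hk ?_, fun e => hk ?_⟩
    · rw [e]; simp
    · rw [e]; simp
  set e : F := l - 1 with he
  have he0 : e ≠ 0 := sub_ne_zero.2 hl1
  set u : ι → F := Pi.single i₀ (b i₀) with hu
  set ω : ι → F := Pi.single i₁ (β i₁) with hω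
  set u' : ι → F := Pi.single j₀ (b j₀) with hu'
  set ω' : ι → F := Pi.single j₁ (β j₁) with hω'
  -- the pairings
  have pβu : β ⬝ᵥ u = 0 := by rw [hu, dotProduct_single, h2, zero_mul]
  have pωb : ω ⬝ᵥ b = 0 := by rw [hω, single_dotProduct, h1, mul_zero]
  have pωu : ω ⬝ᵥ u = 0 := by
    rw [hω, single_dotProduct, hu, Pi.single_eq_of_ne (Ne.symm hi), mul_zero]
  have pβu' : β ⬝ᵥ u' = 0 := by rw [hu', dotProduct_single, h4, zero_mul]
  have pωu' : ω ⬝ᵥ u' = 0 := by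
    rw [hω, single_dotProduct, hu', Pi.single_eq_of_ne hi1j0, mul_zero]
  have pω'u : ω' ⬝ᵥ u = 0 := by
    rw [hω', single_dotProduct, hu, Pi.single_eq_of_ne (Ne.symm hne), mul_zero]
  have pω'u' : ω' ⬝ᵥ u' = 0 := by
    rw [hω', single_dotProduct, hu', Pi.single_eq_of_ne (Ne.symm hj), mul_zero]
  -- step 1
  set D₁ := SpecialLinearGroup.diag2n hi l hl0 with hD₁
  have hD₁K : D₁ ∈ K := diag2n_mem blk hK hi l hl0
  set x₀ := tv b β d with hx₀
  set x₁ := x₀⁻¹ * (D₁ * x₀ * D₁⁻¹) with hx₁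
  have hx₁K : x₁ ∈ K := K.mul_mem (K.inv_mem hd) (K.mul_mem (K.mul_mem hD₁K hd) (K.inv_mem hD₁K))
  have e1b : dfun i₀ i₁ l * b = b + e • u := dfun_mul_of i₀ i₁ l b h1
  have e1β : β / dfun i₀ i₁ l = β + e • ω := div_dfun_of i₀ i₁ hi l hl0 β h2
  have hx₁1 : x₁.1 = 1 + ∑ s : Fin 3, Matrix.vecMulVec
      ((![(d * e) • b, (d * e) • u, (d * e ^ 2) • u] : Fin 3 → ι → F) s)
      ((![ω, β, ω] : Fin 3 → ι → F) s) := by
    have := fam_step (S := Unit) x₀ D₁ (dfun i₀ i₁ l) (diag2n_coe' hi l hl0)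
      (fun _ => d • b) (fun _ => β)
      (by
        rw [hx₀, tv_coe hβb]
        unfold tmat
        rw [Finset.univ_unique, Finset.sum_singleton, Matrix.smul_vecMulVec])
      (by
        intro _ _
        rw [dotProduct_smul, hβb, smul_zero])
      (by
        intro _ _
        rw [mul_smul_comm, e1b, dotProduct_smul, dotProduct_add, dotProduct_smul, hβb, pβu,
          smul_zero, add_zero, smul_zero])
    rw [this, Finset.univ_unique, Finset.sum_singleton, Fin.sum_univ_three, mul_smul_comm, e1b, e1β]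
    congr 1
    ext r c
    simp only [Matrix.sub_apply, Matrix.add_apply, Matrix.vecMulVec_apply, Pi.smul_apply,
      Pi.add_apply, smul_eq_mul, Matrix.cons_val_zero, Matrix.cons_val_one, Matrix.cons_val_two,
      Matrix.head_cons, Matrix.tail_cons]
    ring
  -- step 2
  set D₂ := SpecialLinearGroup.diag2n hj l hl0 with hD₂
  have hD₂K : D₂ ∈ K := diag2n_mem blk hK hj l hl0
  set x₂ := x₁⁻¹ * (D₂ * x₁ * D₂⁻¹) with hx₂
  have hx₂K : x₂ ∈ K :=
    K.mul_mem (K.inv_mem hx₁K) (K.mul_mem (K.mul_mem hD₂K hx₁K) (K.inv_mem hD₂K))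
  have e2b : dfun j₀ j₁ l * b = b + e • u' := dfun_mul_of j₀ j₁ l b h3
  have e2u : dfun j₀ j₁ l * u = u :=
    dfun_mul_same j₀ j₁ l u (by rw [hu, Pi.single_eq_of_ne (Ne.symm hi0j0)])
      (by rw [hu, Pi.single_eq_of_ne (Ne.symm hne)])
  have e2β : β / dfun j₀ j₁ l = β + e • ω' := div_dfun_of j₀ j₁ hj l hl0 β h4
  have e2ω : ω / dfun j₀ j₁ l = ω :=
    div_dfun_same j₀ j₁ hj l hl0 ω (by rw [hω, Pi.single_eq_of_ne (Ne.symm hi1j0)])
      (by rw [hω, Pi.single_eq_of_ne (Ne.symm hi1j1)])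
  have hx₂1 : x₂.1 = 1 + ∑ s : Fin 2, Matrix.vecMulVec
      ((![(d * e * e) • u', (d * e * e) • u] : Fin 2 → ι → F) s)
      ((![ω, ω'] : Fin 2 → ι → F) s) := by
    have := fam_step x₁ D₂ (dfun j₀ j₁ l) (diag2n_coe' hj l hl0) _ _ hx₁1
      (by
        intro s t
        fin_cases s <;> fin_cases t <;>
          simp [dotProduct_smul, pωb, pωu, hβb, pβu])
      (by
        intro s t
        fin_cases s <;> fin_cases t <;>
          simp [mul_smul_comm, e2b, e2u, dotProduct_smul, dotProduct_add, pωb, pωu, hβb, pβu,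
            pβu', pωu'])
    rw [this, Fin.sum_univ_three, Fin.sum_univ_two]
    simp only [Matrix.cons_val_zero, Matrix.cons_val_one, Matrix.cons_val_two,
      Matrix.head_cons, Matrix.tail_cons, mul_smul_comm, e2b, e2u, e2β, e2ω]
    congr 1
    ext r c
    simp only [Matrix.sub_apply, Matrix.add_apply, Matrix.vecMulVec_apply, Pi.smul_apply,
      Pi.add_apply, smul_eq_mul]
    ring
  -- step 3
  set D₃ := SpecialLinearGroup.diag2n (Ne.symm hk0i0) l hl0 with hD₃
  have hD₃K : D₃ ∈ K := diag2n_mem blk hK (Ne.symm hk0i0) l hl0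
  set x₃ := x₂⁻¹ * (D₃ * x₂ * D₃⁻¹) with hx₃
  have hx₃K : x₃ ∈ K :=
    K.mul_mem (K.inv_mem hx₂K) (K.mul_mem (K.mul_mem hD₃K hx₂K) (K.inv_mem hD₃K))
  have e3u : dfun i₀ k₀ l * u = u + e • u := by
    have := dfun_mul_of i₀ k₀ l u (by rw [hu, Pi.single_eq_of_ne hk0i0])
    rw [this]
    congr 2
    rw [hu, Pi.single_eq_same]
  have e3u' : dfun i₀ k₀ l * u' = u' :=
    dfun_mul_same i₀ k₀ l u' (by rw [hu', Pi.single_eq_of_ne hi0j0])
      (by rw [hu', Pi.single_eq_of_ne hk0j0])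
  have e3ω : ω / dfun i₀ k₀ l = ω :=
    div_dfun_same i₀ k₀ (Ne.symm hk0i0) l hl0 ω (by rw [hω, Pi.single_eq_of_ne hi])
      (by rw [hω, Pi.single_eq_of_ne hk0i1])
  have e3ω' : ω' / dfun i₀ k₀ l = ω' :=
    div_dfun_same i₀ k₀ (Ne.symm hk0i0) l hl0 ω' (by rw [hω', Pi.single_eq_of_ne hne])
      (by rw [hω', Pi.single_eq_of_ne hk0j1])
  have hx₃1 : x₃.1 = 1 + Matrix.single i₀ j₁ (d * e * e * e * (b i₀ * β j₁)) := by
    have := fam_step x₂ D₃ (dfun i₀ k₀ l) (diag2n_coe' (Ne.symm hk0i0) l hl0) _ _ hx₂1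
      (by
        intro s t
        fin_cases s <;> fin_cases t <;>
          simp [dotProduct_smul, pωu, pωu', pω'u, pω'u'])
      (by
        intro s t
        fin_cases s <;> fin_cases t <;>
          simp [mul_smul_comm, e3u, e3u', dotProduct_smul, dotProduct_add, pωu, pωu', pω'u,
            pω'u'])
    rw [this, Fin.sum_univ_two]
    simp only [Matrix.cons_val_zero, Matrix.cons_val_one,
      Matrix.head_cons, mul_smul_comm, e3u, e3u', e3ω, e3ω']
    rw [sub_self, zero_add]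
    have hsm : Matrix.single i₀ j₁ (d * e * e * e * (b i₀ * β j₁)) =
        (d * e * e * e) • Matrix.vecMulVec u ω' := by
      rw [hu, hω', vecMulVec_single_single, Matrix.smul_single, smul_eq_mul]
    rw [hsm]
    congr 1
    ext r c
    simp only [Matrix.sub_apply, Matrix.smul_apply, Matrix.vecMulVec_apply, Pi.smul_apply,
      Pi.add_apply, smul_eq_mul]
    ring
  refine ⟨d * e * e * e * (b i₀ * β j₁), ?_, ?_⟩
  · exact mul_ne_zero (mul_ne_zero (mul_ne_zero (mul_ne_zero hd0 he0) he0) he0)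
      (mul_ne_zero h5 h6)
  · have : SpecialLinearGroup.transvection hne (d * e * e * e * (b i₀ * β j₁)) = x₃ := by
      apply Subtype.ext
      rw [SpecialLinearGroup.transvection_coe, hx₃1]
    rw [this]
    exact hx₃K

end B4

end PkB

end Cfsg.Agent.Lib.Helper6.C2Max
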