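import Cfsg.Agent.Lib.Helper6.C2Max.Defs

/-!
S5634 PK-DUAL : the transpose duality for overgroups of the monomial group.
-/

set_option autoImplicit false

namespace Cfsg.Agent.Lib.Helper6.C2Max

open Matrix

variable {F : Type*} [Field F] [Fintype F] {ι : Type*} [Fintype ι] [DecidableEq ι]

namespace PkDual

theorem isMono_transpose_of (A : Matrix ι ι F) (h : IsMono A) : IsMono Aᵀ := by
  obtain ⟨σ, hσ⟩ := h
  refine ⟨σ⁻¹, fun r c hrc => ?_⟩
  rw [Matrix.transpose_apply] at hrc
  have := hσ c r hrc
  rw [this]
  simp

theorem transpose_mul' (g h : SpecialLinearGroup ι F) :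
    SpecialLinearGroup.transpose (g * h) =
      SpecialLinearGroup.transpose h * SpecialLinearGroup.transpose g := by
  apply Subtype.ext
  show (g.1 * h.1)ᵀ = h.1ᵀ * g.1ᵀ
  exact Matrix.transpose_mul _ _

theorem transpose_one' :
    SpecialLinearGroup.transpose (1 : SpecialLinearGroup ι F) = 1 := by
  apply Subtype.ext
  show (1 : Matrix ι ι F)ᵀ = 1
  exact Matrix.transpose_one

theorem transpose_inv' (g : SpecialLinearGroup ι F) :
    SpecialLinearGroup.transpose g⁻¹ = (SpecialLinearGroup.transpose g)⁻¹ := by
  rw [eq_inv_iff_mul_eq_one, ← transpose_mul', mul_inv_cancel, transpose_one']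

theorem transpose_transpose' (g : SpecialLinearGroup ι F) :
    SpecialLinearGroup.transpose (SpecialLinearGroup.transpose g) = g := by
  apply Subtype.ext
  show (g.1ᵀ)ᵀ = g.1
  exact Matrix.transpose_transpose _

theorem transpose_transvection {i j : ι} (hij : i ≠ j) (c : F) :
    SpecialLinearGroup.transpose (SpecialLinearGroup.transvection hij c) =
      SpecialLinearGroup.transvection (Ne.symm hij) c := by
  apply Subtype.ext
  show (SpecialLinearGroup.transvection hij c).1ᵀ = (SpecialLinearGroup.transvection (Ne.symm hij) c).1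
  rw [SpecialLinearGroup.transvection_coe, SpecialLinearGroup.transvection_coe,
    Matrix.transpose_add, Matrix.transpose_one, Matrix.transpose_single]

/-- the dual subgroup `{g | gᵀ ∈ K}` -/
def dual (K : Subgroup (SpecialLinearGroup ι F)) : Subgroup (SpecialLinearGroup ι F) where
  carrier := {g | SpecialLinearGroup.transpose g ∈ K}
  one_mem' := by
    show SpecialLinearGroup.transpose 1 ∈ K
    rw [transpose_one']
    exact K.one_mem
  mul_mem' := by
    intro a b ha hb
    show SpecialLinearGroup.transpose (a * b) ∈ K
    rw [transpose_mul']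
    exact K.mul_mem hb ha
  inv_mem' := by
    intro a ha
    show SpecialLinearGroup.transpose a⁻¹ ∈ K
    rw [transpose_inv']
    exact K.inv_mem ha

theorem mem_dual (K : Subgroup (SpecialLinearGroup ι F)) (g : SpecialLinearGroup ι F) :
    g ∈ dual K ↔ SpecialLinearGroup.transpose g ∈ K := Iff.rfl

theorem over_dual {K : Subgroup (SpecialLinearGroup ι F)} (hK : Over K) : Over (dual K) := by
  intro g hg
  rw [mem_dual]
  apply hK
  exact isMono_transpose_of g.1 hg

theorem hasTv_of_dual {K : Subgroup (SpecialLinearGroup ι F)} (h : HasTv (dual K)) : HasTv K := by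
  obtain ⟨i, j, hij, c, hc, hm⟩ := h
  rw [mem_dual, transpose_transvection] at hm
  exact ⟨j, i, Ne.symm hij, c, hc, hm⟩

/-- duality principle: a statement about columns of the non-monomial elements of all overgroups
without elementary transvections gives the statement about rows -/
theorem row_of_col
    (hcol : ∀ K' : Subgroup (SpecialLinearGroup ι F), Over K' → ¬ HasTv K' →
      ∀ y : SpecialLinearGroup ι F, y ∈ K' → ¬ IsMono y.1 → ∀ j a b : ι, a ≠ b →
        y.1 a j = 0 → y.1 b j = 0 → False)
    {K : Subgroup (SpecialLinearGroup ι F)} (hK : Over K) (hT : ¬ HasTv K)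
    (y : SpecialLinearGroup ι F) (hy : y ∈ K) (hnm : ¬ IsMono y.1) (j a b : ι) (hab : a ≠ b)
    (ha : y.1 j a = 0) (hb : y.1 j b = 0) : False := by
  refine hcol (dual K) (over_dual hK) (fun h => hT (hasTv_of_dual h))
    (SpecialLinearGroup.transpose y) ?_ ?_ j a b hab ha hb
  · rw [mem_dual, transpose_transpose']
    exact hy
  · intro h
    apply hnm
    have := isMono_transpose_of _ h
    rw [SpecialLinearGroup.coe_transpose, Matrix.transpose_transpose] at this
    exact this

end PkDual

open PkDual

theorem exists_dual (K : Subgroup (SpecialLinearGroup ι F)) :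
    ∃ K' : Subgroup (SpecialLinearGroup ι F),
      (∀ g : SpecialLinearGroup ι F, g ∈ K' ↔ SpecialLinearGroup.transpose g ∈ K) ∧
      (Over K → Over K') ∧ (HasTv K' → HasTv K) :=
  ⟨dual K, mem_dual K, over_dual, hasTv_of_dual⟩

theorem isMono_transpose (A : Matrix ι ι F) : IsMono Aᵀ ↔ IsMono A := by
  constructor
  · intro h
    have := isMono_transpose_of _ h
    rw [Matrix.transpose_transpose] at this
    exact this
  · exact isMono_transpose_of A

end Cfsg.Agent.Lib.Helper6.C2Max
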