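import Cfsg.Agent.Lib.Helper5.VChain2

set_option autoImplicit false

/-! # Stabilizer chains verified from scratch: models with the letters of a straight line
program -/

namespace Cfsg.Agent.Lib.Helper5.VChain

open Cfsg.Agent.Lib.Helper6.TC Cfsg.Agent.Lib.Helper6.PM Cfsg.Agent.Lib.Helper2.PMS
open Cfsg.Agent.Lib.Helper5.Chain Cfsg.Agent.Lib.Helper5.Srch

/-- the check that the letters of words are obtained from given letters -/
def chkGood (nl : ℕ) (ds : List (List ℕ)) (A : List ℕ) (ws : List (List ℕ)) : Bool :=
  ws.all fun w => w.all fun c => (goodLetters nl ds A).contains c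

section slp

variable (M : PModel) (ds : List (List ℕ)) (pm : ℕ → ℕ → ℕ)
  (h : chkSLP M.px M.n M.nl ds pm = true)

theorem elt_mem_letSub_of_good (A : List ℕ) (ws : List (List ℕ))
    (hg : chkGood M.nl ds A ws = true) :
    ∀ w ∈ ws, (slpModel M ds pm h).elt w ∈ letSub (slpModel M ds pm h) A := by
  intro w hw
  unfold chkGood at hg
  simp only [List.all_eq_true, List.contains_iff_mem] at hg
  apply elt_mem_of_letters
  intro c hc
  exact goodLetters_mem M ds pm h (letSub (slpModel M ds pm h) A) A
    (fun c' hc' => elt_letter_mem _ A c' hc') c (hg w hw c hc)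

theorem letSub_le_of_good (A A' : List ℕ) (hg : chkGood M.nl ds A [A'] = true) :
    letSub (slpModel M ds pm h) A' ≤ letSub (slpModel M ds pm h) A := by
  unfold chkGood at hg
  simp only [List.all_eq_true, List.contains_iff_mem, List.mem_singleton, forall_eq] at hg
  unfold letSub
  rw [Subgroup.closure_le]
  rintro g ⟨c, hc, rfl⟩
  exact goodLetters_mem M ds pm h (letSub (slpModel M ds pm h) A) A
    (fun c' hc' => elt_letter_mem _ A c' hc') c (hg c hc)

end slp

/-- the closure check of a level, for the words of a range -/
theorem chkLevelV_of_range (M : PModel) (bs : List ℕ) (Ls : List (List (List ℕ))) (A : List ℕ)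
    (n : ℕ) (hr : chkRange (chkLevelV M bs Ls A) 0 n = true) :
    ∀ i < n, chkLevelV M bs Ls A i = true :=
  chkRange_all _ n hr

end Cfsg.Agent.Lib.Helper5.VChain
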