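import Cfsg.Agent.Lib.Helper1.Co3B8
import Cfsg.Agent.Lib.Helper5.C3M3a
import Cfsg.Agent.Lib.Helper5.VChain3

set_option autoImplicit false
set_option maxRecDepth 100000

/-! # The third Conway group and the normalizer of an elementary abelian subgroup of order 3^5: the model with the letters of the straight line
program, and the orders of two subgroups from verified stabilizer chains -/

namespace Cfsg.Agent.Lib.Helper5.C3M3

open Cfsg.Agent.Lib.Helper6.TC Cfsg.Agent.Lib.Helper6.PM Cfsg.Agent.Lib.Helper2.PMS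
open Cfsg.Agent.Lib.Helper5.Chain Cfsg.Agent.Lib.Helper5.Srch Cfsg.Agent.Lib.Helper5.VChain
open Cfsg.Agent.Lib.Helper1.Co3B
set_option Elab.async false

theorem chk_old_0 : chkRange (chkOld co3M.px 276 pm) 0 4 = true := by decide +kernel
theorem chk_old : chkRange (chkOld co3M.px 276 pm) 0 4 = true :=
  chk_old_0

theorem chk_new_0 : chkRange (chkNew 276 4 ds pm) 0 60 = true := by decide +kernel
theorem chk_new_1 : chkRange (chkNew 276 4 ds pm) 60 154 = true := by decide +kernel
theorem chk_new : chkRange (chkNew 276 4 ds pm) 0 214 = true :=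
  chkRange_append _ 60 0 154 chk_new_0 (chk_new_1)

theorem chk_slp : chkSLP co3M.px co3M.n co3M.nl ds pm = true :=
  chkSLP_of_pieces co3M.px 276 4 ds pm chk_old chk_new

/-- the model with the new letters -/
noncomputable def M : PModel := slpModel co3M ds pm chk_slp

theorem card_G : Nat.card M.G = 495766656000 := card_Co3

theorem M_nl : M.nl = 218 := slpModel_nl co3M ds pm chk_slp

theorem M_n : M.n = 276 := rfl

/-! ## The chain Y -/

theorem chk_chainY : chkChain M.px bsY0 LsY0 = true := by decide +kernel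

theorem chk_letY : chkLet 218 LsY0 = true := by decide +kernel

theorem vokY8 : VOK M LsY8 AsY8 := trivial

theorem chk_goodY7 : chkGood 4 ds AY7 ([] :: LY7) = true := by decide +kernel

theorem chk_levY7_0 : chkRange (chkLevelV M bsY7 LsY7 AY7) 0 3 = true := by decide +kernel
theorem chk_levY7 : chkRange (chkLevelV M bsY7 LsY7 AY7) 0 3 = true :=
  chk_levY7_0

theorem vokY7 : VOK M LsY7 AsY7 := by
  have hg := chk_goodY7
  refine vok_cons M 4 bsY8 LY7 LsY8 AY7 AsY8 (by decide) ?_ ?_ ?_ vokY8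
  · intro w hw
    exact elt_mem_letSub_of_good co3M ds pm chk_slp AY7 ([] :: LY7) hg w
      (List.mem_cons_of_mem _ hw)
  · apply letSub_le_of_good co3M ds pm chk_slp
    unfold chkGood at hg ⊢
    rw [List.all_cons, Bool.and_eq_true] at hg
    rw [List.all_cons, List.all_nil, Bool.and_true]
    exact hg.1
  · exact chkLevelV_of_range M bsY7 LsY7 AY7 3 chk_levY7

theorem chk_goodY6 : chkGood 4 ds AY6 (AY7 :: LY6) = true := by decide +kernel

theorem chk_levY6_0 : chkRange (chkLevelV M bsY6 LsY6 AY6) 0 6 = true := by decide +kernel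
theorem chk_levY6 : chkRange (chkLevelV M bsY6 LsY6 AY6) 0 6 = true :=
  chk_levY6_0

theorem vokY6 : VOK M LsY6 AsY6 := by
  have hg := chk_goodY6
  refine vok_cons M 3 bsY7 LY6 LsY7 AY6 AsY7 (by decide) ?_ ?_ ?_ vokY7
  · intro w hw
    exact elt_mem_letSub_of_good co3M ds pm chk_slp AY6 (AY7 :: LY6) hg w
      (List.mem_cons_of_mem _ hw)
  · apply letSub_le_of_good co3M ds pm chk_slp
    unfold chkGood at hg ⊢
    rw [List.all_cons, Bool.and_eq_true] at hg
    rw [List.all_cons, List.all_nil, Bool.and_true]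
    exact hg.1
  · exact chkLevelV_of_range M bsY6 LsY6 AY6 6 chk_levY6

theorem chk_goodY5 : chkGood 4 ds AY5 (AY6 :: LY5) = true := by decide +kernel

theorem chk_levY5_0 : chkRange (chkLevelV M bsY5 LsY5 AY5) 0 2 = true := by decide +kernel
theorem chk_levY5 : chkRange (chkLevelV M bsY5 LsY5 AY5) 0 2 = true :=
  chk_levY5_0

theorem vokY5 : VOK M LsY5 AsY5 := by
  have hg := chk_goodY5
  refine vok_cons M 103 bsY6 LY5 LsY6 AY5 AsY6 (by decide) ?_ ?_ ?_ vokY6
  · intro w hw
    exact elt_mem_letSub_of_good co3M ds pm chk_slp AY5 (AY6 :: LY5) hg w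
      (List.mem_cons_of_mem _ hw)
  · apply letSub_le_of_good co3M ds pm chk_slp
    unfold chkGood at hg ⊢
    rw [List.all_cons, Bool.and_eq_true] at hg
    rw [List.all_cons, List.all_nil, Bool.and_true]
    exact hg.1
  · exact chkLevelV_of_range M bsY5 LsY5 AY5 2 chk_levY5

theorem chk_goodY4 : chkGood 4 ds AY4 (AY5 :: LY4) = true := by decide +kernel

theorem chk_levY4_0 : chkRange (chkLevelV M bsY4 LsY4 AY4) 0 20 = true := by decide +kernel
theorem chk_levY4_1 : chkRange (chkLevelV M bsY4 LsY4 AY4) 20 7 = true := by decide +kernel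
theorem chk_levY4 : chkRange (chkLevelV M bsY4 LsY4 AY4) 0 27 = true :=
  chkRange_append _ 20 0 7 chk_levY4_0 (chk_levY4_1)

theorem vokY4 : VOK M LsY4 AsY4 := by
  have hg := chk_goodY4
  refine vok_cons M 2 bsY5 LY4 LsY5 AY4 AsY5 (by decide) ?_ ?_ ?_ vokY5
  · intro w hw
    exact elt_mem_letSub_of_good co3M ds pm chk_slp AY4 (AY5 :: LY4) hg w
      (List.mem_cons_of_mem _ hw)
  · apply letSub_le_of_good co3M ds pm chk_slp
    unfold chkGood at hg ⊢
    rw [List.all_cons, Bool.and_eq_true] at hg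
    rw [List.all_cons, List.all_nil, Bool.and_true]
    exact hg.1
  · exact chkLevelV_of_range M bsY4 LsY4 AY4 27 chk_levY4

theorem chk_goodY3 : chkGood 4 ds AY3 (AY4 :: LY3) = true := by decide +kernel

theorem chk_levY3_0 : chkRange (chkLevelV M bsY3 LsY3 AY3) 0 2 = true := by decide +kernel
theorem chk_levY3 : chkRange (chkLevelV M bsY3 LsY3 AY3) 0 2 = true :=
  chk_levY3_0

theorem vokY3 : VOK M LsY3 AsY3 := by
  have hg := chk_goodY3
  refine vok_cons M 201 bsY4 LY3 LsY4 AY3 AsY4 (by decide) ?_ ?_ ?_ vokY4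
  · intro w hw
    exact elt_mem_letSub_of_good co3M ds pm chk_slp AY3 (AY4 :: LY3) hg w
      (List.mem_cons_of_mem _ hw)
  · apply letSub_le_of_good co3M ds pm chk_slp
    unfold chkGood at hg ⊢
    rw [List.all_cons, Bool.and_eq_true] at hg
    rw [List.all_cons, List.all_nil, Bool.and_true]
    exact hg.1
  · exact chkLevelV_of_range M bsY3 LsY3 AY3 2 chk_levY3

theorem chk_goodY2 : chkGood 4 ds AY2 (AY3 :: LY2) = true := by decide +kernel

theorem chk_levY2_0 : chkRange (chkLevelV M bsY2 LsY2 AY2) 0 30 = true := by decide +kernel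
theorem chk_levY2 : chkRange (chkLevelV M bsY2 LsY2 AY2) 0 30 = true :=
  chk_levY2_0

theorem vokY2 : VOK M LsY2 AsY2 := by
  have hg := chk_goodY2
  refine vok_cons M 147 bsY3 LY2 LsY3 AY2 AsY3 (by decide) ?_ ?_ ?_ vokY3
  · intro w hw
    exact elt_mem_letSub_of_good co3M ds pm chk_slp AY2 (AY3 :: LY2) hg w
      (List.mem_cons_of_mem _ hw)
  · apply letSub_le_of_good co3M ds pm chk_slp
    unfold chkGood at hg ⊢
    rw [List.all_cons, Bool.and_eq_true] at hg
    rw [List.all_cons, List.all_nil, Bool.and_true]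
    exact hg.1
  · exact chkLevelV_of_range M bsY2 LsY2 AY2 30 chk_levY2

theorem chk_goodY1 : chkGood 4 ds AY1 (AY2 :: LY1) = true := by decide +kernel

theorem chk_levY1_0 : chkRange (chkLevelV M bsY1 LsY1 AY1) 0 2 = true := by decide +kernel
theorem chk_levY1 : chkRange (chkLevelV M bsY1 LsY1 AY1) 0 2 = true :=
  chk_levY1_0

theorem vokY1 : VOK M LsY1 AsY1 := by
  have hg := chk_goodY1
  refine vok_cons M 1 bsY2 LY1 LsY2 AY1 AsY2 (by decide) ?_ ?_ ?_ vokY2
  · intro w hw
    exact elt_mem_letSub_of_good co3M ds pm chk_slp AY1 (AY2 :: LY1) hg w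
      (List.mem_cons_of_mem _ hw)
  · apply letSub_le_of_good co3M ds pm chk_slp
    unfold chkGood at hg ⊢
    rw [List.all_cons, Bool.and_eq_true] at hg
    rw [List.all_cons, List.all_nil, Bool.and_true]
    exact hg.1
  · exact chkLevelV_of_range M bsY1 LsY1 AY1 2 chk_levY1

theorem chk_goodY0 : chkGood 4 ds AY0 (AY1 :: LY0) = true := by decide +kernel

theorem chk_levY0_0 : chkRange (chkLevelV M bsY0 LsY0 AY0) 0 30 = true := by decide +kernel
theorem chk_levY0_1 : chkRange (chkLevelV M bsY0 LsY0 AY0) 30 3 = true := by decide +kernel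
theorem chk_levY0 : chkRange (chkLevelV M bsY0 LsY0 AY0) 0 33 = true :=
  chkRange_append _ 30 0 3 chk_levY0_0 (chk_levY0_1)

theorem vokY0 : VOK M LsY0 AsY0 := by
  have hg := chk_goodY0
  refine vok_cons M 0 bsY1 LY0 LsY1 AY0 AsY1 (by decide) ?_ ?_ ?_ vokY1
  · intro w hw
    exact elt_mem_letSub_of_good co3M ds pm chk_slp AY0 (AY1 :: LY0) hg w
      (List.mem_cons_of_mem _ hw)
  · apply letSub_le_of_good co3M ds pm chk_slp
    unfold chkGood at hg ⊢
    rw [List.all_cons, Bool.and_eq_true] at hg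
    rw [List.all_cons, List.all_nil, Bool.and_true]
    exact hg.1
  · exact chkLevelV_of_range M bsY0 LsY0 AY0 33 chk_levY0

/-- the order of the subgroup generated by the first letters of the chain -/
theorem card_letSubY : Nat.card ↥(letSub M AY0) = 3849120 := by
  have h : Nat.card ↥(letSub M AY0) = (LsY0.map List.length).prod :=
    card_of_vok M bsY0 LsY0 AsY0 (isChain_of_chk M.px _ _ chk_chainY)
    (by rw [M_n]; decide) (by rw [M_nl]; exact letters_of_chkLet 218 LsY0 chk_letY) vokY0
  rw [h]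
  decide +kernel

/-! ## The chain K -/

theorem chk_chainK : chkChain M.px bsK0 LsK0 = true := by decide +kernel

theorem chk_letK : chkLet 218 LsK0 = true := by decide +kernel

theorem vokK6 : VOK M LsK6 AsK6 := trivial

theorem chk_goodK5 : chkGood 4 ds AK5 ([] :: LK5) = true := by decide +kernel

theorem chk_levK5_0 : chkRange (chkLevelV M bsK5 LsK5 AK5) 0 3 = true := by decide +kernel
theorem chk_levK5 : chkRange (chkLevelV M bsK5 LsK5 AK5) 0 3 = true :=
  chk_levK5_0

theorem vokK5 : VOK M LsK5 AsK5 := by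
  have hg := chk_goodK5
  refine vok_cons M 4 bsK6 LK5 LsK6 AK5 AsK6 (by decide) ?_ ?_ ?_ vokK6
  · intro w hw
    exact elt_mem_letSub_of_good co3M ds pm chk_slp AK5 ([] :: LK5) hg w
      (List.mem_cons_of_mem _ hw)
  · apply letSub_le_of_good co3M ds pm chk_slp
    unfold chkGood at hg ⊢
    rw [List.all_cons, Bool.and_eq_true] at hg
    rw [List.all_cons, List.all_nil, Bool.and_true]
    exact hg.1
  · exact chkLevelV_of_range M bsK5 LsK5 AK5 3 chk_levK5

theorem chk_goodK4 : chkGood 4 ds AK4 (AK5 :: LK4) = true := by decide +kernel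

theorem chk_levK4_0 : chkRange (chkLevelV M bsK4 LsK4 AK4) 0 6 = true := by decide +kernel
theorem chk_levK4 : chkRange (chkLevelV M bsK4 LsK4 AK4) 0 6 = true :=
  chk_levK4_0

theorem vokK4 : VOK M LsK4 AsK4 := by
  have hg := chk_goodK4
  refine vok_cons M 3 bsK5 LK4 LsK5 AK4 AsK5 (by decide) ?_ ?_ ?_ vokK5
  · intro w hw
    exact elt_mem_letSub_of_good co3M ds pm chk_slp AK4 (AK5 :: LK4) hg w
      (List.mem_cons_of_mem _ hw)
  · apply letSub_le_of_good co3M ds pm chk_slp
    unfold chkGood at hg ⊢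
    rw [List.all_cons, Bool.and_eq_true] at hg
    rw [List.all_cons, List.all_nil, Bool.and_true]
    exact hg.1
  · exact chkLevelV_of_range M bsK4 LsK4 AK4 6 chk_levK4

theorem chk_goodK3 : chkGood 4 ds AK3 (AK4 :: LK3) = true := by decide +kernel

theorem chk_levK3_0 : chkRange (chkLevelV M bsK3 LsK3 AK3) 0 2 = true := by decide +kernel
theorem chk_levK3 : chkRange (chkLevelV M bsK3 LsK3 AK3) 0 2 = true :=
  chk_levK3_0

theorem vokK3 : VOK M LsK3 AsK3 := by
  have hg := chk_goodK3
  refine vok_cons M 103 bsK4 LK3 LsK4 AK3 AsK4 (by decide) ?_ ?_ ?_ vokK4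
  · intro w hw
    exact elt_mem_letSub_of_good co3M ds pm chk_slp AK3 (AK4 :: LK3) hg w
      (List.mem_cons_of_mem _ hw)
  · apply letSub_le_of_good co3M ds pm chk_slp
    unfold chkGood at hg ⊢
    rw [List.all_cons, Bool.and_eq_true] at hg
    rw [List.all_cons, List.all_nil, Bool.and_true]
    exact hg.1
  · exact chkLevelV_of_range M bsK3 LsK3 AK3 2 chk_levK3

theorem chk_goodK2 : chkGood 4 ds AK2 (AK3 :: LK2) = true := by decide +kernel

theorem chk_levK2_0 : chkRange (chkLevelV M bsK2 LsK2 AK2) 0 10 = true := by decide +kernel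
theorem chk_levK2 : chkRange (chkLevelV M bsK2 LsK2 AK2) 0 10 = true :=
  chk_levK2_0

theorem vokK2 : VOK M LsK2 AsK2 := by
  have hg := chk_goodK2
  refine vok_cons M 147 bsK3 LK2 LsK3 AK2 AsK3 (by decide) ?_ ?_ ?_ vokK3
  · intro w hw
    exact elt_mem_letSub_of_good co3M ds pm chk_slp AK2 (AK3 :: LK2) hg w
      (List.mem_cons_of_mem _ hw)
  · apply letSub_le_of_good co3M ds pm chk_slp
    unfold chkGood at hg ⊢
    rw [List.all_cons, Bool.and_eq_true] at hg
    rw [List.all_cons, List.all_nil, Bool.and_true]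
    exact hg.1
  · exact chkLevelV_of_range M bsK2 LsK2 AK2 10 chk_levK2

theorem chk_goodK1 : chkGood 4 ds AK1 (AK2 :: LK1) = true := by decide +kernel

theorem chk_levK1_0 : chkRange (chkLevelV M bsK1 LsK1 AK1) 0 2 = true := by decide +kernel
theorem chk_levK1 : chkRange (chkLevelV M bsK1 LsK1 AK1) 0 2 = true :=
  chk_levK1_0

theorem vokK1 : VOK M LsK1 AsK1 := by
  have hg := chk_goodK1
  refine vok_cons M 1 bsK2 LK1 LsK2 AK1 AsK2 (by decide) ?_ ?_ ?_ vokK2
  · intro w hw
    exact elt_mem_letSub_of_good co3M ds pm chk_slp AK1 (AK2 :: LK1) hg w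
      (List.mem_cons_of_mem _ hw)
  · apply letSub_le_of_good co3M ds pm chk_slp
    unfold chkGood at hg ⊢
    rw [List.all_cons, Bool.and_eq_true] at hg
    rw [List.all_cons, List.all_nil, Bool.and_true]
    exact hg.1
  · exact chkLevelV_of_range M bsK1 LsK1 AK1 2 chk_levK1

theorem chk_goodK0 : chkGood 4 ds AK0 (AK1 :: LK0) = true := by decide +kernel

theorem chk_levK0_0 : chkRange (chkLevelV M bsK0 LsK0 AK0) 0 11 = true := by decide +kernel
theorem chk_levK0 : chkRange (chkLevelV M bsK0 LsK0 AK0) 0 11 = true :=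
  chk_levK0_0

theorem vokK0 : VOK M LsK0 AsK0 := by
  have hg := chk_goodK0
  refine vok_cons M 0 bsK1 LK0 LsK1 AK0 AsK1 (by decide) ?_ ?_ ?_ vokK1
  · intro w hw
    exact elt_mem_letSub_of_good co3M ds pm chk_slp AK0 (AK1 :: LK0) hg w
      (List.mem_cons_of_mem _ hw)
  · apply letSub_le_of_good co3M ds pm chk_slp
    unfold chkGood at hg ⊢
    rw [List.all_cons, Bool.and_eq_true] at hg
    rw [List.all_cons, List.all_nil, Bool.and_true]
    exact hg.1
  · exact chkLevelV_of_range M bsK0 LsK0 AK0 11 chk_levK0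

/-- the order of the subgroup generated by the first letters of the chain -/
theorem card_letSubK : Nat.card ↥(letSub M AK0) = 7920 := by
  have h : Nat.card ↥(letSub M AK0) = (LsK0.map List.length).prod :=
    card_of_vok M bsK0 LsK0 AsK0 (isChain_of_chk M.px _ _ chk_chainK)
    (by rw [M_n]; decide) (by rw [M_nl]; exact letters_of_chkLet 218 LsK0 chk_letK) vokK0
  rw [h]
  decide +kernel

end Cfsg.Agent.Lib.Helper5.C3M3
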