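import Cfsg.Agent.Lib.Helper5.C3MD.C3Ap3I
import Cfsg.Agent.Lib.Helper5.C3MD.C3Ap3L
import Cfsg.Agent.Lib.Helper5.C3MD.C3Bp3I
import Cfsg.Agent.Lib.Helper5.C3MD.C3Bp3L
import Cfsg.Agent.Lib.Helper5.C3MD.C3Bp3S
import Cfsg.Agent.Lib.Helper6.Mult.PM4
import Cfsg.Agent.Lib.Helper6.Mult.PM6
import Cfsg.Agent.Lib.Helper1.Stem17
import Cfsg.Agent.Lib.Helper5.StemRes

set_option autoImplicit false
set_option maxRecDepth 100000

/-! # The third Conway group: the stem extensions with a kernel which is a 3-group are trivial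

The normalizer `Y = 3^5:(2 × M11)` of an elementary abelian subgroup of order `3^5` has an index
prime to 3. It acts on 243 points with a stabilizer `2 × M11`, and `M11` acts on 144 sets with a
stabilizer of order 55. -/

namespace Cfsg.Agent.Lib.Helper5.C3MG3

open Cfsg.Agent.Lib.Helper6.TC Cfsg.Agent.Lib.Helper6.PM Cfsg.Agent.Lib.Helper5.C3MD
open Cfsg.Agent.Lib.Helper5.VChain
open Cfsg.Agent.Lib.Helper1 Cfsg.Agent.Lib.Helper1.MatCode Cfsg.Agent.Lib.Helper1.StemSA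

open scoped Pointwise

universe u

/-- the model of the group with the letters of the straight line program -/
noncomputable abbrev M3 : PModel := Cfsg.Agent.Lib.Helper5.C3M3.M

/-- the subgroup `Y = 3^5:(2 × M11)` -/
noncomputable abbrev Y : Subgroup M3.G := Cfsg.Agent.Lib.Helper6.PM.subH M3 wsY3

theorem Y_eq : Y = letSub M3 Cfsg.Agent.Lib.Helper5.C3M3.AY0 :=
  subH_eq_letSub M3 Cfsg.Agent.Lib.Helper5.C3M3.AY0

theorem card_Y : Nat.card ↥Y = 3849120 := by
  rw [Y_eq]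
  exact Cfsg.Agent.Lib.Helper5.C3M3.card_letSubY

theorem card_c3y3 : Nat.card c3y3.G = 3849120 := card_Y

/-! ## The stabilizer of a point in `Y` -/

/-- the stabilizer of the first point, a group `2 × M11` -/
noncomputable abbrev K : Subgroup c3y3.G := MulAction.stabilizer c3y3.G (pt c3y3 PLC3Ap3 0)

theorem card_K : Nat.card K = 15840 := by
  have h := card_stab_pts c3y3 DC3Ap3 chk_structC3Ap3 wsC3Ap3 pmC3Ap3 lwC3Ap3 coreC3Ap3
    (by decide) PLC3Ap3 PLIC3Ap3 chk_ptsC3Ap3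
  rw [card_c3y3] at h
  have e : DC3Ap3.m = 243 := rfl
  rw [e] at h
  change Nat.card K * 243 = 3849120 at h
  omega

/-- the subgroup `M11` -/
noncomputable abbrev K1 : Subgroup c3y3.G := Cfsg.Agent.Lib.Helper6.PM.subH c3y3 wsK3

theorem PL_zero : PLC3Ap3 0 = 2 := by decide +kernel

theorem fixK3 : ∀ i < 2, pmK3 i 2 = 2 := by decide +kernel

theorem K1_le_K : K1 ≤ K := by
  unfold K1 Cfsg.Agent.Lib.Helper6.PM.subH
  rw [Subgroup.closure_le]
  rintro _ ⟨i, hi, rfl⟩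
  rw [SetLike.mem_coe, MulAction.mem_stabilizer_iff]
  apply c3y3.elt_smul
  · apply tabK3.1
    rw [List.getD_eq_getElem _ _ hi]
    exact List.getElem_mem _
  · have h := tabK3.2 i hi 2 (by decide)
    rw [fixK3 i hi] at h
    show wapp c3y3.px (wsK3.getD i []) (pt c3y3 PLC3Ap3 0).val = (pt c3y3 PLC3Ap3 0).val
    have e : (pt c3y3 PLC3Ap3 0).val = 2 := by
      unfold pt
      rw [PL_zero]
      rfl
    rw [e]
    exact h

/-! ## The order of the subgroup `M11` -/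

theorem elt_u : M3.elt (expand wsY3 (wsK3.getD 0 [])) = M3.elt [167] :=
  Cfsg.Agent.Lib.Helper2.PMS.elt_eq_of_chk M3 _ _ (by decide +kernel)

theorem elt_v : M3.elt (expand wsY3 (wsK3.getD 1 [])) = M3.elt [168] :=
  Cfsg.Agent.Lib.Helper2.PMS.elt_eq_of_chk M3 _ _ (by decide +kernel)

/-- the subgroup `M11`, as a subgroup of the subgroup `Y` -/
noncomputable abbrev K1Y : Subgroup ↥Y := K1

theorem K1_map : K1Y.map Y.subtype = letSub M3 Cfsg.Agent.Lib.Helper5.C3M3.AK0 := by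
  show Subgroup.map Y.subtype (Subgroup.closure
    {g : ↥Y | ∃ i < wsK3.length, g = c3y3.elt (wsK3.getD i [])}) = _
  unfold letSub
  rw [MonoidHom.map_closure]
  congr 1
  ext g
  simp only [Set.mem_image, Set.mem_ofPred_eq]
  constructor
  · rintro ⟨_, ⟨i, hi, rfl⟩, rfl⟩
    have hi' : i < 2 := hi
    interval_cases i
    · exact ⟨167, by decide, elt_u⟩
    · exact ⟨168, by decide, elt_v⟩
  · rintro ⟨c, hc, rfl⟩
    have hc' : c = 167 ∨ c = 168 := by simpa [Cfsg.Agent.Lib.Helper5.C3M3.AK0] using hc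
    rcases hc' with rfl | rfl
    · exact ⟨c3y3.elt (wsK3.getD 0 []), ⟨0, by decide, rfl⟩, elt_u⟩
    · exact ⟨c3y3.elt (wsK3.getD 1 []), ⟨1, by decide, rfl⟩, elt_v⟩

theorem card_K1 : Nat.card ↥K1 = 7920 := by
  have h := Subgroup.card_subtype Y K1Y
  rw [K1_map, Cfsg.Agent.Lib.Helper5.C3M3.card_letSubK] at h
  exact h.symm

theorem card_c3k3 : Nat.card c3k3.G = 7920 := card_K1

/-- the quotient of order two of the stabilizer by the subgroup -/
theorem exists_quot : ∃ (Q : Type) (_ : Group Q) (_ : IsCyclic Q) (q : K →* Q),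
    Function.Surjective q ∧ Nat.card Q = 2 ^ 1 ∧ ∀ k : K, q k = 1 ↔ (k : c3y3.G) ∈ K1 :=
  exists_quot_two K K1 K1_le_K (by rw [card_K, card_K1])

/-! ## The subgroup `M11` is perfect -/

/-- the generators of the subgroup -/
noncomputable abbrev gsK : List c3k3.G := gs c3k3 wsC3Bp3

theorem hgenK : Subgroup.closure {g : c3k3.G | ∃ i < DC3Bp3.k, g = gsK.getD i 1} = ⊤ :=
  hgen c3k3 DC3Bp3 wsC3Bp3 pmC3Bp3 lwC3Bp3 coreC3Bp3

theorem chk_uv4 : ((List.range c3k3.n).all fun q =>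
    wappS pmC3Bp3 (List.replicate 4 [0, 1]).flatten q == q) = true := by decide +kernel

theorem K1_perfect : commutator ↥K1 = ⊤ := by
  have hx : (gsK.getD 0 1) ^ 11 = 1 :=
    hpow c3k3 DC3Bp3 wsC3Bp3 pmC3Bp3 lwC3Bp3 coreC3Bp3 0 (by decide)
  have hy : (gsK.getD 1 1) ^ 5 = 1 :=
    hpow c3k3 DC3Bp3 wsC3Bp3 pmC3Bp3 lwC3Bp3 coreC3Bp3 1 (by decide)
  have hxy : (gsK.getD 0 1 * gsK.getD 1 1) ^ 4 = 1 := by
    have h := chk_uv4
    simp only [List.all_eq_true, List.mem_range, beq_iff_eq, wappS_eq] at h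
    have h1 := eq_one_of_pm c3k3 DC3Bp3 wsC3Bp3 pmC3Bp3 lwC3Bp3 coreC3Bp3
      (List.replicate 4 [0, 1]).flatten (by decide) h
    rw [wordProd_flatten_replicate] at h1
    simpa only [wordProd_cons, wordProd_nil, mul_one] using h1
  show commutator c3k3.G = ⊤
  apply perfect_of_coprime (gsK.getD 0 1) (gsK.getD 1 1) ?_ 11 5 4 hx hy hxy
    (by norm_num) (by norm_num) (by norm_num)
  rw [← hgenK]
  congr 1
  ext g
  simp only [Set.mem_insert_iff, Set.mem_singleton_iff, Set.mem_ofPred_eq]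
  constructor
  · rintro (rfl | rfl)
    · exact ⟨0, by decide, rfl⟩
    · exact ⟨1, by decide, rfl⟩
  · rintro ⟨i, hi, rfl⟩
    have hi' : i < 2 := hi
    interval_cases i
    · exact Or.inl rfl
    · exact Or.inr rfl

/-! ## The stem extensions of the subgroup `M11` -/

/-- the stabilizer of the first set in the subgroup `M11`, a group of order 55 -/
noncomputable abbrev KS : Subgroup c3k3.G := MulAction.stabilizer c3k3.G (ptS c3k3 masksC3Bp3 0)

theorem card_KS : Nat.card KS = 55 := by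
  have h := card_stab_sets c3k3 DC3Bp3 chk_structC3Bp3 wsC3Bp3 pmC3Bp3 lwC3Bp3 coreC3Bp3
    (by decide) masksC3Bp3 chk_setsC3Bp3 chk_distinctC3Bp3
  rw [card_c3k3] at h
  have e : DC3Bp3.m = 144 := rfl
  rw [e] at h
  change Nat.card KS * 144 = 7920 at h
  omega

theorem hord_of_chk (D : SAData) (p : ℕ)
    (h : ((List.range D.k).all fun i => Nat.gcd (D.ords.getD i 0) p == 1) = true) :
    ∀ i < D.k, Nat.Coprime (D.ords.getD i 0) p := by
  simp only [List.all_eq_true, List.mem_range, beq_iff_eq] at h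
  exact h

theorem esAll : CC3Bp3.es.sum = 0 ∧ CC3Ap3.es.sum = 0 := by decide +kernel

/-- a stem extension of the subgroup `M11` whose kernel is a 3-group is trivial -/
theorem K1_bound (Γ' : Type u) [Group Γ'] [Finite Γ'] (σ' : Γ' →* ↥K1)
    (hσ' : Cfsg.IsStemExtension σ') (hk : IsPGroup 3 σ'.ker) : Nat.card σ'.ker ≤ 1 := by
  haveI : Fact (Nat.Prime 3) := ⟨Nat.prime_three⟩
  have h : Nat.card σ'.ker * 3 ^ 0 ≤ 3 ^ CC3Bp3.es.sum := bound_sets_powP.{u} c3k3 3 DC3Bp3 CC3Bp3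
    rfl chk_certC3Bp3 chk_structC3Bp3 wsC3Bp3 pmC3Bp3 lwC3Bp3 coreC3Bp3 (by decide)
    (hord_of_chk _ _ (by decide +kernel)) masksC3Bp3 chk_setsC3Bp3 chk_distinctC3Bp3
    0 55 (by norm_num) (by norm_num) KS rfl (card_KS.trans (by norm_num)) 1
    (by rw [orderOf_one, pow_zero]) ⊤ (by rw [Subgroup.card_top, card_KS])
    (fun x y => QuotientGroup.subsingleton_quotient_top.elim _ _) Γ' σ' hσ' hk
  rw [esAll.1] at h
  omega

/-! ## The stem extensions of the subgroup `Y` -/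

/-- a stem extension of the subgroup `Y` whose kernel is a 3-group is trivial -/
theorem Y_bound (Γ' : Type u) [Group Γ'] [Finite Γ'] (σ' : Γ' →* ↥Y)
    (hσ' : Cfsg.IsStemExtension σ') (hk : IsPGroup 3 σ'.ker) : Nat.card σ'.ker ≤ 1 := by
  haveI : Fact (Nat.Prime 3) := ⟨Nat.prime_three⟩
  obtain ⟨Q, iQ, iC, q, hq, hQ, hker⟩ := exists_quot
  have h : Nat.card σ'.ker ≤ 3 ^ CC3Ap3.es.sum * 1 := bound_pts_cyc.{u} c3y3 3 DC3Ap3 CC3Ap3 rfl
    chk_certC3Ap3 chk_structC3Ap3 wsC3Ap3 pmC3Ap3 lwC3Ap3 coreC3Ap3 (by decide)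
    (hord_of_chk _ _ (by decide +kernel)) PLC3Ap3 PLIC3Ap3 chk_ptsC3Ap3
    K rfl q K1 K1_le_K hker K1_perfect 1 K1_bound Γ' σ' hσ' hk
  rw [esAll.2] at h
  omega

/-! ## The stem extensions of the group -/

theorem index_Y : ¬ 3 ∣ Y.index := by
  have h := Subgroup.card_mul_index Y
  rw [card_Y, Cfsg.Agent.Lib.Helper5.C3M3.card_G] at h
  have e : Y.index = 128800 := by omega
  rw [e]
  norm_num

/-- a stem extension of the third Conway group whose kernel is a 3-group is trivial -/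
theorem bound3 (Γ : Type u) [Group Γ] [Finite Γ] (σ : Γ →* M3.G)
    (hσ : Cfsg.IsStemExtension σ) (hk : IsPGroup 3 σ.ker) : Nat.card σ.ker ≤ 1 := by
  haveI : Fact (Nat.Prime 3) := ⟨Nat.prime_three⟩
  exact Cfsg.Agent.Lib.Helper5.StemRes.card_ker_le_of_index_coprime σ hσ 3 hk Y index_Y 1 Y_bound

end Cfsg.Agent.Lib.Helper5.C3MG3
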