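import Cfsg.Agent.Lib.Helper1.HSM5
import Cfsg.Agent.Lib.Helper1.Co3B8
import Cfsg.Agent.Lib.Helper1.Stem14
import Cfsg.Agent.Lib.Helper5.StemRes

set_option autoImplicit false

/-! # The third Conway group: the stem extensions with a kernel which is a 5-group are trivial

The Higman–Sims group is a subgroup of index prime to 5, and its stem extensions with a kernel
which is a 5-group are trivial. -/

namespace Cfsg.Agent.Lib.Helper5.C3MG5

open Cfsg Cfsg.Agent.Lib.Helper1

universe u

/-- the Higman–Sims group as a subgroup of the third Conway group -/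
noncomputable abbrev H : Subgroup ↥Spor.Co3 := Spor.HS.subgroupOf Spor.Co3

theorem HS_le : Spor.HS ≤ Spor.Co3 := inf_le_left

/-- the subgroup is the Higman–Sims group of the definitions -/
noncomputable def equivH : ↥H ≃* ↥Spor.HS := Subgroup.subgroupOfEquivOfLe HS_le

/-- the Higman–Sims group of the definitions is the group of the even automorphisms of the
standard graph -/
noncomputable def equivGh : ↥Spor.HS ≃* HSM.Gh := HSI.nonempty_HS_equiv.1.some

theorem card_H : Nat.card ↥H = 44352000 := by
  rw [Nat.card_congr (equivH.trans equivGh).toEquiv]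
  exact HSM.card_Gh

theorem index_H : ¬ 5 ∣ H.index := by
  have h := Subgroup.card_mul_index H
  rw [card_H, Co3B.card_Co3] at h
  have e : H.index = 11178 := by omega
  rw [e]
  norm_num

/-- a stem extension of the subgroup whose kernel is a 5-group is trivial -/
theorem H_bound (Γ' : Type u) [Group Γ'] [Finite Γ'] (σ' : Γ' →* ↥H)
    (hσ' : Cfsg.IsStemExtension σ') (hk : IsPGroup 5 σ'.ker) : Nat.card σ'.ker ≤ 1 := by
  have h1 := Stem.isStem_comp_equiv (MulEquiv.refl Γ') (equivH.trans equivGh) σ' hσ'
  have e2 := Stem.kerEquiv (MulEquiv.refl Γ') (equivH.trans equivGh) σ'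
  have hk' := hk.of_equiv e2.symm
  have h2 := HSM.card_ker_five Γ' _ h1 hk'
  rw [Nat.card_congr e2.toEquiv] at h2
  omega

/-- a stem extension of the third Conway group whose kernel is a 5-group is trivial -/
theorem bound5 (Γ : Type u) [Group Γ] [Finite Γ] (σ : Γ →* ↥Spor.Co3)
    (hσ : Cfsg.IsStemExtension σ) (hk : IsPGroup 5 σ.ker) : Nat.card σ.ker ≤ 1 := by
  haveI : Fact (Nat.Prime 5) := ⟨by norm_num⟩
  exact Cfsg.Agent.Lib.Helper5.StemRes.card_ker_le_of_index_coprime σ hσ 5 hk H index_H 1 H_bound

end Cfsg.Agent.Lib.Helper5.C3MG5
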