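import Cfsg.Agent.Lib.Helper5.C3MG2
import Cfsg.Agent.Lib.Helper5.C3MG3
import Cfsg.Agent.Lib.Helper5.C3MG5
import Cfsg.Agent.Lib.Helper1.Stem14
import Cfsg.Agent.Lib.Helper1.Stem17
import Cfsg.Agent.Lib.Helper1.Stem21

set_option autoImplicit false

/-! # The Schur multiplier of the third Conway group is trivial -/

namespace Cfsg.Agent.Lib.Helper5.C3MG

open Cfsg Cfsg.Agent.Lib.Helper1

universe u

theorem not_sq_dvd (p : ℕ) (hp : p.Prime) (h2 : p ≠ 2) (h3 : p ≠ 3) (h5 : p ≠ 5) :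
    ¬ p * p ∣ 495766656000 := by
  intro h
  have hd : p ∣ 495766656000 := dvd_trans (dvd_mul_right p p) h
  have e : (495766656000 : ℕ) = 2 ^ 10 * 3 ^ 7 * 5 ^ 3 * 7 * 11 * 23 := by norm_num
  rw [e] at hd
  rcases (Nat.Prime.dvd_mul hp).mp hd with hd | hd
  · rcases (Nat.Prime.dvd_mul hp).mp hd with hd | hd
    · rcases (Nat.Prime.dvd_mul hp).mp hd with hd | hd
      · rcases (Nat.Prime.dvd_mul hp).mp hd with hd | hd
        · rcases (Nat.Prime.dvd_mul hp).mp hd with hd | hd
          · exact h2 ((Nat.prime_dvd_prime_iff_eq hp Nat.prime_two).mp (hp.dvd_of_dvd_pow hd))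
          · exact h3 ((Nat.prime_dvd_prime_iff_eq hp Nat.prime_three).mp (hp.dvd_of_dvd_pow hd))
        · exact h5 ((Nat.prime_dvd_prime_iff_eq hp Nat.prime_five).mp (hp.dvd_of_dvd_pow hd))
      · have := (Nat.prime_dvd_prime_iff_eq hp (by norm_num : Nat.Prime 7)).mp hd
        subst this
        norm_num at h
    · have := (Nat.prime_dvd_prime_iff_eq hp (by norm_num : Nat.Prime 11)).mp hd
      subst this
      norm_num at h
  · have := (Nat.prime_dvd_prime_iff_eq hp (by norm_num : Nat.Prime 23)).mp hd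
    subst this
    norm_num at h

/-- the kernel of a stem extension of the group is trivial -/
theorem hub (Γ : Type u) [Group Γ] [Finite Γ] (σ : Γ →* ↥Spor.Co3)
    (hσ : Cfsg.IsStemExtension σ) : IsCyclic σ.ker ∧ Nat.card σ.ker ∣ 1 := by
  haveI : Finite ↥Spor.Co3 := Nat.finite_of_card_ne_zero (by rw [Co3B.card_Co3]; norm_num)
  have hd : Nat.card σ.ker ∣ 1 := by
    apply Stem.card_dvd_of_primary σ 1 (by norm_num) ?_ hσ
    intro p hp Γ' _ _ σ' hσ' hk
    have hpos : 0 < Nat.card σ'.ker := Nat.card_pos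
    by_cases h2 : p = 2
    · subst h2
      have h1 : Nat.card σ'.ker ≤ 1 := Cfsg.Agent.Lib.Helper5.C3MG2.bound2 Γ' σ' hσ' hk
      have : Nat.card σ'.ker = 1 := by omega
      rw [this]
    · by_cases h3 : p = 3
      · subst h3
        have h1 : Nat.card σ'.ker ≤ 1 := Cfsg.Agent.Lib.Helper5.C3MG3.bound3 Γ' σ' hσ' hk
        have : Nat.card σ'.ker = 1 := by omega
        rw [this]
      · by_cases h5 : p = 5
        · subst h5
          have h1 : Nat.card σ'.ker ≤ 1 := Cfsg.Agent.Lib.Helper5.C3MG5.bound5 Γ' σ' hσ' hk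
          have : Nat.card σ'.ker = 1 := by omega
          rw [this]
        · have h1 : Nat.card σ'.ker = 1 := by
            apply Stem.card_ker_eq_one_of_not_sq_dvd σ' hσ' p hk
            rw [Co3B.card_Co3]
            exact not_sq_dvd p hp.out h2 h3 h5
          rw [h1]
  refine ⟨?_, hd⟩
  haveI : Subsingleton σ.ker := (Nat.card_eq_one_iff_unique.mp (Nat.dvd_one.mp hd)).1
  exact isCyclic_of_subsingleton

/-- the trivial stem extension -/
theorem exists_cover : ∃ (Γ₀ : Type) (_ : Group Γ₀) (_ : Finite Γ₀) (σ : Γ₀ →* ↥Spor.Co3),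
    Cfsg.IsStemExtension σ ∧ IsCyclic σ.ker ∧ Nat.card σ.ker = 1 := by
  have e : (MonoidHom.id ↥Spor.Co3).ker = ⊥ := by
    ext x
    simp
  haveI : Finite ↥Spor.Co3 := Nat.finite_of_card_ne_zero (by rw [Co3B.card_Co3]; norm_num)
  refine ⟨↥Spor.Co3, inferInstance, inferInstance, MonoidHom.id _,
    ⟨Function.surjective_id, ?_, ?_⟩, ?_, ?_⟩
  · rw [e]
    exact bot_le
  · rw [e]
    exact bot_le
  · rw [e]
    infer_instance
  · rw [e]
    exact Subgroup.card_bot

/-- the Schur multiplier of the third Conway group is trivial -/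
theorem multiplier : Cfsg.HasCyclicSchurMultiplier ↥Cfsg.Spor.Co3 1 :=
  Stem.hasCyclicSchurMultiplier_of_equiv (MulEquiv.refl _) 1 exists_cover hub

end Cfsg.Agent.Lib.Helper5.C3MG
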