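import Cfsg.Agent.Lib.Helper2.PMStab2

set_option autoImplicit false

/-! # Stabilizer chains in permutation models

A chain for a permutation model is a list of base points together with, for every base point, a
list of words (the level) fixing the earlier base points and moving the base point to distinct
points. If the product of the lengths of the levels is the order of the group, every element is a
unique product of words, one from each level; this gives a procedure finding the element with given
images of the base points. -/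

namespace Cfsg.Agent.Lib.Helper5.Chain

open Cfsg.Agent.Lib.Helper6.TC Cfsg.Agent.Lib.Helper6.PM Cfsg.Agent.Lib.Helper2.PMS

/-- all concatenations of words, one from each level, the deepest level first -/
def prods : List (List (List ℕ)) → List (List ℕ)
  | [] => [[]]
  | L :: Ls => (prods Ls).flatMap fun v => L.map fun w => v ++ w

theorem mem_prods_cons (L : List (List ℕ)) (Ls : List (List (List ℕ))) (u : List ℕ) :
    u ∈ prods (L :: Ls) ↔ ∃ v ∈ prods Ls, ∃ w ∈ L, u = v ++ w := by
  show u ∈ (prods Ls).flatMap (fun v => L.map fun w => v ++ w) ↔ _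
  rw [List.mem_flatMap]
  constructor
  · rintro ⟨v, hv, hu⟩
    rw [List.mem_map] at hu
    obtain ⟨w, hw, rfl⟩ := hu
    exact ⟨v, hv, w, hw, rfl⟩
  · rintro ⟨v, hv, w, hw, rfl⟩
    exact ⟨v, hv, List.mem_map.mpr ⟨w, hw, rfl⟩⟩

theorem length_prods (Ls : List (List (List ℕ))) :
    (prods Ls).length = (Ls.map List.length).prod := by
  induction Ls with
  | nil => rfl
  | cons L Ls ih =>
    show ((prods Ls).flatMap fun v => L.map fun w => v ++ w).length = _
    rw [length_flatMap_map, ih, List.map_cons, List.prod_cons, mul_comm]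

/-- the conditions on a chain -/
def IsChain (px : ℕ → ℕ → ℕ) : List ℕ → List (List (List ℕ)) → Prop
  | [], [] => True
  | b :: bs, L :: Ls => (L.map fun w => wapp px w b).Nodup ∧
      (∀ Lj ∈ Ls, ∀ w ∈ Lj, wapp px w b = b) ∧ IsChain px bs Ls
  | [], _ :: _ => False
  | _ :: _, [] => False

/-- the check of the conditions on a chain -/
noncomputable def chkChain (px : ℕ → ℕ → ℕ) : List ℕ → List (List (List ℕ)) → Bool
  | [], [] => true
  | b :: bs, L :: Ls => decide ((L.map fun w => wappS px w b).Nodup) &&
      (Ls.all fun Lj => Lj.all fun w => wappS px w b == b) && chkChain px bs Ls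
  | [], _ :: _ => false
  | _ :: _, [] => false

theorem isChain_of_chk (px : ℕ → ℕ → ℕ) : ∀ (bs : List ℕ) (Ls : List (List (List ℕ))),
    chkChain px bs Ls = true → IsChain px bs Ls
  | [], [], _ => trivial
  | b :: bs, L :: Ls, h => by
    unfold chkChain at h
    simp only [Bool.and_eq_true, decide_eq_true_eq, List.all_eq_true, beq_iff_eq] at h
    obtain ⟨⟨h1, h2⟩, h3⟩ := h
    refine ⟨?_, ?_, isChain_of_chk px bs Ls h3⟩
    · have e : (L.map fun w => wappS px w b) = L.map fun w => wapp px w b :=
        List.map_congr_left fun w _ => wappS_eq px w b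
      rwa [e] at h1
    · intro Lj hLj w hw
      rw [← wappS_eq]
      exact h2 Lj hLj w hw
  | [], _ :: _, h => by simp [chkChain] at h
  | _ :: _, [], h => by simp [chkChain] at h

/-- a point fixed by all words of all levels is fixed by the concatenations -/
theorem wapp_prods_fix (px : ℕ → ℕ → ℕ) (b : ℕ) : ∀ (Ls : List (List (List ℕ))),
    (∀ Lj ∈ Ls, ∀ w ∈ Lj, wapp px w b = b) → ∀ v ∈ prods Ls, wapp px v b = b
  | [], _, v, hv => by
    have : v = [] := by simpa [prods] using hv
    rw [this]; rfl
  | L :: Ls, h, u, hu => by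
    rw [mem_prods_cons] at hu
    obtain ⟨v, hv, w, hw, rfl⟩ := hu
    rw [wapp_append, wapp_prods_fix px b Ls (fun Lj hLj => h Lj (List.mem_cons_of_mem _ hLj)) v hv]
    exact h L List.mem_cons_self w hw

theorem letters_prods (nl : ℕ) : ∀ (Ls : List (List (List ℕ))),
    (∀ Lj ∈ Ls, ∀ w ∈ Lj, ∀ c ∈ w, c < nl) → ∀ v ∈ prods Ls, ∀ c ∈ v, c < nl
  | [], _, v, hv, c, hc => by
    have : v = [] := by simpa [prods] using hv
    rw [this] at hc; simp at hc
  | L :: Ls, h, u, hu, c, hc => by
    rw [mem_prods_cons] at hu
    obtain ⟨v, hv, w, hw, rfl⟩ := hu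
    rcases List.mem_append.mp hc with h1 | h1
    · exact letters_prods nl Ls (fun Lj hLj => h Lj (List.mem_cons_of_mem _ hLj)) v hv c h1
    · exact h L List.mem_cons_self w hw c h1

variable (M : PModel)

/-- words of a chain acting in the same way on the base points are equal -/
theorem prods_inj : ∀ (bs : List ℕ) (Ls : List (List (List ℕ))), IsChain M.px bs Ls →
    (∀ b ∈ bs, b < M.n) → (∀ Lj ∈ Ls, ∀ w ∈ Lj, ∀ c ∈ w, c < M.nl) →
    ∀ u ∈ prods Ls, ∀ u' ∈ prods Ls, (∀ b ∈ bs, wapp M.px u b = wapp M.px u' b) → u = u'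
  | [], [], _, _, _, u, hu, u', hu', _ => by
    have h1 : u = [] := by simpa [prods] using hu
    have h2 : u' = [] := by simpa [prods] using hu'
    rw [h1, h2]
  | b :: bs, L :: Ls, hc, hb, hl, u, hu, u', hu', h => by
    obtain ⟨hc1, hc2, hc3⟩ := hc
    rw [mem_prods_cons] at hu hu'
    obtain ⟨v, hv, w, hw, rfl⟩ := hu
    obtain ⟨v', hv', w', hw', rfl⟩ := hu'
    have hlw : ∀ c ∈ w, c < M.nl := hl L List.mem_cons_self w hw
    have hlLs : ∀ Lj ∈ Ls, ∀ w ∈ Lj, ∀ c ∈ w, c < M.nl :=
      fun Lj hLj => hl Lj (List.mem_cons_of_mem _ hLj)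
    have hlv := letters_prods M.nl Ls hlLs v hv
    have hlv' := letters_prods M.nl Ls hlLs v' hv'
    have e1 := h b List.mem_cons_self
    rw [wapp_append, wapp_append, wapp_prods_fix M.px b Ls hc2 v hv,
      wapp_prods_fix M.px b Ls hc2 v' hv'] at e1
    have hww : w = w' := List.inj_on_of_nodup_map hc1 hw hw' e1
    subst hww
    have hvv : v = v' := by
      apply prods_inj bs Ls hc3 (fun b' hb' => hb b' (List.mem_cons_of_mem _ hb')) hlLs v hv v' hv'
      intro b' hb'
      have e2 := h b' (List.mem_cons_of_mem _ hb')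
      rw [wapp_append, wapp_append] at e2
      have hbn := hb b' (List.mem_cons_of_mem _ hb')
      exact wapp_injOn M w hlw _ _ (M.wapp_lt v hlv b' hbn) (M.wapp_lt v' hlv' b' hbn) e2
    rw [hvv]

theorem prods_nodup : ∀ (bs : List ℕ) (Ls : List (List (List ℕ))), IsChain M.px bs Ls →
    (prods Ls).Nodup
  | [], [], _ => by simp [prods]
  | b :: bs, L :: Ls, hc => by
    obtain ⟨hc1, hc2, hc3⟩ := hc
    have ih := prods_nodup bs Ls hc3
    show ((prods Ls).flatMap fun v => L.map fun w => v ++ w).Nodup
    rw [List.nodup_flatMap]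
    constructor
    · intro v _
      exact (List.Nodup.of_map _ hc1).map (fun w w' e => List.append_cancel_left e)
    · refine (List.nodup_iff_pairwise_ne.mp ih).imp_of_mem ?_
      intro v v' hv hv' hne
      show List.Disjoint _ _
      intro u hu hu'
      rw [List.mem_map] at hu hu'
      obtain ⟨w, hw, rfl⟩ := hu
      obtain ⟨w', hw', e⟩ := hu'
      have e1 : wapp M.px (v' ++ w') b = wapp M.px (v ++ w) b := by rw [e]
      rw [wapp_append, wapp_append, wapp_prods_fix M.px b Ls hc2 v hv,
        wapp_prods_fix M.px b Ls hc2 v' hv'] at e1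
      have hww : w' = w := List.inj_on_of_nodup_map hc1 hw' hw e1
      rw [hww] at e
      exact hne (List.append_cancel_right e).symm

/-- the data of a chain -/
structure ChainData where
  /-- the base points -/
  base : List ℕ
  /-- the levels -/
  levels : List (List (List ℕ))

variable (D : ChainData)

/-- the hypotheses on a chain -/
structure ChainFacts : Prop where
  hbase : ∀ b ∈ D.base, b < M.n
  hlet : ∀ Lj ∈ D.levels, ∀ w ∈ Lj, ∀ c ∈ w, c < M.nl
  hchain : IsChain M.px D.base D.levels
  hcard : Nat.card M.G = (D.levels.map List.length).prod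

/-- the check of the letters -/
def chkLet (nl : ℕ) (Ls : List (List (List ℕ))) : Bool :=
  Ls.all fun Lj => Lj.all fun w => w.all fun c => decide (c < nl)

theorem letters_of_chkLet (nl : ℕ) (Ls : List (List (List ℕ))) (h : chkLet nl Ls = true) :
    ∀ Lj ∈ Ls, ∀ w ∈ Lj, ∀ c ∈ w, c < nl := by
  unfold chkLet at h
  simp only [List.all_eq_true, decide_eq_true_eq] at h
  exact h

/-- the right action of the elements of the group on the numbers of the points -/
noncomputable def ract (g : M.G) (q : ℕ) : ℕ := ((M.phi g)⁻¹ (pnt M q)).val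

theorem ract_lt (g : M.G) (q : ℕ) : ract M g q < M.n := Fin.isLt _

theorem ract_elt (w : List ℕ) (hw : ∀ c ∈ w, c < M.nl) (q : ℕ) (hq : q < M.n) :
    ract M (M.elt w) q = wapp M.px w q := by
  unfold ract
  rw [M.phi_inv_val w hw, pnt_val M q hq]

theorem ract_one (q : ℕ) (hq : q < M.n) : ract M 1 q = q := by
  unfold ract
  rw [map_one, inv_one, Equiv.Perm.one_apply, pnt_val M q hq]

theorem ract_mul (g g' : M.G) (q : ℕ) : ract M (g * g') q = ract M g' (ract M g q) := by
  unfold ract
  rw [map_mul, mul_inv_rev, Equiv.Perm.mul_apply, pnt_eq]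

theorem ract_inj (g : M.G) (q q' : ℕ) (hq : q < M.n) (hq' : q' < M.n)
    (h : ract M g q = ract M g q') : q = q' := by
  unfold ract at h
  have h1 := Fin.ext h
  exact pnt_injOn M q q' hq hq' ((M.phi g)⁻¹.injective h1)

theorem ract_inv_ract (g : M.G) (q : ℕ) (hq : q < M.n) : ract M g⁻¹ (ract M g q) = q := by
  rw [← ract_mul, mul_inv_cancel, ract_one M q hq]

theorem ract_ract_inv (g : M.G) (q : ℕ) (hq : q < M.n) : ract M g (ract M g⁻¹ q) = q := by
  rw [← ract_mul, inv_mul_cancel, ract_one M q hq]

theorem ract_pow_fix (g : M.G) (q : ℕ) (h : ract M g q = q) (k : ℕ) : ract M (g ^ k) q = q := by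
  induction k with
  | zero =>
    have hq : q < M.n := by rw [← h]; exact ract_lt M g q
    rw [pow_zero, ract_one M q hq]
  | succ k ih => rw [pow_succ, ract_mul, ih, h]

/-- elements acting in the same way on all points are equal -/
theorem eq_of_ract_all (g g' : M.G) (h : ∀ q < M.n, ract M g q = ract M g' q) : g = g' := by
  apply M.phi_injective
  apply inv_injective
  ext p
  have := h p.val p.isLt
  unfold ract at this
  rwa [pnt_eq] at this

variable {M D}

/-- every element is the element of a concatenation of words of the levels -/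
theorem ChainFacts.factor (F : ChainFacts M D) (g : M.G) : ∃ u ∈ prods D.levels, g = M.elt u := by
  classical
  have hl := letters_prods M.nl D.levels F.hlet
  have hnd : ((prods D.levels).map M.elt).Nodup := by
    rw [List.nodup_map_iff_inj_on (prods_nodup M D.base D.levels F.hchain)]
    intro u hu u' hu' he
    apply prods_inj M D.base D.levels F.hchain F.hbase F.hlet u hu u' hu'
    intro b hb
    rw [← ract_elt M u (hl u hu) b (F.hbase b hb), ← ract_elt M u' (hl u' hu') b (F.hbase b hb), he]
  have hcard : Nat.card (⊤ : Subgroup M.G) ≤ ((prods D.levels).map M.elt).length := by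
    rw [Subgroup.card_top, List.length_map, length_prods, F.hcard]
  have := mem_of_card_le (⊤ : Subgroup M.G) _ hnd (fun _ _ => Subgroup.mem_top _) hcard g
    (Subgroup.mem_top g)
  rw [List.mem_map] at this
  obtain ⟨u, hu, e⟩ := this
  exact ⟨u, hu, e.symm⟩

/-- elements acting in the same way on the base points are equal -/
theorem ChainFacts.eq_of_ract_base (F : ChainFacts M D) (g g' : M.G)
    (h : ∀ b ∈ D.base, ract M g b = ract M g' b) : g = g' := by
  have hl := letters_prods M.nl D.levels F.hlet
  obtain ⟨u, hu, rfl⟩ := F.factor g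
  obtain ⟨u', hu', rfl⟩ := F.factor g'
  congr 1
  apply prods_inj M D.base D.levels F.hchain F.hbase F.hlet u hu u' hu'
  intro b hb
  rw [← ract_elt M u (hl u hu) b (F.hbase b hb), ← ract_elt M u' (hl u' hu') b (F.hbase b hb)]
  exact h b hb

theorem ChainFacts.eq_one_of_fix_base (F : ChainFacts M D) (g : M.G)
    (h : ∀ b ∈ D.base, ract M g b = b) : g = 1 := by
  apply F.eq_of_ract_base
  intro b hb
  rw [h b hb, ract_one M b (F.hbase b hb)]

/-- the search for the word of the element with given images of the base points -/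
noncomputable def siftAux (px : ℕ → ℕ → ℕ) :
    List (List (List ℕ)) → List ℕ → List ℕ → List ℕ → Option (List ℕ)
  | [], _, _, acc => some acc
  | L :: Ls, bs, cs, acc =>
    match L.find? (fun w => wappS px (w ++ acc) (bs.headD 0) == cs.headD 0) with
    | none => none
    | some w => siftAux px Ls bs.tail cs.tail (w ++ acc)

theorem siftAux_spec (M : PModel) : ∀ (Ls : List (List (List ℕ))) (bs : List ℕ) (acc : List ℕ),
    IsChain M.px bs Ls → (∀ b ∈ bs, b < M.n) → (∀ Lj ∈ Ls, ∀ w ∈ Lj, ∀ c ∈ w, c < M.nl) →
    (∀ c ∈ acc, c < M.nl) → ∀ u ∈ prods Ls,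
    siftAux M.px Ls bs (bs.map fun b => wapp M.px (u ++ acc) b) acc = some (u ++ acc)
  | [], [], acc, _, _, _, _, u, hu => by
    have h1 : u = [] := by simpa [prods] using hu
    rw [h1]
    rfl
  | [], _ :: _, _, hc, _, _, _, _, _ => by exact absurd hc (by simp [IsChain])
  | _ :: _, [], _, hc, _, _, _, _, _ => by exact absurd hc (by simp [IsChain])
  | L :: Ls, b :: bs, acc, hc, hb, hl, hacc, u, hu => by
    obtain ⟨hc1, hc2, hc3⟩ := hc
    rw [mem_prods_cons] at hu
    obtain ⟨v, hv, w, hw, rfl⟩ := hu
    have hlw : ∀ c ∈ w, c < M.nl := hl L List.mem_cons_self w hw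
    have hlLs : ∀ Lj ∈ Ls, ∀ w ∈ Lj, ∀ c ∈ w, c < M.nl :=
      fun Lj hLj => hl Lj (List.mem_cons_of_mem _ hLj)
    have hbn : b < M.n := hb b List.mem_cons_self
    have hhead : wapp M.px (v ++ w ++ acc) b = wapp M.px (w ++ acc) b := by
      rw [List.append_assoc, wapp_append, wapp_prods_fix M.px b Ls hc2 v hv]
    -- the search finds `w`
    have hfind : L.find? (fun w' => wappS M.px (w' ++ acc) b == wapp M.px (v ++ w ++ acc) b) =
        some w := by
      have hp : (fun w' => wappS M.px (w' ++ acc) b == wapp M.px (v ++ w ++ acc) b) w = true := by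
        simp only [beq_iff_eq]
        rw [wappS_eq, hhead]
      cases hf : L.find? (fun w' => wappS M.px (w' ++ acc) b == wapp M.px (v ++ w ++ acc) b) with
      | none =>
        rw [List.find?_eq_none] at hf
        exact absurd hp (hf w hw)
      | some w0 =>
        have h0 := List.find?_some hf
        have hm0 := List.mem_of_find?_eq_some hf
        simp only [beq_iff_eq] at h0
        rw [wappS_eq, hhead, wapp_append, wapp_append] at h0
        have hlw0 : ∀ c ∈ w0, c < M.nl := hl L List.mem_cons_self w0 hm0
        have e := wapp_injOn M acc hacc _ _ (M.wapp_lt w0 hlw0 b hbn) (M.wapp_lt w hlw b hbn) h0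
        rw [List.inj_on_of_nodup_map hc1 hm0 hw e]
    show (match L.find? (fun w' => wappS M.px (w' ++ acc) ((b :: bs).headD 0) ==
        (List.map (fun b => wapp M.px (v ++ w ++ acc) b) (b :: bs)).headD 0) with
      | none => none
      | some w' => siftAux M.px Ls (b :: bs).tail
          (List.map (fun b => wapp M.px (v ++ w ++ acc) b) (b :: bs)).tail (w' ++ acc)) = _
    rw [List.map_cons, List.headD_cons, List.headD_cons, List.tail_cons, List.tail_cons, hfind]
    show siftAux M.px Ls bs (List.map (fun b => wapp M.px (v ++ w ++ acc) b) bs) (w ++ acc) = _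
    have e2 : (List.map (fun b => wapp M.px (v ++ w ++ acc) b) bs) =
        List.map (fun b => wapp M.px (v ++ (w ++ acc)) b) bs := by
      rw [List.append_assoc]
    rw [e2, List.append_assoc]
    apply siftAux_spec M Ls bs (w ++ acc) hc3 (fun b' hb' => hb b' (List.mem_cons_of_mem _ hb')) hlLs
      _ v hv
    intro c hc
    rcases List.mem_append.mp hc with h1 | h1
    · exact hlw c h1
    · exact hacc c h1

/-- the word of the element with given images of the base points -/
noncomputable def sift (M : PModel) (D : ChainData) (cs : List ℕ) : Option (List ℕ) :=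
  siftAux M.px D.levels D.base cs []

theorem ChainFacts.sift_spec {M : PModel} {D : ChainData} (F : ChainFacts M D) (g : M.G) :
    ∃ u, sift M D (D.base.map (ract M g)) = some u ∧ M.elt u = g ∧ ∀ c ∈ u, c < M.nl := by
  have hl := letters_prods M.nl D.levels F.hlet
  obtain ⟨u, hu, rfl⟩ := F.factor g
  refine ⟨u, ?_, rfl, hl u hu⟩
  have e : D.base.map (ract M (M.elt u)) = D.base.map fun b => wapp M.px (u ++ []) b := by
    apply List.map_congr_left
    intro b hb
    rw [List.append_nil]
    exact ract_elt M u (hl u hu) b (F.hbase b hb)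
  unfold sift
  rw [e, siftAux_spec M D.levels D.base [] F.hchain F.hbase F.hlet (by simp) u hu, List.append_nil]

end Cfsg.Agent.Lib.Helper5.Chain
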