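import Cfsg.Agent.Lib.Helper5.Chain2
import Cfsg.Agent.Lib.Helper2.PMStab3

set_option autoImplicit false

/-! # Permutation models: further tools (completeness of the comparison of words, powers of
letters, the action of elements satisfying a conjugation relation) -/

namespace Cfsg.Agent.Lib.Helper5.Chain

open Cfsg.Agent.Lib.Helper6.TC Cfsg.Agent.Lib.Helper6.PM Cfsg.Agent.Lib.Helper2.PMS

variable (M : PModel)

theorem chkW_of_lt (w : List ℕ) (h : ∀ c ∈ w, c < M.nl) : chkW M w = true := by
  unfold chkW
  simp only [List.all_eq_true, decide_eq_true_eq]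
  exact h

/-- equal elements are given by words acting in the same way -/
theorem chkEq_of_elt_eq (w w' : List ℕ) (hw : ∀ c ∈ w, c < M.nl) (hw' : ∀ c ∈ w', c < M.nl)
    (h : M.elt w = M.elt w') : chkEq M w w' = true := by
  unfold chkEq
  simp only [Bool.and_eq_true, List.all_eq_true, List.mem_range, beq_iff_eq]
  refine ⟨⟨chkW_of_lt M w hw, chkW_of_lt M w' hw'⟩, ?_⟩
  intro q hq
  rw [wappS_eq, wappS_eq, ← ract_elt M w hw q hq, ← ract_elt M w' hw' q hq, h]

theorem elt_replicate (c k : ℕ) : M.elt (List.replicate k c) = M.elt [c] ^ k := by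
  induction k with
  | zero => rw [List.replicate_zero, M.elt_nil, pow_zero]
  | succ k ih => rw [List.replicate_succ, M.elt_cons, ih, pow_succ']

theorem elt_mem_of_letters (S : Subgroup M.G) (w : List ℕ) (h : ∀ c ∈ w, M.elt [c] ∈ S) :
    M.elt w ∈ S := by
  induction w with
  | nil => rw [M.elt_nil]; exact one_mem S
  | cons c w ih =>
    rw [M.elt_cons]
    exact S.mul_mem (h c List.mem_cons_self) (ih fun c' hc' => h c' (List.mem_cons_of_mem _ hc'))

variable {M}

/-- the action of an element intertwining two elements -/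
theorem ract_of_rel {n a b : M.G} (h : a * n = n * b) (x : ℕ) :
    ract M n (ract M a x) = ract M b (ract M n x) := by
  rw [← ract_mul, ← ract_mul, h]

theorem pow_rel {G : Type*} [Group G] {n a b : G} (h : a * n = n * b) (j : ℕ) :
    a ^ j * n = n * b ^ j := by
  induction j with
  | zero => simp
  | succ j ih => rw [pow_succ, mul_assoc, h, ← mul_assoc, ih, mul_assoc, ← pow_succ]

theorem slpE_getD_old (M : PModel) (ds : List (List ℕ)) (c : ℕ) (hc : c < M.nl) :
    (slpE M ds).getD c [] = [c] := by
  unfold slpE
  rw [getD_slpAux _ _ _ (by rw [List.length_map, List.length_range]; exact hc)]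
  rw [List.getD_eq_getElem _ _ (by rw [List.length_map, List.length_range]; exact hc)]
  simp

/-- the old letters in the model of a straight line program -/
theorem slpModel_elt_old (M : PModel) (ds : List (List ℕ)) (pm : ℕ → ℕ → ℕ)
    (h : chkSLP M.px M.n M.nl ds pm = true) (c : ℕ) (hc : c < M.nl) :
    (slpModel M ds pm h).elt [c] = M.elt [c] := by
  show M.elt (expand (slpE M ds) [c]) = _
  rw [expand_cons, expand_nil, List.append_nil, slpE_getD_old M ds c hc]

end Cfsg.Agent.Lib.Helper5.Chain
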