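import Cfsg.Agent.Lib.Helper5.Chain3
import Cfsg.Agent.Lib.Helper2.PMChain5

set_option autoImplicit false

/-! # Straight line programs: the definitions of the new letters, generation, inverse letters -/

namespace Cfsg.Agent.Lib.Helper5.Chain

open Cfsg.Agent.Lib.Helper6.TC Cfsg.Agent.Lib.Helper6.PM Cfsg.Agent.Lib.Helper2.PMS

section slp

variable (M : PModel) (ds : List (List ℕ)) (pm : ℕ → ℕ → ℕ)
  (h : chkSLP M.px M.n M.nl ds pm = true)

/-- a word in the old letters gives the same element in the model of a straight line program -/
theorem slpModel_elt_old_word (w : List ℕ) (hw : ∀ c ∈ w, c < M.nl) :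
    (slpModel M ds pm h).elt w = M.elt w := by
  induction w with
  | nil => rw [(slpModel M ds pm h).elt_nil, M.elt_nil]; rfl
  | cons c w ih =>
    rw [(slpModel M ds pm h).elt_cons, M.elt_cons, ih fun c' hc' => hw c' (List.mem_cons_of_mem _ hc'),
      slpModel_elt_old M ds pm h c (hw c List.mem_cons_self)]
    rfl

include h in
theorem chkSLP_new (k : ℕ) (hk : k < ds.length) :
    (∀ c ∈ ds.getD k [], c < M.nl + k) ∧
      ∀ q < M.n, wapp pm (ds.getD k []) q = pm (M.nl + k) q := by
  have h' := h
  unfold chkSLP at h'
  simp only [Bool.and_eq_true, List.all_eq_true, List.mem_range, beq_iff_eq, decide_eq_true_eq,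
    wappS_eq] at h'
  exact h'.2 k hk

/-- a new letter is the element of the word defining it -/
theorem slpModel_elt_new (k : ℕ) (hk : k < ds.length) :
    (slpModel M ds pm h).elt [M.nl + k] = (slpModel M ds pm h).elt (ds.getD k []) := by
  have hnl := slpModel_nl M ds pm h
  obtain ⟨h1, h2⟩ := chkSLP_new M ds pm h k hk
  apply eq_of_ract_all (slpModel M ds pm h)
  intro q hq
  have hq' : q < M.n := hq
  rw [ract_elt (slpModel M ds pm h) [M.nl + k] (by
      intro c hc
      rw [List.mem_singleton] at hc
      rw [hc, hnl]
      omega) q hq,
    ract_elt (slpModel M ds pm h) (ds.getD k []) (by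
      intro c hc
      rw [hnl]
      have := h1 c hc
      omega) q hq]
  show wapp pm [M.nl + k] q = wapp pm (ds.getD k []) q
  rw [h2 q hq', wapp_cons, wapp_nil]

/-- the letters obtained from given letters: the new letters defined by words in such letters -/
def goodAux (nl : ℕ) : List (List ℕ) → ℕ → List ℕ → List ℕ
  | [], _, S => S
  | d :: rest, k, S =>
    goodAux nl rest (k + 1) (bif d.all fun c => S.contains c then (nl + k) :: S else S)

/-- the letters obtained from given letters -/
def goodLetters (nl : ℕ) (ds : List (List ℕ)) (S0 : List ℕ) : List ℕ := goodAux nl ds 0 S0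

theorem goodAux_mem (K : Subgroup (slpModel M ds pm h).G) :
    ∀ (rest : List (List ℕ)) (k : ℕ) (S : List ℕ),
    (∀ j < rest.length, ds.getD (k + j) [] = rest.getD j []) → k + rest.length ≤ ds.length →
    (∀ c ∈ S, (slpModel M ds pm h).elt [c] ∈ K) →
    ∀ c ∈ goodAux M.nl rest k S, (slpModel M ds pm h).elt [c] ∈ K := by
  intro rest
  induction rest with
  | nil => intro k S _ _ hS c hc; exact hS c hc
  | cons d rest ih =>
    intro k S hget hlen hS c hc
    have hlen' : k + 1 + rest.length ≤ ds.length := by
      rw [List.length_cons] at hlen
      omega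
    have hget' : ∀ j < rest.length, ds.getD (k + 1 + j) [] = rest.getD j [] := by
      intro j hj
      have := hget (j + 1) (by rw [List.length_cons]; omega)
      rw [List.getD_cons_succ] at this
      rw [← this]
      congr 1
      omega
    refine ih (k + 1) _ hget' hlen' ?_ c hc
    intro c' hc'
    cases hall : d.all fun c => S.contains c with
    | false =>
      rw [hall] at hc'
      exact hS c' hc'
    | true =>
      rw [hall] at hc'
      rcases List.mem_cons.mp hc' with rfl | hc'
      · have hk : k < ds.length := by
          rw [List.length_cons] at hlen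
          omega
        have hd : ds.getD k [] = d := by
          have := hget 0 (by rw [List.length_cons]; omega)
          rwa [Nat.add_zero, List.getD_cons_zero] at this
        rw [slpModel_elt_new M ds pm h k hk, hd]
        apply elt_mem_of_letters
        intro c hc
        rw [List.all_eq_true] at hall
        have := hall c hc
        rw [List.contains_iff_mem] at this
        exact hS c this
      · exact hS c' hc'

/-- the good letters lie in a subgroup containing the given letters -/
theorem goodLetters_mem (K : Subgroup (slpModel M ds pm h).G) (S0 : List ℕ)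
    (hS : ∀ c ∈ S0, (slpModel M ds pm h).elt [c] ∈ K) :
    ∀ c ∈ goodLetters M.nl ds S0, (slpModel M ds pm h).elt [c] ∈ K := by
  apply goodAux_mem M ds pm h K ds 0 S0
  · intro j _
    rw [Nat.zero_add]
  · omega
  · exact hS

end slp

/-- the check of a list of inverse letters -/
noncomputable def chkInvL (M : PModel) (ivL : List ℕ) : Bool :=
  (List.range M.nl).all fun c => Nat.blt (ivL.getD c 0) M.nl &&
    (List.range M.n).all fun q => Nat.beq (M.px (ivL.getD c 0) (M.px c q)) q

theorem invMap_of_chkInvL (M : PModel) (ivL : List ℕ) (h : chkInvL M ivL = true) :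
    InvMap M (fun c => ivL.getD c 0) := by
  unfold chkInvL at h
  simp only [List.all_eq_true, List.mem_range, Bool.and_eq_true, Nat.blt_eq, Nat.beq_eq] at h
  intro c hc
  exact ⟨(h c hc).1, fun q hq => (h c hc).2 q hq⟩

end Cfsg.Agent.Lib.Helper5.Chain
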