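import Mathlib

set_option autoImplicit false

/-!
Square roots in finite fields of characteristic two.
-/

namespace Cfsg.Agent.Lib.Helper5.Char2

variable {F : Type*} [Field F] [CharP F 2]

theorem two_eq_zero : (2 : F) = 0 := by
  have := CharP.cast_eq_zero F 2
  exact_mod_cast this

theorem neg_eq_self (a : F) : -a = a := by
  linear_combination -a * (two_eq_zero (F := F))

theorem add_self (a : F) : a + a = 0 := by
  linear_combination a * (two_eq_zero (F := F))

theorem sq_injective : Function.Injective (fun b : F => b * b) := by
  intro b b' h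
  have h' : b * b = b' * b' := h
  have h1 : (b - b') * (b - b') = 0 := by
    linear_combination h' + (b' * b' - b * b') * (two_eq_zero (F := F))
  exact sub_eq_zero.1 (mul_self_eq_zero.1 h1)

theorem exists_sq [Finite F] (a : F) : ∃ b : F, b * b = a :=
  Finite.surjective_of_injective sq_injective a

/-- The square root in a finite field of characteristic two. -/
noncomputable def sqrtF [Finite F] (a : F) : F := Classical.choose (exists_sq a)

theorem sqrtF_mul_self [Finite F] (a : F) : sqrtF a * sqrtF a = a :=
  Classical.choose_spec (exists_sq a)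

theorem sqrtF_eq_iff [Finite F] (a b : F) : sqrtF a = b ↔ a = b * b := by
  constructor
  · rintro rfl
    exact (sqrtF_mul_self a).symm
  · intro h
    apply sq_injective
    show sqrtF a * sqrtF a = b * b
    rw [sqrtF_mul_self, h]

theorem sqrtF_add [Finite F] (a b : F) : sqrtF (a + b) = sqrtF a + sqrtF b := by
  rw [sqrtF_eq_iff]
  have h1 := sqrtF_mul_self a
  have h2 := sqrtF_mul_self b
  linear_combination -h1 - h2 - sqrtF a * sqrtF b * (two_eq_zero (F := F))

theorem sqrtF_sq_mul [Finite F] (c a : F) : sqrtF (c * c * a) = c * sqrtF a := by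
  rw [sqrtF_eq_iff]
  have h1 := sqrtF_mul_self a
  linear_combination -c * c * h1

theorem sqrtF_eq_zero_iff [Finite F] (a : F) : sqrtF a = 0 ↔ a = 0 := by
  rw [sqrtF_eq_iff, mul_zero]

end Cfsg.Agent.Lib.Helper5.Char2
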