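import Mathlib
import Cfsg.Agent.Lib.Helper8.Chr8Defs

set_option autoImplicit false

/-! S4751, package KMb: Bessel's inequality for the distinct linear characters of a finite group,
and the master inequality (with the Fourier coefficient fact as a hypothesis). -/

namespace Cfsg.Agent.Lib.Helper8.Chr8

open Cfsg Cfsg.Agent.Lib.Helper8.RDG
open scoped ComplexConjugate

universe u

section KMbGeneral

variable {X : Type u} [Group X] [Fintype X]

/-- values of a hom into `ℂˣ` from a finite group have norm 1 -/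
theorem kmb_norm_hom (l : X →* ℂˣ) (x : X) : ‖((l x : ℂˣ) : ℂ)‖ = 1 := by
  have h : ((l x : ℂˣ) : ℂ) ^ (Fintype.card X) = 1 := by
    rw [← Units.val_pow_eq_pow_val, ← map_pow, pow_card_eq_one, map_one, Units.val_one]
  exact Complex.norm_eq_one_of_pow_eq_one h Fintype.card_ne_zero

theorem kmb_conj_hom (l : X →* ℂˣ) (x : X) :
    conj ((l x : ℂˣ) : ℂ) = (((l x)⁻¹ : ℂˣ) : ℂ) := by
  rw [Units.val_inv_eq_inv_val]
  exact (Complex.inv_eq_conj (kmb_norm_hom l x)).symm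

theorem kmb_orth (l m : X →* ℂˣ) :
    ∑ x : X, conj ((l x : ℂˣ) : ℂ) * ((m x : ℂˣ) : ℂ)
      = if l = m then (Fintype.card X : ℂ) else 0 := by
  classical
  have h1 : ∀ x : X, conj ((l x : ℂˣ) : ℂ) * ((m x : ℂˣ) : ℂ)
      = ((Units.coeHom ℂ).comp (l⁻¹ * m)) x := by
    intro x
    rw [kmb_conj_hom]
    simp
  rw [Finset.sum_congr rfl (fun x _ => h1 x)]
  split_ifs with h
  · subst h
    have h5 : ∀ x : X, ((Units.coeHom ℂ).comp (l⁻¹ * l)) x = 1 := by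
      intro x
      simp
    rw [Finset.sum_congr rfl (fun x _ => h5 x)]
    simp
  · apply sum_hom_units_eq_zero
    intro hc
    apply h
    ext x
    have := congrArg (fun f : X →* ℂ => f x) hc
    simp only [MonoidHom.coe_comp, Function.comp_apply, MonoidHom.mul_apply, MonoidHom.inv_apply,
      Units.coeHom_apply, MonoidHom.one_apply] at this
    have h2 : (l x)⁻¹ * m x = 1 := by
      apply Units.ext
      simpa using this
    have h3 : m x = l x := by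
      have := congrArg (fun u => l x * u) h2
      simpa using this
    rw [h3]

/-- Bessel's inequality for a finite set of distinct linear characters. -/
theorem kmb_bessel (L : Finset (X →* ℂˣ)) (φ : X → ℂ) :
    ∑ l ∈ L, ‖∑ x : X, φ x * conj ((l x : ℂˣ) : ℂ)‖ ^ 2
      ≤ (Fintype.card X : ℝ) * ∑ x : X, ‖φ x‖ ^ 2 := by
  classical
  set N : ℝ := (Fintype.card X : ℝ) with hN
  have hNpos : 0 < N := by
    rw [hN]; exact_mod_cast Fintype.card_pos
  set s : ℝ := Real.sqrt N with hs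
  have hspos : 0 < s := Real.sqrt_pos.mpr hNpos
  have hss : s * s = N := Real.mul_self_sqrt hNpos.le
  let v : (X →* ℂˣ) → EuclideanSpace ℂ X :=
    fun l => WithLp.toLp 2 (fun x => ((s⁻¹ : ℝ) : ℂ) * ((l x : ℂˣ) : ℂ))
  have hv : Orthonormal ℂ v := by
    rw [orthonormal_iff_ite]
    intro l m
    rw [PiLp.inner_apply]
    have h1 : ∀ x : X, inner ℂ ((v l) x) ((v m) x)
        = ((s⁻¹ * s⁻¹ : ℝ) : ℂ) * (conj ((l x : ℂˣ) : ℂ) * ((m x : ℂˣ) : ℂ)) := by
      intro x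
      rw [RCLike.inner_apply']
      show conj (((s⁻¹ : ℝ) : ℂ) * ((l x : ℂˣ) : ℂ)) * (((s⁻¹ : ℝ) : ℂ) * ((m x : ℂˣ) : ℂ)) = _
      rw [map_mul, Complex.conj_ofReal]
      push_cast
      ring
    rw [Finset.sum_congr rfl (fun x _ => h1 x), ← Finset.mul_sum, kmb_orth]
    have h2 : s⁻¹ * s⁻¹ = N⁻¹ := by
      rw [← mul_inv, hss]
    rw [h2]
    split_ifs with h
    · have h7 : ((Fintype.card X : ℕ) : ℂ) = ((N : ℝ) : ℂ) := by
        rw [hN]; push_cast; rfl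
      rw [h7, ← Complex.ofReal_mul, inv_mul_cancel₀ hNpos.ne']
      simp
    · simp
  have hB := hv.sum_inner_products_le (WithLp.toLp 2 φ : EuclideanSpace ℂ X) (s := L)
  rw [EuclideanSpace.norm_sq_eq] at hB
  have h3 : ∀ l : X →* ℂˣ, ‖inner ℂ (v l) (WithLp.toLp 2 φ : EuclideanSpace ℂ X)‖ ^ 2
      = N⁻¹ * ‖∑ x : X, φ x * conj ((l x : ℂˣ) : ℂ)‖ ^ 2 := by
    intro l
    rw [PiLp.inner_apply]
    have h4 : ∀ x : X, inner ℂ ((v l) x) ((WithLp.toLp 2 φ : EuclideanSpace ℂ X) x)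
        = ((s⁻¹ : ℝ) : ℂ) * (φ x * conj ((l x : ℂˣ) : ℂ)) := by
      intro x
      rw [RCLike.inner_apply]
      show φ x * conj (((s⁻¹ : ℝ) : ℂ) * ((l x : ℂˣ) : ℂ)) = _
      rw [map_mul, Complex.conj_ofReal]
      ring
    rw [Finset.sum_congr rfl (fun x _ => h4 x), ← Finset.mul_sum, norm_mul, mul_pow,
      Complex.norm_real, Real.norm_eq_abs, sq_abs]
    congr 1
    rw [sq, ← mul_inv, hss]
  rw [Finset.sum_congr rfl (fun l _ => h3 l), ← Finset.mul_sum] at hB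
  have h5 : ∑ x : X, ‖(WithLp.toLp 2 φ : EuclideanSpace ℂ X) x‖ ^ 2 = ∑ x : X, ‖φ x‖ ^ 2 := rfl
  rw [h5] at hB
  have h6 := mul_le_mul_of_nonneg_left hB hNpos.le
  rw [← mul_assoc, mul_inv_cancel₀ hNpos.ne', one_mul] at h6
  exact h6

end KMbGeneral

variable {G : Type u} [Group G] [Finite G]

theorem parseval {χ : G → ℂ} (P : Subgroup G) [P.Normal] [Fintype ↥P]
    {L : Finset (↥P →* ℂˣ)} (hS : Spec χ P L) (φ : ↥P → ℂ) :
    ∑ l ∈ L, ‖∑ x : P, φ x * conj ((l x : ℂˣ) : ℂ)‖ ^ 2 ≤ (Nat.card P : ℝ) * ∑ x : P, ‖φ x‖ ^ 2 := by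
  rw [Nat.card_eq_fintype_card]
  exact kmb_bessel L φ

/-- the master inequality, with the Fourier coefficient fact as a hypothesis. -/
theorem master_le_of {χ : G → ℂ} (P : Subgroup G) [P.Normal] [Fintype ↥P]
    {L : Finset (↥P →* ℂˣ)} (hS : Spec χ P L) (g : G)
    (hF : ∀ l ∈ L, conjHom P l g = l →
      ‖∑ x : P, χ ((x : G) * g) * conj ((l x : ℂˣ) : ℂ)‖ = Nat.card P) :
    (Nat.card P : ℝ) * ((fixSet P L g).card : ℝ) ≤ ∑ x : P, ‖χ ((x : G) * g)‖ ^ 2 := by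
  classical
  have hNpos : (0 : ℝ) < (Nat.card P : ℝ) := by
    exact_mod_cast Nat.card_pos
  have h1 := parseval P hS (fun x : P => χ ((x : G) * g))
  have hsub : fixSet P L g ⊆ L := by
    intro l hl
    exact ((mem_fixSet P L g l).mp hl).1
  have h2 : ∑ l ∈ fixSet P L g, ‖∑ x : P, χ ((x : G) * g) * conj ((l x : ℂˣ) : ℂ)‖ ^ 2
      ≤ ∑ l ∈ L, ‖∑ x : P, χ ((x : G) * g) * conj ((l x : ℂˣ) : ℂ)‖ ^ 2 :=
    Finset.sum_le_sum_of_subset_of_nonneg hsub (fun _ _ _ => by positivity)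
  have h3 : ∑ l ∈ fixSet P L g, ‖∑ x : P, χ ((x : G) * g) * conj ((l x : ℂˣ) : ℂ)‖ ^ 2
      = ((fixSet P L g).card : ℝ) * (Nat.card P : ℝ) ^ 2 := by
    rw [Finset.sum_congr rfl (fun l hl => by
      rw [hF l ((mem_fixSet P L g l).mp hl).1 ((mem_fixSet P L g l).mp hl).2])]
    rw [Finset.sum_const, nsmul_eq_mul]
  have h4 : (Nat.card P : ℝ) * ((Nat.card P : ℝ) * ((fixSet P L g).card : ℝ))
      ≤ (Nat.card P : ℝ) * ∑ x : P, ‖χ ((x : G) * g)‖ ^ 2 := by
    calc (Nat.card P : ℝ) * ((Nat.card P : ℝ) * ((fixSet P L g).card : ℝ))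
        = ((fixSet P L g).card : ℝ) * (Nat.card P : ℝ) ^ 2 := by ring
      _ ≤ _ := by rw [← h3]; exact h2.trans h1
  exact le_of_mul_le_mul_left h4 hNpos

end Cfsg.Agent.Lib.Helper8.Chr8
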