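import Mathlib
import Cfsg.Agent.Lib.Helper8.Chr8Defs
import Cfsg.Agent.Lib.Helper4.Chr8KMa
import Cfsg.Agent.Lib.Helper5.Chr8KMb

set_option autoImplicit false

/-! S4751, package KMb: the master inequality. -/

namespace Cfsg.Agent.Lib.Helper8.Chr8

open Cfsg Cfsg.Agent.Lib.Helper8.RDG
open scoped ComplexConjugate

universe u

variable {G : Type u} [Group G] [Finite G]

theorem master_le {χ : G → ℂ} (hχ : IsIrrCharacter G χ) (P : Subgroup G) [P.Normal] [Fintype ↥P]
    {L : Finset (↥P →* ℂˣ)} (hS : Spec χ P L) (g : G) :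
    (Nat.card P : ℝ) * ((fixSet P L g).card : ℝ) ≤ ∑ x : P, ‖χ ((x : G) * g)‖ ^ 2 :=
  master_le_of P hS g (fun l hl hg => fourier_coeff hχ P hS l hl g hg)

end Cfsg.Agent.Lib.Helper8.Chr8
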