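import Mathlib

namespace Cfsg.Agent.Lib.Helper5.ClassCount

/-- counting conjugacy classes of elements with a property via a complete invariant -/
theorem card_classes_of_invariant {G α : Type*} [Group G] [DecidableEq α] (P : G → Prop)
    (inv : G → α) (T : Finset α)
    (hconj : ∀ g h, P g → P h → (IsConj g h ↔ inv g = inv h))
    (hmem : ∀ g, P g → inv g ∈ T) (hsurj : ∀ p ∈ T, ∃ g, P g ∧ inv g = p) :
    Nat.card {C : ConjClasses G // ∃ g : G, ConjClasses.mk g = C ∧ P g} = T.card := by
  classical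
  have hchoose : ∀ C : {C : ConjClasses G // ∃ g : G, ConjClasses.mk g = C ∧ P g},
      ∃ g : G, ConjClasses.mk g = C.1 ∧ P g := fun C => C.2
  choose rep hrep1 hrep2 using hchoose
  have hbij : Function.Bijective (fun C : {C : ConjClasses G // ∃ g : G, ConjClasses.mk g = C ∧ P g} =>
      (⟨inv (rep C), hmem _ (hrep2 C)⟩ : T)) := by
    constructor
    · intro C C' h
      have h1 : inv (rep C) = inv (rep C') := congrArg Subtype.val h
      have h2 := (hconj _ _ (hrep2 C) (hrep2 C')).2 h1
      apply Subtype.ext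
      rw [← hrep1 C, ← hrep1 C']
      exact ConjClasses.mk_eq_mk_iff_isConj.2 h2
    · rintro ⟨p, hp⟩
      obtain ⟨g, hg, hgp⟩ := hsurj p hp
      refine ⟨⟨ConjClasses.mk g, g, rfl, hg⟩, ?_⟩
      apply Subtype.ext
      show inv (rep ⟨ConjClasses.mk g, g, rfl, hg⟩) = p
      have h1 := hrep1 ⟨ConjClasses.mk g, g, rfl, hg⟩
      have h2 : IsConj (rep ⟨ConjClasses.mk g, g, rfl, hg⟩) g :=
        ConjClasses.mk_eq_mk_iff_isConj.1 h1
      rw [← hgp]
      exact (hconj _ _ (hrep2 _) hg).1 h2
  rw [Nat.card_congr (Equiv.ofBijective _ hbij), Nat.card_eq_fintype_card, Fintype.card_coe]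

section split

variable {G : Type*} [Group G] (N : Subgroup G) [hN : N.Normal]

theorem mul_mem_of_not_mem (hidx : N.index = 2) {x y : G} (hx : x ∉ N) (hy : y ∉ N) : x * y ∈ N :=
  (Subgroup.mul_mem_iff_of_index_two hidx).2 ⟨fun h => absurd h hx, fun h => absurd h hy⟩

theorem centralizer_conj_le {g : G} (x : G) (h : Subgroup.centralizer {g} ≤ N) :
    Subgroup.centralizer {x * g * x⁻¹} ≤ N := by
  intro c hc
  rw [Subgroup.mem_centralizer_singleton_iff] at hc
  have h1 : x⁻¹ * c * x ∈ Subgroup.centralizer {g} := by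
    rw [Subgroup.mem_centralizer_singleton_iff]
    have : x⁻¹ * c * x * g = x⁻¹ * (c * (x * g * x⁻¹)) * x := by group
    rw [this, hc]
    group
  have h2 := h h1
  have h3 := hN.conj_mem _ h2 x
  have : x * (x⁻¹ * c * x) * x⁻¹ = c := by group
  rwa [this] at h3

/-- classes of a normal subgroup of index two: a class of the big group inside the subgroup splits
in two exactly when the centralizer of its elements lies in the subgroup. -/
theorem card_classes_index_two [Finite G] (hidx : N.index = 2) (P : G → Prop)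
    (hP : ∀ x g, P (x * g * x⁻¹) ↔ P g) :
    Nat.card {C : ConjClasses N // ∃ g : N, ConjClasses.mk g = C ∧ P (g : G)} =
      Nat.card {C : ConjClasses G // ∃ g : G, ConjClasses.mk g = C ∧ (P g ∧ g ∈ N)} +
      Nat.card {C : ConjClasses G // ∃ g : G, ConjClasses.mk g = C ∧
        (P g ∧ g ∈ N ∧ Subgroup.centralizer {g} ≤ N)} := by
  classical
  obtain ⟨g₀, hg₀⟩ : ∃ g₀ : G, g₀ ∉ N := by
    by_contra hcon
    push Not at hcon
    have : N = ⊤ := by
      ext x; simp [hcon x]
    rw [this, Subgroup.index_top] at hidx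
    omega
  have hchoose : ∀ C : {C : ConjClasses G // ∃ g : G, ConjClasses.mk g = C ∧ (P g ∧ g ∈ N)},
      ∃ g : G, ConjClasses.mk g = C.1 ∧ (P g ∧ g ∈ N) := fun C => C.2
  choose rep hrep1 hrep2 using hchoose
  -- the weakening map
  let w : {C : ConjClasses G // ∃ g : G, ConjClasses.mk g = C ∧
      (P g ∧ g ∈ N ∧ Subgroup.centralizer {g} ≤ N)} →
      {C : ConjClasses G // ∃ g : G, ConjClasses.mk g = C ∧ (P g ∧ g ∈ N)} :=
    fun C => ⟨C.1, by obtain ⟨g, h1, h2, h3, -⟩ := C.2; exact ⟨g, h1, h2, h3⟩⟩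
  have hw : ∀ C, Subgroup.centralizer {rep (w C)} ≤ N := by
    intro C
    obtain ⟨g, h1, h2, h3, h4⟩ := C.2
    have h5 : ConjClasses.mk (rep (w C)) = ConjClasses.mk g := by rw [hrep1, h1]
    obtain ⟨x, hx⟩ := isConj_iff.1 (ConjClasses.mk_eq_mk_iff_isConj.1 h5.symm)
    rw [← hx]
    exact centralizer_conj_le N x h4
  have hconjmem : ∀ (x : G) {g : G}, g ∈ N → x * g * x⁻¹ ∈ N := fun x g hg => hN.conj_mem g hg x
  -- the map
  let Φ : ({C : ConjClasses G // ∃ g : G, ConjClasses.mk g = C ∧ (P g ∧ g ∈ N)} ⊕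
      {C : ConjClasses G // ∃ g : G, ConjClasses.mk g = C ∧
        (P g ∧ g ∈ N ∧ Subgroup.centralizer {g} ≤ N)}) →
      {C : ConjClasses N // ∃ g : N, ConjClasses.mk g = C ∧ P (g : G)} :=
    fun z => match z with
      | Sum.inl C => ⟨ConjClasses.mk ⟨rep C, (hrep2 C).2⟩, ⟨rep C, (hrep2 C).2⟩, rfl, (hrep2 C).1⟩
      | Sum.inr C => ⟨ConjClasses.mk ⟨g₀ * rep (w C) * g₀⁻¹, hconjmem g₀ (hrep2 (w C)).2⟩,
          ⟨g₀ * rep (w C) * g₀⁻¹, hconjmem g₀ (hrep2 (w C)).2⟩, rfl, (hP _ _).2 (hrep2 (w C)).1⟩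
  -- N-conjugacy implies G-conjugacy
  have hNG : ∀ (a b : N), ConjClasses.mk a = ConjClasses.mk b →
      ConjClasses.mk (a : G) = ConjClasses.mk (b : G) := by
    intro a b h
    obtain ⟨n, hn⟩ := isConj_iff.1 (ConjClasses.mk_eq_mk_iff_isConj.1 h)
    apply ConjClasses.mk_eq_mk_iff_isConj.2
    rw [isConj_iff]
    exact ⟨n, by rw [← hn]; rfl⟩
  have hconjG : ∀ (x g : G), ConjClasses.mk (x * g * x⁻¹) = ConjClasses.mk g := by
    intro x g
    apply ConjClasses.mk_eq_mk_iff_isConj.2
    exact (isConj_iff.2 ⟨x, rfl⟩).symm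
  have hbij : Function.Bijective Φ := by
    constructor
    · rintro (C | C) (C' | C') h
      · have h1 := hNG _ _ (congrArg Subtype.val h)
        simp only [] at h1
        rw [hrep1, hrep1] at h1
        exact congrArg Sum.inl (Subtype.ext h1)
      · exfalso
        have h0 := congrArg Subtype.val h
        have h1 := hNG _ _ h0
        simp only [] at h1
        rw [hconjG, hrep1, hrep1] at h1
        have h2 : C = w C' := Subtype.ext h1
        obtain ⟨n, hn⟩ := isConj_iff.1 (ConjClasses.mk_eq_mk_iff_isConj.1 h0)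
        have hn' : (n : G) * rep C * (n : G)⁻¹ = g₀ * rep (w C') * g₀⁻¹ := by
          have := congrArg Subtype.val hn
          simpa using this
        rw [h2] at hn'
        have hcent : g₀⁻¹ * (n : G) ∈ Subgroup.centralizer {rep (w C')} := by
          rw [Subgroup.mem_centralizer_singleton_iff]
          have : g₀⁻¹ * ↑n * rep (w C') = g₀⁻¹ * (↑n * rep (w C') * (↑n)⁻¹) * ↑n := by group
          rw [this, hn']
          group
        have h3 := hw C' hcent
        have h4 : g₀⁻¹ ∈ N := by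
          have := N.mul_mem h3 (N.inv_mem n.2)
          rwa [mul_assoc, mul_inv_cancel, mul_one] at this
        exact hg₀ (by simpa using N.inv_mem h4)
      · exfalso
        have h0 := congrArg Subtype.val h.symm
        have h1 := hNG _ _ h0
        simp only [] at h1
        rw [hconjG, hrep1, hrep1] at h1
        have h2 : C' = w C := Subtype.ext h1
        obtain ⟨n, hn⟩ := isConj_iff.1 (ConjClasses.mk_eq_mk_iff_isConj.1 h0)
        have hn' : (n : G) * rep C' * (n : G)⁻¹ = g₀ * rep (w C) * g₀⁻¹ := by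
          have := congrArg Subtype.val hn
          simpa using this
        rw [h2] at hn'
        have hcent : g₀⁻¹ * (n : G) ∈ Subgroup.centralizer {rep (w C)} := by
          rw [Subgroup.mem_centralizer_singleton_iff]
          have : g₀⁻¹ * ↑n * rep (w C) = g₀⁻¹ * (↑n * rep (w C) * (↑n)⁻¹) * ↑n := by group
          rw [this, hn']
          group
        have h3 := hw C hcent
        have h4 : g₀⁻¹ ∈ N := by
          have := N.mul_mem h3 (N.inv_mem n.2)
          rwa [mul_assoc, mul_inv_cancel, mul_one] at this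
        exact hg₀ (by simpa using N.inv_mem h4)
      · have h1 := hNG _ _ (congrArg Subtype.val h)
        simp only [] at h1
        rw [hconjG, hconjG, hrep1, hrep1] at h1
        exact congrArg Sum.inr (Subtype.ext h1)
    · rintro ⟨C, t, rfl, ht⟩
      have htN : (t : G) ∈ N := t.2
      let C₀ : {C : ConjClasses G // ∃ g : G, ConjClasses.mk g = C ∧ (P g ∧ g ∈ N)} :=
        ⟨ConjClasses.mk (t : G), t, rfl, ht, htN⟩
      have h1 : ConjClasses.mk (rep C₀) = ConjClasses.mk (t : G) := hrep1 C₀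
      obtain ⟨x, hx⟩ := isConj_iff.1 (ConjClasses.mk_eq_mk_iff_isConj.1 h1)
      -- x * rep C₀ * x⁻¹ = t
      by_cases hxN : x ∈ N
      · refine ⟨Sum.inl C₀, ?_⟩
        apply Subtype.ext
        show ConjClasses.mk (⟨rep C₀, (hrep2 C₀).2⟩ : N) = ConjClasses.mk t
        apply ConjClasses.mk_eq_mk_iff_isConj.2
        rw [isConj_iff]
        exact ⟨⟨x, hxN⟩, Subtype.ext hx⟩
      · by_cases hcent : Subgroup.centralizer {rep C₀} ≤ N
        · let C₁ : {C : ConjClasses G // ∃ g : G, ConjClasses.mk g = C ∧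
              (P g ∧ g ∈ N ∧ Subgroup.centralizer {g} ≤ N)} :=
            ⟨ConjClasses.mk (t : G), rep C₀, h1, (hrep2 C₀).1, (hrep2 C₀).2, hcent⟩
          have hwC : w C₁ = C₀ := rfl
          refine ⟨Sum.inr C₁, ?_⟩
          apply Subtype.ext
          show ConjClasses.mk (⟨g₀ * rep (w C₁) * g₀⁻¹, _⟩ : N) = ConjClasses.mk t
          apply ConjClasses.mk_eq_mk_iff_isConj.2
          rw [isConj_iff]
          have hg₀' : g₀⁻¹ ∉ N := fun h => hg₀ (by simpa using N.inv_mem h)
          refine ⟨⟨x * g₀⁻¹, mul_mem_of_not_mem N hidx hxN hg₀'⟩, ?_⟩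
          apply Subtype.ext
          show x * g₀⁻¹ * (g₀ * rep (w C₁) * g₀⁻¹) * (x * g₀⁻¹)⁻¹ = (t : G)
          rw [hwC, ← hx]
          group
        · obtain ⟨c, hc, hcN⟩ := SetLike.not_le_iff_exists.1 hcent
          rw [Subgroup.mem_centralizer_singleton_iff] at hc
          refine ⟨Sum.inl C₀, ?_⟩
          apply Subtype.ext
          show ConjClasses.mk (⟨rep C₀, (hrep2 C₀).2⟩ : N) = ConjClasses.mk t
          apply ConjClasses.mk_eq_mk_iff_isConj.2
          rw [isConj_iff]
          refine ⟨⟨x * c, mul_mem_of_not_mem N hidx hxN hcN⟩, ?_⟩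
          apply Subtype.ext
          show x * c * rep C₀ * (x * c)⁻¹ = (t : G)
          rw [← hx]
          have : x * c * rep C₀ * (x * c)⁻¹ = x * (c * rep C₀) * c⁻¹ * x⁻¹ := by group
          rw [this, hc]
          group
  rw [← Nat.card_congr (Equiv.ofBijective Φ hbij), Nat.card_sum]

end split

end Cfsg.Agent.Lib.Helper5.ClassCount
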