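import Cfsg.Agent.Lib.Helper5.Srch2
import Cfsg.Agent.Lib.Helper5.Co2Out3

set_option autoImplicit false
set_option maxRecDepth 100000
set_option maxHeartbeats 0

/-! # The second Conway group: certificates of searches and words (generated data) -/

namespace Cfsg.Agent.Lib.Helper5.Co2Out

open Cfsg.Agent.Lib.Helper5.Srch

/-- a piece of a certificate -/
noncomputable def cCp_0 : Cert := (Cert.rl [(1, (.step [] (.step [] (.step [] (.step [] (.step [] (.done []))))))), (1, (.step [9, 14, 6, 25] (.step [12, 21] (.step [18, 21] .fail)))), (1, (.step [6, 25, 13, 7] .fail)), (1, .fail), (1, (.step [6, 8, 12, 7] (.step [12, 23, 17, 23] (.step [18, 24, 19] .fail)))), (1, (.step [8, 13, 8, 8] .fail)), (1, .fail), (1, (.step [7, 9, 13, 9] (.step [10, 12, 16, 16] .fail))), (1, (.step [6, 14, 9, 9, 14] (.step [12, 12, 25] (.step [14, 16, 20, 17] .fail)))), (1, (.step [8, 15, 12] (.step [10, 10, 22, 10] (.step [17, 22, 16] .fail)))), (1, (.step [6,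 13, 25] (.step [11, 23, 10, 17] (.step [19, 14, 23] .fail)))), (1, .fail), (1, (.step [6, 14, 9, 25, 13] (.step [13, 15, 24] (.step [15, 19, 22] .fail)))), (1, (.step [6, 13, 7, 7] .fail)), (3, .fail), (1, (.step [9, 13, 13, 15] .fail)), (1, (.step [6, 13, 7] .fail)), (1, (.step [7, 7, 15] .fail)), (1, (.step [6, 14, 9, 9, 14] .fail)), (1, (.step [6, 15, 9, 14] (.step [10, 13, 25, 10] (.step [14, 16, 15, 22] .fail)))), (1, (.step [7, 9, 7, 13] .fail)), (1, (.step [7, 14, 7, 8] (.step [10, 24, 14, 12] .fail))), (1, (.step [6, 6, 25, 9, 7] (.step [12, 24, 10] .fail))), (1, .fail), (1, (.step [7, 25, 12, 15] .fail)), (1, (.step [7, 7, 13, 13, 8] (.step [10, 16, 13, 10] .fail))), (1, (.step [7, 9, 7, 12] (.step [10, 24, 14] (.step [15, 19, 14] .fail)))), (1, .fail), (1, (.step [6, 13, 15, 25, 8] (.step [10, 10, 22, 12] .fail))), (1, (.step [6, 13, 15, 25, 8] .fail)), (1, .fail), (1, (.step [6, 6, 9, 14, 25] (.step [12, 11, 12] .fail))),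 (1, .fail), (1, (.step [7, 13, 6, 8] .fail)), (1, (.step [6, 15, 8, 6] (.step [12, 23] (.step [14, 17, 20] .fail)))), (1, (.step [6, 15, 7, 7] (.step [13, 16] (.step [14, 16, 18, 20] .fail)))), (1, (.step [9, 25, 8] .fail)), (1, (.step [8, 6, 8, 8] .fail)), (1, (.step [6, 8, 7, 8, 13] (.step [10, 17, 17, 12] (.step [15, 16, 16] .fail)))), (1, (.step [6, 15, 13, 8, 12] .fail)), (2, .fail), (1, (.step [8, 8] .fail)), (1, .fail), (1, (.step [7, 12, 14, 9] (.step [12, 17, 25] .fail))), (1, .fail), (1, (.step [6, 13, 15, 12, 9] (.step [12, 15, 12, 14] (.step [17, 15, 25] .fail)))), (1, (.step [6, 9, 13, 13] (.step [10, 13, 16, 12] (.step [18, 18] .fail)))), (1, (.step [7, 12, 9, 6, 14] (.step [12, 10, 17, 21] .fail))), (1, (.step [6, 13, 25, 13] (.step [11, 13, 17, 14] (.step [17, 19, 15] .fail)))), (1, (.step [9, 15, 7, 9] (.step [12, 12, 14] .fail))), (1, .fail), (1, (.step [7, 9, 6, 14, 6] (.step [10, 10, 13, 11] .fail))), (1, (.step [7,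 15] (.step [11, 12, 10, 16] .fail))), (1, (.step [7, 9, 15, 6] .fail)), (1, (.step [8, 13, 6, 12] (.step [10, 16, 23, 11] .fail))), (1, (.step [6, 8, 15, 7] .fail)), (1, (.step [6, 6, 6, 8, 7] .fail)), (1, .fail), (1, (.step [6, 15, 9, 15] (.step [10, 13, 13, 24] .fail))), (1, .fail), (1, (.step [6, 6, 14, 6, 8] .fail)), (1, .fail), (1, (.step [6, 13] .fail)), (1, (.step [6, 6, 8, 15, 6] (.step [13, 21, 12] .fail))), (1, .fail), (1, (.step [6, 8, 6, 13, 7] (.step [13, 15, 24] (.step [14, 16, 14] .fail)))), (3, .fail), (1, (.step [8, 14, 9, 13] (.step [12, 25] .fail))), (1, .fail), (1, (.step [6, 8, 7, 14, 9] .fail)), (3, .fail), (1, (.step [7, 13, 9, 12] (.step [10, 17, 24] (.step [19, 14] .fail)))), (1, .fail), (1, (.step [9, 14, 25, 6] (.step [11, 21, 23] (.step [14, 19, 21] .fail)))), (1, (.step [8, 8, 25, 12] .fail)), (1, (.step [6, 15, 25, 13, 7] (.step [13, 10, 16] (.step [17, 15, 21] .fail)))), (1, (.step [8, 12, 7, 14] .fail)),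 (1, (.step [6, 6, 12, 25, 13] (.step [11, 23, 11, 15] (.step [17, 14, 22] .fail)))), (1, (.step [6, 8, 13, 25, 6] (.step [10, 10, 16, 10] (.step [14, 16, 20, 18] .fail)))), (1, (.step [8, 13, 15] (.step [10, 21, 24, 13] (.step [17, 20, 23, 15] .fail)))), (1, (.step [6, 13, 14, 13, 9] (.step [10, 16, 13, 21] (.step [15] .fail)))), (1, (.step [6, 9, 12, 9, 7] (.step [12, 11, 16] (.step [14, 19, 23] (.step [23] .fail))))), (1, .fail), (1, (.step [6, 15, 8, 12] .fail)), (1, (.step [7, 12, 7, 15] (.step [11, 12, 11] .fail))), (3, .fail), (1, (.step [6, 12, 9, 9] .fail)), (1, (.step [7, 13, 7, 8] (.step [10, 12, 14, 10] (.step [15, 19, 23] .fail)))), (1, .fail), (1, (.step [6, 6, 8, 14, 13] (.step [10, 15, 13, 24] (.step [15, 18, 15] .fail)))), (1, (.step [8, 25, 12, 6] .fail)), (1, (.step [7, 12, 8, 12] .fail)), (2, .fail), (1, (.step [6, 15] (.step [11, 13, 14, 25] .fail))), (1, .fail), (1, (.step [7, 13, 15, 25] (.step [13, 16, 25] .fail))),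 (1, .fail), (1, (.step [6, 25, 7, 9] (.step [10, 10, 22, 25] (.step [18, 18, 18] .fail)))), (1, (.step [6, 12, 6, 13, 25] (.step [10, 13, 15, 17] (.step [16, 20, 14] .fail)))), (1, (.step [6, 14, 9, 9] .fail)), (1, (.step [6, 6, 25, 13] (.step [13, 16, 15, 25] .fail))), (1, (.step [6, 6, 15, 12, 14] (.step [10, 13, 14] (.step [14, 16, 18, 15] .fail)))), (1, (.step [7, 15, 25, 7] (.step [10, 23, 16, 13] .fail))), (1, (.step [6, 6, 6, 8, 6] (.step [10, 22, 12, 23] (.step [16, 20, 22, 14] .fail)))), (1, (.step [9, 14, 8, 7] (.step [11, 13, 24] .fail))), (1, (.step [7, 9, 7, 12] .fail)), (1, .fail), (1, (.step [6, 9, 6, 15] (.step [10, 16, 25] (.step [19, 21, 18] .fail)))), (1, (.step [6, 6, 25, 9, 7] (.step [13, 14, 17] (.step [14, 17, 22] .fail)))), (4, .fail), (1, (.step [8, 8, 6] (.step [10, 24, 14, 12] .fail))), (1, (.step [9, 12, 6, 13] (.step [12, 10, 12] (.step [14, 16, 16] (.step [20] .fail))))), (1, .fail), (1, (.step [6, 9, 6,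 15] .fail)), (1, .fail), (1, (.step [6, 12, 8] .fail)), (1, (.step [6, 6, 6, 8, 15] (.step [11, 12, 17, 25] .fail))), (1, .fail), (1, (.step [8, 12, 8] .fail)), (1, .fail), (1, (.step [7, 12, 12, 14] (.step [11, 22] (.step [14, 16, 21, 19] .fail)))), (1, (.step [6, 13, 25, 13] .fail)), (1, .fail), (1, (.step [6, 6, 13, 7] .fail)), (1, .fail), (1, (.step [7, 7, 7, 8, 15] (.step [10, 16, 16] (.step [18, 18, 20] .fail)))), (4, .fail), (1, (.step [8, 6, 13, 13] .fail)), (4, .fail), (1, (.step [8, 13, 9, 9] (.step [13, 16, 12] (.step [14, 16, 18, 25] .fail)))), (1, .fail), (1, (.step [6, 8, 7, 8, 13] .fail)), (1, (.step [9, 14, 8, 7] (.step [10, 24, 13, 21] (.step [16, 15, 24] .fail)))), (1, .fail), (1, (.step [9, 13, 7, 12] (.step [10, 12, 21, 12] .fail))), (1, .fail), (1, (.step [7, 9, 6, 9] (.step [12, 17, 12, 12] (.step [16, 15, 19] .fail)))), (3, .fail), (1, (.step [6, 13, 14, 9] .fail)), (1, (.step [6, 12, 12, 15] (.step [10, 15, 12,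 16] (.step [14, 18, 15, 16] .fail)))), (2, .fail), (1, (.step [7, 9, 14, 8] .fail)), (1, .fail), (1, (.step [8, 12, 25] .fail)), (1, (.step [6, 6, 14, 7] (.step [10, 12, 12, 21] (.step [14, 19, 23, 14] .fail)))), (1, (.step [6, 6, 15, 9, 12] .fail)), (2, .fail), (1, (.step [6, 6, 8, 25, 9] (.step [10, 13, 24, 14] (.step [14, 19] .fail)))), (1, (.step [6, 6, 9, 13, 8] (.step [13, 16, 23] (.step [15, 18] .fail)))), (1, (.step [7, 15, 9, 9, 12] (.step [10, 13, 11, 21] .fail))), (1, (.step [6, 25, 8, 7, 12] (.step [12, 22, 11] .fail))), (1, (.step [8, 7] (.step [10, 13] (.step [15, 18, 14] .fail)))), (1, (.step [6, 12, 8, 14, 25] .fail)), (2, .fail), (1, (.step [7, 25, 9, 15] (.step [10, 22, 15, 12] (.step [19, 24, 17] .fail)))), (1, (.step [6, 9, 13, 8, 6] (.step [11, 21] (.step [14, 16, 14, 20] .fail)))), (1, (.step [9, 14, 6, 25] (.step [10, 25, 16] (.step [16, 14, 18] .fail)))), (1, (.step [6, 12, 14, 8] (.step [11, 13, 17, 14] (.step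 [15, 20, 17, 15] .fail)))), (1, (.step [9, 12, 15, 9] .fail)), (1, .fail), (1, (.step [6, 9, 12, 15] (.step [10, 24, 14, 12] (.step [17, 19] .fail)))), (1, .fail), (1, (.step [7, 12] .fail)), (1, (.step [9, 6, 12] (.step [12, 15, 12, 17] (.step [16, 22] .fail)))), (1, (.step [7, 14, 13, 8] (.step [12, 10, 24] (.step [17, 19, 15] .fail)))), (1, (.step [7, 15, 9, 9, 12] .fail)), (1, (.step [9, 6, 25] (.step [13, 10, 12] .fail))), (1, (.step [9, 15, 25] (.step [10, 21, 11, 21] .fail))), (1, (.step [6, 6, 25, 12] (.step [13, 24, 17] (.step [14, 17, 25, 19] .fail)))), (1, (.step [6, 9, 13, 6, 13] (.step [10, 22, 16] .fail))), (1, (.step [7, 8, 12, 6] .fail)), (1, (.step [6, 8, 14, 6, 25] (.step [11, 16, 13, 21] .fail))), (1, (.step [9, 25, 6] .fail)), (1, (.step [7, 25, 7, 13] .fail)), (1, (.step [6, 6] (.step [10, 22, 13, 24] .fail))), (1, (.step [7, 7, 9, 6] .fail)), (1, (.step [7, 8, 12] (.step [10, 21, 13, 22] (.step [18, 24, 19] .fail)))),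 (1, (.step [8, 12, 14, 7] (.step [10, 17, 11] (.step [15, 16, 16, 21] .fail)))), (1, (.step [7, 9, 13, 14] .fail)), (1, (.step [9, 25] (.step [10, 13, 15, 22] .fail))), (1, (.step [6, 25, 13, 13] (.step [10, 16, 22, 13] .fail))), (1, (.step [8, 14, 7] (.step [10, 17, 13] (.step [15, 16, 19, 22] .fail)))), (1, (.step [7, 7, 25, 8] (.step [11, 16, 25] .fail))), (1, .fail), (1, (.step [6, 13, 25, 9, 9] (.step [13, 11, 22] .fail))), (5, .fail), (1, (.step [6, 12, 6, 12, 7] (.step [12, 12, 10] (.step [14, 20, 14] .fail)))), (1, .fail), (1, (.step [6, 15, 7] (.step [12, 22] (.step [14, 19, 21, 23] .fail)))), (1, (.step [7, 25, 7, 13] (.step [13, 14] .fail))), (2, .fail), (1, (.step [6, 14, 8, 12] (.step [10, 13, 22] (.step [14, 16, 15] .fail)))), (2, .fail), (1, (.step [6, 8, 13] .fail)), (1, .fail), (1, (.step [8, 13, 9, 12] (.step [10, 10, 15, 12, 12] .fail))), (1, (.step [6, 6, 12, 9] .fail)), (1, (.step [6, 8, 12, 14] (.step [10, 15, 12]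 .fail))), (1, .fail), (1, (.step [6, 8, 14, 12, 14] .fail)), (1, (.step [9, 14, 9, 7] .fail)), (1, (.step [6, 13, 9, 13] (.step [11, 12, 12, 11] (.step [14, 18, 14] .fail)))), (1, (.step [7, 8, 15, 7] (.step [12, 11, 13] (.step [14, 22, 19, 21] .fail)))), (3, .fail), (1, (.step [9, 12, 15, 12] (.step [12, 11, 22] (.step [14, 18, 15, 24] (.step [22] .fail))))), (1, (.step [7, 13, 15, 7] .fail)), (1, .fail), (1, (.step [6, 12, 8, 7] .fail)), (1, (.step [8, 6, 8, 13] (.step [10, 22, 12, 23] (.step [18, 23, 17] .fail)))), (1, (.step [7, 13, 9, 25, 9] (.step [10, 24, 13] (.step [17, 19, 21] .fail)))), (1, (.step [6, 25, 8, 6] (.step [10, 12, 17, 23] .fail))), (1, .fail), (1, (.step [9, 14, 25, 7] (.step [10, 13, 16, 14] .fail))), (1, .fail), (1, (.step [6, 6, 6, 12] .fail)), (1, (.step [8, 13, 9] (.step [10, 13, 23, 14] (.step [15, 19, 14] .fail)))), (3, .fail), (1, (.step [7, 14, 9, 7] .fail)), (1, (.step [9, 6] (.step [11, 21, 12] (.step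 [17, 23, 19] .fail)))), (1, (.step [9, 9, 25, 6] (.step [11, 22, 11] (.step [17, 19, 21] .fail)))), (1, (.step [9, 15, 12, 9] (.step [10, 12, 16, 15] (.step [14, 21, 19, 23] .fail)))), (3, .fail), (1, (.step [7, 8, 8, 12] (.step [12, 24, 11] .fail))), (1, (.step [6, 8, 14, 9, 25] .fail)), (2, .fail), (1, (.step [6, 25, 7, 7] (.step [10, 23] (.step [15, 20, 17] .fail)))), (1, (.step [7, 8, 14, 6] (.step [10, 24, 14, 12] .fail))), (1, (.step [6, 14, 9, 13] .fail)), (1, (.step [7, 13, 7, 25] (.step [13, 23, 15] (.step [19, 14] .fail)))), (1, .fail), (1, (.step [7, 8, 7] .fail)), (1, .fail), (1, (.step [6, 13, 13, 25, 9] .fail)), (1, (.step [8, 13, 7, 14] (.step [10, 22, 15, 13] .fail))), (1, (.step [6, 8, 13, 13, 15] (.step [10, 15, 22, 13] .fail))), (1, .fail), (1, (.step [7, 25, 12, 6] .fail)), (1, (.step [6, 6, 25, 8] .fail)), (1, (.step [9, 14, 12, 15] (.step [10, 15, 11] (.step [19, 22] .fail)))), (1, .fail), (1, (.step [9, 12, 14,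 9] (.step [10, 13] (.step [15, 20] .fail)))), (1, .fail), (1, (.step [9, 9, 7, 8] .fail)), (2, .fail), (1, (.step [6, 6, 9, 14, 12] (.step [11, 12, 15] .fail))), (5, .fail), (1, (.step [7, 8, 13, 9] .fail)), (1, .fail), (1, (.step [7, 13] (.step [13, 21, 13] (.step [18, 15, 16] (.step [20, 24] (.step [] (.done [4, 4, 4, 4, 4, 4, 4, 4, 4, 4, 4, 4, 4, 4, 4, 4, 4, 4]))))))), (1, .fail), (1, (.step [7, 12, 6, 12] (.step [10, 17] .fail))), (1, .fail), (1, (.step [6, 9, 6, 15] (.step [13, 13, 15, 17] (.step [17, 20, 19] .fail)))), (1, .fail), (1, (.step [8, 13, 7] .fail)), (1, (.step [6, 8, 6, 15, 6] (.step [10, 12, 17, 14] .fail))), (1, .fail), (1, (.step [7, 9, 15, 7, 13] .fail)), (4, .fail), (1, (.step [6, 8, 13, 14] (.step [10, 12, 17] .fail))), (1, (.step [8, 12, 25, 7] .fail)), (2, .fail), (1, (.step [9, 25] (.step [10, 21, 11] .fail))), (1, .fail), (1, (.step [6] (.step [10, 23, 10, 12] .fail))), (1, .fail), (1, (.step [6, 8, 14, 6]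 (.step [10, 13, 22, 11] (.step [15, 18, 15, 23] .fail)))), (1, (.step [6, 13, 25, 12, 12] .fail)), (1, .fail), (1, (.step [7, 14, 25] (.step [10, 13, 13, 24] (.step [15] .fail)))), (1, .fail), (1, (.step [6, 8, 7, 25, 6] .fail)), (1, (.step [6, 8, 13, 8] (.step [10, 23, 10] (.step [14, 22, 16, 20] .fail)))), (4, .fail), (1, (.step [6, 13, 6, 9] (.step [10, 15, 10, 10] .fail))), (1, .fail), (1, (.step [9, 6, 25, 12] .fail)), (1, .fail), (1, (.step [6, 8, 15] (.step [11, 22] .fail))), (1, (.step [6, 12, 8, 15, 12] (.step [12, 11, 13, 11] (.step [18, 18, 18] .fail)))), (1, .fail), (1, (.step [6, 13, 14, 12] (.step [13, 23, 10] (.step [14, 20, 23] .fail)))), (2, .fail), (1, (.step [6, 8, 7, 8, 7] (.step [10, 16, 10, 14] (.step [14, 21, 17] .fail)))), (1, (.step [6, 14, 13, 6] .fail)), (1, (.step [6, 8, 12, 7] (.step [11, 13, 11] (.step [18, 24, 18] .fail)))), (1, .fail), (1, (.step [9, 12, 12, 15] (.step [13, 10, 21] (.step [19, 21] .fail)))),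 (1, (.step [7, 14, 8, 8] .fail)), (1, (.step [9, 14, 13] (.step [11, 13, 14, 25] .fail))), (1, .fail), (1, (.step [7, 9, 9] .fail)), (1, (.step [6, 8, 7, 14] .fail)), (1, (.step [7, 14, 9, 14] .fail)), (1, (.step [6, 6, 15, 8] (.step [10, 23, 12, 24] (.step [16, 22, 18, 20] .fail)))), (1, (.step [7, 12, 9, 13] (.step [12, 11, 14] .fail))), (1, (.step [9, 15, 9, 15] .fail)), (1, .fail), (1, (.step [6, 13, 13, 6] (.step [10, 15, 13, 11] (.step [16, 16] .fail)))), (1, (.step [6, 15, 8, 15, 25] (.step [12, 21, 17] (.step [15, 17, 14, 19] .fail)))), (1, .fail), (1, (.step [9, 25, 9, 15] (.step [13, 15, 24] .fail))), (3, .fail), (1, (.step [7, 9, 13, 13] (.step [10, 10, 22, 25] (.step [18, 21, 25] .fail)))), (1, (.step [9, 14, 25] (.step [10, 15, 25, 16] .fail))), (1, (.step [9, 25, 6, 9] .fail)), (1, .fail), (1, (.step [9, 15, 8] (.step [10, 25, 17, 12] (.step [16, 15, 20] .fail)))), (1, (.step [6, 13, 6, 15] (.step [10, 21, 10] .fail))),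 (1, .fail), (1, (.step [7, 15, 12, 6] .fail)), (1, (.step [7, 12, 9, 9] .fail)), (1, (.step [8, 15, 9] .fail)), (1, (.step [6, 9, 6, 15, 25] .fail)), (1, (.step [6, 9, 6, 12, 12] .fail)), (1, (.step [9, 13, 7] .fail)), (1, (.step [9, 14, 9, 7] .fail)), (1, (.step [6, 9, 13, 8] (.step [10, 13, 17, 24] .fail))), (2, .fail), (1, (.step [9, 6, 9, 15, 9] (.step [10, 10, 13, 16] (.step [14, 19, 24] .fail)))), (1, (.step [7, 13, 7, 13] (.step [10, 17] .fail))), (1, (.step [6, 13, 13] .fail)), (1, (.step [6, 6, 13, 6, 6] .fail)), (1, (.step [6, 8, 15, 12] .fail)), (1, .fail), (1, (.step [8, 15, 25, 9] (.step [11, 13, 17, 11] .fail))), (1, (.step [7, 9, 6, 14] (.step [10, 17, 10, 15] (.step [16, 15, 25] .fail)))), (1, (.step [9, 9, 15, 7] .fail)), (2, .fail), (1, (.step [6, 9, 6, 6, 13] (.step [12, 12, 15] .fail))), (1, (.step [6, 12, 8, 13] .fail)), (1, (.step [9, 6, 8] (.step [12, 12, 22] (.step [14, 18, 15, 24] .fail)))), (1, (.step [8, 15,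 9, 7] (.step [10, 10, 23] (.step [18, 15, 18] .fail)))), (1, (.step [6, 6, 15, 8, 25] (.step [10, 24, 11] .fail))), (1, (.step [7, 15, 9] (.step [12, 10, 15] (.step [16, 22, 18] .fail)))), (2, .fail), (1, (.step [6, 6, 12, 7] (.step [10, 13, 22, 11] (.step [15, 20, 18] .fail)))), (1, .fail), (1, (.step [7, 12, 7, 15, 25] (.step [10, 22, 12, 21] (.step [14, 19, 15] (.step [22] (.step [25] (.done [4, 4, 4, 4, 4]))))))), (1, (.step [8, 14, 9, 7] (.step [10, 12, 14, 22] (.step [16, 15, 24] .fail)))), (1, (.step [9, 9, 13, 25] .fail)), (1, (.step [6, 9, 13, 7] (.step [10, 24, 13, 16] .fail))), (1, (.step [7, 25, 12, 15] .fail)), (1, .fail), (1, (.step [6, 8, 7, 8, 13] (.step [11, 16, 10, 15] (.step [15, 16, 14, 25] .fail)))), (1, .fail), (1, (.step [9, 14, 6, 9] (.step [12, 10, 14] (.step [16, 23, 16] .fail)))), (2, .fail), (1, (.step [8, 13, 9] (.step [10, 13, 23, 14] (.step [15, 19, 14] .fail)))), (1, (.step [8, 7] (.step [10, 22, 11, 12]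 .fail))), (1, .fail), (1, (.step [6, 14, 9, 12, 12] (.step [10, 13, 17, 24] (.step [15, 16, 21] (.step [20, 21, 24] .fail))))), (3, .fail), (1, (.step [6, 9, 12, 9, 7] (.step [10, 15, 23, 10] (.step [14, 19, 22] .fail)))), (1, (.step [6, 15, 6, 12] (.step [12, 10, 17] .fail))), (1, (.step [8, 25, 7, 12] (.step [12, 17, 23] .fail))), (1, (.step [7, 13, 6, 14] .fail)), (2, .fail), (1, (.step [7, 9, 15, 6] .fail)), (1, .fail), (1, (.step [6, 12, 9, 9, 15] .fail)), (1, .fail), (1, (.step [9, 14, 7, 13] (.step [10, 10, 13, 14] .fail))), (1, (.step [7, 9, 9, 14] (.step [10, 15, 12] .fail))), (1, (.step [9, 14, 8, 13] .fail)), (1, .fail), (1, (.step [6, 8, 13, 25] .fail)), (1, (.step [8, 7, 7, 8] (.step [10, 24, 12, 12] (.step [14, 18, 21, 18] .fail)))), (2, .fail), (1, (.step [6, 15, 8, 15, 6] .fail)), (1, (.step [9, 12, 6, 25] (.step [12, 12, 14] (.step [14, 16, 19, 14] .fail)))), (1, (.step [9, 25, 8, 13] (.step [12, 11, 14, 21] (.step [16,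 21, 18] .fail)))), (1, .fail), (1, (.step [6, 13, 15, 25, 8] .fail)), (1, (.step [7, 25, 12, 9] (.step [10, 12, 23, 10] (.step [14, 16, 15, 22] .fail)))), (1, (.step [6, 8, 6, 12] .fail)), (1, (.step [7, 7, 9, 7] (.step [10, 15, 24, 10] (.step [14, 20, 16] .fail)))), (1, (.step [7, 7, 8, 6] (.step [10, 22, 10, 24] (.step [16, 15, 25] .fail)))), (1, (.step [6, 6, 6, 13, 25] (.step [10, 10, 15, 12, 12] .fail))), (1, (.step [6, 13, 25, 7] (.step [10, 17, 22, 11] .fail))), (1, .fail), (1, (.step [6, 13, 9] .fail)), (1, (.step [6, 8, 13, 9] (.step [13, 15, 22] .fail))), (2, .fail), (1, (.step [8, 12, 9] (.step [10, 15, 16] (.step [17, 20, 17] .fail)))), (1, (.step [8, 8, 7, 13] .fail)), (2, .fail), (1, (.step [7, 9, 12, 9] (.step [13, 15, 10] (.step [14, 17, 17, 21] .fail)))), (1, (.step [6, 9, 13, 13] (.step [10, 16, 10, 14] .fail))), (1, (.step [6, 6, 13, 8, 6] .fail)), (1, (.step [6, 6, 6, 8, 6] .fail)), (1, .fail), (1, (.step [7, 7, 7,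 9] .fail)), (2, .fail), (1, (.step [6, 12, 12, 7] (.step [11, 21, 10] (.step [14, 24] .fail)))), (1, (.step [8, 25, 7, 12] (.step [10, 13, 16, 12] .fail))), (1, (.step [9, 12, 12, 15] (.step [10, 10, 12, 23] .fail))), (1, (.step [9, 14, 7, 14] (.step [10, 22, 11, 22] (.step [18, 22] .fail)))), (1, .fail), (1, (.step [6, 6, 13, 8, 6] .fail)), (1, (.step [9, 13, 6, 15] (.step [13, 23, 13] (.step [14, 16, 19, 14] .fail)))), (1, .fail), (1, (.step [6, 6, 13, 7, 25] (.step [12, 15, 17] (.step [14, 19, 20, 22] .fail)))), (1, .fail), (1, (.step [9, 12, 14, 12] (.step [11, 12, 21, 13] .fail))), (1, .fail), (1, (.step [6, 6, 14, 9] .fail)), (1, (.step [9, 15, 12, 9] .fail)), (1, (.step [7, 12, 6, 13] (.step [10, 22, 12] .fail))), (1, .fail), (1, (.step [9, 12, 9, 7] (.step [13, 14, 17] .fail))), (3, .fail), (1, (.step [6, 12, 15, 13] (.step [12, 22, 16, 12] (.step [17, 15] .fail)))), (3, .fail), (1, (.step [9, 12, 7] (.step [11, 12, 23, 12] (.step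 [15, 17, 15] .fail)))), (1, (.step [6, 9, 6, 15] .fail)), (1, .fail), (1, (.step [7, 8, 15, 9] (.step [10, 17, 21] .fail))), (1, (.step [6, 8, 13, 15, 12] (.step [13, 23, 15] (.step [14, 22, 16, 20] .fail)))), (1, (.step [6, 6, 8, 25, 8] (.step [11, 12, 14] (.step [14, 16, 22] .fail)))), (1, (.step [6, 8, 7, 9, 14] .fail)), (1, (.step [8, 15, 7, 9] .fail)), (1, .fail), (1, (.step [6, 8, 13, 9, 25] (.step [10, 24, 13, 15] .fail))), (2, .fail), (1, (.step [6, 13, 13, 8] (.step [13, 10, 13] .fail))), (1, .fail), (1, (.step [9, 12, 9, 7] .fail)), (1, (.step [8, 7, 7, 9] (.step [10, 12, 11, 16] (.step [16, 15, 17] .fail)))), (1, (.step [6, 6, 6, 15, 8] (.step [10, 13, 11, 22] .fail))), (1, (.step [8, 13, 7] (.step [10, 16, 15, 12] (.step [14, 16, 22, 15] .fail)))), (1, (.step [7, 8, 6] .fail)), (1, (.step [6, 25, 9, 7] .fail)), (1, (.step [9, 6, 25, 6] (.step [10, 16, 10] (.step [14, 22, 19, 21] (.step [20, 21, 24] .fail))))), (1, (.step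 [9, 6, 9] .fail)), (1, .fail), (1, (.step [6, 12, 9] (.step [13, 14, 17, 22] (.step [16, 19] .fail)))), (3, .fail), (1, (.step [7, 7, 25, 9] .fail)), (1, (.step [8, 14, 13] .fail)), (1, (.step [7, 9, 7, 12] .fail)), (1, .fail), (1, (.step [6, 8, 7, 25, 13] (.step [11, 12, 12] .fail))), (3, .fail), (1, (.step [8, 14, 9, 6] .fail)), (1, .fail), (1, (.step [6, 9, 7, 15, 8] .fail)), (1, (.step [8, 13, 25] .fail)), (1, .fail), (1, (.step [7, 8, 12, 8] (.step [10, 12, 11, 12] (.step [15, 18, 25] .fail)))), (1, (.step [6, 25, 12] .fail)), (1, (.step [6, 9, 7, 9, 14] (.step [10, 13, 15, 21] (.step [14, 16, 22, 15] .fail)))), (1, (.step [8, 15, 12] (.step [10, 12, 11, 16] (.step [15, 19, 22] .fail)))), (1, (.step [6, 6, 25, 8] .fail)), (1, .fail), (1, (.step [6, 6, 8, 25, 12] .fail)), (1, (.step [9, 13, 13, 7] (.step [12, 11, 14, 21] .fail))), (1, (.step [7, 25, 7, 12] .fail)), (1, (.step [6, 6, 25, 8] .fail)), (1, (.step [7, 25, 9, 15] (.step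 [12, 12] .fail))), (1, (.step [6, 6, 9, 15, 13] (.step [13, 13, 23] .fail))), (1, (.step [6, 15] .fail)), (1, (.step [7, 15, 8, 12] .fail)), (1, .fail), (1, (.step [8, 13, 14, 25] (.step [10, 12, 11, 16] (.step [18, 21] .fail)))), (1, .fail), (1, (.step [6, 6, 8, 12, 14] (.step [13, 24, 10] .fail))), (1, (.step [9, 15, 13] (.step [10, 17, 25] .fail))), (1, (.step [9, 6, 25, 12] (.step [11, 13, 14, 23] (.step [14, 16, 25, 16] .fail)))), (1, .fail), (1, (.step [7, 7, 14, 12, 6] (.step [12, 11, 15, 13] .fail))), (1, (.step [7, 7, 13, 13] (.step [11, 21, 14] (.step [16, 15, 16, 15] .fail)))), (1, .fail), (1, (.step [9, 6, 25, 13] .fail)), (1, (.step [6, 6, 12, 15] .fail)), (1, (.step [8, 12, 15, 8] (.step [12, 25, 10] (.step [14, 18, 20] (.step [22] .fail))))), (1, .fail), (1, (.step [7, 13, 6, 6, 13] (.step [10, 15, 21, 14] (.step [15, 19, 22] .fail)))), (1, .fail), (1, (.step [6, 13, 13, 8] (.step [10, 15, 21, 13] .fail))), (1, .fail),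 (1, (.step [6, 9, 12, 12, 6] .fail)), (1, (.step [8, 6, 15] (.step [10, 12, 16] (.step [18, 24, 17] .fail)))), (1, (.step [6, 25, 6, 13] .fail)), (1, (.step [7, 12, 7, 25] (.step [13, 14, 16] .fail))), (1, (.step [9, 13, 7] (.step [10, 12, 15] (.step [17, 22, 14] .fail)))), (1, .fail), (1, (.step [6, 14, 8, 25, 12] .fail)), (1, .fail), (1, (.step [6, 9, 6] .fail)), (1, (.step [8, 15, 9, 7] (.step [10, 22, 12, 21] (.step [14, 19, 15] .fail)))), (1, (.step [6, 8, 14, 9, 6] (.step [13, 11, 16] (.step [14, 17, 15, 22] .fail)))), (4, .fail), (1, (.step [6, 13, 9, 9, 13] .fail)), (1, .fail), (1, (.step [7, 13, 9, 13] .fail)), (1, (.step [7, 14, 25, 9] (.step [10, 13, 23, 17] .fail))), (1, .fail), (1, (.step [6, 12, 15, 9, 7] (.step [10, 17, 13, 22] (.step [14, 16, 24, 16] .fail)))), (1, (.step [6, 14, 8, 6, 25] (.step [10, 10, 14, 13] (.step [16, 22, 18, 20] .fail)))), (1, .fail), (1, (.step [6, 8, 6, 13, 13] .fail)), (1, (.step [8, 13, 15,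 6] (.step [10, 15, 11, 12] (.step [14, 16, 23] .fail)))), (1, (.step [6, 6, 8, 8] (.step [10, 15, 12] (.step [15, 16, 24, 16] .fail)))), (1, (.step [8, 14] (.step [10, 15, 23] (.step [14, 17] (.step [20, 23] (.step [] (.done [4, 4, 4, 4, 4, 4, 4, 4]))))))), (1, .fail), (1, (.step [7, 25, 13, 25] (.step [12, 15, 13] (.step [14, 20, 22] .fail)))), (4, .fail), (1, (.step [6, 13, 8, 14] (.step [10, 15, 23] .fail))), (1, (.step [7, 12, 6, 13] (.step [10, 22, 12] .fail))), (1, (.step [6, 14, 8, 6, 25] .fail)), (1, .fail), (1, (.step [6, 6, 9, 13, 8] (.step [12, 15, 11] (.step [17, 22, 16] .fail)))), (2, .fail), (1, (.step [6, 6, 13, 15, 25] (.step [10, 10, 16, 11] (.step [15, 17, 18] .fail)))), (1, (.step [6, 13, 13, 8] (.step [13, 10, 13] .fail))), (1, (.step [6, 14, 9, 6, 9] .fail)), (1, (.step [7, 9, 9, 7] (.step [12, 23, 11] (.step [14, 23, 15, 19] .fail)))), (1, .fail), (1, (.step [6, 9, 6, 15] (.step [11, 12, 23, 12] .fail))), (1, (.step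 [6, 6, 13, 25] (.step [10, 12, 12, 21] (.step [14, 20, 14] .fail)))), (1, .fail), (1, (.step [9, 12, 9, 14] (.step [13, 13, 15] .fail))), (1, (.step [6, 6, 13, 7, 15] (.step [10, 13, 14, 10] (.step [16, 15, 24] (.step [20, 22] (.step [] (.done [4, 4, 4, 4, 4, 4, 4, 4, 4, 4, 4]))))))), (1, .fail), (1, (.step [9, 6, 9, 15, 9] (.step [10, 17, 10, 17] .fail))), (1, (.step [7, 25, 12, 7] (.step [12, 12, 10, 22] (.step [14, 20, 18, 15] .fail)))), (1, .fail), (1, (.step [7, 8, 15, 25] .fail)), (1, .fail), (1, (.step [7, 13, 6, 13] (.step [10, 12, 11] (.step [15, 16, 14, 25] .fail)))), (1, (.step [6, 6, 13, 7, 13] (.step [13, 24, 13] (.step [15, 20, 15] .fail)))), (1, (.step [6, 25] .fail)), (1, (.step [7, 8, 6, 9] .fail)), (1, .fail), (1, (.step [6, 14, 7, 14] (.step [10, 24, 13, 21] .fail))), (1, .fail), (1, (.step [7, 14, 6, 8] (.step [10, 13, 23] (.step [18, 21, 16] (.step [20, 22] .fail))))), (1, (.step [6, 13, 25, 9] (.step [10, 17, 13,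 14] .fail))), (1, (.step [7, 9, 15, 9, 25] .fail)), (1, (.step [6, 12, 9, 9, 15] (.step [10, 10, 16, 10] .fail))), (1, .fail), (1, (.step [8, 13, 6, 6] (.step [13, 22, 15] .fail))), (1, .fail), (1, (.step [6, 25, 8] (.step [13, 10, 13] (.step [17] .fail)))), (1, .fail), (1, (.step [8, 8, 6, 15] .fail)), (1, (.step [8, 14, 6, 8] .fail)), (2, .fail), (1, (.step [6, 8, 25] (.step [11, 12, 10, 16] (.step [16, 18, 24] .fail)))), (1, (.step [6, 12, 8, 15, 12] .fail)), (1, (.step [9, 12, 9] .fail)), (1, (.step [7, 7, 14, 9] .fail)), (2, .fail), (1, (.step [6, 8, 15, 7] (.step [10, 22, 10, 21] .fail))), (1, (.step [6, 8, 25, 7, 13] (.step [12, 10, 13, 13] .fail))), (1, (.step [8, 8, 25, 9] .fail)), (1, .fail), (1, (.step [6, 15, 12, 6] (.step [12, 22, 13, 21] .fail))), (2, .fail), (1, (.step [6, 12, 9, 15] (.step [10, 15, 10, 17] (.step [18, 21, 16] .fail)))), (1, (.step [6, 6, 15, 8, 12] .fail)), (1, (.step [6, 25, 13, 7] (.step [10, 25, 13,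 10] (.step [14, 16, 20, 16] .fail)))), (2, .fail), (1, (.step [7, 12, 9, 12] (.step [12, 21] .fail))), (1, (.step [8, 13, 6, 6] (.step [11, 21, 12, 21] .fail))), (2, .fail), (1, (.step [6, 13, 15, 25, 7] .fail)), (1, .fail), (1, (.step [7, 9, 6, 14] (.step [10, 22, 12, 10] (.step [14, 17, 14] .fail)))), (1, (.step [7, 12, 6] .fail)), (1, (.step [6, 25, 8, 7, 12] (.step [12, 14, 10, 15] (.step [16, 20, 17, 25] .fail)))), (1, (.step [8, 14, 9, 7] (.step [12, 24, 15] (.step [14, 23, 14] .fail)))), (1, .fail), (1, (.step [7, 7, 14, 25, 13] .fail)), (1, .fail), (1, (.step [6, 6, 13] (.step [10, 13, 13] .fail))), (1, (.step [7, 9, 12] (.step [10, 15, 10, 21] (.step [14, 16, 20, 14] .fail)))), (2, .fail), (1, (.step [6, 6, 14, 12] (.step [10, 17, 13, 14] .fail))), (1, (.step [6, 8, 7, 8, 13] (.step [10, 22, 16] .fail))), (1, .fail), (1, (.step [6, 12, 12, 8] (.step [10, 15, 22, 12] .fail))), (1, (.step [9, 6, 9, 25] .fail)), (1, .fail), (1,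 (.step [6, 15, 13, 7] .fail)), (1, .fail), (1, (.step [7, 8, 25] (.step [10, 13, 21, 14] .fail))), (1, (.step [6, 6, 25, 13, 6] (.step [10, 16, 10, 22] .fail))), (1, (.step [7, 8, 12, 7] .fail)), (1, .fail), (1, (.step [8, 12, 7, 14] (.step [10, 10, 22, 10, 12] (.step [14, 17, 17, 20] .fail)))), (1, (.step [7, 14, 7, 12] .fail)), (1, (.step [7, 13, 7, 25] .fail)), (2, .fail), (1, (.step [9, 7, 9, 13] (.step [12, 16, 14] .fail))), (1, .fail), (1, (.step [6, 13, 25, 6] (.step [10, 21, 12, 17] (.step [16, 14, 18] .fail)))), (1, (.step [6, 12, 6, 13] (.step [10, 21, 10, 17] (.step [17, 15, 25] .fail)))), (2, .fail), (1, (.step [6, 9, 12, 14] (.step [12, 11, 13] .fail))), (1, (.step [6, 25, 9, 6, 15] .fail)), (1, (.step [6, 9, 14] (.step [12, 10, 21, 23] .fail))), (1, (.step [7, 15, 12, 7] .fail)), (1, .fail), (1, (.step [6, 12, 8, 25] (.step [10, 16, 13] (.step [18, 24, 19] (.step [20, 23] (.step [] (.done [4, 4, 4, 4, 4, 4, 4, 4, 4, 4,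 4, 4, 4, 4, 4, 4, 4, 4, 4]))))))), (1, (.step [6, 6, 6, 6, 13] (.step [12, 14, 10, 15] .fail))), (2, .fail), (1, (.step [6, 6, 6, 15] (.step [10, 15, 11] (.step [16, 18, 24] .fail)))), (1, (.step [9, 12, 6, 13] .fail)), (1, .fail), (1, (.step [8, 25, 13, 15] (.step [10, 10, 25, 10] .fail))), (1, .fail), (1, (.step [6, 12, 14, 13] .fail)), (1, (.step [6, 25, 9, 9] (.step [12, 25, 10] (.step [14, 17, 25, 19] .fail)))), (1, (.step [9, 14, 6, 6] .fail)), (1, (.step [9, 14, 9, 7] .fail)), (1, (.step [6, 9, 15, 6] (.step [11] .fail))), (2, .fail), (1, (.step [7, 13, 7, 14] (.step [12, 17, 24] .fail))), (1, (.step [7, 12, 12, 12] .fail)), (1, (.step [7, 13, 15] .fail)), (1, (.step [6, 13, 9, 13] (.step [10, 10, 16, 14] (.step [14, 18, 21, 24] .fail)))), (1, (.step [6, 12, 8, 25] .fail)), (1, .fail), (1, (.step [6, 9, 6, 8, 14] (.step [10, 13, 16, 14] (.step [14, 17, 19, 15] .fail)))), (1, (.step [7, 14, 6, 14] .fail)), (1, (.step [6, 14, 9,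 12, 12] (.step [10, 21, 13, 11] (.step [14, 20, 18, 15] .fail)))), (2, .fail), (1, (.step [8, 12, 15] (.step [12, 15, 17] (.step [15, 16, 16] .fail)))), (1, (.step [6, 25, 6, 6] (.step [10, 10, 12, 17] (.step [14, 19, 20] .fail)))), (1, (.step [6, 6, 9, 13, 8] .fail)), (1, (.step [6, 12, 7, 8, 6] (.step [10, 22, 12, 17] .fail))), (1, .fail), (1, (.step [9, 15, 6, 9] (.step [11, 22, 10, 10] (.step [16, 15, 22] (.step [20, 22] .fail))))), (1, .fail), (1, (.step [6, 8, 7, 14, 9] (.step [10, 24, 13, 15] (.step [14, 18, 18, 21] .fail)))), (1, (.step [8, 25, 13] .fail)), (1, (.step [6, 15, 25, 8] (.step [10, 13, 23, 17] (.step [14, 22] .fail)))), (1, (.step [7, 12, 6, 25, 9] .fail)), (1, .fail), (1, (.step [7, 8, 12, 12] (.step [11, 23, 10, 17] (.step [14, 16, 19, 15] .fail)))), (1, .fail), (1, (.step [6, 12, 6, 8] (.step [12, 10, 23, 15] (.step [14, 16, 14, 17] .fail)))), (1, .fail), (1, (.step [8, 6, 15] (.step [10, 12, 10, 21] .fail))),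 (1, (.step [9, 15] (.step [10, 25, 17, 12] (.step [14, 19, 20, 23] .fail)))), (1, (.step [9, 14, 9, 14] (.step [10, 22, 13, 14] (.step [15, 19, 19, 14] .fail)))), (1, (.step [6, 9, 12, 6, 12] .fail)), (1, (.step [6, 8, 25, 9] (.step [11, 16, 10, 22] .fail))), (1, .fail), (1, (.step [7, 15, 25] (.step [10, 15, 16, 11] (.step [18, 22, 14] .fail)))), (1, (.step [6, 14, 25] .fail)), (1, .fail), (1, (.step [6, 8, 6, 14] (.step [12, 11, 14] (.step [14, 17, 21] .fail)))), (1, .fail), (1, (.step [6, 13, 9, 6] .fail)), (1, (.step [7, 9, 6, 9, 6] (.step [10, 23, 13, 15] (.step [16, 18, 25] .fail)))), (1, (.step [6, 8, 6, 9] (.step [10, 16, 10, 10] (.step [19, 21, 19] .fail)))), (1, (.step [6, 8, 25, 13] .fail)), (1, (.step [8, 15, 7, 9] (.step [11, 12, 17, 25] (.step [16, 18, 14] .fail)))), (1, (.step [7, 8, 13, 8] (.step [10, 12, 12, 24] (.step [16, 16] .fail)))), (1, (.step [8, 13, 14] .fail)), (1, (.step [9, 6, 15] (.step [12, 22, 16, 12] (.step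 [15, 19, 25] .fail)))), (1, .fail), (1, (.step [9, 12, 9, 25] (.step [10, 17, 24] (.step [15] (.step [20] (.step [25] (.done [4, 4, 4]))))))), (2, .fail), (1, (.step [7, 13, 6] .fail)), (1, (.step [7, 14, 6, 9] (.step [10, 10, 14, 16] .fail))), (1, (.step [6, 13] .fail)), (1, (.step [6, 6, 8, 12, 14] (.step [12, 10, 17, 21] .fail))), (1, .fail), (1, (.step [8, 14, 8, 14] .fail)), (1, .fail), (1, (.step [6, 12, 8, 13] .fail)), (2, .fail), (1, (.step [6, 12, 6, 12, 7] (.step [12, 12, 10] (.step [14, 20, 14] .fail)))), (3, .fail), (1, (.step [7, 12, 15, 9] .fail)), (1, (.step [7, 14, 9, 25] (.step [11, 12, 12, 24] (.step [17, 20, 16] .fail)))), (1, (.step [7, 12, 6] (.step [10, 25] .fail))), (1, (.step [7, 13, 6] (.step [13, 14, 12] (.step [16, 18, 23] .fail)))), (1, .fail), (1, (.step [6, 6, 14, 7, 25] (.step [12, 21] .fail))), (1, .fail), (1, (.step [7, 7, 25, 9] (.step [10, 22, 15] (.step [16, 15, 23] .fail)))), (1, (.step [6, 13, 15,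 8] (.step [10, 13, 21, 10] (.step [18, 15, 20] .fail)))), (1, (.step [6, 14, 8, 6] (.step [10, 24, 13, 14] (.step [15, 18, 25, 18] .fail)))), (1, (.step [9, 12] (.step [10, 10, 21, 13] (.step [17, 23] .fail)))), (1, .fail), (1, (.step [6, 9, 14, 8, 14] (.step [12, 11, 14, 21] (.step [15, 16, 19] .fail)))), (1, .fail), (1, (.step [8, 12, 12, 7] (.step [10, 25, 12] (.step [17, 20, 21] .fail)))), (1, .fail), (1, (.step [8, 6, 12, 15] (.step [10, 17, 25] .fail))), (2, .fail), (1, (.step [7, 13, 25, 9] (.step [10, 15, 10] .fail))), (1, (.step [6, 6, 15, 8] .fail)), (2, .fail), (1, (.step [6, 6, 25, 9] (.step [10, 12, 10, 16] (.step [14, 20, 24] .fail)))), (1, (.step [6, 8, 6, 8] (.step [10, 21, 24] (.step [17, 20, 23] .fail)))), (1, .fail), (1, (.step [6, 6, 13, 25, 13] .fail)), (1, (.step [9, 14, 7, 8] (.step [10, 13, 23, 14] .fail))), (1, (.step [9, 9, 6, 9] (.step [11, 23, 10, 17] (.step [16, 15, 20, 15] .fail)))), (1, (.step [8, 15, 9,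 25] (.step [10, 21, 13, 21] (.step [15, 19, 23, 17] .fail)))), (1, (.step [8, 14, 8, 12] (.step [10, 25, 13] (.step [16, 22, 14, 18] .fail)))), (1, (.step [7, 7, 8, 8] (.step [10, 17, 25, 13] (.step [17, 23] .fail)))), (1, .fail), (1, (.step [7, 12, 7, 12] (.step [10, 24, 13, 25] .fail))), (1, (.step [6, 6, 6, 15, 25] (.step [10, 15, 11] (.step [18] (.step [21, 21] .fail))))), (1, (.step [7, 12, 8, 12] (.step [10, 23, 13, 16] (.step [15, 18, 24, 16] .fail)))), (2, .fail), (1, (.step [7, 15, 13] (.step [12, 22, 16, 12] (.step [14, 16, 18, 25] .fail)))), (2, .fail), (1, (.step [7, 25, 6, 15, 7] (.step [10, 10, 13, 25] .fail))), (1, (.step [6, 12, 8, 7] .fail)), (5, .fail), (1, (.step [7, 13, 14] (.step [10, 16, 21, 24] (.step [17, 20, 19] .fail)))), (1, (.step [8, 7] (.step [10, 13] (.step [15, 18, 14] .fail)))), (1, .fail), (1, (.step [9, 25, 6, 9] (.step [13, 13, 14] (.step [14, 23, 17] .fail)))), (1, (.step [6, 15, 13, 25] (.step [12,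 21, 16, 13] (.step [14, 16, 18, 22] .fail)))), (1, .fail), (1, (.step [7, 8, 12, 6] (.step [13, 21, 13] (.step [15, 18, 24, 16] (.step [20, 21] (.step [] (.done [4, 4, 4, 4, 4, 4, 4, 4, 4, 4, 4, 4, 4, 4, 4, 4]))))))), (2, .fail), (1, (.step [8, 7, 8] .fail)), (1, (.step [6, 13, 9, 9, 13] (.step [11, 21, 14] .fail))), (1, (.step [6, 13, 6, 9] .fail)), (1, (.step [8, 13, 9, 9] .fail)), (1, (.step [8, 6, 15, 13] (.step [10, 21, 14, 12] (.step [16, 23, 18] .fail)))), (1, (.step [7, 13, 6, 6] (.step [10, 12, 15, 13] (.step [15, 17, 18] .fail)))), (1, (.step [6, 8, 12, 7] (.step [12, 17, 12, 12] (.step [15, 17, 23, 17] .fail)))), (1, (.step [9, 25, 8, 15] (.step [11, 13, 16] (.step [14, 17, 21, 15] .fail)))), (2, .fail), (1, (.step [8, 25, 12, 6] (.step [13, 21, 17] .fail))), (1, (.step [6, 13, 25, 7] .fail)), (1, (.step [6, 13, 25, 6, 15] (.step [10, 10, 12, 10] .fail))), (2, .fail), (1, (.step [6, 25, 13, 7] (.step [10, 12, 11, 25] .fail))),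 (1, (.step [8, 7, 8, 12] (.step [12, 12, 22, 10] (.step [14, 21, 18, 22] .fail)))), (1, .fail), (1, (.step [6, 25, 6, 6, 6] (.step [10, 24, 13, 16] (.step [18, 21, 24] .fail)))), (3, .fail), (1, (.step [7, 8, 15, 8] (.step [10, 13, 13, 22] .fail))), (1, .fail), (1, (.step [6, 13, 15, 12, 8] .fail)), (1, (.step [7, 8, 7, 9] (.step [12, 21] (.step [19, 22, 17] .fail)))), (1, .fail), (1, (.step [8, 15, 8, 7] .fail)), (1, (.step [6, 13, 25] .fail)), (1, (.step [6, 14, 8, 6, 25] .fail)), (1, (.step [6, 9, 6, 25] .fail)), (4, .fail), (1, (.step [6, 14, 7, 9] .fail)), (1, (.step [7, 7, 14, 25, 13] .fail)), (1, (.step [6, 12, 6, 8, 15] (.step [10, 10, 22, 10, 12] .fail))), (1, (.step [9, 14, 9, 14] (.step [10, 16, 22] (.step [14, 18, 18] .fail)))), (1, .fail), (1, (.step [9, 12, 6, 25] .fail)), (1, (.step [6, 6, 6, 14, 25] (.step [10, 17, 11, 21] (.step [14, 17, 15, 22] .fail)))), (1, (.step [6, 25, 6, 8, 13] (.step [10, 13, 17, 12] (.step [14,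 18, 21] .fail)))), (1, (.step [6, 14, 8, 25, 12] .fail)), (1, (.step [7, 9, 13, 9] .fail)), (1, (.step [6, 15, 8, 25] (.step [12, 17, 13] (.step [15, 17, 15] .fail)))), (3, .fail), (1, (.step [9, 6, 14, 7] .fail)), (1, (.step [8, 7, 13, 9] (.step [11, 13, 14, 17] .fail))), (2, .fail), (1, (.step [6, 13, 15] (.step [10, 16, 21, 15] .fail))), (1, (.step [6, 6, 8, 12] .fail)), (1, (.step [8, 14, 7] (.step [10, 17, 13] (.step [15, 16, 19, 22] .fail)))), (2, .fail), (1, (.step [6, 12, 12, 8] (.step [12, 10, 24, 15] (.step [15, 16, 14] .fail)))), (3, .fail), (1, (.step [6, 9, 15, 9] (.step [10, 24, 12, 24] .fail))), (1, (.step [9, 14, 6, 9] (.step [12, 17, 22] (.step [14, 17, 23] .fail)))), (1, .fail), (1, (.step [6, 15, 8, 6] (.step [11, 25] (.step [18, 24, 25] .fail)))), (1, (.step [6, 8, 12, 6] (.step [10, 12, 12, 23] .fail))), (1, .fail), (1, (.step [8, 25] (.step [13, 10, 15] (.step [14, 18, 18] .fail)))), (2, .fail), (1, (.step [7, 8,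 12, 15] (.step [13, 23, 13] .fail))), (1, (.step [8, 7, 8, 12] (.step [10, 22, 16] .fail))), (1, .fail), (1, (.step [7, 25, 12, 15] (.step [13, 15, 21, 12] (.step [16, 15, 24, 14] .fail)))), (1, (.step [6, 12, 14] (.step [13, 23, 14] .fail))), (1, .fail), (1, (.step [6, 6, 6, 15, 12] (.step [10, 23, 11, 12] .fail))), (1, .fail), (1, (.step [6, 25, 6, 13] (.step [10, 16, 25, 12] (.step [16, 16, 23] .fail)))), (1, .fail), (1, (.step [7, 9, 13, 9] (.step [10, 10, 13, 10] .fail))), (1, (.step [6, 6, 15, 25, 13] (.step [11, 21, 10, 17] (.step [16, 18, 24] .fail)))), (1, .fail), (1, (.step [8, 14, 9, 6] .fail)), (1, (.step [6, 12, 7, 8] (.step [12, 17, 21] (.step [15, 16, 19, 14] .fail)))), (1, (.step [9, 6, 8, 14] (.step [10, 17, 12, 10] (.step [15, 19, 22] .fail)))), (1, (.step [6, 15] (.step [12, 15] (.step [14, 16, 25, 16] .fail)))), (1, (.step [6, 14, 9, 12] .fail)), (1, (.step [7, 7, 12, 8, 7] (.step [12, 11, 13, 13] .fail))), (1, .fail),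 (1, (.step [8, 12, 6, 14] .fail)), (1, (.step [7, 9, 6, 14] (.step [12, 12, 14] (.step [16, 22, 18] .fail)))), (1, (.step [8, 13, 7] (.step [12, 10, 15, 23] .fail))), (2, .fail), (1, (.step [6, 6, 6, 8, 7] (.step [12, 17, 21] .fail))), (1, (.step [] (.step [] (.step [] (.step [] (.step [] (.done [4, 4, 4, 4, 4, 4, 4, 4, 4, 4, 4, 4, 4, 4, 4, 4, 4, 4, 4, 4, 4, 4]))))))), (2, .fail), (1, (.step [6, 8, 12, 25, 12] (.step [10, 15, 13, 11] .fail))), (1, (.step [6, 14, 8, 25] .fail)), (1, (.step [6, 9, 15, 7] (.step [11, 12, 17] (.step [15, 17, 20] .fail)))), (1, .fail), (1, (.step [6, 9, 12, 14] .fail)), (1, (.step [7, 13, 7, 25, 7] (.step [12, 11, 21] (.step [17, 18, 15] .fail)))), (2, .fail), (1, (.step [6, 6, 12, 9, 7] (.step [10, 13, 10] (.step [16, 14, 19] .fail)))), (3, .fail), (1, (.step [6, 12] (.step [10, 21, 11, 16] (.step [14, 23, 15, 22] .fail)))), (1, (.step [] .fail)), (1, (.step [9, 14, 9] (.step [10, 15, 16, 12] (.step [14,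 21, 18, 22] .fail)))), (1, (.step [6, 6, 15, 8, 12] (.step [11, 12, 22] (.step [16, 19, 15] .fail)))), (1, (.step [6, 9, 13] (.step [10, 21, 13, 22] .fail))), (2, .fail), (1, (.step [8, 25, 12, 7] .fail)), (1, (.step [8, 6, 8, 7] (.step [10, 10, 14] .fail))), (2, .fail), (1, (.step [7, 15, 13, 9] .fail)), (1, .fail), (1, (.step [6, 6, 14, 7] (.step [11, 12, 21, 13] .fail))), (1, (.step [6, 9, 7, 15] (.step [11, 21, 14] .fail))), (1, (.step [8, 7, 15, 9, 12] .fail)), (1, .fail), (1, (.step [6, 9, 13, 8] (.step [10, 13, 17, 24] .fail))), (1, (.step [6, 25, 6, 14] .fail)), (1, (.step [6, 25, 7, 13, 7] .fail)), (1, (.step [6, 8, 14, 25] .fail)), (1, (.step [9, 12, 6, 25] (.step [12, 15, 17] (.step [16, 15, 16] .fail)))), (2, .fail), (1, (.step [8, 7, 8, 7] (.step [10, 15, 10, 10] (.step [17, 20, 22] .fail)))), (1, (.step [7, 15, 12, 14] (.step [10, 17, 12, 24] .fail))), (1, (.step [8, 14, 7] (.step [13, 15, 23] (.step [14, 18, 20, 19] .fail)))),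 (1, (.step [7, 7, 9, 13] .fail)), (1, .fail), (1, (.step [6, 13, 14, 25] .fail)), (1, (.step [9, 6, 12, 14] .fail)), (1, .fail), (1, (.step [8, 7, 8, 12] (.step [13, 24, 13] .fail))), (1, (.step [7, 7, 12, 6] .fail)), (1, .fail), (1, (.step [7, 25, 12, 25] (.step [11, 22, 17] .fail))), (1, (.step [9, 6, 14, 8] (.step [10, 12, 15, 13] (.step [18, 25, 17] .fail)))), (1, (.step [6, 12, 8, 15, 12] (.step [12, 11, 13, 11] (.step [18, 18, 18] .fail)))), (1, (.step [6, 8, 7, 14, 13] .fail)), (1, (.step [6, 12, 6, 13, 25] .fail)), (2, .fail), (1, (.step [7, 8, 7, 12] .fail)), (3, .fail), (1, (.step [7, 12, 7, 25] (.step [11, 23, 13, 24] .fail))), (1, (.step [7, 8, 12, 12] (.step [10, 24, 10, 17] .fail))), (1, (.step [7, 8, 15, 8] .fail)), (1, (.step [9, 13, 7, 12] (.step [10, 10, 25, 10] (.step [16, 15, 22] .fail)))), (1, .fail), (1, (.step [9, 25, 12, 12] .fail)), (1, (.step [8, 14, 8, 14] .fail)), (1, (.step [6, 8, 13, 9] .fail)), (1, .fail),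 (1, (.step [6, 14, 7, 8] (.step [10, 15, 16, 11] (.step [18, 15] .fail)))), (1, .fail), (1, (.step [6, 6, 25, 7, 9] (.step [12, 16, 12] (.step [15, 20, 14] .fail)))), (1, .fail), (1, (.step [7, 15, 25, 6] .fail)), (1, (.step [7, 15, 25, 7] (.step [10, 12] .fail))), (1, (.step [8, 13, 9, 12] (.step [11, 23, 13, 24] .fail))), (1, .fail), (1, (.step [7, 7, 12, 14] .fail)), (1, (.step [6, 15, 13, 25] .fail)), (1, (.step [8, 25, 13, 15] (.step [12] (.step [17, 22, 16] .fail)))), (1, (.step [6, 6, 8, 15, 6] (.step [10, 13, 21, 13] (.step [14, 16, 22] .fail)))), (1, (.step [6, 15, 8, 25] (.step [12, 23, 17, 23] .fail))), (1, (.step [7, 15, 12, 7, 13] .fail)), (1, (.step [8, 13, 14] .fail)), (1, .fail), (1, (.step [7, 14, 13, 14] .fail)), (1, .fail), (1, (.step [7, 8, 25] .fail)), (2, .fail), (1, (.step [6, 13, 14, 12] .fail)), (1, (.step [7, 15, 25, 6] (.step [11, 13, 11, 16] (.step [17, 19, 20] .fail)))), (1, (.step [7, 7, 7, 14] .fail)),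 (1, (.step [8, 15, 9, 14] (.step [13, 14, 25] .fail))), (1, (.step [6, 8, 13, 15, 12] .fail)), (1, (.step [6, 9, 7, 9, 14] (.step [12, 12, 10, 15] (.step [16, 18, 20] .fail)))), (1, (.step [7, 8, 13, 6, 13] (.step [11, 13, 11, 22] (.step [15, 17, 18] .fail)))), (1, (.step [6, 13, 25, 6, 15] (.step [10, 10, 12, 10] .fail))), (1, (.step [8, 8, 6, 15] .fail)), (1, .fail), (1, (.step [7, 9, 13, 25] .fail)), (1, .fail), (1, (.step [6, 6, 8, 25] .fail)), (1, (.step [7, 14, 9, 9] .fail)), (1, (.step [6, 14, 7, 7] (.step [10, 10, 16, 23] (.step [14, 24, 14] .fail)))), (1, (.step [6, 6, 14, 7, 25] (.step [10, 12, 15, 21] (.step [18, 15, 17] .fail)))), (1, (.step [9, 15] .fail)), (1, (.step [8, 14, 12, 12] (.step [13, 23, 14] .fail))), (1, (.step [9, 6, 9, 25] .fail)), (1, .fail), (1, (.step [8, 12, 8, 8] .fail)), (1, .fail), (1, (.step [6, 12, 6, 14, 13] .fail)), (1, (.step [6, 25, 7, 15] .fail)), (1, (.step [9, 15, 25] (.step [13, 21, 16] (.step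 [14, 20, 19] (.step [20, 21, 23] .fail))))), (1, (.step [6, 12, 8, 13, 25] .fail)), (1, (.step [6, 13, 9, 7, 14] (.step [13, 11, 13, 11] .fail))), (2, .fail), (1, (.step [7, 12, 6, 25, 9] (.step [10, 21, 15, 13] .fail))), (2, .fail), (1, (.step [6, 14, 7, 7] (.step [10, 23, 16] (.step [14, 19, 24] .fail)))), (1, (.step [8, 12, 12] .fail)), (1, .fail), (1, (.step [7, 25, 12, 15] .fail)), (1, (.step [8, 14, 8, 15] (.step [10, 10, 15, 12] (.step [14, 17, 22, 18] (.step [24] (.step [25] (.done [4, 4, 4, 4, 4, 4, 4, 4, 4]))))))), (1, .fail), (1, (.step [7, 13, 9, 13] .fail)), (2, .fail), (1, (.step [6, 9, 6, 9, 7] .fail)), (1, (.step [6, 25, 8, 6] (.step [11, 13, 22, 10] .fail))), (1, (.step [6, 6, 6, 13] .fail)), (1, .fail), (1, (.step [6, 13, 25, 13] .fail)), (1, (.step [6, 13, 6, 6] (.step [10, 17, 15, 12] (.step [14, 18, 14, 22] (.step [20] (.step [] (.done [4, 4, 4, 4]))))))), (1, (.step [7, 9, 15, 9, 25] (.step [10, 16, 15, 17] .fail))),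 (1, (.step [7, 9, 9, 6] (.step [10, 15, 13, 25] (.step [16, 14, 24] .fail)))), (1, .fail), (1, (.step [8, 6, 9] .fail)), (1, (.step [8, 15, 9, 14] (.step [10, 12, 17, 23] .fail))), (1, (.step [7, 13, 6] (.step [10, 10, 14, 11] (.step [14, 16, 14, 21] .fail)))), (1, (.step [6, 15, 8, 6] .fail)), (1, (.step [6, 6, 25, 9, 12] .fail)), (1, .fail), (1, (.step [6, 13, 25, 12, 12] (.step [10, 17, 21] (.step [14, 18, 14, 18] .fail)))), (1, (.step [9, 13, 6, 9] .fail)), (2, .fail), (1, (.step [6, 14, 7] (.step [10, 17] (.step [14, 16, 18, 23] .fail)))), (1, (.step [6, 25, 9, 14] (.step [10, 22, 13, 10] .fail))), (1, .fail), (1, (.step [6, 8, 13, 9, 7] (.step [13, 24, 16] (.step [16, 20, 18] .fail)))), (2, .fail), (1, (.step [6, 8, 13, 15, 25] (.step [11, 13, 17, 14] (.step [18, 18, 15] .fail)))), (2, .fail), (1, (.step [6, 6, 13, 6, 15] .fail)), (2, .fail), (1, (.step [6, 25, 7, 8, 13] .fail)), (1, (.step [6, 13, 14, 13, 9] (.step [12, 12, 10,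 17] .fail))), (1, (.step [7, 12, 6] (.step [12, 14, 10, 15] (.step [17, 19, 22, 18] .fail)))), (1, (.step [6, 12, 9, 12, 12] (.step [10, 22, 10, 24] (.step [14, 16, 15, 22] .fail)))), (1, (.step [6, 15, 13, 8] .fail)), (2, .fail), (1, (.step [6, 15, 6, 6] .fail)), (1, (.step [6, 12, 15] (.step [10, 16, 15] .fail))), (1, (.step [6, 13, 13, 15] .fail)), (1, (.step [6, 12, 14, 9] (.step [10, 17, 11, 14] (.step [18, 22, 25] .fail)))), (1, (.step [7, 25, 12, 15] (.step [10, 15, 21] (.step [16, 14, 22] .fail)))), (2, .fail), (1, (.step [7, 7, 8, 6] (.step [13, 21, 10] .fail))), (1, (.step [8, 25, 7, 12] (.step [10, 15, 12, 11] (.step [14, 16, 19, 22] .fail)))), (1, (.step [8, 12, 9, 9] .fail)), (1, (.step [6, 12, 12, 15] (.step [10, 16, 13, 10] .fail))), (1, (.step [9, 6, 12, 12] .fail)), (1, (.step [6, 15, 13, 6] (.step [10, 15, 11, 12] .fail))), (1, .fail), (1, (.step [6, 6, 12, 9] (.step [10, 24, 10, 17] .fail))), (1, (.step [8, 15, 9]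 (.step [13, 22, 13] (.step [15, 16, 16, 21] .fail)))), (1, (.step [7, 15, 9] (.step [10, 24, 12, 12] (.step [16, 22, 18, 20] .fail)))), (1, (.step [6, 14, 13, 15] (.step [11, 16, 13, 21] .fail))), (1, (.step [9, 9, 12, 7] .fail)), (1, (.step [9, 7, 9] .fail)), (1, (.step [6, 8, 12, 7] (.step [12, 17, 12, 12] (.step [15, 17, 23, 17] .fail)))), (1, (.step [7, 12, 6, 15] (.step [13, 13, 16] .fail))), (3, .fail), (1, (.step [6, 8, 12, 8, 25] (.step [10, 15, 21, 13] (.step [16, 23] .fail)))), (1, (.step [8, 6] (.step [11, 13, 24, 14] (.step [14, 16, 18, 20] .fail)))), (1, (.step [9, 12, 14, 6] (.step [13, 10, 15] .fail))), (1, (.step [6, 8, 7, 7, 14] (.step [10, 22, 12] .fail))), (1, .fail), (1, (.step [8, 12, 14, 7] (.step [12, 14, 17] .fail))), (1, .fail), (1, (.step [7, 15, 12, 14] .fail)), (1, (.step [6, 6, 13, 7, 13] (.step [11, 12, 21] .fail))), (1, .fail), (1, (.step [6, 12, 8, 14] .fail)), (1, (.step [6, 25, 9, 12] (.step [10, 22,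 15, 10] .fail))), (1, .fail), (1, (.step [9, 15, 13, 8] (.step [10, 13, 14, 25] .fail))), (1, (.step [7, 13, 6, 15] (.step [10, 12, 12] (.step [14, 22, 19] .fail)))), (1, .fail), (1, (.step [8, 12, 14, 6] (.step [12, 24, 10, 17] .fail))), (1, (.step [8, 15, 7, 9] (.step [11, 13, 16, 10] .fail))), (3, .fail), (1, (.step [6, 8, 12, 6] (.step [10, 16, 15] (.step [17, 19, 20] .fail)))), (1, (.step [6, 13, 6] (.step [12, 10, 15, 22] (.step [19, 21, 14] .fail)))), (1, .fail), (1, (.step [9, 9, 25, 6] .fail)), (1, (.step [6, 6, 9, 15] (.step [10, 13, 23] (.step [15, 17, 24] .fail)))), (1, .fail), (1, (.step [6, 15, 6, 6] .fail)), (1, (.step [6, 8, 14, 25] .fail))])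

/-- a piece of a certificate -/
noncomputable def cCp_1 : Cert := (Cert.rl [(1, (.step [7, 14] .fail)), (1, (.step [8, 13, 6, 12] (.step [13, 24, 16] (.step [19, 24] .fail)))), (1, .fail), (1, (.step [7, 14, 13, 14] (.step [10, 13, 22, 15] .fail))), (1, .fail), (1, (.step [7, 25, 7] (.step [10, 25, 13, 25] .fail))), (1, (.step [8, 25, 7, 12] (.step [10, 12, 14, 10] .fail))), (1, (.step [7, 15, 12, 7, 13] .fail)), (1, (.step [7, 14, 9, 6] (.step [13, 16, 10] (.step [15, 17, 24] .fail)))), (1, (.step [7, 9, 12, 6] .fail)), (2, .fail), (1, (.step [6, 13, 13, 14, 9] (.step [13, 21, 21] (.step [14, 16, 15, 17] .fail)))), (1, (.step [9, 9, 25, 8] (.step [10, 10] (.step [16, 16, 16] .fail)))), (1, (.step [8, 13, 25, 9] .fail)), (2, .fail), (1, (.step [9, 15, 7, 9] (.step [10, 13, 24, 10] (.step [18, 23, 17] .fail)))), (1, (.step [6, 6, 14, 12] (.step [10, 12, 17, 17] (.step [16, 14, 18, 15] .fail)))), (1, (.step [6, 12, 12, 15] .fail)), (1,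 (.step [8, 7, 7, 8] (.step [10, 24, 12, 12] (.step [14, 18, 21, 18] .fail)))), (1, (.step [7, 9, 9] .fail)), (1, (.step [9, 9, 6, 25] .fail)), (3, .fail), (1, (.step [6, 6, 6, 15] (.step [11, 13, 11, 16] .fail))), (1, (.step [7, 9, 15, 8] (.step [12, 23, 14] (.step [18, 21, 16] .fail)))), (1, .fail), (1, (.step [7, 7, 7, 8] .fail)), (1, (.step [7, 8, 6, 13] .fail)), (1, .fail), (1, (.step [6, 8, 12, 15] .fail)), (1, (.step [7, 8, 15, 25] (.step [10, 12, 17, 17] (.step [14, 19, 20, 25] .fail)))), (1, (.step [7, 9, 6, 8] (.step [10, 23, 12, 24] .fail))), (4, .fail), (1, (.step [8, 25, 6] (.step [10, 15, 22, 11] .fail))), (1, .fail), (1, (.step [8, 8, 6, 14] (.step [12, 25, 13] (.step [14, 17, 14, 17] .fail)))), (1, (.step [6, 6, 13, 6, 15] (.step [11, 21, 10, 17] .fail))), (2, .fail), (1, (.step [9, 15, 8] .fail)), (1, (.step [6, 15, 13, 9] .fail)), (1, (.step [6, 6, 8, 7] .fail)), (2, .fail), (1, (.step [7, 9, 12, 8] (.step [13, 11, 22]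 .fail))), (1, .fail), (1, (.step [6, 6, 13, 15] (.step [10, 16, 21, 15] (.step [14, 22, 19] .fail)))), (1, (.step [6, 15, 12, 7] (.step [12, 12, 10, 17] (.step [17, 14, 20] .fail)))), (1, (.step [8, 15, 7, 8] (.step [10, 15, 10] .fail))), (1, .fail), (1, (.step [6, 15, 6, 6] .fail)), (1, (.step [6, 15, 8, 15] (.step [10, 12, 15, 21] (.step [15, 20, 17] .fail)))), (1, (.step [8, 6, 13, 14] .fail)), (1, (.step [7, 9, 15, 9] (.step [13, 21, 12] (.step [18, 23, 17] .fail)))), (1, (.step [6, 6, 6, 13] (.step [10, 12, 25, 12] (.step [14, 20, 14, 24] .fail)))), (1, (.step [9, 25, 6] .fail)), (1, (.step [6, 6, 8, 25] (.step [10, 16, 24, 13] (.step [16, 15, 20, 15] .fail)))), (1, (.step [6, 25, 6, 9] .fail)), (1, (.step [6, 15, 13, 8, 13] (.step [10, 16, 16, 22] .fail))), (1, (.step [6, 9, 15, 9] .fail)), (1, (.step [6, 12] .fail)), (1, .fail), (1, (.step [7, 14, 7, 9] .fail)), (1, (.step [7, 7, 8, 6] .fail)), (1, (.step [9, 12, 9, 7] .fail)),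 (2, .fail), (1, (.step [7, 8, 25, 13] (.step [10, 21, 24] .fail))), (1, (.step [6, 8, 12, 12] .fail)), (1, (.step [6, 6, 8, 12, 6] (.step [10, 16] (.step [16, 20, 17] .fail)))), (1, (.step [7, 8, 15, 7] (.step [11, 25] .fail))), (1, .fail), (1, (.step [9, 9] (.step [13, 23, 13] (.step [19, 21, 14] .fail)))), (1, (.step [8, 12] .fail)), (1, (.step [7, 13, 6, 14] .fail)), (1, (.step [6, 6, 14, 13] (.step [11, 13, 23] (.step [18, 21] .fail)))), (3, .fail), (1, (.step [6, 8, 12, 6, 15] (.step [10, 12, 17, 17] (.step [16, 18, 14] .fail)))), (1, (.step [6, 13, 9, 7] .fail)), (1, (.step [7, 12, 8, 12] .fail)), (1, .fail), (1, (.step [8, 13, 13] .fail)), (1, (.step [6, 6, 14, 9, 13] .fail)), (1, (.step [7, 12, 9, 7] (.step [10, 13] (.step [14, 18, 22, 18] .fail)))), (1, (.step [6, 6, 25, 8] .fail)), (1, (.step [6, 14] .fail)), (1, (.step [6, 12, 6, 14] (.step [12, 21, 15] (.step [15, 20, 16, 24] .fail)))), (1, (.step [7, 13, 25] .fail)), (1,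 (.step [7, 25, 6, 13] (.step [10, 12, 21, 10] .fail))), (1, (.step [6, 8, 13, 13, 15] (.step [13, 11, 22] (.step [18, 21, 16] .fail)))), (1, .fail), (1, (.step [7, 7, 14, 25] .fail)), (1, (.step [8, 14, 12, 15] (.step [10, 10, 16, 10] (.step [17, 20, 18] .fail)))), (1, (.step [7, 8, 8, 15] .fail)), (1, (.step [7, 13, 15, 25] (.step [13, 10, 15] (.step [17, 18, 14] .fail)))), (3, .fail), (1, (.step [6, 13, 14] (.step [12, 21, 15] (.step [15, 19, 25] .fail)))), (1, (.step [9, 7, 9, 13] .fail)), (1, (.step [6, 8, 25, 6] .fail)), (1, (.step [6, 12, 6, 6, 6] .fail)), (2, .fail), (1, (.step [8, 25, 7, 12] .fail)), (1, (.step [7, 15, 9, 15] .fail)), (1, (.step [6, 14, 13, 15] (.step [10, 10, 13, 14] (.step [14, 17, 22] .fail)))), (1, (.step [9, 12, 7, 25] (.step [10, 17, 12, 24] (.step [14, 16, 14, 20] .fail)))), (3, .fail), (1, (.step [6, 6, 14, 9] (.step [10, 15, 22, 12] (.step [16, 19, 15, 23] (.step [20, 25] .fail))))), (1, .fail), (1,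 (.step [8, 12, 14, 9] .fail)), (1, (.step [7, 25, 12] .fail)), (1, (.step [8, 25, 12, 7] (.step [13, 24, 16] .fail))), (4, .fail), (1, (.step [6, 12, 12, 15] (.step [10, 10, 12, 10] (.step [16, 21, 15] .fail)))), (1, (.step [9, 7, 13, 15] (.step [10, 12, 14, 10] (.step [18, 15] .fail)))), (2, .fail), (1, (.step [6, 6, 9, 6, 9] .fail)), (1, (.step [6, 12, 15, 8, 25] .fail)), (1, (.step [6, 13, 7, 8] (.step [10, 10, 12, 14] (.step [16, 16, 23] .fail)))), (1, .fail), (1, (.step [7, 9, 15, 7] (.step [10, 21, 21] (.step [14, 19, 20, 24] .fail)))), (1, (.step [8, 6, 8, 7] (.step [10, 10, 22, 10, 12] .fail))), (1, (.step [7, 14, 9, 13] .fail)), (1, .fail), (1, (.step [6, 9, 14, 8, 15] .fail)), (1, (.step [7, 9, 13, 7] (.step [10, 12, 23, 13] .fail))), (1, (.step [6, 14, 8, 13] (.step [10, 10, 12, 10] (.step [16, 15, 16, 15] .fail)))), (3, .fail), (1, (.step [7, 7, 9, 6] (.step [10, 13, 16] (.step [16, 15, 20] .fail)))), (1, (.step [6, 13, 6,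 12, 7] .fail)), (1, (.step [6, 9, 15, 9] (.step [10, 12, 23, 10] (.step [18, 14, 25] .fail)))), (1, .fail), (1, (.step [9, 6, 12, 14] .fail)), (1, (.step [7, 12, 12, 8] .fail)), (1, (.step [6, 8, 15, 25] .fail)), (1, (.step [7, 13, 6, 13] (.step [11, 12, 22] (.step [14, 21, 18] .fail)))), (4, .fail), (1, (.step [6, 12, 8] .fail)), (1, (.step [6, 9, 13, 7, 7] .fail)), (1, .fail), (1, (.step [6, 9, 15, 6, 12] .fail)), (1, .fail), (1, (.step [8, 25, 12, 9] (.step [10, 13, 23, 17] (.step [14, 16, 24] (.step [20, 23] .fail))))), (1, (.step [9, 12, 15, 8] .fail)), (1, (.step [8, 12, 7, 8] (.step [10, 15, 22, 12] (.step [14, 20, 18, 15] .fail)))), (2, .fail), (1, (.step [6, 8, 13] (.step [10, 16, 16, 22] (.step [15, 18, 20, 15] .fail)))), (1, (.step [6, 12, 6, 8, 15] (.step [12, 21, 14] .fail))), (1, (.step [7, 13, 7, 25, 7] (.step [12, 11, 21] (.step [17, 18, 15] .fail)))), (1, (.step [6, 8, 12, 14] (.step [10, 15, 12, 16] .fail))), (1, (.step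 [6, 9, 13, 15] (.step [11, 13, 25, 17] (.step [14, 16, 14, 17] .fail)))), (1, (.step [6, 8, 12, 14] .fail)), (1, .fail), (1, (.step [6, 13, 13, 14, 9] .fail)), (1, (.step [7, 9, 9, 14] (.step [10, 24, 13, 21] (.step [14, 19, 14, 16] .fail)))), (1, (.step [7, 9, 6] (.step [10, 16, 16, 22] (.step [17, 19, 20] .fail)))), (1, (.step [9, 6, 12, 14] (.step [10, 17, 21] (.step [14, 18, 20, 23] .fail)))), (1, .fail), (1, (.step [6, 25, 6, 6] (.step [10, 22, 12, 16] (.step [14, 16, 22, 14] .fail)))), (1, (.step [7, 8, 25] (.step [12, 12, 25, 11] .fail))), (1, (.step [9, 6, 14, 7] (.step [10, 25, 12, 15] (.step [16, 20, 22] .fail)))), (1, (.step [8, 13, 15, 6] (.step [10, 17, 17] .fail))), (1, (.step [6, 14, 8, 25, 12] (.step [10, 17, 22, 11] .fail))), (2, .fail), (1, (.step [6, 15, 13, 6] (.step [10, 17, 25, 13] .fail))), (1, (.step [6, 6, 13, 8, 7] (.step [12, 10, 10] (.step [14, 17, 19] .fail)))), (1, (.step [9, 13, 15, 8] .fail)), (2, .fail),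 (1, (.step [6, 12, 12] (.step [10, 10, 15] .fail))), (5, .fail), (1, (.step [6, 8, 14, 12, 14] (.step [12, 11, 23] .fail))), (1, .fail), (1, (.step [6, 8, 7, 8, 13] .fail)), (1, (.step [6, 13, 13] (.step [10, 15, 24, 11] .fail))), (1, (.step [8, 13, 25] (.step [10, 17, 12, 12] .fail))), (1, (.step [6, 8, 15, 12] (.step [12, 22, 13] .fail))), (1, (.step [6, 6, 13, 6, 25] (.step [10, 15] (.step [17, 14, 19] .fail)))), (1, (.step [7, 25] (.step [11, 22, 13] .fail))), (1, (.step [7, 14, 13, 8] (.step [12, 25, 16, 12] (.step [17, 17, 18] .fail)))), (1, (.step [6, 12, 7, 15, 9] (.step [10, 13, 22, 15] (.step [16, 18, 15] (.step [21, 24] .fail))))), (1, (.step [7, 25, 6, 8] .fail)), (1, (.step [7, 13, 9, 25] (.step [13, 15, 21] .fail))), (1, (.step [8, 15, 7, 8] .fail)), (1, (.step [7, 14, 8, 7] .fail)), (1, (.step [7, 13, 6, 9] .fail)), (1, (.step [8, 8, 25, 12] .fail)), (3, .fail), (1, (.step [8, 14, 7] .fail)), (1, (.step [8, 14, 8, 12]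 (.step [11, 13, 10, 13] .fail))), (1, (.step [7, 12, 8] .fail)), (1, (.step [6, 8, 7, 25, 12] (.step [12, 24, 10, 10] .fail))), (1, (.step [7, 13, 13, 13] (.step [10, 12, 24, 13] (.step [14, 19, 20, 24] .fail)))), (1, (.step [8, 15, 25, 9] (.step [13, 21, 14] .fail))), (5, .fail), (1, (.step [6, 6, 14, 12, 15] .fail)), (1, (.step [9, 14, 13, 9] (.step [10, 13, 21, 24] (.step [14, 16, 18, 22] .fail)))), (1, .fail), (1, (.step [6, 6, 8, 12, 9] (.step [13, 24] .fail))), (1, (.step [6, 8, 25, 8] .fail)), (2, .fail), (1, (.step [7, 14, 13] .fail)), (1, .fail), (1, (.step [7, 9, 14, 7] (.step [10, 13, 24] (.step [18, 25, 17] .fail)))), (1, (.step [6, 14, 9, 14] (.step [12, 16, 21] (.step [16, 16, 19] .fail)))), (1, (.step [8, 25, 6, 8] (.step [10, 21, 13, 22] (.step [18, 22, 17] .fail)))), (1, (.step [9, 7, 9, 25] .fail)), (1, (.step [6, 6, 13, 8, 7] (.step [12, 10, 10] (.step [14, 17, 19] .fail)))), (1, (.step [6, 15, 7, 9] (.step [10, 13,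 24, 14] .fail))), (1, (.step [6, 25, 8] (.step [13, 15, 17] .fail))), (1, .fail), (1, (.step [6, 12, 8, 15] (.step [10, 13, 11] .fail))), (1, .fail), (1, (.step [8, 7, 13, 9] .fail)), (1, (.step [6, 9, 14, 9] (.step [10, 25, 13, 25] .fail))), (2, .fail), (1, (.step [7, 12, 12, 12] .fail)), (1, (.step [9, 14, 7, 13] (.step [12, 12, 24] (.step [16, 18, 14] .fail)))), (1, (.step [6, 13, 9, 7] .fail)), (1, .fail), (1, (.step [6, 8, 25, 13, 14] .fail)), (1, (.step [7, 12, 9, 9] .fail)), (1, (.step [9, 9] (.step [12, 25, 13] .fail))), (1, .fail), (1, (.step [7, 14, 7, 8] .fail)), (1, .fail), (1, (.step [6, 25, 6, 8, 13] (.step [13, 24, 11] (.step [16, 15, 16] .fail)))), (1, (.step [6, 13, 25, 9, 9] .fail)), (1, (.step [6, 12, 8, 14, 12] (.step [13, 16, 24] (.step [16, 15, 22] .fail)))), (1, (.step [6, 6, 8, 7] (.step [10, 12, 23] (.step [17] .fail)))), (1, (.step [9, 12, 9] (.step [11, 16, 11] (.step [14, 17, 21, 17] (.step [20, 21, 24] (.step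 [25] (.done [4, 4, 4, 4, 4, 4, 4, 4, 4, 4, 4, 4]))))))), (1, (.step [9, 13, 13] .fail)), (1, .fail), (1, (.step [9, 6, 25, 12] (.step [11, 13, 14, 23] (.step [14, 16, 25, 16] .fail)))), (1, (.step [8, 14, 8] .fail)), (1, (.step [7, 12, 12, 8] .fail)), (1, .fail), (1, (.step [7, 12, 7, 12] .fail)), (1, .fail), (1, (.step [6, 8, 6, 15, 8] .fail)), (1, (.step [8, 8] .fail)), (1, (.step [7, 15, 12, 7, 13] .fail)), (1, .fail), (1, (.step [6, 8, 13, 7] (.step [10, 25, 16] (.step [18, 20, 16] .fail)))), (1, (.step [6, 9, 6, 6, 13] .fail)), (1, .fail), (1, (.step [6, 8, 7, 14, 9] (.step [10, 13, 11] (.step [15, 16, 24] .fail)))), (1, (.step [7, 7, 14, 7] (.step [10, 15, 23, 10] (.step [16, 23, 16] .fail)))), (2, .fail), (1, (.step [6, 8, 25, 7] (.step [10, 23, 16, 12] .fail))), (1, .fail), (1, (.step [7, 14, 7, 15] (.step [10, 23, 16] (.step [14, 20, 15, 22] (.step [24] .fail))))), (1, (.step [7, 7, 15, 12, 6] (.step [10, 17, 25, 13] (.step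 [14, 16, 20, 15] .fail)))), (1, (.step [6, 25, 6, 6] .fail)), (1, (.step [8, 8, 7, 25] (.step [10, 12, 16, 11] (.step [14, 18, 25, 16] .fail)))), (1, (.step [6, 8, 13, 15, 7] (.step [12, 10, 14] (.step [18, 25, 19] .fail)))), (1, (.step [8, 8, 6, 14] (.step [10, 12, 21] (.step [16, 21, 19, 15] .fail)))), (2, .fail), (1, (.step [7, 12, 9, 13] (.step [12, 11, 14] .fail))), (1, (.step [6, 9] .fail)), (1, .fail), (1, (.step [9, 14, 12, 8] (.step [12, 17, 17] (.step [14, 18, 21, 24] .fail)))), (2, .fail), (1, (.step [7, 12, 8, 14, 7] .fail)), (1, (.step [6, 15, 6, 12] .fail)), (1, (.step [6, 6, 12, 14] .fail)), (1, (.step [6, 25, 6, 6] .fail)), (1, .fail), (1, (.step [6, 9, 12, 14] .fail)), (1, .fail), (1, (.step [6, 6, 8] .fail)), (1, (.step [7, 9, 13, 6] (.step [12, 12, 23] (.step [18, 25, 16] .fail)))), (1, (.step [6, 12, 9] (.step [11, 22, 10, 23] (.step [17, 15, 21] .fail)))), (1, (.step [8, 12, 7, 7] (.step [12, 10, 15, 23] .fail))),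 (3, .fail), (1, (.step [9, 12, 12, 15] (.step [12, 16, 11] .fail))), (1, (.step [8, 15, 8, 13] .fail)), (1, (.step [8, 13, 25, 13] (.step [10, 13, 25] .fail))), (1, (.step [8, 15, 7, 9] (.step [10, 12, 11, 14] .fail))), (1, .fail), (1, (.step [6, 15, 13, 7] .fail)), (1, (.step [8, 25, 7] .fail)), (2, .fail), (1, (.step [6, 15, 12, 12] .fail)), (1, (.step [9, 12, 9, 25] .fail)), (1, (.step [8, 6, 12, 15, 7] .fail)), (1, .fail), (1, (.step [7, 8, 13, 9] (.step [10, 12, 14, 12] (.step [14, 19, 21, 23] .fail)))), (1, .fail), (1, (.step [6, 6, 25, 8, 7] (.step [10, 17, 11, 21] (.step [18, 24] .fail)))), (1, (.step [6, 6, 15] .fail)), (1, .fail), (1, (.step [7, 15, 9, 15] .fail)), (1, (.step [7, 9, 12, 12] (.step [10, 13, 11] .fail))), (1, .fail), (1, (.step [6, 8, 6, 13, 7] .fail)), (1, .fail), (1, (.step [6, 14, 9] (.step [12, 10, 13, 13] (.step [16, 14] (.step [23] .fail))))), (1, (.step [8, 6, 8, 13] (.step [12, 25] .fail))), (1, (.step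 [7, 12, 9, 12] (.step [13, 13, 11] (.step [14, 16, 15] .fail)))), (1, (.step [6, 25, 7, 15] (.step [10, 17, 15, 11] .fail))), (1, .fail), (1, (.step [9, 6, 8, 14] .fail)), (1, (.step [8, 13, 6, 6] (.step [10, 17, 13, 13] (.step [15, 20, 17] .fail)))), (1, (.step [6, 6, 15, 12, 14] (.step [10, 12, 10] (.step [17, 20, 18] (.step [24] .fail))))), (1, (.step [6, 9, 7, 9, 14] (.step [10, 13, 15, 21] (.step [14, 16, 22, 15] .fail)))), (1, .fail), (1, (.step [6, 12, 9, 13] .fail)), (1, (.step [8, 15, 9, 6] (.step [12, 22, 11] (.step [16, 14, 18, 15] .fail)))), (1, .fail), (1, (.step [7, 13, 9] (.step [10, 25, 13, 10] .fail))), (2, .fail), (1, (.step [6, 6, 9, 14, 12] .fail)), (1, (.step [7, 12, 9, 7] (.step [12, 23, 15] (.step [16, 18, 15] .fail)))), (1, (.step [6, 25, 6, 6, 6] (.step [10, 23, 16, 12] (.step [18, 20, 14] .fail)))), (1, .fail), (1, (.step [6, 15, 7, 12] (.step [13, 15, 23] (.step [18, 20] .fail)))), (1, (.step [8, 6, 12] (.step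 [10, 13, 14, 11] (.step [14, 17, 24, 16] .fail)))), (1, (.step [6, 13, 13, 6] (.step [10, 13, 15, 16] (.step [14, 18, 14, 21] .fail)))), (2, .fail), (1, (.step [8, 15, 8, 7] .fail)), (1, .fail), (1, (.step [6, 13, 13, 14, 9] (.step [13, 11, 14] (.step [14, 16, 15, 17] .fail)))), (2, .fail), (1, (.step [7, 12, 9, 15] .fail)), (1, (.step [9, 6, 25, 12] (.step [11, 13, 14, 23] (.step [14, 16, 25, 16] .fail)))), (2, .fail), (1, (.step [7, 13, 9, 15] (.step [10, 13, 21] .fail))), (1, (.step [7, 8, 6, 12] .fail)), (1, (.step [8, 12, 12, 7] .fail)), (1, (.step [7, 12, 12] (.step [10, 16, 10, 23] .fail))), (1, (.step [6, 6, 13, 14, 6] .fail)), (1, (.step [7, 9, 7, 13] .fail)), (1, (.step [8, 12, 9, 25] (.step [10, 15, 25, 16] (.step [18, 15, 16] .fail)))), (1, (.step [9, 14, 7, 13] (.step [13, 21, 13] (.step [16, 19, 14] .fail)))), (1, .fail), (1, (.step [7, 25, 6, 8] (.step [10, 12, 15, 22] .fail))), (3, .fail), (1, (.step [9, 13, 13] (.step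 [10, 12, 11, 21] (.step [16, 22, 17] .fail)))), (1, (.step [9, 14, 9, 7] .fail)), (1, (.step [7, 12, 7, 25] (.step [13, 24, 10] (.step [14, 18, 21, 18] .fail)))), (1, (.step [6, 13, 15, 8] (.step [12, 15, 24] (.step [14, 17, 14] .fail)))), (1, (.step [8, 14, 13, 25] (.step [12, 21, 16, 22] (.step [16, 18] .fail)))), (1, (.step [6, 12, 14, 6, 9] .fail)), (1, (.step [6, 9, 15, 9, 13] (.step [12, 22, 16, 10] .fail))), (1, (.step [7, 7, 8, 12] (.step [10, 17, 13, 22] .fail))), (2, .fail), (1, (.step [6, 9, 15, 6, 25] (.step [12, 21, 16, 22] (.step [14, 20, 15, 24] .fail)))), (1, (.step [7, 13, 8, 13] .fail)), (1, (.step [7, 7, 7] .fail)), (1, (.step [6, 12, 7, 8, 6] (.step [10, 22, 12, 17] .fail))), (1, (.step [7, 12, 7, 25] (.step [10, 10, 22] (.step [15, 17, 24, 17] .fail)))), (1, (.step [6, 12, 15, 8] .fail)), (1, (.step [6, 12, 9, 9, 15] .fail)), (1, (.step [6, 15, 6] (.step [10, 13, 22, 15] .fail))), (1, (.step [9, 7, 9] (.step [11,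 16, 13, 21] (.step [18, 18, 18] .fail)))), (1, (.step [7, 12] .fail)), (1, .fail), (1, (.step [6, 14, 9, 25] (.step [10, 16, 23, 11] (.step [16, 18, 23] .fail)))), (1, (.step [9, 6, 6, 13] (.step [10, 15, 17, 12] (.step [17, 20, 21] .fail)))), (1, (.step [9, 6, 8] (.step [10, 15, 12, 11] .fail))), (1, (.step [8, 14, 8, 25] (.step [10, 22, 13] (.step [14, 16, 18, 22] .fail)))), (1, (.step [8, 15, 8, 12] (.step [10, 12, 14, 12] .fail))), (1, (.step [6, 9, 12, 9, 9] .fail)), (1, (.step [7, 8, 12, 8] .fail)), (1, (.step [8, 7, 25, 7] (.step [10, 10, 14] .fail))), (1, .fail), (1, (.step [7, 15, 9, 13] (.step [10, 16, 15, 17] (.step [18, 20] .fail)))), (1, (.step [8, 7, 12, 8] .fail)), (1, (.step [6, 14, 9, 13] .fail)), (1, (.step [8, 12, 9, 25] (.step [10, 15, 13, 13] .fail))), (1, (.step [9, 25, 6] (.step [10, 10, 12, 22] (.step [18, 21, 16] (.step [21, 24] (.step [] (.done [4, 4, 4, 4, 4, 4, 4, 4, 4, 4, 4, 4, 4]))))))), (1, (.step [9, 6,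 8, 12] (.step [11, 16, 11, 17] .fail))), (1, (.step [9, 15, 7] (.step [12, 11, 14, 21] (.step [17, 15, 19] .fail)))), (1, (.step [6, 12, 6, 9] (.step [10, 21, 14, 12] .fail))), (1, (.step [6, 8, 14, 13] (.step [11, 13, 25, 11] (.step [17, 20, 19] .fail)))), (1, (.step [7, 14, 13, 8] (.step [12, 25, 16, 12] (.step [17, 17, 18] .fail)))), (1, .fail), (1, (.step [8, 15, 9, 6] (.step [11, 12, 21] (.step [15, 18, 25, 18] .fail)))), (1, (.step [6, 6, 14] (.step [10, 21, 11, 22] (.step [14, 18, 20, 22] (.step [24] .fail))))), (1, (.step [7, 9, 9, 14] .fail)), (1, (.step [7, 25, 12] (.step [10, 16, 13, 24] (.step [18, 25, 16] .fail)))), (1, (.step [6, 9, 15, 7] (.step [12, 10, 15] .fail))), (1, .fail), (1, (.step [7, 12, 7] (.step [10, 21, 13, 25] (.step [14, 18, 21, 18] .fail)))), (1, (.step [8, 8, 13, 9] .fail)), (1, (.step [6, 6, 8, 15, 6] (.step [10, 21, 14, 12] (.step [19, 22, 16] (.step [20] .fail))))), (1, (.step [8, 13, 14, 25] (.step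 [10, 22, 13, 17] .fail))), (1, (.step [6, 6, 9, 13, 8] .fail)), (1, .fail), (1, (.step [6, 6, 14, 9, 13] (.step [10, 22, 12] (.step [18, 20, 17] .fail)))), (2, .fail), (1, (.step [6, 8, 12, 25, 12] (.step [11, 23, 10, 17] (.step [18, 24, 19] .fail)))), (1, (.step [8, 6] (.step [10, 13, 17, 10] .fail))), (1, .fail), (1, (.step [6, 25, 9, 9] (.step [10, 21, 12, 14] .fail))), (1, (.step [6, 13, 25, 12, 12] (.step [10, 16, 25, 12] (.step [18, 15, 24] .fail)))), (1, .fail), (1, (.step [8, 15, 8, 13] (.step [10, 12, 15, 21] (.step [15, 20, 15] .fail)))), (1, .fail), (1, (.step [6, 9, 6] .fail)), (5, .fail), (1, (.step [7, 25, 13, 8] .fail)), (3, .fail), (1, (.step [7, 8, 25, 13] (.step [12, 11, 13, 13] .fail))), (1, (.step [9, 7, 9, 25] .fail)), (2, .fail), (1, (.step [9, 6, 14, 9] (.step [10, 12, 12, 14] (.step [14, 21, 15] (.step [] (.step [25] (.done [4, 4, 4, 4, 4, 4, 4, 4, 4, 4, 4, 4, 4, 4, 4]))))))), (1, .fail), (1, (.step [8, 14, 13]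 (.step [13, 14, 23] .fail))), (1, .fail), (1, (.step [6, 13, 7, 15, 13] .fail)), (1, (.step [6, 6, 9, 14] (.step [10, 22, 10, 24] (.step [14, 18, 21, 18] .fail)))), (1, .fail), (1, (.step [9, 13, 6, 15] (.step [10, 21, 13, 21] .fail))), (1, (.step [7, 7, 13, 14] (.step [10, 16, 11, 17] (.step [14, 17, 14, 17] .fail)))), (1, (.step [6, 8, 13, 13, 8] (.step [13, 16] .fail))), (1, (.step [7, 15, 9, 13] .fail)), (1, (.step [7, 9, 9, 7] (.step [11, 21] (.step [14, 16, 24] .fail)))), (1, (.step [8, 14, 9, 12] .fail)), (1, .fail), (1, (.step [6, 6, 6, 13, 25] (.step [10, 15, 16, 11] .fail))), (2, .fail), (1, (.step [6, 8, 13, 9, 25] (.step [13, 14, 25] (.step [18, 15, 16] .fail)))), (3, .fail), (1, (.step [9, 15, 9, 15] .fail)), (1, .fail), (1, (.step [6, 6, 25, 8, 7] (.step [13, 13, 11] (.step [14, 20, 23, 15] .fail)))), (1, (.step [8, 15, 13, 14] (.step [10, 16, 21, 24] (.step [17, 18, 24] .fail)))), (1, .fail), (1, (.step [8, 13, 8, 7] .fail)),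 (1, (.step [6, 9, 6, 9, 7] (.step [10, 12, 12] .fail))), (1, (.step [6, 9, 12, 6, 12] .fail)), (1, (.step [7, 12, 14, 8] (.step [12, 10, 23, 15] (.step [14, 17, 17, 21] .fail)))), (1, (.step [6, 9, 13, 13] (.step [10, 12, 17, 12] .fail))), (1, (.step [7, 8, 6, 14] .fail)), (1, (.step [9, 15, 7, 9] (.step [12, 12, 14] .fail))), (1, .fail), (1, (.step [6, 8, 13, 25] (.step [10, 12, 24, 11] (.step [15] .fail)))), (2, .fail), (1, (.step [6, 8, 12, 25, 9] (.step [13, 24, 10] (.step [14, 17, 23, 17] .fail)))), (1, (.step [6, 8, 14, 9] (.step [10, 13, 11, 22] (.step [16, 19, 15, 22] .fail)))), (1, .fail), (1, (.step [6, 8, 6, 12, 25] (.step [10, 22, 11, 23] (.step [14, 18, 20, 23] .fail)))), (1, (.step [6, 14, 13, 13] (.step [11, 12] .fail))), (1, .fail), (1, (.step [7, 12, 8, 14, 7] (.step [13, 10, 15] .fail))), (1, .fail), (1, (.step [7, 7, 14, 13] .fail)), (2, .fail), (1, (.step [6, 9, 13, 15] (.step [11, 13, 25, 17] (.step [14, 16, 14,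 17] .fail)))), (1, (.step [6, 8, 12, 25, 12] (.step [10, 15, 16, 16] (.step [15, 16, 16] .fail)))), (1, .fail), (1, (.step [6, 12, 15, 13, 14] .fail)), (1, .fail), (1, (.step [6, 6, 6, 14, 9] (.step [10, 23, 13, 16] (.step [14, 17, 24, 18] .fail)))), (1, (.step [6, 13, 15, 25, 8] .fail)), (1, (.step [6, 8, 7, 8, 7] .fail)), (1, (.step [9, 6, 6] (.step [11, 22, 12, 10] (.step [16, 20, 14] .fail)))), (1, .fail), (1, (.step [8, 12, 9, 6] (.step [10, 13, 14, 24] .fail))), (1, .fail), (1, (.step [9, 15, 9, 13] (.step [12, 16, 13] .fail))), (1, (.step [7, 25, 8, 14] (.step [11, 12, 11] (.step [16, 19, 24] .fail)))), (1, .fail), (1, (.step [7, 12, 9, 12] .fail)), (1, .fail), (1, (.step [6, 8, 14, 6, 9] .fail)), (1, .fail), (1, (.step [8, 13] (.step [10, 22, 15] .fail))), (1, .fail), (1, (.step [9, 25] (.step [10, 16, 13] (.step [17, 23, 19] .fail)))), (1, (.step [9, 25, 9, 15] .fail)), (1, (.step [6, 6, 12, 6, 14] (.step [10, 15, 12, 10] .fail))),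 (1, (.step [7, 14, 6, 14] (.step [11, 23, 11, 22] (.step [17, 19] .fail)))), (1, (.step [9, 14, 7, 7] (.step [10, 10, 21, 14] .fail))), (2, .fail), (1, (.step [6, 12, 8, 7] .fail)), (1, (.step [6, 9, 12, 15] .fail)), (1, (.step [6, 9] (.step [10, 17, 10, 23] (.step [15, 20, 17] .fail)))), (3, .fail), (1, (.step [7, 8, 13, 6, 13] (.step [10, 21, 12] (.step [14, 16, 19] .fail)))), (1, (.step [7, 13, 7, 25] (.step [13, 23, 15] (.step [19, 14] .fail)))), (1, .fail), (1, (.step [9, 14, 8, 6] (.step [10, 13, 24, 13] (.step [15, 20, 17, 15] .fail)))), (1, (.step [7, 12, 9, 9] (.step [10, 24, 25] .fail))), (1, (.step [9, 14, 25] .fail)), (1, .fail), (1, (.step [6, 13, 13, 7] (.step [11, 12, 11, 12] (.step [14, 16, 23] .fail)))), (1, (.step [6, 15, 13, 9] .fail)), (2, .fail), (1, (.step [7, 15, 8] (.step [11, 16, 10] (.step [14, 16, 22, 15] .fail)))), (5, .fail), (1, (.step [6, 15, 9, 15, 13] (.step [11, 12] (.step [14, 21, 15] .fail)))), (1,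 (.step [6, 6, 15, 25] .fail)), (1, (.step [8, 12, 6, 14] .fail)), (1, (.step [6, 25, 6, 13] (.step [13, 13, 14] .fail))), (1, (.step [7, 12, 9, 9] .fail)), (1, (.step [9, 13, 8] (.step [11, 16, 10, 15] (.step [16, 14, 25] .fail)))), (1, (.step [7, 15, 8, 12] .fail)), (1, .fail), (1, (.step [7, 9, 7, 8] (.step [11, 12, 15] .fail))), (3, .fail), (1, (.step [6, 6, 13, 8, 13] (.step [10, 13, 14, 24] (.step [14, 18, 15] .fail)))), (1, (.step [7, 7, 9, 6] (.step [10, 25, 17, 11] (.step [14, 23, 15, 19] .fail)))), (1, (.step [7, 13, 8, 7] .fail)), (1, (.step [7, 14, 7, 9] .fail)), (1, (.step [7, 12, 8] .fail)), (1, (.step [7, 15, 25, 8] (.step [10, 25, 11, 21] (.step [15, 16, 22] .fail)))), (1, (.step [8, 7, 13, 9] .fail)), (1, (.step [7, 9, 15, 7, 13] (.step [10, 12, 23, 10] .fail))), (2, .fail), (1, (.step [8, 8, 8] .fail)), (1, (.step [8, 6, 6] (.step [10, 10, 22, 13] (.step [18, 21, 23] .fail)))), (1, (.step [7, 13, 6, 15, 12] (.step [12,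 10, 22] (.step [14, 16, 19, 15] .fail)))), (1, (.step [6, 9, 13, 13, 8] (.step [10, 23, 13, 24] (.step [14, 18, 20, 22] .fail)))), (1, (.step [6, 25, 9, 6, 15] (.step [11, 12, 12] .fail))), (1, (.step [6, 13, 15, 12] .fail)), (1, (.step [7, 13, 6, 9] (.step [11, 12, 21, 13] (.step [17, 17] .fail)))), (2, .fail), (1, (.step [6, 8, 25, 12] (.step [13, 16, 24] .fail))), (1, (.step [8, 14, 13, 25] (.step [12, 21, 16, 22] (.step [16, 18] .fail)))), (1, (.step [8, 7, 7, 12] .fail)), (3, .fail), (1, (.step [6, 8, 12] (.step [10, 15, 12, 11] (.step [14, 24, 15] .fail)))), (1, (.step [7, 12, 12, 14] (.step [13, 11, 14] (.step [17, 18, 24] .fail)))), (1, (.step [8, 25, 12, 14] (.step [13, 14, 22] (.step [15, 19, 19, 14] .fail)))), (1, (.step [6, 13, 8, 7, 12] (.step [10, 13, 15] (.step [14, 19, 24] (.step [20, 22] .fail))))), (1, .fail), (1, (.step [6, 15, 8, 13] (.step [12, 21, 11] (.step [16, 21, 19, 15] .fail)))), (1, (.step [7, 25, 7, 9] (.step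 [11, 12, 10, 21] (.step [14, 19, 21, 17] .fail)))), (1, (.step [8, 6, 9, 12] (.step [13, 15, 21] .fail))), (1, (.step [7, 12, 7, 15] .fail)), (1, .fail), (1, (.step [6, 9, 14, 8, 25] (.step [10, 16, 10] .fail))), (1, (.step [6, 8, 14, 12, 14] (.step [11, 24, 25, 17] (.step [14, 16, 20, 14] .fail)))), (1, (.step [9, 7, 9] (.step [12, 10, 24] (.step [17] .fail)))), (1, .fail), (1, (.step [9, 6, 6, 6] .fail)), (1, (.step [8, 8, 6, 13] (.step [13, 13, 14] (.step [14, 23, 15, 22] .fail)))), (3, .fail), (1, (.step [9, 14, 8, 13] (.step [13, 14, 16] (.step [17, 22, 16] .fail)))), (1, (.step [6, 12, 6, 9] .fail)), (1, (.step [7, 9, 6, 14] (.step [10, 22, 12, 10] (.step [14, 17, 14] .fail)))), (2, .fail), (1, (.step [7, 12, 12, 14] .fail)), (1, (.step [9, 13, 14] .fail)), (1, .fail), (1, (.step [6, 12, 9, 13, 14] .fail)), (1, .fail), (1, (.step [8, 25, 7, 12] .fail)), (1, .fail), (1, (.step [6, 6, 6, 6, 13] (.step [12, 24, 14] .fail))), (1, (.step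 [6, 8, 15, 7, 12] (.step [10, 17, 10, 17] .fail))), (1, (.step [9, 25, 12] .fail)), (4, .fail), (1, (.step [6, 13, 8] (.step [10, 24, 12, 12] .fail))), (1, (.step [6, 8, 6, 13] (.step [11, 16, 13] .fail))), (1, (.step [6, 9, 12, 12, 6] (.step [13, 11, 13, 11] .fail))), (2, .fail), (1, (.step [6, 13, 14, 12] (.step [13, 24, 11] (.step [15, 20, 16, 25] .fail)))), (1, (.step [7, 7, 13, 13] .fail)), (1, (.step [9, 6, 6, 12] .fail)), (1, (.step [6, 9, 7, 15, 8] .fail)), (1, .fail), (1, (.step [9, 6, 6, 13] (.step [10, 15, 17, 12] (.step [17, 20, 21] .fail)))), (1, (.step [6, 6, 25, 13] (.step [13, 16, 11] (.step [15, 17] .fail)))), (2, .fail), (1, (.step [8, 12, 25] (.step [10, 10, 14, 10] .fail))), (1, (.step [6, 13, 14, 7] (.step [10, 15, 22, 13] .fail))), (4, .fail), (1, (.step [6, 8, 7, 25, 13] (.step [10, 12, 25, 10] .fail))), (1, (.step [8, 14, 8, 14] (.step [10, 16, 11, 21] .fail))), (1, (.step [6, 12, 14] (.step [12, 24, 17] (.step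 [17, 22, 14] .fail)))), (1, (.step [6, 6, 14, 9, 13] (.step [12, 17, 22, 12] .fail))), (1, (.step [6, 6, 14, 13] .fail)), (1, (.step [6, 12, 8, 7, 25] .fail)), (3, .fail), (1, (.step [6, 9, 12, 6] (.step [10, 12, 11, 21] (.step [15, 17, 14, 19] (.step [21, 24] (.step [] (.done [4, 4]))))))), (1, (.step [8, 12, 15] (.step [13, 23, 12] (.step [16, 15, 16] .fail)))), (1, .fail), (1, (.step [6, 15, 13, 25] .fail)), (1, .fail), (1, (.step [6, 25, 13, 14] .fail)), (1, (.step [6, 9, 6, 15] .fail)), (2, .fail), (1, (.step [9, 6, 12, 14] .fail)), (2, .fail), (1, (.step [7, 7, 7, 8, 15] (.step [10, 12, 12, 14] (.step [16, 20, 17, 25] .fail)))), (1, (.step [6, 6, 14, 6, 14] .fail)), (1, (.step [6, 9, 14] .fail)), (1, (.step [8, 6, 12, 9] (.step [10, 13, 16, 12] (.step [14, 16, 20, 22] .fail)))), (1, (.step [6, 25, 8, 6] (.step [10, 15, 10, 17] (.step [17, 20, 22] (.step [] (.step [] (.done [4, 4, 4, 4, 4, 4, 4, 4, 4, 4, 4, 4, 4, 4, 4, 4, 4, 4,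 4, 4]))))))), (1, (.step [6, 6, 13, 8] (.step [10, 22, 15, 10] .fail))), (1, (.step [8, 15, 13] (.step [10, 21, 17] (.step [14, 22, 14, 18] .fail)))), (1, (.step [6, 12, 8, 15, 12] (.step [13, 16, 23] (.step [14, 16, 15, 18] .fail)))), (1, (.step [9, 14, 8, 8] (.step [11, 22, 12, 10] .fail))), (1, .fail), (1, (.step [6, 14, 9, 15, 7] (.step [10, 13, 13, 16] (.step [14, 17, 24, 18] .fail)))), (1, (.step [9, 25, 6, 8] (.step [12, 25, 17] (.step [15, 17] .fail)))), (1, .fail), (1, (.step [6, 9, 15, 7] (.step [13, 16, 16] .fail))), (1, .fail), (1, (.step [6, 9, 14, 8, 25] .fail)), (1, (.step [6, 9, 14, 9] (.step [13, 11, 14, 17] (.step [14, 17, 14] (.step [21] .fail))))), (1, (.step [6, 6, 9, 25] (.step [12, 17, 25] (.step [18, 25, 18] .fail)))), (1, (.step [6, 12, 15, 9, 7] .fail)), (1, .fail), (1, (.step [9, 6, 12, 7] .fail)), (1, (.step [7, 7, 9, 6] (.step [11, 13, 17] (.step [14, 16, 15] .fail)))), (1, .fail), (1, (.step [6, 12, 9, 13,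 14] (.step [10, 23, 10, 22] (.step [18, 23, 17] .fail)))), (3, .fail), (1, (.step [8, 8] .fail)), (2, .fail), (1, (.step [9, 7, 12, 8] .fail)), (1, (.step [6, 13, 13, 8] (.step [13, 10, 13] .fail))), (1, (.step [6, 9, 15, 6, 12] .fail)), (1, (.step [6, 13, 14, 9] (.step [10, 15] .fail))), (1, (.step [6, 8, 6, 13, 25] .fail)), (1, (.step [6, 9, 14, 9] (.step [10, 25, 13, 25] .fail))), (1, (.step [7, 8, 8] (.step [10, 10, 14, 16] (.step [14, 17, 19, 25] .fail)))), (1, (.step [6, 15, 13, 9, 6] .fail)), (1, (.step [8, 14, 8, 13] (.step [10, 13, 21, 10] .fail))), (2, .fail), (1, (.step [6, 6, 15, 8] .fail)), (1, (.step [7, 14, 8, 25] .fail)), (1, (.step [6, 14, 8, 25, 12] .fail)), (1, .fail), (1, (.step [9, 14, 9, 14] .fail)), (1, .fail), (1, (.step [7, 7, 7, 14] (.step [10, 10, 25, 13] (.step [14, 16, 15, 22] .fail)))), (1, (.step [9, 12, 12] (.step [13, 21, 13] (.step [17, 22, 18] .fail)))), (1, (.step [6, 8, 25, 12] .fail)), (2, .fail),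 (1, (.step [8, 12, 25, 9] .fail)), (1, (.step [7, 25, 12, 7] .fail)), (2, .fail), (1, (.step [9, 6, 14, 12] (.step [10, 10, 13, 25] (.step [16, 21, 16] .fail)))), (1, (.step [9, 15, 6, 9] .fail)), (1, .fail), (1, (.step [7, 8, 7, 13] .fail)), (1, (.step [6, 14, 25, 6] (.step [10, 13, 11, 24] (.step [18, 20, 19] .fail)))), (1, (.step [6, 15, 9, 7, 8] (.step [10, 24, 13, 25] .fail))), (1, .fail), (1, (.step [6, 6, 12, 7] (.step [10, 16, 16] .fail))), (1, (.step [8, 14, 8] .fail)), (1, (.step [6, 6, 6, 15, 8] (.step [10, 16, 10] .fail))), (1, (.step [7, 12, 7, 25] .fail)), (1, (.step [9, 12, 6, 8] .fail)), (1, (.step [9, 14, 9, 14] (.step [12, 10] .fail))), (1, .fail), (1, (.step [6, 25, 8, 7, 12] .fail)), (2, .fail), (1, (.step [6, 25, 8, 15] (.step [12, 10, 12] (.step [14, 16, 18, 25] .fail)))), (1, (.step [6, 8, 7, 7, 14] (.step [11, 13, 14, 23] (.step [14, 22, 16, 20] .fail)))), (1, (.step [6, 8, 12, 12] (.step [10, 16, 25] (.step [16,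 19, 22] .fail)))), (1, .fail), (1, (.step [7, 9, 15, 6] .fail)), (2, .fail), (1, (.step [7, 14, 13, 15] .fail)), (1, .fail), (1, (.step [6, 6] .fail)), (2, .fail), (1, (.step [9, 9, 25, 6] (.step [12, 24] .fail))), (1, (.step [7] (.step [10, 12, 25, 11] .fail))), (2, .fail), (1, (.step [7, 8, 8, 6] (.step [10, 17, 12, 24] .fail))), (1, (.step [9, 13, 13, 9] .fail)), (1, (.step [6, 13] .fail)), (1, (.step [8, 6, 14, 13] .fail)), (1, (.step [8, 25, 9, 25] (.step [12, 17, 24] .fail))), (1, .fail), (1, (.step [7, 15, 13, 9] .fail)), (1, (.step [6, 13, 15, 13] (.step [12, 17, 22] .fail))), (1, .fail), (1, (.step [9, 6, 12] .fail)), (2, .fail), (1, (.step [6, 8, 25, 7] (.step [10, 23, 13, 15] (.step [16, 14, 25] .fail)))), (1, .fail), (1, (.step [6, 25, 7] (.step [10, 10, 13, 11] .fail))), (1, (.step [6, 15, 25, 7] (.step [10, 16, 23, 11] (.step [14, 17, 24, 16] .fail)))), (1, .fail), (1, (.step [7, 25, 9, 6] .fail)), (1, .fail), (1, (.step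 [9, 13, 8, 14] .fail)), (2, .fail), (1, (.step [8, 25, 7] .fail)), (1, (.step [7, 7, 12, 8] (.step [13, 23, 13] (.step [14, 19, 21, 23] .fail)))), (1, .fail), (1, (.step [9, 6, 14, 6] .fail)), (1, (.step [6, 14, 9, 25] (.step [12, 23, 16] .fail))), (1, (.step [6, 9, 12, 9, 9] .fail)), (1, (.step [6, 8, 7, 7, 14] .fail)), (1, (.step [6, 25, 7, 12] (.step [13, 22] (.step [14, 17, 20, 17] .fail)))), (1, .fail), (1, (.step [8, 15, 7, 8] (.step [10, 15, 10] .fail))), (1, (.step [6, 6, 6, 15, 25] .fail)), (1, (.step [6, 6, 13, 25, 8] (.step [11, 12] (.step [16, 16, 19] .fail)))), (1, .fail), (1, (.step [6, 12, 8, 14] .fail)), (1, (.step [8, 14, 6, 15] (.step [12, 25, 13] (.step [14, 20, 21] .fail)))), (1, .fail), (1, (.step [8, 6, 15, 8] (.step [11, 13, 25, 17] (.step [14, 17, 22, 18] .fail)))), (1, (.step [] (.step [] (.step [] (.step [] (.step [] (.done [4]))))))), (1, (.step [6, 15, 6, 12] .fail)), (1, (.step [6, 25, 8, 7, 12] (.step [12,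 22, 11] .fail))), (1, (.step [7, 7, 14, 13] (.step [11, 25, 12] (.step [18, 15, 23] .fail)))), (1, (.step [7, 7, 15] (.step [10, 21, 11] .fail))), (1, (.step [6, 6, 8, 15] (.step [10, 16, 24] .fail))), (1, (.step [7, 8, 13, 8] .fail)), (2, .fail), (1, (.step [8, 7, 8, 25] (.step [10, 12, 12, 10] (.step [16, 15] .fail)))), (1, .fail), (1, (.step [9, 14, 6, 6] (.step [12, 25, 16] (.step [17, 17, 20, 17] .fail)))), (1, .fail), (1, (.step [6, 25, 9, 12] (.step [10, 22, 15, 10] .fail))), (1, (.step [7, 14, 9, 6] (.step [12, 11, 14] (.step [17, 21, 19] .fail)))), (1, (.step [7, 7, 9, 13] .fail)), (2, .fail), (1, (.step [9, 6, 8, 15] .fail)), (1, (.step [8, 7, 8, 7] .fail)), (1, (.step [9, 6, 9, 15, 9] (.step [10, 24, 25] (.step [14, 22] .fail)))), (1, (.step [6, 8, 7, 13, 8] (.step [11, 12, 12] .fail))), (1, (.step [9, 6, 9, 7] (.step [12, 15, 16, 21] (.step [16, 20, 22, 14] .fail)))), (1, (.step [6, 12, 15, 9, 14] (.step [10, 12, 16, 12]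 (.step [16, 22, 18, 14] .fail)))), (1, (.step [8, 8, 6, 9] (.step [12, 24, 11] .fail))), (1, (.step [6, 25, 13, 13] (.step [12, 23, 12] (.step [16, 16] (.step [20, 21, 24] .fail))))), (1, (.step [6, 8, 13, 9] .fail)), (1, .fail), (1, (.step [8, 7, 12, 8] (.step [12, 23, 11] (.step [14, 18, 23, 15] (.step [20, 25] (.step [25] (.done [4, 4, 4, 4, 4, 4]))))))), (1, .fail), (1, (.step [6, 14, 8, 6, 25] .fail)), (4, .fail), (1, (.step [6, 14, 13, 13] (.step [10, 10, 12, 14] (.step [17, 20, 16] .fail)))), (1, (.step [9, 13, 6] (.step [13, 24, 13] .fail))), (1, (.step [9, 12, 9, 7] .fail)), (1, .fail), (1, (.step [6, 8, 15, 13, 13] (.step [13, 23, 17] (.step [15, 20, 15] .fail)))), (1, (.step [9, 9] (.step [11, 21, 21] (.step [14, 16, 19, 14] .fail)))), (1, (.step [6, 15, 13, 9, 6] (.step [13, 14, 13] .fail))), (4, .fail), (1, (.step [6, 6, 8, 12, 8] (.step [10, 16, 15, 11] (.step [15, 18, 20, 15] .fail)))), (1, (.step [7, 14, 6, 9] .fail)),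 (1, (.step [6, 6, 25, 8] (.step [11, 21, 14, 13] .fail))), (1, .fail), (1, (.step [6, 12, 12, 25] (.step [12, 23, 12] (.step [14, 17, 21, 17] .fail)))), (1, .fail), (1, (.step [7, 12, 7, 15, 25] (.step [11, 13, 17, 24] (.step [16, 15, 20] (.step [] (.step [25] (.done [4, 4, 4, 4, 4, 4, 4, 4, 4, 4, 4, 4, 4, 4]))))))), (1, (.step [9, 13, 13, 25] .fail)), (1, (.step [8, 7, 8, 6] .fail)), (1, .fail), (1, (.step [6, 9, 7, 15] (.step [10, 15, 11] (.step [18, 14] .fail)))), (1, .fail), (1, (.step [7, 12, 9, 7] (.step [10, 13] (.step [14, 18, 22, 18] .fail)))), (1, .fail), (1, (.step [6, 6, 25, 7, 9] (.step [13, 21, 16] .fail))), (1, (.step [9, 6, 25, 6] (.step [10, 21, 17, 13] .fail))), (1, (.step [7, 8, 7] (.step [10, 15, 11, 13] (.step [14, 22, 17] .fail)))), (1, (.step [7, 7, 7, 9] .fail)), (1, .fail), (1, (.step [6, 8, 13, 14, 12] .fail)), (1, (.step [8, 6, 12] (.step [13, 24, 16] .fail))), (1, (.step [7, 12, 9, 9] .fail)), (1, (.step [8,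 25] .fail)), (1, (.step [8, 8, 6, 14] (.step [10, 21, 12, 21] (.step [16, 22, 14, 18] .fail)))), (1, (.step [7, 8, 8, 13] (.step [10, 13, 15, 16] .fail))), (2, .fail), (1, (.step [6, 8, 13, 9, 7] (.step [10, 12, 16] (.step [14, 20, 21, 19] .fail)))), (1, (.step [6, 6, 13, 8] (.step [11, 13, 16] (.step [15, 19, 15] .fail)))), (1, (.step [8, 15, 9, 25] (.step [12, 12, 10, 15] (.step [14, 24, 15, 20] .fail)))), (1, .fail), (1, (.step [9, 25, 8, 15] (.step [11, 12, 23, 17] (.step [14, 16, 21, 14] .fail)))), (1, .fail), (1, (.step [7, 7, 14, 25] (.step [10, 13, 21, 23] (.step [17, 20, 19] .fail)))), (1, .fail), (1, (.step [9, 13, 9] .fail)), (1, (.step [6, 15, 6, 8] (.step [11, 16, 13, 17] (.step [16, 20, 14] .fail)))), (1, .fail), (1, (.step [7, 7, 9] .fail)), (1, (.step [6, 6, 6, 25] (.step [10, 17, 25] .fail))), (1, (.step [6, 9, 14, 8, 15] .fail)), (1, (.step [8, 6, 9] (.step [10, 25, 17, 12] (.step [14, 17, 15] .fail)))), (1, (.step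 [6, 13, 7, 15, 13] .fail)), (1, (.step [9, 12, 6, 14] .fail)), (1, (.step [7, 15, 13, 7] (.step [10, 12, 23, 16] .fail))), (1, (.step [7, 12, 15, 6] (.step [10, 22, 11, 24] .fail))), (1, .fail), (1, (.step [6, 13, 8, 14] (.step [10, 12, 12, 21] (.step [15, 17, 14] .fail)))), (1, (.step [6, 25, 9] .fail)), (1, .fail), (1, (.step [6, 12, 15, 8] .fail)), (1, (.step [9, 9, 15, 7] (.step [10, 10, 13, 13] (.step [15, 17, 22] (.step [20, 21, 24] .fail))))), (1, (.step [7, 8, 8, 25] (.step [10, 15, 11] (.step [14, 18, 18] .fail)))), (1, .fail), (1, (.step [7, 25, 9, 15] .fail)), (1, (.step [6, 15, 12, 8] (.step [13, 11, 21, 23] .fail))), (1, (.step [7, 12, 14, 9] (.step [11, 12, 10, 16] (.step [18, 21] .fail)))), (1, (.step [7, 7, 9, 6] (.step [11, 13, 17] (.step [14, 16, 15] .fail)))), (2, .fail), (1, (.step [6, 13, 8, 7] (.step [10, 16, 16, 22] .fail))), (1, (.step [6, 9, 14, 8, 15] (.step [12, 12, 15] .fail))), (1, .fail), (1, (.step [6,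 8, 15] .fail)), (1, (.step [6, 6, 9, 6, 6] .fail)), (1, .fail), (1, (.step [7, 15, 25, 8] (.step [10, 21, 12, 22] (.step [14, 20, 21] .fail)))), (2, .fail), (1, (.step [7, 13, 14, 13] (.step [10, 16, 24] .fail))), (1, (.step [6, 12, 15, 7] (.step [10, 13, 15, 16] .fail))), (1, (.step [6, 13, 14, 13] (.step [10, 12, 12, 14] .fail))), (1, (.step [6, 9, 14, 6, 12] (.step [11, 12, 10, 21] (.step [14, 16, 23] .fail)))), (1, (.step [6, 14, 8, 6] (.step [10, 13, 15] (.step [15, 20, 16] .fail)))), (1, .fail), (1, (.step [7, 7, 15, 9, 9] (.step [12, 23, 11] (.step [17, 18, 22] .fail)))), (1, (.step [6, 15, 6] (.step [13, 21, 12] .fail))), (2, .fail), (1, (.step [7, 7, 25] (.step [10, 12, 11, 22] (.step [14, 20, 15, 24] .fail)))), (1, (.step [8, 8, 13, 6] .fail)), (1, (.step [7, 14, 8, 8] (.step [11, 21, 12, 12] (.step [16, 14, 19] .fail)))), (1, (.step [9, 6, 15, 8] (.step [11, 13, 11, 24] (.step [14, 17, 19] .fail)))), (1, .fail), (1, (.step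 [6, 14, 8, 12] .fail)), (1, .fail), (1, (.step [9, 13, 6, 9] .fail)), (1, .fail), (1, (.step [7, 15, 6] (.step [10, 13, 21, 14] (.step [18, 15] .fail)))), (1, .fail), (1, (.step [6, 6, 13, 14, 6] (.step [10, 17, 12] .fail))), (1, (.step [8, 8, 12] .fail)), (1, (.step [9, 12, 12, 15] (.step [12, 10] (.step [14, 18, 15] (.step [20, 23] (.step [] (.done [4, 4, 4, 4, 4, 4, 4]))))))), (1, (.step [8, 8, 25, 6] (.step [11, 21, 12, 21] .fail))), (1, .fail), (1, (.step [6, 15, 25, 7] (.step [10, 10, 14, 22] .fail))), (2, .fail), (1, (.step [6, 12, 15] .fail)), (2, (.step [6, 6, 12, 8] .fail)), (1, (.step [7, 13, 8, 13] .fail)), (1, (.step [7, 7, 25, 9] (.step [10, 12, 11, 12] .fail))), (5, .fail), (1, (.step [6, 6, 8, 25, 9] (.step [10, 13, 24, 14] (.step [14, 19] .fail)))), (1, (.step [6, 6, 8, 12, 14] (.step [10, 22, 16] (.step [14, 17, 18] .fail)))), (1, (.step [6, 12, 8, 14, 25] (.step [10, 12] (.step [14, 17, 24, 16] .fail)))), (2, .fail),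 (1, (.step [6, 8, 25, 8, 25] .fail)), (1, (.step [8, 7] (.step [10, 16, 21, 12] .fail))), (1, (.step [6, 8, 12, 12] (.step [11, 12, 11, 12] .fail))), (1, (.step [7, 7, 14, 7] (.step [12, 16, 13] .fail))), (1, (.step [6, 12, 9, 12, 12] (.step [10, 22, 10, 24] (.step [14, 16, 15, 22] .fail)))), (2, .fail), (1, (.step [6, 12, 15] (.step [10, 10, 21, 11] (.step [14, 16, 15, 17] .fail)))), (1, (.step [9, 14, 9, 7] .fail)), (1, (.step [6, 6, 14, 6] (.step [10, 17, 25, 10] (.step [17, 14, 19] .fail)))), (1, (.step [6, 13, 9, 13] (.step [12, 10, 13] (.step [16, 16] (.step [21, 23] (.step [25] (.done [4, 4, 4, 4, 4, 4, 4, 4, 4, 4, 4, 4, 4, 4, 4, 4, 4]))))))), (1, (.step [6, 12, 12, 6] (.step [10, 10, 14, 16] .fail))), (1, .fail), (1, (.step [6, 12, 6, 8, 13] (.step [11, 12, 17, 22] .fail))), (1, (.step [8, 12, 9, 14] (.step [10, 13, 17, 24] .fail))), (1, .fail), (1, (.step [8, 7, 7, 25] .fail)), (3, .fail), (1, (.step [9, 6, 8, 15] .fail)), (1,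 (.step [7, 25, 6, 13] (.step [10, 12, 21, 10] .fail))), (1, .fail), (1, (.step [8, 7, 15, 9, 12] (.step [10, 22, 12] (.step [14, 16, 21, 19] .fail)))), (1, (.step [6, 13, 8, 14] .fail)), (1, (.step [6] (.step [10, 16, 11, 24] .fail))), (3, .fail), (1, (.step [6, 15, 6, 6] .fail)), (2, .fail), (1, (.step [6, 9, 13, 8, 12] (.step [13, 13, 10] (.step [17, 14, 22] .fail)))), (1, (.step [8, 6, 8, 8] (.step [13, 16] (.step [15, 16, 19, 20] .fail)))), (1, (.step [7, 8, 25, 13] (.step [12, 11, 13, 13] .fail))), (1, (.step [6, 8, 14, 9] (.step [13, 13, 15, 17] (.step [14, 18, 20] .fail)))), (1, (.step [6, 14, 13, 13] (.step [10, 10, 12, 14] (.step [17, 20, 16] .fail)))), (1, .fail), (1, (.step [7, 14, 9, 13] (.step [12, 12, 15, 12] (.step [14, 20, 19] .fail)))), (1, (.step [7, 9, 12, 6] .fail)), (1, (.step [9, 12, 9, 25] .fail)), (2, .fail), (1, (.step [9, 9, 13] .fail)), (1, (.step [6, 15, 8, 15, 25] (.step [10, 12, 17, 15] (.step [18, 23] .fail)))),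 (1, (.step [7, 13, 7] .fail)), (1, (.step [6, 6, 12, 7, 12] (.step [10, 12, 21, 13] .fail))), (1, (.step [6, 6, 12, 9, 7] (.step [11, 22] .fail))), (1, (.step [7, 9, 25, 12] .fail)), (2, .fail), (1, (.step [7, 14, 9, 15] (.step [10, 25, 16, 10] (.step [17, 15, 21] .fail)))), (2, .fail), (1, (.step [6, 13, 25, 9, 9] (.step [10, 10, 23] .fail))), (1, (.step [9, 13, 15] (.step [13, 21, 14] .fail))), (1, (.step [8, 13, 25, 9] .fail)), (1, .fail), (1, (.step [7, 14, 25] .fail)), (1, (.step [6, 8, 12, 12] (.step [11, 12, 11, 12] .fail))), (1, .fail), (1, (.step [6, 6, 13, 15, 25] .fail)), (1, (.step [9, 15, 9, 13] (.step [10, 22, 12, 23] (.step [16, 18, 23] .fail)))), (1, .fail), (1, (.step [8, 25, 8, 14] (.step [11, 12, 10] (.step [14, 22, 16, 21] .fail)))), (1, (.step [8, 13, 6] .fail)), (1, (.step [7, 9, 6, 9, 6] (.step [10, 23, 13, 15] (.step [16, 18, 25] .fail)))), (1, (.step [7, 9, 13, 15] (.step [13, 23, 14] .fail))), (1, (.step [6,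 8, 13, 8] .fail)), (1, .fail), (1, (.step [9, 15, 9] .fail)), (1, (.step [6, 25, 9, 14] (.step [10, 22, 13, 10] .fail))), (1, (.step [6, 14, 7, 14] (.step [10, 24, 13, 21] .fail))), (1, (.step [8, 13, 9] .fail)), (1, .fail), (1, (.step [6, 12, 7] (.step [10, 12, 17, 25] (.step [18, 24, 25] .fail)))), (1, (.step [6, 13, 6, 14, 13] (.step [13, 16, 10] (.step [19, 21] .fail)))), (1, (.step [8, 8, 7, 13] .fail)), (1, (.step [8, 25, 12, 14] (.step [12, 23, 12] .fail))), (2, .fail), (1, (.step [6, 12, 8, 13, 25] (.step [13, 10, 12] (.step [14, 18, 21, 24] .fail)))), (1, (.step [6, 12, 6, 8] .fail)), (1, (.step [6, 14, 7, 7] .fail)), (1, (.step [6, 6, 12, 7, 12] (.step [12, 10, 17] .fail))), (1, (.step [9, 14, 8, 7] (.step [12, 24, 14] (.step [14, 16, 21, 17] .fail)))), (1, (.step [6, 9, 12, 6] (.step [11, 16, 10] (.step [14, 16, 18, 20] .fail)))), (1, .fail), (1, (.step [8, 7, 8, 25] .fail)), (1, (.step [7, 9, 13, 9] (.step [10, 23, 13, 16]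 .fail))), (1, (.step [6, 12, 15, 7] (.step [12, 25, 17] (.step [15, 19, 19] .fail)))), (1, (.step [6, 12, 12, 14] (.step [10, 15, 12, 17] (.step [16, 14, 24] .fail)))), (1, .fail), (1, (.step [9, 6, 14, 6] (.step [10, 25, 13, 25] .fail))), (1, (.step [8, 25, 6, 8] .fail)), (1, (.step [6, 15, 8, 15] (.step [12, 16, 21] .fail))), (1, .fail), (1, (.step [8, 8, 25, 9] .fail)), (1, .fail), (1, (.step [6, 9, 15, 9, 25] .fail)), (1, .fail), (1, (.step [7, 14, 25, 13] (.step [10, 24, 12, 24] .fail))), (1, .fail), (1, (.step [6, 25] (.step [13, 22, 13] (.step [18, 24, 19] .fail)))), (1, .fail), (1, (.step [6, 14, 9, 6] (.step [10, 13, 13, 22] (.step [17, 18, 23] .fail)))), (1, .fail), (1, (.step [6, 14, 9, 9, 14] (.step [12, 12, 25] (.step [14, 16, 20, 17] .fail)))), (1, (.step [6, 15, 9, 14] (.step [10, 13, 25, 10] (.step [14, 16, 15, 22] .fail)))), (2, .fail), (1, (.step [7, 7, 14, 8] (.step [10, 23, 10] (.step [14, 17, 24, 17] .fail)))), (1,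 (.step [6, 12, 8, 15, 25] (.step [11, 23, 11, 24] (.step [14, 16, 23] .fail)))), (1, (.step [6, 15, 13, 9, 6] (.step [10, 17, 21] .fail))), (1, .fail), (1, (.step [8, 12, 14, 6] (.step [10, 16, 16, 21] (.step [14, 17, 21, 17] .fail)))), (1, (.step [7, 8, 8, 13] (.step [12, 17, 24] (.step [16, 18, 25] (.step [20, 21] (.step [] (.done [4, 4, 4, 4, 4, 4, 4, 4, 4, 4]))))))), (1, .fail), (1, (.step [9, 12, 14, 6] (.step [10, 21, 14] .fail))), (2, .fail), (1, (.step [8, 12, 14, 7] (.step [10, 13, 13] (.step [16, 18, 25, 17] .fail)))), (1, (.step [8, 15, 7, 9] (.step [10, 10, 14] (.step [15, 19, 23, 17] .fail)))), (2, .fail), (1, (.step [6, 9, 6, 13] (.step [10, 13, 14, 25] (.step [18, 14] .fail)))), (1, (.step [7, 14, 6] (.step [10, 10, 14] (.step [14, 17, 14] .fail)))), (1, (.step [7, 9, 13, 8] .fail)), (1, (.step [9, 12, 15, 8] (.step [10, 12, 23, 13] (.step [14, 20, 19] (.step [20, 21, 24] .fail))))), (1, (.step [7, 7, 14, 13] (.step [11,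 13, 25, 17] (.step [14, 21, 19, 23] .fail)))), (1, (.step [6, 12, 9, 12, 12] (.step [10, 22, 10, 24] (.step [14, 16, 15, 22] .fail)))), (1, (.step [6, 6, 12, 15] (.step [12, 15, 17, 13] (.step [14, 18, 14, 16] .fail)))), (3, .fail), (1, (.step [6, 6, 13, 6, 25] .fail)), (1, (.step [6, 8, 13, 7, 8] .fail)), (1, .fail), (1, (.step [9, 6, 9, 25] (.step [10, 13, 23, 13] (.step [18, 15, 16] (.step [20] (.step [25] (.done [4, 4, 4, 4, 4, 4, 4, 4, 4, 4, 4, 4, 4, 4, 4, 4, 4, 4, 4, 4, 4]))))))), (1, (.step [6, 25, 8, 12, 9] .fail)), (2, .fail), (1, (.step [6, 25, 8, 12, 9] .fail)), (1, .fail), (1, (.step [6, 15, 6, 8] (.step [13, 17, 25] .fail))), (2, .fail), (1, (.step [8, 12, 7, 7, 13] .fail)), (1, (.step [6, 25, 13, 13] .fail)), (1, (.step [9, 25, 8, 13] (.step [12, 16, 21] .fail))), (1, (.step [6, 13, 13, 14, 9] (.step [] .fail))), (1, (.step [6, 6, 13, 15, 25] (.step [12, 24, 14] (.step [14, 17, 15, 23] .fail)))), (1, (.step [7, 13, 7, 13]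 (.step [13, 21, 16] (.step [15, 16, 19, 22] .fail)))), (1, (.step [8, 14, 12] (.step [10, 16, 10, 22] .fail))), (1, .fail), (1, (.step [9, 15, 7] (.step [11, 23, 11] .fail))), (1, .fail), (1, (.step [7, 14] .fail)), (1, (.step [6, 6, 6] (.step [10, 12, 12, 23] .fail))), (1, .fail), (1, (.step [9, 12, 15, 12] .fail)), (3, .fail), (1, (.step [7, 25] .fail)), (1, .fail), (1, (.step [6, 12, 12, 15] (.step [10, 24, 17, 12] .fail))), (1, .fail), (1, (.step [6, 8, 6, 13, 7] (.step [13, 21, 13] (.step [14, 19, 19] .fail)))), (1, (.step [9, 14, 13, 7] (.step [11, 12, 11] .fail))), (1, .fail), (1, (.step [6, 8, 25, 9, 13] (.step [10, 22, 11, 12] .fail))), (1, (.step [6, 25, 13, 14] .fail)), (1, (.step [7, 8, 8, 8] (.step [12, 10, 13, 13] .fail))), (1, .fail), (1, (.step [9, 14, 8] .fail)), (1, (.step [6, 8, 12, 7] (.step [12, 14, 10] (.step [14, 19, 15] .fail)))), (1, (.step [7, 13, 14, 13] (.step [12, 15, 16, 21] .fail))), (1, (.step [6, 6, 6,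 15, 12] .fail)), (1, (.step [6, 13, 13, 8] (.step [12, 17, 21] (.step [14, 20, 24] .fail)))), (1, (.step [6, 12, 12, 6, 15] .fail)), (1, (.step [7, 15, 6, 8] .fail)), (1, (.step [7, 7, 8, 6] .fail)), (2, .fail)])

/-- the pieces of a certificate -/
noncomputable def pcsCp : List (List (List ℕ) × Cert) := [(UA_0, cCp_0), (UA_1, cCp_1)]

/-- a piece of a certificate -/
noncomputable def cT2_0 : Cert := (Cert.rl [(1, .fail), (1, (.step [8, 8, 8] .fail)), (1, (.step [9, 14, 13, 7] (.step [10, 16, 13, 16] (.step [16, 16] .fail)))), (1, (.step [7, 7, 14, 12] (.step [10, 15, 17, 12] .fail))), (1, (.step [7, 8, 8] (.step [11, 23, 11, 21] .fail))), (1, (.step [7, 15, 8] .fail)), (1, (.step [8, 13, 14, 25] (.step [13, 21, 17] .fail))), (1, (.step [6, 6, 9, 14, 12] .fail)), (1, .fail), (1, (.step [7, 8, 12] (.step [10, 12, 11, 22] (.step [15, 18, 23] .fail)))), (1, (.step [9, 9, 7, 13] (.step [11, 12, 12, 11] (.step [14, 20, 23, 15] .fail)))),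 (1, (.step [7, 13, 9] (.step [10, 13, 21] (.step [18, 24, 17] .fail)))), (1, .fail), (1, (.step [7, 12, 6, 25] .fail)), (1, (.step [6, 12, 6, 12] (.step [11, 13, 10, 14] .fail))), (1, .fail), (1, (.step [6, 12, 12, 6, 15] .fail)), (1, (.step [8, 8, 13, 15] (.step [10, 23, 13, 11] (.step [14, 21, 17, 18] .fail)))), (3, .fail), (1, (.step [6, 12, 14, 6, 9] (.step [10, 23, 15] (.step [14, 17, 20, 22] .fail)))), (1, .fail), (1, (.step [6, 6, 13, 15, 25] (.step [12, 23, 17, 23] (.step [19, 22, 18] .fail)))), (1, (.step [7, 7, 7, 25] (.step [10, 17, 10, 15] (.step [16, 15] .fail)))), (1, (.step [6, 12, 14, 6] (.step [10, 21, 15, 13] (.step [14, 16, 25] .fail)))), (1, (.step [8, 14, 6] .fail)), (1, (.step [9, 6, 14, 8] (.step [10, 16, 10, 10] .fail))), (1, (.step [7, 12, 6, 13] (.step [10, 21, 24] (.step [18, 22, 25] .fail)))), (1, (.step [8, 25, 7] .fail)), (2, .fail), (1, (.step [9, 13, 6, 6] .fail)), (1, (.step [6, 6, 13, 7] (.step [10,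 17, 10, 25] .fail))), (1, (.step [7, 8, 7, 7] .fail)), (2, .fail), (1, (.step [6, 14, 7, 8] .fail)), (1, .fail), (1, (.step [6, 6, 25, 13] (.step [13, 11, 17] (.step [19, 22, 17] .fail)))), (1, .fail), (1, (.step [6, 6, 8, 12, 6] (.step [10, 13, 17, 10] (.step [18, 22, 17] .fail)))), (1, (.step [6, 12, 8] (.step [12, 11, 14] (.step [14, 18, 15] .fail)))), (1, (.step [8, 7, 8, 7] .fail)), (1, (.step [6, 6, 12, 25] (.step [11, 22] (.step [15, 16, 19, 14] .fail)))), (2, .fail), (1, (.step [6, 15, 6, 25] (.step [10, 15, 21, 14] .fail))), (1, (.step [7, 8, 7, 12] (.step [10, 12, 25, 12] (.step [15, 16, 21, 19] .fail)))), (1, .fail), (1, (.step [7, 14, 13, 8] .fail)), (1, (.step [8, 8, 7] (.step [12, 21, 17] (.step [16, 15, 16, 15] .fail)))), (1, (.step [8, 7, 25, 8] (.step [11, 12, 11] .fail))), (1, (.step [9, 13, 15] .fail)), (1, (.step [8, 12, 25, 7] (.step [10, 12, 11, 15] .fail))), (1, (.step [8, 25, 8] .fail)), (1, (.step [9, 25, 6,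 9] (.step [10] (.step [14, 17, 25, 19] .fail)))), (1, (.step [6, 8, 13, 15, 12] .fail)), (2, .fail), (1, (.step [6, 14, 9, 9, 14] (.step [10, 24, 13, 14] (.step [16, 21, 19] .fail)))), (1, (.step [6, 12, 9, 9, 15] (.step [10, 22, 16] .fail))), (1, (.step [6, 6, 14, 12] (.step [11, 12, 12, 15] .fail))), (1, (.step [6, 8, 7, 25, 6] .fail)), (1, .fail), (1, (.step [6, 12, 7, 8, 7] .fail)), (1, (.step [6, 6, 12, 12] (.step [12, 10, 21] (.step [15, 16, 21, 15] .fail)))), (1, .fail), (1, (.step [6, 6, 13, 7] (.step [12, 21, 11, 21] (.step [15, 17, 17, 25] .fail)))), (1, .fail), (1, (.step [9, 6, 8, 6] .fail)), (1, (.step [6, 13, 14, 13] (.step [12, 17, 22] .fail))), (1, (.step [7, 8, 12, 25] (.step [12, 22, 13] (.step [15, 19, 15, 16] .fail)))), (1, (.step [6, 9, 7, 8] (.step [10, 13, 10, 21] (.step [15, 18] .fail)))), (1, (.step [6, 9, 14, 8] (.step [10, 10, 12, 14] (.step [15, 19, 24] .fail)))), (3, .fail), (1, (.step [6, 8, 6, 9] .fail)),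 (1, (.step [6, 25, 9, 14] .fail)), (2, .fail), (1, (.step [6, 25, 7, 15] .fail)), (1, .fail), (1, (.step [6, 14, 9, 6] (.step [10, 21, 12, 23] (.step [14, 16, 14, 23] .fail)))), (1, (.step [8, 7, 12, 8] (.step [10, 15, 16, 10] (.step [14, 17, 21, 17] .fail)))), (1, .fail), (1, (.step [6, 6, 6, 14] (.step [11, 12, 12, 15] (.step [18, 20, 18] .fail)))), (1, (.step [6, 25, 8, 6] (.step [12, 22, 17] .fail))), (1, (.step [7, 9, 15, 8] .fail)), (1, (.step [7, 8, 6, 25] (.step [10, 13] (.step [14, 18, 18, 25] .fail)))), (1, (.step [8, 12, 6, 25] (.step [12, 11, 13] .fail))), (1, .fail), (1, (.step [7, 12, 12] (.step [10, 16, 13, 10] (.step [18, 25] .fail)))), (1, (.step [7, 9, 13, 25] .fail)), (1, (.step [6, 12, 8, 15] (.step [11, 22, 12, 10] (.step [17, 18, 15] .fail)))), (1, (.step [7, 7, 15] (.step [12, 12, 10, 15] (.step [14, 20, 24, 16] .fail)))), (3, .fail), (1, (.step [7, 7, 7, 14] (.step [11, 21, 12] (.step [15, 18, 25, 18] .fail)))),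 (1, (.step [6, 15, 12, 8] (.step [10, 21, 15, 11] (.step [14, 20, 23] .fail)))), (1, (.step [7, 12, 14, 8] (.step [10, 12, 17, 14] .fail))), (1, (.step [6, 13, 9, 7, 14] .fail)), (1, (.step [6, 9, 13, 8, 12] .fail)), (3, .fail), (1, (.step [9, 6, 15] (.step [10, 15, 22, 11] (.step [14, 22, 16] .fail)))), (1, .fail), (1, (.step [7, 13, 25, 7] (.step [13, 16, 22] .fail))), (4, .fail), (1, (.step [6, 25, 7, 13, 7] (.step [10, 13, 13] (.step [16, 15, 23] .fail)))), (1, (.step [6, 6, 15, 8] (.step [13, 22, 13] (.step [14, 17, 19, 25] .fail)))), (1, (.step [6, 15, 9, 12] .fail)), (1, (.step [9, 6, 6, 13] (.step [10, 21, 13, 23] .fail))), (2, .fail), (1, (.step [9, 9, 13] (.step [12, 11, 16] .fail))), (1, .fail), (1, (.step [9, 14, 6] .fail)), (1, (.step [6, 14, 9, 6, 9] (.step [10, 24, 13] .fail))), (4, .fail), (1, (.step [7, 7, 12, 12] (.step [10, 12, 25, 11] .fail))), (1, (.step [6, 25, 8] (.step [10, 12, 10, 23] (.step [14, 22, 16, 20]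 .fail)))), (1, (.step [6, 9, 13, 13] (.step [11, 13, 25, 13] (.step [14, 22, 14, 18] .fail)))), (1, (.step [7, 8, 8, 13] .fail)), (1, (.step [9, 6, 6, 13] (.step [10, 10, 14, 10] (.step [14, 16, 18, 15] .fail)))), (1, (.step [9, 13, 8, 25] (.step [10, 21, 12, 17] (.step [14, 23, 14] .fail)))), (1, (.step [6, 14, 12] .fail)), (1, (.step [7, 14, 9, 25] .fail)), (1, .fail), (1, (.step [7, 25, 6, 8] (.step [13, 17, 11] (.step [17, 19] .fail)))), (1, (.step [6, 14, 8, 25, 12] .fail)), (1, .fail), (1, (.step [6, 25, 8, 12, 9] .fail)), (1, (.step [6, 6, 8, 25] (.step [12, 10, 17] .fail))), (1, (.step [7, 25, 7, 12] (.step [11, 12, 21, 13] (.step [14, 16, 21, 14] .fail)))), (1, .fail), (1, (.step [6, 14, 7, 15] (.step [12, 12, 22, 10] .fail))), (1, (.step [7, 15, 25, 7] (.step [10, 21, 11, 22] .fail))), (1, (.step [8, 6, 9, 12] .fail)), (1, (.step [7, 8, 15, 9] (.step [10, 13, 16, 15] .fail))), (1, (.step [6, 8, 7, 12, 25] .fail)), (1, .fail),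 (1, (.step [6, 8, 14, 7, 8] .fail)), (1, .fail), (1, (.step [7, 8, 12, 12] (.step [12, 14, 12] (.step [16, 21, 16, 19] .fail)))), (1, .fail), (1, (.step [7, 7, 15, 9, 9] (.step [10, 10, 13] (.step [15, 17, 14, 19] .fail)))), (3, .fail), (1, (.step [6, 9, 13, 8] .fail)), (1, (.step [6, 12, 12] .fail)), (1, .fail), (1, (.step [6, 8, 15, 7, 12] (.step [12, 11, 22] .fail))), (2, .fail), (1, (.step [6, 9, 12, 6] (.step [10, 24, 13, 25] (.step [14, 16, 25, 18] .fail)))), (1, .fail), (1, (.step [6, 13, 14, 12] (.step [11, 13, 16] (.step [14, 18, 21] .fail)))), (1, .fail), (1, (.step [8, 15, 6, 8] (.step [10, 25, 12, 15] .fail))), (2, .fail), (1, (.step [6, 12, 8, 15] (.step [11, 23, 13, 24] .fail))), (1, (.step [6, 8, 12, 6, 12] (.step [10, 24, 12, 12] (.step [14, 17, 20, 21] .fail)))), (2, .fail), (1, (.step [8, 13, 6, 6] .fail)), (4, .fail), (1, (.step [7, 13, 6, 14] (.step [12, 11, 14, 16] (.step [18, 20, 17] .fail)))), (1, .fail), (1, (.step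 [6, 6, 14, 13, 14] (.step [10, 10, 12] (.step [16, 16, 21] .fail)))), (1, (.step [7, 8, 8, 7] .fail)), (1, (.step [7, 9, 7, 9] (.step [10, 12, 12, 21] .fail))), (1, .fail), (1, (.step [9, 7, 13, 15] .fail)), (1, (.step [8, 7, 13, 8] (.step [13, 14, 13] .fail))), (1, (.step [7, 8, 13, 6] .fail)), (1, (.step [7, 9, 25] .fail)), (1, (.step [7, 13, 6, 14] (.step [10, 17, 22, 13] .fail))), (1, (.step [6, 13, 25, 9] .fail)), (1, (.step [8, 25, 7, 25] .fail)), (1, .fail), (1, (.step [7, 13, 15, 25] (.step [10, 12, 11, 22] .fail))), (2, .fail), (1, (.step [6, 15, 8, 15] (.step [10, 12, 17, 24] .fail))), (1, .fail), (1, (.step [7, 9, 14, 9] (.step [10, 25, 16] (.step [16, 14, 24] .fail)))), (3, .fail), (1, (.step [8, 6, 9, 6] (.step [10, 22] .fail))), (1, (.step [8, 12, 15] (.step [11, 12, 17, 22] .fail))), (1, (.step [6, 13, 14, 13] .fail)), (1, .fail), (1, (.step [8, 14, 12, 14] .fail)), (1, .fail), (1, (.step [9, 13, 7] .fail)), (1, (.step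 [6, 12, 6, 8] .fail)), (3, .fail), (1, (.step [8, 15, 9] .fail)), (1, (.step [8, 25, 12, 6] (.step [11] .fail))), (1, (.step [6, 8, 25, 7, 13] (.step [10, 12, 11, 14] .fail))), (2, .fail), (1, (.step [8, 6, 12, 15] (.step [12, 23, 17, 23] (.step [17, 14, 24] .fail)))), (4, .fail), (1, (.step [6, 13, 6, 9] .fail)), (1, (.step [6, 9, 13, 6, 13] (.step [10, 13, 10] .fail))), (1, (.step [9, 12, 6, 13] (.step [11, 21, 11] (.step [15, 19, 24] .fail)))), (1, .fail), (1, (.step [6, 6, 13, 14, 25] .fail)), (1, (.step [8, 7, 7, 9] .fail)), (1, (.step [6, 8, 15, 7, 8] (.step [11, 25] .fail))), (1, (.step [6, 6, 13, 7] (.step [10, 12, 21, 10] .fail))), (1, (.step [7, 7] .fail)), (1, .fail), (1, (.step [8, 7, 25, 7] (.step [10, 13, 17, 24] .fail))), (1, (.step [6, 6, 13, 6] (.step [12, 17, 12, 12] .fail))), (1, (.step [8, 14, 12, 14] (.step [12, 10] (.step [14, 16, 21, 14] .fail)))), (1, .fail), (1, (.step [8, 15, 13, 8] .fail)), (1, (.step [6, 14,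 7, 13] (.step [10, 10, 12, 22] (.step [19, 22, 16] .fail)))), (1, (.step [7, 12, 8, 14] .fail)), (1, (.step [7, 12, 9, 9] .fail)), (1, (.step [7, 8, 14, 6] .fail)), (1, (.step [7, 25, 9, 13] (.step [12, 25, 16, 12] .fail))), (1, .fail), (1, (.step [6, 12, 6, 12] (.step [10, 12, 14, 24] .fail))), (1, .fail), (1, (.step [6, 15, 9, 13] (.step [10, 21, 24] .fail))), (2, .fail), (1, (.step [6, 6, 15, 9] .fail)), (1, .fail), (1, (.step [7, 25, 7, 15] (.step [10, 10, 21, 14] (.step [14, 17, 19, 22] .fail)))), (2, .fail), (1, (.step [6, 6, 9, 13, 8] (.step [13, 14, 17] (.step [18, 20, 18] .fail)))), (2, .fail), (1, (.step [8, 15, 13] (.step [10, 12, 16, 11] (.step [15, 17, 23, 17] .fail)))), (1, (.step [6, 8, 12, 6, 12] (.step [10, 13, 23] .fail))), (1, (.step [7, 13, 6] .fail)), (1, (.step [6, 25, 8, 7, 12] .fail)), (1, (.step [8, 8, 12, 9] (.step [11, 13, 11, 24] (.step [16, 15, 23, 15] .fail)))), (1, (.step [6, 8, 13, 25] .fail)), (1, (.step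 [6, 13, 13, 8] (.step [11, 13, 11, 15] (.step [14, 18, 21, 24] .fail)))), (1, (.step [6, 14, 8, 12] .fail)), (2, .fail), (1, (.step [8, 12, 8, 15] (.step [11, 13, 10, 13] (.step [15, 17, 17, 25] .fail)))), (1, (.step [7, 12, 9, 9] (.step [10, 12, 24, 11] .fail))), (1, (.step [6, 6, 8, 14, 25] .fail)), (1, (.step [9, 6, 15, 7] .fail)), (1, (.step [7, 15, 25] (.step [13, 13, 15] .fail))), (1, (.step [7, 13, 6, 15, 12] (.step [12, 15, 22] (.step [16] .fail)))), (1, (.step [6, 12, 12, 14] (.step [12, 10] .fail))), (1, (.step [7, 8, 25, 13] .fail)), (1, (.step [7, 14, 7, 13] (.step [10, 16, 21] (.step [16, 15, 24] .fail)))), (1, (.step [8, 13, 6, 12, 12] .fail)), (1, (.step [6, 13, 25, 9, 9] .fail)), (1, .fail), (1, (.step [6, 9, 6, 14] (.step [10, 16, 16] (.step [17, 15, 24] .fail)))), (1, (.step [7, 8, 12, 25] .fail)), (1, (.step [7, 13, 6, 6] .fail)), (1, .fail), (1, (.step [7, 15, 25, 7] .fail)), (3, .fail), (1, (.step [6, 6, 25] (.step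 [12, 11, 17] (.step [17, 20, 16] .fail)))), (1, .fail), (1, (.step [6, 15, 8, 13] (.step [12, 15, 16] (.step [14, 20, 18, 15] .fail)))), (1, (.step [6, 6, 8, 15, 6] (.step [10, 22, 10, 22] (.step [17, 17, 20] .fail)))), (1, (.step [6, 12, 14] (.step [13, 10, 12] .fail))), (1, .fail), (1, (.step [7, 14, 25, 13] .fail)), (1, .fail), (1, (.step [9, 25, 12, 12] (.step [12, 12, 25, 11] (.step [17, 14, 18] .fail)))), (1, (.step [8, 12, 14, 9] (.step [12, 15, 24] (.step [19, 22, 18] .fail)))), (1, (.step [6, 9, 7] .fail)), (1, (.step [8, 12, 25] (.step [11, 21, 15] .fail))), (1, .fail), (1, (.step [7, 13, 9, 25] (.step [10, 17, 17, 12] .fail))), (1, (.step [6, 15, 8, 25, 12] (.step [13, 14, 22] .fail))), (1, (.step [8, 14, 6] .fail)), (1, (.step [8, 7, 7, 8] .fail)), (1, (.step [6, 25, 8, 12, 9] (.step [13, 17] .fail))), (1, (.step [6, 12, 8] (.step [12, 11, 14] (.step [14, 18, 15] .fail)))), (1, (.step [7, 14, 7, 8] .fail)), (1, .fail), (1,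 (.step [7, 15, 12, 7] (.step [11, 13, 10, 14] (.step [14, 18, 21, 18] .fail)))), (1, .fail), (1, (.step [7, 12, 9, 12] .fail)), (1, (.step [8, 12, 7, 14] .fail)), (1, (.step [6, 14, 25] .fail)), (1, (.step [6, 6, 8, 6, 15] (.step [13, 16, 16] (.step [14, 18, 23] .fail)))), (1, .fail), (1, (.step [8, 13, 14] (.step [10, 13, 21, 14] (.step [14, 18, 15, 24] .fail)))), (1, .fail), (1, (.step [6, 8, 13, 15, 25] (.step [11, 12, 17, 22] .fail))), (1, (.step [9, 14, 9] (.step [10, 12, 11, 15] .fail))), (1, (.step [8, 7, 13] .fail)), (1, (.step [9, 6, 12, 7] (.step [11, 23, 11] (.step [19, 24, 17] .fail)))), (1, (.step [6, 13, 9] (.step [10, 15, 13] .fail))), (1, (.step [7, 9, 13, 9] .fail)), (1, (.step [8, 25, 12] (.step [11] (.step [19, 14, 16] .fail)))), (1, .fail), (1, (.step [9, 12, 14, 6] .fail)), (1, (.step [6, 6, 6, 8, 6] (.step [10, 10, 16, 11, 15] (.step [16, 14, 24] .fail)))), (1, (.step [7, 8, 7, 15] .fail)), (1, .fail), (1, (.step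 [6, 14, 13, 6, 9] (.step [13, 14, 22] .fail))), (1, .fail), (1, (.step [8, 6, 12, 9] (.step [11, 13, 11, 24] .fail))), (1, (.step [9, 6, 12, 14] .fail)), (1, .fail), (1, (.step [6, 9, 6, 14] (.step [13, 16, 11] (.step [17, 14] .fail)))), (3, .fail), (1, (.step [6, 13, 25, 9] (.step [10, 17, 17, 12] .fail))), (1, (.step [6, 14, 7, 14] .fail)), (1, .fail), (1, (.step [7, 14, 7] .fail)), (1, (.step [6, 6, 8, 6, 8] (.step [11, 16, 11, 24] .fail))), (1, (.step [9, 12, 9] (.step [11, 12, 21] .fail))), (1, (.step [7, 12, 12, 12] (.step [12, 21, 15, 11] (.step [17, 18, 21] .fail)))), (1, (.step [6, 15, 9, 15, 13] .fail)), (2, .fail), (1, (.step [7, 9, 7, 7] (.step [11, 12, 11] .fail))), (1, (.step [8, 7, 12, 8] (.step [10, 13, 23, 17] (.step [17, 21, 17] .fail)))), (1, (.step [9, 15, 25, 13] (.step [10, 17, 13] (.step [14, 16, 14, 23] .fail)))), (2, .fail), (1, (.step [6, 9, 12, 6, 12] (.step [12, 16, 15] (.step [14, 17, 19] .fail)))), (1, (.step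 [6, 6, 8, 7, 7] (.step [12, 15] (.step [14, 16, 20, 14] .fail)))), (1, (.step [6, 14, 9, 9, 14] .fail)), (2, .fail), (1, (.step [7, 25, 9, 6] (.step [12, 21, 15] .fail))), (5, .fail), (1, (.step [7, 25, 12, 6] (.step [11, 12, 11, 23] (.step [17, 14, 24] .fail)))), (1, (.step [6, 8, 6, 9] (.step [11, 12, 23, 12] (.step [16, 22, 18] .fail)))), (1, (.step [7, 7, 12, 14] (.step [11, 21, 14] (.step [16, 23, 16] .fail)))), (1, (.step [9, 14, 7] .fail)), (1, (.step [7, 12, 15, 8] (.step [12, 12, 15] .fail))), (2, .fail), (1, (.step [9, 6, 12, 12] (.step [10, 17, 25, 10] .fail))), (1, .fail), (1, (.step [6, 12, 6, 13, 25] .fail)), (1, .fail), (1, (.step [9, 6, 25, 6] .fail)), (1, (.step [8, 12, 9, 14] (.step [11, 22, 11, 16] .fail))), (1, (.step [7, 14, 9, 13] (.step [] .fail))), (1, (.step [7, 9, 15, 9] (.step [10, 23, 13, 24] (.step [14, 19, 19] .fail)))), (1, (.step [6, 13, 15, 9, 12] .fail)), (1, (.step [6, 13, 14] (.step [12, 15, 16, 21]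 (.step [15, 18, 25, 18] .fail)))), (1, (.step [8, 6, 15, 8] .fail)), (1, (.step [8, 8, 6, 12] .fail)), (2, .fail), (1, (.step [9, 13, 6, 15] .fail)), (1, .fail), (1, (.step [8, 8, 12, 15] (.step [13, 21, 17] .fail))), (1, (.step [6, 15, 13] (.step [10, 21, 11, 13] (.step [14, 16, 20, 15] .fail)))), (1, (.step [7, 8, 6] (.step [10, 16, 23, 11] (.step [14, 17, 22, 14] .fail)))), (2, .fail), (1, (.step [6, 14, 13, 8] .fail)), (1, (.step [9, 13, 13] (.step [10, 17, 13, 23] (.step [16, 19, 15, 23] .fail)))), (1, (.step [9, 12, 6, 14] (.step [12, 16, 24] (.step [14, 23, 15, 22] .fail)))), (1, (.step [7, 14, 6, 13] (.step [10, 17, 13, 13] (.step [14, 17, 21, 15] .fail)))), (1, (.step [8, 14, 8, 25] (.step [11, 13, 11, 21] (.step [16, 22, 14, 18] .fail)))), (1, (.step [6, 9, 7, 12] (.step [13, 22, 15] (.step [18, 15, 18] .fail)))), (1, (.step [6, 9, 6, 12, 12] .fail)), (1, (.step [9, 13, 25, 6] (.step [10, 21, 15] (.step [17, 14, 18] .fail)))),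 (1, (.step [6, 6, 12, 8] (.step [10, 17] .fail))), (1, (.step [9, 14, 8, 7] (.step [11, 21, 14, 11] (.step [15, 17, 23, 17] .fail)))), (1, .fail), (1, (.step [7, 7, 7, 8] .fail)), (1, .fail), (1, (.step [7, 9, 25, 8] (.step [10, 16, 11] .fail))), (1, (.step [9, 15] (.step [10, 13, 21, 13] .fail))), (1, (.step [7, 25, 13, 8] .fail)), (1, .fail), (1, (.step [9, 14, 13] (.step [12, 24, 10, 17] (.step [14, 18, 18, 18] .fail)))), (1, (.step [6, 8, 25, 13, 14] (.step [10, 17, 11] (.step [17, 15, 24] .fail)))), (1, (.step [8, 6, 8, 13] (.step [10, 23, 13, 24] .fail))), (1, (.step [9, 9, 6, 25] (.step [10, 24, 10] (.step [15, 16] .fail)))), (2, .fail), (1, (.step [8, 8, 12, 15] .fail)), (1, .fail), (1, (.step [8, 8, 25, 9] .fail)), (1, (.step [7, 7, 7, 25] (.step [11, 13, 22] (.step [14, 16, 21, 18] .fail)))), (1, (.step [7, 8, 7, 7, 15] .fail)), (1, (.step [6, 6, 12, 7, 13] (.step [12, 23, 11] (.step [16, 18, 25, 17] .fail)))), (2, .fail),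 (1, (.step [9, 14, 8, 6] (.step [10, 13, 14, 24] (.step [16, 22, 14] .fail)))), (1, (.step [9, 13, 14, 13] (.step [13, 14, 22] .fail))), (1, .fail), (1, (.step [6, 12, 12, 6, 15] .fail)), (1, (.step [8, 25, 13, 8] (.step [11, 24, 25, 17] (.step [16, 16] .fail)))), (1, (.step [6, 12, 8, 15] (.step [10, 13, 23, 15] (.step [16, 21, 16, 19] .fail)))), (1, (.step [6, 12, 14, 6, 14] .fail)), (1, (.step [7, 8, 13] (.step [11, 21, 10, 17] (.step [17, 15] .fail)))), (1, (.step [6, 9, 13, 8, 6] (.step [13, 16, 21] (.step [14, 17, 17, 14] .fail)))), (1, .fail), (1, (.step [6, 14, 9, 6] (.step [11, 12, 11] (.step [17, 17, 14] .fail)))), (2, .fail), (1, (.step [7, 13] (.step [11, 13, 11, 24] (.step [15, 20, 16, 25] .fail)))), (1, (.step [8, 15, 12, 6] .fail)), (2, .fail), (1, (.step [8, 15, 25] (.step [10, 22, 15, 12] (.step [17, 20, 22] .fail)))), (1, .fail), (1, (.step [7, 7, 14, 9] (.step [10, 21, 11, 21] .fail))), (1, .fail), (1, (.step [6, 6,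 14, 12, 6] (.step [10, 24] (.step [16, 22, 18] .fail)))), (1, .fail), (1, (.step [8, 14, 8, 25] (.step [11, 13, 11, 21] (.step [16, 22, 14, 18] .fail)))), (1, (.step [8, 12, 14, 7] (.step [10, 24, 13, 13] .fail))), (1, .fail), (1, (.step [9, 7] .fail)), (1, .fail), (1, (.step [8, 25, 12, 6] (.step [12, 14] .fail))), (1, (.step [7, 7, 25, 8, 14] .fail)), (1, .fail), (1, (.step [6, 6, 8, 14] .fail)), (1, (.step [6, 8, 7, 9, 13] .fail)), (1, (.step [6, 14, 9, 12] (.step [10, 10, 14, 17] (.step [14, 19, 14] .fail)))), (1, (.step [6, 6, 8, 15, 6] .fail)), (1, .fail), (1, (.step [7, 13, 7] .fail)), (1, (.step [9, 7] .fail)), (1, (.step [9, 9, 7, 8] (.step [10, 23, 10, 12] (.step [14, 17, 22, 18] .fail)))), (1, (.step [6, 8, 13, 14, 12] (.step [10, 13, 15, 22] .fail))), (1, (.step [7, 15, 12, 7, 13] (.step [12, 11, 15, 21] (.step [14, 19, 23, 14] .fail)))), (1, .fail), (1, (.step [7, 8, 25, 8] (.step [10, 21, 11, 13] (.step [16, 19, 14] .fail)))),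 (1, .fail), (1, (.step [6, 15, 8, 15] (.step [11, 13, 11, 22] (.step [14, 18, 23] .fail)))), (1, (.step [8, 12, 9, 6] .fail)), (2, .fail), (1, (.step [6, 8, 25, 13] .fail)), (3, .fail), (1, (.step [7, 13, 9, 7] .fail)), (1, (.step [9, 13, 25] (.step [10, 21, 12, 21] .fail))), (1, (.step [6, 6, 6, 8, 14] .fail)), (1, .fail), (1, (.step [6, 6, 8, 12] .fail)), (2, .fail), (1, (.step [7, 25, 13, 25] (.step [10, 15, 22, 13] (.step [16, 18, 25] .fail)))), (1, .fail), (1, (.step [7, 15] .fail)), (1, (.step [9, 15, 12] (.step [11, 21, 12, 12] (.step [16, 15, 24, 14] .fail)))), (1, (.step [6, 12, 14, 13] (.step [13, 24, 12] (.step [14, 19] .fail)))), (1, .fail), (1, (.step [9, 13, 9, 7] (.step [10, 10, 16, 10] .fail))), (1, (.step [6, 14, 9, 15] .fail)), (1, (.step [7, 9, 25, 7] (.step [12, 16, 22] .fail))), (2, .fail), (1, (.step [6, 9, 6, 12] .fail)), (1, (.step [6, 8, 7, 9, 14] .fail)), (1, (.step [9, 15, 13, 25] .fail)), (1, .fail), (1, (.step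 [9, 15, 25] .fail)), (1, (.step [8, 6, 12, 15, 7] (.step [10, 10, 16, 14] .fail))), (1, (.step [9, 25, 6, 8] (.step [13, 24, 11] .fail))), (1, (.step [9, 14, 8, 6] .fail)), (1, .fail), (1, (.step [8, 12, 8, 8] (.step [10, 13, 23, 13] .fail))), (1, .fail), (1, (.step [6, 13, 7, 9, 6] (.step [11, 12, 14, 12] .fail))), (1, (.step [6, 6, 9, 25] (.step [12, 12, 15] .fail))), (1, .fail), (1, (.step [8, 14, 6, 15] .fail)), (1, (.step [9, 6, 6, 6] (.step [13, 13, 21] (.step [17, 15, 19] .fail)))), (1, .fail), (1, (.step [8, 8, 13, 6] (.step [10, 17, 11, 21] (.step [15, 19, 24] .fail)))), (1, .fail), (1, (.step [7, 9, 6, 14] .fail)), (1, (.step [8, 6, 12, 12] (.step [11, 13, 25, 17] .fail))), (1, (.step [9, 14, 25, 6] .fail)), (1, (.step [7, 14, 8] .fail)), (1, (.step [6, 8, 14, 13] (.step [10, 10, 15, 13] .fail))), (1, (.step [6, 6, 13, 25, 8] .fail)), (1, .fail), (1, (.step [8, 15, 9] (.step [10, 12, 16, 12] (.step [16, 16, 23] .fail)))), (1,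 (.step [7, 8, 25] .fail)), (1, (.step [6, 12, 6, 8, 13] .fail)), (1, (.step [6, 15, 13, 25] .fail)), (1, (.step [6, 9, 6, 25] .fail)), (1, (.step [6, 6, 25, 8] .fail)), (1, (.step [6, 13, 14, 13, 9] .fail)), (1, .fail), (1, (.step [8, 7, 13, 6] (.step [12, 17, 12, 24] (.step [14, 16, 20, 22] .fail)))), (1, (.step [6, 15, 13, 9] .fail)), (1, (.step [7, 12, 9, 12] .fail)), (1, (.step [6, 13, 6, 14, 13] (.step [10, 15, 24, 10] (.step [16] .fail)))), (1, (.step [6, 8, 7, 25, 6] .fail)), (2, .fail), (1, (.step [7, 8, 25, 7] (.step [10, 10, 14, 11] (.step [14, 18, 21] .fail)))), (1, .fail), (1, (.step [7, 14, 25, 6] .fail)), (1, (.step [9, 6, 12, 7] (.step [12, 17] (.step [15, 17, 22] .fail)))), (1, (.step [8, 12, 9, 6] (.step [10, 13, 15, 25] .fail))), (1, .fail), (1, (.step [9, 6, 14, 8] (.step [10, 23, 10] .fail))), (1, .fail), (1, (.step [6, 15, 12, 8] (.step [12, 14, 22] (.step [16, 23, 16] .fail)))), (1, (.step [6, 14, 7, 9] (.step [13,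 16, 15, 25] (.step [14, 18, 20, 19] .fail)))), (1, .fail), (1, (.step [6, 15, 8, 15] (.step [13, 11, 14, 17] .fail))), (2, .fail), (1, (.step [7, 7, 25, 6] (.step [10, 15, 11, 23] (.step [16, 18, 24] .fail)))), (1, (.step [8, 6, 12, 9] .fail)), (1, .fail), (1, (.step [7, 14, 7, 8] (.step [10, 17, 11] (.step [17, 15, 19] .fail)))), (1, (.step [6, 8, 6, 14] (.step [10, 22, 12, 23] (.step [15, 18, 20, 23] .fail)))), (1, .fail), (1, (.step [6, 9, 13, 8, 6] .fail)), (1, (.step [6, 15, 9, 14] (.step [13, 21, 15] (.step [15, 20] .fail)))), (3, .fail), (1, (.step [6, 14, 7, 15] .fail)), (1, (.step [6, 13, 7, 7] (.step [11, 21, 12] (.step [14, 18, 18] .fail)))), (2, .fail), (1, (.step [8, 13, 15, 6] .fail)), (1, .fail), (1, (.step [7, 8, 15] (.step [10, 15, 10, 10] .fail))), (1, (.step [6, 14] (.step [10, 12, 12, 14] (.step [19, 24, 15] .fail)))), (1, (.step [7, 9, 13, 14] (.step [10, 16, 10, 23] .fail))), (1, (.step [7, 9, 25, 7] .fail)), (1,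 (.step [6, 15, 9, 6] (.step [11, 13] (.step [18, 21, 15] .fail)))), (3, .fail), (1, (.step [6, 12, 7, 8] (.step [10, 12, 17, 15] .fail))), (1, (.step [8, 14, 12, 14] .fail)), (1, (.step [6, 14, 13, 6] (.step [10, 24, 13, 13] (.step [15, 18, 20] .fail)))), (1, (.step [6, 6, 14, 25] (.step [11, 13, 14] .fail))), (3, .fail), (1, (.step [6, 8, 13, 13, 8] .fail)), (2, .fail), (1, (.step [6, 8, 14, 6, 9] .fail)), (1, (.step [6, 14, 8, 8, 14] .fail)), (1, .fail), (1, (.step [6, 12, 7, 13] (.step [13] .fail))), (1, (.step [9, 25] (.step [10, 15, 21, 14] (.step [16, 15, 16] .fail)))), (1, (.step [7, 15, 25, 8] .fail)), (7, .fail), (1, (.step [6, 12, 7, 8] .fail)), (1, (.step [9, 12, 15] (.step [10, 24, 12, 17] (.step [14, 16, 21, 18] .fail)))), (1, (.step [9, 15, 9, 13] (.step [12, 23, 11] (.step [14, 18, 14, 22] .fail)))), (1, (.step [6, 6, 8, 14, 25] (.step [10, 21, 13, 22] .fail))), (2, .fail), (1, (.step [6, 14, 12, 25] (.step [10, 12, 12,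 23] .fail))), (1, (.step [6, 6, 13] (.step [10, 12, 24, 11] (.step [17, 18, 24] .fail)))), (1, (.step [6, 13, 8] .fail)), (1, .fail), (1, (.step [6, 9, 7, 7] (.step [10, 22, 11, 24] (.step [14, 18, 21, 24] .fail)))), (2, .fail), (1, (.step [6, 8, 7] .fail)), (1, (.step [7, 13, 13] (.step [11, 16, 12] (.step [15, 18] .fail)))), (1, .fail), (1, (.step [6, 13, 15, 13] (.step [13, 17, 23] (.step [16, 21, 15] .fail)))), (1, (.step [6, 6, 15, 12] (.step [11, 22, 17, 12] .fail))), (1, (.step [9, 6, 25] (.step [10, 12, 25] .fail))), (1, (.step [8, 6, 15] .fail)), (1, (.step [6, 12, 8, 7, 8] .fail)), (1, (.step [7, 25] (.step [13, 14, 23] .fail))), (1, .fail), (1, (.step [8, 12, 9, 9] .fail)), (1, (.step [6, 13, 25, 6] .fail)), (1, .fail), (1, (.step [7, 14, 6, 13] (.step [10, 12, 11, 14] .fail))), (1, .fail), (1, (.step [6, 12, 7, 13] (.step [12, 12, 10, 22] (.step [17, 22, 17] .fail)))), (1, (.step [6, 8, 7, 14, 13] (.step [13, 21, 13] .fail))),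 (1, .fail), (1, (.step [6, 12, 8, 25, 8] (.step [11, 16] (.step [14, 17] .fail)))), (1, .fail), (1, (.step [7, 7, 15, 12] .fail)), (1, (.step [7, 13, 13, 9] .fail)), (2, .fail), (1, (.step [7, 25, 7, 15] (.step [12, 11, 14, 16] (.step [16, 14, 22] .fail)))), (1, (.step [6, 15, 9, 12] .fail)), (1, (.step [6, 6, 13, 8] (.step [13, 15] (.step [14, 16, 25] .fail)))), (1, .fail), (1, (.step [9, 9, 7, 13] (.step [10, 17, 11, 14] (.step [14, 21, 19, 22] .fail)))), (6, .fail), (1, (.step [7, 8, 25, 7] .fail)), (1, (.step [9, 15, 13, 25] (.step [10, 16, 10, 23] (.step [16, 14, 25] .fail)))), (1, (.step [9, 12, 9, 25] .fail)), (1, (.step [6, 12, 8, 15, 12] (.step [10, 15, 12] .fail))), (1, .fail), (1, (.step [6, 8, 13, 9, 25] (.step [10, 15, 22, 11] (.step [14, 19, 21, 23] .fail)))), (2, .fail), (1, (.step [8, 15, 6, 8] .fail)), (1, .fail), (1, (.step [6, 6, 8, 15, 7] .fail)), (1, .fail), (1, (.step [6, 12, 7, 7] (.step [13, 13, 17] (.step [14,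 21, 19] .fail)))), (1, .fail), (1, (.step [8, 13, 25] (.step [10, 13, 10, 21] .fail))), (1, (.step [8, 25] (.step [10, 23, 12] .fail))), (1, (.step [8] (.step [12, 12, 15, 12] .fail))), (1, (.step [7, 7, 12, 8] (.step [13, 24] (.step [17, 15, 24] .fail)))), (1, (.step [9, 14, 6, 14] .fail)), (1, (.step [9, 12, 8] .fail)), (1, .fail), (1, (.step [6, 15, 9, 15, 13] (.step [10, 21, 14, 12] (.step [17, 19] .fail)))), (3, .fail), (1, (.step [8, 25, 12, 9] .fail)), (1, (.step [9, 6, 25] (.step [10, 12, 12] (.step [16, 20, 18] .fail)))), (1, (.step [8, 8, 6, 13] (.step [11, 13, 25, 17] (.step [18, 24] .fail)))), (1, (.step [8, 25, 13, 8] (.step [12, 12, 10, 17] (.step [14, 16, 21, 17] .fail)))), (1, (.step [6, 6, 13, 15, 25] .fail)), (1, .fail), (1, (.step [6, 12, 6, 8, 13] (.step [10, 17, 17] (.step [18, 21, 24] .fail)))), (1, .fail), (1, (.step [6, 6, 8, 25, 8] (.step [10, 21, 14, 10] (.step [14, 17, 22, 16] .fail)))), (1, .fail), (1, (.step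 [9, 25, 8, 15] (.step [12, 25, 16, 12] .fail))), (1, .fail), (1, (.step [6, 8, 25, 8, 12] .fail)), (1, .fail), (1, (.step [6, 9, 14, 9, 14] (.step [13, 21, 12] (.step [15, 16, 14] .fail)))), (1, (.step [6, 6, 6, 6] (.step [10, 13, 25, 11] (.step [18, 14] .fail)))), (1, (.step [7, 13, 6] (.step [10, 10, 12, 21] .fail))), (1, (.step [6, 12, 15] .fail)), (1, (.step [6, 13, 8, 14] (.step [10, 13, 24, 13] (.step [14, 19, 19, 22] .fail)))), (3, .fail), (1, (.step [9, 9, 15, 6] .fail)), (1, (.step [7, 9, 12, 12] (.step [10, 13, 22] .fail))), (2, .fail), (1, (.step [6, 8, 15, 25] (.step [12, 25] (.step [16, 23, 18] .fail)))), (1, .fail), (1, (.step [6, 6, 14] (.step [12, 21, 23] .fail))), (1, (.step [6, 8, 13, 14] .fail)), (1, (.step [6, 8, 14, 12, 14] (.step [12, 22, 16] .fail))), (1, (.step [6, 14, 7, 13, 9] .fail)), (2, .fail), (1, (.step [7, 13, 15] .fail)), (3, .fail), (1, (.step [7, 9, 9, 15] (.step [10, 21, 12, 17] (.step [14, 17, 21,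 21] .fail)))), (1, (.step [6, 13, 7, 9] (.step [10, 13, 14] (.step [14, 16, 18, 20] .fail)))), (1, .fail), (1, (.step [6, 9, 7, 15] (.step [11, 12, 14, 12] (.step [14, 16] .fail)))), (2, .fail), (1, (.step [6, 14, 9, 15] .fail)), (1, .fail), (1, (.step [7, 8, 8, 6] .fail)), (1, (.step [6, 12, 8, 7, 25] (.step [11, 25, 16, 10] (.step [18, 21, 23] .fail)))), (1, (.step [6, 8, 12, 25] (.step [11, 12, 23, 12] .fail))), (2, .fail), (1, (.step [7, 12, 6, 25] (.step [13, 21, 21] (.step [14, 19, 14, 19] .fail)))), (1, (.step [8, 8, 8] .fail)), (1, (.step [6, 6, 6, 6, 15] (.step [11, 16, 10, 22] .fail))), (1, (.step [6, 9, 12, 9, 7] .fail)), (1, (.step [8, 12, 14] (.step [13, 10, 15] (.step [18, 22, 17] .fail)))), (1, (.step [9, 15, 9] .fail)), (1, (.step [8, 15, 7] (.step [10, 13, 21, 13] (.step [14, 18, 25] .fail)))), (1, .fail), (1, (.step [6, 6, 13, 14, 6] .fail)), (1, (.step [6, 13, 6, 8] (.step [12, 21, 16, 13] (.step [16, 16, 21] .fail)))),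 (1, (.step [6, 14, 25, 6] (.step [11, 25] .fail))), (1, (.step [6, 12, 15, 13] .fail)), (1, .fail), (1, (.step [8, 14] (.step [10, 12, 25, 12] .fail))), (1, (.step [6, 6, 13, 8, 12] (.step [10, 16, 23] .fail))), (1, (.step [7, 9, 9, 7] .fail)), (1, .fail), (1, (.step [7, 12, 6, 13] .fail)), (3, .fail), (1, (.step [7, 9, 13, 7, 9] (.step [12, 11, 23] .fail))), (1, (.step [8, 6, 12, 14] .fail)), (1, .fail), (1, (.step [7, 14, 25] (.step [10, 21, 14, 12] (.step [16, 15, 20] .fail)))), (1, .fail), (1, (.step [8, 8, 13, 6] .fail)), (1, .fail), (1, (.step [6, 12, 8, 7, 8] .fail)), (1, (.step [6, 9, 12, 6] (.step [12, 17, 23] .fail))), (2, .fail), (1, (.step [7, 7, 8, 6] (.step [10, 24, 17] .fail))), (3, .fail), (1, (.step [9, 9, 6] (.step [11, 13, 25] (.step [14, 21, 19, 23] .fail)))), (1, (.step [7, 12, 14, 8] .fail)), (1, (.step [6, 12, 12, 8, 7] (.step [12, 15] (.step [14, 16, 18] .fail)))), (1, (.step [7, 15, 8, 8] (.step [12, 16] (.step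 [16, 22, 14] .fail)))), (1, (.step [6, 13, 7, 9, 6] .fail)), (1, (.step [8, 15, 12, 6] .fail)), (1, (.step [9, 25, 9, 14] .fail)), (1, (.step [8, 6, 8, 8] (.step [10, 21, 13, 23] (.step [15, 20, 16, 24] .fail)))), (3, .fail), (1, (.step [6, 12, 8, 25, 8] .fail)), (1, (.step [6, 12, 8, 7, 8] (.step [12, 16, 16] .fail))), (1, (.step [7, 8, 12, 7] (.step [11, 22, 16] .fail))), (2, .fail), (1, (.step [8, 8, 12] (.step [12, 11] .fail))), (1, (.step [6, 8, 25] (.step [13, 23] .fail))), (1, .fail), (1, (.step [9, 25, 8] (.step [11, 13, 11, 16] .fail))), (1, (.step [7, 7, 12, 8, 6] (.step [11, 25, 16] .fail))), (1, .fail), (1, (.step [6, 8, 15, 7, 8] .fail)), (1, (.step [9, 14, 13] (.step [11, 24, 10, 12] (.step [16, 15, 23] .fail)))), (1, (.step [6, 8, 13, 9, 15] (.step [10, 17, 22, 11] (.step [16, 15, 25] .fail)))), (1, .fail), (1, (.step [6, 15, 6, 6, 15] (.step [13, 16, 11, 14] (.step [14, 18, 23] .fail)))), (1, .fail), (1, (.step [7, 14,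 25, 13] (.step [10, 15, 25, 16] .fail))), (1, .fail), (1, (.step [7, 25, 13, 25] .fail)), (1, .fail), (1, (.step [6, 12, 6, 12] (.step [11, 13, 10, 14] .fail))), (2, .fail), (1, (.step [8, 14, 13, 14] (.step [13, 22] .fail))), (1, (.step [7, 9, 12, 12] .fail)), (2, .fail), (1, (.step [6, 6, 8, 6, 6] (.step [12, 15, 23] .fail))), (1, (.step [9, 9, 7] (.step [11, 13, 11, 22] (.step [16, 22, 17] .fail)))), (1, .fail), (1, (.step [6, 8, 25, 9, 13] (.step [10, 25, 17] (.step [14, 20, 23] .fail)))), (1, (.step [8, 15, 9, 7] (.step [10, 21, 13, 23] (.step [18, 22] .fail)))), (1, (.step [7, 14, 25, 12] (.step [12, 17, 17] (.step [17, 21] .fail)))), (1, (.step [8, 8, 25, 9] .fail)), (1, (.step [7, 9, 7, 14] (.step [10, 17, 10, 25] (.step [14, 18, 14, 22] .fail)))), (1, (.step [9, 14, 13] .fail)), (1, (.step [7, 7, 15, 9, 9] (.step [10, 24, 12, 24] .fail))), (1, .fail), (1, (.step [6, 8, 15, 7, 12] (.step [13, 13, 24] .fail))), (1, (.step [7,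 8, 6, 25] (.step [11, 22, 14] .fail))), (1, .fail), (1, (.step [6, 12, 6, 13, 25] (.step [10, 25, 17, 12] .fail))), (2, .fail), (1, (.step [6, 25, 7, 9] (.step [10, 13, 17, 15] (.step [17, 22, 16] .fail)))), (1, (.step [7, 13, 6, 13] .fail)), (1, (.step [8, 14, 12, 15] (.step [10, 22, 10, 24] .fail))), (1, (.step [6, 25, 8, 12, 9] (.step [13, 10, 13] .fail))), (1, (.step [6, 15, 7, 15] (.step [12, 22] .fail))), (5, .fail), (1, (.step [6, 9, 14, 8, 15] .fail)), (1, (.step [6, 8, 6, 8] (.step [11, 22, 11, 16] (.step [19, 14, 16] .fail)))), (1, .fail), (1, (.step [6, 12, 9, 12] .fail)), (1, (.step [6, 8, 13, 15, 25] (.step [10, 17, 21, 14] .fail))), (1, (.step [6, 8, 13, 15, 7] .fail)), (1, (.step [7, 12, 9, 6, 14] (.step [10, 16, 11, 24] .fail))), (1, (.step [7, 8, 15, 9] (.step [12, 21, 24] (.step [14, 17, 17, 20] .fail)))), (1, (.step [8, 14, 9, 25] (.step [12, 14, 10] (.step [16, 18] .fail)))), (1, (.step [7, 25, 6, 8] .fail)), (1,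 .fail), (1, (.step [9, 6, 9, 14] (.step [10, 23, 13, 16] (.step [17, 14, 19] .fail)))), (1, .fail), (1, (.step [7, 8, 13] (.step [11, 21, 10, 17] (.step [14, 23, 19] .fail)))), (1, (.step [9, 9, 13, 25] (.step [12, 15, 13] .fail))), (1, (.step [6, 12, 7] (.step [10, 10, 22, 25] (.step [14, 18, 14, 18] .fail)))), (1, (.step [8, 8, 13, 9] (.step [10, 10, 14, 12] (.step [14, 19, 20, 24] .fail)))), (4, .fail), (1, (.step [7, 8, 8, 14, 9] (.step [12, 15, 11] .fail))), (1, (.step [7, 13, 13, 9] (.step [12, 16, 24] .fail))), (1, .fail), (1, (.step [8, 14, 9] (.step [10, 25, 13] (.step [15] .fail)))), (1, .fail), (1, (.step [6, 8, 14, 13] .fail)), (1, .fail), (1, (.step [6, 12, 12, 6, 15] .fail)), (1, (.step [6, 8, 14, 7] .fail)), (1, (.step [6, 6, 8, 8] .fail)), (1, (.step [6, 9, 6, 8, 14] (.step [12, 24, 10, 17] (.step [14, 16, 18] .fail)))), (1, (.step [6, 6, 8, 15, 7] .fail)), (1, (.step [9, 6, 25, 12] (.step [13, 24, 10] (.step [14, 22,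 16, 20] .fail)))), (1, .fail), (1, (.step [6, 6, 6, 6, 15] (.step [11, 12, 17, 25] (.step [18, 14, 25] .fail)))), (3, .fail), (1, (.step [6, 6, 8, 8, 7] .fail)), (1, (.step [8, 7, 25] (.step [10, 12, 10, 16] (.step [15, 16, 24] .fail)))), (1, (.step [7, 14, 13] .fail)), (1, (.step [9, 12, 8, 12] .fail)), (2, .fail), (1, (.step [8, 14, 13, 6] (.step [12, 12, 10, 15] (.step [14, 22, 16, 21] .fail)))), (1, (.step [8, 7, 12] (.step [10, 15, 13, 25] .fail))), (1, (.step [6, 14, 9, 15, 7] (.step [13, 17, 23] (.step [16, 20, 22, 14] .fail)))), (1, (.step [6, 12, 8, 15, 25] .fail)), (1, (.step [6, 9, 15, 6, 15] (.step [12, 11, 13, 13] (.step [14, 19, 20, 23] .fail)))), (1, .fail), (1, (.step [6, 13, 13, 15] (.step [10, 13, 14, 24] (.step [] .fail)))), (1, (.step [7, 13, 9] (.step [13, 11, 13, 11] .fail))), (1, (.step [7, 9, 9, 14] (.step [13, 15, 25] .fail))), (1, (.step [8, 12, 7, 7, 13] (.step [10, 10, 21, 13] (.step [14, 17, 25, 19] .fail)))),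 (1, (.step [6, 25, 7, 13] .fail)), (1, (.step [8, 12, 7, 7] .fail)), (1, (.step [6, 25, 7, 8] (.step [11, 13, 23] .fail))), (1, (.step [7, 7, 13, 13] (.step [12, 16, 15] .fail))), (1, (.step [9, 13, 6, 6] (.step [10, 13, 21, 13] .fail))), (1, (.step [8, 12, 15] (.step [11, 12, 17, 22] .fail))), (2, .fail), (1, (.step [6, 8, 13, 8] .fail)), (1, .fail), (1, (.step [8, 12] .fail)), (1, (.step [6, 8, 13, 15, 12] .fail)), (1, (.step [6, 12, 6, 12] (.step [13, 11, 21] .fail))), (1, .fail), (1, (.step [6, 13, 6, 8, 15] (.step [10] .fail))), (1, (.step [8, 14, 8, 15] .fail)), (2, .fail), (1, (.step [7, 25, 9, 15] (.step [10, 13, 10, 15] .fail))), (1, (.step [8, 13, 13, 15] (.step [10, 15, 11, 23] .fail))), (2, .fail), (1, (.step [8, 6, 9, 14] .fail)), (1, .fail), (1, (.step [6, 13, 6, 8, 15] .fail)), (1, (.step [6, 8, 12, 15] (.step [10, 25, 11] (.step [18, 24, 16] .fail)))), (1, (.step [9, 14, 13] (.step [11, 12, 21, 13] (.step [14, 20, 21,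 19] .fail)))), (1, (.step [8, 13, 9, 6] (.step [13, 11, 23] .fail))), (1, (.step [6, 8, 12, 6, 12] (.step [12, 15, 23] .fail))), (2, .fail), (1, (.step [6, 9, 7, 15, 8] .fail)), (1, (.step [8, 12, 8] .fail)), (1, (.step [9, 14, 6, 14] (.step [10, 16] .fail))), (1, (.step [6, 25, 9] .fail)), (2, .fail), (1, (.step [7, 14, 9, 14] (.step [10, 25, 13, 15] (.step [14, 18, 18, 25] .fail)))), (1, .fail), (1, (.step [6, 12, 9, 12, 12] .fail)), (1, .fail), (1, (.step [6, 13, 25, 8] (.step [12, 24, 17] .fail))), (1, (.step [8, 13, 6] .fail)), (1, (.step [6, 14, 12, 6] .fail)), (1, (.step [6, 14, 13, 8] .fail)), (1, .fail), (1, (.step [6, 8, 15, 7, 12] (.step [11, 12, 23, 17] (.step [14, 16, 19, 24] .fail)))), (2, .fail), (1, (.step [8, 13, 25, 9] .fail)), (1, (.step [8, 7, 12, 9] (.step [13, 14, 23] (.step [18, 15, 22] .fail)))), (1, .fail), (1, (.step [6, 8, 6, 12, 25] (.step [10, 16, 25] .fail))), (1, (.step [6, 9, 6, 13] .fail)), (1, .fail),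 (1, (.step [6, 6, 25, 8] (.step [12, 21, 21] .fail))), (2, .fail), (1, (.step [8, 6, 6, 13] (.step [11, 13, 15, 12] .fail))), (2, .fail), (1, (.step [8, 6, 14, 13] (.step [11, 22, 11] .fail))), (1, (.step [8, 15, 8, 25] (.step [10, 22, 13, 17] (.step [14, 19, 14, 19] .fail)))), (1, (.step [8, 7, 25] (.step [12, 14, 12] (.step [14, 22, 16, 20] .fail)))), (2, .fail), (1, (.step [7, 25, 12, 8] (.step [13, 10, 17] (.step [14, 16, 14, 17] .fail)))), (1, (.step [8, 14, 13, 6] (.step [11, 16, 11, 13] .fail))), (1, (.step [7, 25, 7, 15] (.step [10, 22, 25] (.step [17, 22, 14] .fail)))), (1, (.step [8, 12, 25, 8] .fail)), (1, (.step [7, 9, 25, 8] (.step [10, 10, 13, 25] (.step [17, 18, 22] .fail)))), (1, .fail), (1, (.step [7, 8, 8, 7] (.step [13, 16, 15, 25] (.step [14, 16, 14, 17] .fail)))), (2, .fail), (1, (.step [6, 13, 14, 12] (.step [13, 11, 14, 17] (.step [18, 24, 18] .fail)))), (1, (.step [7, 12, 7, 15, 25] (.step [10, 16, 21, 24] .fail))),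 (2, .fail), (1, (.step [9, 14, 7] .fail)), (1, .fail), (1, (.step [6, 13, 8, 7] (.step [10, 24, 10, 17] (.step [16, 20, 19] .fail)))), (2, .fail), (1, (.step [6, 14, 8, 6] .fail)), (1, .fail), (1, (.step [9, 13, 8, 14] (.step [10, 17, 21] (.step [14, 18, 20, 22] .fail)))), (1, (.step [6, 6, 25, 7] .fail)), (1, .fail), (1, (.step [8, 25, 12] (.step [12, 21, 11, 21] (.step [16, 21, 18] .fail)))), (1, (.step [9, 15, 12, 25] .fail)), (1, (.step [6, 6, 15, 9] .fail)), (2, .fail), (1, (.step [7, 15, 25, 13] (.step [11, 24, 12] .fail))), (1, (.step [7, 15, 13, 9] (.step [10, 10, 16, 23] (.step [19, 21, 14] .fail)))), (1, (.step [6, 6, 13, 15, 25] .fail)), (1, (.step [6, 12, 6, 14, 13] (.step [10, 24, 25] (.step [15, 16] .fail)))), (1, .fail), (1, (.step [6, 6, 6, 8, 6] (.step [10, 10, 16, 11, 15] (.step [16, 14, 24] .fail)))), (1, (.step [8, 25, 7, 25] .fail)), (1, .fail), (1, (.step [6, 9] (.step [10, 22, 13] (.step [14, 20, 24] .fail)))),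 (1, .fail), (1, (.step [6, 13, 7, 15, 13] (.step [11, 21, 12] (.step [16, 18, 15] .fail)))), (1, (.step [7, 7, 9, 13, 8] (.step [10, 10, 13, 11] (.step [17, 19] .fail)))), (2, .fail), (1, (.step [7, 12, 9, 12] .fail)), (1, (.step [7, 7, 14, 9] (.step [12, 24, 13, 17] .fail))), (3, .fail), (1, (.step [7, 14, 8, 7] (.step [10, 12, 14, 21] (.step [14, 20, 15, 22] .fail)))), (1, (.step [9, 14, 13, 9] .fail)), (3, .fail), (1, (.step [6, 13, 7, 14] (.step [10, 12, 15, 21] .fail))), (1, (.step [6, 9, 7, 9, 25] (.step [10, 13, 17] .fail))), (1, .fail), (1, (.step [8, 25, 7, 25] .fail)), (1, (.step [6, 9, 12, 9, 6] (.step [10, 13, 17, 12] (.step [17, 17, 19] .fail)))), (1, (.step [6, 8, 14, 7, 15] (.step [11, 13, 14, 23] (.step [14, 16, 16] .fail)))), (1, (.step [6, 9, 14, 8, 15] (.step [12, 25, 13, 21] .fail))), (1, (.step [8, 25, 9, 25] .fail)), (1, (.step [8, 6, 8, 8] (.step [12, 10, 15] (.step [14, 20, 24, 16] .fail)))), (1, .fail), (1, (.step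 [6, 13, 6, 14, 13] (.step [10, 21, 15, 13] (.step [17, 14, 22] .fail)))), (2, .fail), (1, (.step [8, 7, 8, 14] .fail)), (1, (.step [6, 6, 9, 6, 6] .fail)), (1, (.step [7, 8, 14, 25] (.step [10] (.step [14, 21, 17, 15] .fail)))), (5, .fail), (1, (.step [8, 13, 6] (.step [10, 13, 23] (.step [19, 14, 16] .fail)))), (1, (.step [6, 25, 8, 7, 12] (.step [12, 25, 16] (.step [15, 18, 24, 16] .fail)))), (1, (.step [9, 25] (.step [12, 15, 17] (.step [14, 20, 23, 15] .fail)))), (1, .fail), (1, (.step [7, 15, 6, 8] (.step [13, 15, 22] (.step [17, 17, 20, 17] .fail)))), (5, .fail), (1, (.step [9, 15, 25, 13] .fail)), (1, (.step [8, 8, 6, 9] (.step [13, 11, 12] (.step [18, 22] .fail)))), (1, (.step [6, 12, 12, 14] .fail)), (1, (.step [7, 25, 12, 15] (.step [13, 13, 21] (.step [15, 19, 22] .fail)))), (2, .fail), (1, (.step [6, 6, 12, 6, 14] .fail)), (4, .fail), (1, (.step [6, 6, 14, 6] (.step [10, 25, 16] (.step [17, 22, 17] .fail)))), (1, .fail),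 (1, (.step [6, 14, 7, 14] (.step [11, 22, 11] .fail))), (1, (.step [6, 13, 7, 7] (.step [11, 22, 17] (.step [14, 16, 18] .fail)))), (1, (.step [6, 25, 8, 6] (.step [11, 22, 17, 12] .fail))), (1, (.step [8, 13, 13, 15] .fail)), (1, (.step [6, 15, 8, 6, 15] .fail)), (1, (.step [6, 13, 13, 25] .fail)), (1, (.step [6, 13, 9, 13] .fail)), (1, (.step [7, 9, 14] .fail)), (1, (.step [7, 14, 8, 7] .fail)), (1, (.step [8, 25, 12, 8] (.step [11, 16, 11] (.step [14, 20, 23, 15] .fail)))), (1, .fail), (1, (.step [7, 14, 25, 13] .fail)), (2, .fail), (1, (.step [8, 8, 6, 12] .fail)), (1, (.step [6, 6, 6, 12, 8] (.step [10, 15, 12, 17] (.step [17, 14, 22] .fail)))), (1, .fail), (1, (.step [8, 15, 8, 7] (.step [12, 10, 17, 21] (.step [14, 18, 22, 18] .fail)))), (1, (.step [9, 14, 25] (.step [13, 15, 21, 12] (.step [17, 18, 24] .fail)))), (1, (.step [7, 8, 15, 7] (.step [12, 14, 10, 15] .fail))), (1, .fail), (1, (.step [6, 13, 25, 13, 7] .fail)), (1,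 .fail), (1, (.step [8, 6, 14, 13] (.step [10, 22, 12, 23] (.step [18, 24, 17] .fail)))), (1, .fail), (1, (.step [7, 8, 12, 8] (.step [10, 16] (.step [14, 23, 14] .fail)))), (1, (.step [8, 8, 25, 6] (.step [13, 15, 21, 12] (.step [17, 21] .fail)))), (1, (.step [8, 13, 9] (.step [10, 15, 12, 11] (.step [14, 21, 16, 25] .fail)))), (1, (.step [6, 8, 7, 25, 12] (.step [10, 24, 10, 17] .fail))), (1, (.step [7, 15, 12, 9] .fail)), (1, (.step [7, 9, 12, 15] .fail)), (1, (.step [6, 12, 6, 9, 14] (.step [10, 22, 10, 24] .fail))), (1, (.step [6, 6, 15, 8] (.step [11, 13, 14, 23] (.step [14, 17, 21, 15] .fail)))), (1, (.step [6, 6, 25, 12] (.step [10, 10, 25, 13] (.step [15, 20, 16] .fail)))), (1, (.step [8, 14, 9, 9] (.step [11, 16] (.step [14, 16, 19] .fail)))), (2, .fail), (1, (.step [7, 15, 12, 7, 13] (.step [10, 12, 21, 17] (.step [19, 24, 17] .fail)))), (1, (.step [] .fail)), (1, (.step [6, 15, 6, 6, 15] (.step [12, 25, 13] (.step [14, 17,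 24, 16] .fail)))), (1, (.step [] .fail)), (6, .fail), (1, (.step [6, 15, 9, 12] .fail)), (1, .fail), (1, (.step [8, 13, 25, 9] (.step [10, 16, 21, 12] .fail))), (1, (.step [7, 8, 7, 7] .fail)), (1, (.step [6, 6, 9, 15, 13] (.step [10, 22, 10, 10] (.step [15, 20, 14, 18] .fail)))), (1, (.step [7, 7, 14, 25, 13] (.step [10, 10, 22] (.step [17, 14, 19] .fail)))), (1, (.step [6, 15, 12, 7] (.step [10, 24, 17] .fail))), (1, .fail), (1, (.step [6, 12, 8, 7, 13] (.step [13, 11, 14] (.step [15, 18, 23] .fail)))), (1, (.step [8, 7, 25, 6] (.step [12, 22, 17] .fail))), (1, (.step [6, 15, 8, 15] .fail)), (1, .fail), (1, (.step [9, 7, 9, 25] (.step [11, 16, 10, 15] (.step [17, 17, 20, 17] .fail)))), (1, (.step [8, 13, 14] (.step [10, 10, 12, 14] .fail))), (1, .fail), (1, (.step [6, 13, 13, 8] (.step [10, 13, 21, 13] (.step [16, 15, 23, 15] .fail)))), (2, .fail), (1, (.step [8, 14, 13, 25] (.step [10, 17, 10, 24] (.step [17, 22, 17, 22] .fail)))),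 (1, .fail), (1, (.step [6, 13, 13, 15] .fail)), (1, (.step [8, 7, 7, 14] (.step [12, 15, 13] .fail))), (2, .fail), (1, (.step [6, 6, 9, 6, 9] .fail)), (1, .fail), (1, (.step [6, 12, 12, 14] (.step [10, 12, 23] .fail))), (1, (.step [9, 25, 9] .fail)), (1, (.step [9, 6, 9, 14] (.step [10, 23, 13, 16] (.step [17, 14, 19] .fail)))), (1, (.step [7, 14, 6, 14] .fail)), (2, .fail), (1, (.step [6, 6, 13, 6] (.step [10, 10, 14, 11] (.step [16, 18] .fail)))), (1, .fail), (1, (.step [9, 13, 13, 25] (.step [13, 15, 17] .fail))), (1, (.step [9, 25, 6] (.step [11, 22] (.step [14, 17, 19, 15] .fail)))), (1, (.step [6, 6] (.step [10, 15] (.step [15, 16, 16, 19] .fail)))), (1, .fail), (1, (.step [7, 8, 6] (.step [10, 24, 13, 13] .fail))), (2, .fail), (1, (.step [6, 8, 13, 13, 8] (.step [13, 14, 24] (.step [17, 14, 19] .fail)))), (1, (.step [7, 14, 7] .fail)), (1, (.step [6, 12] (.step [12, 11, 12] (.step [14, 19, 23, 17] .fail)))), (1, (.step [6, 9,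 15] (.step [10, 24, 13, 15] (.step [14, 20, 19] .fail)))), (1, (.step [6, 8, 14, 6, 9] (.step [11, 22, 14] (.step [14, 21, 19] .fail)))), (1, (.step [6, 6, 6, 8] (.step [11, 12, 23, 16] (.step [15, 16, 21, 19] .fail)))), (1, (.step [8, 25, 12, 8] .fail)), (1, (.step [6, 8, 7, 8, 7] (.step [10, 16, 15, 11] (.step [14, 16, 20, 17] .fail)))), (1, (.step [6, 8, 14, 6] (.step [13, 23, 12] (.step [16, 21] .fail)))), (1, (.step [6, 13, 15, 25] (.step [10, 12, 15, 12] .fail))), (1, .fail), (1, (.step [6, 13, 15, 25, 7] .fail)), (1, (.step [9, 7, 12] (.step [10, 17, 10] .fail))), (2, .fail), (1, (.step [6, 25, 8, 15] (.step [13, 16, 15, 25] .fail))), (1, .fail), (1, (.step [8, 13, 7, 7] (.step [10, 12, 14] (.step [14, 20, 24, 16] .fail)))), (1, .fail), (1, (.step [6, 6, 25, 7, 15] (.step [10, 10, 15, 13] (.step [14, 21, 19] .fail)))), (1, (.step [6, 9, 6, 13, 14] .fail))])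

/-- a piece of a certificate -/
noncomputable def cT2_1 : Cert := (Cert.rl [(1, (.step [7, 12, 14] (.step [10, 13, 13] (.step [14, 18, 20, 19] .fail)))), (1, .fail), (1, (.step [6, 9, 12, 6] (.step [10, 22, 11, 22] (.step [18, 21, 24] .fail)))), (1, .fail), (1, (.step [6, 12, 12, 6, 15] .fail)), (1, (.step [6, 6, 14, 12] .fail)), (1, (.step [8, 15, 9, 6] (.step [12, 17, 22, 12] .fail))), (2, .fail), (1, (.step [6, 13, 25, 13] .fail)), (1, (.step [8, 25, 9] (.step [12, 21, 23] (.step [16, 19, 14] .fail)))), (2, .fail), (1, (.step [8, 6, 9] .fail)), (1, (.step [8, 8, 6, 12] (.step [13, 24, 11] (.step [14, 20, 21, 19] .fail)))), (1, (.step [7, 7, 15, 8] .fail)), (2, .fail), (1, (.step [6, 12, 12, 6, 15] (.step [13, 11, 22] (.step [14, 19] .fail)))), (1, .fail), (1, (.step [9, 13, 14, 13] (.step [13, 14, 22] .fail))), (4, .fail), (1, (.step [7, 9] (.step [11, 13, 25] .fail))), (1, (.step [6, 9, 7, 9, 25] .fail)), (1, (.step [8, 6, 9, 12]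 (.step [13, 11, 12, 16] (.step [14, 16, 19, 15] .fail)))), (1, (.step [6, 6, 15, 12, 7] (.step [11, 16] .fail))), (1, .fail), (1, (.step [9, 9, 25] .fail)), (1, (.step [6, 6, 8, 8, 7] .fail)), (1, (.step [6, 6, 14, 9] (.step [10, 17, 12, 10] .fail))), (1, (.step [6, 15, 7, 9] .fail)), (1, (.step [7, 15, 9, 13] (.step [11, 12, 17, 25] .fail))), (1, (.step [6, 9, 15, 6, 14] (.step [11, 12, 10, 16] .fail))), (1, (.step [7, 7, 12] (.step [13, 10, 21] .fail))), (2, .fail), (1, (.step [8, 7, 15, 9, 12] (.step [10, 10, 14, 13] (.step [17, 19, 21] .fail)))), (1, (.step [7, 25, 8] (.step [12, 11, 13, 11] .fail))), (1, (.step [9, 25, 6, 9] (.step [10, 12, 11] (.step [17, 22, 16] .fail)))), (1, (.step [6, 25, 8, 12] .fail)), (1, (.step [8, 12, 7, 7] (.step [10, 10, 15, 13] (.step [14, 22, 14, 19] .fail)))), (1, (.step [8, 12] .fail)), (1, (.step [6, 8, 6] (.step [10, 10, 25, 13] (.step [17, 14, 22] .fail)))), (1, (.step [7, 13, 6, 13] (.step [10,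 13, 24, 13] (.step [18, 24, 19] .fail)))), (1, (.step [6, 13, 13, 14, 9] .fail)), (1, (.step [7, 9, 12, 12] (.step [10, 24, 13, 13] .fail))), (1, (.step [7, 15, 25, 7] (.step [10, 21, 11, 22] .fail))), (1, (.step [8, 8, 6, 9] .fail)), (1, (.step [6, 25, 8] (.step [10, 12, 10, 23] (.step [14, 22, 16, 20] .fail)))), (2, .fail), (1, (.step [6, 6, 25, 12] (.step [10, 16, 23] (.step [18, 14, 16] .fail)))), (1, (.step [7, 9, 12, 12] .fail)), (1, .fail), (1, (.step [8, 14, 6, 8] (.step [10, 24, 10] (.step [15, 18, 24, 16] .fail)))), (1, .fail), (1, (.step [8, 6, 8, 13] (.step [13, 24] .fail))), (1, (.step [6] .fail)), (1, (.step [8, 25, 13] .fail)), (1, (.step [6, 14, 9, 9, 14] .fail)), (2, .fail), (1, (.step [8, 15, 6, 8] .fail)), (1, (.step [8, 8, 15] .fail)), (2, .fail), (1, (.step [6, 14, 13, 15] (.step [12, 24, 10] (.step [14, 24, 15] .fail)))), (1, (.step [6, 13, 6, 25] (.step [12, 23, 11] (.step [14, 16, 22] .fail)))), (2, .fail), (1,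 (.step [6, 6, 14, 12, 15] .fail)), (1, .fail), (1, (.step [9, 6, 9, 25] .fail)), (1, (.step [6, 8, 14, 7] (.step [10, 23, 13, 24] .fail))), (1, (.step [6, 8, 12, 6] (.step [10, 17, 15, 11] .fail))), (1, (.step [7, 14, 25, 6] .fail)), (1, .fail), (1, (.step [9, 9, 6, 25] (.step [10, 24, 10] (.step [15, 16] .fail)))), (1, .fail), (1, (.step [6, 6, 13, 6, 25] (.step [11, 13, 11, 16] .fail))), (1, (.step [7, 7, 25, 9] (.step [13, 16, 25] .fail))), (1, (.step [7, 25, 6, 13] .fail)), (2, .fail), (1, (.step [6, 9, 14, 9] .fail)), (1, .fail), (1, (.step [6, 12, 12, 9] (.step [10, 17, 12, 10] .fail))), (1, (.step [6, 8, 6, 12, 14] .fail)), (1, (.step [8, 15, 9] (.step [12, 10, 10] .fail))), (1, .fail), (1, (.step [6, 25, 9, 7, 13] (.step [10, 15, 12, 22] (.step [18, 15, 18] .fail)))), (1, (.step [7, 8, 8, 25] (.step [11, 25, 13] .fail))), (1, (.step [9, 14, 9, 12] (.step [10, 15, 22] (.step [15, 18, 25] .fail)))), (1, (.step [8, 14, 7] (.step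 [10, 15, 21] .fail))), (1, (.step [7, 25, 6, 8] (.step [10, 16, 13, 21] (.step [14, 17, 17] .fail)))), (1, .fail), (1, (.step [6, 9, 14, 6] (.step [13, 13, 11] (.step [14, 18, 18, 25] .fail)))), (3, .fail), (1, (.step [6, 15, 6, 9] .fail)), (2, .fail), (1, (.step [7, 14, 9, 15] (.step [12, 10, 15, 23] .fail))), (1, (.step [7, 8, 12] .fail)), (1, .fail), (1, (.step [6, 13, 25, 13, 9] .fail)), (1, .fail), (1, (.step [7, 8, 15, 13] (.step [10, 15, 16, 10] .fail))), (1, (.step [6, 9, 6] (.step [11, 13, 15, 13] (.step [15, 18, 25] .fail)))), (1, (.step [6, 6, 12, 15] .fail)), (1, (.step [6, 25, 8, 12, 9] (.step [10, 21, 12, 23] (.step [14, 17, 22] .fail)))), (3, .fail), (1, (.step [6, 14, 7, 7] (.step [13, 11, 14] .fail))), (1, (.step [9, 12, 9, 25] (.step [10, 13, 15, 25] .fail))), (1, (.step [7, 9, 14, 8] (.step [10, 21, 11, 16] .fail))), (1, (.step [6, 13, 25] .fail)), (1, (.step [6, 13, 14, 7] (.step [11, 16, 11, 13] (.step [16, 18, 14]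 .fail)))), (1, (.step [6, 8, 14, 6] (.step [10, 21, 21, 13] (.step [16, 15, 16] .fail)))), (1, (.step [7, 9, 25, 8] (.step [13, 21, 16] .fail))), (1, (.step [6, 13, 25, 13] .fail)), (1, (.step [6, 25, 9, 7, 13] (.step [12, 16] (.step [18] .fail)))), (1, (.step [8, 13, 6, 14] (.step [12, 16] (.step [17, 18, 24] .fail)))), (1, (.step [6, 25, 7, 8, 13] (.step [12, 10, 24, 15] .fail))), (1, (.step [8, 15, 8] (.step [11, 13, 11, 22] (.step [14, 19, 15] .fail)))), (2, .fail), (1, (.step [6, 6, 12, 25, 13] (.step [10, 25, 17] (.step [19, 22, 18] .fail)))), (1, (.step [6, 6, 8, 6, 6] .fail)), (1, (.step [6, 13, 13, 14] .fail)), (1, (.step [7, 9, 7, 14] .fail)), (1, (.step [6, 6, 13, 8, 12] (.step [10, 24, 12] (.step [18] .fail)))), (1, (.step [7, 7, 12, 14] (.step [10, 17, 13, 22] (.step [18, 15, 21, 23] .fail)))), (1, .fail), (1, (.step [7, 12, 15, 9] (.step [13, 22, 13] (.step [14, 16, 20, 16] .fail)))), (1, (.step [8, 13, 25, 13] (.step [10,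 13, 16, 15] (.step [14, 16, 18, 22] .fail)))), (3, .fail), (1, (.step [9, 12, 8, 12] (.step [11, 12, 11, 23] (.step [14, 20, 24] .fail)))), (1, (.step [6, 6, 9, 6, 9] .fail)), (1, (.step [8, 6, 13, 13] (.step [10, 16, 10, 23] (.step [16, 23, 18] .fail)))), (1, .fail), (1, (.step [6, 6, 9, 6, 6] .fail)), (2, .fail), (1, (.step [6, 6, 8, 15, 7] (.step [10, 10, 15, 12] (.step [17, 21, 17] .fail)))), (3, .fail), (1, (.step [6, 6, 13, 25, 13] (.step [10, 15, 24, 11] (.step [14, 16, 18, 14] .fail)))), (1, (.step [6, 8, 7, 12, 12] (.step [10, 12, 17, 17] (.step [14, 19, 22] .fail)))), (1, (.step [6, 9, 7] (.step [10, 22, 10, 21] (.step [14, 17, 15, 23] .fail)))), (1, (.step [6, 9, 7] (.step [10, 23, 12, 24] (.step [17, 22, 18] .fail)))), (1, .fail), (1, (.step [8, 12, 8, 12] .fail)), (1, (.step [8, 15, 8, 7] .fail)), (1, .fail), (1, (.step [7, 7, 12, 8, 6] (.step [10, 16, 11, 22] .fail))), (4, .fail), (1, (.step [8, 14, 25] .fail)), (1, (.step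 [7, 12, 15, 9] .fail)), (1, (.step [6, 6, 25, 8] (.step [12, 21, 21] .fail))), (1, (.step [9, 15] .fail)), (1, (.step [9, 25, 6, 8] .fail)), (1, (.step [6, 6, 12, 9, 25] (.step [10, 16, 13, 24] .fail))), (1, .fail), (1, (.step [7, 9, 6, 6] (.step [11, 13, 23] (.step [18, 20, 17] .fail)))), (2, .fail), (1, (.step [8, 14, 8] (.step [10, 17, 24] (.step [16, 21, 15] .fail)))), (1, .fail), (1, (.step [8, 14, 8, 14] (.step [10, 25, 17, 12] .fail))), (1, (.step [6, 12, 12, 7] (.step [13, 11, 21, 23] .fail))), (1, (.step [6, 12, 7] (.step [12, 21, 16, 22] (.step [17, 17, 18] .fail)))), (1, (.step [6, 12, 6, 13] (.step [12, 12, 14] .fail))), (1, (.step [8, 8, 7, 8] .fail)), (1, (.step [8, 6, 9, 14] .fail)), (1, .fail), (1, (.step [9, 13, 8] .fail)), (1, .fail), (1, (.step [6, 6, 6, 6] (.step [10, 17, 17, 12] (.step [15, 20, 16] .fail)))), (2, .fail), (1, (.step [7, 9, 13, 15] .fail)), (1, (.step [6, 14, 7, 13] (.step [10, 12, 25] (.step [14,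 17, 20, 23] .fail)))), (1, .fail), (1, (.step [6, 6, 6, 8, 6] .fail)), (1, .fail), (1, (.step [6, 15, 12] (.step [12, 12, 24] .fail))), (1, (.step [9, 15, 25] .fail)), (1, (.step [7, 8, 6] .fail)), (1, .fail), (1, (.step [9, 6, 14] .fail)), (1, (.step [8, 15, 9, 7] .fail)), (1, (.step [7, 9, 13, 6] (.step [11, 12, 12, 24] (.step [14, 17, 18, 14] .fail)))), (1, .fail), (1, (.step [8, 25, 7, 25] (.step [10, 22, 10, 17] (.step [15, 16, 21, 15] .fail)))), (1, .fail), (1, (.step [8, 7, 7, 8] (.step [10, 15, 13] .fail))), (1, (.step [6, 14, 9] .fail)), (1, (.step [6, 15, 9] .fail)), (1, .fail), (1, (.step [6, 14, 12, 6] (.step [12, 22, 16] (.step [19, 21, 18] .fail)))), (1, (.step [6, 25, 6, 9] (.step [12, 14, 12] (.step [16, 19, 15] .fail)))), (1, (.step [7, 13, 9] (.step [12, 10, 25] (.step [15, 16, 14] .fail)))), (1, .fail), (1, (.step [6, 6, 13, 14] (.step [11, 24, 12] .fail))), (2, .fail), (1, (.step [6, 12, 9] (.step [12, 24, 15] .fail))),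 (1, (.step [6, 12, 8, 13, 25] (.step [12, 12, 24] (.step [14, 20, 19] .fail)))), (1, (.step [8, 14, 9, 25] (.step [10, 22, 14] .fail))), (1, (.step [8, 6, 14, 13] .fail)), (1, .fail), (1, (.step [9, 12] .fail)), (2, .fail), (1, (.step [7, 15, 12, 25] .fail)), (1, (.step [6, 12, 15, 9, 7] (.step [10, 12, 16, 15] .fail))), (1, (.step [8, 12, 14, 7] .fail)), (1, .fail), (1, (.step [6, 8, 7, 7, 14] (.step [13, 14, 12] (.step [18, 15, 16] .fail)))), (1, (.step [6, 8, 6, 12, 14] (.step [10, 16, 21, 24] (.step [14, 17, 15, 23] .fail)))), (1, (.step [9, 14, 25] .fail)), (1, (.step [6, 6, 8, 14, 25] .fail)), (3, .fail), (1, (.step [9, 13, 6] (.step [10, 24, 12, 12] (.step [15, 18] .fail)))), (1, .fail), (1, (.step [6, 6, 8, 12, 6] (.step [12, 10, 17, 23] (.step [14, 19, 20] .fail)))), (1, (.step [6, 9, 6, 14] (.step [11, 13, 11] (.step [16, 14] .fail)))), (1, .fail), (1, (.step [6, 25, 9, 14] (.step [10, 17, 13, 23] (.step [16, 19, 15] .fail)))),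 (1, (.step [9, 14, 9] (.step [11, 23, 13, 21] (.step [14, 20, 15, 24] .fail)))), (1, (.step [9, 15, 25] .fail)), (1, (.step [6, 25, 9, 7, 13] (.step [10, 17, 24] (.step [14, 19, 20, 23] .fail)))), (1, (.step [6, 6, 25, 12, 25] (.step [10, 21] .fail))), (1, (.step [9, 12, 14, 12] .fail)), (1, (.step [9, 25, 9, 13] (.step [10, 12, 21, 13] (.step [16, 16, 24] .fail)))), (1, .fail), (1, (.step [8, 14, 8, 7] .fail)), (1, (.step [9, 12, 15] (.step [10, 12, 12, 14] (.step [15, 16, 19, 24] .fail)))), (1, (.step [6, 6, 25] (.step [10, 17, 10, 23] .fail))), (1, (.step [7, 7, 12, 8] (.step [10, 10, 22] (.step [16, 21, 17] .fail)))), (1, (.step [6, 15, 8, 25, 12] (.step [13, 14, 22] .fail))), (1, (.step [6, 6, 14, 9] .fail)), (1, (.step [6, 14, 9, 13] .fail)), (1, (.step [6, 8, 7, 12] .fail)), (2, .fail), (1, (.step [6, 8, 13, 25] .fail)), (1, (.step [7, 13, 15, 7] (.step [12, 10, 15, 11] .fail))), (1, (.step [8, 13, 7, 9] .fail)), (3, .fail), (1,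 (.step [6, 12, 9, 9] (.step [11, 13, 17, 14] .fail))), (1, (.step [6, 14, 13, 8] (.step [10, 10, 12, 25] .fail))), (1, (.step [8, 12, 9, 6] (.step [10, 13, 15, 25] .fail))), (2, .fail), (1, (.step [7, 25, 9] (.step [11, 12, 12, 11] .fail))), (1, (.step [7, 25, 7, 12] (.step [12, 11, 15] .fail))), (1, (.step [7, 15, 12, 7, 13] (.step [10, 15, 22, 13] (.step [17, 20, 23] .fail)))), (3, .fail), (1, (.step [8, 15, 9, 14] .fail)), (1, (.step [7, 7, 12, 9] (.step [11, 12, 10] .fail))), (1, (.step [6, 6, 13, 6, 6] (.step [11, 21, 14, 11] (.step [14, 18, 18, 25] .fail)))), (2, .fail), (1, (.step [7, 25, 7, 13] (.step [11, 12, 11, 12] (.step [14, 19, 14, 16] .fail)))), (1, (.step [6, 13, 9, 6] (.step [12, 11, 14, 16] .fail))), (1, (.step [7, 9, 7, 9] (.step [12, 12, 10, 22] (.step [15, 16, 16, 25] .fail)))), (1, (.step [7, 7, 15, 12, 6] (.step [10, 13, 14] (.step [18, 21] .fail)))), (1, .fail), (1, (.step [9, 12] (.step [10, 21, 13, 11] .fail))),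 (1, .fail), (1, (.step [7, 25, 13, 6] (.step [10, 13, 11, 24] (.step [14, 18, 20, 19] .fail)))), (1, (.step [9, 6, 14, 9] .fail)), (1, (.step [9, 6, 8, 25] .fail)), (1, .fail), (1, (.step [6, 8, 12, 6, 12] (.step [13, 10, 14] (.step [14, 18, 23, 15] .fail)))), (1, (.step [8, 12, 12] .fail)), (1, (.step [9, 12, 9] (.step [11, 12, 21] .fail))), (2, .fail), (1, (.step [6, 9, 6, 13, 14] (.step [10, 15, 25, 16] (.step [15, 19, 14, 17] .fail)))), (3, .fail), (1, (.step [7, 13, 7, 13] (.step [10, 10, 12, 10] (.step [17, 18, 25] .fail)))), (1, (.step [8, 13, 9, 9] .fail)), (1, (.step [6, 15, 8, 25, 12] (.step [11, 23, 11, 24] (.step [14, 16, 15, 24] .fail)))), (1, (.step [6, 25, 13, 14] .fail)), (1, (.step [7, 13, 7, 13] (.step [10, 16, 10, 14] .fail))), (1, .fail), (1, (.step [6, 13, 8, 7, 12] (.step [10, 24, 13, 14] (.step [14, 20, 22] .fail)))), (1, (.step [6, 6, 15, 25] (.step [10, 12, 25] .fail))), (1, .fail), (1, (.step [9, 13, 6] (.step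 [10, 10, 15, 12, 12] (.step [18, 15, 21, 23] .fail)))), (3, .fail), (1, (.step [6, 6, 25, 8, 7] (.step [10, 22] (.step [14, 18, 20, 23] .fail)))), (1, (.step [7, 9, 15] .fail)), (1, (.step [8, 6, 12, 15] (.step [10, 10, 14, 12] .fail))), (1, (.step [6, 6, 14, 7, 9] (.step [13, 14, 22] (.step [14, 19, 20, 25] .fail)))), (1, (.step [6, 6, 13, 8] .fail)), (1, (.step [6, 13, 8, 14, 6] (.step [12, 21, 21] (.step [14, 20, 18] .fail)))), (1, (.step [7, 25, 9, 13] (.step [13, 21, 16] (.step [16, 20, 22] .fail)))), (1, .fail), (1, (.step [6, 12, 12, 8] (.step [10, 24, 13, 15] (.step [16, 15, 18] .fail)))), (1, .fail), (1, (.step [6, 6, 14, 7] .fail)), (1, .fail), (1, (.step [8, 15, 8, 25] (.step [10, 15, 13, 24] (.step [15, 16, 16, 25] .fail)))), (2, .fail), (1, (.step [8, 14, 8, 12] .fail)), (1, .fail), (1, (.step [6, 9, 7, 9] (.step [10, 21, 11, 16] .fail))), (1, (.step [6, 13, 9, 6] (.step [10, 24, 13, 21] (.step [14, 23, 14, 20] .fail)))),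 (1, (.step [6, 25, 9, 14] (.step [12, 25, 12] .fail))), (1, (.step [6, 12, 12] .fail)), (1, (.step [7, 14, 7, 12] (.step [13, 24, 10] (.step [14, 16, 20, 21] .fail)))), (1, .fail), (1, (.step [8, 13, 6, 12] (.step [10, 10, 25] .fail))), (1, (.step [6, 6, 15, 12, 9] (.step [10, 12, 16, 11] .fail))), (1, (.step [6, 25, 8, 12] (.step [10, 21, 24] (.step [17, 23] .fail)))), (1, (.step [6, 14, 9, 9] (.step [13, 15] (.step [17, 22, 14] .fail)))), (1, .fail), (1, (.step [6, 12, 15, 7] (.step [11, 25, 16, 13] (.step [15, 20, 16, 25] .fail)))), (1, (.step [6, 8, 7, 12, 12] .fail)), (1, (.step [8, 13, 6, 25] (.step [11, 21, 16] .fail))), (1, (.step [6, 12, 6, 8, 13] .fail)), (1, (.step [6, 6, 8, 14, 25] (.step [12, 16, 25] .fail))), (2, .fail), (1, (.step [8, 14, 12] (.step [13, 11, 21, 23] .fail))), (1, (.step [6, 8, 13] (.step [10, 12, 17, 23] .fail))), (1, .fail), (1, (.step [7, 25, 8, 6] (.step [10, 16, 16, 22] (.step [14, 19, 20, 21] .fail)))),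 (1, (.step [6, 9, 12, 14] .fail)), (1, (.step [9, 9, 6, 9] (.step [13, 16, 11, 14] (.step [14, 17, 24, 17] .fail)))), (1, (.step [7, 9, 9, 7] (.step [12, 15, 12] .fail))), (2, .fail), (1, (.step [7, 9, 13, 15] .fail)), (3, .fail), (1, (.step [6, 6, 8, 15, 7] .fail)), (2, .fail), (1, (.step [6, 15, 25, 7] .fail)), (1, .fail), (1, (.step [9, 9, 6, 9] .fail)), (1, (.step [8, 12, 9, 6] (.step [10, 13, 15, 25] .fail))), (1, (.step [8, 7, 7, 14] (.step [10, 15, 25] (.step [14, 18, 25, 16] .fail)))), (1, .fail), (1, (.step [6, 14, 25, 9] (.step [10, 10, 12] (.step [18, 21, 15] .fail)))), (1, (.step [6, 8, 13, 13] (.step [10, 15, 13, 25] .fail))), (1, (.step [7, 7, 9, 12] .fail)), (1, (.step [6, 6, 14, 25] (.step [13, 10, 13] (.step [17, 18, 15] .fail)))), (5, .fail), (1, (.step [7, 7, 13, 13] .fail)), (1, (.step [6, 8, 13, 25] .fail)), (2, .fail), (1, (.step [9, 6, 14, 6] (.step [11, 13, 16, 12] (.step [14, 18] .fail)))), (1, (.step [8, 7,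 7, 9] .fail)), (1, (.step [6, 9, 6, 25] (.step [10] (.step [18, 20, 14] .fail)))), (1, .fail), (1, (.step [6, 6, 8, 6, 12] .fail)), (1, (.step [9, 15, 12] .fail)), (1, (.step [6, 12, 15, 9, 14] (.step [10, 24, 14] .fail))), (1, (.step [6, 6, 15, 12, 7] .fail)), (1, .fail), (1, (.step [8, 8, 7, 8] (.step [11, 16, 11, 24] (.step [16, 22, 18, 14] .fail)))), (1, .fail), (1, (.step [7, 12, 8, 14, 7] (.step [13, 13, 23] (.step [16, 22, 18] .fail)))), (1, (.step [7, 8, 13, 8] (.step [12, 25, 10] (.step [14, 17, 17, 21] .fail)))), (1, (.step [7, 12, 6, 25] (.step [13, 21, 21] (.step [14, 19, 14, 19] .fail)))), (1, (.step [9, 6, 9, 25] (.step [11, 23, 10] (.step [14, 20, 23, 15] .fail)))), (1, .fail), (1, (.step [6, 6, 8, 6, 15] (.step [10, 17, 13] (.step [17, 17] .fail)))), (1, (.step [9, 9, 25] .fail)), (1, (.step [9, 25, 9, 13] (.step [10, 10, 13, 13] (.step [16, 20, 19] .fail)))), (1, .fail), (1, (.step [8, 13, 25, 13] (.step [13, 15, 16]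 .fail))), (1, (.step [9, 7, 13] (.step [10, 17, 10, 23] (.step [15, 17, 23] .fail)))), (1, .fail), (1, (.step [6, 15, 25, 13] .fail)), (1, (.step [6, 6, 8, 15, 7] (.step [11, 13, 11, 21] (.step [14, 16, 20, 17] .fail)))), (1, (.step [6, 6, 8, 6, 6] .fail)), (1, .fail), (1, (.step [8, 7, 12, 8] (.step [10, 24, 14, 12] (.step [14, 18, 14, 17] .fail)))), (1, (.step [9, 25, 8, 13] (.step [11, 23, 11, 15] .fail))), (2, .fail), (1, (.step [7, 13, 6] (.step [12, 15, 11] (.step [18, 20, 19] .fail)))), (1, (.step [6, 8, 13, 25] .fail)), (1, (.step [6, 9, 14] (.step [11, 21, 11, 24] (.step [14, 24, 15] .fail)))), (1, .fail), (1, (.step [9, 12] .fail)), (1, .fail), (1, (.step [7, 25, 6] (.step [11, 13, 15, 13] (.step [18, 21, 15] .fail)))), (1, (.step [6, 13, 6, 9, 6] .fail)), (1, .fail), (1, (.step [9, 9, 7, 13] (.step [13, 21, 17] .fail))), (1, (.step [9, 6, 9, 15, 9] (.step [13, 16] .fail))), (1, (.step [6, 13, 14, 12] (.step [10, 10, 25] .fail))),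 (1, .fail), (1, (.step [9, 6, 6, 6] (.step [10, 16, 16] (.step [14, 17, 23, 19] .fail)))), (1, (.step [6, 6, 6, 15, 8] .fail)), (2, .fail), (1, (.step [6, 14, 8, 13] .fail)), (1, (.step [8, 25] (.step [10, 10, 21, 13] .fail))), (1, (.step [6, 25, 12] (.step [10, 15, 10, 10] (.step [16, 19, 20] .fail)))), (1, (.step [6, 15, 12] (.step [10, 21, 11, 13] (.step [14, 21, 19, 23] .fail)))), (1, .fail), (1, (.step [6, 25, 8, 8] (.step [10, 24, 10] (.step [17, 21, 19] .fail)))), (1, (.step [6, 12, 12, 8, 7] .fail)), (2, .fail), (1, (.step [6, 8, 14, 7, 8] (.step [10, 13, 24] (.step [14, 21, 19] .fail)))), (1, .fail), (1, (.step [6, 9, 12, 12] (.step [12, 10, 15] .fail))), (2, .fail), (1, (.step [6, 13, 13, 25, 9] (.step [10, 12, 17] (.step [17, 17, 20, 17] .fail)))), (1, (.step [6, 15, 25, 13] (.step [11, 13, 14, 25] .fail))), (1, (.step [6, 14, 7, 15] .fail)), (1, (.step [6, 8, 7, 12, 12] (.step [10, 12, 17, 17] (.step [14, 19, 22] .fail)))),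 (2, .fail), (1, (.step [7, 13, 6, 13] .fail)), (1, (.step [6, 25, 9, 7, 13] (.step [11, 12, 10] (.step [14, 22, 16, 20] .fail)))), (1, (.step [6, 6, 13, 25, 13] (.step [13, 16, 24] (.step [16, 16] .fail)))), (1, (.step [6, 12, 8, 14, 25] (.step [10, 15, 23, 10] .fail))), (1, (.step [7, 9, 13, 7] (.step [10, 10, 13, 10] (.step [17, 20, 21] .fail)))), (1, .fail), (1, (.step [6, 13, 6, 9, 6] (.step [13, 21, 16] (.step [18, 22, 17] .fail)))), (1, .fail), (1, (.step [7, 8, 25, 7] (.step [10, 23, 13, 24] (.step [15, 17, 22] .fail)))), (1, (.step [9, 25, 8] (.step [13, 24] .fail))), (1, .fail), (1, (.step [6, 12, 7, 13] (.step [11, 24, 10] (.step [18, 25, 17] .fail)))), (1, (.step [6, 6, 12, 14] .fail)), (2, .fail), (1, (.step [6, 12, 8, 25, 8] (.step [10, 15, 10, 21] .fail))), (1, (.step [9, 13, 7] (.step [11, 25, 16] (.step [15, 17, 15] .fail)))), (1, (.step [6, 25, 12, 9, 13] (.step [13, 13, 24] .fail))), (3, .fail), (1, (.step [6, 14, 9]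 .fail)), (1, (.step [8, 6, 9] .fail)), (1, (.step [8, 8, 8, 12] .fail)), (1, .fail), (1, (.step [6, 25, 8, 6] (.step [10, 15, 21, 13] .fail))), (1, (.step [6, 9, 7, 9] (.step [12, 10, 17, 23] (.step [16, 20, 22, 14] .fail)))), (1, (.step [6, 8, 13, 14] (.step [13, 11, 16] (.step [14, 17, 24, 17] .fail)))), (1, .fail), (1, (.step [8, 13, 6, 12, 12] .fail)), (1, .fail), (1, (.step [7, 12, 12, 12] (.step [12, 21, 15, 11] (.step [17, 18, 21] .fail)))), (1, (.step [6, 6, 25, 8] (.step [10, 17, 21, 10] (.step [14, 16, 14, 21] .fail)))), (1, (.step [8, 7, 13, 8] (.step [12, 25, 16, 12] .fail))), (1, (.step [6, 12, 6, 8] (.step [13, 15, 16] (.step [18, 24, 25] .fail)))), (1, (.step [7, 8, 6, 13] (.step [11, 21, 15] .fail))), (1, (.step [9, 14, 7, 13] .fail)), (1, (.step [9, 6, 9, 14] .fail)), (1, (.step [6, 8, 12, 6, 12] .fail)), (1, .fail), (1, (.step [7, 15, 12, 9] (.step [13, 24, 10] (.step [14, 20, 24, 16] .fail)))), (1, (.step [6, 14, 12,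 6] (.step [10, 21, 12, 21] (.step [14, 16, 18, 25] .fail)))), (1, (.step [8, 7, 25, 8] (.step [11, 12, 11] .fail))), (1, (.step [7, 8, 25, 7] (.step [10, 23, 13, 24] (.step [15, 17, 22] .fail)))), (2, .fail), (1, (.step [7, 14, 7, 13] (.step [10, 12, 11] .fail))), (1, (.step [7, 13, 6, 13] (.step [10, 24, 12] (.step [16, 18, 23] .fail)))), (2, .fail), (1, (.step [9, 15, 7, 9] (.step [12, 23, 17, 23] (.step [17, 15, 25] .fail)))), (2, .fail), (1, (.step [6, 12, 6, 14] (.step [10, 10, 12, 21] (.step [15, 16, 21] .fail)))), (1, (.step [7, 15, 13, 25] (.step [12, 12, 15] .fail))), (1, (.step [7, 9, 12, 8] (.step [13, 10, 25, 11] (.step [16, 22, 14] .fail)))), (1, .fail), (1, (.step [9, 13, 6] (.step [10, 17, 12, 24] .fail))), (1, (.step [9, 25, 6, 8] .fail)), (1, (.step [6, 14, 7, 14, 13] (.step [10, 17, 12, 24] (.step [14, 18, 14, 16] .fail)))), (1, (.step [7, 8, 15, 13] (.step [11, 13, 16] .fail))), (1, (.step [9, 13, 13, 15] .fail)),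 (1, (.step [6, 9, 6, 8] (.step [10, 10, 12, 14] .fail))), (1, (.step [6, 15, 12, 8] (.step [12, 14, 22] (.step [14, 16, 14, 20] .fail)))), (1, (.step [6, 13, 7, 25] .fail)), (1, (.step [7, 8, 12, 12] (.step [10, 15, 24] (.step [14, 23] .fail)))), (1, .fail), (1, (.step [6, 8, 13, 25, 6] (.step [12, 16, 13] (.step [18, 22, 17] .fail)))), (1, .fail), (1, (.step [6, 9, 7, 8] .fail)), (1, (.step [6, 12, 15, 8, 25] (.step [12, 10, 13] (.step [14, 21, 17, 15] .fail)))), (1, (.step [6, 14, 7, 15] (.step [11, 12, 14, 12] .fail))), (1, .fail), (1, (.step [7, 8, 13, 6] .fail)), (1, .fail), (1, (.step [6, 8, 7, 14, 9] (.step [11, 13, 16, 16] (.step [16, 15, 20, 15] .fail)))), (1, (.step [6, 25, 13] (.step [10, 16, 11, 12] .fail))), (1, (.step [6, 8, 13, 15, 25] .fail)), (3, .fail), (1, (.step [6, 12, 8, 7, 8] (.step [12, 17] .fail))), (1, .fail), (1, (.step [7, 8, 8, 7] .fail)), (1, (.step [7, 9, 6, 25] (.step [10, 23, 13, 24] (.step [17, 21, 18]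 .fail)))), (1, .fail), (1, (.step [9, 25, 6, 8] .fail)), (1, (.step [6, 13, 6, 9] .fail)), (1, .fail), (1, (.step [7, 14, 25, 13] (.step [13, 21, 16] .fail))), (1, (.step [6, 12, 8, 7, 25] (.step [11, 25, 16, 10] (.step [18, 21, 23] .fail)))), (2, .fail), (1, (.step [6, 13, 13, 8] (.step [11, 13, 11, 15] (.step [14, 18, 21, 24] .fail)))), (1, (.step [6, 8, 7] .fail)), (1, (.step [7, 8, 7, 9] .fail)), (1, (.step [8, 12, 14] (.step [10, 13, 24, 14] .fail))), (1, .fail), (1, (.step [6, 12, 9, 13, 14] (.step [10, 25, 11, 14] .fail))), (1, .fail), (1, (.step [7, 9, 15] .fail)), (1, (.step [6, 13, 8] .fail)), (4, .fail), (1, (.step [8, 25, 13, 15] .fail)), (1, (.step [8, 6] (.step [10, 23, 11, 12] .fail))), (1, (.step [9, 15, 9, 13] (.step [12, 22, 16, 10] .fail))), (1, .fail), (1, (.step [6, 12, 7, 7] (.step [10, 25, 11, 14] (.step [14, 22, 16, 20] .fail)))), (1, .fail), (1, (.step [6, 9, 7, 9, 12] (.step [11, 23] .fail))), (1, (.step [6,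 14, 9, 13] .fail)), (1, .fail), (1, (.step [9, 13, 8, 14] .fail)), (1, (.step [7, 9, 7, 7] (.step [11, 12, 11] .fail))), (1, .fail), (1, (.step [6, 15, 8, 25, 12] .fail)), (1, (.step [6, 6, 12, 25, 13] .fail)), (1, (.step [6, 25, 9, 12] (.step [10, 23, 13, 11] (.step [14, 23, 14, 21] .fail)))), (1, (.step [7, 14, 6, 14] (.step [11, 12, 17] (.step [15, 17, 24] .fail)))), (1, .fail), (1, (.step [8, 13, 8, 7] .fail)), (1, (.step [6, 6, 8, 8] (.step [12, 16, 15] (.step [16, 22, 14] .fail)))), (1, (.step [7, 9, 6, 25] .fail)), (1, (.step [6, 8] (.step [11, 13, 14, 25] .fail))), (1, (.step [6, 8, 25, 13, 14] (.step [10, 15, 22, 11] (.step [15, 16, 16, 21] .fail)))), (3, .fail), (1, (.step [8, 13, 15, 8] .fail)), (3, .fail), (1, (.step [7, 12, 7, 15] (.step [10, 16, 10, 23] .fail))), (1, (.step [7, 15, 13, 9] (.step [13, 10, 14] (.step [15, 19] .fail)))), (1, (.step [6, 6, 8, 15] (.step [10, 10, 25, 10] (.step [15, 17, 23, 17] .fail)))), (1,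 (.step [6, 15, 12, 12] .fail)), (1, (.step [6, 12, 15, 8] (.step [11, 21, 21] .fail))), (1, (.step [7, 9, 25, 12] (.step [10, 21, 11] .fail))), (1, (.step [6, 6, 8, 6, 12] .fail)), (1, (.step [9, 13, 25, 6] .fail)), (1, (.step [7, 25, 12, 9] .fail)), (1, (.step [8, 25, 12] (.step [11, 13, 11, 21] .fail))), (1, (.step [6, 9, 15, 9] (.step [11, 23, 11] .fail))), (1, (.step [6, 6, 6, 25] (.step [13, 15, 23] (.step [14, 19, 23, 14] .fail)))), (1, (.step [8, 12, 8, 8] .fail)), (1, (.step [8, 12, 7, 13] (.step [12, 11, 12] (.step [14, 17, 22, 16] .fail)))), (1, (.step [6, 8, 7, 9] (.step [11, 13, 11, 24] .fail))), (1, (.step [6, 15, 6, 9] .fail)), (1, (.step [7, 7, 14, 25, 13] .fail)), (1, (.step [6, 13, 14, 25] (.step [10, 25, 11, 21] (.step [15, 20, 14, 18] .fail)))), (1, (.step [9, 6, 14, 12] (.step [10, 13, 13, 14] .fail))), (1, (.step [6, 12, 8, 7, 13] (.step [13, 16, 23] (.step [15, 20, 15] .fail)))), (1, .fail), (1, (.step [7, 25, 9]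 (.step [10, 16, 11, 21] .fail))), (1, (.step [6, 6, 6, 13] .fail)), (1, (.step [7, 7, 13, 13] .fail)), (1, (.step [6, 8, 6, 13, 9] .fail)), (1, .fail), (1, (.step [9, 14, 6, 14] (.step [10, 13, 17, 17] .fail))), (1, (.step [6, 9, 13, 8, 12] (.step [10, 17, 21, 10] (.step [14, 18, 14, 22] .fail)))), (6, .fail), (1, (.step [9, 6, 25, 13] .fail)), (1, .fail), (1, (.step [9, 15, 12, 9] .fail)), (1, (.step [7, 13, 13, 9] (.step [13, 16, 24] (.step [14, 21, 18, 22] .fail)))), (2, .fail), (1, (.step [6, 9, 6] (.step [11, 13, 15, 13] (.step [15, 18, 25] .fail)))), (1, (.step [6, 6, 14, 9] (.step [10, 10, 16] (.step [14, 16, 21, 18] .fail)))), (1, (.step [6, 8, 25, 8, 12] .fail)), (1, (.step [8, 8, 25, 12] .fail)), (1, .fail), (1, (.step [7, 14, 9, 13] .fail)), (1, (.step [6, 6, 6, 8] (.step [10, 21, 12, 17] .fail))), (1, (.step [6, 15, 25] .fail)), (1, .fail), (1, (.step [9, 13, 13] .fail)), (1, (.step [7, 7, 12, 12] .fail)), (1, (.step [6,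 12, 8, 7, 13] (.step [12, 10, 15, 23] .fail))), (1, .fail), (1, (.step [6, 12, 15, 8, 25] (.step [10, 21] .fail))), (1, (.step [8, 12, 6, 25] (.step [11, 13, 11, 15] (.step [14, 16, 20, 14] .fail)))), (1, (.step [7, 25, 12, 15] .fail)), (1, .fail), (1, (.step [6, 8, 14, 13] (.step [10, 10, 15, 13] .fail))), (1, (.step [7, 7, 12, 8, 6] (.step [11, 16, 11, 17] (.step [16, 20, 17, 25] .fail)))), (1, .fail), (1, (.step [7, 25, 7] (.step [10, 16, 25] .fail))), (2, .fail), (1, (.step [9, 12, 8, 12] .fail)), (1, (.step [6, 12, 6, 8, 15] (.step [11, 22, 16] (.step [15, 19, 21] .fail)))), (1, (.step [6, 13, 7, 14] (.step [10, 24, 13] .fail))), (2, .fail), (1, (.step [8, 8, 8, 12] .fail)), (1, (.step [8, 6, 14, 13] (.step [10, 22, 11, 23] .fail))), (1, (.step [6, 6, 14, 7, 25] (.step [10, 12, 24] .fail))), (1, .fail), (1, (.step [9, 13, 14] (.step [12, 16, 15] (.step [17, 18, 23] .fail)))), (1, .fail), (1, (.step [6, 9, 13, 6] (.step [12, 10,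 12] (.step [16, 21, 16, 24] .fail)))), (1, .fail), (1, (.step [7, 12, 8, 14, 7] (.step [11, 13, 15, 13] .fail))), (1, (.step [7, 25, 9, 13] .fail)), (1, .fail), (1, (.step [9, 25, 9, 14] (.step [10, 15, 16, 16] (.step [15, 19, 14] .fail)))), (1, (.step [7, 8, 8, 6] .fail)), (1, (.step [6, 14, 9, 25, 13] .fail)), (1, .fail), (1, (.step [6, 9, 12, 14] .fail)), (1, (.step [8, 25, 13, 7] .fail)), (1, .fail), (1, (.step [8, 12, 6] (.step [10, 22, 10, 10] (.step [14, 18, 14] .fail)))), (2, .fail), (1, (.step [6, 14, 8, 13] (.step [10, 15, 12] .fail))), (1, (.step [6, 15, 25, 13] (.step [12, 24, 10] (.step [14, 16, 15] .fail)))), (1, (.step [6, 12, 8, 14, 6] .fail)), (1, .fail), (1, (.step [9, 9, 7, 13] (.step [11, 22, 13] (.step [14, 24, 14] .fail)))), (1, .fail), (1, (.step [6, 8, 13, 15, 8] (.step [12, 15, 17, 13] (.step [14, 17, 22, 16] .fail)))), (1, .fail), (1, (.step [8, 25, 7] .fail)), (1, (.step [6, 8, 6, 12] (.step [10, 25, 11, 21]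 (.step [16, 21, 14] .fail)))), (1, .fail), (1, (.step [6, 8, 14, 6] .fail)), (2, .fail), (1, (.step [9, 14, 9, 7] (.step [10, 23, 10] .fail))), (1, (.step [7, 13, 9, 13] .fail)), (1, (.step [7, 14, 9, 7] (.step [10, 15, 23] (.step [14, 19, 23] .fail)))), (1, (.step [8, 13, 8, 8] (.step [13, 16, 10] .fail))), (1, (.step [7, 9, 13, 7, 9] (.step [10, 12, 17, 23] (.step [14] .fail)))), (1, (.step [8, 15, 12, 6] .fail)), (2, .fail), (1, (.step [8, 6, 9] .fail)), (1, .fail), (1, (.step [6, 8, 25, 13, 14] (.step [10, 12, 12, 12] (.step [14, 20, 24, 16] .fail)))), (1, (.step [6, 25, 8, 8] (.step [12, 12, 14] (.step [14, 19, 14, 19] .fail)))), (2, .fail), (1, (.step [7, 7, 25, 6] (.step [10, 21, 11, 16] (.step [17] .fail)))), (1, .fail), (1, (.step [6, 9, 12, 9, 6] .fail)), (1, (.step [7, 7, 12, 8, 7] .fail)), (1, .fail), (1, (.step [8, 15, 8, 7] .fail)), (1, .fail), (1, (.step [6, 9, 15] .fail)), (1, (.step [9, 25, 9, 13] (.step [10, 12, 21,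 13] (.step [16, 16, 24] .fail)))), (1, (.step [6, 9, 12, 15] (.step [10, 10, 22, 13] (.step [17, 17, 20, 17] .fail)))), (1, (.step [7, 13, 6, 6] (.step [10, 17, 10, 23] (.step [14, 16, 21, 15] .fail)))), (1, (.step [6, 8, 7, 9, 13] (.step [10, 12, 10] (.step [15, 20, 14] .fail)))), (1, (.step [6, 8, 14, 9] (.step [10, 10, 14] (.step [16, 14, 22] .fail)))), (1, (.step [6, 8, 7, 13] (.step [12, 25, 16] .fail))), (1, .fail), (1, (.step [7, 12, 15, 9] .fail)), (1, (.step [6, 15, 8, 13] (.step [10, 10, 13, 11] (.step [17, 20] .fail)))), (1, .fail), (1, (.step [7, 9, 25, 13] .fail)), (1, (.step [8, 8, 6, 15] .fail)), (1, (.step [7, 7, 14, 13] (.step [10, 21, 11] (.step [16, 14, 25] .fail)))), (1, (.step [8, 7, 13, 6] (.step [10, 12] .fail))), (1, (.step [7, 25, 9, 13] (.step [10, 24, 12, 17] (.step [14, 20, 15, 22] .fail)))), (1, (.step [6, 13, 7, 9] (.step [10, 25, 13] (.step [19, 21] .fail)))), (1, (.step [6, 9, 7] (.step [10, 22, 10, 21]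 (.step [14, 17, 15, 23] .fail)))), (1, (.step [6, 6, 6, 15, 9] (.step [12, 16, 16] (.step [16, 20, 22, 14] .fail)))), (1, (.step [7, 14] .fail)), (2, .fail), (1, (.step [7, 14] (.step [10, 17, 17] .fail))), (1, (.step [7, 25, 8, 14] .fail)), (3, .fail), (1, (.step [6, 13, 25, 13] .fail)), (1, .fail), (1, (.step [6, 12, 7, 9] (.step [10, 21, 14, 10] (.step [16, 21, 17] .fail)))), (1, .fail), (1, (.step [6, 8, 14, 7, 15] .fail)), (1, .fail), (1, (.step [8, 14, 9] (.step [10, 10, 14] (.step [15, 18, 20, 15] .fail)))), (1, (.step [6, 9, 6, 8] .fail)), (1, (.step [6, 6, 9, 6, 9] .fail)), (1, (.step [9, 13, 7] (.step [10, 10, 12, 25] (.step [14, 21, 19, 22] .fail)))), (1, .fail), (1, (.step [8, 15, 9, 6] (.step [13, 10, 13] .fail))), (1, (.step [9, 7, 12, 8] (.step [10, 22, 14, 12] (.step [15, 17, 18] .fail)))), (1, (.step [7, 12] .fail)), (2, .fail), (1, (.step [9, 25, 6, 9] (.step [10] (.step [14, 17, 25, 19] .fail)))), (1, (.step [9, 25,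 8, 13] .fail)), (1, (.step [6, 13, 15, 25, 7] .fail)), (1, (.step [6, 8, 14, 6, 9] .fail)), (1, (.step [9, 13, 13] (.step [10, 10, 22, 10, 12] .fail))), (1, (.step [7, 25, 12, 25] (.step [12, 12, 24] (.step [14, 16, 19, 22] .fail)))), (1, .fail), (1, (.step [6, 9, 6, 8, 12] (.step [12, 12, 24] .fail))), (1, (.step [6, 8] (.step [10, 15, 13, 13] .fail))), (1, .fail), (1, (.step [7, 9, 25] .fail)), (1, (.step [6, 9, 13, 8, 6] .fail)), (1, (.step [6, 6, 6, 14] .fail)), (1, .fail), (1, (.step [7, 8, 7, 13] .fail)), (1, .fail), (1, (.step [8, 12, 7, 7, 13] (.step [11, 13, 15, 12] .fail))), (1, (.step [6, 9, 14, 8, 15] (.step [12, 25, 13, 21] .fail))), (1, .fail), (1, (.step [6, 15, 25, 13] (.step [13, 11] (.step [18, 20, 14] .fail)))), (1, (.step [7, 15, 12, 6] (.step [11, 12, 11, 12] .fail))), (1, (.step [8, 14, 8, 13] (.step [11] (.step [15, 18, 25] .fail)))), (1, (.step [6, 6, 9, 6, 9] .fail)), (1, (.step [8, 25, 12, 6] (.step [12, 14]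 .fail))), (1, .fail), (1, (.step [6, 6, 25, 8, 8] .fail)), (1, (.step [6, 6, 6, 6] .fail)), (2, .fail), (1, (.step [9, 7, 12] (.step [10, 21, 14, 10] .fail))), (1, (.step [6, 6, 14, 25, 12] .fail)), (1, .fail), (1, (.step [9, 9, 15, 7] (.step [11, 16, 11, 24] .fail))), (2, .fail), (1, (.step [7, 9, 12, 6] (.step [12, 15, 12, 14] .fail))), (1, .fail), (1, (.step [6, 12, 12, 7] .fail)), (1, (.step [9, 7, 12] .fail)), (1, (.step [6, 25, 7, 9] .fail)), (1, .fail), (1, (.step [9, 6, 14, 12] .fail)), (1, .fail), (1, (.step [6, 6, 25, 12] (.step [10, 16, 23] (.step [18, 14, 16] .fail)))), (1, (.step [6, 8, 13] .fail)), (1, .fail), (1, (.step [9, 7, 13, 15] .fail)), (1, (.step [8, 8, 8] .fail)), (1, (.step [6, 8, 7, 7, 14] (.step [10, 12, 11, 21] .fail))), (1, (.step [8, 6, 8, 7] (.step [10, 15, 22, 12] (.step [17, 22, 14] .fail)))), (1, (.step [6, 6, 25, 7, 9] (.step [10, 21, 13, 23] (.step [17, 14, 20] .fail)))), (2, .fail), (1, (.step [6,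 8, 12, 6, 12] (.step [10, 24, 12, 12] (.step [14, 17, 20, 21] .fail)))), (1, .fail), (1, (.step [7, 9, 13] (.step [10, 23, 12, 24] .fail))), (1, (.step [7, 8, 25, 9] .fail)), (1, (.step [8, 12, 9] .fail)), (1, .fail), (1, (.step [7, 14, 7, 9] .fail)), (1, .fail), (1, (.step [9, 12, 15] (.step [11, 13, 16, 16] (.step [19, 24, 17] .fail)))), (1, (.step [7, 13, 13] (.step [10, 21, 11] .fail))), (1, (.step [6, 6, 8, 6] (.step [10, 17, 15, 12] .fail))), (1, (.step [6, 9, 15] (.step [10, 24, 13, 15] (.step [14, 20, 19] .fail)))), (1, .fail), (1, (.step [7, 12, 12, 8] .fail)), (1, (.step [6, 8, 6, 12, 14] .fail)), (1, (.step [9, 13, 25] (.step [11, 13] .fail))), (1, (.step [6, 12, 15, 9] .fail)), (1, (.step [9, 14, 8, 7] (.step [10, 12, 16, 16] (.step [14, 18, 22, 18] .fail)))), (1, (.step [8, 6, 8] (.step [12, 11, 16] (.step [15, 19, 15] .fail)))), (1, (.step [7, 7, 12, 12] .fail)), (1, .fail), (1, (.step [9, 14, 6, 9] (.step [10, 13, 15,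 21] (.step [16, 20, 17] .fail)))), (1, (.step [6, 14, 13, 15] (.step [12, 24, 10, 17] (.step [14, 19, 19] .fail)))), (1, (.step [7, 15] (.step [10, 15, 10, 10] .fail))), (4, .fail), (1, (.step [6, 12, 7, 13] (.step [13] .fail))), (2, .fail), (1, (.step [9, 15, 6, 13] .fail)), (1, (.step [6, 13, 13, 25] (.step [12, 10, 14] (.step [17, 20, 23, 15] .fail)))), (1, .fail), (1, (.step [6, 12, 15] (.step [10, 12, 21, 10] (.step [17, 17, 14] .fail)))), (1, (.step [6, 13, 6, 25] (.step [12, 23, 11] (.step [14, 16, 22] .fail)))), (1, .fail), (1, (.step [6, 8, 6, 15, 9] (.step [11, 23, 11, 22] (.step [18, 21] .fail)))), (1, (.step [8, 8, 8, 12] (.step [10, 13, 23, 14] (.step [14, 18] .fail)))), (1, (.step [9, 9, 25, 6] (.step [11, 24, 10] (.step [14, 19] .fail)))), (1, (.step [6, 9, 15] (.step [13, 11, 12, 16] .fail))), (1, (.step [6, 8, 13, 7, 8] (.step [10, 10, 21, 25] (.step [] .fail)))), (1, (.step [8, 12, 25, 13] (.step [13, 23, 13] (.step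 [16, 15, 25] .fail)))), (1, .fail), (1, (.step [6, 13, 6] (.step [13, 22] .fail))), (1, (.step [7, 14, 25, 13] (.step [10, 16, 21, 12] (.step [15, 18, 20] .fail)))), (1, (.step [6, 6, 9, 25] .fail)), (1, (.step [7, 13] (.step [12, 17, 12] .fail))), (1, (.step [9, 9, 25, 8] .fail)), (2, .fail), (1, (.step [7, 13, 7, 13] .fail)), (1, (.step [8, 14, 8, 7] (.step [10, 21, 11, 21] (.step [18, 15, 22] .fail)))), (1, (.step [8, 12, 8] (.step [13, 14, 24] .fail))), (1, (.step [6, 9, 14, 6] (.step [12, 10, 12] (.step [14, 17, 20, 16] .fail)))), (1, .fail), (1, (.step [8, 15, 9] (.step [12, 10, 10] .fail))), (1, (.step [8, 25, 13] .fail)), (1, (.step [8, 7, 7, 25] (.step [10, 12, 17] .fail))), (1, (.step [7, 13, 8, 7] (.step [10, 17, 10, 25] (.step [16, 18, 20] .fail)))), (1, (.step [6, 8, 6, 8] .fail)), (1, (.step [8, 14, 13] .fail)), (1, (.step [6, 14, 7, 14, 13] (.step [11, 12, 11, 23] .fail))), (1, .fail), (1, (.step [6, 8, 6, 8] (.step [13,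 15] .fail))), (1, (.step [8, 13, 8, 7] (.step [13, 13, 24] (.step [14, 17, 20, 16] .fail)))), (1, (.step [6, 9, 6, 8, 12] .fail)), (1, (.step [6, 6, 8, 15] (.step [10, 13, 23, 17] (.step [15, 16, 24] .fail)))), (1, .fail), (1, (.step [6, 13, 13, 6] .fail)), (1, .fail), (1, (.step [7, 7, 15, 12] (.step [10, 17, 12, 17] (.step [15, 19, 23] .fail)))), (1, (.step [6, 6, 8, 15, 6] .fail)), (1, (.step [7, 14, 7, 12] (.step [12, 10, 12] (.step [16, 16, 21] .fail)))), (1, (.step [7, 25, 9, 13] .fail)), (1, (.step [8, 6, 8, 7] (.step [11, 23, 11, 22] (.step [14, 19, 21] .fail)))), (1, (.step [8, 12, 8, 12] .fail)), (3, .fail), (1, (.step [7, 8, 15] .fail)), (2, .fail), (1, (.step [7, 7, 15, 12] (.step [10, 21, 17, 13] .fail))), (1, (.step [8, 13, 25, 13] (.step [10, 13, 16, 15] (.step [14, 16, 18, 22] .fail)))), (1, (.step [6, 12, 7, 13] .fail)), (1, .fail), (1, (.step [7, 8, 15, 25] (.step [10, 12, 11, 25] (.step [14, 18, 25] .fail)))), (1,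 (.step [6, 9, 6, 15] .fail)), (1, (.step [7, 7, 15] (.step [12, 23, 17, 23] (.step [14, 18, 23, 15] .fail)))), (3, .fail), (1, (.step [8, 14, 8, 25] .fail)), (1, (.step [6, 12, 6, 13, 25] (.step [10, 13, 24, 14] (.step [16, 15, 17] .fail)))), (1, (.step [7, 14, 13] (.step [10, 21, 21, 13] .fail))), (1, .fail), (1, (.step [7, 7] .fail)), (1, .fail), (1, (.step [7, 9, 13, 25] .fail)), (1, (.step [7, 13, 9, 15] .fail)), (1, (.step [8, 6, 9] .fail)), (1, (.step [6, 6, 6, 15] .fail)), (1, (.step [6, 15, 8, 25, 12] .fail)), (1, (.step [6, 6, 8, 7, 7] .fail)), (1, .fail), (1, (.step [7, 7, 9, 13, 8] (.step [12, 11, 17] (.step [14, 16, 14, 20] .fail)))), (1, (.step [7, 9, 12, 6] (.step [10, 21, 13, 11] (.step [16, 23, 19] .fail)))), (1, .fail), (1, (.step [8, 7, 15, 9, 12] .fail)), (1, .fail), (1, (.step [6, 6, 13, 14] (.step [10, 21, 21] .fail))), (1, (.step [7, 8, 25, 7] (.step [10, 17, 11, 14] (.step [14, 17, 15, 22] .fail)))), (1, (.step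 [7, 7, 7, 14] (.step [12, 10, 24, 15] (.step [18, 20, 16] .fail)))), (1, (.step [7, 12, 15, 9] .fail)), (1, (.step [8, 25, 9] .fail)), (1, (.step [6, 13, 15, 25] (.step [13, 21, 14] (.step [16, 20, 18] .fail)))), (1, (.step [7, 8, 8, 14, 9] (.step [10, 16, 24] .fail))), (1, (.step [7, 14, 9, 6] (.step [12, 17, 17] (.step [14, 17, 22, 18] .fail)))), (1, (.step [7, 7, 14] (.step [12, 14] (.step [17, 23, 19] .fail)))), (1, (.step [6, 25, 8] (.step [11, 12, 10] .fail))), (1, (.step [6, 15, 7, 7] .fail)), (1, (.step [9, 12, 14, 9] (.step [13, 13] (.step [18, 14, 16] .fail)))), (1, (.step [6, 12, 7, 8, 7] (.step [11, 23, 13] .fail))), (1, (.step [7, 15, 13, 7] .fail)), (1, (.step [7, 9, 25, 7] .fail)), (2, .fail), (1, (.step [6, 8, 13, 15, 8] (.step [10, 17, 12, 17] (.step [14, 16, 18, 24] .fail)))), (1, (.step [9, 6, 12, 7] .fail)), (1, (.step [8, 25, 7] (.step [10, 25, 13, 25] (.step [14, 17, 20, 23] .fail)))), (1, (.step [6, 13, 8] .fail)),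 (1, .fail), (1, (.step [7, 8, 6, 14] .fail)), (1, (.step [7, 8, 8, 8] (.step [10, 13, 25, 10] .fail))), (1, (.step [6, 25, 9, 7, 25] (.step [10, 16, 23] (.step [14, 18, 20, 23] .fail)))), (1, .fail), (1, (.step [8, 13, 8, 8] (.step [10, 17, 11] (.step [15, 16, 19, 24] .fail)))), (1, (.step [9, 9] .fail)), (1, (.step [6, 8, 6, 12, 25] .fail)), (3, .fail), (1, (.step [6, 6, 8, 15, 7] .fail)), (1, (.step [6, 8, 13, 13, 8] .fail)), (1, (.step [9, 13, 6] .fail)), (1, .fail), (1, (.step [6, 14, 8, 25] (.step [10, 21, 12, 17] .fail))), (1, .fail), (1, (.step [9, 6, 14, 6] (.step [11, 23, 11, 22] .fail))), (3, .fail), (1, (.step [7, 13, 14, 13] (.step [11, 12, 12, 11] .fail))), (3, .fail), (1, (.step [6, 12, 14, 8] (.step [10, 17, 13, 13] (.step [14, 16, 20, 17] .fail)))), (1, (.step [6, 13, 6, 12] (.step [10, 13, 17, 17] .fail))), (1, (.step [7, 13, 15, 25] .fail)), (1, (.step [8, 7, 13, 9] (.step [10, 17, 21, 14] (.step [16, 21, 19, 15] .fail)))),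 (1, (.step [6, 6, 9, 15, 13] (.step [10, 22, 10, 10] (.step [15, 20, 14, 18] .fail)))), (1, (.step [6, 12, 6, 13] .fail)), (1, (.step [9, 25, 9, 14] .fail)), (1, (.step [6, 25, 9, 7, 13] (.step [11, 12, 23, 12] (.step [14, 20, 23] .fail)))), (1, (.step [6, 9, 13, 6] (.step [11, 13, 14, 23] (.step [17, 23, 17] .fail)))), (2, .fail), (1, (.step [6, 8, 7, 25, 12] .fail)), (1, (.step [7, 7, 15, 9] .fail)), (1, (.step [9, 14, 12, 6] (.step [11, 16, 13, 17] (.step [14, 23, 15, 22] .fail)))), (1, (.step [7, 12, 12, 14] (.step [10, 12, 12, 21] (.step [14, 16, 23] .fail)))), (1, .fail), (1, (.step [6, 6, 6, 8, 14] .fail)), (1, (.step [6, 9, 12, 9, 9] .fail)), (2, .fail), (1, (.step [8, 12, 8] (.step [10, 17, 12, 24] (.step [17, 17] .fail)))), (1, (.step [8, 14, 7] (.step [10, 15, 21] .fail))), (1, (.step [7, 12, 7, 15] (.step [11, 16, 11, 24] (.step [14, 21, 24] .fail)))), (1, .fail), (1, (.step [7, 12, 6, 25] .fail)), (1, (.step [6, 13, 15,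 12, 9] (.step [11, 16, 10, 13] .fail))), (1, (.step [7, 12, 12, 8] (.step [10, 24] (.step [17, 18, 21] .fail)))), (1, (.step [8, 8, 6, 12] .fail)), (1, (.step [8, 8, 13, 15] (.step [10, 16, 15] (.step [14, 17, 15, 22] .fail)))), (1, (.step [6, 12, 8, 7, 13] (.step [13, 11, 14] (.step [15, 18, 23] .fail)))), (1, (.step [8, 8, 6, 12] .fail)), (1, (.step [8, 7, 7, 9] (.step [10, 13, 14, 10] (.step [14, 18, 24] .fail)))), (1, (.step [6, 8, 7, 8] .fail)), (1, (.step [8, 13, 8, 25] (.step [10, 12, 23, 13] .fail))), (1, (.step [6, 13, 6, 9, 6] (.step [13, 21, 16] (.step [18, 22, 17] .fail)))), (1, (.step [6, 6, 6, 8] (.step [10, 22, 16, 10] (.step [15, 16, 19, 24] .fail)))), (2, .fail), (1, (.step [6, 6, 12] (.step [10, 17, 21, 10] (.step [17, 15] .fail)))), (1, (.step [8, 13, 13, 15] (.step [11, 13, 10, 13] (.step [17, 15, 21] .fail)))), (1, (.step [6, 6, 14, 7] .fail)), (1, .fail), (1, (.step [8, 6, 9, 6] .fail)), (1, (.step [6, 9, 7, 9,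 14] (.step [10, 17, 12, 17] (.step [14, 22, 16, 20] .fail)))), (1, (.step [6, 12, 15, 13, 14] .fail)), (1, .fail), (1, (.step [6, 13, 6, 25] (.step [11, 24] .fail))), (1, (.step [6, 25, 7, 15] .fail)), (1, (.step [8, 8, 12, 12] .fail)), (1, (.step [9, 6, 8] .fail)), (1, (.step [6, 9, 6, 25] .fail)), (1, (.step [6, 12, 12, 25] .fail)), (1, (.step [8, 13, 9, 12] .fail)), (1, (.step [6, 9] (.step [11, 13, 16, 16] .fail))), (1, .fail), (1, (.step [6, 25, 9, 12] (.step [13, 11, 12] .fail))), (1, .fail), (1, (.step [8, 8, 25, 6] (.step [11, 23, 11] (.step [14, 20, 15] .fail)))), (1, (.step [6, 9, 15, 6, 14] (.step [11, 22, 10] (.step [14, 18, 15, 24] .fail)))), (1, (.step [7, 13, 15, 25] .fail)), (1, (.step [6, 25, 6, 13] (.step [10, 10, 16, 10] (.step [18, 24, 25] .fail)))), (1, (.step [8, 15, 9] .fail)), (1, (.step [8, 13, 14] (.step [11, 21, 12] (.step [18, 23, 15] .fail)))), (1, .fail), (1, (.step [6, 6, 14, 7, 25] (.step [11, 12, 12,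 15] .fail))), (1, (.step [6, 8, 25, 8, 25] (.step [11, 22, 11] .fail))), (1, .fail), (1, (.step [9, 13, 6, 9] .fail)), (1, .fail), (1, (.step [6, 6, 25, 7, 9] .fail)), (1, .fail), (1, (.step [7, 15, 12, 7, 13] (.step [10, 12, 21, 17] (.step [19, 24, 17] .fail)))), (1, (.step [6, 13, 15, 13] (.step [13, 17, 23] (.step [16, 21, 15] .fail)))), (1, (.step [7, 7, 14, 8] (.step [10, 15, 16] (.step [19, 21, 19] .fail)))), (1, (.step [7, 8, 8, 25] (.step [10, 12, 25, 12] .fail))), (1, (.step [9, 14, 25] (.step [12, 21] (.step [16, 15, 20, 24] .fail)))), (1, (.step [7, 13, 9, 15] .fail)), (1, (.step [8, 8, 12, 9] (.step [12, 11, 17, 21] .fail))), (1, (.step [7, 25, 7, 12] (.step [10, 12, 17, 15] (.step [17, 22, 18] .fail)))), (2, .fail), (1, (.step [6, 8, 12, 15] (.step [13, 13, 14] (.step [14, 23] .fail)))), (1, (.step [7, 8, 6, 25] .fail)), (2, .fail), (1, (.step [9, 9] .fail)), (1, (.step [9, 14, 12, 15] (.step [10, 24, 13, 16] (.step [16,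 20, 19] .fail)))), (2, .fail), (1, (.step [8, 14, 8, 13] (.step [10, 15, 21] (.step [14, 18, 18, 18] .fail)))), (2, .fail), (1, (.step [6, 6, 25, 8] .fail)), (1, (.step [8, 12, 25] (.step [10, 13, 15, 17] .fail))), (1, (.step [6, 6, 14, 7, 25] (.step [12, 23, 11, 16] (.step [15, 17, 14, 19] .fail)))), (1, (.step [6, 8, 12, 6, 15] (.step [10, 21, 13, 25] .fail))), (1, .fail), (1, (.step [7, 14, 7, 13] (.step [10, 10, 13, 16] (.step [15, 17, 18] .fail)))), (1, .fail), (1, (.step [6, 6, 6, 12] (.step [13, 24] (.step [17, 23] .fail)))), (1, .fail), (1, (.step [8, 13, 14, 6] (.step [11, 23, 13] (.step [17, 20] .fail)))), (1, (.step [9, 13, 14] (.step [12, 11, 16] .fail))), (1, .fail), (1, (.step [6, 14, 9, 14] (.step [10, 12, 16, 12] .fail))), (3, .fail), (1, (.step [6, 12, 14, 6, 9] (.step [10, 23, 15] (.step [14, 17, 20, 22] .fail)))), (1, .fail), (1, (.step [9, 9, 7, 13] (.step [11, 24, 25] .fail))), (1, (.step [6, 8, 6, 12, 7] (.step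 [10, 12, 15, 21] (.step [14, 18, 21] .fail)))), (1, .fail), (1, (.step [9, 15, 8] (.step [11, 13, 23] (.step [17, 17, 14] .fail)))), (1, (.step [8, 8, 8] (.step [12, 12, 10] .fail))), (1, (.step [8, 25, 8] (.step [12, 14, 12] (.step [15, 19, 14, 17] .fail)))), (1, .fail), (1, (.step [7, 7, 7] .fail)), (1, (.step [6, 9, 6, 13, 14] (.step [13, 21] (.step [14, 19, 14, 19] .fail)))), (5, .fail), (1, (.step [7, 7] (.step [10, 15, 12, 10] .fail))), (1, (.step [6, 25, 7, 25] .fail)), (2, .fail), (1, (.step [7, 15, 12] (.step [10, 22, 16] .fail))), (1, .fail), (1, (.step [6, 6, 9, 15, 13] (.step [10, 22, 10, 10] (.step [15, 20, 14, 18] .fail)))), (1, (.step [9, 14, 12, 8] (.step [11, 13, 10] (.step [19, 24, 17] .fail)))), (1, .fail), (1, (.step [8, 14, 13, 25] (.step [10, 16, 11, 21] .fail))), (1, (.step [6, 6, 15, 12, 14] (.step [10, 22, 11, 24] .fail))), (1, (.step [6, 9, 12, 6] (.step [12, 10, 17, 21] (.step [14, 16, 14, 20] .fail)))), (3,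 .fail), (1, (.step [8, 25, 13] (.step [12, 15, 17, 13] (.step [14, 22, 14] .fail)))), (1, .fail), (1, (.step [8, 6, 12, 15] .fail)), (1, .fail), (1, (.step [7, 7, 14, 9] .fail)), (1, (.step [7, 13, 13, 13] .fail)), (1, (.step [6, 12, 6, 8, 15] .fail)), (3, .fail), (1, (.step [7, 8, 14, 12] (.step [12, 21, 24] .fail))), (1, (.step [9, 25, 9, 14] .fail)), (1, .fail), (1, (.step [7, 8, 25, 13] .fail)), (1, .fail), (1, (.step [6, 9, 7, 12] (.step [11, 12, 17] (.step [14, 17, 24, 16] .fail)))), (1, (.step [6, 13, 9, 9, 13] .fail)), (1, (.step [9, 13, 6] (.step [10, 17, 24] (.step [14, 17, 24, 18] .fail)))), (1, (.step [6, 12, 6, 8] (.step [13, 16, 10] (.step [14, 17, 20, 21] .fail)))), (1, (.step [7, 14, 7] .fail)), (1, .fail), (1, (.step [6, 9, 13, 15, 12] (.step [10, 17, 13, 22] (.step [14, 16, 20, 17] .fail)))), (1, (.step [6, 6, 25, 9, 7] (.step [10, 16, 23, 11] .fail))), (1, (.step [9, 15, 12, 25] (.step [11, 12, 21, 13] (.step [16,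 18, 25, 17] .fail)))), (1, (.step [8, 6, 12, 15] .fail)), (2, .fail), (1, (.step [6, 6, 6, 15, 7] .fail)), (1, (.step [6, 8, 15] (.step [10, 15, 22, 12] (.step [14, 17] .fail)))), (1, (.step [6, 8, 6, 13, 9] (.step [10, 12, 15, 13] .fail))), (1, (.step [6, 8, 6, 15, 8] .fail)), (1, .fail), (1, (.step [6, 13, 6, 15] (.step [11, 12, 10, 16] .fail))), (1, (.step [6, 25, 8, 7, 12] .fail)), (1, (.step [7, 9, 6] (.step [13, 11, 14] (.step [14, 21, 18, 22] .fail)))), (1, .fail), (1, (.step [7, 7, 14, 12] (.step [12, 21, 23] (.step [16, 23, 18] .fail)))), (1, (.step [6, 14, 8, 13] (.step [11, 13, 15, 13] .fail))), (1, (.step [7, 8, 6, 9] .fail)), (1, (.step [6, 8, 7, 13] .fail)), (1, .fail), (1, (.step [6, 12, 6, 13] (.step [11, 12, 11, 23] (.step [17, 23, 17] .fail)))), (1, (.step [7, 9, 15, 8] .fail)), (1, (.step [6, 14, 13, 15] (.step [12, 24, 10] (.step [14, 24, 15] .fail)))), (1, (.step [7, 9, 7, 14] .fail)), (1, .fail)])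

/-- the pieces of a certificate -/
noncomputable def pcsT2 : List (List (List ℕ) × Cert) := [(UA_0, cT2_0), (UA_1, cT2_1)]

/-- a piece of a certificate -/
noncomputable def cCh_0 : Cert := (Cert.rl [(1187, (.badPow 1187 1)), (1, (Cert.rl [(2, .fail), (1, (.step [32, 32, 36, 32] .fail)), (1, (.step [34, 38, 37, 32] (.step [36, 40, 44, 38] (.step [40, 42, 41, 43] .fail)))), (1, (.step [32, 35, 33, 39] (.step [37, 39, 36] (.step [42, 40] .fail)))), (1, (.step [33, 33, 34, 33] .fail)), (2, .fail), (1, (.step [33, 35, 35] (.step [36, 39, 37, 41] (.step [40, 42] (.step [44] (.done [45])))))), (2, .fail), (1, (.step [34, 32] .fail)), (2, .fail), (1, (.step [32, 38, 33, 36, 36] .fail)), (1, .fail), (1, (.step [32, 32, 35, 36] .fail)), (2, .fail), (1, (.step [33, 36, 36] (.step [37, 44, 41] (.step [43] .fail)))), (1, (.step [35, 37, 39] (.step [36, 38, 37, 44] (.step [40, 40] .fail)))), (4, .fail), (1, (.step [32, 35, 36, 39] (.step [36, 41,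 39] (.step [42, 41] .fail)))), (2, .fail), (1, (.step [32, 37, 34, 34] .fail)), (1, (.step [32, 37, 33] (.step [37, 37, 40, 37] (.step [40, 40, 44, 40, 40] .fail)))), (3, .fail), (1, (.step [32, 32, 36, 32, 39] (.step [36, 36, 40, 38] .fail))), (1, (.step [34, 37, 35] .fail)), (3, .fail), (1, (.step [33, 38, 33] .fail)), (1, (.step [34, 37, 34] .fail)), (1, .fail), (1, (.step [32, 37] .fail)), (1, (.step [32, 37, 35, 36] .fail)), (1, .fail), (1, (.step [33, 36, 33] .fail)), (1, .fail), (1, (.step [34, 38, 35, 32] .fail)), (1, (.step [32, 38, 38, 32, 32] .fail)), (1, (.step [33, 37, 37, 37] (.step [38, 44] (.step [40, 40] (.step [44] (.done [44, 40, 40, 38, 44, 33, 37, 37, 37, 28, 28, 32, 32])))))), (1, (.step [32, 35, 32] .fail)), (1, .fail), (1, (.step [32, 32, 36, 32, 39] (.step [36, 40, 37, 38] .fail))), (1, (.step [33, 38, 33, 34] (.step [36, 44, 39, 40] .fail))), (2, .fail), (1, (.step [32, 35, 33, 34] (.step [37, 39, 36] (.step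 [40, 40, 42, 44, 40] .fail)))), (3, .fail), (1, (.step [32, 34, 34, 38] .fail)), (1, (.step [33, 35, 32, 34] (.step [36, 39, 37] .fail))), (1, (.step [32, 32, 35, 36, 33] .fail)), (1, (.step [32, 37, 37, 32] (.step [38, 37, 38] (.step [42, 40] .fail)))), (1, (.step [32, 34, 38, 37, 33] .fail)), (1, (.step [34, 33, 38, 38] .fail)), (1, (.step [32, 35, 38, 32] .fail)), (1, (.step [32, 34, 39] .fail)), (1, .fail), (1, (.step [32, 37, 33, 33] .fail)), (1, (.step [34, 38, 32] (.step [36, 38, 40, 44] .fail))), (1, (.step [32, 35, 36, 36, 39] .fail)), (1, .fail), (1, (.step [32, 34, 34, 34] .fail)), (2, .fail), (1, (.step [32, 39, 37] .fail)), (1, .fail), (1, (.step [32, 32, 38, 33] .fail)), (1, (.step [32, 38, 33, 36, 36] .fail)), (1, .fail), (1, (.step [32, 35, 36, 39] .fail)), (1, (.step [32, 38, 33, 37] .fail)), (1, (.step [32, 32, 38, 35] .fail)), (1, (.step [32, 38, 35, 35] .fail)), (1, (.step [32, 34, 32, 38, 36] .fail)), (1, (.step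 [33, 38] (.step [38, 37, 40, 39] .fail))), (2, .fail), (1, (.step [32, 37, 35, 39] (.step [38, 37, 40, 39] (.step [42, 41] .fail)))), (1, (.step [34, 32, 34, 39] (.step [36, 41, 39, 39] (.step [40, 40, 43, 40, 42] .fail)))), (1, .fail), (1, (.step [32, 38, 38] .fail)), (1, (.step [33, 35, 33, 39] .fail)), (1, (.step [33, 38, 33] (.step [38, 44, 41] (.step [40, 40, 43] .fail)))), (1, (.step [33, 35, 35, 33] (.step [36, 36, 38, 38] (.step [41, 43, 40, 43, 44] .fail)))), (1, (.step [32, 34, 32, 38, 36] .fail)), (1, (.step [32, 38, 38] .fail)), (2, .fail), (1, (.step [34, 33, 38, 38] (.step [37, 40, 37] .fail))), (1, (.step [33, 38, 35] .fail)), (1, (.step [33, 39] .fail)), (1, (.step [32, 32, 35, 39] .fail)), (1, (.step [33, 33, 39, 33] .fail)), (1, (.step [32, 34, 38, 36, 39] .fail)), (1, (.step [33, 36, 39, 35] .fail)), (1, .fail), (1, (.step [33, 35, 33] .fail)), (1, (.step [34, 36, 33, 38] .fail)), (5, .fail), (1, (.step [33, 37, 37,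 35] (.step [36, 39, 40] (.step [42, 44, 40] .fail)))), (1, (.step [32, 37, 34, 33, 36] .fail)), (3, .fail), (1, (.step [33, 35, 38, 37] .fail)), (1, (.step [33, 34] .fail)), (1, (.step [34, 39, 34, 33] (.step [37, 37, 37, 38] .fail))), (1, (.step [35, 36, 36, 35] (.step [37, 40, 38] (.step [40, 40, 43, 40, 43] .fail)))), (3, .fail), (1, (.step [32, 37, 34, 33, 36] (.step [37, 40, 40] (.step [40, 43, 44, 41] .fail)))), (1, (.step [32, 35, 37, 39, 33] (.step [39, 41, 36] (.step [43, 44, 42] .fail)))), (1, (.step [35, 35, 32, 34] (.step [38, 37, 40] .fail))), (1, .fail), (1, (.step [33, 33, 38, 37] .fail)), (1, .fail), (1, (.step [33, 33, 38] (.step [38, 36, 40, 39] .fail))), (1, (.step [32, 37, 32, 35] (.step [37, 44, 38, 37] (.step [41, 44, 41] .fail)))), (1, (.step [33, 38, 37, 32] .fail)), (1, (.step [34, 39, 37] (.step [36, 38, 41] (.step [40] .fail)))), (1, .fail), (1, (.step [34, 33] (.step [36, 39, 37, 41] (.step [40, 42, 41, 42,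 44] .fail)))), (2, .fail), (1, (.step [32, 39, 33, 39] (.step [36, 44, 39] (.step [40, 40, 44, 41] .fail)))), (1, (.step [32, 34] .fail)), (1, (.step [33, 35, 35, 32] (.step [39, 41, 36] (.step [40, 40, 44, 40, 40] .fail)))), (1, (.step [32, 37, 32, 38] .fail)), (1, (.step [35, 36, 36, 35] .fail)), (1, .fail), (1, (.step [32, 32, 39, 36] .fail)), (1, (.step [32, 34, 33, 39] .fail)), (1, .fail), (1, (.step [32, 32, 34] (.step [37, 37, 37] (.step [40, 43, 40] .fail)))), (1, .fail), (1, (.step [32, 37, 35, 39] .fail)), (1, .fail), (1, (.step [32, 32, 35, 37] (.step [36, 38, 37, 41] .fail))), (1, (.step [33, 37, 38] (.step [36, 36, 38, 44] (.step [40, 40, 43, 41] .fail)))), (1, (.step [32, 35, 38, 33] .fail)), (1, (.step [32, 35, 33, 38] .fail)), (1, (.step [35, 37, 38, 33] .fail)), (1, .fail), (1, (.step [32, 38, 33, 37] (.step [36, 38, 41] (.step [42, 40] .fail)))), (1, .fail), (1, (.step [32, 38, 32, 36] (.step [36, 40, 36, 40] .fail))),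 (1, (.step [32, 39, 35, 39] .fail)), (1, (.step [32, 36] .fail)), (2, .fail), (1, (.step [32, 39, 33, 37] .fail)), (1, .fail), (1, (.step [35, 37, 39] (.step [36, 38, 37, 38] (.step [42, 41, 43, 41] .fail)))), (2, .fail), (1, (.step [35, 38, 34] (.step [36, 44, 36] .fail))), (1, (.step [32, 35, 39] .fail)), (1, (.step [35, 33, 38, 36] .fail)), (2, .fail), (1, (.step [33, 38, 33] .fail)), (3, .fail), (1, (.step [32, 32, 35] (.step [36, 44, 40, 38] (.step [40, 44] (.step [44] (.done [44, 40, 44, 36, 44, 40, 38, 32, 32, 35, 28, 35, 28])))))), (1, (.step [33, 37, 39] (.step [38, 40, 37] (.step [40, 40, 42, 41] .fail)))), (3, .fail), (1, (.step [32, 35, 35, 32, 37] .fail)), (1, (.step [32, 34, 37, 37] .fail)), (2, .fail), (1, (.step [33, 38, 35] .fail)), (1, (.step [34, 37, 33] (.step [36, 38, 40, 44] (.step [40, 44] (.step [44] (.done [44, 40, 44, 36, 38, 40, 44, 34, 37, 33, 28, 38, 33])))))), (5, .fail), (1, (.step [35, 36, 32] .fail)),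 (1, .fail), (1, (.step [32, 35, 37, 38] .fail)), (1, (.step [33, 35, 35] (.step [36, 36, 38, 38] .fail))), (3, .fail), (1, (.step [32, 34, 39] .fail)), (1, (.step [35] (.step [36, 36, 39] .fail))), (1, (.step [32, 34, 32, 36] .fail)), (1, (.step [33, 33, 38, 37] (.step [38, 44, 41] .fail))), (1, (.step [32, 39, 33] (.step [36, 39, 37, 44] (.step [40, 40, 42, 44, 40] .fail)))), (1, .fail), (1, (.step [35, 33, 38, 36] .fail)), (1, (.step [33, 37, 37] .fail)), (1, .fail), (1, (.step [35, 38, 34] (.step [36, 44, 36] (.step [41, 44, 41] .fail)))), (2, .fail), (1, (.step [32, 35, 35, 38] (.step [39] (.step [41] .fail)))), (1, .fail), (1, (.step [32] (.step [37] (.step [43, 40, 40] .fail)))), (1, (.step [32, 35, 32, 35] .fail)), (3, .fail), (1, (.step [33, 36, 33, 38] (.step [36, 38, 41] (.step [40, 40, 42, 44, 40, 43] .fail)))), (1, (.step [33, 35, 35, 32] (.step [36, 38, 40, 38] .fail))), (1, (.step [32, 39, 35, 36] .fail)), (1, (.step [32,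 38, 36, 36] .fail)), (1, (.step [33, 36, 36, 39] .fail)), (1, .fail), (1, (.step [32, 34, 39, 37] .fail)), (2, .fail), (1, (.step [32, 35, 39, 32] (.step [39, 44, 40] .fail))), (2, .fail), (1, (.step [32, 34, 33, 37] (.step [36, 39, 37, 41] .fail))), (1, (.step [33, 35, 33, 36] .fail)), (1, (.step [32, 37, 32, 37] (.step [36, 36, 44, 38] .fail))), (1, (.step [32, 35, 36, 33] .fail)), (1, (.step [32, 35, 33, 36] .fail)), (3, .fail), (1, (.step [32, 38, 33, 39] .fail)), (1, (.step [34, 37, 34] (.step [36, 44, 41, 39] (.step [43, 40, 43] .fail)))), (1, (.step [32, 34, 39, 37] .fail)), (1, (.step [33, 35, 39] (.step [36, 44] (.step [40, 40, 44, 42] .fail)))), (1, (.step [34, 37, 34, 39] .fail)), (1, (.step [32, 34, 34, 39] .fail)), (1, .fail), (1, (.step [32, 39, 35, 39] (.step [38, 36, 39, 39] (.step [43, 40, 42, 40] .fail)))), (1, .fail), (1, (.step [34, 39, 34, 36] .fail)), (1, (.step [32, 37, 39, 35, 33] .fail)), (1, (.step [32, 32,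 37] .fail)), (1, .fail), (1, (.step [35, 33, 36, 34] .fail)), (1, (.step [32, 38, 35, 39] (.step [36, 44, 41, 39] (.step [43, 40, 40, 43] .fail)))), (1, .fail), (1, (.step [32, 39] .fail)), (1, (.step [35, 33, 36] .fail)), (1, (.step [32, 34, 39, 37] .fail)), (1, .fail), (1, (.step [33, 37, 32, 35] .fail)), (2, .fail), (1, (.step [32, 38, 33, 37] .fail)), (2, .fail), (1, (.step [32, 32, 35, 32, 36] .fail)), (1, .fail), (1, (.step [32, 32, 35, 39] (.step [37, 40, 38] .fail))), (1, .fail), (1, (.step [32, 39, 37, 35] .fail)), (1, (.step [32, 38, 33, 37] .fail)), (1, .fail), (1, (.step [32, 35, 33, 37] .fail)), (1, (.step [34, 33, 35] (.step [36, 36, 38, 44] (.step [42, 44] .fail)))), (1, .fail), (1, (.step [32, 37, 32, 37] (.step [36, 39, 36, 38] (.step [41, 42, 40] .fail)))), (1, (.step [32, 39, 36, 38] .fail)), (1, (.step [33, 34, 38, 38] (.step [36, 39, 36, 38] (.step [40, 40, 43, 44] .fail)))), (1, .fail), (1, (.step [32, 35, 37, 39]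 .fail)), (1, (.step [32, 32, 38, 38, 32] .fail)), (2, .fail), (1, (.step [33, 38, 38, 37] .fail)), (1, .fail), (1, (.step [33, 38, 38] .fail)), (1, (.step [32, 34, 32, 32, 38] .fail)), (1, (.step [32, 32, 38, 36] .fail)), (1, (.step [32, 39, 35, 39] .fail)), (1, (.step [32, 39, 33] .fail)), (1, .fail), (1, (.step [34, 33, 36, 33] (.step [37, 39, 41] .fail))), (1, (.step [34, 32, 36, 32] .fail)), (1, (.step [34, 36, 35, 32] .fail)), (1, (.step [32, 39, 34] .fail)), (1, (.step [34] .fail)), (1, (.step [34, 38] .fail)), (4, .fail), (1, (.step [33, 35, 33] (.step [36, 38, 38, 40] .fail))), (1, .fail), (1, (.step [32, 35, 35, 32, 37] .fail)), (1, (.step [32, 37, 34, 33] .fail)), (1, .fail), (1, (.step [32, 35, 39, 37, 33] .fail)), (1, (.step [34, 33] .fail)), (1, (.step [32, 38, 32, 38] (.step [36, 38, 38, 37] .fail))), (1, (.step [32, 32, 39, 39] (.step [37, 39, 41, 36] (.step [41, 44, 43] .fail)))), (2, .fail), (1, (.step [32, 32, 35, 39]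 (.step [37, 38, 44] (.step [41, 43] .fail)))), (1, (.step [34, 36, 36, 35] (.step [36, 36, 38, 40] (.step [41, 44, 43, 40] (.step [] (.done [41, 44, 43, 40, 36, 36, 38, 40, 34, 36, 36, 35, 28, 30, 39, 29])))))), (2, .fail), (1, (.step [32, 38, 33, 36] (.step [36, 36, 40, 38] .fail))), (1, .fail), (1, (.step [32, 39, 37] .fail)), (1, (.step [33, 38, 37, 32] (.step [36, 36, 38, 38] (.step [40] .fail)))), (1, (.step [32, 35, 37, 37, 37] (.step [39, 40, 39] (.step [42] .fail)))), (2, .fail), (1, (.step [35, 33, 38, 37] (.step [38, 37, 40] .fail))), (1, (.step [32, 36, 39] .fail)), (2, .fail), (1, (.step [32, 32, 34, 36] .fail)), (1, .fail), (1, (.step [32, 32, 37] (.step [36, 36, 38, 41, 38] (.step [43, 41] .fail)))), (2, .fail), (1, (.step [32, 32, 38, 33, 38] .fail)), (1, (.step [33, 35, 38, 37] .fail)), (1, .fail), (1, (.step [34, 33, 35] .fail)), (1, (.step [32, 34, 38, 37, 33] (.step [37, 38, 37, 41] (.step [43, 40, 43] .fail)))), (3,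 .fail), (1, (.step [32, 39, 39, 35] (.step [37, 39] (.step [41, 42, 41, 42] .fail)))), (1, (.step [35, 38] .fail)), (1, .fail), (1, (.step [32, 35, 35, 35, 32] (.step [36, 41, 37] .fail))), (4, .fail), (1, (.step [32, 34, 37, 34] (.step [36, 41, 39, 39] (.step [42, 44, 43] .fail)))), (2, .fail), (1, (.step [34, 33, 39, 34] .fail)), (1, (.step [33, 34, 34, 34] .fail)), (1, .fail), (1, (.step [33, 37, 38, 35] .fail)), (1, .fail), (1, (.step [32, 34, 32, 38] .fail)), (2, .fail), (1, (.step [33, 34, 32, 38] (.step [39, 39] .fail))), (1, (.step [32, 39, 37, 35] .fail)), (1, .fail), (1, (.step [33, 38, 37, 32] (.step [38, 37, 40, 39] (.step [40, 43, 44, 42] .fail)))), (1, (.step [32, 38, 33, 36] .fail)), (1, .fail), (1, (.step [33, 34, 38, 38] .fail)), (1, .fail), (1, (.step [35, 33, 34] .fail)), (1, (.step [32, 38, 36, 36, 32] (.step [38, 36, 40, 39] .fail))), (1, (.step [35, 37, 38, 33] .fail)), (1, (.step [33, 33] .fail)), (1, (.step [33,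 36, 39, 36] .fail)), (1, (.step [32, 34, 37, 38] .fail)), (1, (.step [32, 37, 39] (.step [36, 38, 37] (.step [43, 40, 40, 43] .fail)))), (1, .fail), (1, (.step [33, 35, 39] .fail)), (1, (.step [33, 35, 33] .fail)), (1, .fail), (1, (.step [32, 35, 33, 38] .fail)), (1, (.step [32, 39, 36, 34] .fail)), (1, (.step [32, 37, 32] .fail)), (1, (.step [32, 37, 39] .fail)), (1, .fail), (1, (.step [34, 32, 39, 33] .fail)), (1, (.step [34, 32, 34, 38] .fail)), (1, .fail), (1, (.step [32, 35, 36, 34] .fail)), (1, .fail), (1, (.step [32, 37, 35] .fail)), (1, .fail), (1, (.step [34, 37, 33, 36] .fail)), (1, (.step [32, 38, 36, 34] .fail)), (1, (.step [33, 39, 32] (.step [36, 40, 38] .fail))), (1, (.step [32, 34, 38, 36] .fail)), (1, (.step [32, 35, 32, 35] .fail)), (1, (.step [32, 32, 35, 36] (.step [38, 44, 38] .fail))), (1, (.step [32, 32, 38, 38, 32] .fail)), (1, .fail), (1, (.step [32, 37, 39, 33] .fail)), (1, (.step [32, 35, 33, 36] .fail)), (1,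 (.step [32, 32, 37, 32] (.step [37, 40, 37] .fail))), (1, (.step [32, 38, 33, 36, 36] .fail)), (1, .fail), (1, (.step [32, 35, 35, 35] .fail)), (1, .fail), (1, (.step [32, 32, 34] .fail)), (1, .fail), (1, (.step [35, 38, 35] .fail)), (1, (.step [32, 32, 38, 34] .fail)), (1, (.step [32, 39, 35, 36] .fail)), (1, .fail), (1, (.step [32, 37, 35, 32] .fail)), (1, (.step [32, 38, 33] .fail)), (1, (.step [32, 32, 35, 38] .fail)), (1, .fail), (1, (.step [33, 33, 39, 37] .fail)), (1, (.step [32, 32, 35, 37] .fail)), (1, .fail), (1, (.step [34, 36, 33] .fail)), (4, .fail), (1, (.step [32, 35, 39, 32] (.step [36, 36, 44, 38] (.step [41] (.step [] (.done [41, 36, 36, 44, 38, 32, 35, 39, 32, 30, 32, 31, 36])))))), (1, .fail), (1, (.step [33, 36, 36, 33] .fail)), (1, (.step [34, 32, 37] .fail)), (3, .fail), (1, (.step [32, 35, 37, 37] .fail)), (1, (.step [33, 38] .fail)), (2, .fail), (1, (.step [35, 33, 38, 37] .fail)), (1, (.step [32, 38, 38, 32]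 .fail)), (1, (.step [34, 36, 36, 36] .fail)), (1, (.step [35, 37] .fail)), (1, (.step [32, 38, 38, 32] (.step [39, 40, 37] .fail))), (1, .fail), (1, (.step [33, 36, 39, 36] .fail)), (2, .fail), (1, (.step [35, 33, 39, 32] .fail)), (1, .fail), (1, (.step [33, 36, 36, 39] .fail)), (1, .fail), (1, (.step [32, 35, 32, 32] .fail)), (1, .fail), (1, (.step [33, 39] (.step [36, 38, 44] (.step [40, 42, 41, 42, 44] .fail)))), (1, (.step [32, 34, 38, 32] .fail)), (1, .fail), (1, (.step [32, 37, 35, 32] (.step [36, 36, 40] (.step [40, 40, 42, 41] .fail)))), (1, (.step [33, 39, 33] .fail)), (1, (.step [32, 32, 39, 33] .fail)), (2, .fail), (1, (.step [33, 34] .fail)), (2, .fail), (1, (.step [32, 37, 34, 39] .fail)), (1, (.step [33, 38, 37] (.step [37, 38, 36, 40] (.step [43, 40, 40, 42] .fail)))), (1, (.step [32, 37, 39, 35] .fail)), (1, (.step [35, 33, 36, 39] (.step [38, 36, 41, 39] .fail))), (1, (.step [34, 33, 36, 39] .fail)), (1, (.step [32,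 38, 36, 36] .fail)), (1, (.step [33, 33, 34] .fail)), (1, (.step [32, 32, 36, 32, 34] .fail)), (1, .fail), (1, (.step [32, 37, 37, 32] .fail)), (1, .fail), (1, (.step [32, 35, 36, 34] .fail)), (1, .fail), (1, (.step [32, 35, 36, 36, 39] (.step [38, 40] (.step [40, 44, 42, 41] .fail)))), (1, (.step [34, 32, 34, 38] (.step [38, 37, 41] (.step [42, 41, 43] .fail)))), (2, .fail), (1, (.step [32, 35, 37, 39] .fail)), (1, (.step [32, 39, 36, 34] .fail)), (1, .fail), (1, (.step [32, 35, 33] (.step [36, 44, 37, 38] (.step [40, 44, 40] .fail)))), (2, .fail), (1, (.step [34, 36, 35, 32] .fail)), (1, (.step [32, 37, 39, 35, 33] (.step [37, 41, 38] .fail))), (2, .fail), (1, (.step [32, 32, 39, 39] .fail)), (1, .fail), (1, (.step [34, 37, 33] (.step [37, 40, 37, 41] .fail))), (1, .fail), (1, (.step [34, 36, 35, 32] (.step [39, 44, 39] (.step [43, 40, 44] (.step [44] (.done [44, 43, 40, 44, 39, 44, 39, 34, 36, 35, 32, 29, 29, 33])))))), (1, .fail),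 (1, (.step [35, 33, 39, 34] .fail)), (2, .fail), (1, (.step [32, 35, 36, 36] .fail)), (1, (.step [32, 35, 33, 39] .fail)), (1, (.step [32, 38, 33, 34] .fail)), (1, .fail), (1, (.step [32, 34, 38, 37, 34] .fail)), (1, (.step [32, 32, 38] .fail)), (1, .fail), (1, (.step [32, 38, 34, 33, 39] .fail)), (1, (.step [32, 32, 36, 32] .fail)), (1, .fail), (1, (.step [32, 38, 35, 33] .fail)), (1, .fail), (1, (.step [34] .fail)), (8, .fail), (1, (.step [34, 38, 37, 33] .fail)), (1, (.step [32, 39, 36, 33] (.step [38, 38, 40] .fail))), (1, .fail), (1, (.step [32, 32, 39, 39] (.step [36, 36, 38, 41] (.step [42, 40, 40] .fail)))), (1, (.step [33, 34] .fail)), (1, .fail), (1, (.step [33, 39, 34, 37] .fail)), (1, (.step [34, 38, 35, 32] (.step [36, 38] .fail))), (1, (.step [33, 36, 33, 38] .fail)), (1, .fail), (1, (.step [32, 34, 39, 34, 38] .fail)), (1, (.step [32, 34, 37, 34] .fail)), (1, (.step [32, 39, 39, 35] (.step [37, 38, 36, 36] .fail))), (1,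 (.step [33, 35, 38, 34] (.step [37, 44, 41, 36] (.step [40, 40, 44, 42] .fail)))), (1, .fail), (1, (.step [32, 32, 39] .fail)), (1, (.step [32, 38, 35, 38, 33] .fail)), (1, (.step [35, 39, 35, 37] .fail)), (1, (.step [35, 33, 39, 34] (.step [37, 37, 39] .fail))), (1, (.step [32, 35] .fail)), (1, .fail), (1, (.step [33, 39, 34] (.step [38, 40, 44] (.step [40, 40, 44] .fail)))), (2, .fail), (1, (.step [32, 38, 33, 38] (.step [37, 40, 37, 41] (.step [41] .fail)))), (1, .fail), (1, (.step [33, 33, 34, 33] (.step [38, 36, 40, 39] .fail))), (1, (.step [33, 34, 32, 38] .fail)), (1, (.step [32, 35] .fail)), (1, .fail), (1, (.step [34, 33, 39, 37] .fail)), (1, (.step [35, 36, 34] .fail)), (1, (.step [33, 37, 32, 34] .fail)), (1, (.step [32, 37, 34] (.step [37, 40] (.step [43, 44, 41] (.step [44] (.done [44, 43, 44, 41, 37, 40, 32, 37, 34, 29, 36, 30, 37])))))), (1, (.step [33, 38, 37] .fail)), (1, (.step [34, 39, 34, 33] .fail)), (1, (.step [32,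 35, 33] (.step [39, 36, 36] (.step [40, 40] .fail)))), (1, (.step [33, 36, 39, 34] .fail)), (2, .fail), (1, (.step [32, 38, 33, 36, 36] .fail)), (1, .fail), (1, (.step [32, 38, 35, 33] .fail)), (1, .fail), (1, (.step [33, 36, 36, 35] .fail)), (1, (.step [32, 39, 34] .fail)), (1, .fail), (1, (.step [32, 34, 32, 34] .fail)), (1, (.step [32, 35, 37, 39, 33] (.step [37, 38] (.step [41, 43] .fail)))), (1, (.step [34, 32, 37] (.step [37, 40, 36] .fail))), (1, (.step [34, 36, 33, 38] .fail)), (1, (.step [32, 34, 32, 38] .fail)), (1, .fail), (1, (.step [32, 32, 34] .fail)), (1, (.step [32, 32, 38, 33] .fail)), (1, (.step [35, 36, 32, 38] .fail)), (1, (.step [32, 37, 34] (.step [36, 36, 40, 39] .fail))), (1, (.step [32, 32, 38, 33, 38] .fail)), (1, .fail), (1, (.step [33, 37, 34] .fail)), (1, .fail), (1, (.step [32, 34, 34, 38] .fail)), (1, (.step [33, 34, 39] .fail)), (1, (.step [32, 32, 38, 36, 36] (.step [36, 36, 39, 44] (.step [41, 42, 40]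 (.step [44] (.done [44, 41, 42, 40, 36, 36, 39, 44, 32, 32, 38, 36, 36, 29, 37, 30])))))), (1, (.step [32, 39, 33, 39] .fail)), (1, (.step [34, 39, 34] (.step [37, 44, 41] (.step [40, 40, 42, 41, 43] .fail)))), (2, .fail), (1, (.step [34, 37, 39, 36] .fail)), (1, (.step [33, 34, 38] .fail)), (1, (.step [32, 34, 34, 39, 37] .fail)), (2, .fail), (1, (.step [32, 34, 39] .fail)), (1, .fail), (1, (.step [34, 32, 39] .fail)), (1, .fail), (1, (.step [32, 36, 32, 37] .fail)), (1, .fail), (1, (.step [32, 38, 35, 33] .fail)), (1, .fail), (1, (.step [32, 39, 39] .fail)), (1, (.step [33, 37, 38] (.step [36, 38, 40, 40] .fail))), (1, (.step [34, 38, 35, 38] .fail)), (1, (.step [32, 35, 36] .fail)), (2, .fail), (1, (.step [32, 37, 39, 33] .fail)), (1, (.step [32, 39, 35, 39] (.step [37, 40, 36, 36] (.step [43, 44, 42] .fail)))), (1, (.step [32, 32, 34, 38] .fail)), (1, (.step [34, 36, 36, 35] .fail)), (1, (.step [32, 34, 39, 39, 37] .fail)), (1, .fail),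 (1, (.step [35, 37, 32] .fail)), (6, .fail), (1, (.step [32, 34, 37] .fail)), (1, (.step [32, 32, 38, 35, 37] .fail)), (1, .fail), (1, (.step [32, 37, 32, 35, 32] .fail)), (1, .fail), (1, (.step [32, 38, 35, 38] .fail)), (2, .fail), (1, (.step [33, 35, 33, 34] .fail)), (1, (.step [32, 35, 37, 37] .fail)), (1, .fail), (1, (.step [32, 37, 32, 35] .fail)), (1, (.step [34, 37, 39] .fail)), (1, (.step [32, 39, 33, 35] .fail)), (1, (.step [32, 35, 37, 38] .fail)), (1, .fail), (1, (.step [34, 37, 33, 36] .fail)), (1, (.step [35, 33, 36, 34] .fail)), (1, (.step [34, 38, 37] .fail)), (1, (.step [34, 37, 34, 39] .fail)), (1, (.step [33, 35, 39, 36] .fail)), (1, (.step [32, 32, 35, 36, 33] .fail)), (1, (.step [33, 38] .fail)), (1, .fail), (1, (.step [33, 38, 33, 34] .fail)), (1, (.step [32, 39, 36, 38] .fail)), (1, .fail), (1, (.step [32, 38, 37] .fail)), (1, (.step [33, 34, 32, 37] .fail)), (1, (.step [33, 35, 33, 39] .fail)), (1, (.step [32,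 32, 39, 33] .fail)), (1, (.step [32, 37, 37, 32] .fail)), (1, (.step [32, 34, 34, 39, 37] (.step [36, 36, 39] (.step [40, 40] .fail)))), (1, (.step [33, 34, 38, 38] .fail)), (1, .fail), (1, (.step [34, 32, 39, 33] (.step [36, 38, 44] (.step [40, 40, 44, 40, 40] .fail)))), (1, .fail), (1, (.step [35, 33, 35, 38] .fail)), (1, (.step [32, 37, 39, 35] .fail)), (1, .fail), (1, (.step [34, 33, 39, 34] (.step [38, 40, 37] .fail))), (1, (.step [32, 38, 33, 36, 36] .fail)), (3, .fail), (1, (.step [32, 32, 34, 36] .fail)), (1, (.step [33, 39, 34] .fail)), (2, .fail), (1, (.step [32, 37, 32] (.step [36, 44] .fail))), (1, (.step [34, 32, 34, 39] .fail)), (1, .fail), (1, (.step [32, 35, 36, 39, 37] .fail)), (1, (.step [32, 38, 34, 33, 39] (.step [37, 37, 37, 39] .fail))), (1, (.step [32, 32, 35, 32, 36] .fail)), (1, (.step [35, 35, 32, 34] .fail)), (6, .fail), (1, (.step [35, 38, 34] .fail)), (1, .fail), (1, (.step [35, 33, 35] .fail)), (3, .fail),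 (1, (.step [33, 37, 37, 34] .fail)), (2, .fail), (1, (.step [32, 39, 39] (.step [37, 40, 37, 41] .fail))), (1, (.step [32, 37, 32, 38] .fail)), (1, (.step [32, 35, 37, 39] .fail)), (1, (.step [32, 32, 36, 35] (.step [36, 44, 40] .fail))), (2, .fail), (1, (.step [32, 35, 36, 33, 38] .fail)), (1, .fail), (1, (.step [32, 39, 33] .fail)), (1, (.step [32, 38, 33, 36] (.step [36, 40, 37, 38] .fail))), (1, (.step [33, 37, 37, 39] .fail)), (1, (.step [35] .fail)), (1, (.step [32, 39, 34, 36] .fail)), (1, (.step [33, 37, 32] .fail)), (1, (.step [32, 34, 37, 37, 39] .fail)), (1, (.step [33, 38, 33] .fail)), (1, (.step [33, 33, 38, 38] .fail)), (1, .fail), (1, (.step [32, 32, 38] (.step [36, 44, 39] (.step [40, 40, 44, 40] .fail)))), (1, (.step [34, 37, 33, 34] .fail)), (3, .fail), (1, (.step [35, 33, 39] .fail)), (1, .fail), (1, (.step [32, 38, 38, 34] (.step [37, 40] .fail))), (1, (.step [32, 37, 32, 35, 32] .fail)), (1, (.step [33, 35, 38, 34]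 .fail)), (1, (.step [32, 32, 35, 32, 36] .fail)), (1, .fail), (1, (.step [32, 35, 38, 32] .fail)), (1, (.step [32, 37, 32, 35] .fail)), (1, (.step [34, 38, 35, 38] .fail)), (2, .fail), (1, (.step [34, 36, 35] (.step [36, 38, 44] (.step [42, 40, 40, 44] .fail)))), (1, (.step [33, 34, 34, 38] (.step [37, 38, 40] (.step [40, 40, 44, 42] .fail)))), (1, .fail), (1, (.step [32, 32, 38, 34] .fail)), (1, (.step [35, 33, 36, 39] .fail)), (1, (.step [34, 33, 35] .fail)), (1, (.step [33, 36, 36, 33] .fail)), (1, (.step [32, 34, 38, 38] (.step [37, 41, 38] .fail))), (1, .fail), (1, (.step [32, 39, 35, 33] .fail)), (1, (.step [34, 32] .fail)), (1, (.step [32, 32, 38, 38, 32] .fail)), (1, (.step [35, 35, 38] .fail)), (1, (.step [35, 36, 36] .fail)), (1, .fail), (1, (.step [32, 38, 35, 33] (.step [36, 40, 36, 40] .fail))), (1, (.step [33, 34, 32, 37] (.step [36, 36, 40, 44] .fail))), (1, (.step [33, 36, 36, 36] (.step [37, 37, 37, 41] (.step [40, 44,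 42, 41] .fail)))), (1, .fail), (1, (.step [32, 32, 36, 38] .fail)), (1, .fail), (1, (.step [34, 33, 36] .fail)), (1, .fail), (1, (.step [32, 35, 32] .fail)), (3, .fail), (1, (.step [32, 34, 36] .fail)), (2, .fail), (1, (.step [35, 37, 37] .fail)), (1, (.step [35, 37, 32] (.step [36, 44, 37, 38] (.step [40, 42, 41, 43] .fail)))), (1, (.step [34, 38] .fail)), (1, (.step [32, 34, 33, 37] .fail)), (1, .fail), (1, (.step [32, 32, 36, 33] .fail)), (2, .fail), (1, (.step [34, 37, 34, 39] .fail)), (1, (.step [34, 33, 39] (.step [36, 39, 40, 39] .fail))), (1, (.step [33, 35, 32, 35] (.step [38, 40, 44] .fail))), (1, (.step [32, 32, 36, 38] .fail)), (4, .fail), (1, (.step [34, 33, 34, 33] (.step [36, 44] (.step [43, 40, 43] .fail)))), (1, (.step [32, 38, 35] (.step [37, 44, 39] .fail))), (1, .fail), (1, (.step [35, 38, 34, 33] (.step [37, 37, 39, 36] .fail))), (1, .fail), (1, (.step [33, 39, 39] (.step [39, 36, 40] (.step [42, 41, 42] .fail)))),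 (2, .fail), (1, (.step [32, 32, 36, 38, 34] (.step [37, 40] (.step [41, 42, 44] (.step [44] (.done [44, 41, 42, 44, 37, 40, 32, 32, 36, 38, 34, 29, 30, 38, 28])))))), (1, .fail), (1, (.step [33, 36, 38, 38] (.step [37, 39, 40] .fail))), (1, (.step [32, 35, 33, 38, 37] (.step [36, 36, 38, 40] .fail))), (1, .fail), (1, (.step [32, 37, 35, 39] .fail)), (1, (.step [35, 36, 36, 35] .fail)), (2, .fail), (1, (.step [35, 33, 38, 36] .fail)), (2, .fail), (1, (.step [32, 34, 37, 32] (.step [37, 38, 36] (.step [42, 41, 43, 41] .fail)))), (1, (.step [34, 39, 34, 33] (.step [37, 41, 38] (.step [40, 40, 43, 40, 42] .fail)))), (1, (.step [32, 32, 38, 34] (.step [37, 38] (.step [43, 40, 42, 40] .fail)))), (1, (.step [32, 35, 33, 37] .fail)), (2, .fail), (1, (.step [34, 36, 38, 35] .fail)), (1, (.step [35, 33] (.step [36, 36, 39, 44] (.step [40, 40, 43, 41] (.step [44] (.done [44, 40, 40, 43, 41, 36, 36, 39, 44, 35, 33, 29, 31, 35, 28])))))), (1, (.step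 [32, 39, 39, 37] .fail)), (2, .fail), (1, (.step [33, 36] (.step [36, 44, 40, 39] .fail))), (1, .fail), (1, (.step [35, 36, 32, 38] .fail)), (2, .fail), (1, (.step [35, 33, 36, 39] .fail)), (1, .fail), (1, (.step [32, 37, 34] (.step [] (.step [43, 44] .fail)))), (1, .fail), (1, (.step [32, 32, 35, 32, 36] .fail)), (1, (.step [32, 39, 36] (.step [36, 36, 36, 41] (.step [40, 40, 42, 40] .fail)))), (2, .fail), (1, (.step [33, 35, 33, 38] (.step [38, 36, 41] (.step [40, 42, 41, 44] .fail)))), (2, .fail), (1, (.step [32, 34, 34, 39] (.step [36, 44, 36, 40] (.step [40, 44, 42] .fail)))), (1, .fail), (1, (.step [33, 35, 33, 36] (.step [36, 38, 38] .fail))), (1, (.step [34, 38, 37] .fail)), (1, .fail), (1, (.step [32, 34, 33, 37] .fail)), (1, (.step [32, 32, 35, 32, 36] .fail)), (1, (.step [32, 32, 38, 36, 36] .fail)), (2, .fail), (1, (.step [33, 33, 34, 38] .fail)), (1, (.step [33, 37, 37, 37] .fail)), (1, (.step [34, 32, 39, 33] .fail)), (1,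 (.step [32, 38, 32, 37] .fail)), (1, (.step [32, 37, 37, 38] .fail)), (2, .fail), (1, (.step [32, 35, 35, 32, 37] (.step [36, 38, 44] (.step [42, 41, 42] .fail)))), (1, (.step [35, 38, 37, 34] .fail)), (1, .fail), (1, (.step [32, 38, 36, 36] .fail)), (1, .fail), (1, (.step [32, 32, 36, 38] .fail)), (1, (.step [32, 38, 32, 37] (.step [37, 39] (.step [42, 41, 43] .fail)))), (1, (.step [32, 37, 34] .fail)), (1, (.step [32, 32, 38, 36] .fail)), (1, (.step [35, 39, 35, 38] .fail)), (1, (.step [32, 39, 36] .fail)), (2, .fail), (1, (.step [32, 32, 39, 39, 33] .fail)), (1, (.step [32, 35, 33, 39] .fail)), (1, (.step [32, 39, 37] .fail)), (1, .fail), (1, (.step [34, 36, 33] (.step [37, 44, 38, 37] (.step [40, 40, 43, 41, 42] .fail)))), (1, (.step [34, 37, 33, 36] .fail)), (1, (.step [32, 34, 38, 36, 39] (.step [37, 41, 36] (.step [41, 42, 41] .fail)))), (1, (.step [33, 34, 38, 38] (.step [38, 37, 41] (.step [40, 40, 44] .fail)))), (1, (.step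 [32, 36, 39, 35] (.step [] .fail))), (1, .fail), (1, (.step [32, 37, 34, 34] (.step [36, 39, 41] (.step [43, 40, 44] .fail)))), (1, (.step [34, 36, 34] (.step [36, 39, 40] (.step [40, 40, 42, 44] .fail)))), (1, .fail), (1, (.step [34, 33, 38] (.step [36, 38, 41] .fail))), (1, (.step [35, 38, 35, 37] .fail)), (7, .fail), (1, (.step [32, 34, 39, 36] (.step [37, 39, 44] (.step [41] .fail)))), (1, (.step [34, 37, 32] (.step [36, 39, 36] (.step [41, 42, 44] .fail)))), (1, (.step [34, 36, 33, 38] .fail)), (1, .fail), (1, (.step [32, 34, 37] (.step [37, 41, 37] .fail))), (1, (.step [33, 35, 33, 34] .fail)), (1, .fail), (1, (.step [32, 37, 34, 36] .fail)), (2, .fail), (1, (.step [32, 38, 33, 37] .fail)), (1, (.step [32, 34, 38, 36] .fail)), (1, .fail), (1, (.step [32, 35, 37, 38] .fail)), (1, (.step [34, 37, 33, 36] (.step [39, 37, 38] .fail))), (1, (.step [34, 39, 33] .fail)), (1, (.step [34, 33, 39, 39] .fail)), (2, .fail), (1, (.step [35,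 33, 36, 39] (.step [36, 41, 39, 39] (.step [41, 42] .fail))))])), (1112, (.badPow 1187 1))])

/-- the pieces of a certificate -/
noncomputable def pcsCh : List (List (List ℕ) × Cert) := [(UB_0, cCh_0)]

/-- the old letters as words in good letters -/
def Wl : List (List ℕ) := [
[67, 68, 60, 61, 61, 53, 57, 50, 50, 54, 4, 27, 27, 5, 45], [68, 64, 67, 62, 59, 57, 51, 56, 62, 60, 47, 50, 61, 49, 45], [64, 67, 58, 67, 59, 64, 51, 51, 51, 53, 48, 48, 48, 26, 26, 4, 46, 5],
[68, 66, 67, 57, 57, 59, 51, 55, 57, 52, 47, 62, 59, 52, 4, 27, 46, 4, 46, 27]]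

/-- the relators -/
def relL : List (List ℕ) := [
[0, 2, 0, 2, 0, 2, 0, 2, 0, 2, 0, 2, 0, 2]]

/-- the candidates for the image of the third generator -/
def candL : List (List ℕ) := [
[45], [44, 40, 40, 38, 44, 33, 37, 37, 37, 28, 28, 32, 32], [44, 40, 44, 36, 44, 40, 38, 32, 32, 35, 28, 35, 28], [44, 40, 44, 36, 38, 40, 44, 34, 37, 33, 28, 38, 33],
[41, 44, 43, 40, 36, 36, 38, 40, 34, 36, 36, 35, 28, 30, 39, 29], [41, 36, 36, 44, 38, 32, 35, 39, 32, 30, 32, 31, 36], [44, 43, 40, 44, 39, 44, 39, 34, 36, 35, 32, 29, 29, 33], [44, 43, 44, 41, 37, 40, 32, 37, 34, 29, 36, 30, 37],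
[44, 41, 42, 40, 36, 36, 39, 44, 32, 32, 38, 36, 36, 29, 37, 30], [44, 41, 42, 44, 37, 40, 32, 32, 36, 38, 34, 29, 30, 38, 28], [44, 40, 40, 43, 41, 36, 36, 39, 44, 35, 33, 29, 31, 35, 28]]

/-- the fate of the candidates, for the exponent 1: kept, or a relator and a point -/
def elim1 : List (List ℕ × ℕ × ℕ × ℕ) := [([45], 1, 0, 0),
  ([44, 40, 40, 38, 44, 33, 37, 37, 37, 28, 28, 32, 32], 0, 0, 0),
  ([44, 40, 44, 36, 44, 40, 38, 32, 32, 35, 28, 35, 28], 0, 0, 0),
  ([44, 40, 44, 36, 38, 40, 44, 34, 37, 33, 28, 38, 33], 0, 0, 0),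
  ([41, 44, 43, 40, 36, 36, 38, 40, 34, 36, 36, 35, 28, 30, 39, 29], 0, 0, 0),
  ([41, 36, 36, 44, 38, 32, 35, 39, 32, 30, 32, 31, 36], 0, 0, 0),
  ([44, 43, 40, 44, 39, 44, 39, 34, 36, 35, 32, 29, 29, 33], 0, 0, 0),
  ([44, 43, 44, 41, 37, 40, 32, 37, 34, 29, 36, 30, 37], 0, 0, 0),
  ([44, 41, 42, 40, 36, 36, 39, 44, 32, 32, 38, 36, 36, 29, 37, 30], 0, 0, 0),
  ([44, 41, 42, 44, 37, 40, 32, 32, 36, 38, 34, 29, 30, 38, 28], 0, 0, 0),
  ([44, 40, 40, 43, 41, 36, 36, 39, 44, 35, 33, 29, 31, 35, 28], 0, 0, 0)]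

/-- the fate of the candidates, for the exponent 5: kept, or a relator and a point -/
def elim5 : List (List ℕ × ℕ × ℕ × ℕ) := [([45], 0, 0, 0),
  ([44, 40, 40, 38, 44, 33, 37, 37, 37, 28, 28, 32, 32], 0, 0, 0),
  ([44, 40, 44, 36, 44, 40, 38, 32, 32, 35, 28, 35, 28], 0, 0, 0),
  ([44, 40, 44, 36, 38, 40, 44, 34, 37, 33, 28, 38, 33], 0, 0, 0),
  ([41, 44, 43, 40, 36, 36, 38, 40, 34, 36, 36, 35, 28, 30, 39, 29], 0, 0, 0),
  ([41, 36, 36, 44, 38, 32, 35, 39, 32, 30, 32, 31, 36], 0, 0, 0),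
  ([44, 43, 40, 44, 39, 44, 39, 34, 36, 35, 32, 29, 29, 33], 0, 0, 0),
  ([44, 43, 44, 41, 37, 40, 32, 37, 34, 29, 36, 30, 37], 0, 0, 0),
  ([44, 41, 42, 40, 36, 36, 39, 44, 32, 32, 38, 36, 36, 29, 37, 30], 0, 0, 0),
  ([44, 41, 42, 44, 37, 40, 32, 32, 36, 38, 34, 29, 30, 38, 28], 0, 0, 0),
  ([44, 40, 40, 43, 41, 36, 36, 39, 44, 35, 33, 29, 31, 35, 28], 0, 0, 0)]

end Cfsg.Agent.Lib.Helper5.Co2Out
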