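import Cfsg.Agent.Lib.Helper1.Co2B8
import Cfsg.Agent.Lib.Helper5.Co2Out2
import Cfsg.Agent.Lib.Helper5.Co2Out3
import Cfsg.Agent.Lib.Helper5.Srch3

set_option autoImplicit false
set_option maxRecDepth 100000

/-! # The second Conway group: the model with more letters, and the two verified stabilizer chains -/

namespace Cfsg.Agent.Lib.Helper5.Co2Out

open Cfsg.Agent.Lib.Helper6.TC Cfsg.Agent.Lib.Helper6.PM Cfsg.Agent.Lib.Helper2.PMS
open Cfsg.Agent.Lib.Helper2.PMC Cfsg.Agent.Lib.Helper5.Chain Cfsg.Agent.Lib.Helper5.Srch
open Cfsg.Agent.Lib.Helper1.Co2B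
set_option Elab.async false

theorem chk_old_0 : chkRange (chkOld co2M.px 2300 pm) 0 4 = true := by decide +kernel
theorem chk_old : chkRange (chkOld co2M.px 2300 pm) 0 4 = true :=
  chk_old_0

theorem chk_new_0 : chkRange (chkNew 2300 4 ds pm) 0 5 = true := by decide +kernel
theorem chk_new_1 : chkRange (chkNew 2300 4 ds pm) 5 4 = true := by decide +kernel
theorem chk_new_2 : chkRange (chkNew 2300 4 ds pm) 9 2 = true := by decide +kernel
theorem chk_new_3 : chkRange (chkNew 2300 4 ds pm) 11 4 = true := by decide +kernel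
theorem chk_new_4 : chkRange (chkNew 2300 4 ds pm) 15 4 = true := by decide +kernel
theorem chk_new_5 : chkRange (chkNew 2300 4 ds pm) 19 3 = true := by decide +kernel
theorem chk_new_6 : chkRange (chkNew 2300 4 ds pm) 22 4 = true := by decide +kernel
theorem chk_new_7 : chkRange (chkNew 2300 4 ds pm) 26 3 = true := by decide +kernel
theorem chk_new_8 : chkRange (chkNew 2300 4 ds pm) 29 3 = true := by decide +kernel
theorem chk_new_9 : chkRange (chkNew 2300 4 ds pm) 32 2 = true := by decide +kernel
theorem chk_new_10 : chkRange (chkNew 2300 4 ds pm) 34 3 = true := by decide +kernel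
theorem chk_new_11 : chkRange (chkNew 2300 4 ds pm) 37 5 = true := by decide +kernel
theorem chk_new_12 : chkRange (chkNew 2300 4 ds pm) 42 5 = true := by decide +kernel
theorem chk_new_13 : chkRange (chkNew 2300 4 ds pm) 47 3 = true := by decide +kernel
theorem chk_new_14 : chkRange (chkNew 2300 4 ds pm) 50 5 = true := by decide +kernel
theorem chk_new_15 : chkRange (chkNew 2300 4 ds pm) 55 3 = true := by decide +kernel
theorem chk_new_16 : chkRange (chkNew 2300 4 ds pm) 58 5 = true := by decide +kernel
theorem chk_new_17 : chkRange (chkNew 2300 4 ds pm) 63 2 = true := by decide +kernel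
theorem chk_new : chkRange (chkNew 2300 4 ds pm) 0 65 = true :=
  chkRange_append _ 5 0 60 chk_new_0 (chkRange_append _ 4 5 56 chk_new_1 (chkRange_append _ 2 9 54 chk_new_2 (chkRange_append _ 4 11 50 chk_new_3 (chkRange_append _ 4 15 46 chk_new_4 (chkRange_append _ 3 19 43 chk_new_5 (chkRange_append _ 4 22 39 chk_new_6 (chkRange_append _ 3 26 36 chk_new_7 (chkRange_append _ 3 29 33 chk_new_8 (chkRange_append _ 2 32 31 chk_new_9 (chkRange_append _ 3 34 28 chk_new_10 (chkRange_append _ 5 37 23 chk_new_11 (chkRange_append _ 5 42 18 chk_new_12 (chkRange_append _ 3 47 15 chk_new_13 (chkRange_append _ 5 50 10 chk_new_14 (chkRange_append _ 3 55 7 chk_new_15 (chkRange_append _ 5 58 2 chk_new_16 (chk_new_17)))))))))))))))))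

theorem chk_slp : chkSLP co2M.px co2M.n co2M.nl ds pm = true :=
  chkSLP_of_pieces co2M.px 2300 4 ds pm chk_old chk_new

/-- the model with the new letters -/
noncomputable def M : PModel := slpModel co2M ds pm chk_slp

theorem card_G : Nat.card M.G = 42305421312000 := card_Co2

theorem M_nl : M.nl = 69 := slpModel_nl co2M ds pm chk_slp

theorem chk_inv_0 : chkRange (chkInv1 M iv) 0 32 = true := by decide +kernel
theorem chk_inv_1 : chkRange (chkInv1 M iv) 32 32 = true := by decide +kernel
theorem chk_inv_2 : chkRange (chkInv1 M iv) 64 5 = true := by decide +kernel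
theorem chk_inv : chkRange (chkInv1 M iv) 0 69 = true :=
  chkRange_append _ 32 0 37 chk_inv_0 (chkRange_append _ 32 32 5 chk_inv_1 (chk_inv_2))

theorem invMap : InvMap M iv := invMap_of_pieces M iv chk_inv

theorem chk_lvA : chkLevels M [] lvA = true := by decide +kernel

theorem factsA : ChainFacts M lvA where
  hchk := chk_lvA
  hcard := by
    rw [card_G]
    decide +kernel

theorem chk_msA : chkMasks lvA msA = true := by decide +kernel

theorem chk_lvB : chkLevels M [] lvB = true := by decide +kernel

theorem factsB : ChainFacts M lvB where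
  hchk := chk_lvB
  hcard := by
    rw [card_G]
    decide +kernel

theorem chk_msB : chkMasks lvB msB = true := by decide +kernel

end Cfsg.Agent.Lib.Helper5.Co2Out
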