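import Cfsg.Agent.Lib.Helper5.Co2Out7

set_option autoImplicit false
set_option maxRecDepth 100000
set_option Elab.async false

/-! # The second Conway group: the outer automorphism group is trivial -/

namespace Cfsg.Agent.Lib.Helper5.Co2Out

open Cfsg.Spor Cfsg.Agent.Lib.Helper6.TC Cfsg.Agent.Lib.Helper6.PM Cfsg.Agent.Lib.Helper2.PMS
open Cfsg.Agent.Lib.Helper2.PMC Cfsg.Agent.Lib.Helper5.Chain Cfsg.Agent.Lib.Helper2.RigidOut
open Cfsg.Agent.Lib.Helper5.Srch

theorem kept1 : ∀ t ∈ elim1, t.2.1 = 1 → t.1 = wv := by decide +kernel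
theorem kept2 : ∀ t ∈ elim5, t.2.1 ≠ 1 := by decide +kernel

theorem hord : ∀ j < 11, 2 ^ j % 23 = 2 % 23 → j = 1 := by decide

theorem normalize (α : MulAut M.G) : ∃ g : M.G, ∃ ε ∈ [1, 5],
    (MulAut.conj g * α) gp = gp ^ ε ∧ (MulAut.conj g * α) gh = gh := by
  haveI : Fact (Nat.Prime 23) := ⟨by norm_num⟩
  refine rigid_normalize_two (G := M.G) 23 2 11 1839366144000 21 [1, 5] gp gh (by rw [card_G])
    (by norm_num) orderOf_gp orderOf_gh (by norm_num) rel_ph (by norm_num) hord hE ?_ (by norm_num)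
    normalizer_gp α
  intro ε hε
  simp only [List.mem_cons, List.not_mem_nil, or_false] at hε
  rcases hε with rfl | rfl <;> norm_num

theorem classify (α : MulAut M.G) (ε : ℕ) (hε : ε ∈ [1, 5]) (hp : α gp = gp ^ ε)
    (hh : α gh = gh) : α = 1 := by
  obtain ⟨z, hz, hv⟩ := image_gv α hh
  simp only [List.mem_cons, List.not_mem_nil, or_false] at hε
  rcases hε with rfl | rfl
  · rw [← cand_elim1, List.mem_map] at hz
    obtain ⟨t, ht, rfl⟩ := hz
    have h1 := chk_elim1
    rw [List.all_eq_true] at h1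
    have h2 := kept_of_aut 1 α hp hh t (h1 t ht) hv
    rw [pow_one] at hp
    have h3 := kept1 t ht h2
    refine det α 1 ?_ ?_ ?_
    · rw [hp, MulAut.one_apply]
    · rw [hh, MulAut.one_apply]
    · rw [hv, h3, MulAut.one_apply]; rfl
  · exfalso
    rw [← cand_elim5, List.mem_map] at hz
    obtain ⟨t, ht, rfl⟩ := hz
    have h1 := chk_elim5
    rw [List.all_eq_true] at h1
    exact kept2 t ht (kept_of_aut 5 α hp hh t (h1 t ht) hv)

/-- the outer automorphism group of the model is trivial -/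
theorem card_out_G : Nat.card (Cfsg.Out M.G) = 1 :=
  card_out_one_of_normalized_two [1, 5] gp gh normalize classify

/-- the outer automorphism group is trivial -/
theorem card_out_Co2 : Nat.card (Cfsg.Out ↥Cfsg.Spor.Co2) = 1 := card_out_G

end Cfsg.Agent.Lib.Helper5.Co2Out
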