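import Cfsg.Agent.Lib.Helper5.Srch2
import Cfsg.Agent.Lib.Helper5.Co3Out3

set_option autoImplicit false
set_option maxRecDepth 100000
set_option maxHeartbeats 0

/-! # The third Conway group: certificates of searches and words (generated data) -/

namespace Cfsg.Agent.Lib.Helper5.Co3Out

open Cfsg.Agent.Lib.Helper5.Srch

/-- a piece of a certificate -/
noncomputable def cCp_0 : Cert := (Cert.rl [(1, (.step [] (.step [] (.step [] (.step [] (.step [] (.done []))))))), (1, (.step [] (.step [] (.step [] (.step [] (.step [] (.done [1, 1, 1, 1, 1, 1, 1, 1, 1, 1, 1, 1, 1, 1, 1, 1, 1, 1, 1, 1, 1, 1]))))))), (1, (.step [] (.step [] (.step [] (.step [] (.step [] (.done [1, 1, 1, 1, 1, 1, 1, 1, 1, 1, 1, 1, 1, 1, 1, 1, 1, 1, 1, 1, 1]))))))), (1, (.step [4, 8, 4] (.step [9, 12] (.step [12, 12, 12, 18] (.step [] (.step [19] (.done [1, 1, 1, 1, 1, 1, 1, 1, 1, 1, 1, 1, 1, 1, 1, 1, 1, 1, 1, 1]))))))), (1, (.step [4, 8, 4] (.step [9, 12]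 (.step [12, 12, 12, 18] (.step [] (.step [19] (.done [1, 1, 1, 1, 1, 1, 1, 1, 1, 1, 1, 1, 1, 1, 1, 1, 1, 1, 1]))))))), (1, (.step [4, 8, 4] (.step [9, 12] (.step [12, 12, 12, 18] (.step [] (.step [19] (.done [1, 1, 1, 1, 1, 1, 1, 1, 1, 1, 1, 1, 1, 1, 1, 1, 1, 1]))))))), (1, (.step [4, 8, 4] (.step [9, 12] (.step [12, 12, 12, 18] (.step [] (.step [19] (.done [1, 1, 1, 1, 1, 1, 1, 1, 1, 1, 1, 1, 1, 1, 1, 1, 1]))))))), (1, (.step [4, 8, 4] (.step [9, 12] (.step [12, 12, 12, 18] (.step [] (.step [19] (.done [1, 1, 1, 1, 1, 1, 1, 1, 1, 1, 1, 1, 1, 1, 1, 1]))))))), (1, (.step [5, 7] (.step [8, 12, 15] (.step [13] (.step [14, 17] (.step [] (.done [1, 1, 1, 1, 1, 1, 1, 1, 1, 1, 1, 1, 1, 1, 1]))))))), (1, (.step [4, 7, 13, 13, 13] (.step [8, 8, 12, 12] (.step [12, 19, 16] (.step [15, 16] (.step [18, 20] (.done [1, 1, 1, 1, 1, 1, 1, 1, 1, 1, 1, 1, 1, 1]))))))), (1, (.step [4, 7, 13, 13, 13] (.step [8, 8, 12, 12] (.step [12, 19, 16]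 (.step [15, 16] (.step [18, 20] (.done [1, 1, 1, 1, 1, 1, 1, 1, 1, 1, 1, 1, 1]))))))), (1, (.step [4, 13, 6] (.step [8, 10] (.step [13, 14] (.step [14, 17, 18] (.step [18, 20] (.done [1, 1, 1, 1, 1, 1, 1, 1, 1, 1, 1, 1]))))))), (1, (.step [4, 13, 6] (.step [8, 10] (.step [13, 14] (.step [14, 17, 18] (.step [18, 20] (.done [1, 1, 1, 1, 1, 1, 1, 1, 1, 1, 1]))))))), (1, (.step [5, 9, 13] (.step [10, 14, 11] (.step [12, 14, 13] (.step [17, 15] (.step [18, 20] (.done [1, 1, 1, 1, 1, 1, 1, 1, 1, 1]))))))), (1, (.step [5, 9, 13] (.step [10, 14, 11] (.step [12, 14, 13] (.step [17, 15] (.step [18, 20] (.done [1, 1, 1, 1, 1, 1, 1, 1, 1]))))))), (1, (.step [5, 9, 13] (.step [10, 14, 11] (.step [12, 14, 13] (.step [17, 15] (.step [18, 20] (.done [1, 1, 1, 1, 1, 1, 1, 1]))))))), (1, (.step [5, 9, 13] (.step [10, 14, 11] (.step [12, 14, 13] (.step [17, 15] (.step [18, 20] (.done [1, 1, 1, 1, 1, 1, 1]))))))), (1, (.step [5, 6, 9] (.step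 [9, 12, 20] (.step [12, 15, 17, 17] (.step [14, 19, 15] (.step [18] (.done [1, 1, 1, 1, 1, 1]))))))), (1, (.step [5, 6, 9] (.step [9, 12, 20] (.step [12, 15, 17, 17] (.step [14, 19, 15] (.step [18] (.done [1, 1, 1, 1, 1]))))))), (1, (.step [5, 6, 9] (.step [9, 12, 20] (.step [12, 15, 17, 17] (.step [14, 19, 15] (.step [18] (.done [1, 1, 1, 1]))))))), (1, (.step [] (.step [] (.step [] (.step [] (.step [] (.done [1, 1, 1]))))))), (1, (.step [] (.step [] (.step [] (.step [] (.step [] (.done [1, 1]))))))), (1, (.step [] (.step [] (.step [] (.step [] (.step [] (.done [1]))))))), (2, (.step [5, 5, 5] (.step [8, 13] .fail))), (1, (.step [5, 5, 5, 13] (.step [11, 13, 14] .fail))), (1, (.step [5, 5, 5] (.step [8, 13] .fail))), (1, (.step [5, 7, 7] (.step [8, 15, 13] .fail))), (1, (.step [5, 7, 12] (.step [10, 14, 12] (.step [12, 14, 18, 13] .fail)))), (1, (.step [5, 5, 5] (.step [8, 13] .fail))), (1, (.step [4, 6, 4, 13] .fail)),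 (1, (.step [5, 7, 7] (.step [8, 15, 13] .fail))), (1, (.step [6, 6, 4] (.step [11, 15, 10] (.step [13, 15, 16] (.step [17, 19, 14] .fail))))), (1, (.step [5, 7, 12] (.step [10, 14, 12] (.step [12, 14, 18, 13] .fail)))), (1, (.step [7, 12, 8] (.step [8, 20, 11] .fail))), (1, (.step [4, 6, 4, 13] .fail)), (1, (.step [5, 7, 7] (.step [8, 15, 13] .fail))), (1, (.step [6, 9] (.step [11, 15, 12] (.step [12, 12, 12, 17] .fail)))), (1, (.step [4, 7, 8, 8] (.step [8, 10, 12] (.step [13, 14, 13] (.step [14, 16, 16] .fail))))), (1, (.step [7] (.step [10, 20] (.step [13, 15] .fail)))), (1, (.step [7, 4] (.step [9, 10] .fail))), (1, (.step [5, 6, 4, 9] .fail)), (1, (.step [5, 5, 7] .fail)), (1, (.step [4, 6, 4, 13] .fail)), (1, (.step [5, 9, 5] .fail)), (1, (.step [4, 7, 8, 7] (.step [10, 13, 11] (.step [13, 18, 12, 15] .fail)))), (1, (.step [5, 7, 7] (.step [8, 15, 13] .fail))), (1, (.step [4, 6, 5, 13, 4] .fail)), (1, (.step [5, 13,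 5] (.step [9, 14, 8] (.step [12, 14, 18] .fail)))), (1, (.step [4, 4, 6, 9] (.step [8, 11, 13] (.step [13, 19, 12] (.step [14, 17, 17] .fail))))), (1, (.step [7] (.step [10, 20] (.step [13, 15] .fail)))), (1, (.step [4, 9, 4, 6] (.step [8, 12, 11] .fail))), (1, (.step [5, 6, 8] .fail)), (1, (.step [6, 12] .fail)), (1, (.step [5, 6, 9] .fail)), (1, (.step [5, 5, 7] .fail)), (1, (.step [5, 9] .fail)), (1, (.step [4, 9, 6] .fail)), (1, (.step [5, 9, 5] .fail)), (1, (.step [4, 7, 8] .fail)), (1, (.step [5, 6, 4] .fail)), (1, (.step [4, 4, 9, 5] (.step [11, 13, 9] (.step [12, 14, 12, 12] .fail)))), (1, (.step [7, 8, 6] .fail)), (1, (.step [7, 8] (.step [8, 11, 12, 14] .fail))), (1, (.step [4, 6, 5, 13, 4] .fail)), (1, (.step [5, 6, 5, 12] (.step [9, 13, 14] (.step [12, 16, 16] .fail)))), (1, (.step [5, 13, 5] (.step [9, 14, 8] (.step [12, 14, 18] .fail)))), (1, (.step [6, 6, 8] (.step [11, 8, 15] (.step [12, 15] (.step [14,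 18] .fail))))), (1, (.step [4, 8, 6, 5] (.step [9, 13, 14] (.step [12, 15, 13, 13] .fail)))), (1, (.step [5, 13, 7] .fail)), (1, (.step [4, 9, 4, 6] (.step [8, 12, 11] .fail))), (1, (.step [5, 6, 8] .fail)), (1, (.step [6, 12] .fail)), (1, (.step [5, 6, 5] .fail)), (1, (.step [5, 5, 7] .fail)), (1, (.step [4, 6, 9] .fail)), (1, (.step [] .fail)), (1, (.step [4, 9, 6] .fail)), (1, (.step [7, 8, 6] .fail)), (1, (.step [4, 7, 8] .fail)), (1, (.step [4, 9, 6, 12] .fail)), (1, (.step [5, 6, 4] .fail)), (1, (.step [6, 8, 13] (.step [8, 10, 12] (.step [13, 18] (.step [14, 14, 16, 19] .fail))))), (1, (.step [4, 4, 9, 5] (.step [11, 13, 9] (.step [12, 14, 12, 12] .fail)))), (1, (.step [4, 9, 6, 13] .fail)), (1, (.step [4, 4, 8, 13] .fail)), (1, (.step [7, 8] (.step [8, 11, 12, 14] .fail))), (1, (.step [4, 6, 5, 13, 4] .fail)), (1, (.step [6, 5, 5, 6] (.step [8, 11, 12] (.step [13, 16] .fail)))), (1, (.step [4, 9, 4, 9] .fail)),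 (1, (.step [5, 13, 5] (.step [9, 14, 8] (.step [12, 14, 18] .fail)))), (1, (.step [6, 6, 8] (.step [11, 8, 15] (.step [12, 15] (.step [14, 18] .fail))))), (1, (.step [6, 5] (.step [8] (.step [12, 17, 18, 13] .fail)))), (1, (.step [4, 8, 6, 5] (.step [9, 13, 14] (.step [12, 15, 13, 13] .fail)))), (1, (.step [5, 13, 7] .fail)), (1, (.step [4, 6, 5, 8] .fail)), (1, (.step [4, 9, 4, 6] (.step [8, 12, 11] .fail))), (1, (.step [5, 6, 8] .fail)), (1, (.step [5, 7, 13] (.step [8, 20, 11] (.step [12, 16, 19] (.step [14, 17, 18] .fail))))), (1, (.step [4, 7, 4, 8] .fail)), (1, (.step [5, 6, 5] .fail)), (1, (.step [5, 5, 7] .fail)), (1, (.step [4, 6, 4, 7] (.step [8, 11, 8, 11] .fail))), (1, (.step [5, 7, 12] (.step [10, 14, 12] (.step [12, 14, 18, 13] .fail)))), (1, (.step [4, 6, 9] .fail)), (1, (.step [] .fail)), (1, (.step [5, 6, 8] .fail)), (1, (.step [4, 9, 6, 13] .fail)), (1, (.step [4, 6, 8, 12] .fail)), (1, (.step [7, 8, 6]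 .fail)), (1, (.step [4, 12, 5] .fail)), (1, (.step [4, 9, 6, 12] .fail)), (1, (.step [6, 13, 6] .fail)), (1, (.step [5, 9, 7] .fail)), (1, (.step [4, 8, 12, 6] .fail)), (1, (.step [6, 5, 13] (.step [8, 10, 8] (.step [12, 17, 18] (.step [15, 17, 19] .fail))))), (1, (.step [4, 7, 13, 4] (.step [10, 9] (.step [13, 15, 13] .fail)))), (1, (.step [5, 13, 7] .fail)), (1, (.step [5, 13, 6] .fail)), (1, (.step [4, 6, 6] .fail)), (1, (.step [4, 13, 7, 12] (.step [8] .fail))), (1, (.step [4, 6, 5, 13, 4] .fail)), (1, (.step [4, 4, 12] (.step [10, 12, 14] (.step [12, 15, 12] .fail)))), (1, (.step [6, 4, 8] .fail)), (1, (.step [4, 4, 6, 12] (.step [8, 10, 9] (.step [13, 18, 12] .fail)))), (1, (.step [5, 5, 5, 13] .fail)), (1, (.step [6, 6, 8] (.step [11, 8, 15] (.step [12, 15] (.step [14, 18] .fail))))), (1, (.step [4, 7, 8] (.step [9, 13, 15] .fail))), (1, (.step [4, 7, 13, 4] (.step [8, 11, 13] .fail))), (1, (.step [6, 13, 4] (.step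 [9, 13, 15] (.step [12, 18] .fail)))), (1, (.step [4, 6, 13] (.step [10, 9, 13] (.step [12, 12, 12, 20] .fail)))), (1, (.step [4, 4, 4] .fail)), (1, (.step [5, 13, 7] .fail)), (1, (.step [5, 7, 7, 9] .fail)), (1, (.step [5, 12, 8] .fail)), (1, (.step [4, 9, 4, 6] (.step [8, 12, 11] .fail))), (1, (.step [4, 7, 5, 9] .fail)), (1, (.step [5, 7, 13] (.step [8, 20, 11] (.step [12, 16, 19] (.step [14, 17, 18] .fail))))), (1, (.step [4, 4, 6, 5] .fail)), (1, (.step [4, 7, 4, 8] .fail)), (1, (.step [5, 6, 5] .fail)), (1, (.step [6, 8, 7, 12] .fail)), (1, (.step [4, 9, 4] (.step [8, 12, 20] .fail))), (1, (.step [4, 7, 5, 12] (.step [11, 12, 12] .fail))), (1, (.step [5, 7, 12] (.step [10, 14, 12] (.step [12, 14, 18, 13] .fail)))), (1, (.step [4, 6, 8, 12] (.step [8, 13] (.step [12, 16, 16] (.step [14, 16, 18] .fail))))), (1, (.step [6, 9] (.step [11, 15, 12] (.step [12, 12, 12, 17] .fail)))), (1, (.step [5, 5, 6] .fail)), (1, (.step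 [6, 8, 4] .fail)), (1, (.step [5, 6, 8] .fail)), (1, (.step [5, 6, 9] .fail)), (1, (.step [4, 8, 4, 8] .fail)), (1, (.step [5, 6, 4] .fail)), (1, (.step [7, 8, 6] .fail)), (1, (.step [4, 12, 5] .fail)), (1, (.step [] .fail)), (1, (.step [7, 12, 8] .fail)), (1, (.step [4, 12, 4, 9] (.step [8, 8, 12, 15] (.step [12, 14, 13] (.step [16, 18, 14] .fail))))), (1, (.step [4, 9, 4, 9] .fail)), (1, (.step [4, 4, 6, 12] (.step [8, 10, 9] (.step [13, 18, 12] .fail)))), (1, (.step [4, 8, 12, 6] .fail)), (1, (.step [6, 5, 13] (.step [8, 10, 8] (.step [12, 17, 18] (.step [15, 17, 19] .fail))))), (1, (.step [7, 7, 8] (.step [8, 12] (.step [12, 14] .fail)))), (1, (.step [6, 13, 6] .fail)), (1, (.step [5, 8] .fail)), (2, (.step [4, 6, 6] .fail)), (1, (.step [4, 13, 7, 12] (.step [8] .fail))), (1, (.step [4, 7, 8, 8] (.step [8, 11, 9] .fail))), (1, (.step [5, 5] .fail)), (1, (.step [4, 6, 5, 13, 4] .fail)), (1, (.step [5, 7, 7] (.step [9,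 9, 12] .fail))), (1, (.step [4, 4, 12] (.step [10, 12, 14] (.step [12, 15, 12] .fail)))), (1, (.step [5, 6, 4] .fail)), (1, (.step [5, 8, 5, 13] (.step [10] (.step [12, 16, 16] (.step [14, 14, 17] .fail))))), (1, (.step [4, 4, 6, 12] (.step [8, 10, 9] (.step [13, 18, 12] .fail)))), (1, (.step [5, 9, 13, 7] (.step [9, 10, 20] .fail))), (1, (.step [4, 6, 5, 13] .fail)), (1, (.step [6, 6, 8] (.step [11, 8, 15] (.step [12, 15] (.step [14, 18] .fail))))), (1, (.step [4, 7, 8] (.step [9, 13, 15] .fail))), (1, (.step [4, 7, 13, 4] (.step [8, 11, 13] .fail))), (1, (.step [6, 13, 4] (.step [9, 13, 15] (.step [12, 18] .fail)))), (1, (.step [5, 6, 13] (.step [8, 14, 12, 10] (.step [13, 19, 13] .fail)))), (1, (.step [7, 8, 13] (.step [10, 9, 13] .fail))), (1, (.step [4, 4, 9] .fail)), (1, (.step [6, 8] .fail)), (1, (.step [4, 6, 9] .fail)), (1, (.step [6, 13, 4] (.step [9, 13, 15] (.step [12, 18] .fail)))), (1, (.step [7, 12] .fail)),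 (1, (.step [4, 6, 4, 7] (.step [8, 11, 8, 11] .fail))), (1, (.step [4, 7, 5, 9] .fail)), (1, (.step [4, 4, 13, 4] .fail)), (1, (.step [5, 7, 13] (.step [8, 20, 11] (.step [12, 16, 19] (.step [14, 17, 18] .fail))))), (1, (.step [4, 4, 6, 5] .fail)), (1, (.step [4, 7, 9] .fail)), (1, (.step [4, 13, 13] .fail)), (1, (.step [7, 13, 6] .fail)), (1, (.step [6, 6] (.step [8, 10, 9] .fail))), (1, (.step [5, 9, 13, 7] (.step [10, 20] (.step [12, 19, 17] .fail)))), (1, (.step [7, 4, 12, 7] (.step [8, 10, 15] .fail))), (1, (.step [5, 5, 5, 13] (.step [11, 13, 14] .fail))), (1, (.step [5, 7, 12] (.step [10, 14, 12] (.step [12, 14, 18, 13] .fail)))), (1, (.step [5, 7, 12] .fail)), (1, (.step [4, 6, 8, 12] (.step [8, 13] (.step [12, 16, 16] (.step [14, 16, 18] .fail))))), (1, (.step [6, 9] (.step [11, 15, 12] (.step [12, 12, 12, 17] .fail)))), (1, (.step [5, 6] .fail)), (1, (.step [5, 5, 7] .fail)), (1, (.step [7, 12, 8] .fail)), (1,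 (.step [4, 7, 8, 7] (.step [8, 13, 10, 9] (.step [12, 15, 12, 16] .fail)))), (1, (.step [4, 6, 5, 13, 4] .fail)), (1, (.step [5, 6, 8] .fail)), (1, (.step [5, 6, 9] .fail)), (1, (.step [4, 13, 6, 13] .fail)), (1, (.step [5, 12, 12] .fail)), (1, (.step [5, 6, 4] .fail)), (1, (.step [7, 8, 6] .fail)), (1, (.step [4, 6, 12] (.step [10, 14, 12] (.step [12, 15, 12, 18] .fail)))), (1, (.step [5, 8, 13] .fail)), (1, (.step [] .fail)), (1, (.step [7, 12, 8] .fail)), (1, (.step [4, 12, 4, 9] (.step [8, 8, 12, 15] (.step [12, 14, 13] (.step [16, 18, 14] .fail))))), (1, (.step [4, 7, 7, 13] .fail)), (1, (.step [4, 9, 4, 9] .fail)), (1, (.step [4, 4, 6, 12] (.step [8, 10, 9] (.step [13, 18, 12] .fail)))), (1, (.step [4, 8, 12, 6] .fail)), (1, (.step [5, 7, 13] (.step [8, 20, 11] (.step [12, 16, 19] (.step [14, 17, 18] .fail))))), (1, (.step [4, 6, 4, 7] (.step [8, 11, 8, 11] .fail))), (1, (.step [4, 6, 5, 13] (.step [8, 20, 15] (.step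 [12, 12, 14, 17] .fail)))), (1, (.step [4, 9, 6, 13] .fail)), (1, (.step [4, 7, 5, 9] .fail)), (1, (.step [6, 13, 6] .fail)), (1, (.step [5, 7, 7, 13] .fail)), (2, (.step [4, 6, 6] .fail)), (1, (.step [6, 8, 6] (.step [9] .fail))), (1, (.step [4, 7, 13, 4] (.step [8, 11, 13] .fail))), (1, (.step [4, 4, 4] .fail)), (1, (.step [5, 12] .fail)), (1, (.step [4, 6, 5, 13, 4] .fail)), (1, (.step [4, 7, 5, 12] (.step [11, 12, 12] .fail))), (1, (.step [4, 6, 8, 12] (.step [8, 13] (.step [12, 16, 16] (.step [14, 16, 18] .fail))))), (1, (.step [6, 9] (.step [11, 15, 12] (.step [12, 12, 12, 17] .fail)))), (1, (.step [5, 6, 4] .fail)), (1, (.step [5, 8, 5, 13] (.step [10] (.step [12, 16, 16] (.step [14, 14, 17] .fail))))), (1, (.step [4, 4, 6, 12] (.step [8, 10, 9] (.step [13, 18, 12] .fail)))), (1, (.step [4, 4, 6, 5] .fail)), (1, (.step [4, 7, 8, 8] (.step [8, 11, 9] .fail))), (1, (.step [4, 8, 4, 8] .fail)), (1, (.step [5, 6, 5]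 (.step [10, 9] .fail))), (1, (.step [4, 4, 4] (.step [10, 15, 9] (.step [12, 14, 17, 13] (.step [14, 14, 18] .fail))))), (1, (.step [5, 9, 13, 7] (.step [9, 10, 20] .fail))), (1, (.step [4, 7, 13, 8] (.step [8, 12, 14, 20] .fail))), (1, (.step [6, 13, 4] (.step [9, 13, 15] (.step [12, 18] .fail)))), (1, (.step [4, 4, 13, 4] .fail)), (1, (.step [5, 9, 13, 7] (.step [10, 20] (.step [12, 19, 17] .fail)))), (1, (.step [7, 8, 13] (.step [10, 9, 13] .fail))), (1, (.step [4, 4, 9] .fail)), (1, (.step [6, 8] .fail)), (1, (.step [6, 9, 6] .fail)), (1, (.step [4, 7, 8, 7] (.step [8, 13, 10, 9] (.step [12, 15, 12, 16] .fail)))), (1, (.step [4, 13, 6, 13] .fail)), (1, (.step [6, 13, 4] (.step [9, 13, 15] (.step [12, 18] .fail)))), (1, (.step [4, 7, 7, 13] .fail)), (1, (.step [4, 6, 4, 7] (.step [8, 11, 8, 11] .fail))), (1, (.step [4, 9, 6, 13] .fail)), (1, (.step [4, 7, 5, 9] .fail)), (1, (.step [4, 4, 13, 4] .fail)), (1, (.step [4,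 6, 8, 12] (.step [8, 13] (.step [12, 16, 16] (.step [14, 16, 18] .fail))))), (1, (.step [4, 4, 6, 5] .fail)), (1, (.step [5, 6, 5] (.step [10, 9] .fail))), (1, (.step [4, 4, 13, 4] .fail)), (1, (.step [5, 9, 13, 7] (.step [10, 20] (.step [12, 19, 17] .fail)))), (1, (.step [4, 13, 13] .fail)), (1, (.step [4, 6, 4, 13] .fail)), (1, (.step [6, 6, 12] (.step [8, 14, 12] .fail))), (1, (.step [5, 9, 13, 7] (.step [10, 20] (.step [12, 19, 17] .fail))))])

/-- the pieces of a certificate -/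
noncomputable def pcsCp : List (List (List ℕ) × Cert) := [(UA_0, cCp_0)]

/-- a piece of a certificate -/
noncomputable def cT2_0 : Cert := (Cert.rl [(3, (.step [7, 13, 7] (.step [8, 11, 15, 10] (.step [12, 14, 20] (.step [17, 14, 14] .fail))))), (5, (.step [5, 6, 8] (.step [9, 10] (.step [12, 18, 16] (.step [15, 17, 15] .fail))))), (1, (.step [4, 13, 6, 13] (.step [10, 12, 12] (.step [12, 12, 14, 17] (.step [17, 14] .fail))))), (2, (.step [4, 9, 13] (.step [8, 12, 11] (.step [12, 19, 16] (.step [14, 16, 14] .fail))))), (2, (.step [7, 5, 13] (.step [10, 15, 13] (.step [12, 14, 18, 13] (.step [14, 17, 17] .fail))))), (4, (.step [5, 12, 5] (.step [8, 13] (.step [12, 17, 18] (.step [16, 14, 14] .fail))))), (3, (.step [5, 6, 4, 12] (.step [8] (.step [13, 18, 12] (.step [16, 19] .fail))))), (3, (.step [7, 13, 7] (.step [8, 11, 15, 10] (.step [12, 14, 20] (.step [17, 14, 14] .fail))))), (2, (.step [4, 13, 13, 5] .fail)), (1,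 (.step [5, 8, 12, 4] (.step [8, 11] .fail))), (1, (.step [4, 13, 13, 5] .fail)), (1, (.step [6, 4, 4] (.step [8, 10, 12] .fail))), (1, (.step [5, 8, 12, 4] .fail)), (1, (.step [4, 13, 13, 5] .fail)), (1, (.step [5, 6, 13, 4] .fail)), (1, (.step [6, 4, 4] (.step [8, 10, 12] .fail))), (1, (.step [4, 6, 5, 13] (.step [10, 13, 9] .fail))), (1, (.step [5, 8, 12, 4] .fail)), (1, (.step [6, 13, 8, 4] .fail)), (1, (.step [5, 6, 13, 4] .fail)), (1, (.step [6, 4, 4] (.step [8, 10, 12] .fail))), (1, (.step [6, 5, 5] .fail)), (1, (.step [5, 6, 4, 13] (.step [9] .fail))), (1, (.step [5, 13, 7] .fail)), (1, (.step [5, 6, 9] .fail)), (1, (.step [4, 9, 9, 7] .fail)), (1, (.step [4, 8, 7] (.step [10, 20] (.step [12, 18, 12, 18] .fail)))), (1, (.step [5, 6, 13, 4] .fail)), (1, (.step [7, 7] .fail)), (1, (.step [4, 8, 5, 6] .fail)), (1, (.step [6, 4, 4] (.step [8, 10, 12] .fail))), (1, (.step [6, 13, 4] (.step [8, 11, 8, 11] (.step [12, 16,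 16] (.step [14, 16, 15] .fail))))), (1, (.step [4, 13, 6, 13] .fail)), (1, (.step [5, 6, 4, 9] (.step [10] .fail))), (1, (.step [5, 13, 7] .fail)), (1, (.step [4, 9, 5] .fail)), (1, (.step [7, 4] (.step [9, 11, 20] (.step [12, 19, 17, 13] .fail)))), (1, (.step [4, 4, 13, 4] .fail)), (1, (.step [4, 7, 13] (.step [10, 13] (.step [13, 14, 13] .fail)))), (1, (.step [4, 8, 7] (.step [10, 20] (.step [12, 18, 12, 18] .fail)))), (1, (.step [7, 4] .fail)), (1, (.step [4, 7, 4, 13] (.step [8, 10, 9, 11] (.step [12, 14, 20] .fail)))), (1, (.step [7, 7] .fail)), (1, (.step [4, 6, 8, 12] (.step [11] (.step [12, 15, 20] .fail)))), (1, (.step [4, 6, 6, 13] .fail)), (1, (.step [4, 4, 6, 12] .fail)), (1, (.step [5, 7, 13] .fail)), (1, (.step [4, 9, 5, 7] (.step [8, 11, 8, 11] .fail))), (1, (.step [6, 13, 4] (.step [8, 11, 8, 11] (.step [12, 16, 16] (.step [14, 16, 15] .fail))))), (1, (.step [5, 13, 6] .fail)), (1, (.step [4, 13, 6, 13]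 .fail)), (1, (.step [7, 4, 4, 4] (.step [11, 20, 14] .fail))), (1, (.step [6, 5, 5, 6] .fail)), (1, (.step [4, 8, 4, 8] (.step [10, 14, 11] (.step [13, 17, 12] .fail)))), (1, (.step [4, 9, 5] .fail)), (1, (.step [7, 4] (.step [9, 11, 20] (.step [12, 19, 17, 13] .fail)))), (1, (.step [4, 4, 13, 4] .fail)), (1, (.step [4, 8, 4, 8] (.step [8, 20, 9] (.step [12, 12, 15, 13] .fail)))), (1, (.step [7, 8] (.step [11, 9, 20] (.step [13, 19, 13] .fail)))), (1, (.step [4, 6, 4, 7] .fail)), (1, (.step [4, 6, 5, 13] (.step [11, 12] (.step [12, 12, 12, 17] (.step [14, 14, 16] .fail))))), (1, (.step [4, 7, 4, 13] (.step [8, 10, 9, 11] (.step [12, 14, 20] .fail)))), (1, (.step [5, 7, 13] .fail)), (1, (.step [4, 6, 8, 12] (.step [11] (.step [12, 15, 20] .fail)))), (1, (.step [4, 8, 12, 6] (.step [8, 13, 15] (.step [12, 12, 12, 20] (.step [15, 18] .fail))))), (1, (.step [4, 6, 6, 13] .fail)), (1, (.step [4, 7, 7, 4] (.step [8, 10, 12] .fail))),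 (1, (.step [4, 4, 6, 12] .fail)), (1, (.step [4, 6, 6] .fail)), (1, (.step [5, 6, 5] .fail)), (1, (.step [4, 9, 5, 7] (.step [8, 11, 8, 11] .fail))), (1, (.step [6, 13, 4] (.step [8, 11, 8, 11] (.step [12, 16, 16] (.step [14, 16, 15] .fail))))), (1, (.step [7, 7, 7] .fail)), (1, (.step [7, 4] .fail)), (1, (.step [4, 13, 6, 13] .fail)), (1, (.step [7, 4, 4, 4] (.step [11, 20, 14] .fail))), (1, (.step [4, 9, 5, 7] .fail)), (1, (.step [6, 5, 5, 6] .fail)), (1, (.step [4, 8, 4, 8] (.step [10, 14, 11] (.step [13, 17, 12] .fail)))), (1, (.step [4, 8, 5, 6] .fail)), (1, (.step [4, 9, 5] .fail)), (1, (.step [7, 4] (.step [9, 11, 20] (.step [12, 19, 17, 13] .fail)))), (1, (.step [4, 7, 5] (.step [8, 14, 10] .fail))), (1, (.step [5, 12, 8] .fail)), (1, (.step [4, 8, 4, 8] (.step [8, 20, 9] (.step [12, 12, 15, 13] .fail)))), (1, (.step [7, 8] (.step [11, 9, 20] (.step [13, 19, 13] .fail)))), (1, (.step [4, 7, 9, 6] .fail)), (1, (.step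 [5, 8, 12, 4] .fail)), (1, (.step [4, 6, 4, 7] .fail)), (1, (.step [4, 6, 5, 13] (.step [11, 12] (.step [12, 12, 12, 17] (.step [14, 14, 16] .fail))))), (1, (.step [7, 4] (.step [9, 11, 20] (.step [12, 19, 17, 13] .fail)))), (1, (.step [4, 7, 13, 8] (.step [10, 14, 12] (.step [12, 14, 12] .fail)))), (1, (.step [4, 9, 4, 6] (.step [10, 20, 13] (.step [12, 14, 16] .fail)))), (1, (.step [5, 7, 13] .fail)), (1, (.step [4, 4, 4] (.step [8, 8, 14] (.step [13, 14, 13] .fail)))), (1, (.step [4, 8, 12, 6] (.step [8, 13, 15] (.step [12, 12, 12, 20] (.step [15, 18] .fail))))), (1, (.step [4, 7, 5, 12] (.step [8, 11] (.step [13, 19, 13] (.step [16, 16] .fail))))), (1, (.step [7, 8, 6] .fail)), (1, (.step [5, 13, 7] .fail)), (1, (.step [4, 8, 5, 6] (.step [9, 10, 20, 15] .fail))), (1, (.step [6, 5, 13] .fail)), (1, (.step [6, 12, 12] .fail)), (1, (.step [6, 5, 8] .fail)), (1, (.step [5, 5, 5, 13] .fail)), (1, (.step [4, 4, 6, 13] (.step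 [8, 10, 15] .fail))), (1, (.step [6, 13, 4] (.step [8, 11, 8, 11] (.step [12, 16, 16] (.step [14, 16, 15] .fail))))), (1, (.step [7] .fail)), (1, (.step [4, 4, 13, 8] .fail)), (1, (.step [5, 5, 7, 12] .fail)), (1, (.step [4, 7, 4, 13] .fail)), (1, (.step [7, 4, 4, 4] (.step [11, 20, 14] .fail))), (1, (.step [4, 13, 7, 12] (.step [10, 15, 9] .fail))), (1, (.step [7, 8, 12] (.step [8, 15] .fail))), (1, (.step [6, 6, 12] .fail)), (1, (.step [4, 9, 5] .fail)), (1, (.step [5, 9, 7, 8] .fail)), (1, (.step [4, 8, 4, 8] (.step [10, 14, 11] (.step [13, 17, 12] .fail)))), (1, (.step [7, 7] .fail)), (1, (.step [6, 12, 5] .fail)), (1, (.step [4, 9, 5] .fail)), (1, (.step [4, 7, 7, 7] (.step [11, 20, 8] (.step [12] .fail)))), (1, (.step [4, 7, 5] (.step [8, 14, 10] .fail))), (1, (.step [4, 7, 5, 9] (.step [9, 13, 9] (.step [12, 12, 12, 12] (.step [17, 17] .fail))))), (1, (.step [5, 12, 8] .fail)), (1, (.step [4, 8, 4, 8] (.step [8,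 20, 9] (.step [12, 12, 15, 13] .fail)))), (1, (.step [6, 12, 4] (.step [8, 10, 14, 9] (.step [12, 12, 12] .fail)))), (1, (.step [5, 9, 13, 7] .fail)), (1, (.step [4, 8, 4] .fail)), (1, (.step [5, 8, 12, 4] .fail)), (1, (.step [6, 5, 6] (.step [10, 15] .fail))), (1, (.step [6, 5, 5] .fail)), (1, (.step [4, 7] .fail)), (1, (.step [5, 6, 5, 12] (.step [8, 13, 20] (.step [12, 12, 12, 20] (.step [16, 14, 14] .fail))))), (1, (.step [7, 4] (.step [9, 11, 20] (.step [12, 19, 17, 13] .fail)))), (1, (.step [4, 7, 13] (.step [10, 13] (.step [13, 14, 13] .fail)))), (1, (.step [4, 6, 9] (.step [8, 8, 20] (.step [13, 14] .fail)))), (1, (.step [4, 6, 6, 13] .fail)), (1, (.step [5, 7, 13] .fail)), (1, (.step [4, 4, 4] (.step [8, 8, 14] (.step [13, 14, 13] .fail)))), (1, (.step [4, 6, 5, 13] (.step [11, 12] (.step [12, 12, 12, 17] (.step [14, 14, 16] .fail))))), (1, (.step [4, 13, 13, 5] (.step [9, 12, 15] (.step [12, 18, 16, 15] (.step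 [15, 18, 14] .fail))))), (1, (.step [6, 8] (.step [10, 13, 11] .fail))), (1, (.step [7, 4] .fail)), (1, (.step [5, 5, 7, 12] .fail)), (1, (.step [5, 13, 7] .fail)), (1, (.step [4, 8, 5, 6] (.step [9, 10, 20, 15] .fail))), (1, (.step [6, 8, 6] .fail)), (1, (.step [4, 7, 5, 12] (.step [8, 11] (.step [13, 19, 13] (.step [16, 16] .fail))))), (1, (.step [4, 7] .fail)), (2, (.step [5, 5, 5, 13] .fail)), (1, (.step [4, 4, 6, 13] (.step [8, 10, 15] .fail))), (1, (.step [7, 8, 13] (.step [8, 13, 8] .fail))), (1, (.step [4, 6, 12] .fail)), (1, (.step [6, 13, 4] (.step [8, 11, 8, 11] (.step [12, 16, 16] (.step [14, 16, 15] .fail))))), (1, (.step [4, 8, 6, 12] .fail)), (1, (.step [7] .fail)), (1, (.step [4, 6, 6, 13] .fail)), (1, (.step [4, 13, 8, 6] (.step [9, 14, 8] .fail))), (1, (.step [5, 5, 7, 12] .fail)), (1, (.step [7, 12, 8] (.step [8, 14, 10] .fail))), (1, (.step [4, 7, 13] .fail)), (1, (.step [7, 4, 4, 4] (.step [11, 20,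 14] .fail))), (1, (.step [4, 13, 7, 12] (.step [10, 15, 9] .fail))), (1, (.step [7, 8, 12] (.step [8, 15] .fail))), (2, (.step [6, 6, 12] .fail)), (1, (.step [7, 7, 7] (.step [8, 20] .fail))), (1, (.step [6, 13, 6] .fail)), (1, (.step [6, 6, 9] (.step [8, 11, 12, 14] (.step [12, 15] .fail)))), (1, (.step [4, 8, 12, 5] .fail)), (1, (.step [6, 6, 12] .fail)), (1, (.step [4, 8, 6] .fail)), (1, (.step [4, 7, 9, 6] .fail)), (1, (.step [4, 7, 7, 7] (.step [11, 20, 8] (.step [12] .fail)))), (1, (.step [4, 7, 5, 12] .fail)), (1, (.step [4, 7, 5] (.step [8, 14, 10] .fail))), (1, (.step [4, 7, 5, 9] (.step [9, 13, 9] (.step [12, 12, 12, 12] (.step [17, 17] .fail))))), (1, (.step [4, 13, 6, 13] .fail)), (1, (.step [6, 4, 4] (.step [8, 20, 11] (.step [12, 12] .fail)))), (1, (.step [4, 6, 5, 13, 4] (.step [8, 20, 15] (.step [12, 12, 12, 19] .fail)))), (1, (.step [5, 6] .fail)), (1, (.step [5, 13] .fail)), (1, (.step [4, 6, 8] .fail)),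 (1, (.step [5, 8, 12, 4] (.step [8, 11] .fail))), (1, (.step [5, 8, 12, 4] .fail)), (1, (.step [4, 9, 7] .fail)), (1, (.step [6, 5, 6] (.step [10, 15] .fail))), (1, (.step [6, 5, 5] .fail)), (1, (.step [7, 4, 4, 4] .fail)), (1, (.step [4, 8, 7] (.step [10, 20] (.step [12, 18, 12, 18] .fail)))), (1, (.step [4, 7, 13, 13, 13] .fail)), (1, (.step [6, 4] .fail)), (1, (.step [6, 13, 4] (.step [8, 11, 8, 11] (.step [12, 16, 16] (.step [14, 16, 15] .fail))))), (1, (.step [7, 4] (.step [9, 11, 20] (.step [12, 19, 17, 13] .fail)))), (1, (.step [4, 7, 13] (.step [10, 13] (.step [13, 14, 13] .fail)))), (1, (.step [6, 13, 4, 7] (.step [8, 11, 15] (.step [12, 16, 19, 13] .fail)))), (1, (.step [4, 9, 5, 7] (.step [8] (.step [12, 12, 12, 19] .fail)))), (1, (.step [4, 6, 6, 13] .fail)), (1, (.step [5, 7, 13] .fail)), (1, (.step [4, 8, 8, 13] .fail)), (1, (.step [4, 7, 7, 12] (.step [9, 13] (.step [12, 15, 12, 16] .fail)))), (1, (.step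 [4, 6, 5, 13] (.step [11, 12] (.step [12, 12, 12, 17] (.step [14, 14, 16] .fail))))), (1, (.step [4, 13, 13, 5] (.step [9, 12, 15] (.step [12, 18, 16, 15] (.step [15, 18, 14] .fail))))), (1, (.step [6, 8] (.step [10, 13, 11] .fail))), (1, (.step [4, 8, 12, 5] .fail)), (1, (.step [7, 4] .fail)), (1, (.step [5, 5, 7, 12] .fail)), (1, (.step [5, 13, 7] .fail)), (1, (.step [4, 7, 5] (.step [8, 14, 10] .fail))), (1, (.step [4, 7, 9, 6] .fail)), (1, (.step [6, 4] .fail)), (1, (.step [4, 7, 13, 8] (.step [10, 14, 12] (.step [12, 14, 12] .fail)))), (1, (.step [5, 8, 5] (.step [10, 15] (.step [13, 15, 12] .fail)))), (1, (.step [4, 7, 5, 12] (.step [8, 11] (.step [13, 19, 13] (.step [16, 16] .fail))))), (1, (.step [] .fail)), (2, (.step [5, 5, 5, 13] .fail)), (1, (.step [4, 6, 6, 13] (.step [10, 14, 20] .fail))), (1, (.step [7, 8, 12] (.step [8, 15] .fail))), (1, (.step [5, 9, 7, 8] .fail)), (1, (.step [4, 6, 13] .fail)), (1, (.step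 [6, 13, 4] (.step [8, 11, 8, 11] (.step [12, 16, 16] (.step [14, 16, 15] .fail))))), (1, (.step [4, 8, 4] .fail)), (1, (.step [6, 5, 6] (.step [10, 15] .fail))), (1, (.step [6, 5, 5] .fail)), (1, (.step [4, 6, 6, 13] .fail)), (1, (.step [4, 13, 8, 6] (.step [9, 14, 8] .fail))), (1, (.step [5, 5, 7, 12] .fail)), (1, (.step [4, 7, 5, 9] (.step [9, 13, 9] (.step [12, 12, 12, 12] (.step [17, 17] .fail))))), (1, (.step [7, 8, 13] (.step [8, 13, 8] .fail))), (1, (.step [4, 4, 7, 13] .fail)), (1, (.step [6, 6, 4] .fail)), (1, (.step [6, 8, 7, 12] (.step [11, 15, 10] .fail))), (1, (.step [7, 12, 8] (.step [8, 14, 10] .fail))), (1, (.step [6, 5, 13] (.step [11, 9, 20] .fail))), (1, (.step [6, 6, 12] .fail)), (1, (.step [4, 7, 5, 12] .fail)), (1, (.step [5, 13] .fail)), (1, (.step [7, 7, 7] (.step [8, 20] .fail))), (1, (.step [6, 13, 6] .fail)), (1, (.step [6, 6, 9] (.step [8, 11, 12, 14] (.step [12, 15] .fail)))), (1, (.step [4,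 9] .fail)), (1, (.step [6, 4] .fail)), (1, (.step [6, 13, 4, 7] (.step [8, 11, 15] (.step [12, 16, 19, 13] .fail)))), (1, (.step [6, 6, 12] .fail)), (1, (.step [4, 8, 12, 5] .fail)), (1, (.step [4, 7, 9, 6] .fail)), (1, (.step [4, 7, 13, 8] (.step [10, 14, 12] (.step [12, 14, 12] .fail)))), (1, (.step [5, 8, 5] (.step [10, 15] (.step [13, 15, 12] .fail)))), (1, (.step [4, 7, 5, 12] .fail)), (1, (.step [6, 5, 6] (.step [10, 15] .fail))), (1, (.step [4, 7, 5, 9] (.step [9, 13, 9] (.step [12, 12, 12, 12] (.step [17, 17] .fail))))), (1, (.step [6, 6, 4] .fail)), (1, (.step [4, 7, 5, 12] .fail)), (1, (.step [5, 13] .fail)), (1, (.step [6, 4, 4] (.step [8, 20, 11] (.step [12, 12] .fail)))), (1, (.step [4, 7, 4, 13] (.step [9, 13] (.step [12, 15, 17, 17] .fail)))), (1, (.step [5, 7, 13] .fail)), (1, (.step [5, 13] .fail))])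

/-- the pieces of a certificate -/
noncomputable def pcsT2 : List (List (List ℕ) × Cert) := [(UA_0, cT2_0)]

/-- a piece of a certificate -/
noncomputable def cCh_0 : Cert := (Cert.rl [(4, (.badPow 4 1)), (1, (Cert.rl [(1, (.step [] (.step [] (.step [] (.step [] (.done [])))))), (1, (.step [27, 37] (.step [31, 31, 37] (.step [37, 41, 39] (.step [41, 42, 41] (.done [41, 42, 41, 37, 41, 39, 31, 31, 37, 27, 37, 24, 37, 25])))))), (1, (.step [27, 37, 30] (.step [33, 39] (.step [37] (.step [] (.done [37, 33, 39, 27, 37, 30, 23, 27, 23])))))), (1, (.step [29, 28, 33] (.step [32, 35] (.step [36, 40, 38] (.step [] (.done [36, 40, 38, 32, 35, 29, 28, 33, 24, 34])))))), (1, (.step [29, 27, 38] (.step [31, 31, 36] (.step [36, 40] .fail)))), (1, (.step [27, 35, 41] (.step [34, 39] (.step [38, 36] .fail)))), (1, (.step [27, 27] (.step [33, 37, 34] (.step [39] .fail)))), (1, (.step [27, 27, 42, 33] (.step [31, 35, 32] (.step [40, 38]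 .fail)))), (1, (.step [27, 36, 42] (.step [31, 39, 35] (.step [35, 40, 38, 41] (.step [41, 42, 41] (.done [41, 42, 41, 35, 40, 38, 41, 31, 39, 35, 27, 36, 42, 23, 33, 24])))))), (1, (.step [28, 41, 38] (.step [32, 38, 36] (.step [36, 39, 41] .fail)))), (1, (.step [28, 41] (.step [32, 38, 36] (.step [40, 38] (.step [42, 41] (.done [42, 41, 40, 38, 32, 38, 36, 28, 41, 24, 28, 33])))))), (1, (.step [29, 28, 30] (.step [32, 41] (.step [37, 39, 37] .fail)))), (1, (.step [27, 29, 29] (.step [31, 35, 41] (.step [35, 37, 36] .fail)))), (1, (.step [29, 29] (.step [31, 37, 40] (.step [39, 35, 38] (.step [41, 42] (.done [41, 42, 39, 35, 38, 31, 37, 40, 29, 29, 23, 27, 36])))))), (1, (.step [29, 35, 28] (.step [32, 38, 36] (.step [35, 37, 40] (.step [41] (.done [41, 35, 37, 40, 32, 38, 36, 29, 35, 28, 23, 25, 23, 27])))))), (1, (.step [27, 35, 30] (.step [34, 35] (.step [35] .fail)))), (1, (.step [28, 28, 34] (.step [] (.step [35,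 41, 39] .fail)))), (1, (.step [30, 28] (.step [32, 38] (.step [37, 39, 42] (.step [41] (.done [41, 37, 39, 42, 32, 38, 30, 28, 23, 28, 37])))))), (1, (.step [27, 34, 34, 30] (.step [31, 39, 32] (.step [40, 36, 42] (.step [41, 42, 41] (.done [41, 42, 41, 40, 36, 42, 31, 39, 32, 27, 34, 34, 30, 25, 24, 27])))))), (1, (.step [27, 35, 33] (.step [31, 31, 33] (.step [37, 41, 39] .fail)))), (1, (.step [27, 29, 27, 41] (.step [33, 38, 42] (.step [38, 36] (.step [41, 42] (.done [41, 42, 38, 36, 33, 38, 42, 27, 29, 27, 41, 24, 26, 28])))))), (1, (.step [28, 28] (.step [34] (.step [40] .fail)))), (1, (.step [27, 42, 33] .fail)), (1, (.step [30] .fail)), (1, .fail), (1, (.step [28, 41] .fail)), (1, (.step [28, 30, 28] .fail)), (1, (.step [27, 33] .fail)), (1, .fail), (1, (.step [27, 29, 29] (.step [33] .fail))), (1, (.step [28, 38] .fail)), (1, .fail), (1, (.step [27, 27, 33] .fail)), (2, .fail), (1, (.step [27, 33, 36] (.step [32,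 35, 31] .fail))), (1, (.step [27, 29, 36] (.step [33, 41, 39] (.step [35, 40, 38] .fail)))), (3, .fail), (1, (.step [29, 28, 28] .fail)), (1, .fail), (1, (.step [28, 35] .fail)), (1, (.step [27, 27, 34] .fail)), (2, .fail), (1, (.step [27, 35, 27] (.step [33, 32] .fail))), (1, .fail), (1, (.step [28, 29] .fail)), (1, (.step [30, 28] (.step [32, 36] (.step [35, 37, 42, 39] .fail)))), (1, (.step [28, 33, 41] (.step [32, 37] (.step [35, 37, 36, 40] .fail)))), (1, (.step [28, 35] .fail)), (1, (.step [27, 35, 42] (.step [34, 31, 42] (.step [36, 40, 38] .fail)))), (1, .fail), (1, (.step [27, 30, 37] .fail)), (1, (.step [28, 41] (.step [32, 42, 34] (.step [36, 42] .fail)))), (1, .fail), (1, (.step [28, 35] .fail)), (1, (.step [27, 27] (.step [33, 41, 39] (.step [35, 37, 36, 40] .fail)))), (1, (.step [29, 29, 29] (.step [31, 38, 40] (.step [37, 35, 40] (.step [] (.done [37, 35, 40, 31, 38, 40, 29, 29, 29, 23, 42, 24])))))), (1,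 .fail), (1, (.step [29, 42, 28] (.step [32, 33, 39] (.step [40, 38] (.step [42, 41] (.done [42, 41, 40, 38, 32, 33, 39, 29, 42, 28, 23, 23, 28])))))), (1, (.step [27, 29, 38] (.step [31, 34, 34] (.step [38, 36, 39] .fail)))), (1, (.step [29, 27, 27] (.step [31, 35] (.step [38, 39] (.step [42, 41] (.done [42, 41, 38, 39, 31, 35, 29, 27, 27, 25, 35, 37])))))), (1, (.step [27, 29, 29] .fail)), (1, (.step [27, 30, 38] (.step [33, 38] (.step [35, 37, 40, 36] (.step [42] (.done [42, 35, 37, 40, 36, 33, 38, 27, 30, 38, 25, 25, 36])))))), (1, (.step [30, 35] (.step [31, 34, 31] (.step [39, 37] (.step [41, 42, 41] (.done [41, 42, 41, 39, 37, 31, 34, 31, 30, 35, 24, 24, 36])))))), (1, (.step [27, 27, 35] .fail)), (1, (.step [27, 29, 27] (.step [32, 33, 42] (.step [37, 35] (.step [] (.done [37, 35, 32, 33, 42, 27, 29, 27, 23, 33, 23])))))), (1, .fail), (1, (.step [28, 30, 37] (.step [32, 32] (.step [35, 37, 36, 40] .fail)))), (1,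 (.step [28, 35, 29] (.step [31, 37, 39] (.step [40] (.step [42] (.done [42, 40, 31, 37, 39, 28, 35, 29, 23, 34, 23])))))), (1, (.step [27, 27, 29, 34] .fail)), (1, (.step [27, 33, 41] .fail)), (1, .fail), (1, (.step [30, 28] .fail)), (3, .fail), (1, (.step [28, 36] (.step [31, 35, 37] (.step [39] .fail)))), (1, (.step [28, 37, 27] .fail)), (3, .fail), (1, (.step [27, 36] (.step [31, 41, 31] (.step [37, 39, 37] .fail)))), (1, (.step [27, 27, 29] .fail)), (4, .fail), (1, (.step [30, 34] .fail)), (1, (.step [29, 28] .fail)), (1, (.step [28, 30, 27] .fail)), (1, .fail), (1, (.step [27, 29, 33] .fail)), (1, (.step [28, 28, 35] .fail)), (1, (.step [27, 27, 37] .fail)), (1, .fail), (1, (.step [27, 42, 27] .fail)), (1, (.step [29, 33, 30] (.step [31, 34, 35] (.step [35, 37, 42, 39] (.step [41] (.done [41, 35, 37, 42, 39, 31, 34, 35, 29, 33, 30, 25, 42])))))), (5, .fail), (1, (.step [28, 28, 30] (.step [31, 37, 39] .fail))), (1,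 .fail), (1, (.step [29, 29, 29] (.step [31, 33] (.step [35, 37, 40, 36] .fail)))), (4, .fail), (1, (.step [29, 28, 30] .fail)), (5, .fail), (1, (.step [30, 42] (.step [32, 37, 34] (.step [37, 35, 40] .fail)))), (1, .fail), (1, (.step [27, 34, 34] (.step [32, 35] .fail))), (1, (.step [27, 33] (.step [33, 32] (.step [35, 37, 36] .fail)))), (1, (.step [27, 42, 35] (.step [32] (.step [35, 39, 37] .fail)))), (1, (.step [27, 34] .fail)), (5, .fail), (1, (.step [29, 37, 29] (.step [33, 38] (.step [36, 40, 38] (.step [41, 42, 41] (.done [41, 42, 41, 36, 40, 38, 33, 38, 29, 37, 29, 23, 25, 36])))))), (1, (.step [28, 33, 36] (.step [33, 39, 39] (.step [39, 37] .fail)))), (1, (.step [27, 35, 30] .fail)), (1, (.step [27, 27, 34, 38] .fail)), (1, (.step [27, 27, 34, 27] (.step [31, 31, 35] .fail))), (2, .fail), (1, (.step [] (.step [31, 31, 33] .fail))), (1, (.step [27, 42, 28] .fail)), (1, (.step [28, 37, 27] .fail)), (1, (.step [29,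 28, 33] (.step [31, 36, 42] (.step [35, 37, 42, 39] .fail)))), (1, (.step [27, 27, 33, 37] .fail)), (1, (.step [27, 30, 38] (.step [31, 41, 40] (.step [35, 41, 38] .fail)))), (1, (.step [28, 29] (.step [31, 33, 35] .fail))), (1, (.step [27, 29, 41] (.step [33, 38, 42] .fail))), (1, (.step [28, 41] (.step [31, 38, 39] .fail))), (1, (.step [27, 27, 34] .fail)), (1, .fail), (1, (.step [27, 38, 33] .fail)), (1, (.step [27, 34, 29] .fail)), (1, (.step [27, 27] (.step [33, 39] .fail))), (1, (.step [27, 27, 34, 38] .fail)), (1, .fail), (1, (.step [28, 36, 30] (.step [33] .fail))), (2, .fail), (1, (.step [29, 37, 29] (.step [32, 38] (.step [37, 35, 38] .fail)))), (1, .fail), (1, (.step [28, 37, 29] .fail)), (2, .fail), (1, (.step [28, 37, 41] (.step [32, 34] (.step [39, 35, 41] .fail)))), (1, .fail), (1, (.step [27, 34, 29] .fail)), (2, .fail), (1, (.step [27, 33] (.step [31, 36, 42] (.step [36, 42, 39] .fail)))), (1, (.step [28,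 37] .fail)), (1, (.step [28, 41] (.step [33, 31, 34] (.step [38, 39] (.step [] (.done [43])))))), (1, (.step [27, 34, 36] .fail)), (1, (.step [28, 30, 36] (.step [31, 35, 41] (.step [35, 37, 42, 39] .fail)))), (1, (.step [27, 36] (.step [31, 41, 36] .fail))), (1, .fail), (1, (.step [29, 41] (.step [32, 35, 31] (.step [40] .fail)))), (1, .fail), (1, (.step [29, 28, 37] (.step [31, 37, 39] .fail))), (2, .fail), (1, (.step [27, 30, 28] .fail)), (1, .fail), (1, (.step [27, 27, 38] (.step [33, 32, 34] (.step [35, 42, 40] .fail)))), (1, (.step [27, 27, 37] (.step [32, 35, 31] (.step [35, 37, 42, 39] .fail)))), (1, (.step [27, 27, 29, 34] (.step [34, 31] (.step [39] .fail)))), (2, .fail), (1, (.step [27, 27, 42] (.step [31, 36] (.step [40, 36, 37] .fail)))), (3, .fail), (1, (.step [27, 29] .fail)), (1, .fail), (1, (.step [28, 28, 36] .fail)), (1, (.step [27, 34, 29] .fail)), (1, (.step [27, 35, 42] (.step [32, 41, 34] (.step [40,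 38] .fail)))), (1, .fail), (1, (.step [27, 33, 37, 36] (.step [33, 37, 34] (.step [36] .fail)))), (2, .fail), (1, (.step [28, 36, 42] .fail)), (1, .fail), (1, (.step [27, 34, 29] (.step [32, 33, 42] (.step [38] .fail)))), (1, (.step [27, 33, 36] (.step [31, 31, 33] .fail))), (1, .fail), (1, (.step [28, 30, 36] .fail)), (2, .fail), (1, (.step [30, 37, 29] .fail)), (1, (.step [29, 35, 27] .fail)), (2, .fail), (1, (.step [27, 35, 30] (.step [31, 33] (.step [36, 40, 38] .fail)))), (1, (.step [30, 42] .fail)), (1, .fail), (1, (.step [27, 36] (.step [32, 38, 32] .fail))), (4, .fail), (1, (.step [27, 27, 42] .fail)), (1, .fail), (1, (.step [27, 34, 36] (.step [31, 37, 35] (.step [37, 41] .fail)))), (1, (.step [27, 27, 42] (.step [33, 41, 31] (.step [37, 40] .fail)))), (2, .fail), (1, (.step [27, 29, 38] .fail)), (1, (.step [27, 29, 36] .fail)), (1, (.step [29, 28, 33] (.step [32, 33, 41] (.step [39, 35, 38] (.step [41, 42] (.done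 [41, 42, 39, 35, 38, 32, 33, 41, 29, 28, 33, 23, 33, 33])))))), (4, .fail), (1, (.step [27, 33, 37] (.step [31, 41] (.step [40] .fail)))), (1, (.step [29, 42, 28] (.step [31, 35, 40] .fail))), (2, .fail), (1, (.step [27, 36] (.step [31, 31, 36] .fail))), (1, (.step [27, 42] (.step [31, 33, 31] (.step [37, 39, 37] .fail)))), (1, (.step [27, 36, 38] (.step [32, 39] (.step [35, 42, 40] .fail)))), (1, .fail), (1, (.step [27, 30, 37] (.step [31, 36, 42] (.step [35, 42, 39] .fail)))), (1, .fail), (1, (.step [27, 30, 35] (.step [31, 40, 40] (.step [35, 42, 39] .fail)))), (1, (.step [27, 27] (.step [31, 36, 32] .fail))), (1, .fail), (1, (.step [27, 30, 35] .fail)), (1, (.step [27, 37, 33] .fail)), (1, .fail), (1, (.step [27, 29, 36] .fail)), (1, (.step [30, 34] .fail)), (1, (.step [27, 33] (.step [31, 37, 40] (.step [] .fail)))), (1, (.step [29, 27, 30] .fail)), (1, (.step [28, 35] .fail)), (1, (.step [27] (.step [32, 35, 31] .fail))),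 (1, (.step [28, 34] (.step [32, 42, 41] .fail))), (1, (.step [27, 38, 27] (.step [31, 40, 40] (.step [35, 42] .fail)))), (1, (.step [28, 28, 41] (.step [31, 31, 36] (.step [35, 40, 41] .fail)))), (3, .fail), (1, (.step [27, 38] .fail)), (1, .fail), (1, (.step [27, 36] .fail)), (1, (.step [27, 35, 33] .fail)), (2, .fail), (1, (.step [27, 35, 41] (.step [31] (.step [35, 41] .fail)))), (1, (.step [27, 35, 41] .fail)), (1, (.step [27, 36] (.step [34, 39] (.step [39, 35, 42] .fail)))), (4, .fail), (1, (.step [29, 33, 30] .fail)), (1, (.step [27, 42, 35] (.step [31, 37] .fail))), (1, (.step [27, 29, 38, 29] (.step [31, 31, 36] (.step [37, 39, 37] .fail)))), (1, (.step [29, 42, 30] (.step [31, 39, 34] (.step [38] .fail))))])), (271, (.badPow 4 1))])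

/-- the pieces of a certificate -/
noncomputable def pcsCh : List (List (List ℕ) × Cert) := [(UB_0, cCh_0)]

/-- the old letters as words in good letters -/
def Wl : List (List ℕ) := [
[61, 64, 61, 58, 58, 54, 52, 49, 58, 47, 54, 47, 43, 1, 21], [1], [61, 64, 61, 57, 59, 64, 53, 57, 62, 51, 59, 45, 45, 47, 47, 1, 44, 1, 1, 21],
[3]]

/-- the relators -/
def relL : List (List ℕ) := [
[0, 2, 2, 0, 2, 2, 0, 2, 2, 0, 2, 2, 0, 2, 2, 0, 2, 2, 0, 2, 2, 0, 2, 2, 0, 2, 2, 0, 2, 2, 0, 2, 2],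
[0, 2, 0, 2, 0, 2, 0, 2, 0, 2, 0, 2, 0, 2, 0, 2, 0, 2, 0, 2, 0, 2, 0, 2, 0, 2, 0, 2, 0, 2, 0, 2, 0, 2, 0, 2, 0, 2, 0, 2],
[0, 1, 1, 2, 0, 1, 1, 2, 0, 1, 1, 2, 0, 1, 1, 2, 0, 1, 1, 2, 0, 1, 1, 2, 0, 1, 1, 2, 0, 1, 1, 2, 0, 1, 1, 2, 0, 1, 1, 2, 0, 1, 1, 2]]

/-- the candidates for the image of the third generator -/
def candL : List (List ℕ) := [
[], [41, 42, 41, 37, 41, 39, 31, 31, 37, 27, 37, 24, 37, 25], [37, 33, 39, 27, 37, 30, 23, 27, 23], [36, 40, 38, 32, 35, 29, 28, 33, 24, 34],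
[41, 42, 41, 35, 40, 38, 41, 31, 39, 35, 27, 36, 42, 23, 33, 24], [42, 41, 40, 38, 32, 38, 36, 28, 41, 24, 28, 33], [41, 42, 39, 35, 38, 31, 37, 40, 29, 29, 23, 27, 36], [41, 35, 37, 40, 32, 38, 36, 29, 35, 28, 23, 25, 23, 27],
[41, 37, 39, 42, 32, 38, 30, 28, 23, 28, 37], [41, 42, 41, 40, 36, 42, 31, 39, 32, 27, 34, 34, 30, 25, 24, 27], [41, 42, 38, 36, 33, 38, 42, 27, 29, 27, 41, 24, 26, 28], [37, 35, 40, 31, 38, 40, 29, 29, 29, 23, 42, 24],
[42, 41, 40, 38, 32, 33, 39, 29, 42, 28, 23, 23, 28], [42, 41, 38, 39, 31, 35, 29, 27, 27, 25, 35, 37], [42, 35, 37, 40, 36, 33, 38, 27, 30, 38, 25, 25, 36], [41, 42, 41, 39, 37, 31, 34, 31, 30, 35, 24, 24, 36],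
[37, 35, 32, 33, 42, 27, 29, 27, 23, 33, 23], [42, 40, 31, 37, 39, 28, 35, 29, 23, 34, 23], [41, 35, 37, 42, 39, 31, 34, 35, 29, 33, 30, 25, 42], [41, 42, 41, 36, 40, 38, 33, 38, 29, 37, 29, 23, 25, 36],
[43], [41, 42, 39, 35, 38, 32, 33, 41, 29, 28, 33, 23, 33, 33]]

/-- the fate of the candidates, for the exponent 1: kept, or a relator and a point -/
def elim1 : List (List ℕ × ℕ × ℕ × ℕ) := [([], 0, 0, 0),
  ([41, 42, 41, 37, 41, 39, 31, 31, 37, 27, 37, 24, 37, 25], 0, 1, 0),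
  ([37, 33, 39, 27, 37, 30, 23, 27, 23], 0, 1, 0),
  ([36, 40, 38, 32, 35, 29, 28, 33, 24, 34], 0, 1, 0),
  ([41, 42, 41, 35, 40, 38, 41, 31, 39, 35, 27, 36, 42, 23, 33, 24], 0, 1, 0),
  ([42, 41, 40, 38, 32, 38, 36, 28, 41, 24, 28, 33], 0, 1, 0),
  ([41, 42, 39, 35, 38, 31, 37, 40, 29, 29, 23, 27, 36], 0, 1, 0),
  ([41, 35, 37, 40, 32, 38, 36, 29, 35, 28, 23, 25, 23, 27], 0, 1, 0),
  ([41, 37, 39, 42, 32, 38, 30, 28, 23, 28, 37], 0, 1, 0),
  ([41, 42, 41, 40, 36, 42, 31, 39, 32, 27, 34, 34, 30, 25, 24, 27], 0, 1, 0),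
  ([41, 42, 38, 36, 33, 38, 42, 27, 29, 27, 41, 24, 26, 28], 0, 1, 0),
  ([37, 35, 40, 31, 38, 40, 29, 29, 29, 23, 42, 24], 0, 2, 0),
  ([42, 41, 40, 38, 32, 33, 39, 29, 42, 28, 23, 23, 28], 0, 1, 0),
  ([42, 41, 38, 39, 31, 35, 29, 27, 27, 25, 35, 37], 0, 1, 0),
  ([42, 35, 37, 40, 36, 33, 38, 27, 30, 38, 25, 25, 36], 0, 1, 0),
  ([41, 42, 41, 39, 37, 31, 34, 31, 30, 35, 24, 24, 36], 0, 2, 0),
  ([37, 35, 32, 33, 42, 27, 29, 27, 23, 33, 23], 0, 1, 0),
  ([42, 40, 31, 37, 39, 28, 35, 29, 23, 34, 23], 0, 1, 0),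
  ([41, 35, 37, 42, 39, 31, 34, 35, 29, 33, 30, 25, 42], 0, 1, 0),
  ([41, 42, 41, 36, 40, 38, 33, 38, 29, 37, 29, 23, 25, 36], 0, 1, 0),
  ([43], 1, 0, 0),
  ([41, 42, 39, 35, 38, 32, 33, 41, 29, 28, 33, 23, 33, 33], 0, 0, 0)]

/-- the fate of the candidates, for the exponent 5: kept, or a relator and a point -/
def elim5 : List (List ℕ × ℕ × ℕ × ℕ) := [([], 0, 0, 0),
  ([41, 42, 41, 37, 41, 39, 31, 31, 37, 27, 37, 24, 37, 25], 0, 1, 0),
  ([37, 33, 39, 27, 37, 30, 23, 27, 23], 0, 1, 0),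
  ([36, 40, 38, 32, 35, 29, 28, 33, 24, 34], 0, 1, 0),
  ([41, 42, 41, 35, 40, 38, 41, 31, 39, 35, 27, 36, 42, 23, 33, 24], 0, 1, 0),
  ([42, 41, 40, 38, 32, 38, 36, 28, 41, 24, 28, 33], 0, 1, 0),
  ([41, 42, 39, 35, 38, 31, 37, 40, 29, 29, 23, 27, 36], 0, 1, 0),
  ([41, 35, 37, 40, 32, 38, 36, 29, 35, 28, 23, 25, 23, 27], 0, 1, 1),
  ([41, 37, 39, 42, 32, 38, 30, 28, 23, 28, 37], 0, 1, 0),
  ([41, 42, 41, 40, 36, 42, 31, 39, 32, 27, 34, 34, 30, 25, 24, 27], 0, 1, 0),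
  ([41, 42, 38, 36, 33, 38, 42, 27, 29, 27, 41, 24, 26, 28], 0, 1, 0),
  ([37, 35, 40, 31, 38, 40, 29, 29, 29, 23, 42, 24], 0, 1, 0),
  ([42, 41, 40, 38, 32, 33, 39, 29, 42, 28, 23, 23, 28], 0, 1, 0),
  ([42, 41, 38, 39, 31, 35, 29, 27, 27, 25, 35, 37], 0, 2, 0),
  ([42, 35, 37, 40, 36, 33, 38, 27, 30, 38, 25, 25, 36], 0, 1, 0),
  ([41, 42, 41, 39, 37, 31, 34, 31, 30, 35, 24, 24, 36], 0, 1, 0),
  ([37, 35, 32, 33, 42, 27, 29, 27, 23, 33, 23], 0, 2, 0),
  ([42, 40, 31, 37, 39, 28, 35, 29, 23, 34, 23], 0, 1, 0),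
  ([41, 35, 37, 42, 39, 31, 34, 35, 29, 33, 30, 25, 42], 0, 1, 0),
  ([41, 42, 41, 36, 40, 38, 33, 38, 29, 37, 29, 23, 25, 36], 0, 2, 0),
  ([43], 0, 1, 1),
  ([41, 42, 39, 35, 38, 32, 33, 41, 29, 28, 33, 23, 33, 33], 0, 0, 0)]

end Cfsg.Agent.Lib.Helper5.Co3Out
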