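import Cfsg.Agent.Lib.Helper1.Co3B8
import Cfsg.Agent.Lib.Helper5.Co3Out2
import Cfsg.Agent.Lib.Helper5.Co3Out3
import Cfsg.Agent.Lib.Helper5.Srch3

set_option autoImplicit false
set_option maxRecDepth 100000

/-! # The third Conway group: the model with more letters, and the two verified stabilizer chains -/

namespace Cfsg.Agent.Lib.Helper5.Co3Out

open Cfsg.Agent.Lib.Helper6.TC Cfsg.Agent.Lib.Helper6.PM Cfsg.Agent.Lib.Helper2.PMS
open Cfsg.Agent.Lib.Helper2.PMC Cfsg.Agent.Lib.Helper5.Chain Cfsg.Agent.Lib.Helper5.Srch
open Cfsg.Agent.Lib.Helper1.Co3B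
set_option Elab.async false

theorem chk_old_0 : chkRange (chkOld co3M.px 276 pm) 0 4 = true := by decide +kernel
theorem chk_old : chkRange (chkOld co3M.px 276 pm) 0 4 = true :=
  chk_old_0

theorem chk_new_0 : chkRange (chkNew 276 4 ds pm) 0 38 = true := by decide +kernel
theorem chk_new_1 : chkRange (chkNew 276 4 ds pm) 38 23 = true := by decide +kernel
theorem chk_new : chkRange (chkNew 276 4 ds pm) 0 61 = true :=
  chkRange_append _ 38 0 23 chk_new_0 (chk_new_1)

theorem chk_slp : chkSLP co3M.px co3M.n co3M.nl ds pm = true :=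
  chkSLP_of_pieces co3M.px 276 4 ds pm chk_old chk_new

/-- the model with the new letters -/
noncomputable def M : PModel := slpModel co3M ds pm chk_slp

theorem card_G : Nat.card M.G = 495766656000 := card_Co3

theorem M_nl : M.nl = 65 := slpModel_nl co3M ds pm chk_slp

theorem chk_inv_0 : chkRange (chkInv1 M iv) 0 65 = true := by decide +kernel
theorem chk_inv : chkRange (chkInv1 M iv) 0 65 = true :=
  chk_inv_0

theorem invMap : InvMap M iv := invMap_of_pieces M iv chk_inv

theorem chk_lvA : chkLevels M [] lvA = true := by decide +kernel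

theorem factsA : ChainFacts M lvA where
  hchk := chk_lvA
  hcard := by
    rw [card_G]
    decide +kernel

theorem chk_msA : chkMasks lvA msA = true := by decide +kernel

theorem chk_lvB : chkLevels M [] lvB = true := by decide +kernel

theorem factsB : ChainFacts M lvB where
  hchk := chk_lvB
  hcard := by
    rw [card_G]
    decide +kernel

theorem chk_msB : chkMasks lvB msB = true := by decide +kernel

end Cfsg.Agent.Lib.Helper5.Co3Out
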