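import Cfsg.Agent.Lib.Helper5.Co3Out6

set_option autoImplicit false
set_option maxRecDepth 100000

/-! # The third Conway group: the centralizer of the element of order 11, generation, elimination -/

namespace Cfsg.Agent.Lib.Helper5.Co3Out

open Cfsg.Spor Cfsg.Agent.Lib.Helper6.TC Cfsg.Agent.Lib.Helper6.PM Cfsg.Agent.Lib.Helper2.PMS
open Cfsg.Agent.Lib.Helper2.PMC Cfsg.Agent.Lib.Helper5.Chain Cfsg.Agent.Lib.Helper2.RigidOut
open Cfsg.Agent.Lib.Helper5.Srch

set_option Elab.async false

/-! ## The centralizer of the element of order 11 -/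

theorem chk_wh : chkW M wh = true := by decide +kernel

theorem chk_srcB : chkSrc M wh [] (LB0 :: lvB') = true := by decide +kernel

theorem chk_Ch_0 : chk M iv wh wh cCh_0 (LB0 :: lvB') msB (some UB_0) [] [] = true := by
  decide +kernel

theorem chk_Ch : ∀ p ∈ pcsCh, chk M iv wh wh p.2 (LB0 :: lvB') msB (some p.1) [] [] = true := by
  intro p hp
  simp only [pcsCh, List.mem_cons, List.not_mem_nil, or_false] at hp
  rw [hp]
  exact chk_Ch_0

theorem leaves_Ch : (pcsCh.all fun p => (leaves p.2).all fun z => candL.contains z) = true := by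
  decide +kernel

theorem centralizer_gh (g : M.G) (hg : g⁻¹ * gh * g = gh) : ∃ z ∈ candL, g = M.elt z := by
  obtain ⟨p, hp, z, hz, hgz⟩ := search_pieces (L := LB0) (lv' := lvB') factsB msB chk_msB iv invMap
    wh wh chk_wh chk_wh chk_srcB rfl pcsCh rfl chk_Ch g hg
  have h1 := leaves_Ch
  rw [List.all_eq_true] at h1
  have h2 := h1 p hp
  rw [List.all_eq_true] at h2
  have h3 := h2 z hz
  rw [List.contains_iff_mem] at h3
  exact ⟨z, h3, hgz⟩

theorem chk_vh : chkBaseL M lvA (invw iv wv ++ wh ++ wv) wh = true := by decide +kernel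

theorem rel_vh : gv⁻¹ * gh * gv = gh := by
  rw [gv_inv]
  unfold gv gh
  rw [← M.elt_append, ← M.elt_append]
  exact factsA.elt_eq_of_chk _ _ chk_vh

/-- the image of the third generator under an automorphism fixing the element of order 11 -/
theorem image_gv (α : MulAut M.G) (hh : α gh = gh) : ∃ z ∈ candL, α gv = M.elt z := by
  apply centralizer_gh
  have := congrArg α rel_vh
  rw [map_mul, map_mul, map_inv, hh] at this
  exact this

/-! ## Elimination by relators -/

/-- the three generators -/
def ws3 : List (List ℕ) := [wp, wh, wv]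

theorem lt_relL : ∀ R ∈ relL, ∀ c ∈ R, c < 3 := by decide

theorem chk_relL : (relL.all fun R => chkBaseL M lvA (expand ws3 R) []) = true := by
  decide +kernel

/-- the test of a candidate: kept, or a relator which does not hold -/
noncomputable def elimOK (ε : ℕ) (t : List ℕ × ℕ × ℕ × ℕ) : Bool :=
  Nat.beq t.2.1 1 || (decide (t.2.2.1 < relL.length) &&
    chkNeAt M (expand [rep ε wp, wh, t.1] (relL.getD t.2.2.1 [])) [] t.2.2.2)

theorem chk_elim1 : (elim1.all (elimOK 1)) = true := by decide +kernel
theorem chk_elim5 : (elim5.all (elimOK 5)) = true := by decide +kernel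

theorem cand_elim1 : elim1.map (fun t => t.1) = candL := by decide +kernel
theorem cand_elim5 : elim5.map (fun t => t.1) = candL := by decide +kernel

/-- an automorphism with given images of the generators: the candidate is kept -/
theorem kept_of_aut (ε : ℕ) (α : MulAut M.G) (hp : α gp = gp ^ ε) (hh : α gh = gh)
    (t : List ℕ × ℕ × ℕ × ℕ) (ht : elimOK ε t = true) (hv : α gv = M.elt t.1) : t.2.1 = 1 := by
  unfold elimOK at ht
  rw [Bool.or_eq_true] at ht
  rcases ht with h2 | h2
  · exact Nat.eq_of_beq_eq_true h2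
  · exfalso
    rw [Bool.and_eq_true, decide_eq_true_eq] at h2
    obtain ⟨hlt, hne⟩ := h2
    set R := relL.getD t.2.2.1 [] with hR
    have hRm : R ∈ relL := by
      rw [hR, List.getD_eq_getElem _ _ hlt]
      exact List.getElem_mem hlt
    have hRl : ∀ c ∈ R, c < ws3.length := lt_relL R hRm
    have hf : ∀ k < ws3.length, α.toMonoidHom (M.elt (ws3.getD k [])) =
        M.elt (([rep ε wp, wh, t.1] : List (List ℕ)).getD k []) := by
      intro k hk
      have hk' : k < 3 := hk
      interval_cases k
      · show α gp = M.elt (rep ε wp)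
        rw [hp, gp_pow]
      · exact hh
      · exact hv
    have h3 := map_elt_expand (M := M) α.toMonoidHom ws3 [rep ε wp, wh, t.1] hf R hRl
    have h4 := chk_relL
    rw [List.all_eq_true] at h4
    rw [factsA.elt_eq_of_chk _ _ (h4 R hRm), M.elt_nil, map_one] at h3
    have h5 := elt_ne_of_chkNeAt (M := M) _ _ _ hne
    rw [M.elt_nil] at h5
    exact h5 h3.symm

/-! ## Generation -/

/-- the letters of the three generators and their inverses -/
def S0 : List ℕ := [1, 3, 21, 22, 43, 44]

theorem iv_wp : invw iv wp = [3] := by decide +kernel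
theorem iv_wh : invw iv wh = [22] := by decide +kernel
theorem iv_wv : invw iv wv = [44] := by decide +kernel

theorem chk_Wl : (Wl.all fun w => w.all fun c => (goodLetters 4 ds S0).contains c) = true := by
  decide +kernel

theorem chk_gen : ((List.range 4).all fun c => chkBaseL M lvA [c] (Wl.getD c [])) = true := by
  decide +kernel

theorem closure_gens : Subgroup.closure ({gp, gh, gv} : Set M.G) = ⊤ := by
  set K := Subgroup.closure ({gp, gh, gv} : Set M.G) with hK
  have hp : gp ∈ K := Subgroup.subset_closure (Set.mem_insert _ _)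
  have hh : gh ∈ K := Subgroup.subset_closure (Set.mem_insert_of_mem _ (Set.mem_insert _ _))
  have hv : gv ∈ K :=
    Subgroup.subset_closure (Set.mem_insert_of_mem _ (Set.mem_insert_of_mem _ rfl))
  have hS : ∀ c ∈ S0, M.elt [c] ∈ K := by
    intro c hc
    simp only [S0, List.mem_cons, List.not_mem_nil, or_false] at hc
    rcases hc with rfl | rfl | rfl | rfl | rfl | rfl
    · exact hp
    · have : M.elt [3] = gp⁻¹ := by rw [gp_inv, iv_wp]
      rw [this]
      exact K.inv_mem hp
    · exact hh
    · have : M.elt [22] = gh⁻¹ := by rw [gh_inv, iv_wh]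
      rw [this]
      exact K.inv_mem hh
    · exact hv
    · have : M.elt [44] = gv⁻¹ := by rw [gv_inv, iv_wv]
      rw [this]
      exact K.inv_mem hv
  have hgood := goodLetters_mem Cfsg.Agent.Lib.Helper1.Co3B.co3M ds pm chk_slp K S0 hS
  have hold : ∀ c < 4, M.elt [c] ∈ K := by
    intro c hc
    have h1 := chk_gen
    rw [List.all_eq_true] at h1
    rw [factsA.elt_eq_of_chk _ _ (h1 c (List.mem_range.mpr hc))]
    apply elt_mem_of_letters
    intro c' hc'
    apply hgood
    have h2 := chk_Wl
    rw [List.all_eq_true] at h2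
    have hm : Wl.getD c [] ∈ Wl := by
      have hl : c < Wl.length := by
        have : Wl.length = 4 := by decide
        omega
      rw [List.getD_eq_getElem _ _ hl]
      exact List.getElem_mem hl
    have h3 := h2 _ hm
    rw [List.all_eq_true] at h3
    have h4 := h3 c' hc'
    rw [List.contains_iff_mem] at h4
    exact h4
  have htop : (⊤ : Subgroup M.G) =
      Subgroup.closure {g : M.G | ∃ c < 4, g = Cfsg.Agent.Lib.Helper1.Co3B.co3M.elt [c]} :=
    Cfsg.Agent.Lib.Helper1.Co3B.co3M.closure_letters.symm
  rw [eq_top_iff, htop, Subgroup.closure_le]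
  rintro g ⟨c, hc, rfl⟩
  have e : Cfsg.Agent.Lib.Helper1.Co3B.co3M.elt [c] = M.elt [c] :=
    (slpModel_elt_old Cfsg.Agent.Lib.Helper1.Co3B.co3M ds pm chk_slp c hc).symm
  show Cfsg.Agent.Lib.Helper1.Co3B.co3M.elt [c] ∈ K
  rw [e]
  exact hold c hc

/-- an automorphism is determined by the images of the three generators -/
theorem det (γ δ : MulAut M.G) (h1 : γ gp = δ gp) (h2 : γ gh = δ gh) (h3 : γ gv = δ gv) : γ = δ := by
  have : γ.toMonoidHom = δ.toMonoidHom := by
    apply MonoidHom.eq_of_eqOn_dense closure_gens
    intro x hx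
    rcases hx with rfl | rfl | rfl
    · exact h1
    · exact h2
    · exact h3
  ext x
  exact DFunLike.congr_fun this x

end Cfsg.Agent.Lib.Helper5.Co3Out
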