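import Mathlib
import Cfsg.Prelude.Def_LinearParabolics

/-!
Block sizes of the labelling `compLabel μ` attached to a composition `μ` of `n`.
-/

namespace Cfsg.Agent.Lib.Helper5.CompLabel

open Finset

variable {n : ℕ}

/-- Inclusive partial sums. -/
def psum (μ : Fin n → ℕ) (j : Fin n) : ℕ := ∑ k ∈ univ.filter (fun k : Fin n => k ≤ j), μ k

/-- Exclusive partial sums. -/
def psum' (μ : Fin n → ℕ) (j : Fin n) : ℕ := ∑ k ∈ univ.filter (fun k : Fin n => k < j), μ k

theorem compLabel_def (μ : Fin n → ℕ) (x : Fin n) :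
    Cfsg.compLabel μ x = (univ.filter fun j : Fin n => psum μ j ≤ x.val).card := rfl

theorem psum_eq (μ : Fin n → ℕ) (j : Fin n) : psum μ j = psum' μ j + μ j := by
  unfold psum psum'
  have : univ.filter (fun k : Fin n => k ≤ j) = insert j (univ.filter (fun k : Fin n => k < j)) := by
    ext k
    simp only [mem_filter, mem_univ, true_and, mem_insert]
    constructor
    · intro h
      rcases eq_or_lt_of_le h with h | h
      · left; exact h
      · right; exact h
    · rintro (h | h)
      · exact h.le
      · exact h.le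
  rw [this, Finset.sum_insert (by simp), add_comm]

theorem psum_mono (μ : Fin n → ℕ) {i j : Fin n} (h : i ≤ j) : psum μ i ≤ psum μ j := by
  unfold psum
  apply Finset.sum_le_sum_of_subset
  intro k hk
  rw [mem_filter] at hk ⊢
  exact ⟨hk.1, hk.2.trans h⟩

theorem psum_le_psum' (μ : Fin n → ℕ) {i j : Fin n} (h : i < j) : psum μ i ≤ psum' μ j := by
  unfold psum psum'
  apply Finset.sum_le_sum_of_subset
  intro k hk
  rw [mem_filter] at hk ⊢
  exact ⟨hk.1, lt_of_le_of_lt hk.2 h⟩

theorem psum_le_total (μ : Fin n → ℕ) (j : Fin n) : psum μ j ≤ ∑ k, μ k := by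
  unfold psum
  exact Finset.sum_le_sum_of_subset (Finset.filter_subset _ _)

theorem psum_last (μ : Fin n → ℕ) (j : Fin n) (hj : j.val + 1 = n) : psum μ j = ∑ k, μ k := by
  unfold psum
  congr 1
  ext k
  simp only [mem_filter, mem_univ, true_and, iff_true]
  rw [Fin.le_def]
  have := k.2
  omega

theorem compLabel_eq_of_mem (μ : Fin n → ℕ) (x i : Fin n) (h1 : psum' μ i ≤ x.val)
    (h2 : x.val < psum μ i) : Cfsg.compLabel μ x = i.val := by
  rw [compLabel_def]
  have : (univ.filter fun j : Fin n => psum μ j ≤ x.val) = univ.filter fun j : Fin n => j < i := by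
    ext j
    simp only [mem_filter, mem_univ, true_and]
    constructor
    · intro hj
      by_contra hlt
      have := psum_mono μ (not_lt.mp hlt)
      omega
    · intro hj
      exact (psum_le_psum' μ hj).trans h1
  rw [this]
  have h3 : (univ.filter fun j : Fin n => j < i) = Finset.Iio i := by
    ext j
    simp
  rw [h3, Fin.card_Iio]

theorem exists_block (μ : Fin n → ℕ) (hμ : ∑ k, μ k = n) (x : Fin n) :
    ∃ i : Fin n, psum' μ i ≤ x.val ∧ x.val < psum μ i := by
  have hn : 0 < n := Fin.pos x
  have hne : (univ.filter fun j : Fin n => x.val < psum μ j).Nonempty := by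
    refine ⟨⟨n - 1, by omega⟩, ?_⟩
    rw [mem_filter]
    refine ⟨mem_univ _, ?_⟩
    rw [psum_last μ _ (by simp; omega), hμ]
    exact x.2
  let i := (univ.filter fun j : Fin n => x.val < psum μ j).min' hne
  have hi : x.val < psum μ i := (mem_filter.mp (Finset.min'_mem _ hne)).2
  refine ⟨i, ?_, hi⟩
  by_cases h0 : i.val = 0
  · have : psum' μ i = 0 := by
      unfold psum'
      apply Finset.sum_eq_zero
      intro k hk
      rw [mem_filter] at hk
      have := hk.2
      rw [Fin.lt_def] at this
      omega
    omega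
  · let j : Fin n := ⟨i.val - 1, by have := i.2; omega⟩
    have hji : j < i := by
      rw [Fin.lt_def]
      show i.val - 1 < i.val
      omega
    have hj : ¬ x.val < psum μ j := by
      intro h
      have hmem : j ∈ univ.filter fun j : Fin n => x.val < psum μ j := by
        rw [mem_filter]
        exact ⟨mem_univ _, h⟩
      have := Finset.min'_le _ j hmem
      exact absurd hji (not_lt.mpr this)
    have heq : psum' μ i = psum μ j := by
      unfold psum psum'
      congr 1
      ext k
      simp only [mem_filter, mem_univ, true_and]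
      rw [Fin.lt_def, Fin.le_def]
      show k.val < i.val ↔ k.val ≤ i.val - 1
      omega
    omega

theorem compLabel_eq_iff (μ : Fin n → ℕ) (hμ : ∑ k, μ k = n) (x i : Fin n) :
    Cfsg.compLabel μ x = i.val ↔ psum' μ i ≤ x.val ∧ x.val < psum μ i := by
  constructor
  · intro h
    obtain ⟨i', h1, h2⟩ := exists_block μ hμ x
    have := compLabel_eq_of_mem μ x i' h1 h2
    rw [h] at this
    have : i = i' := Fin.ext this
    subst this
    exact ⟨h1, h2⟩
  · rintro ⟨h1, h2⟩
    exact compLabel_eq_of_mem μ x i h1 h2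

theorem compLabel_lt (μ : Fin n → ℕ) (hμ : ∑ k, μ k = n) (x : Fin n) : Cfsg.compLabel μ x < n := by
  obtain ⟨i, h1, h2⟩ := exists_block μ hμ x
  rw [compLabel_eq_of_mem μ x i h1 h2]
  exact i.2

theorem card_interval (a b : ℕ) (hb : b ≤ n) :
    (univ.filter fun x : Fin n => a ≤ x.val ∧ x.val < b).card = b - a := by
  have : (univ.filter fun x : Fin n => a ≤ x.val ∧ x.val < b).map Fin.valEmbedding
      = Finset.Ico a b := by
    ext k
    simp only [mem_map, mem_filter, mem_univ, true_and, Fin.valEmbedding_apply, Finset.mem_Ico]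
    constructor
    · rintro ⟨x, ⟨h1, h2⟩, rfl⟩
      exact ⟨h1, h2⟩
    · rintro ⟨h1, h2⟩
      exact ⟨⟨k, by omega⟩, ⟨h1, h2⟩, rfl⟩
  rw [← Finset.card_map, this, Nat.card_Ico]

/-- The blocks of `compLabel μ` have sizes `μ i`. -/
theorem card_filter_compLabel (μ : Fin n → ℕ) (hμ : ∑ k, μ k = n) (i : Fin n) :
    (univ.filter fun x : Fin n => Cfsg.compLabel μ x = i.val).card = μ i := by
  have : (univ.filter fun x : Fin n => Cfsg.compLabel μ x = i.val)
      = univ.filter fun x : Fin n => psum' μ i ≤ x.val ∧ x.val < psum μ i := by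
    ext x
    simp only [mem_filter, mem_univ, true_and]
    exact compLabel_eq_iff μ hμ x i
  rw [this, card_interval _ _ ((psum_le_total μ i).trans hμ.le), psum_eq]
  omega

end Cfsg.Agent.Lib.Helper5.CompLabel
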