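import Mathlib
import Cfsg.Agent.Lib.Helper4.Deg11_Defs
import Cfsg.Agent.Lib.Helper5.Deg11_P1x

/-!
# S0679 swarm, more sub-lemmas of package P1: affine elements of prime order
-/

set_option autoImplicit false

namespace Cfsg.Agent.Lib.Helper5.Deg11P1y

open Cfsg.Agent.Lib.Deg11 Equiv Cfsg.Agent.Lib.Helper5.Deg11P1x

theorem d11c_pow_apply : ∀ k j : Fin 11, (d11c ^ k.val) j = j + k := by decide

theorem d11c_pow_inv_apply (k j : Fin 11) : (d11c ^ k.val)⁻¹ j = j - k := by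
  rw [Perm.inv_eq_iff_eq, d11c_pow_apply]
  revert k j
  decide

theorem exists_shift : ∀ n b : Fin 11, n ≠ 1 → ∃ k : Fin 11, b + k - n * k = 0 := by decide

section
open Fin.CommRing

theorem affine_shift (n j k b : Fin 11) (h : b + k - n * k = 0) :
    n * (j - k) + b + k = n * j := by
  have : n * (j - k) + b + k = n * j + (b + k - n * k) := by ring
  rw [this, h, add_zero]

end

/-- Conjugation by a power of `c` removes the translation part of an affine map `n x + b`,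
`n ≠ 1`. -/
theorem exists_conj_linear (g : Perm (Fin 11)) (n b : Fin 11) (hg : ∀ j, g j = n * j + b)
    (hn : n ≠ 1) :
    ∃ k : Fin 11, ∀ j, (d11c ^ k.val * g * (d11c ^ k.val)⁻¹) j = n * j := by
  obtain ⟨k, hk⟩ := exists_shift n b hn
  refine ⟨k, fun j => ?_⟩
  rw [Perm.mul_apply, Perm.mul_apply, d11c_pow_inv_apply, hg, d11c_pow_apply]
  exact affine_shift n j k b hk

theorem translation_pow_ne : ∀ b : Fin 11, b ≠ 0 →
    (d11c ^ b.val) ^ 5 ≠ 1 ∧ (d11c ^ b.val) ^ 2 ≠ 1 := by decide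

/-- an affine element `n x + b` of order `5` or `2` has `n ≠ 1` -/
theorem ne_one_of_affine (g : Perm (Fin 11)) (n b : Fin 11) (hg : ∀ j, g j = n * j + b)
    (h52 : g ^ 5 = 1 ∨ g ^ 2 = 1) (h1 : g ≠ 1) : n ≠ 1 := by
  intro hn
  have hgc : g = d11c ^ b.val := by
    ext j
    rw [hg, hn, one_mul, d11c_pow_apply]
  have hb : b ≠ 0 := by
    intro hb
    apply h1
    rw [hgc, hb]
    rfl
  obtain ⟨h5, h2⟩ := translation_pow_ne b hb
  rw [← hgc] at h5 h2
  rcases h52 with h | h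
  · exact h5 h
  · exact h2 h

theorem conj_pow_eq_one {x g : Perm (Fin 11)} {q : ℕ} (h : g ^ q = 1) :
    (x * g * x⁻¹) ^ q = 1 := by
  rw [conj_pow, h, mul_one, mul_inv_cancel]

theorem conj_ne_one {x g : Perm (Fin 11)} (h : g ≠ 1) : x * g * x⁻¹ ≠ 1 := by
  intro h'
  apply h
  have : g = x⁻¹ * (x * g * x⁻¹) * x := by group
  rw [this, h']
  group

/-- An affine element of order `5` of a group containing `c` yields `3 x ∈ G`. -/
theorem d11d_mem_of_affine (G : Subgroup (Perm (Fin 11))) (hc : d11c ∈ G) (g : Perm (Fin 11))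
    (hg : g ∈ G) (n b : Fin 11) (hgn : ∀ j, g j = n * j + b) (h5 : g ^ 5 = 1) (h1 : g ≠ 1) :
    d11d ∈ G := by
  have hn := ne_one_of_affine g n b hgn (Or.inl h5) h1
  obtain ⟨k, hk⟩ := exists_conj_linear g n b hgn hn
  have hmem : d11c ^ k.val * g * (d11c ^ k.val)⁻¹ ∈ G :=
    G.mul_mem (G.mul_mem (G.pow_mem hc _) hg) (G.inv_mem (G.pow_mem hc _))
  exact d11d_mem_of_mul G _ hmem n hk (conj_pow_eq_one h5) (conj_ne_one h1)

/-- An affine element of order `2` of a group containing `c` yields `-x ∈ G`. -/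
theorem d11n_mem_of_affine (G : Subgroup (Perm (Fin 11))) (hc : d11c ∈ G) (g : Perm (Fin 11))
    (hg : g ∈ G) (n b : Fin 11) (hgn : ∀ j, g j = n * j + b) (h2 : g ^ 2 = 1) (h1 : g ≠ 1) :
    d11n ∈ G := by
  have hn := ne_one_of_affine g n b hgn (Or.inr h2) h1
  obtain ⟨k, hk⟩ := exists_conj_linear g n b hgn hn
  have hmem : d11c ^ k.val * g * (d11c ^ k.val)⁻¹ ∈ G :=
    G.mul_mem (G.mul_mem (G.pow_mem hc _) hg) (G.inv_mem (G.pow_mem hc _))
  exact d11n_mem_of_mul G _ hmem n hk (conj_pow_eq_one h2) (conj_ne_one h1)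

end Cfsg.Agent.Lib.Helper5.Deg11P1y
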