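import Mathlib

set_option autoImplicit false

/-!
Weights of binary vectors and the associated character sums.
-/

namespace Cfsg.Agent.Lib.Helper5.EvenCode

open Finset

/-- the Hamming weight of a binary vector -/
def wt {n : ℕ} (v : Fin n → ZMod 2) : ℕ := ∑ i, (v i).val

theorem wt_zero {n : ℕ} : wt (0 : Fin n → ZMod 2) = 0 := by
  simp [wt]

theorem wt_comp_perm {n : ℕ} (v : Fin n → ZMod 2) (σ : Equiv.Perm (Fin n)) :
    wt (v ∘ σ) = wt v := by
  unfold wt
  exact Equiv.sum_comp σ (fun i => (v i).val)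

theorem wt_add {n : ℕ} (u v : Fin n → ZMod 2) :
    wt (u + v) + 2 * ∑ i, (u i).val * (v i).val = wt u + wt v := by
  unfold wt
  rw [Finset.mul_sum, ← Finset.sum_add_distrib, ← Finset.sum_add_distrib]
  apply Finset.sum_congr rfl
  intro i _
  have : ∀ a b : ZMod 2, (a + b).val + 2 * (a.val * b.val) = a.val + b.val := by decide
  exact this (u i) (v i)

theorem wt_add_one {n : ℕ} (v : Fin n → ZMod 2) : wt (v + 1) + wt v = n := by
  unfold wt
  rw [← Finset.sum_add_distrib]
  have : ∀ a : ZMod 2, (a + 1).val + a.val = 1 := by decide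
  simp only [Pi.add_apply, Pi.one_apply, this]
  simp

theorem wt_le {n : ℕ} (v : Fin n → ZMod 2) : wt v ≤ n := by
  have := wt_add_one v
  omega

theorem cast_wt {n : ℕ} (v : Fin n → ZMod 2) : ((wt v : ℕ) : ZMod 2) = ∑ i, v i := by
  unfold wt
  rw [Nat.cast_sum]
  apply Finset.sum_congr rfl
  intro i _
  exact ZMod.natCast_zmod_val (v i)

theorem even_wt_iff {n : ℕ} (v : Fin n → ZMod 2) : Even (wt v) ↔ ∑ i, v i = 0 := by
  rw [← cast_wt, ZMod.natCast_eq_zero_iff_even]

theorem cast_dot {n : ℕ} (u v : Fin n → ZMod 2) :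
    ((∑ i, (u i).val * (v i).val : ℕ) : ZMod 2) = ∑ i, u i * v i := by
  rw [Nat.cast_sum]
  apply Finset.sum_congr rfl
  intro i _
  rw [Nat.cast_mul, ZMod.natCast_zmod_val, ZMod.natCast_zmod_val]

/-- the generating function of the weights with the first coordinate forced to vanish -/
theorem sum_pow_wt (n : ℕ) (z : ℂ) :
    ∑ v : Fin (n + 1) → ZMod 2, (if v 0 = 0 then (1 : ℂ) else 0) * z ^ wt v = (1 + z) ^ n := by
  have h1 : ∀ v : Fin (n + 1) → ZMod 2, (if v 0 = 0 then (1 : ℂ) else 0) * z ^ wt v =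
      ∏ j : Fin (n + 1), (if j = 0 then (if v j = 0 then (1 : ℂ) else 0) else z ^ (v j).val) := by
    intro v
    rw [Fin.prod_univ_succ]
    simp only [if_true, Fin.succ_ne_zero, if_false]
    by_cases h0 : v 0 = 0
    · rw [if_pos h0, one_mul, one_mul, Finset.prod_pow_eq_pow_sum]
      congr 1
      unfold wt
      rw [Fin.sum_univ_succ, h0]
      simp
    · rw [if_neg h0, zero_mul, zero_mul]
  rw [Finset.sum_congr rfl (fun v _ => h1 v)]
  have h2 := Finset.prod_univ_sum (fun _ : Fin (n + 1) => (Finset.univ : Finset (ZMod 2)))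
    (fun (j : Fin (n + 1)) (x : ZMod 2) =>
      (if j = 0 then (if x = 0 then (1 : ℂ) else 0) else z ^ x.val))
  rw [Fintype.piFinset_univ] at h2
  rw [← h2, Fin.prod_univ_succ]
  simp only [if_true, Fin.succ_ne_zero, if_false]
  have h3 : ∑ x : ZMod 2, (if x = 0 then (1 : ℂ) else 0) = 1 := by
    rw [Finset.sum_ite_eq' Finset.univ (0 : ZMod 2) (fun _ => (1 : ℂ))]
    simp
  have h4 : ∑ x : ZMod 2, z ^ x.val = 1 + z := by
    rw [show (Finset.univ : Finset (ZMod 2)) = {0, 1} from rfl]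
    rw [Finset.sum_pair (by decide)]
    have e1 : (0 : ZMod 2).val = 0 := rfl
    have e2 : (1 : ZMod 2).val = 1 := rfl
    rw [e1, e2, pow_zero, pow_one]
  rw [h3, one_mul, Finset.prod_congr rfl (fun _ _ => h4)]
  simp

end Cfsg.Agent.Lib.Helper5.EvenCode
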