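import Mathlib
import Cfsg.Agent.Lib.Helper5.EvenCode1

set_option autoImplicit false

namespace Cfsg.Agent.Lib.Helper5.EvenCode

open Finset Module

variable (n : ℕ)

/-- the pair (coordinate sum, first coordinate) -/
def Lmap : (Fin (n + 1) → ZMod 2) →ₗ[ZMod 2] (ZMod 2 × ZMod 2) where
  toFun v := (∑ i, v i, v 0)
  map_add' u v := by
    simp only [Pi.add_apply, Finset.sum_add_distrib, Prod.mk_add_mk]
  map_smul' c v := by
    simp only [Pi.smul_apply, smul_eq_mul, ← Finset.mul_sum, RingHom.id_apply, Prod.smul_mk]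

/-- even weight vectors vanishing at the first coordinate -/
def Vsub : Submodule (ZMod 2) (Fin (n + 1) → ZMod 2) := LinearMap.ker (Lmap n)

theorem mem_Vsub (v : Fin (n + 1) → ZMod 2) : v ∈ Vsub n ↔ ∑ i, v i = 0 ∧ v 0 = 0 := by
  rw [Vsub, LinearMap.mem_ker]
  show ((∑ i, v i, v 0) : ZMod 2 × ZMod 2) = 0 ↔ _
  rw [Prod.mk_eq_zero]

theorem even_wt_of_mem {v : Fin (n + 1) → ZMod 2} (hv : v ∈ Vsub n) : Even (wt v) :=
  (even_wt_iff v).2 ((mem_Vsub n v).1 hv).1

theorem Lmap_surjective (hn : 1 ≤ n) : Function.Surjective (Lmap n) := by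
  classical
  obtain ⟨m, rfl⟩ : ∃ m, n = m + 1 := ⟨n - 1, by omega⟩
  rintro ⟨a, b⟩
  refine ⟨Pi.single 0 b + Pi.single 1 (a - b), ?_⟩
  show ((∑ i, (Pi.single 0 b + Pi.single 1 (a - b) : Fin (m + 1 + 1) → ZMod 2) i,
    (Pi.single 0 b + Pi.single 1 (a - b) : Fin (m + 1 + 1) → ZMod 2) 0) : ZMod 2 × ZMod 2) = (a, b)
  have h01 : (1 : Fin (m + 1 + 1)) ≠ 0 := by
    intro h
    have := congrArg Fin.val h
    simp at this
  simp only [Pi.add_apply, Finset.sum_add_distrib, Finset.sum_pi_single', Finset.mem_univ, if_true,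
    Pi.single_eq_same, Pi.single_eq_of_ne h01.symm, add_zero]
  ext <;> simp

theorem finrank_Vsub (hn : 1 ≤ n) : finrank (ZMod 2) (Vsub n) + 2 = n + 1 := by
  have h1 := LinearMap.finrank_range_add_finrank_ker (Lmap n)
  rw [LinearMap.range_eq_top.2 (Lmap_surjective n hn), finrank_top, Module.finrank_prod,
    Module.finrank_self, Module.finrank_fintype_fun_eq_card, Fintype.card_fin] at h1
  rw [Vsub]
  omega

/-- the dot product restricted to `Vsub` -/
def dotB : LinearMap.BilinForm (ZMod 2) (Vsub n) :=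
  LinearMap.mk₂ (ZMod 2) (fun u v => ∑ i, (u : Fin (n + 1) → ZMod 2) i * (v : Fin (n + 1) → ZMod 2) i)
    (fun u u' v => by
      simp only [Submodule.coe_add, Pi.add_apply, add_mul, Finset.sum_add_distrib])
    (fun c u v => by
      simp only [Submodule.coe_smul, Pi.smul_apply, smul_eq_mul, mul_assoc, ← Finset.mul_sum])
    (fun u v v' => by
      simp only [Submodule.coe_add, Pi.add_apply, mul_add, Finset.sum_add_distrib])
    (fun c u v => by
      simp only [Submodule.coe_smul, Pi.smul_apply, smul_eq_mul, Finset.mul_sum]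
      apply Finset.sum_congr rfl
      intro i _
      ring)

theorem dotB_apply (u v : Vsub n) :
    dotB n u v = ∑ i, (u : Fin (n + 1) → ZMod 2) i * (v : Fin (n + 1) → ZMod 2) i := rfl

theorem half_wt_add (u v : Vsub n) :
    (((wt ((u + v : Vsub n) : Fin (n + 1) → ZMod 2) / 2 : ℕ) : ℕ) : ZMod 2) =
      ((wt (u : Fin (n + 1) → ZMod 2) / 2 : ℕ) : ZMod 2) +
        ((wt (v : Fin (n + 1) → ZMod 2) / 2 : ℕ) : ZMod 2) + dotB n u v := by
  obtain ⟨a, ha⟩ := even_wt_of_mem n u.2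
  obtain ⟨b, hb⟩ := even_wt_of_mem n v.2
  obtain ⟨c, hc⟩ := even_wt_of_mem n (u + v).2
  have h1 := wt_add (u : Fin (n + 1) → ZMod 2) (v : Fin (n + 1) → ZMod 2)
  rw [dotB_apply, ← cast_dot]
  set d := ∑ i, ((u : Fin (n + 1) → ZMod 2) i).val * ((v : Fin (n + 1) → ZMod 2) i).val with hd
  have h2 : wt ((u + v : Vsub n) : Fin (n + 1) → ZMod 2) =
      wt ((u : Fin (n + 1) → ZMod 2) + (v : Fin (n + 1) → ZMod 2)) := rfl
  rw [← h2] at h1
  have e1 : wt ((u + v : Vsub n) : Fin (n + 1) → ZMod 2) / 2 + d = a + b := by omega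
  have e2 : wt (u : Fin (n + 1) → ZMod 2) / 2 = a := by omega
  have e3 : wt (v : Fin (n + 1) → ZMod 2) / 2 = b := by omega
  rw [e2, e3]
  have e4 : ((wt ((u + v : Vsub n) : Fin (n + 1) → ZMod 2) / 2 : ℕ) : ZMod 2) + (d : ZMod 2) =
      (a : ZMod 2) + (b : ZMod 2) := by
    rw [← Nat.cast_add, e1, Nat.cast_add]
  have e5 : ∀ x y z : ZMod 2, x + y = z → x = z + y := by decide
  exact e5 _ _ _ e4

/-- the quadratic form `v ↦ wt v / 2 (mod 2)` on `Vsub` -/
def Qv : QuadraticForm (ZMod 2) (Vsub n) where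
  toFun v := ((wt (v : Fin (n + 1) → ZMod 2) / 2 : ℕ) : ZMod 2)
  toFun_smul a v := by
    have h01 : a = 0 ∨ a = 1 := by
      revert a; decide
    rcases h01 with rfl | rfl
    · simp [wt_zero]
    · simp
  exists_companion' := ⟨dotB n, fun u v => half_wt_add n u v⟩

theorem Qv_apply (v : Vsub n) : Qv n v = ((wt (v : Fin (n + 1) → ZMod 2) / 2 : ℕ) : ZMod 2) := rfl

theorem polar_Qv (u v : Vsub n) : QuadraticMap.polar (Qv n) u v = dotB n u v := by
  rw [QuadraticMap.polar, Qv_apply, Qv_apply, Qv_apply, half_wt_add]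
  ring

end Cfsg.Agent.Lib.Helper5.EvenCode
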