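import Mathlib
import Cfsg.Agent.Lib.Helper5.EvenCode2

set_option autoImplicit false

namespace Cfsg.Agent.Lib.Helper5.EvenCode

open Finset Module

variable (n : ℕ)

theorem two_cases (a : ZMod 2) : a = 0 ∨ a = 1 := by
  revert a; decide

theorem natCast_succ_eq_zero (hn : Odd n) : ((n + 1 : ℕ) : ZMod 2) = 0 := by
  rw [ZMod.natCast_eq_zero_iff_even]
  exact hn.add_one

theorem nondeg_aux (hn : Odd n) (u : Vsub n) (hu : ∀ v : Vsub n, dotB n u v = 0) : u = 0 := by
  classical
  by_contra hne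
  have hu0 : (u : Fin (n + 1) → ZMod 2) 0 = 0 := ((mem_Vsub n _).1 u.2).2
  have hus : ∑ i, (u : Fin (n + 1) → ZMod 2) i = 0 := ((mem_Vsub n _).1 u.2).1
  obtain ⟨a, ha⟩ : ∃ a, (u : Fin (n + 1) → ZMod 2) a ≠ 0 := by
    by_contra hcon
    push Not at hcon
    apply hne
    apply Subtype.ext
    funext i
    exact hcon i
  have ha1 : (u : Fin (n + 1) → ZMod 2) a = 1 := (two_cases _).resolve_left ha
  have ha0 : a ≠ 0 := by
    rintro rfl
    exact ha hu0
  -- some other nonzero coordinate where `u` vanishes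
  have hex : ∃ b, b ≠ 0 ∧ (u : Fin (n + 1) → ZMod 2) b = 0 := by
    by_contra hcon
    push Not at hcon
    have h1 : ∀ j : Fin n, (u : Fin (n + 1) → ZMod 2) j.succ = 1 := fun j =>
      (two_cases _).resolve_left (hcon j.succ (Fin.succ_ne_zero j))
    rw [Fin.sum_univ_succ, hu0, zero_add, Finset.sum_congr rfl (fun j _ => h1 j)] at hus
    simp only [Finset.sum_const, Finset.card_univ, Fintype.card_fin, nsmul_eq_mul, mul_one] at hus
    rw [ZMod.natCast_eq_zero_iff_even] at hus
    exact (Nat.not_even_iff_odd.2 hn) hus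
  obtain ⟨b, hb0, hub⟩ := hex
  have hab : a ≠ b := by
    rintro rfl
    rw [hub] at ha1
    exact zero_ne_one ha1
  set w : Fin (n + 1) → ZMod 2 := Pi.single a 1 + Pi.single b 1 with hw
  have hwmem : w ∈ Vsub n := by
    rw [mem_Vsub]
    constructor
    · simp only [hw, Pi.add_apply, Finset.sum_add_distrib, Finset.sum_pi_single', Finset.mem_univ,
        if_true]
      decide
    · simp only [hw, Pi.add_apply, Pi.single_eq_of_ne (Ne.symm ha0), Pi.single_eq_of_ne (Ne.symm hb0),
        add_zero]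
  have h2 := hu ⟨w, hwmem⟩
  rw [dotB_apply] at h2
  simp only [hw, Pi.add_apply, mul_add, Finset.sum_add_distrib, Pi.single_apply, mul_ite, mul_one,
    mul_zero, Finset.sum_ite_eq', Finset.mem_univ, if_true] at h2
  rw [ha1, hub, add_zero] at h2
  exact one_ne_zero h2

theorem nondeg (hn : Odd n) : (QuadraticMap.polarBilin (Qv n)).Nondegenerate := by
  have hpb : ∀ u v : Vsub n, QuadraticMap.polarBilin (Qv n) u v = dotB n u v := fun u v =>
    polar_Qv n u v
  have hsymm : ∀ u v : Vsub n, dotB n u v = dotB n v u := by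
    intro u v
    rw [dotB_apply, dotB_apply]
    apply Finset.sum_congr rfl
    intro i _
    ring
  refine ⟨fun u hu => nondeg_aux n hn u (fun v => by rw [← hpb]; exact hu v),
    fun v hv => nondeg_aux n hn v (fun u => by rw [hsymm, ← hpb]; exact hv u)⟩

/-- the action of a permutation on `Vsub` -/
def act (hn : Odd n) (σ : Equiv.Perm (Fin (n + 1))) : Module.End (ZMod 2) (Vsub n) where
  toFun v := ⟨fun j => (v : Fin (n + 1) → ZMod 2) (σ⁻¹ j) + (v : Fin (n + 1) → ZMod 2) (σ⁻¹ 0), by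
    rw [mem_Vsub]
    constructor
    · rw [Finset.sum_add_distrib, Equiv.sum_comp σ⁻¹ (fun j => (v : Fin (n + 1) → ZMod 2) j),
        ((mem_Vsub n _).1 v.2).1, zero_add]
      simp only [Finset.sum_const, Finset.card_univ, Fintype.card_fin, nsmul_eq_mul]
      rw [natCast_succ_eq_zero n hn, zero_mul]
    · exact CharTwo.add_self_eq_zero _⟩
  map_add' u v := by
    apply Subtype.ext
    funext j
    simp only [Submodule.coe_add, Pi.add_apply]
    ring
  map_smul' c v := by
    apply Subtype.ext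
    funext j
    simp only [Submodule.coe_smul, Pi.smul_apply, smul_eq_mul, RingHom.id_apply]
    ring

theorem act_apply (hn : Odd n) (σ : Equiv.Perm (Fin (n + 1))) (v : Vsub n) (j : Fin (n + 1)) :
    ((act n hn σ v : Vsub n) : Fin (n + 1) → ZMod 2) j =
      (v : Fin (n + 1) → ZMod 2) (σ⁻¹ j) + (v : Fin (n + 1) → ZMod 2) (σ⁻¹ 0) := rfl

/-- the action as a monoid homomorphism -/
def actHom (hn : Odd n) : Equiv.Perm (Fin (n + 1)) →* Module.End (ZMod 2) (Vsub n) where
  toFun := act n hn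
  map_one' := by
    apply LinearMap.ext
    intro v
    apply Subtype.ext
    funext j
    rw [act_apply]
    simp only [inv_one, Equiv.Perm.coe_one, id_eq, Module.End.one_apply]
    rw [((mem_Vsub n _).1 v.2).2, add_zero]
  map_mul' σ τ := by
    apply LinearMap.ext
    intro v
    apply Subtype.ext
    funext j
    rw [Module.End.mul_apply, act_apply, act_apply, act_apply, act_apply]
    simp only [mul_inv_rev, Equiv.Perm.coe_mul, Function.comp_apply]
    have : ∀ x y z : ZMod 2, x + y = x + z + (y + z) := by decide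
    exact this _ _ _

theorem actHom_apply (hn : Odd n) (σ : Equiv.Perm (Fin (n + 1))) (v : Vsub n) :
    actHom n hn σ v = act n hn σ v := rfl

theorem Qv_act (hn : Odd n) (h4 : (n + 1) % 4 = 0) (σ : Equiv.Perm (Fin (n + 1))) (v : Vsub n) :
    Qv n (act n hn σ v) = Qv n v := by
  rw [Qv_apply, Qv_apply]
  set c := (v : Fin (n + 1) → ZMod 2) (σ⁻¹ 0) with hc
  have hperm : wt ((v : Fin (n + 1) → ZMod 2) ∘ ⇑σ⁻¹) = wt (v : Fin (n + 1) → ZMod 2) :=
    wt_comp_perm _ _
  rcases two_cases c with h0 | h1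
  · have : ((act n hn σ v : Vsub n) : Fin (n + 1) → ZMod 2) =
        (v : Fin (n + 1) → ZMod 2) ∘ ⇑σ⁻¹ := by
      funext j
      rw [act_apply, ← hc, h0, add_zero]
      rfl
    rw [this, hperm]
  · have : ((act n hn σ v : Vsub n) : Fin (n + 1) → ZMod 2) =
        (v : Fin (n + 1) → ZMod 2) ∘ ⇑σ⁻¹ + 1 := by
      funext j
      rw [act_apply, ← hc, h1]
      rfl
    rw [this]
    have h2 := wt_add_one ((v : Fin (n + 1) → ZMod 2) ∘ ⇑σ⁻¹)
    rw [hperm] at h2
    obtain ⟨a, ha⟩ := even_wt_of_mem n v.2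
    obtain ⟨s, hs⟩ : ∃ s, n + 1 = 4 * s := ⟨(n + 1) / 4, by omega⟩
    have e1 : wt ((v : Fin (n + 1) → ZMod 2) ∘ ⇑σ⁻¹ + 1) / 2 = 2 * s - a := by omega
    have e2 : wt (v : Fin (n + 1) → ZMod 2) / 2 = a := by omega
    rw [e1, e2]
    have e3 : ((2 * s - a : ℕ) : ZMod 2) + (a : ZMod 2) = 0 := by
      rw [← Nat.cast_add, show 2 * s - a + a = 2 * s by omega, ZMod.natCast_eq_zero_iff_even]
      exact even_two_mul s
    have e5 : ∀ x y : ZMod 2, x + y = 0 → x = y := by decide
    exact e5 _ _ e3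

end Cfsg.Agent.Lib.Helper5.EvenCode
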