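import Mathlib
import Cfsg.Agent.Lib.Helper5.EvenCode3

set_option autoImplicit false

namespace Cfsg.Agent.Lib.Helper5.EvenCode

open Finset Module

variable (n : ℕ)

/-- the vector `e_a + e_b` for distinct nonzero `a, b`, as an element of `Vsub` -/
def pairVec (a b : Fin (n + 1)) (ha : a ≠ 0) (hb : b ≠ 0) : Vsub n :=
  ⟨Pi.single a 1 + Pi.single b 1, by
    classical
    rw [mem_Vsub]
    constructor
    · simp only [Pi.add_apply, Finset.sum_add_distrib, Finset.sum_pi_single', Finset.mem_univ,
        if_true]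
      decide
    · simp only [Pi.add_apply, Pi.single_eq_of_ne (Ne.symm ha), Pi.single_eq_of_ne (Ne.symm hb),
        add_zero]⟩

theorem pairVec_apply (a b : Fin (n + 1)) (ha : a ≠ 0) (hb : b ≠ 0) (j : Fin (n + 1)) :
    ((pairVec n a b ha hb : Vsub n) : Fin (n + 1) → ZMod 2) j =
      (if j = a then 1 else 0) + (if j = b then 1 else 0) := by
  classical
  show (Pi.single a 1 + Pi.single b 1 : Fin (n + 1) → ZMod 2) j = _
  rw [Pi.add_apply, Pi.single_apply, Pi.single_apply]

/-- existence of an index avoiding a short list -/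
theorem exists_avoid (hn : 4 ≤ n) (x y z : Fin (n + 1)) :
    ∃ b : Fin (n + 1), b ≠ 0 ∧ b ≠ x ∧ b ≠ y ∧ b ≠ z := by
  classical
  by_contra hcon
  push Not at hcon
  have hsub : (Finset.univ : Finset (Fin (n + 1))) ⊆ {0, x, y, z} := by
    intro b _
    simp only [Finset.mem_insert, Finset.mem_singleton]
    by_cases h0 : b = 0
    · exact Or.inl h0
    by_cases hx : b = x
    · exact Or.inr (Or.inl hx)
    by_cases hy : b = y
    · exact Or.inr (Or.inr (Or.inl hy))
    exact Or.inr (Or.inr (Or.inr (hcon b h0 hx hy)))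
  have h1 := Finset.card_le_card hsub
  have h2 : ({0, x, y, z} : Finset (Fin (n + 1))).card ≤ 4 := Finset.card_le_four
  rw [Finset.card_univ, Fintype.card_fin] at h1
  omega

theorem actHom_injective (hn : Odd n) (h4 : 4 ≤ n) : Function.Injective (actHom n hn) := by
  classical
  rw [injective_iff_map_eq_one]
  intro σ hσ
  set τ := σ⁻¹ with hτ
  have key : ∀ (v : Vsub n) (j : Fin (n + 1)),
      (v : Fin (n + 1) → ZMod 2) (τ j) + (v : Fin (n + 1) → ZMod 2) (τ 0) =
        (v : Fin (n + 1) → ZMod 2) j := by
    intro v j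
    have h1 := congrArg (fun f : Module.End (ZMod 2) (Vsub n) => ((f v : Vsub n) :
      Fin (n + 1) → ZMod 2) j) hσ
    simp only [actHom_apply, act_apply, Module.End.one_apply] at h1
    exact h1
  have hτ1 : τ = 1 := by
    by_contra hne
    by_cases h0 : τ 0 = 0
    · -- τ fixes 0
      obtain ⟨j, hj⟩ : ∃ j, τ j ≠ j := by
        by_contra hcon
        push Not at hcon
        exact hne (Equiv.ext hcon)
      have hj0 : j ≠ 0 := by
        rintro rfl
        exact hj h0
      obtain ⟨b, hb0, hbj, hbτ, -⟩ := exists_avoid n h4 j (τ j) 0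
      have h1 := key (pairVec n j b hj0 hb0) j
      rw [h0, pairVec_apply, pairVec_apply, pairVec_apply] at h1
      rw [if_neg hj, if_neg (Ne.symm hbτ), if_neg (Ne.symm hj0), if_neg (Ne.symm hb0), if_pos rfl,
        if_neg (Ne.symm hbj)] at h1
      simp at h1
    · set a := τ 0 with ha
      set j := τ.symm 0 with hjdef
      have hτj : τ j = 0 := by rw [hjdef]; exact τ.apply_symm_apply 0
      have hj0 : j ≠ 0 := by
        intro h
        rw [h] at hτj
        exact h0 hτj
      by_cases haj : a = j
      · -- τ swaps 0 and a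
        obtain ⟨j', hj'0, hj'a, -, -⟩ := exists_avoid n h4 a 0 0
        have hτj'a : τ j' ≠ a := by
          intro h
          have : j' = 0 := τ.injective (h.trans ha)
          exact hj'0 this
        obtain ⟨b, hb0, hba, hbj', hbτ⟩ := exists_avoid n h4 a j' (τ j')
        have h1 := key (pairVec n a b h0 hb0) j'
        rw [pairVec_apply, pairVec_apply, pairVec_apply] at h1
        rw [if_neg hτj'a, if_neg (Ne.symm hbτ), if_pos rfl, if_neg (Ne.symm hba), if_neg hj'a,
          if_neg (Ne.symm hbj')] at h1
        simp at h1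
      · obtain ⟨b, hb0, hba, hbj, -⟩ := exists_avoid n h4 a j 0
        have h1 := key (pairVec n a b h0 hb0) j
        rw [hτj, pairVec_apply, pairVec_apply, pairVec_apply] at h1
        rw [if_neg (Ne.symm h0), if_neg (Ne.symm hb0), if_pos rfl, if_neg (Ne.symm hba),
          if_neg (Ne.symm haj), if_neg (Ne.symm hbj)] at h1
        simp at h1
  rw [hτ, inv_eq_one] at hτ1
  exact hτ1

end Cfsg.Agent.Lib.Helper5.EvenCode
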