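import Mathlib
import Cfsg.Prelude
import Cfsg.Agent.Lib.Helper5.EvenCode4

set_option autoImplicit false

namespace Cfsg.Agent.Lib.Helper5.EvenCode

open Finset Module

/-- the nontrivial additive character of `ZMod 2`, integer valued -/
def chi (a : ZMod 2) : ℤ := (-1) ^ a.val

theorem chi_zero : chi 0 = 1 := rfl

theorem chi_add (a b : ZMod 2) : chi (a + b) = chi a * chi b := by
  revert a b; decide

theorem chi_sum {ι : Type*} (s : Finset ι) (f : ι → ZMod 2) :
    chi (∑ i ∈ s, f i) = ∏ i ∈ s, chi (f i) := by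
  classical
  induction s using Finset.induction_on with
  | empty => simp [chi_zero]
  | insert a s ha ih => rw [Finset.sum_insert ha, Finset.prod_insert ha, chi_add, ih]

variable (n : ℕ)

noncomputable instance instFintypeVsub : Fintype (Vsub n) := Fintype.ofFinite _

theorem chi_Qv (v : Vsub n) :
    ((chi (Qv n v) : ℤ) : ℂ) = Complex.I ^ wt (v : Fin (n + 1) → ZMod 2) := by
  obtain ⟨a, ha⟩ := even_wt_of_mem n v.2
  have e2 : wt (v : Fin (n + 1) → ZMod 2) / 2 = a := by omega
  rw [Qv_apply, e2, ha, ← two_mul, pow_mul, Complex.I_sq, chi, ZMod.val_natCast]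
  push_cast
  exact (neg_one_pow_eq_pow_mod_two (R := ℂ) a).symm

theorem sum_I_pow_wt :
    ∑ v : Vsub n, Complex.I ^ wt (v : Fin (n + 1) → ZMod 2) =
      ((1 + Complex.I) ^ n + (1 - Complex.I) ^ n) / 2 := by
  classical
  have h1 : ∑ v : Vsub n, Complex.I ^ wt (v : Fin (n + 1) → ZMod 2) =
      ∑ v ∈ Finset.univ.filter (fun v : Fin (n + 1) → ZMod 2 => v ∈ Vsub n), Complex.I ^ wt v := by
    rw [Finset.sum_subtype (Finset.univ.filter (fun v : Fin (n + 1) → ZMod 2 => v ∈ Vsub n))
      (p := fun v => v ∈ Vsub n) (by simp) (fun v => Complex.I ^ wt v)]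
  rw [h1, Finset.sum_filter]
  have h2 : ∀ v : Fin (n + 1) → ZMod 2, (if v ∈ Vsub n then Complex.I ^ wt v else 0) =
      ((if v 0 = 0 then (1 : ℂ) else 0) * Complex.I ^ wt v +
        (if v 0 = 0 then (1 : ℂ) else 0) * (-Complex.I) ^ wt v) / 2 := by
    intro v
    by_cases h0 : v 0 = 0
    · rw [if_pos h0, one_mul, one_mul, neg_pow]
      by_cases he : Even (wt v)
      · have hmem : v ∈ Vsub n := (mem_Vsub n v).2 ⟨(even_wt_iff v).1 he, h0⟩
        rw [if_pos hmem, he.neg_one_pow, one_mul]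
        ring
      · have hmem : v ∉ Vsub n := fun h => he (even_wt_of_mem n h)
        rw [if_neg hmem, (Nat.not_even_iff_odd.1 he).neg_one_pow]
        ring
    · have hmem : v ∉ Vsub n := fun h => h0 ((mem_Vsub n v).1 h).2
      rw [if_neg hmem, if_neg h0]
      ring
  rw [Finset.sum_congr rfl (fun v _ => h2 v), ← Finset.sum_div, Finset.sum_add_distrib,
    sum_pow_wt, sum_pow_wt, sub_eq_add_neg]

theorem charsum (k : ℕ) : ∑ v : Vsub (4 * k + 3), chi (Qv (4 * k + 3) v) = -2 * (-4) ^ k := by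
  have h1 : ((∑ v : Vsub (4 * k + 3), chi (Qv (4 * k + 3) v) : ℤ) : ℂ) =
      ((-2 * (-4) ^ k : ℤ) : ℂ) := by
    rw [Int.cast_sum, Finset.sum_congr rfl (fun v _ => chi_Qv (4 * k + 3) v), sum_I_pow_wt]
    have e1 : (1 + Complex.I) ^ 4 = -4 := by
      have : (1 + Complex.I) ^ 2 = 2 * Complex.I := by
        ring_nf
        rw [Complex.I_sq]
        ring
      rw [show 4 = 2 * 2 from rfl, pow_mul, this, mul_pow, Complex.I_sq]
      ring
    have e2 : (1 - Complex.I) ^ 4 = -4 := by
      have : (1 - Complex.I) ^ 2 = -(2 * Complex.I) := by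
        ring_nf
        rw [Complex.I_sq]
        ring
      rw [show 4 = 2 * 2 from rfl, pow_mul, this, neg_sq, mul_pow, Complex.I_sq]
      ring
    have e3 : (1 + Complex.I) ^ 3 = -2 + 2 * Complex.I := by
      have : (1 + Complex.I) ^ 2 = 2 * Complex.I := by
        ring_nf
        rw [Complex.I_sq]
        ring
      rw [show 3 = 2 + 1 from rfl, pow_add, this, pow_one]
      ring_nf
      rw [Complex.I_sq]
      ring
    have e4 : (1 - Complex.I) ^ 3 = -2 - 2 * Complex.I := by
      have : (1 - Complex.I) ^ 2 = -(2 * Complex.I) := by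
        ring_nf
        rw [Complex.I_sq]
        ring
      rw [show 3 = 2 + 1 from rfl, pow_add, this, pow_one]
      ring_nf
      rw [Complex.I_sq]
      ring
    rw [pow_add, pow_add, pow_mul, pow_mul, e1, e2, e3, e4]
    push_cast
    ring
  exact_mod_cast h1

end Cfsg.Agent.Lib.Helper5.EvenCode
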