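import Mathlib
import Cfsg.Prelude
import Cfsg.Agent.Lib.Helper5.EvenCode5

set_option autoImplicit false

namespace Cfsg.Agent.Lib.Helper5.EvenCode

open Finset Module

/-- pairing up the two halves of the coordinates -/
def pairEquiv (m : ℕ) : (Fin m ⊕ Fin m → ZMod 2) ≃ (Fin m → ZMod 2 × ZMod 2) where
  toFun x i := (x (Sum.inl i), x (Sum.inr i))
  invFun y := Sum.elim (fun i => (y i).1) (fun i => (y i).2)
  left_inv x := by
    funext s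
    rcases s with i | i <;> rfl
  right_inv y := by
    funext i
    rfl

theorem sum_chi_plus (m : ℕ) :
    ∑ x : Fin m ⊕ Fin m → ZMod 2, chi (Cfsg.quadFormPlus m (ZMod 2) x) = 2 ^ m := by
  have h1 : ∀ x : Fin m ⊕ Fin m → ZMod 2, chi (Cfsg.quadFormPlus m (ZMod 2) x) =
      ∏ i : Fin m, chi ((pairEquiv m x i).1 * (pairEquiv m x i).2) := by
    intro x
    rw [Cfsg.quadFormPlus, chi_sum]
    rfl
  rw [Finset.sum_congr rfl (fun x _ => h1 x),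
    Equiv.sum_comp (pairEquiv m) (fun y => ∏ i : Fin m, chi ((y i).1 * (y i).2))]
  have h2 := Finset.prod_univ_sum (fun _ : Fin m => (Finset.univ : Finset (ZMod 2 × ZMod 2)))
    (fun (_ : Fin m) (p : ZMod 2 × ZMod 2) => chi (p.1 * p.2))
  rw [Fintype.piFinset_univ] at h2
  rw [← h2]
  have h3 : ∑ p : ZMod 2 × ZMod 2, chi (p.1 * p.2) = 2 := by decide
  rw [Finset.prod_congr rfl (fun _ _ => h3)]
  simp

theorem sum_chi_minus (k : ℕ) :
    ∑ x : (Fin k ⊕ Fin k) ⊕ Fin 2 → ZMod 2, chi (Cfsg.quadFormMinus k (ZMod 2) 1 1 x) =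
      -2 * 2 ^ k := by
  have h1 : ∀ x : (Fin k ⊕ Fin k) ⊕ Fin 2 → ZMod 2, chi (Cfsg.quadFormMinus k (ZMod 2) 1 1 x) =
      chi (Cfsg.quadFormPlus k (ZMod 2)
        ((Equiv.sumArrowEquivProdArrow (Fin k ⊕ Fin k) (Fin 2) (ZMod 2) x).1)) *
      chi (((Equiv.sumArrowEquivProdArrow (Fin k ⊕ Fin k) (Fin 2) (ZMod 2) x).2 0) ^ 2 +
        1 * ((Equiv.sumArrowEquivProdArrow (Fin k ⊕ Fin k) (Fin 2) (ZMod 2) x).2 0) *
          ((Equiv.sumArrowEquivProdArrow (Fin k ⊕ Fin k) (Fin 2) (ZMod 2) x).2 1) +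
        1 * ((Equiv.sumArrowEquivProdArrow (Fin k ⊕ Fin k) (Fin 2) (ZMod 2) x).2 1) ^ 2) := by
    intro x
    rw [Cfsg.quadFormMinus, chi_add]
    rfl
  rw [Finset.sum_congr rfl (fun x _ => h1 x),
    Equiv.sum_comp (Equiv.sumArrowEquivProdArrow (Fin k ⊕ Fin k) (Fin 2) (ZMod 2))
      (fun p : (Fin k ⊕ Fin k → ZMod 2) × (Fin 2 → ZMod 2) =>
        chi (Cfsg.quadFormPlus k (ZMod 2) p.1) *
          chi ((p.2 0) ^ 2 + 1 * (p.2 0) * (p.2 1) + 1 * (p.2 1) ^ 2)),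
    Fintype.sum_prod_type]
  simp only [← Finset.mul_sum]
  rw [← Finset.sum_mul, sum_chi_plus]
  have h3 : ∑ w : Fin 2 → ZMod 2, chi ((w 0) ^ 2 + 1 * (w 0) * (w 1) + 1 * (w 1) ^ 2) = -2 := by
    decide
  rw [h3]
  ring

end Cfsg.Agent.Lib.Helper5.EvenCode
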