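import Mathlib

set_option autoImplicit false

/-! The fundamental theorem of projective geometry, part 1: independence and the local lift. -/

namespace Cfsg.Agent.Lib.Helper5.FTPG

section
variable {F : Type*} [Field F] {V : Type*} [AddCommGroup V] [Module F V]

/-- two vectors are linearly independent -/
def Indep2 (x y : V) : Prop := ∀ a b : F, a • x + b • y = 0 → a = 0 ∧ b = 0

/-- three vectors are linearly independent -/
def Indep3 (x y z : V) : Prop :=
  ∀ a b c : F, a • x + b • y + c • z = 0 → a = 0 ∧ b = 0 ∧ c = 0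

theorem Indep2.left_ne {x y : V} (h : Indep2 (F := F) x y) : x ≠ 0 := by
  intro h0
  have := (h 1 0 (by rw [h0, smul_zero, zero_smul, add_zero])).1
  exact one_ne_zero this

theorem Indep2.right_ne {x y : V} (h : Indep2 (F := F) x y) : y ≠ 0 := by
  intro h0
  have := (h 0 1 (by rw [h0, smul_zero, zero_smul, add_zero])).2
  exact one_ne_zero this

theorem Indep2.symm {x y : V} (h : Indep2 (F := F) x y) : Indep2 (F := F) y x := by
  intro a b hab
  have := h b a (by rw [add_comm]; exact hab)
  exact ⟨this.2, this.1⟩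

theorem indep2_iff {x y : V} (hx : x ≠ 0) : Indep2 (F := F) x y ↔ ∀ a : F, y ≠ a • x := by
  constructor
  · intro h a hy
    have := (h a (-1) (by rw [hy, neg_smul, one_smul, add_neg_cancel])).2
    exact one_ne_zero (neg_eq_zero.1 this)
  · intro h a b hab
    have hb : b = 0 := by
      by_contra hb
      apply h (-(b⁻¹ * a))
      have h1 : b • y = -(a • x) := by
        rw [eq_neg_iff_add_eq_zero, add_comm]
        exact hab
      calc y = b⁻¹ • (b • y) := by rw [smul_smul, inv_mul_cancel₀ hb, one_smul]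
        _ = -(b⁻¹ * a) • x := by rw [h1, smul_neg, smul_smul, neg_smul]
    subst hb
    rw [zero_smul, add_zero, smul_eq_zero] at hab
    rcases hab with hab | hab
    · exact ⟨hab, rfl⟩
    · exact absurd hab hx

theorem Indep2.not_smul {x y : V} (h : Indep2 (F := F) x y) (a : F) : y ≠ a • x :=
  (indep2_iff h.left_ne).1 h a

theorem Indep2.eq {x y : V} (h : Indep2 (F := F) x y) {a b a' b' : F}
    (he : a • x + b • y = a' • x + b' • y) : a = a' ∧ b = b' := by
  have := h (a - a') (b - b') (by
    rw [sub_smul, sub_smul]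
    have : a • x - a' • x + (b • y - b' • y) = (a • x + b • y) - (a' • x + b' • y) := by abel
    rw [this, he, sub_self])
  exact ⟨sub_eq_zero.1 this.1, sub_eq_zero.1 this.2⟩

theorem Indep2.smul {x y : V} (h : Indep2 (F := F) x y) {a b : F} (ha : a ≠ 0) (hb : b ≠ 0) :
    Indep2 (F := F) (a • x) (b • y) := by
  intro c e hce
  rw [smul_smul, smul_smul] at hce
  have := h _ _ hce
  exact ⟨(mul_eq_zero.1 this.1).resolve_right ha, (mul_eq_zero.1 this.2).resolve_right hb⟩

theorem Indep3.indep12 {x y z : V} (h : Indep3 (F := F) x y z) : Indep2 (F := F) x y := by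
  intro a b hab
  have := h a b 0 (by rw [zero_smul, add_zero]; exact hab)
  exact ⟨this.1, this.2.1⟩

theorem Indep3.indep13 {x y z : V} (h : Indep3 (F := F) x y z) : Indep2 (F := F) x z := by
  intro a b hab
  have := h a 0 b (by rw [zero_smul, add_zero]; exact hab)
  exact ⟨this.1, this.2.2⟩

theorem Indep3.indep23 {x y z : V} (h : Indep3 (F := F) x y z) : Indep2 (F := F) y z := by
  intro a b hab
  have := h 0 a b (by rw [zero_smul, zero_add]; exact hab)
  exact ⟨this.2.1, this.2.2⟩

theorem indep3_iff {x y z : V} (hxy : Indep2 (F := F) x y) :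
    Indep3 (F := F) x y z ↔ ∀ a b : F, z ≠ a • x + b • y := by
  constructor
  · intro h a b hz
    have := (h a b (-1) (by rw [hz, neg_smul, one_smul, add_neg_cancel])).2.2
    exact one_ne_zero (neg_eq_zero.1 this)
  · intro h a b c habc
    have hc : c = 0 := by
      by_contra hc
      apply h (-(c⁻¹ * a)) (-(c⁻¹ * b))
      have h1 : c • z = -(a • x + b • y) := by
        rw [eq_neg_iff_add_eq_zero, add_comm]
        exact habc
      calc z = c⁻¹ • (c • z) := by rw [smul_smul, inv_mul_cancel₀ hc, one_smul]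
        _ = -(c⁻¹ * a) • x + -(c⁻¹ * b) • y := by
          rw [h1, smul_neg, smul_add, smul_smul, smul_smul, neg_smul, neg_smul, neg_add]
    subst hc
    rw [zero_smul, add_zero] at habc
    have := hxy a b habc
    exact ⟨this.1, this.2, rfl⟩

theorem Indep3.not_mem {x y z : V} (h : Indep3 (F := F) x y z) (a b : F) : z ≠ a • x + b • y :=
  (indep3_iff h.indep12).1 h a b

theorem Indep3.eq {x y z : V} (h : Indep3 (F := F) x y z) {a b c a' b' c' : F}
    (he : a • x + b • y + c • z = a' • x + b' • y + c' • z) : a = a' ∧ b = b' ∧ c = c' := by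
  have := h (a - a') (b - b') (c - c') (by
    rw [sub_smul, sub_smul, sub_smul]
    have : a • x - a' • x + (b • y - b' • y) + (c • z - c' • z)
        = (a • x + b • y + c • z) - (a' • x + b' • y + c' • z) := by abel
    rw [this, he, sub_self])
  exact ⟨sub_eq_zero.1 this.1, sub_eq_zero.1 this.2.1, sub_eq_zero.1 this.2.2⟩

theorem Indep3.smul {x y z : V} (h : Indep3 (F := F) x y z) {a b c : F} (ha : a ≠ 0) (hb : b ≠ 0)
    (hc : c ≠ 0) : Indep3 (F := F) (a • x) (b • y) (c • z) := by
  intro a' b' c' he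
  rw [smul_smul, smul_smul, smul_smul] at he
  have := h _ _ _ he
  exact ⟨(mul_eq_zero.1 this.1).resolve_right ha, (mul_eq_zero.1 this.2.1).resolve_right hb,
    (mul_eq_zero.1 this.2.2).resolve_right hc⟩

theorem Indep3.swap23 {x y z : V} (h : Indep3 (F := F) x y z) : Indep3 (F := F) x z y := by
  intro a b c he
  have := h a c b (by rw [← he]; abel)
  exact ⟨this.1, this.2.2, this.2.1⟩

/-- a collineation, given on vectors -/
structure Coll (π : V → V) : Prop where
  ne : ∀ x, x ≠ 0 → π x ≠ 0
  col : ∀ x y z, x ≠ 0 → y ≠ 0 → z ≠ 0 →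
    ((∃ a b : F, z = a • x + b • y) ↔ ∃ a b : F, π z = a • π x + b • π y)

variable {π : V → V}

theorem Coll.pt (c : Coll (F := F) π) {x y : V} (hx : x ≠ 0) (hy : y ≠ 0) :
    (∃ a : F, y = a • x) ↔ ∃ a : F, π y = a • π x := by
  have := c.col x x y hx hx hy
  constructor
  · rintro ⟨a, ha⟩
    obtain ⟨a', b', h'⟩ := this.1 ⟨a, 0, by rw [zero_smul, add_zero]; exact ha⟩
    exact ⟨a' + b', by rw [add_smul]; exact h'⟩
  · rintro ⟨a, ha⟩
    obtain ⟨a', b', h'⟩ := this.2 ⟨a, 0, by rw [zero_smul, add_zero]; exact ha⟩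
    exact ⟨a' + b', by rw [add_smul]; exact h'⟩

theorem Coll.indep2 (c : Coll (F := F) π) {x y : V} (h : Indep2 (F := F) x y) :
    Indep2 (F := F) (π x) (π y) := by
  rw [indep2_iff (c.ne x h.left_ne)]
  intro a ha
  obtain ⟨a', ha'⟩ := (c.pt h.left_ne h.right_ne).2 ⟨a, ha⟩
  exact h.not_smul a' ha'

theorem Coll.indep3 (c : Coll (F := F) π) {x y z : V} (h : Indep3 (F := F) x y z) :
    Indep3 (F := F) (π x) (π y) (π z) := by
  rw [indep3_iff (c.indep2 h.indep12)]
  intro a b hab
  obtain ⟨a', b', h'⟩ := (c.col x y z h.indep12.left_ne h.indep12.right_ne h.indep13.right_ne).2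
    ⟨a, b, hab⟩
  exact h.not_mem a' b' h'

/-- the image of a nonzero multiple -/
theorem Coll.smul (c : Coll (F := F) π) {x : V} (hx : x ≠ 0) {a : F} (ha : a ≠ 0) :
    ∃ b : F, b ≠ 0 ∧ π (a • x) = b • π x := by
  have hax : a • x ≠ 0 := smul_ne_zero ha hx
  obtain ⟨b, hb⟩ := (c.pt hx hax).1 ⟨a, rfl⟩
  refine ⟨b, ?_, hb⟩
  rintro rfl
  rw [zero_smul] at hb
  exact c.ne _ hax hb

end

end Cfsg.Agent.Lib.Helper5.FTPG
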