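import Mathlib
import Cfsg.Agent.Lib.Helper5.FTPG1

set_option autoImplicit false

/-! The fundamental theorem of projective geometry, part 2: the local lift is additive. -/

namespace Cfsg.Agent.Lib.Helper5.FTPG

section
variable {F : Type*} [Field F] {V : Type*} [AddCommGroup V] [Module F V] {π : V → V}

/-- the defining property of the lift of `x` relative to the base point `x₀` -/
def LiftP (π : V → V) (x₀ x s : V) : Prop :=
  (∃ b : F, b ≠ 0 ∧ s = b • π x) ∧ ∃ a : F, a ≠ 0 ∧ π (x₀ + x) = a • (π x₀ + s)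

theorem Indep2.add_ne {x y : V} (h : Indep2 (F := F) x y) : x + y ≠ 0 := by
  intro h0
  have := (h 1 1 (by rw [one_smul, one_smul]; exact h0)).1
  exact one_ne_zero this

theorem Coll.exists_lift (c : Coll (F := F) π) {x₀ x : V} (h : Indep2 (F := F) x₀ x) :
    ∃ s, LiftP (F := F) π x₀ x s := by
  have hx₀ := h.left_ne
  have hx := h.right_ne
  have hsum : x₀ + x ≠ 0 := h.add_ne
  obtain ⟨a, b, hab⟩ := (c.col x₀ x (x₀ + x) hx₀ hx hsum).1 ⟨1, 1, by rw [one_smul, one_smul]⟩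
  have ha : a ≠ 0 := by
    rintro rfl
    rw [zero_smul, zero_add] at hab
    obtain ⟨t, ht⟩ := (c.pt hx hsum).2 ⟨b, hab⟩
    have := (h 1 (1 - t) (by rw [sub_smul, one_smul, one_smul, ← ht]; abel)).1
    exact one_ne_zero this
  have hb : b ≠ 0 := by
    rintro rfl
    rw [zero_smul, add_zero] at hab
    obtain ⟨t, ht⟩ := (c.pt hx₀ hsum).2 ⟨a, hab⟩
    have := (h (1 - t) 1 (by rw [sub_smul, one_smul, one_smul, ← ht]; abel)).2
    exact one_ne_zero this
  refine ⟨(a⁻¹ * b) • π x, ⟨a⁻¹ * b, mul_ne_zero (inv_ne_zero ha) hb, rfl⟩, a, ha, ?_⟩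
  rw [hab, smul_add, smul_smul, ← mul_assoc, mul_inv_cancel₀ ha, one_mul]

theorem Coll.lift_unique (c : Coll (F := F) π) {x₀ x : V} (h : Indep2 (F := F) x₀ x) {s s' : V}
    (hs : LiftP (F := F) π x₀ x s) (hs' : LiftP (F := F) π x₀ x s') : s = s' := by
  obtain ⟨⟨b, hb, rfl⟩, a, ha, h1⟩ := hs
  obtain ⟨⟨b', hb', rfl⟩, a', ha', h2⟩ := hs'
  have hI := c.indep2 h
  rw [h1] at h2
  have h3 : a • π x₀ + (a * b) • π x = a' • π x₀ + (a' * b') • π x := by
    rw [mul_smul, mul_smul, ← smul_add, ← smul_add]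
    exact h2
  obtain ⟨e1, e2⟩ := hI.eq h3
  rw [← e1] at e2
  have : b = b' := mul_left_cancel₀ ha e2
  rw [this]

open Classical in
/-- the lift of `x` relative to the base point `x₀` -/
noncomputable def lift (c : Coll (F := F) π) (x₀ x : V) : V :=
  if h : Indep2 (F := F) x₀ x then Classical.choose (c.exists_lift h) else 0

theorem lift_spec (c : Coll (F := F) π) {x₀ x : V} (h : Indep2 (F := F) x₀ x) :
    LiftP (F := F) π x₀ x (lift c x₀ x) := by
  unfold lift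
  rw [dif_pos h]
  exact Classical.choose_spec (c.exists_lift h)

theorem lift_eq (c : Coll (F := F) π) {x₀ x : V} (h : Indep2 (F := F) x₀ x) {s : V}
    (hs : LiftP (F := F) π x₀ x s) : lift c x₀ x = s :=
  c.lift_unique h (lift_spec c h) hs

theorem lift_of_not (c : Coll (F := F) π) {x₀ x : V} (h : ¬ Indep2 (F := F) x₀ x) :
    lift c x₀ x = 0 := by
  unfold lift
  rw [dif_neg h]

theorem lift_ne_zero (c : Coll (F := F) π) {x₀ x : V} (h : Indep2 (F := F) x₀ x) :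
    lift c x₀ x ≠ 0 := by
  obtain ⟨⟨b, hb, hs⟩, -⟩ := lift_spec c h
  rw [hs]
  exact smul_ne_zero hb (c.ne x h.right_ne)

theorem Indep3.indep_add {x y z : V} (h : Indep3 (F := F) x y z) : Indep2 (F := F) x (y + z) := by
  intro a b hab
  have := h a b b (by rw [← hab, smul_add]; abel)
  exact ⟨this.1, this.2.1⟩

theorem Indep3.smul23 {x y z : V} (h : Indep3 (F := F) x y z) {b c : F} (hb : b ≠ 0)
    (hc : c ≠ 0) : Indep3 (F := F) x (b • y) (c • z) := by
  have := h.smul (one_ne_zero (α := F)) hb hc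
  rwa [one_smul] at this

/-- the lift is additive on independent vectors -/
theorem lift_add (c : Coll (F := F) π) {x₀ x x' : V} (h : Indep3 (F := F) x₀ x x') :
    lift c x₀ (x + x') = lift c x₀ x + lift c x₀ x' := by
  have h12 := h.indep12
  have h13 := h.indep13
  have h23 := h.indep23
  have hx₀ := h12.left_ne
  have hx := h12.right_ne
  have hx' := h13.right_ne
  obtain ⟨⟨b, hb, hs⟩, a, ha, h1⟩ := lift_spec c h12
  obtain ⟨⟨b', hb', hs'⟩, a', ha', h1'⟩ := lift_spec c h13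
  obtain ⟨s, hsdef⟩ : ∃ s, s = lift c x₀ x := ⟨_, rfl⟩
  obtain ⟨s', hs'def⟩ : ∃ s', s' = lift c x₀ x' := ⟨_, rfl⟩
  rw [← hsdef] at hs h1 ⊢
  rw [← hs'def] at hs' h1' ⊢
  have hπx : π x = b⁻¹ • s := by rw [hs, smul_smul, inv_mul_cancel₀ hb, one_smul]
  have hπx' : π x' = b'⁻¹ • s' := by rw [hs', smul_smul, inv_mul_cancel₀ hb', one_smul]
  have I3 : Indep3 (F := F) (π x₀) s s' := by
    rw [hs, hs']
    exact (c.indep3 h).smul23 hb hb'
  -- the sum is nonzero
  have hsum : x₀ + x + x' ≠ 0 := by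
    intro h0
    have := (h 1 1 1 (by rw [one_smul, one_smul, one_smul]; exact h0)).1
    exact one_ne_zero this
  have hx₀x : x₀ + x ≠ 0 := h12.add_ne
  have hx₀x' : x₀ + x' ≠ 0 := h13.add_ne
  have hxx' : x + x' ≠ 0 := h23.add_ne
  obtain ⟨z, hz⟩ : ∃ z, z = π (x₀ + x + x') := ⟨_, rfl⟩
  -- first decomposition
  obtain ⟨α, β, e1⟩ := (c.col (x₀ + x) x' (x₀ + x + x') hx₀x hx' hsum).1
    ⟨1, 1, by rw [one_smul, one_smul]⟩
  rw [h1, hπx', ← hz] at e1
  -- second decomposition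
  obtain ⟨γ, δ, e2⟩ := (c.col (x₀ + x') x (x₀ + x + x') hx₀x' hx hsum).1
    ⟨1, 1, by rw [one_smul, one_smul]; abel⟩
  rw [h1', hπx, ← hz] at e2
  have e3 : (α * a) • π x₀ + (α * a) • s + (β * b'⁻¹) • s'
      = (γ * a') • π x₀ + (δ * b⁻¹) • s + (γ * a') • s' := by
    have : z = z := rfl
    nth_rewrite 1 [e1] at this
    nth_rewrite 1 [e2] at this
    linear_combination (norm := module) this
  obtain ⟨k1, k2, k3⟩ := I3.eq e3
  obtain ⟨k, hk⟩ : ∃ k, k = α * a := ⟨_, rfl⟩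
  have hzk : z = k • (π x₀ + (s + s')) := by
    rw [e1, hk]
    linear_combination (norm := module) (k3.trans k1.symm) • s'
  have hk0 : k ≠ 0 := by
    rintro rfl
    rw [zero_smul] at hzk
    rw [hzk] at hz
    exact c.ne _ hsum hz.symm
  -- third decomposition
  obtain ⟨l, m, e4⟩ := (c.col x x' (x + x') hx hx' hxx').1 ⟨1, 1, by rw [one_smul, one_smul]⟩
  rw [hπx, hπx'] at e4
  obtain ⟨e₁, e₂, e5⟩ := (c.col x₀ (x + x') (x₀ + x + x') hx₀ hxx' hsum).1
    ⟨1, 1, by rw [one_smul, one_smul, add_assoc]⟩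
  rw [e4, ← hz] at e5
  have e6 : e₁ • π x₀ + (e₂ * l * b⁻¹) • s + (e₂ * m * b'⁻¹) • s'
      = k • π x₀ + k • s + k • s' := by
    have : z = z := rfl
    nth_rewrite 1 [e5] at this
    nth_rewrite 1 [hzk] at this
    linear_combination (norm := module) this
  obtain ⟨j1, j2, j3⟩ := I3.eq e6
  have he₂ : e₂ ≠ 0 := by
    rintro rfl
    rw [zero_mul, zero_mul] at j2
    exact hk0 j2.symm
  apply lift_eq c h.indep_add
  refine ⟨⟨e₂ * k⁻¹, mul_ne_zero he₂ (inv_ne_zero hk0), ?_⟩, k, hk0, ?_⟩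
  · rw [e4]
    have j2' : (e₂ * k⁻¹) * (l * b⁻¹) = 1 := by
      have : (e₂ * k⁻¹) * (l * b⁻¹) = k⁻¹ * (e₂ * l * b⁻¹) := by ring
      rw [this, j2, inv_mul_cancel₀ hk0]
    have j3' : (e₂ * k⁻¹) * (m * b'⁻¹) = 1 := by
      have : (e₂ * k⁻¹) * (m * b'⁻¹) = k⁻¹ * (e₂ * m * b'⁻¹) := by ring
      rw [this, j3, inv_mul_cancel₀ hk0]
    linear_combination (norm := module) j2'.symm • s + j3'.symm • s'
  · rw [← add_assoc, ← hz]
    exact hzk

end

end Cfsg.Agent.Lib.Helper5.FTPG
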