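import Mathlib
import Cfsg.Agent.Lib.Helper5.FTPG2

set_option autoImplicit false

/-! The fundamental theorem of projective geometry, part 3: the accompanying field
automorphism. -/

namespace Cfsg.Agent.Lib.Helper5.FTPG

section
variable {F : Type*} [Field F] {V : Type*} [AddCommGroup V] [Module F V] {π : V → V}

theorem Indep2.smul_right {x y : V} (h : Indep2 (F := F) x y) {b : F} (hb : b ≠ 0) :
    Indep2 (F := F) x (b • y) := by
  have := h.smul (one_ne_zero (α := F)) hb
  rwa [one_smul] at this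

theorem lift_zero (c : Coll (F := F) π) (x₀ : V) : lift c x₀ 0 = 0 := by
  apply lift_of_not
  intro h
  exact h.right_ne rfl

theorem lift_smul_exists (c : Coll (F := F) π) {x₀ x : V} (h : Indep2 (F := F) x₀ x) {a : F}
    (ha : a ≠ 0) : ∃ t : F, t ≠ 0 ∧ lift c x₀ (a • x) = t • lift c x₀ x := by
  obtain ⟨⟨b, hb, hs⟩, -⟩ := lift_spec c h
  obtain ⟨⟨b₁, hb₁, hs₁⟩, -⟩ := lift_spec c (h.smul_right ha)
  obtain ⟨b₂, hb₂, h2⟩ := c.smul h.right_ne ha
  refine ⟨b₁ * b₂ * b⁻¹, mul_ne_zero (mul_ne_zero hb₁ hb₂) (inv_ne_zero hb), ?_⟩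
  rw [hs₁, h2, hs, smul_smul, smul_smul]
  congr 1
  field_simp

theorem Indep3.lift_indep (c : Coll (F := F) π) {x₀ x x' : V} (h : Indep3 (F := F) x₀ x x') :
    Indep3 (F := F) (π x₀) (lift c x₀ x) (lift c x₀ x') := by
  obtain ⟨⟨b, hb, hs⟩, -⟩ := lift_spec c h.indep12
  obtain ⟨⟨b', hb', hs'⟩, -⟩ := lift_spec c h.indep13
  rw [hs, hs']
  exact (c.indep3 h).smul23 hb hb'

/-- the multipliers along independent vectors agree -/
theorem lift_mult_eq (c : Coll (F := F) π) {x₀ x x' : V} (h : Indep3 (F := F) x₀ x x') {a : F}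
    (ha : a ≠ 0) {t t' : F} (ht : lift c x₀ (a • x) = t • lift c x₀ x)
    (ht' : lift c x₀ (a • x') = t' • lift c x₀ x') : t = t' := by
  have h1 : lift c x₀ (a • x + a • x') = lift c x₀ (a • x) + lift c x₀ (a • x') :=
    lift_add c (h.smul23 ha ha)
  obtain ⟨t'', -, h2⟩ := lift_smul_exists c h.indep_add ha
  rw [smul_add, h1, ht, ht', lift_add c h, smul_add] at h2
  have := (h.lift_indep c).indep23.eq h2
  rw [this.1, this.2]

open Classical in
/-- the field map accompanying the collineation -/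
noncomputable def tau (c : Coll (F := F) π) {x₀ x₁ : V} (h01 : Indep2 (F := F) x₀ x₁) (a : F) : F :=
  if ha : a = 0 then 0 else Classical.choose (lift_smul_exists c h01 ha)

theorem tau_zero (c : Coll (F := F) π) {x₀ x₁ : V} (h01 : Indep2 (F := F) x₀ x₁) :
    tau c h01 0 = 0 := by
  unfold tau
  rw [dif_pos rfl]

theorem tau_spec (c : Coll (F := F) π) {x₀ x₁ : V} (h01 : Indep2 (F := F) x₀ x₁) {a : F}
    (ha : a ≠ 0) : tau c h01 a ≠ 0 ∧ lift c x₀ (a • x₁) = tau c h01 a • lift c x₀ x₁ := by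
  unfold tau
  rw [dif_neg ha]
  exact Classical.choose_spec (lift_smul_exists c h01 ha)

/-- the lift is semilinear along every vector off the base point -/
theorem lift_smul (c : Coll (F := F) π) {x₀ x₁ x₂ : V} (h : Indep3 (F := F) x₀ x₁ x₂) {x : V}
    (hx : Indep2 (F := F) x₀ x) (a : F) :
    lift c x₀ (a • x) = tau c h.indep12 a • lift c x₀ x := by
  by_cases ha : a = 0
  · rw [ha, zero_smul, lift_zero, tau_zero, zero_smul]
  obtain ⟨t, -, ht⟩ := lift_smul_exists c hx ha
  obtain ⟨-, h1⟩ := tau_spec c h.indep12 ha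
  by_cases h3 : Indep3 (F := F) x₀ x₁ x
  · rw [ht, lift_mult_eq c h3 ha h1 ht]
  · rw [indep3_iff h.indep12] at h3
    push Not at h3
    obtain ⟨α, β, hαβ⟩ := h3
    have hβ : β ≠ 0 := by
      rintro rfl
      rw [zero_smul, add_zero] at hαβ
      exact hx.not_smul α hαβ
    have h4 : Indep3 (F := F) x₀ x₂ x := by
      intro a' b' c' he
      rw [hαβ] at he
      have := h (a' + c' * α) (c' * β) b' (by
        rw [← he]
        module)
      have hc' : c' = 0 := (mul_eq_zero.1 this.2.1).resolve_right hβ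
      refine ⟨?_, this.2.2, hc'⟩
      have := this.1
      rw [hc', zero_mul, add_zero] at this
      exact this
    obtain ⟨t₂, -, ht₂⟩ := lift_smul_exists c h.indep13 ha
    rw [ht, lift_mult_eq c h ha h1 ht₂, lift_mult_eq c h4 ha ht₂ ht]

theorem tau_one (c : Coll (F := F) π) {x₀ x₁ : V} (h01 : Indep2 (F := F) x₀ x₁) :
    tau c h01 1 = 1 := by
  obtain ⟨-, h1⟩ := tau_spec c h01 (one_ne_zero (α := F))
  rw [one_smul] at h1
  have h2 : (tau c h01 1 - 1) • lift c x₀ x₁ = 0 := by
    rw [sub_smul, one_smul, ← h1, sub_self]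
  rcases smul_eq_zero.1 h2 with h3 | h3
  · exact sub_eq_zero.1 h3
  · exact absurd h3 (lift_ne_zero c h01)

theorem tau_mul (c : Coll (F := F) π) {x₀ x₁ x₂ : V} (h : Indep3 (F := F) x₀ x₁ x₂) (a b : F) :
    tau c h.indep12 (a * b) = tau c h.indep12 a * tau c h.indep12 b := by
  by_cases ha : a = 0
  · rw [ha, zero_mul, tau_zero, zero_mul]
  by_cases hb : b = 0
  · rw [hb, mul_zero, tau_zero, mul_zero]
  have h1 := lift_smul c h h.indep12 (a * b)
  rw [mul_smul, lift_smul c h (h.indep12.smul_right hb) a, lift_smul c h h.indep12 b,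
    smul_smul] at h1
  have h2 : (tau c h.indep12 a * tau c h.indep12 b - tau c h.indep12 (a * b)) • lift c x₀ x₁
      = 0 := by
    rw [sub_smul, h1, sub_self]
  rcases smul_eq_zero.1 h2 with h3 | h3
  · exact (sub_eq_zero.1 h3).symm
  · exact absurd h3 (lift_ne_zero c h.indep12)

theorem lift_smul_add (c : Coll (F := F) π) {x₀ x₁ x₂ : V} (h : Indep3 (F := F) x₀ x₁ x₂)
    (a : F) : lift c x₀ (a • x₁ + x₂) = tau c h.indep12 a • lift c x₀ x₁ + lift c x₀ x₂ := by
  by_cases ha : a = 0
  · rw [ha, zero_smul, zero_add, tau_zero, zero_smul, zero_add]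
  have h1 : Indep3 (F := F) x₀ (a • x₁) x₂ := by
    have := h.smul23 ha (one_ne_zero (α := F))
    rwa [one_smul] at this
  rw [lift_add c h1, lift_smul c h h.indep12]

theorem tau_add (c : Coll (F := F) π) {x₀ x₁ x₂ : V} (h : Indep3 (F := F) x₀ x₁ x₂) (a b : F) :
    tau c h.indep12 (a + b) = tau c h.indep12 a + tau c h.indep12 b := by
  by_cases ha : a = 0
  · rw [ha, zero_add, tau_zero, zero_add]
  have h1 : Indep3 (F := F) x₀ (a • x₁) (b • x₁ + x₂) := by
    intro a' b' c' he
    have := h a' (b' * a + c' * b) c' (by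
      rw [← he]
      module)
    have hc' : c' = 0 := this.2.2
    refine ⟨this.1, ?_, hc'⟩
    have h2 := this.2.1
    rw [hc', zero_mul, add_zero] at h2
    exact (mul_eq_zero.1 h2).resolve_right ha
  have h2 := lift_smul_add c h (a + b)
  have h3 : (a + b) • x₁ + x₂ = a • x₁ + (b • x₁ + x₂) := by module
  rw [h3, lift_add c h1, lift_smul c h h.indep12, lift_smul_add c h b] at h2
  have h4 : (tau c h.indep12 a + tau c h.indep12 b - tau c h.indep12 (a + b)) • lift c x₀ x₁
      = 0 := by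
    linear_combination (norm := module) h2
  rcases smul_eq_zero.1 h4 with h5 | h5
  · exact (sub_eq_zero.1 h5).symm
  · exact absurd h5 (lift_ne_zero c h.indep12)

/-- the accompanying field endomorphism -/
noncomputable def tauHom (c : Coll (F := F) π) {x₀ x₁ x₂ : V} (h : Indep3 (F := F) x₀ x₁ x₂) :
    F →+* F where
  toFun := tau c h.indep12
  map_one' := tau_one c h.indep12
  map_mul' := tau_mul c h
  map_zero' := tau_zero c h.indep12
  map_add' := tau_add c h

theorem tauHom_apply (c : Coll (F := F) π) {x₀ x₁ x₂ : V} (h : Indep3 (F := F) x₀ x₁ x₂) (a : F) :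
    tauHom c h a = tau c h.indep12 a := rfl

end

end Cfsg.Agent.Lib.Helper5.FTPG
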