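import Mathlib
import Cfsg.Agent.Lib.Helper5.FTPG3

set_option autoImplicit false

/-! The fundamental theorem of projective geometry, part 4: the semilinear map. -/

namespace Cfsg.Agent.Lib.Helper5.FTPG

section
variable {F : Type*} [Field F] {V : Type*} [AddCommGroup V] [Module F V] {π : V → V}

theorem indep2_of_ker {x₀ : V} {lam : V →ₗ[F] F} (hlam : lam x₀ = 1) {w : V} (hw : lam w = 0)
    (hw0 : w ≠ 0) : Indep2 (F := F) x₀ w := by
  intro a b hab
  have h1 := congrArg lam hab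
  rw [map_add, map_smul, map_smul, hlam, hw, map_zero, smul_eq_mul, smul_eq_mul, mul_one,
    mul_zero, add_zero] at h1
  subst h1
  rw [zero_smul, zero_add, smul_eq_zero] at hab
  exact ⟨rfl, hab.resolve_right hw0⟩

theorem indep3_of_ker {x₀ : V} {lam : V →ₗ[F] F} (hlam : lam x₀ = 1) {w w' : V} (hw : lam w = 0)
    (hw' : lam w' = 0) (hww' : Indep2 (F := F) w w') : Indep3 (F := F) x₀ w w' := by
  intro a b c' habc
  have h1 := congrArg lam habc
  rw [map_add, map_add, map_smul, map_smul, map_smul, hlam, hw, hw', map_zero, smul_eq_mul,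
    smul_eq_mul, smul_eq_mul, mul_one, mul_zero, mul_zero, add_zero, add_zero] at h1
  subst h1
  rw [zero_smul, zero_add] at habc
  have := hww' b c' habc
  exact ⟨rfl, this.1, this.2⟩

theorem lift_smul_ker (c : Coll (F := F) π) {x₀ x₁ x₂ : V} (h : Indep3 (F := F) x₀ x₁ x₂)
    {lam : V →ₗ[F] F} (hlam : lam x₀ = 1) {w : V} (hw : lam w = 0) (a : F) :
    lift c x₀ (a • w) = tau c h.indep12 a • lift c x₀ w := by
  by_cases hw0 : w = 0
  · rw [hw0, smul_zero, lift_zero, smul_zero]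
  exact lift_smul c h (indep2_of_ker hlam hw hw0) a

theorem lift_add_ker (c : Coll (F := F) π) {x₀ x₁ x₂ : V} (h : Indep3 (F := F) x₀ x₁ x₂)
    {lam : V →ₗ[F] F} (hlam : lam x₀ = 1) {w w' : V} (hw : lam w = 0) (hw' : lam w' = 0) :
    lift c x₀ (w + w') = lift c x₀ w + lift c x₀ w' := by
  by_cases hw0 : w = 0
  · rw [hw0, zero_add, lift_zero, zero_add]
  by_cases hww' : Indep2 (F := F) w w'
  · exact lift_add c (indep3_of_ker hlam hw hw' hww')
  · rw [indep2_iff hw0] at hww'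
    push Not at hww'
    obtain ⟨t, rfl⟩ := hww'
    have h1 : w + t • w = (1 + t) • w := by rw [add_smul, one_smul]
    rw [h1, lift_smul_ker c h hlam hw, lift_smul_ker c h hlam hw, tau_add c h, tau_one, add_smul,
      one_smul]

/-- the global semilinear map -/
noncomputable def glob (c : Coll (F := F) π) {x₀ x₁ x₂ : V} (h : Indep3 (F := F) x₀ x₁ x₂)
    (lam : V →ₗ[F] F) (v : V) : V :=
  tau c h.indep12 (lam v) • π x₀ + lift c x₀ (v - lam v • x₀)

theorem lam_proj {x₀ : V} {lam : V →ₗ[F] F} (hlam : lam x₀ = 1) (v : V) :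
    lam (v - lam v • x₀) = 0 := by
  rw [map_sub, map_smul, hlam, smul_eq_mul, mul_one, sub_self]

theorem glob_add (c : Coll (F := F) π) {x₀ x₁ x₂ : V} (h : Indep3 (F := F) x₀ x₁ x₂)
    {lam : V →ₗ[F] F} (hlam : lam x₀ = 1) (v v' : V) :
    glob c h lam (v + v') = glob c h lam v + glob c h lam v' := by
  unfold glob
  have h1 : v + v' - lam (v + v') • x₀ = (v - lam v • x₀) + (v' - lam v' • x₀) := by
    rw [map_add, add_smul]
    abel
  rw [h1, lift_add_ker c h hlam (lam_proj hlam v) (lam_proj hlam v'), map_add, tau_add c h,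
    add_smul]
  abel

theorem glob_smul (c : Coll (F := F) π) {x₀ x₁ x₂ : V} (h : Indep3 (F := F) x₀ x₁ x₂)
    {lam : V →ₗ[F] F} (hlam : lam x₀ = 1) (a : F) (v : V) :
    glob c h lam (a • v) = tau c h.indep12 a • glob c h lam v := by
  unfold glob
  have h1 : a • v - lam (a • v) • x₀ = a • (v - lam v • x₀) := by
    rw [map_smul, smul_eq_mul, smul_sub, smul_smul]
  rw [h1, lift_smul_ker c h hlam (lam_proj hlam v), map_smul, smul_eq_mul, tau_mul c h, smul_add,
    smul_smul]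

theorem tau_inv (c : Coll (F := F) π) {x₀ x₁ x₂ : V} (h : Indep3 (F := F) x₀ x₁ x₂) (a : F) :
    tau c h.indep12 a⁻¹ = (tau c h.indep12 a)⁻¹ :=
  map_inv₀ (tauHom c h) a

theorem glob_prop (c : Coll (F := F) π) {x₀ x₁ x₂ : V} (h : Indep3 (F := F) x₀ x₁ x₂)
    {lam : V →ₗ[F] F} (hlam : lam x₀ = 1) {v : V} (hv : v ≠ 0) :
    ∃ a : F, a ≠ 0 ∧ glob c h lam v = a • π v := by
  have hx₀ : x₀ ≠ 0 := h.indep12.left_ne
  obtain ⟨l, hl⟩ : ∃ l, l = lam v := ⟨_, rfl⟩
  obtain ⟨w, hwdef⟩ : ∃ w, w = v - l • x₀ := ⟨_, rfl⟩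
  have hw : lam w = 0 := by rw [hwdef, hl]; exact lam_proj hlam v
  have hv' : v = l • x₀ + w := by rw [hwdef]; abel
  have hg : glob c h lam v = tau c h.indep12 l • π x₀ + lift c x₀ w := by
    unfold glob
    rw [← hl, ← hwdef]
  rw [hg]
  by_cases hl0 : l = 0
  · rw [hl0, zero_smul, zero_add] at hv'
    rw [hl0, tau_zero, zero_smul, zero_add, ← hv']
    have hI := indep2_of_ker hlam (by rw [hv']; exact hw) hv
    obtain ⟨⟨b, hb, hs⟩, -⟩ := lift_spec c hI
    exact ⟨b, hb, hs⟩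
  have hτl : tau c h.indep12 l ≠ 0 := (tau_spec c h.indep12 hl0).1
  by_cases hw0 : w = 0
  · rw [hw0, add_zero] at hv'
    rw [hw0, lift_zero, add_zero, hv']
    obtain ⟨b, hb, h2⟩ := c.smul hx₀ hl0
    refine ⟨tau c h.indep12 l * b⁻¹, mul_ne_zero hτl (inv_ne_zero hb), ?_⟩
    rw [h2, smul_smul, mul_assoc, inv_mul_cancel₀ hb, mul_one]
  · have hI : Indep2 (F := F) x₀ (l⁻¹ • w) :=
      (indep2_of_ker hlam hw hw0).smul_right (inv_ne_zero hl0)
    obtain ⟨-, a, ha, h1⟩ := lift_spec c hI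
    rw [lift_smul_ker c h hlam hw, tau_inv c h] at h1
    have hv'' : v = l • (x₀ + l⁻¹ • w) := by
      rw [hv', smul_add, smul_smul, mul_inv_cancel₀ hl0, one_smul]
    obtain ⟨b, hb, h2⟩ := c.smul hI.add_ne hl0
    rw [← hv'', h1] at h2
    refine ⟨tau c h.indep12 l * (b * a)⁻¹,
      mul_ne_zero hτl (inv_ne_zero (mul_ne_zero hb ha)), ?_⟩
    rw [h2]
    obtain ⟨t, ht⟩ : ∃ t, t = tau c h.indep12 l := ⟨_, rfl⟩
    rw [← ht] at hτl ⊢
    have e1 : t * (b * a)⁻¹ * b * a = t := by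
      field_simp
    have e2 : t * (b * a)⁻¹ * b * a * t⁻¹ = 1 := by
      rw [e1, mul_inv_cancel₀ hτl]
    linear_combination (norm := module) (-e1) • π x₀ - e2 • lift c x₀ w

/-- **Fundamental theorem of projective geometry** (over a finite field): a map on vectors
which preserves collinearity of points in both directions is induced by a semilinear map. -/
theorem ftpg [Finite F] (c : Coll (F := F) π) (hdim : ∃ x y z : V, Indep3 (F := F) x y z) :
    ∃ (τ : F ≃+* F) (s : V → V), (∀ x y, s (x + y) = s x + s y) ∧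
      (∀ (a : F) x, s (a • x) = τ a • s x) ∧ ∀ x, x ≠ 0 → ∃ a : F, a ≠ 0 ∧ s x = a • π x := by
  obtain ⟨x₀, x₁, x₂, h⟩ := hdim
  have hx₀ : x₀ ≠ 0 := h.indep12.left_ne
  obtain ⟨lam, hlam⟩ := Module.Projective.exists_dual_eq_one F hx₀
  have hbij : Function.Bijective (tauHom c h) :=
    Finite.injective_iff_bijective.1 (tauHom c h).injective
  refine ⟨RingEquiv.ofBijective (tauHom c h) hbij, glob c h lam, glob_add c h hlam,
    fun a x => ?_, fun x hx => glob_prop c h hlam hx⟩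
  rw [glob_smul c h hlam]
  rfl

end

end Cfsg.Agent.Lib.Helper5.FTPG
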