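import Cfsg.Agent.Lib.Helper5.Srch2
import Cfsg.Agent.Lib.Helper5.Fi22Out3

set_option autoImplicit false
set_option maxRecDepth 100000
set_option maxHeartbeats 0

/-! # The group `Fi22`: certificates of searches and words (generated data) -/

namespace Cfsg.Agent.Lib.Helper5.Fi22Out

open Cfsg.Agent.Lib.Helper5.Srch

/-- a piece of a certificate -/
noncomputable def cCp_0 : Cert := (Cert.rl [(1, (.step [] (.step [] (.step [] (.step [] (.step [] (.done []))))))), (1, (.step [2] (.step [12] (.step [6, 5] (.step [] (.step [23] (.done [9, 9, 9, 9, 9, 9, 9, 9, 9, 9, 9, 9]))))))), (1, (.step [] .fail)), (1, (.step [2, 11] (.step [12, 12, 6, 20] (.step [13] (.step [5, 21] (.step [] (.done [9]))))))), (1, (.step [0, 2, 11] .fail)), (2, .fail), (1, (.step [0, 3, 20, 6] .fail)), (1, (.step [] (.step [12] (.step [6, 13] (.step [5, 23] (.step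 [] (.done [9, 9, 9, 9, 9, 9, 9, 9, 9, 9, 9]))))))), (1, .fail), (1, (.step [0, 2, 20, 2, 6] .fail)), (1, .fail), (1, (.step [2, 21, 15, 12, 6] .fail)), (2, .fail), (1, (.step [2, 20, 2, 6] (.step [4, 11, 4, 6] (.step [] (.step [5] (.step [] (.done [9, 9]))))))), (1, (.step [0, 2, 12, 6] .fail)), (1, (.step [] .fail)), (1, .fail), (1, (.step [0, 3, 20] .fail)), (1, (.step [0, 3, 15] .fail)), (2, .fail), (1, (.step [2, 20, 2, 15] .fail)), (2, .fail), (1, (.step [0, 3, 11] .fail)), (1, (.step [0, 3, 12, 6] .fail)), (1, (.step [0, 2, 20, 2] .fail)), (1, (.step [0, 2, 15, 2] .fail)), (1, (.step [2, 20, 2, 6] .fail)), (1, (.step [0, 3, 20, 6] .fail)), (1, (.step [3, 12, 3, 20, 15, 2] (.step [4, 5, 22, 4, 8] .fail))), (1, .fail), (1, (.step [0, 3, 11] .fail)), (1, (.step [2, 20, 2, 6, 15] .fail)), (1, (.step [2, 15, 2, 11, 6, 11, 15]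 .fail)), (1, .fail), (1, (.step [2, 15, 21, 3, 6, 15] .fail)), (1, (.step [2, 20, 2, 6, 15, 3] .fail)), (3, .fail), (1, (.step [3] .fail)), (1, (.step [0, 3, 20, 6] .fail)), (1, (.step [0, 2, 20, 2, 6] .fail)), (1, (.step [2, 20, 2, 15] .fail)), (1, (.step [2, 12, 6, 15] .fail)), (1, (.step [2, 11, 15] .fail)), (1, (.step [3, 12, 3, 20, 6, 15, 2] (.step [4, 5, 22, 15, 8, 12] .fail))), (1, (.step [0, 2, 15, 21, 3, 12, 6, 20] (.step [4, 5, 22, 15] .fail))), (1, (.step [3, 12, 15, 8] .fail)), (1, (.step [2, 20, 2, 6, 15] (.step [4, 22, 20, 4, 20] .fail))), (1, (.step [0, 3, 20, 6] .fail)), (1, (.step [0, 3, 20, 15, 20, 6] .fail)), (1, .fail), (1, (.step [2, 20, 6, 15, 3, 21, 6, 11] (.step [4, 8, 22, 21, 7] .fail))), (1, (.step [3] (.step [4, 12] (.step [6, 13] (.step [21] (.step [23] (.done [9, 9, 9, 9, 9, 9, 9, 9, 9, 9]))))))),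 (1, (.step [2, 12, 6, 20, 2, 20, 15] .fail)), (1, (.step [2, 20, 2, 6, 15] .fail)), (1, (.step [2, 20, 6, 15, 3, 7] .fail)), (1, (.step [2, 20, 2, 6, 15] .fail)), (2, .fail), (1, (.step [0, 3, 12] .fail)), (1, (.step [0, 2, 11] .fail)), (1, .fail), (1, (.step [2, 20, 2, 6, 15] .fail)), (1, (.step [2, 15, 2, 11, 6, 11, 15] .fail)), (1, .fail), (1, (.step [3, 12, 3, 20, 6, 15, 2] (.step [4, 5, 22, 4, 8] .fail))), (1, (.step [2, 21, 15, 12, 6] (.step [4, 22, 21, 11] .fail))), (1, (.step [3, 12, 6, 15, 8] .fail)), (1, (.step [2, 15, 2, 11, 6, 11, 15, 8] .fail)), (1, (.step [0, 3, 15] .fail)), (1, (.step [2, 11, 15, 21, 6, 11, 3] .fail)), (1, (.step [2, 15, 12, 2, 6, 15] .fail)), (1, (.step [0, 2, 20, 2, 6] (.step [15, 22, 11, 11] .fail))), (1, (.step [0, 2, 20, 15, 12, 3, 6] .fail)), (1, .fail), (1, (.step [3, 20, 6, 15, 3] .fail)),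 (1, (.step [0, 3, 20, 6, 15, 12] .fail)), (1, (.step [2, 15, 21, 3, 15] .fail)), (1, (.step [2, 20, 6, 15, 20, 15, 3] .fail)), (1, .fail), (1, (.step [2, 12, 6, 20, 2, 20, 15, 3] .fail)), (1, (.step [2, 15, 12, 2, 6, 15] .fail)), (1, .fail), (1, (.step [0, 3, 11] .fail)), (1, (.step [0, 2, 12, 6] .fail)), (1, (.step [0, 3, 12, 6] .fail)), (1, (.step [0, 3, 20] .fail)), (1, (.step [2, 11] .fail)), (1, (.step [0, 3, 20, 15, 20, 6] (.step [4, 22, 5, 21] .fail))), (2, .fail), (1, (.step [2, 12, 6, 20, 2, 20, 15] (.step [4, 15] .fail))), (1, (.step [2, 20, 2, 6, 15] .fail)), (1, (.step [0, 2, 15, 12, 15, 12, 6] .fail)), (1, .fail), (1, (.step [0, 2, 15, 21, 2, 6] (.step [11, 11, 6] .fail))), (1, (.step [2, 20, 2, 15] .fail)), (1, (.step [2, 20, 2, 6, 15, 5, 4] .fail)), (1, .fail), (1, (.step [2, 11, 15, 21, 6, 11] .fail)), (1, .fail),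 (1, (.step [2, 15, 2, 12, 6] .fail)), (1, (.step [2, 20, 6, 15, 12, 3, 20] .fail)), (1, .fail), (1, (.step [2, 20, 2, 6, 15] .fail)), (1, (.step [2, 20, 2, 6, 15, 3] .fail)), (1, (.step [3, 20, 6, 15] .fail)), (1, (.step [2, 20, 2, 15] .fail)), (1, (.step [2, 15, 21, 2, 6, 21, 15] .fail)), (1, (.step [2, 20, 2, 6, 11, 11, 15] .fail)), (1, (.step [2, 20, 15, 3, 7] .fail)), (1, .fail), (1, (.step [2, 20, 2, 15] .fail)), (1, (.step [2, 15, 12, 3, 6, 15] .fail)), (1, (.step [0, 2, 12, 12, 6, 15] .fail)), (1, .fail), (1, (.step [0, 3, 20, 6] .fail)), (1, (.step [2, 12, 6, 15] .fail)), (1, (.step [3, 20, 6, 15, 3] .fail)), (1, (.step [2, 11, 15] .fail)), (1, (.step [3, 12, 6, 20, 2, 15] .fail)), (1, (.step [2, 15, 2, 11, 6, 11, 15] .fail)), (1, .fail), (1, (.step [0, 2, 20, 2, 6] .fail)), (1, (.step [0, 3, 20, 6] .fail)), (1, (.step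 [0, 3, 12, 6, 21, 2] .fail)), (1, (.step [2, 20, 2, 6, 15] .fail)), (1, (.step [2, 15, 12, 2, 15] (.step [12, 22, 11, 11, 11] .fail))), (1, .fail), (1, (.step [0, 2, 20, 2] .fail)), (1, (.step [0, 2, 12, 20, 15, 11, 6] (.step [12, 22, 4, 20] .fail))), (1, (.step [2, 15, 2, 11, 6, 11, 15] .fail)), (1, (.step [2, 15, 12, 6, 15, 3] .fail)), (1, (.step [0, 2, 12, 12, 6, 15, 21, 15] .fail)), (1, (.step [2, 20, 6, 15, 3, 21, 6, 11] (.step [4, 8, 22, 21, 7] .fail))), (1, (.step [3, 20, 15, 2, 21, 6, 11] .fail)), (1, (.step [2, 12, 6, 21] (.step [12, 12, 6, 20] (.step [6, 13] (.step [] (.step [] (.done [9, 9, 9]))))))), (1, (.step [2, 15, 12, 2, 6, 15] .fail)), (1, (.step [2, 15, 2, 11, 6, 11, 15] (.step [4, 8, 20, 6, 15] .fail))), (1, (.step [2, 20, 2, 6, 15] .fail)), (1, (.step [2, 15, 12, 2, 15] .fail)), (1, (.step [2, 12, 6, 21, 3,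 11, 15] .fail)), (1, (.step [2, 12, 6, 12, 3, 20, 2, 15, 8] .fail)), (1, (.step [3, 12, 6, 20, 2, 20, 2, 15] .fail)), (1, (.step [0, 2, 20, 15, 11, 3] .fail)), (1, (.step [0, 3, 12, 6, 20, 2, 15, 5, 12] .fail)), (1, (.step [2, 15, 2, 11, 6, 11, 15, 8] .fail)), (1, (.step [2, 15, 2, 11, 6] .fail)), (1, (.step [2, 15, 2, 12, 6] .fail)), (1, (.step [2, 12, 6] .fail)), (1, (.step [2, 20, 2, 6, 15] (.step [4, 22, 20, 4, 20] .fail))), (1, (.step [3, 12, 3, 20, 6, 15, 2] (.step [4, 5, 22, 4, 8] .fail))), (1, .fail), (1, (.step [2, 20, 2, 15] (.step [4, 22, 20, 4, 20] .fail))), (1, (.step [0, 3, 20, 15, 20, 6] (.step [4, 22, 11, 4, 11] .fail))), (1, (.step [2, 15, 2, 11, 6, 11, 15, 8] .fail)), (1, (.step [2, 12, 6, 20, 2, 20, 15] .fail)), (1, (.step [2, 12, 6, 21, 2] .fail)), (1, (.step [3, 12, 6, 15, 8] (.step [4, 22, 11, 8, 21] .fail))),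 (1, (.step [0, 2, 15, 21, 3, 12, 6, 20] .fail)), (1, (.step [0, 3, 20, 6, 15, 2, 11, 2] .fail)), (1, (.step [2, 12, 6, 20, 2, 20, 15, 3] .fail)), (1, (.step [0, 2, 12, 20, 15, 11] (.step [12, 12, 6] .fail))), (1, (.step [3, 12, 6, 20, 2, 15, 5] (.step [4, 21, 15, 20] .fail))), (1, (.step [0, 2, 20, 2, 6] .fail)), (1, (.step [0, 3, 20, 15, 20, 6] (.step [4, 5, 6, 22] .fail))), (1, (.step [0, 3, 20, 15, 20, 6] .fail)), (1, (.step [0, 3, 20, 6, 15, 12] .fail)), (1, (.step [2, 12, 6, 20, 2, 20, 15] .fail)), (1, (.step [2, 15, 12, 6, 15, 2] .fail)), (1, (.step [0, 2, 20, 15, 12, 3, 6] .fail)), (1, (.step [2, 12, 6, 20, 15, 2, 5, 6, 15] .fail)), (1, (.step [2, 20, 6, 15, 21, 15, 2, 11] .fail)), (1, (.step [2, 20, 6, 15, 20, 15, 3] .fail)), (1, (.step [2, 20, 6, 15, 3, 21, 6] .fail)), (1, (.step [2, 15, 21, 6, 15, 8] .fail)), (1, (.step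 [2, 12, 6, 20, 2, 20, 15, 3] (.step [4, 12] .fail))), (1, (.step [2, 20, 2, 6, 15, 5, 15] (.step [12, 22, 20, 15] .fail))), (1, (.step [0, 3, 20, 15, 11, 6] .fail)), (1, (.step [3, 20, 6, 15, 21, 15, 3, 21] .fail)), (1, (.step [2, 12, 6, 20, 2, 20, 15, 3] (.step [4, 5, 6] .fail))), (1, (.step [2, 15, 2, 11] .fail)), (1, (.step [2, 15, 21, 3, 6, 11, 11, 15] (.step [4, 5, 22, 4, 12] .fail))), (1, (.step [0, 3, 20, 15, 11, 6] .fail)), (1, (.step [0, 2, 20, 6, 15, 20, 12] .fail)), (1, (.step [2, 20, 6, 15, 20, 15] (.step [12, 22, 15, 11] .fail))), (1, (.step [2, 15, 21, 3, 15] .fail)), (1, (.step [0, 3, 20, 6, 15, 2, 11] (.step [4, 5, 6, 22, 15, 8] .fail))), (1, (.step [0, 3, 20, 15, 11, 6] .fail)), (1, (.step [0, 3, 20, 15, 20, 6] .fail)), (1, (.step [0, 2, 12, 6, 20, 15, 21, 2, 8] .fail)), (1, (.step [2, 15, 12, 2, 6, 15] (.step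 [8, 22, 20, 15, 8] .fail))), (1, (.step [2, 15, 2, 11, 6, 11, 15] .fail)), (1, (.step [2, 15, 2, 11, 6, 11, 15, 8] .fail)), (1, (.step [2, 20, 6, 15, 12, 3, 12] (.step [15, 11, 6, 22, 15] .fail))), (1, (.step [0, 3, 20, 6, 15, 2, 21, 2] (.step [15, 8, 22, 11] .fail))), (1, (.step [2, 20, 6, 15, 21, 3, 21] .fail)), (1, (.step [2, 20, 2, 6, 15, 5, 4] (.step [15, 21, 22, 20] .fail))), (1, (.step [0, 2, 20, 6, 15, 11, 15, 21] (.step [8, 22, 20] .fail))), (1, .fail), (1, (.step [2, 11, 15, 21, 6, 11] .fail)), (1, (.step [2, 21, 15, 12, 6] (.step [4, 22, 12, 15] .fail))), (1, (.step [2, 15, 2, 11, 6, 11, 15, 8] .fail)), (1, (.step [0, 2, 20, 15, 5, 6, 20, 15] (.step [15, 5, 6, 22] .fail))), (2, .fail), (1, (.step [0, 3, 20, 6, 15, 5, 15, 3] (.step [12, 22, 20, 6] .fail))), (1, .fail), (1, (.step [0, 2, 20, 15, 12, 6] .fail)), (1, (.step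 [0, 2, 20, 6, 15, 12, 3] .fail)), (1, (.step [3, 12, 3, 12, 6, 12, 15, 2] .fail)), (1, (.step [2, 20, 6, 15, 21, 3, 21] (.step [12, 22, 15, 21] .fail))), (1, (.step [2, 15, 21, 2, 6, 21, 15] .fail)), (1, (.step [3, 12, 3, 12, 6, 21, 8, 15] .fail)), (1, (.step [3, 12, 3, 12, 3, 6, 15] .fail)), (1, (.step [2, 15, 21, 3, 15] .fail)), (1, (.step [0, 2, 12, 6, 20, 15, 21, 2] .fail)), (1, (.step [3, 20, 6, 15, 2, 21, 15, 21] .fail)), (1, (.step [0, 2, 20, 15, 12, 6] .fail)), (1, (.step [0, 3, 20, 6, 15, 20, 12] .fail)), (1, (.step [2, 20, 2, 6, 15, 3, 5, 12] .fail)), (1, (.step [2, 12, 6, 20, 15, 2, 5, 15] .fail)), (1, (.step [0, 3, 20, 6, 15, 12] .fail)), (1, .fail), (1, (.step [0, 3, 20, 6, 15, 2, 21] .fail)), (1, (.step [2, 20, 6, 15, 3, 21, 3] .fail)), (1, (.step [2, 12, 6, 12, 3, 20, 2, 15, 8] .fail)), (1, (.step [0, 3, 20, 6,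 15, 12] .fail)), (1, (.step [3, 12, 3, 6, 20, 15] (.step [4, 22, 8, 21] .fail))), (1, (.step [2, 12, 6, 12, 3, 20, 2, 15] .fail)), (1, (.step [2, 20, 6, 15, 3, 5, 15, 11] .fail)), (1, .fail), (1, (.step [0, 2, 20, 6, 15, 20, 15, 20] .fail)), (1, (.step [2, 20, 6, 15, 20, 15, 5] .fail)), (1, (.step [2, 12, 6, 20, 7, 3, 15] .fail)), (1, (.step [2, 20, 6, 15, 12, 3, 20] .fail)), (1, (.step [2, 15, 21, 3, 20] .fail)), (1, (.step [2, 20, 6, 15, 3, 21, 3] .fail)), (1, (.step [2, 15, 21, 3, 20, 6] .fail)), (1, (.step [2, 15, 21, 3, 6, 12, 15] (.step [4, 5, 6, 22, 15] .fail))), (1, (.step [2, 20, 6, 15, 3, 15] .fail)), (1, (.step [3, 12, 6, 20, 2, 15] (.step [12, 22, 5] .fail))), (1, (.step [2, 20, 2, 6, 15, 5, 15] .fail)), (1, (.step [2, 11, 15, 21, 6, 11] .fail)), (2, .fail), (1, (.step [2, 12, 6, 12, 12, 15, 11] (.step [4, 22, 15]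 .fail))), (1, (.step [2, 20, 2, 6, 15, 5, 15] .fail)), (1, (.step [0, 3, 20, 6, 15, 12, 12, 15] .fail)), (1, (.step [0, 2, 15, 12, 6, 15, 12, 12] .fail)), (1, (.step [3, 20, 6, 15, 20, 4, 3] .fail)), (1, (.step [2, 15, 2, 11, 6, 11, 15] (.step [11, 11, 11, 6] .fail))), (1, (.step [3, 12, 6, 15, 5, 15] (.step [4, 8, 22, 8, 12] .fail))), (1, (.step [2, 20, 6, 15, 12, 12, 3, 6] .fail)), (1, (.step [0, 2, 15, 12, 6, 15, 12, 12] (.step [4, 11, 6, 15] .fail))), (3, .fail), (1, (.step [2, 12, 20, 15, 11] (.step [12, 12, 22, 4, 5] .fail))), (1, (.step [0, 3, 20, 6, 15, 2, 11, 2] (.step [4, 21, 4, 22] .fail))), (1, (.step [3, 20, 15, 20, 6] (.step [15, 22, 4, 8] .fail))), (1, .fail), (1, (.step [2, 20, 6, 15, 3, 21, 3, 7] (.step [4, 15, 5, 6, 22] .fail))), (1, (.step [2, 12, 6, 20, 15, 2, 5, 6, 15] .fail)), (2, .fail), (1, (.step [2, 12,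 6, 20, 7, 3, 20, 15] .fail)), (1, (.step [0, 2, 20, 6, 15, 12] .fail)), (1, (.step [2, 12, 6, 12, 3, 20, 15] .fail)), (1, (.step [2, 12, 6, 12, 2, 12, 6, 15] .fail)), (1, (.step [3, 12, 6, 20, 15] .fail)), (1, .fail), (1, (.step [2, 15, 2, 11, 6, 11, 15] .fail)), (1, (.step [2, 12, 6, 12, 3, 20, 2, 15, 8] .fail)), (1, (.step [2, 15, 2, 11] .fail)), (1, (.step [2, 15, 2, 12, 6] .fail)), (1, (.step [0, 2, 20, 6, 15, 20, 3, 12] .fail)), (1, (.step [0, 2, 20, 6, 15, 21, 15, 21] .fail)), (1, (.step [0, 2, 15, 21, 3, 6, 12, 15, 21] .fail)), (1, (.step [2, 12, 6, 15, 12, 15, 3, 20, 3] .fail)), (1, (.step [2, 12, 6, 12, 3, 20, 3, 15] (.step [15, 22] .fail))), (1, (.step [0, 2, 20, 6, 15, 12] .fail)), (1, (.step [0, 3, 12, 6, 20, 2, 15, 5, 12] .fail)), (1, (.step [2, 20, 6, 15, 3, 20, 4] .fail)), (1, (.step [2, 20, 2, 15] .fail)), (1,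 (.step [2, 20, 6, 15, 3, 21, 3, 7] .fail)), (1, .fail), (1, (.step [2, 20, 6, 15, 3, 21, 6, 11] (.step [4, 22, 8, 11, 15] .fail))), (1, (.step [0, 2, 20, 15, 11, 6] .fail)), (1, (.step [2, 12, 6, 12, 2, 12, 6, 15] .fail)), (1, (.step [2, 12, 6, 20, 15, 3, 7] .fail)), (1, (.step [0, 3, 12, 6, 20, 2, 15, 12, 6] .fail)), (1, .fail), (1, (.step [0, 2, 12, 12, 15] .fail)), (1, (.step [2, 15, 21, 3, 12] .fail)), (1, (.step [2, 12, 6, 15, 12, 15, 11] .fail)), (1, .fail), (1, (.step [0, 3, 20, 15, 11, 6] .fail)), (1, (.step [2, 12, 6, 15, 12, 15, 11] .fail)), (1, (.step [3, 12, 3, 6, 20, 15] .fail)), (1, (.step [2, 12, 6, 20, 15, 2, 5, 15] (.step [4, 15, 5, 6] .fail))), (1, (.step [2, 12, 6, 12, 3, 20, 2, 15, 8] .fail)), (1, (.step [0, 2, 12, 6, 12, 3, 4] .fail)), (1, .fail), (1, (.step [0, 2, 12, 6, 20, 15, 2, 5] .fail)), (1, .fail),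 (1, (.step [2, 12, 6, 12, 12, 15, 11] (.step [15, 11, 6, 22, 15] .fail))), (1, (.step [2, 12, 12, 6, 15, 11] .fail)), (1, (.step [3, 20, 6, 15, 5, 4, 15] .fail)), (1, (.step [0, 3, 20, 6, 15, 2, 11, 2] .fail)), (1, (.step [2, 15, 12, 2, 15] .fail)), (1, (.step [0, 2, 15, 12, 6, 15, 12] .fail)), (1, (.step [2, 20, 15, 3, 21, 6] .fail)), (1, (.step [0, 2, 20, 6, 15, 12, 12] .fail)), (1, (.step [2, 20, 6, 15, 12, 12, 3] .fail)), (1, .fail), (1, (.step [0, 3, 20, 6, 15, 5, 8] (.step [4, 22, 11, 11] .fail))), (1, (.step [0, 3, 20, 15, 20, 6] .fail)), (1, (.step [3, 12, 6, 20, 2, 15, 5] .fail)), (2, .fail), (1, (.step [0, 3, 20, 6, 15, 2, 21, 2] .fail)), (1, .fail), (1, (.step [2, 12, 6, 20, 2, 20] (.step [4, 8, 22, 11, 20] .fail))), (1, (.step [2, 20, 2, 6, 15, 5] (.step [4, 22, 5, 21] .fail))), (1, .fail), (1, (.step [3, 20, 6, 15,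 5, 4, 15] (.step [12, 15] .fail))), (1, (.step [3, 20, 6, 15, 20, 4, 3] (.step [4, 12] .fail))), (2, .fail), (1, (.step [0, 3, 20, 15, 11, 6] .fail)), (1, (.step [3, 20, 6, 15, 2, 21, 15, 21] .fail)), (1, (.step [0, 2, 12, 6, 20, 15, 2, 5, 6] .fail)), (1, (.step [2, 20, 6, 15, 3, 21] .fail)), (1, (.step [2, 20, 2, 6, 15, 5, 15, 2] (.step [12, 22, 20, 15] .fail))), (1, (.step [0, 2, 20, 15, 5, 12, 6] .fail)), (1, (.step [3, 20, 6, 15, 21, 15, 3, 21] .fail)), (1, (.step [2, 15, 12, 2, 15] .fail)), (1, (.step [0, 2, 15, 12, 6, 15, 12] .fail)), (1, .fail), (1, (.step [3, 12, 3, 12, 6, 12, 15] .fail)), (1, (.step [3, 12, 3, 6, 20, 15, 3, 7] .fail)), (1, (.step [3, 12, 3, 6, 12, 15, 3] .fail)), (1, (.step [3, 12, 6, 20, 15, 5, 4] .fail)), (1, (.step [0, 3, 20, 15, 20, 6] .fail)), (1, (.step [3, 12, 3, 6, 20, 15, 2, 8] (.step [15, 5,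 6] .fail))), (1, (.step [2, 15, 21, 3, 6, 11, 11, 15] .fail)), (1, (.step [0, 2, 12, 6, 20, 15, 2, 5, 6] .fail)), (1, (.step [0, 3, 20, 15, 11, 6] .fail)), (1, (.step [2, 12, 6, 12, 3, 20, 2, 15, 5] .fail)), (1, (.step [2, 20, 2, 6, 15, 12] .fail)), (1, (.step [2, 12, 6, 20, 15, 21, 2, 12] .fail)), (1, (.step [2, 20, 6, 15, 11, 11, 21, 3] .fail)), (1, (.step [0, 3, 12, 15, 12, 6, 12, 3, 15] .fail)), (1, .fail), (1, (.step [3, 12, 3, 6, 20, 3, 15] .fail)), (1, (.step [2, 15, 21, 3, 15] .fail)), (1, (.step [2, 20, 6, 15, 11, 11, 21, 3] .fail)), (1, (.step [2, 15, 21, 3, 12, 6, 21, 15] .fail)), (1, (.step [3, 12, 6, 20, 15, 5, 6] .fail)), (1, (.step [0, 3, 20, 15, 11, 6, 21, 2] .fail)), (1, (.step [2, 20, 2, 6, 15, 11, 11, 3] .fail)), (1, .fail), (1, (.step [0, 2, 12, 6, 12, 3, 15] .fail)), (1, (.step [0, 2, 20, 6, 15, 3, 11, 2]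 (.step [12, 22, 12, 22] .fail))), (1, .fail), (1, (.step [2, 20, 6, 15, 20, 15, 3] .fail)), (1, (.step [2, 20, 6, 15, 5, 15, 3, 20] .fail)), (1, (.step [2, 12, 6, 20, 7, 3, 15] .fail)), (1, (.step [0, 2, 20, 6, 15, 5, 6, 15, 2] .fail)), (1, (.step [2, 20, 2, 6, 11, 11, 15] .fail)), (1, (.step [3, 12, 3, 6, 20, 15, 3, 8] .fail)), (1, (.step [0, 2, 20, 6, 15, 5, 15, 2] .fail)), (1, (.step [3, 12, 6, 20, 15] .fail)), (1, (.step [2, 15, 2, 12, 6, 20, 15, 8] .fail)), (1, .fail), (1, (.step [2, 12, 6, 12, 3, 20, 2, 15] .fail)), (1, (.step [2, 12, 6, 12, 2, 12, 15] .fail)), (1, (.step [2, 20, 6, 15, 3, 21, 3] (.step [4, 15, 5, 6, 22] .fail))), (1, (.step [3, 20, 6, 15, 5, 15, 3, 12] .fail)), (1, (.step [3, 12, 3, 6, 20, 15, 3] .fail)), (1, (.step [2, 12, 6, 20, 15, 5, 12, 3] .fail)), (1, (.step [0, 3, 12, 6, 20, 2, 20, 8] .fail)), (1,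 (.step [0, 2, 20, 15, 5, 6, 20, 15] (.step [11, 11, 15, 8] .fail))), (1, (.step [3, 12, 3, 6, 12, 15, 3] .fail)), (1, .fail), (1, (.step [3, 20, 6, 15, 20, 4] .fail)), (1, .fail), (1, (.step [2, 15, 5, 6] .fail)), (1, (.step [0, 2, 12, 6, 12, 12, 2] .fail)), (1, (.step [2, 20, 2, 15] .fail)), (1, (.step [3, 20, 6, 15, 5, 15] (.step [12, 15] .fail))), (1, .fail), (1, (.step [2, 15, 12, 15, 12] .fail)), (1, (.step [2, 15, 2, 11, 6, 11, 15, 8] (.step [11, 11, 6, 5] .fail))), (3, .fail), (1, (.step [0, 3, 20, 6, 15, 5, 4, 3] (.step [4, 21, 4, 22] .fail))), (1, (.step [0, 3, 20, 6, 15, 5, 4, 15] (.step [4, 8, 22, 11, 6] .fail))), (1, (.step [2, 20, 6, 15, 12, 3, 12] (.step [4, 11, 6] .fail))), (1, (.step [3, 20, 6, 15, 12, 12, 3] .fail)), (1, (.step [3] .fail)), (1, (.step [0, 3, 20, 6, 15, 5, 4, 3] .fail)), (2, .fail), (1, (.step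 [2, 15, 12, 6, 15, 12] .fail)), (1, (.step [3, 12, 3, 6] .fail)), (1, (.step [2, 12, 6, 21, 15, 20, 15] (.step [4, 5, 15, 5] .fail))), (1, .fail), (1, (.step [2, 12, 6, 15, 20, 15, 3, 11] .fail)), (1, (.step [0, 3, 20, 6, 15, 2, 11, 2] (.step [12, 22, 4, 20] .fail))), (1, .fail), (1, (.step [2, 20, 2, 6, 15, 12, 12] .fail)), (1, .fail), (1, (.step [2, 12, 6, 12, 2, 12, 15, 2] .fail)), (1, (.step [0, 2, 12, 6, 20, 2] (.step [4, 22, 20, 4, 20] .fail))), (1, .fail), (1, (.step [2, 20, 6, 15, 3, 21, 2] .fail)), (1, (.step [0, 2, 15, 12, 15, 12, 6] .fail)), (1, .fail), (1, (.step [2, 12, 6, 12, 3, 20, 2, 15, 8] .fail)), (1, (.step [0, 2, 20, 6, 15, 3, 11, 2] (.step [12, 22, 12, 22] .fail))), (1, (.step [0, 2, 20, 15, 12, 3, 6] .fail)), (1, (.step [2, 20, 6, 15, 3, 8] .fail)), (1, (.step [3, 20, 6, 15, 2, 21, 15, 21] .fail)), (1, (.step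 [2, 20, 6, 15, 3, 21, 2] .fail)), (1, (.step [2, 20, 6, 15, 3, 12, 12] .fail)), (1, .fail), (1, (.step [2, 15, 2, 21, 2] .fail)), (1, (.step [0, 3, 20, 6, 15, 12] .fail)), (1, (.step [2, 12, 6, 20, 15, 3, 7] .fail)), (1, (.step [2, 15, 2, 12, 6, 12, 15] .fail)), (1, (.step [2, 15, 2, 21, 3, 6] .fail)), (1, (.step [2, 12, 6, 12, 3, 20, 3, 15] .fail)), (1, (.step [2, 15, 21, 3, 6, 20, 15, 5, 6] .fail)), (1, (.step [0, 2, 20, 6, 15, 12, 3] .fail)), (1, (.step [3, 12, 6, 20, 15, 3, 5, 4] .fail)), (1, (.step [3] (.step [4, 12] (.step [6, 13] (.step [21] (.step [23] (.done [9, 9, 9, 9, 9, 9, 9, 9, 9]))))))), (1, (.step [3, 12, 6, 15, 11, 15, 3, 5] .fail)), (1, (.step [2, 12, 6, 15, 12, 15, 3, 8, 15] .fail)), (1, (.step [2, 12, 6, 20, 15, 3, 4] .fail)), (5, .fail), (1, (.step [2, 12, 6, 12, 2, 12, 15, 2, 5] .fail)), (1, (.step [0, 2,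 12, 6, 20, 15, 21, 2, 8] .fail)), (1, (.step [2, 20, 6, 15, 21, 4, 3] .fail)), (1, (.step [2, 15, 2, 21, 3, 6, 11, 15] .fail)), (1, (.step [0, 3, 20, 15, 11, 6] .fail)), (1, (.step [2, 12, 6, 21, 2, 11, 15] .fail)), (1, (.step [3, 20, 6, 15, 2, 21, 15, 21] .fail)), (1, .fail), (1, (.step [3, 12, 3, 6, 12, 3, 15] .fail)), (1, (.step [2, 12, 6, 20, 15, 5, 6, 12] (.step [8, 11, 22, 4] .fail))), (1, (.step [0, 2, 20, 6, 15, 11, 11, 2, 21] .fail)), (1, (.step [3, 12, 3, 6, 20, 15] .fail)), (1, (.step [0, 2, 12, 12, 15] .fail)), (1, (.step [3, 12, 6, 15, 21] .fail)), (1, .fail), (1, (.step [2, 12, 6, 20, 7, 15] (.step [4, 5, 15, 21, 6] .fail))), (1, (.step [2, 20, 6, 15, 11, 11, 21, 3] .fail)), (1, (.step [3, 12, 15, 12, 6, 11, 2] .fail)), (1, (.step [2, 12, 6, 15, 12, 15, 11] .fail)), (1, (.step [3, 20, 6, 15, 11, 3, 11, 11] .fail)),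 (1, .fail), (1, (.step [3, 12, 3, 6, 20, 15, 5] .fail)), (1, (.step [0, 2, 20, 15, 11] .fail)), (1, (.step [0, 3, 20, 6, 15, 11, 3, 12] .fail)), (1, (.step [2, 12, 6, 20, 2, 15, 12, 3] (.step [12, 12, 22, 12] .fail))), (1, (.step [2, 20, 2, 6, 15, 5] .fail)), (1, (.step [0, 2, 20, 6, 15, 3, 20, 12] .fail)), (1, (.step [3, 20, 6, 15, 21, 15, 3, 21] .fail)), (1, (.step [2, 20, 2, 6, 15, 20, 15, 3] .fail)), (1, (.step [2, 20, 6, 15, 3, 21, 8] .fail)), (1, (.step [3, 12, 6, 20, 2, 12, 15] .fail)), (1, (.step [0, 2, 20, 6, 15, 3, 11, 11, 3] .fail)), (1, (.step [2, 20, 6, 15, 20, 3, 15, 20] .fail)), (1, (.step [2, 12, 6, 12, 2, 12, 15, 3, 5] (.step [11, 22, 15, 22, 12] .fail))), (1, (.step [2, 12, 6, 20, 15, 12] .fail)), (1, (.step [2, 12, 6, 12, 2, 20, 8, 15] .fail)), (1, (.step [2, 20, 6, 15, 12, 3, 12] .fail)), (1, (.step [0, 3,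 20, 6, 15, 2, 11] .fail)), (1, (.step [2, 15, 21, 3, 6, 15, 5] (.step [4, 8, 22, 15, 8] .fail))), (1, (.step [0, 3, 20, 6, 15, 11, 11, 11] .fail)), (1, (.step [2, 20, 6, 15, 20, 3, 15, 20] .fail)), (1, (.step [2, 12, 6, 15, 12, 15, 3, 20, 3] .fail)), (1, .fail), (1, (.step [2, 20, 2, 6, 15, 20, 15, 2] .fail)), (1, (.step [0, 3, 20, 6, 15, 2, 11] .fail)), (1, (.step [3, 12, 3, 6, 12, 15] .fail)), (1, (.step [2, 20, 6, 15, 20, 15, 5] .fail)), (1, .fail), (1, (.step [2, 12, 6, 15, 12, 15, 3, 20, 3] .fail)), (1, (.step [2, 12, 6, 20, 7, 3, 15] .fail)), (2, .fail), (1, (.step [2, 11, 15, 21, 6, 11] (.step [11, 22, 15, 5, 6] .fail))), (3, .fail), (1, (.step [3, 12, 6, 20, 2, 15, 8] (.step [12] .fail))), (1, .fail), (1, (.step [2, 15, 12, 6, 15, 21, 2, 12] .fail)), (1, (.step [0, 3, 20, 6, 15, 3, 20] .fail)), (1, (.step [2, 20, 2, 6,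 15, 5] .fail)), (2, .fail), (1, (.step [0, 3, 20, 6, 15, 8] .fail)), (1, .fail), (1, (.step [3, 12, 6, 21, 2] (.step [12, 22, 15] .fail))), (1, .fail), (1, (.step [3, 20, 6, 15, 5, 4, 15] .fail)), (1, .fail), (1, (.step [2, 12, 6, 21, 2, 11, 15, 2] (.step [4, 22, 12] .fail))), (1, (.step [3, 12, 6, 15, 5, 15] (.step [8] .fail))), (1, .fail), (1, (.step [0, 3, 20, 6, 15, 5, 4, 3] (.step [4, 11, 4, 15, 22] .fail))), (2, .fail), (1, (.step [2, 12, 6, 21, 15, 20, 4] (.step [12, 22, 5, 11] .fail))), (1, (.step [2, 12, 6, 21, 15, 20, 15] (.step [4, 5, 12] .fail))), (1, (.step [3, 20, 6, 15, 3, 20] .fail)), (1, .fail), (1, (.step [2, 12, 6, 12, 12, 15, 2] .fail)), (1, (.step [2, 12, 6, 15, 20, 15, 3, 11] .fail)), (3, .fail), (1, (.step [2, 15, 5, 6, 15] .fail)), (3, .fail), (1, (.step [0, 3, 20, 15, 11] .fail)), (1, .fail), (1, (.step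 [3, 12, 3, 6, 20, 15, 5] (.step [4, 5, 15, 5, 15] .fail))), (1, .fail), (1, (.step [2, 20, 6, 15, 11, 3, 8, 20] .fail)), (1, .fail), (1, (.step [2, 12, 6, 12, 3, 12, 15, 21] (.step [8, 22, 20, 4] .fail))), (1, .fail), (1, (.step [2, 20, 2, 6, 15, 3, 21] .fail)), (1, (.step [0, 2, 20, 15, 12, 3, 6] .fail)), (1, (.step [2, 12, 6, 12, 2, 20, 2, 15] .fail)), (1, .fail), (1, (.step [3, 12, 6, 20, 2, 12, 15] .fail)), (1, (.step [0, 3, 12, 6, 15, 12, 15, 3] .fail)), (1, (.step [3, 12, 3, 6, 12, 15, 20, 2] .fail)), (1, (.step [2, 20, 2, 6, 11, 11, 15] .fail)), (1, .fail), (1, (.step [0, 2, 12, 6, 20, 15, 21, 2] .fail)), (1, (.step [3, 12, 6, 15, 11, 15, 3] .fail)), (1, (.step [2, 12, 6, 15, 12, 15, 12, 3, 12] .fail)), (1, (.step [3, 12, 6, 21, 15] (.step [12, 22, 5, 11] (.step [7, 16] .fail)))), (1, (.step [3, 20, 6, 15, 11, 11, 3] .fail)),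 (1, (.step [2, 12, 6, 15, 12, 15, 11] .fail)), (1, (.step [2, 15, 12, 3, 15] .fail)), (1, (.step [0, 2, 12, 6, 20, 15, 3, 12, 12] .fail)), (1, (.step [2, 15, 21, 3, 6, 12, 15] .fail)), (1, (.step [0, 3, 12, 6, 15, 12, 15, 3, 20] .fail)), (1, (.step [2, 20, 6, 15, 2, 11, 2, 8] .fail)), (1, (.step [2, 12, 6, 12, 3, 20, 3, 15] .fail)), (1, .fail), (1, (.step [3, 12, 6, 20, 15, 3, 5, 20] .fail)), (1, (.step [0, 2, 12, 6, 20, 15, 2, 5] .fail)), (2, .fail), (1, (.step [2, 20, 2, 6, 15, 21, 2] (.step [12, 22, 20] (.step [6, 5, 17] .fail)))), (1, (.step [0, 3, 12, 15, 12, 6] .fail)), (1, (.step [0, 2, 20, 15, 12, 3, 6] .fail)), (1, (.step [2, 15, 21, 6, 15, 2] .fail)), (1, (.step [2, 20, 6, 15, 3, 21, 3] .fail)), (1, (.step [0, 3, 20, 6, 15, 11, 3, 7] .fail)), (1, (.step [2, 12, 6, 20, 15, 3, 7] .fail)), (1, (.step [2, 20, 2, 6, 15, 20,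 15, 2] .fail)), (1, (.step [0, 2, 20, 6, 15, 5, 4, 15] .fail)), (1, (.step [2, 15, 21, 3, 6, 12, 15] (.step [4, 5, 6, 22, 15] .fail))), (1, (.step [2, 12, 6, 21, 15, 11, 15] .fail)), (1, (.step [2, 12, 6, 15, 12, 6, 12, 3] (.step [4, 22, 21, 15, 20] .fail))), (1, (.step [0, 3, 12, 6, 20, 15, 12, 2, 6] .fail)), (1, (.step [3, 12, 6, 20, 15, 3, 5, 20] .fail)), (1, (.step [2, 12, 6, 20, 7, 15, 3] .fail)), (1, (.step [2, 12, 6, 20, 15, 21, 2, 12] .fail)), (1, (.step [2, 12, 6, 15, 20, 4, 3] .fail)), (1, (.step [0, 2, 20, 15, 5, 6, 20, 15] .fail)), (1, (.step [2, 20, 2, 6, 15, 11] .fail)), (1, (.step [2, 20, 6, 15, 20, 3, 15, 20] .fail)), (1, .fail), (1, (.step [0, 3, 12, 6, 21, 2] .fail)), (1, (.step [0, 2, 20, 6, 15, 11, 3, 15, 8] .fail)), (1, (.step [3, 12, 3, 6, 20, 3, 15] .fail)), (1, (.step [2, 12, 15, 20, 6, 11, 3] .fail)),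 (1, (.step [2, 12, 6, 15, 12, 15, 3, 20, 3] (.step [12, 22, 12, 6] .fail))), (1, (.step [0, 2, 20, 6, 15, 11, 11, 2, 20] .fail)), (1, (.step [3, 12, 3, 6, 20, 15, 3, 5] .fail)), (1, .fail), (1, (.step [2, 12, 6, 12, 3, 20, 2, 15, 8] .fail)), (1, (.step [0, 2, 20, 6, 15, 3, 21, 11] .fail)), (1, (.step [2, 20, 2, 6, 15, 20, 15, 2] .fail)), (1, (.step [2, 12, 6, 15, 20, 3, 15, 12, 6] .fail)), (1, .fail), (1, (.step [2, 12, 6, 12, 3, 20, 2, 15, 5] .fail)), (1, (.step [3, 12, 3, 6, 12, 15, 3] .fail)), (1, (.step [0, 2, 20, 6, 15, 5, 6, 15, 2] (.step [4, 11, 15] (.step [17, 17, 6] .fail)))), (1, .fail), (1, (.step [0, 3, 20, 6, 15, 20, 15, 20, 6] .fail)), (1, (.step [2, 12, 6, 20, 15, 12, 3] (.step [12, 22, 21, 8] .fail))), (1, (.step [2, 12, 6, 20, 15, 3, 7] (.step [4, 5, 15, 21, 6] .fail))), (1, (.step [2, 12, 6, 21, 3, 11, 15, 2]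 .fail)), (1, (.step [2, 12, 6, 20, 7, 3, 15] .fail)), (1, (.step [2, 12, 6, 20, 15, 3, 5, 20] (.step [4, 22, 21, 6] .fail))), (1, .fail), (1, (.step [2, 12, 6, 12, 2, 12, 15, 5] .fail)), (1, (.step [2, 20, 2, 6, 15, 3, 12] .fail)), (1, (.step [2, 20, 2, 6, 15, 5] (.step [4, 22, 12, 12, 15] .fail))), (1, (.step [2, 12, 15, 12, 3, 6, 21] .fail)), (1, (.step [0, 2, 20, 6, 15, 5, 15, 2] .fail)), (1, (.step [2, 12, 6, 20, 2, 15, 12, 6] .fail)), (1, .fail), (1, (.step [2, 12, 6, 15, 12, 15, 11] .fail)), (1, (.step [2, 11, 15, 11, 6, 11] (.step [12, 22, 11, 8, 22] .fail))), (1, .fail), (1, (.step [0, 2, 12, 6, 20, 15, 12, 5] .fail)), (1, (.step [2, 12, 6, 20, 15, 3, 11, 6, 5] (.step [15, 22, 12] .fail))), (1, (.step [3, 12, 6, 20, 2, 15, 2] .fail)), (1, (.step [3, 12, 15, 21, 6, 12] .fail)), (1, (.step [2, 12, 6, 15, 12, 15, 11] .fail)),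 (1, (.step [0, 2, 12, 6, 12, 12, 2] .fail)), (1, (.step [3, 20, 6, 15, 5, 4, 15] .fail)), (4, .fail), (1, (.step [2, 12, 6, 20, 2] (.step [11, 15, 22, 20, 15] .fail))), (2, .fail), (1, (.step [0, 3, 20, 6, 15, 3] .fail)), (1, (.step [0, 3, 20, 6, 15, 2, 11, 2] .fail)), (2, .fail), (1, (.step [2, 12, 6, 15, 20, 15, 3, 11] (.step [4, 22, 20, 20] .fail))), (1, (.step [3, 20, 6, 15, 2, 11, 2] (.step [11, 22, 15, 5, 20] .fail))), (2, .fail), (1, (.step [0, 3, 12, 15, 12, 6, 11, 15] .fail)), (4, .fail), (1, (.step [2, 15, 21, 3, 20, 6, 11, 15] (.step [4, 5, 22, 15, 11] (.step [6, 7] .fail)))), (1, (.step [0, 2, 12, 6, 20, 2] .fail)), (1, (.step [2, 12, 6, 12, 12, 15, 11] .fail)), (1, (.step [3, 20, 6, 15, 3, 20] .fail)), (1, (.step [2, 12, 20, 15, 11] (.step [8, 11, 22, 4, 5] .fail))), (1, (.step [2, 12, 15, 20, 6] .fail)), (1, (.step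 [2, 20, 15, 21, 6] (.step [8, 22, 4, 11, 15] .fail))), (1, (.step [3, 20, 6, 15, 12, 12, 3] .fail)), (1, (.step [0, 2, 20, 6, 15, 3, 20, 12] .fail)), (1, .fail), (1, (.step [0, 2, 20, 2, 6, 15, 12, 12] .fail)), (1, (.step [3, 12, 3, 6, 20, 15, 3] .fail)), (1, (.step [2, 12, 6, 15, 20, 15, 2, 11] .fail)), (1, (.step [2, 12, 6] .fail)), (1, (.step [2, 12, 6, 12, 12, 2] .fail)), (1, .fail), (1, (.step [0, 2, 20, 6, 15, 11, 2, 20] .fail)), (1, .fail), (1, (.step [3, 12, 6, 20, 15, 3, 4] .fail)), (1, .fail), (1, (.step [2, 15, 12, 15, 12, 6] .fail)), (1, (.step [3, 12, 3, 6, 20, 15, 2, 8] .fail)), (1, .fail), (1, (.step [0, 2, 20, 6, 15, 21, 15, 20] (.step [11, 22, 15] .fail))), (1, (.step [2, 15, 21, 3, 6, 12, 20, 15, 8] .fail)), (1, .fail), (1, (.step [2, 20, 2, 6, 15, 5] .fail)), (1, (.step [2, 12, 6, 20, 15, 3, 5] .fail)), (1,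 (.step [0, 3, 20, 6, 15, 5, 8] .fail)), (2, .fail), (1, (.step [2, 20, 6, 15, 11, 3, 7, 11] .fail)), (1, (.step [2, 12, 6, 20, 15, 21, 3, 20] .fail)), (1, (.step [3, 12, 3, 12, 3, 6, 15] .fail)), (1, (.step [2, 12, 12, 3, 6, 21, 15] (.step [4, 5, 22, 5, 11] .fail))), (1, .fail), (1, (.step [0, 2, 20, 15, 20] .fail)), (1, (.step [2, 15, 21, 6] (.step [12, 12, 6, 12] (.step [16, 13, 17] (.step [19, 5, 22] (.step [22, 23] (.done [9, 9, 9, 9]))))))), (1, (.step [3, 20, 6, 15, 21, 15, 3, 21] .fail)), (1, (.step [2, 20, 6, 15, 11, 11, 3] (.step [4, 12, 22, 15, 21] .fail))), (1, (.step [2, 12, 6, 20, 2, 20, 2] .fail)), (1, (.step [3, 12, 3, 6, 20, 15, 3] .fail)), (1, (.step [3, 12, 6, 20, 15, 2, 11, 3] (.step [12, 12, 22, 12, 7] .fail))), (1, (.step [0, 2, 12, 6, 20, 15, 21, 2, 8] .fail)), (1, (.step [2, 12, 6, 21, 2, 11, 15, 3] .fail)),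 (1, (.step [2, 15, 21, 3, 6, 20, 15, 5, 6] (.step [4, 5, 22, 15, 5, 6] .fail))), (1, (.step [2, 12, 6, 15, 20, 3, 15, 5, 20] .fail)), (1, (.step [2, 20, 15, 20, 6, 11, 2, 15] .fail)), (1, (.step [0, 2, 20, 6, 15, 11, 11, 2] .fail)), (1, (.step [2, 15, 2, 21, 3, 6] .fail)), (1, (.step [3, 12, 6, 20, 15, 3, 5, 4] .fail)), (1, (.step [2, 12, 6, 20, 7, 3, 15] .fail)), (1, (.step [2, 12, 6, 15, 12, 3, 15, 3, 12] .fail)), (1, (.step [2, 20, 2, 6, 15, 3, 12] .fail)), (1, (.step [2, 15, 21, 3, 12] .fail)), (1, (.step [2, 12, 6, 12, 12, 3, 15] .fail)), (1, (.step [3, 12, 3, 6, 12, 15, 3] .fail)), (1, (.step [2, 15, 12, 6, 15, 21, 2, 15] .fail)), (1, .fail), (1, (.step [2, 12, 6, 20, 7, 15, 12, 2, 15] .fail)), (1, (.step [2, 20, 6, 15, 21, 3, 8] .fail)), (1, .fail), (1, (.step [2, 12, 6, 20, 15, 21, 3, 20] .fail)), (1, (.step [0, 3, 12,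 6, 20, 15, 21] .fail)), (1, (.step [2, 12, 6, 20, 15, 3, 5, 20] (.step [4, 21, 15] .fail))), (1, (.step [0, 2, 15, 12, 6, 15, 12] .fail)), (1, (.step [0, 2, 12, 6, 21, 15, 21, 2] .fail)), (2, .fail), (1, (.step [2, 15, 12, 6, 15, 21, 2] .fail)), (1, (.step [3, 12, 6, 21, 15] .fail)), (1, (.step [2, 20, 2, 6, 15, 21, 3, 12] .fail)), (1, (.step [2, 12, 6, 15, 12, 15, 20, 2, 20] .fail)), (1, (.step [2, 12, 6, 20, 7, 3, 15] .fail)), (1, (.step [0, 2, 20, 6, 15, 5, 15, 2] .fail)), (1, .fail), (1, (.step [2, 20, 6, 15, 20, 15, 5] (.step [11, 15, 22, 15] .fail))), (1, (.step [0, 2, 12, 6, 12, 12, 2, 15, 21] .fail)), (1, (.step [3, 12, 6, 20, 2, 15, 2] .fail)), (1, (.step [2, 12, 6, 20, 15, 5, 12, 3] .fail)), (1, (.step [3, 12, 6, 15, 21, 2] .fail)), (1, (.step [2, 12, 6, 15, 12, 15, 3, 8, 15] .fail)), (1, (.step [3, 20, 15, 20, 6, 11,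 2, 15] .fail)), (1, .fail), (1, (.step [2, 20, 6, 15, 21, 4, 3] .fail)), (1, (.step [2, 12, 6, 15, 12, 12] (.step [4, 8, 22, 21, 4] (.step [7, 17, 17] .fail)))), (1, (.step [2, 12, 6, 20, 15, 2, 5, 15] .fail)), (1, (.step [0, 2, 20, 6, 15, 5, 15, 11] .fail)), (1, (.step [0, 3, 12, 6, 20, 15, 12, 3, 6] .fail)), (1, (.step [3, 12, 3, 12, 6, 21, 15] .fail)), (1, .fail), (1, (.step [0, 3, 20, 15] .fail)), (1, (.step [0, 2, 20, 6, 15, 5, 15, 2] (.step [11, 11, 15, 8] .fail))), (1, (.step [2, 12, 6, 20, 15, 12, 3, 12] .fail)), (1, (.step [2, 12, 6, 20, 15, 2, 21, 6, 21] .fail)), (1, (.step [3, 12, 3, 6, 12, 15, 3] .fail)), (1, (.step [3, 12, 6, 15, 21, 2, 8] .fail)), (1, (.step [0, 2, 20, 6, 15, 11, 11, 2, 21] .fail)), (1, (.step [2, 12, 6, 15, 12, 3] .fail)), (1, (.step [3, 20, 6, 15, 21, 2, 8, 12, 15] .fail)), (1, (.step [2, 20, 15,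 11] (.step [4, 8, 22, 5, 6, 8] .fail))), (1, (.step [2, 15, 12, 6, 15, 21, 15, 3] .fail)), (1, (.step [2, 20, 2, 6, 15, 20, 15] .fail)), (1, (.step [2, 12, 6, 20, 2, 20] .fail)), (1, .fail), (1, (.step [2, 12, 6, 20, 2, 15, 12, 3] .fail)), (1, (.step [2, 12, 6, 12, 12, 15] .fail)), (1, (.step [2, 20, 6, 15, 20, 15, 5] .fail)), (1, .fail), (1, (.step [0, 2, 20, 6, 15, 3, 20, 12] .fail)), (1, (.step [2, 12, 6, 20, 15, 3, 5, 7] .fail)), (1, (.step [2, 15, 12, 2, 6, 15, 5] .fail)), (1, (.step [0, 3, 20, 15, 11, 6, 21, 2] .fail)), (1, (.step [2, 12, 6, 20, 7, 3, 15] .fail)), (1, (.step [0, 2, 20, 15, 11, 3, 6] (.step [11, 22, 15, 22, 12] .fail))), (1, (.step [2, 20, 6, 15, 5, 15, 3, 20] .fail)), (1, (.step [3, 20, 15, 11, 6, 21, 2, 15] .fail)), (2, .fail), (1, (.step [0, 2, 20, 15, 21, 6, 12] .fail)), (1, (.step [2, 15, 21, 3, 6, 11,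 11, 15] .fail)), (1, (.step [0, 2, 12, 6, 20, 15, 2, 5] .fail)), (1, .fail), (1, (.step [2, 12, 6, 20, 2, 15, 12, 6] .fail)), (1, (.step [0, 2, 20, 6, 15, 3, 11] .fail)), (1, (.step [2, 12, 6, 15, 20, 15, 3, 11] .fail)), (1, (.step [2, 12, 12, 6, 15, 21] .fail)), (1, (.step [2, 12, 6, 15, 12, 15, 11] .fail)), (1, (.step [0, 3, 12, 6, 15, 12, 15, 3, 20] .fail)), (1, (.step [2, 15, 21, 3, 6, 11, 11, 15] (.step [4, 5, 22, 4, 12] .fail))), (1, (.step [0, 2, 20, 6, 15, 3, 11, 3] .fail)), (1, (.step [2, 20, 6, 15, 12, 12, 2, 20] .fail)), (1, (.step [2, 12, 6, 12, 2, 12, 15, 8] .fail)), (1, (.step [0, 3, 12, 6, 20, 2, 20, 8] .fail)), (1, .fail), (1, (.step [3, 12, 20, 2] .fail)), (1, .fail), (1, (.step [2, 12, 6, 21, 2] .fail)), (1, (.step [2, 15, 12, 2] .fail)), (1, (.step [2, 12, 6, 12, 12, 15, 11] .fail)), (1, (.step [2, 15, 12, 2]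 .fail)), (1, (.step [0, 3, 20, 6, 15] .fail)), (1, (.step [2, 15, 12, 6, 15, 12, 12] .fail)), (1, (.step [0, 3, 20, 6, 15, 3, 20] .fail)), (1, .fail), (1, (.step [2, 12, 6, 15, 20, 15, 2, 11] .fail)), (1, (.step [2, 15, 21, 6, 15, 2] .fail)), (4, .fail), (1, (.step [2, 12, 6, 20, 15, 3] .fail)), (1, .fail), (1, (.step [2, 12, 15, 20, 6, 15, 2] .fail)), (1, (.step [2, 15, 12, 2, 6] (.step [12, 22, 20, 11] .fail))), (1, (.step [2, 15, 12, 6, 15, 21, 2, 12] .fail)), (1, (.step [3, 12, 6, 20, 15, 3, 7] .fail)), (1, (.step [3, 20, 6, 15, 20, 4, 3] (.step [15, 22, 4, 5] .fail))), (1, (.step [2, 20, 2, 6, 15, 11, 3, 12] .fail)), (1, (.step [2, 20, 6, 15, 12, 12, 3, 6] (.step [15, 5] .fail))), (1, (.step [3, 20, 6, 15, 12, 12] (.step [11, 22, 12, 15] .fail))), (1, (.step [2, 15, 5, 6, 15] .fail)), (1, .fail), (1, (.step [2, 12, 6, 15,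 20, 15, 2, 11] (.step [4, 11, 4, 6] .fail))), (1, .fail), (1, (.step [2, 15, 12, 15, 12] .fail)), (1, .fail), (1, (.step [2, 12, 6, 20, 2, 20, 2, 15] .fail)), (1, .fail), (1, (.step [3, 20, 6, 15, 11, 11, 3, 20] .fail)), (1, (.step [2, 12, 6, 12, 2, 12, 15, 2] .fail)), (1, (.step [2, 12, 6, 15, 12, 15, 2, 12, 2] .fail)), (1, (.step [2, 20, 6, 15, 11, 11, 2, 20] .fail)), (2, .fail), (1, (.step [2, 12, 6, 15, 20, 3, 15, 12, 6] .fail)), (1, (.step [2, 20, 6, 15, 2, 12] .fail)), (1, (.step [2, 12, 6, 12, 3, 20, 2, 15, 8] .fail)), (1, (.step [2, 12, 6, 21, 15, 21, 2, 15] .fail)), (1, (.step [2, 20, 6, 15, 20, 15, 5] .fail)), (1, .fail), (1, (.step [2, 12, 6, 20, 3, 15, 12] .fail)), (1, (.step [0, 3, 20, 6, 15, 5, 4, 15] .fail)), (1, (.step [0, 3, 20, 6, 15, 11, 3, 4] .fail)), (1, .fail), (1, (.step [2, 20, 2, 6, 15, 3, 21] (.step [15,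 5, 4, 20] .fail))), (1, (.step [3, 12, 3, 6, 12, 3, 15] .fail)), (1, (.step [0, 2, 20, 6, 15, 21, 3, 15] .fail)), (1, .fail), (1, (.step [2, 20, 6, 15, 11, 3, 8, 20] .fail)), (1, (.step [2, 15, 12, 6, 15, 2] .fail)), (1, (.step [0, 3, 20, 6, 15, 11, 2, 8] .fail)), (1, (.step [2, 12, 6, 20, 7, 3, 20, 15] .fail)), (1, .fail), (1, (.step [2, 15, 12, 6, 15, 11, 15] .fail)), (1, (.step [2, 12, 6, 12, 3, 20, 15, 3] .fail)), (1, (.step [2, 20, 6, 15, 5, 15, 3, 7] .fail)), (1, (.step [2, 12, 6, 12, 12, 15, 5] .fail)), (1, (.step [2, 20, 6, 15, 20, 3, 15, 20] .fail)), (1, (.step [0, 2, 20, 6, 15, 21, 3, 12] .fail)), (1, (.step [2, 20, 6, 15, 5, 15, 3, 20] .fail)), (1, (.step [3, 20, 6, 15, 11] .fail)), (1, (.step [2, 20, 2, 6, 20] .fail)), (1, (.step [3, 12, 6, 20, 2, 12, 15] .fail)), (1, .fail), (1, (.step [2, 15, 21, 3, 6, 12, 15, 8]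 .fail)), (1, (.step [2, 12, 6, 12, 12, 2] .fail)), (1, (.step [2, 20, 6, 15, 3, 15] .fail)), (1, (.step [0, 3, 12, 6, 15, 12, 15, 3] .fail)), (1, .fail), (1, (.step [2, 15, 21, 3, 6, 12, 20, 15, 8] .fail)), (1, (.step [2, 12, 6, 20, 15, 12, 12, 21, 3] .fail)), (1, (.step [2, 20, 6, 15, 11, 11, 20] .fail)), (1, .fail), (1, (.step [2, 20, 6, 15, 21, 8] .fail)), (1, (.step [2, 12, 6, 12, 2, 12, 15, 2] .fail)), (1, (.step [0, 3, 12, 6, 15, 12, 15, 3] .fail)), (1, (.step [0, 2, 20, 6, 15, 3, 11] .fail)), (1, (.step [2, 12, 6, 12, 12] .fail)), (1, .fail), (1, (.step [2, 20, 6, 15, 21, 15, 2, 20] .fail)), (1, .fail), (1, (.step [2, 20, 6, 15, 2, 11, 2, 8] .fail)), (1, (.step [3, 12, 3, 20, 6, 11, 3] .fail)), (1, (.step [3, 20, 15, 20, 6, 11, 2, 15] .fail)), (1, (.step [3, 12, 6, 20, 15, 3, 21, 4] .fail)), (1, (.step [0, 2, 20, 6, 15,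 5, 15, 2] .fail)), (1, (.step [2, 15, 12, 6, 15, 11, 3, 4, 11] .fail)), (1, .fail), (1, (.step [0, 3, 12, 6, 20, 15, 12, 2] .fail)), (1, (.step [2, 15, 21, 3, 20] .fail)), (1, (.step [0, 3, 20, 6, 15, 2, 11] (.step [4, 15, 22, 12, 15] .fail))), (1, (.step [2, 15, 2, 21, 2] .fail)), (1, .fail), (1, (.step [3, 12, 20, 15] (.step [4, 22, 8] (.step [16, 16, 6, 14] .fail)))), (1, (.step [2, 20, 2, 6, 11, 11, 2] .fail)), (1, (.step [2, 12, 15, 12, 6, 12] .fail)), (1, (.step [0, 2, 20, 6, 15, 21, 2] (.step [12, 22, 15, 12] (.step [6, 21] .fail)))), (1, (.step [0, 3, 12, 6, 21, 15, 11, 15] .fail)), (1, (.step [2, 12, 6, 21, 15, 2] (.step [4, 22, 11, 15, 12] .fail))), (1, (.step [2, 12, 6, 20, 15, 3, 8, 20] .fail)), (1, (.step [2, 12, 6, 15, 21, 3, 12] .fail)), (1, (.step [2, 12, 6, 15, 12, 15, 11] .fail)), (1, (.step [2, 20, 6, 15, 11,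 3, 20, 15] .fail)), (1, (.step [2, 15, 21, 3, 6, 11, 11, 15] .fail)), (1, (.step [2, 12, 6, 15, 12, 15, 3, 20, 3] (.step [12, 22, 12, 6] .fail))), (1, (.step [2, 12, 6, 15, 12, 3, 20, 8] .fail)), (1, .fail), (1, (.step [2, 20, 6, 15, 12, 12, 2, 20] .fail)), (1, (.step [2, 20, 6, 15, 11, 3, 15, 8] (.step [4, 22, 5, 6] .fail))), (1, (.step [2, 15, 21, 3, 6, 20, 15, 11] .fail)), (1, (.step [2, 12, 12, 3, 6, 21, 15] (.step [4, 5, 22, 5, 11] .fail))), (1, (.step [0, 3, 12, 6, 20, 3] .fail)), (1, (.step [2, 12, 6, 15, 12, 15, 3, 20, 3] .fail)), (1, (.step [2, 12, 6, 15, 12, 15, 2, 20] .fail)), (1, (.step [3, 12, 6, 20, 15, 11, 2] .fail)), (1, (.step [3, 12, 3, 12, 3, 6, 15] .fail)), (1, (.step [3, 12, 6, 15, 12, 12] (.step [4, 22, 8, 7] .fail))), (1, (.step [2, 11, 15, 11, 11, 6] .fail)), (1, (.step [2, 12, 6, 15, 12, 15, 12, 2, 21]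 .fail)), (1, .fail), (1, (.step [0, 2, 15, 21, 6, 15, 21] .fail)), (1, (.step [3, 12, 3, 6, 20, 15, 3] .fail)), (1, (.step [0, 3, 20, 6, 15, 11, 3, 11, 21] .fail)), (1, .fail), (1, (.step [2, 12, 12, 6, 15, 21] (.step [4, 15, 5, 6, 15] .fail))), (1, (.step [2, 12, 6, 21, 15, 11, 2, 15] .fail)), (1, (.step [2, 20, 6, 15, 21, 4, 3, 7] .fail)), (1, (.step [2, 15, 12, 6, 15, 11, 2, 15] .fail)), (1, (.step [2, 12, 6, 15, 12, 15, 3, 20, 3] .fail)), (1, (.step [3, 20, 6, 15, 21, 4, 3, 15] .fail)), (1, (.step [3, 20, 6, 15, 3, 11, 15, 5] .fail)), (1, (.step [2, 12, 6, 21, 15, 11, 2, 15] .fail)), (1, (.step [2, 12, 6, 15, 20, 4, 3] .fail)), (1, (.step [2, 12, 6, 20, 15, 12, 12, 3] (.step [11, 22, 11, 15, 22, 15] (.step [16, 16, 6, 14] .fail)))), (1, (.step [2, 12, 6, 12, 2, 20, 15, 2, 12] .fail)), (1, (.step [2, 12, 6, 12, 12, 15, 2] .fail)),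 (1, .fail), (1, (.step [2, 20, 6, 15, 20, 3, 15, 20] .fail)), (1, (.step [2, 20, 6, 15, 12, 12, 2, 20] .fail)), (1, (.step [0, 2, 20, 6, 15, 11, 2, 20] .fail)), (1, (.step [2, 12, 6, 12, 2, 20, 8, 15] .fail)), (1, (.step [3, 20, 6, 15, 8, 11, 2] .fail)), (1, (.step [0, 3, 12, 6, 20, 2, 15, 12, 12] .fail)), (1, (.step [2, 12, 6, 15, 20, 15, 2, 11] .fail)), (1, (.step [0, 3, 20, 6, 15, 21, 11, 15, 2] .fail)), (1, .fail), (1, (.step [2, 20, 6, 15, 21, 3, 12, 12] .fail)), (1, (.step [3, 20, 6, 15, 11, 11, 3, 20] .fail)), (1, .fail), (1, (.step [0, 3, 12, 6, 20, 2, 15, 5, 12] .fail)), (1, (.step [0, 3, 20, 6, 15, 21, 15, 20] .fail)), (1, (.step [2, 12, 6, 20, 15, 12, 3] .fail)), (1, (.step [2, 12, 6, 12, 2, 20, 3, 15, 5] .fail)), (2, .fail), (1, (.step [0, 2, 20, 6, 15, 20, 4, 12] .fail)), (1, .fail), (1, (.step [2, 12, 6, 21, 15,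 20, 4] (.step [4, 5, 15, 5, 22, 15] .fail))), (1, (.step [2, 12, 6, 12, 2, 12, 15, 5] .fail)), (1, .fail), (1, (.step [0, 2, 20, 6, 15, 3, 11, 2] .fail)), (1, .fail), (1, (.step [0, 3, 20, 15] (.step [11, 15, 22] .fail))), (1, .fail), (1, (.step [3, 12, 6, 21, 2] (.step [12, 22, 11, 20] .fail))), (1, (.step [3, 20, 6, 15, 5, 4, 3] .fail)), (1, (.step [3, 20, 15, 20, 6] (.step [15, 22, 4, 8] .fail))), (1, (.step [2, 20, 6, 15, 12, 12] .fail)), (1, (.step [2, 20, 2, 6, 20, 15, 3] .fail)), (1, .fail), (1, (.step [3, 20, 6, 15, 5, 8] .fail)), (1, (.step [2, 15, 12, 2, 6, 15, 5] (.step [4, 22, 8] .fail))), (1, .fail), (1, (.step [2, 12, 6, 12, 3, 12, 15, 2] .fail)), (1, (.step [2, 15, 21, 15, 11] (.step [4, 5, 6, 22, 15] .fail))), (1, (.step [2, 12, 6] .fail)), (1, (.step [0, 2, 20, 15, 5, 6, 20] (.step [4, 22, 8, 7] .fail))), (1,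 (.step [0, 2, 20, 2, 15] (.step [4, 8, 22, 12, 12] .fail))), (1, (.step [0, 3, 12, 6, 20, 2, 15] (.step [15, 5, 22] .fail))), (1, .fail), (1, (.step [2, 20, 2, 6] .fail)), (2, .fail), (1, (.step [3, 12, 6, 20, 2, 15] (.step [15, 5, 15] .fail))), (1, (.step [0, 3, 20, 6, 15, 2, 15] .fail)), (1, (.step [2, 12, 6, 21, 3, 11, 15, 2] .fail)), (1, (.step [3, 20, 6, 15, 5, 15, 3] .fail)), (2, .fail), (1, (.step [2, 15, 12, 15, 12, 6, 12] .fail)), (1, (.step [2, 15, 21, 3, 20, 6, 11, 15] (.step [15, 21, 22, 8] .fail))), (1, (.step [0, 2, 20, 6, 15, 11, 11, 3, 15] .fail)), (1, (.step [0, 2, 15, 12, 15, 12] .fail)), (1, (.step [3, 20, 6, 15, 12] .fail)), (1, (.step [3, 20, 6, 15, 2, 21, 15, 21] .fail)), (1, (.step [2, 12, 6, 12, 12, 3, 15, 20] (.step [15, 22, 4, 8] .fail))), (1, .fail), (1, (.step [3, 20, 6, 15, 2, 11, 15] .fail)), (1,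 (.step [3, 20, 6, 15, 3, 11, 8] .fail)), (1, .fail), (1, (.step [0, 3, 20, 6, 15, 21, 15, 5, 6] .fail)), (1, (.step [3, 20, 6, 15, 5, 15, 3, 12] .fail)), (1, .fail), (1, (.step [2, 12, 6, 15, 20, 2, 6, 15] .fail)), (1, (.step [2, 12, 6, 12, 3, 20, 2, 15] .fail)), (1, (.step [2, 12, 6, 20, 15, 5, 12, 3] .fail)), (1, .fail), (1, (.step [2, 12, 6, 15, 20, 3, 15, 12, 6] .fail)), (1, (.step [0, 3, 12, 15, 12, 6, 11, 15] .fail)), (1, (.step [0, 3, 20, 6, 15, 5, 8] (.step [11, 22, 21] .fail))), (1, (.step [2, 15, 2, 21, 3, 6, 7] .fail)), (1, (.step [0, 2, 20, 6, 15, 21, 6] .fail)), (1, (.step [2, 20, 6, 15, 5, 4, 21, 2] (.step [12, 22, 20, 6] .fail))), (1, (.step [2, 12, 6, 12, 3, 20, 15, 3] .fail)), (1, (.step [3, 12, 3, 6, 20, 15, 3, 7] .fail)), (1, (.step [2, 12, 6, 15, 12, 15, 8] .fail)), (1, (.step [2, 12, 6, 15, 20, 3, 15] .fail)),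 (1, .fail), (1, (.step [0, 3, 12, 6, 15, 21, 2, 11] .fail)), (1, (.step [2, 15, 21, 6, 15, 5, 6] .fail)), (1, .fail), (1, (.step [0, 2, 15, 21, 6, 15, 5] .fail)), (1, (.step [2, 12, 6, 20, 15, 5, 6, 12] (.step [4, 22, 15, 22] .fail))), (1, (.step [2, 12, 6, 20, 3, 4, 15] .fail)), (1, (.step [3, 20, 6, 15, 11, 11, 11] .fail)), (1, (.step [2, 12, 6, 20, 15, 21, 3, 20] .fail)), (1, (.step [2, 20, 6, 15, 2, 11, 2, 12] .fail)), (1, (.step [0, 3, 20, 6, 15, 21, 2, 4] (.step [8, 22, 12, 22, 5] .fail))), (1, (.step [2, 15, 21, 3, 6, 7, 20, 15] .fail)), (1, .fail), (1, (.step [3, 12, 3, 6, 20, 15, 3, 5] .fail)), (1, (.step [3, 12, 3, 6, 12, 3, 15, 5] .fail)), (1, (.step [0, 2, 20, 6, 15, 5, 6, 15, 2] .fail)), (1, (.step [3, 12, 3, 6, 12, 15, 3] .fail)), (1, .fail), (1, (.step [2, 12, 6, 15, 20, 3, 15, 12, 6] (.step [4, 5, 22, 4, 12] .fail))),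 (1, (.step [2, 15, 2, 12, 6, 20, 15, 5] .fail)), (1, (.step [2, 12, 6, 15, 20, 15, 3, 4] (.step [4, 11] .fail))), (1, (.step [2, 12, 6, 15, 12, 15, 2, 8, 12] .fail)), (1, (.step [3, 20, 6, 15, 11, 3, 20] (.step [4, 15, 22, 4, 11] (.step [16, 16, 20] .fail)))), (1, (.step [2, 20, 6, 15, 11, 2, 12] .fail)), (1, .fail), (1, (.step [0, 3, 20, 15, 11, 6, 21, 3] .fail)), (1, (.step [2, 12, 6, 20, 7, 15, 12, 2] .fail)), (1, (.step [2, 12, 6, 20, 15, 12, 2, 15] .fail)), (1, (.step [2, 15, 21, 6, 15, 8] .fail)), (1, (.step [2, 12, 6, 15, 12, 15, 2, 12, 15] .fail)), (1, (.step [2, 15, 12, 6, 15, 21, 2, 11] .fail)), (1, (.step [2, 15, 12, 2, 6, 20, 15, 8] .fail)), (1, (.step [2, 12, 6, 15, 12, 15, 2] .fail)), (1, .fail), (1, (.step [3, 12, 3, 6, 12, 15, 3, 20] .fail)), (1, (.step [0, 2, 20, 15, 5, 6, 20, 15] (.step [4, 21, 15, 12] .fail))),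 (2, .fail), (1, (.step [2, 15, 12, 2, 6, 20, 15, 8] .fail)), (1, (.step [3, 12, 6, 20, 2, 20, 15] .fail)), (1, .fail), (1, (.step [2, 20, 6, 15, 11, 2, 21, 4] .fail)), (1, .fail), (1, (.step [2, 20, 15, 21, 6, 12, 15] .fail)), (1, (.step [3, 12, 3, 6, 12, 3, 15, 8] .fail)), (1, (.step [3, 12, 6, 20, 15, 5, 6] .fail)), (1, (.step [2, 12, 6, 15, 20, 6, 15, 8, 20] .fail)), (1, (.step [2, 12, 6, 20, 15, 21] .fail)), (1, (.step [2, 20, 6, 15, 11, 2, 15] .fail)), (1, .fail), (1, (.step [2, 12, 6, 20, 7, 15, 12, 2, 15] .fail)), (1, (.step [2, 20, 6, 15, 21, 3, 8] (.step [4, 22, 5, 11, 15] .fail))), (1, (.step [3, 20, 6, 15, 21, 15, 3, 21] .fail)), (1, .fail), (1, (.step [0, 2, 15, 12, 6, 15, 11, 3] .fail)), (1, (.step [2, 12, 6, 20, 15, 12] .fail)), (1, (.step [0, 3, 12, 6, 15, 12, 15, 3, 20] .fail)), (1, .fail), (1, (.step [2, 20, 6,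 15, 3, 5, 15, 12] .fail)), (1, (.step [0, 3, 20, 6, 15, 21, 2] .fail)), (1, (.step [2, 12, 6, 21, 15, 11, 15] .fail)), (1, .fail), (1, (.step [2, 15, 2, 21, 3, 7] .fail)), (1, (.step [2, 12, 6, 21, 3, 11, 3] .fail)), (1, (.step [2, 12, 15, 12, 5] .fail)), (1, (.step [2, 12, 6, 21, 3, 11, 3] .fail)), (2, .fail), (1, (.step [2, 15, 12, 15, 11] .fail)), (1, (.step [2, 20, 6, 15, 2] .fail)), (1, (.step [0, 3, 12, 6, 20, 2, 20, 8] .fail)), (1, (.step [2, 12, 6, 20, 15, 21, 2, 12] .fail)), (1, (.step [2, 12, 6, 12, 2, 12, 15, 3, 5] .fail)), (1, .fail), (1, (.step [3, 20, 15, 11, 6, 21, 2] .fail)), (1, (.step [2, 15, 2, 12, 6, 12, 15, 3] .fail)), (1, (.step [3, 12, 6, 15, 21, 11] .fail)), (1, (.step [0, 2, 12, 6, 20] .fail)), (1, (.step [2, 20, 15, 12, 6, 11, 2] (.step [8, 22, 11, 22, 21] .fail))), (1, (.step [0, 2, 12, 6, 20, 15, 12]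 .fail)), (1, (.step [0, 3, 20, 6, 15, 11, 3] .fail)), (1, (.step [2, 15, 2, 12, 6, 12, 15, 8] .fail)), (1, (.step [2, 12, 6, 20, 15, 3] .fail)), (3, .fail), (1, (.step [2, 12, 6, 15, 12, 6, 12] .fail)), (1, (.step [3, 12, 3, 6, 12, 15, 8] .fail)), (1, (.step [0, 3, 12, 6, 20, 15, 8, 11] (.step [4, 22, 12, 5] .fail))), (1, (.step [2, 12, 6, 15, 20, 3, 15, 21, 11] .fail)), (1, .fail), (1, (.step [0, 2, 20, 6, 15, 3, 5, 15, 20] .fail)), (1, (.step [2, 12, 6, 20, 15, 2, 11, 6] (.step [4, 22, 11, 21] .fail))), (1, (.step [3, 20, 15, 2, 21, 6, 11] .fail)), (1, (.step [3, 12, 6, 20, 15, 3, 5, 20] (.step [4, 22, 12, 12] .fail))), (1, (.step [2, 12, 6, 20, 15, 21, 3, 20] .fail)), (1, (.step [3, 12, 6, 15, 5, 20, 3] (.step [4, 8, 22, 5] (.step [7, 17, 20] .fail)))), (1, (.step [3, 12, 15, 21, 6, 12] .fail)), (1, (.step [2, 11, 15, 11, 6,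 5, 15, 21, 2] .fail)), (1, (.step [2, 20, 15, 12, 6, 21, 2] (.step [15, 21, 22] .fail))), (1, (.step [2, 20, 6, 15, 21, 4, 3] .fail)), (1, .fail), (1, (.step [0, 3, 12, 6, 20, 15, 5, 12] .fail)), (1, (.step [0, 2, 15, 21, 6, 15, 21, 15, 3] .fail)), (1, .fail), (1, (.step [2, 12, 6, 20, 3, 20, 15] .fail)), (1, (.step [2, 20, 6, 15, 21, 15, 2, 21] (.step [15, 22, 21, 8] .fail))), (1, (.step [2, 12, 6, 20, 7, 3, 15] (.step [12, 22, 11, 8] .fail))), (1, (.step [2, 12, 6, 12, 3, 12, 15, 2] .fail)), (1, .fail), (1, (.step [2, 12, 6, 12, 2, 12, 15, 8] (.step [12, 22, 11, 8] (.step [6, 7] .fail)))), (1, (.step [2, 12, 6, 15, 12, 3, 15, 5, 6] .fail)), (1, (.step [2, 20, 2, 6, 15, 5, 4] (.step [4, 22, 12, 12, 15] .fail))), (1, (.step [2, 15, 21, 3, 6, 7, 20] .fail)), (1, (.step [0, 2, 20, 6, 15, 21, 3, 15] .fail)), (2, .fail), (1, (.step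 [2, 12, 6, 15, 12, 15, 3, 20, 6] .fail)), (1, (.step [2, 12, 6, 12, 2, 12, 6, 15] .fail)), (1, (.step [0, 2, 20, 6, 15, 3, 20, 12] .fail)), (3, .fail), (1, (.step [2, 12, 6, 21, 15, 20, 15] .fail)), (1, (.step [2, 15, 21, 2, 6] .fail)), (6, .fail), (1, (.step [0, 3, 11, 15] .fail)), (1, (.step [0, 2, 20, 2, 6, 15] .fail)), (1, (.step [2, 12, 6, 12, 2, 12, 15, 2] (.step [4, 8, 22, 5] (.step [6, 5, 16] .fail)))), (3, .fail), (1, (.step [0, 3, 11, 15] .fail)), (1, .fail), (1, (.step [2, 12, 6, 20, 15, 3, 8, 20] .fail)), (1, (.step [2, 20, 15, 3, 21, 6, 21] .fail)), (1, (.step [2, 15, 21, 3, 12, 6, 20] .fail)), (1, (.step [3, 20, 6, 15, 8] .fail)), (1, (.step [2, 12, 6, 12, 12, 2, 15] .fail)), (1, (.step [0, 3, 12, 6, 20, 2, 15, 5] .fail)), (1, .fail), (1, (.step [2, 15, 21, 6, 15, 21, 3, 7] .fail)), (1, (.step [3, 12, 6, 20, 15,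 3, 4] .fail)), (1, (.step [2, 15, 12, 6, 15, 21, 2, 12] .fail)), (1, (.step [2, 20, 15, 12, 6, 12] .fail)), (1, (.step [3, 12, 6, 21, 15, 11, 2] .fail)), (1, (.step [2, 12, 6, 15, 20, 3, 15, 21, 11] .fail)), (1, (.step [2, 12, 6, 20, 15, 12, 3, 15, 5] .fail)), (1, (.step [2, 20, 6, 15, 21, 3, 12, 21] .fail)), (1, (.step [0, 3, 12, 6, 15, 12, 15, 3, 20] .fail)), (1, (.step [3, 20, 6, 15, 20, 4] .fail))])

/-- a piece of a certificate -/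
noncomputable def cCp_1 : Cert := (Cert.rl [(1, (.step [3, 12, 6, 20, 2, 20] (.step [12, 22, 12, 15] .fail))), (1, (.step [2, 15, 12, 2, 6, 20, 15, 3] (.step [8, 22, 11, 22, 21] .fail))), (1, (.step [2, 20, 6, 15, 11, 3, 20, 15] .fail)), (1, (.step [2, 12, 6, 15, 20, 2, 15, 11, 20] .fail)), (1, (.step [2, 20, 6, 15, 3, 11, 15] .fail)), (1, (.step [0, 2, 12, 6, 20, 15, 5, 4, 12] .fail)), (1, (.step [0, 2, 20, 6, 15, 3, 11, 8] .fail)), (1, .fail), (1, (.step [2, 12, 6, 20, 7, 3, 15] .fail)), (1, (.step [2, 15, 2, 12, 6, 12, 15, 8] .fail)), (1, (.step [0, 3, 12, 6, 20, 2, 15, 5, 12] .fail)), (1, (.step [2, 12, 6, 12, 3, 12, 15, 2] .fail)), (1, (.step [2, 15, 21, 3, 12] .fail)), (1, (.step [2, 12, 6, 20, 2, 20] .fail)), (1, .fail), (1, (.step [3, 12, 6, 21, 15, 21] .fail)), (1, (.step [2, 12, 6, 20, 7, 15, 2, 21] .fail)), (1, (.step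 [2, 12, 12, 3, 6, 12, 15] .fail)), (1, .fail), (1, (.step [2, 15, 2, 21, 3, 6] .fail)), (1, (.step [2, 12, 6, 20, 15, 2, 11, 15, 5] .fail)), (1, (.step [2, 20, 6, 15, 8, 11, 3, 11, 21] .fail)), (1, (.step [2, 15, 21, 3, 6, 7, 20, 15] .fail)), (1, (.step [0, 2, 12, 6, 20, 15, 2, 21, 7] .fail)), (1, (.step [3, 20, 6, 15, 2, 11, 15, 8] .fail)), (1, (.step [3, 12, 6, 21, 15, 11, 11] .fail)), (1, (.step [3, 20, 6, 15, 2, 21, 15, 20] .fail)), (1, (.step [0, 3, 20, 6, 15, 3, 21, 2] .fail)), (1, (.step [2, 12, 6, 20, 15, 2, 11, 20] .fail)), (1, (.step [2, 20, 6, 15, 21, 4, 15, 2] .fail)), (1, (.step [2, 20, 6, 15, 11, 2, 11] (.step [15, 8, 22] .fail))), (1, (.step [3, 20, 6, 15, 11, 2] .fail)), (1, (.step [0, 2, 20, 6, 15, 21, 2] .fail)), (1, (.step [2, 15, 21, 6, 15, 2] .fail)), (1, .fail), (1, (.step [2, 12, 6, 20, 15, 3, 21, 8] .fail)),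 (1, (.step [3, 12, 3, 6, 12, 15, 2, 8] .fail)), (1, (.step [2, 12, 6, 20, 3, 15] .fail)), (1, (.step [2, 20, 6, 15, 3, 8] (.step [8, 22, 12] .fail))), (1, (.step [2, 12, 6, 15, 12, 15, 20, 3, 11] .fail)), (1, (.step [0, 2, 12, 6, 20, 15, 3, 11, 2] (.step [8, 22, 11] .fail))), (1, (.step [2, 12, 6, 15, 12, 15, 5, 15] .fail)), (1, (.step [2, 12, 6, 20, 15, 3, 8, 7] (.step [12, 22, 5, 21] .fail))), (1, (.step [2, 15, 12, 6, 15, 2, 11, 2] .fail)), (1, (.step [2, 20, 6, 15, 3, 21, 3, 6] .fail)), (1, .fail), (1, (.step [2, 20, 2, 6, 15, 20, 15, 3] .fail)), (1, (.step [2, 15, 21, 6, 15, 21, 3, 15] .fail)), (1, (.step [2, 20, 6, 15, 5, 15, 20, 6] .fail)), (1, (.step [3, 20, 6, 15, 11, 11, 3, 20] .fail)), (1, .fail), (1, (.step [2, 20, 2, 6, 20] (.step [15, 22, 20, 6] .fail))), (1, (.step [2, 20, 6, 15, 5, 15, 20] .fail)), (1, (.step [2,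 12, 6, 15, 12, 3, 15, 5, 6] .fail)), (1, (.step [3, 12, 6, 15, 11, 15, 3, 8] .fail)), (1, (.step [0, 3, 20, 6, 15, 11, 3, 4, 11] .fail)), (1, (.step [0, 3, 20, 6, 15, 12, 12, 15] .fail)), (1, (.step [2, 15, 21, 6, 15, 21, 3, 15] (.step [4, 15, 22, 21, 8] .fail))), (1, .fail), (1, (.step [2, 20, 6, 15, 5, 15, 20] (.step [4, 15, 22, 4, 12] .fail))), (1, .fail), (1, (.step [0, 3, 12, 6, 15, 12, 15, 2, 8] .fail)), (2, .fail), (1, (.step [2, 15, 12, 2, 6, 20, 15, 3] .fail)), (1, (.step [3, 12, 6, 20, 15, 12, 3, 7] (.step [12, 12, 22, 12] .fail))), (1, (.step [0, 2, 20, 6, 15, 5, 15, 2] .fail)), (1, (.step [3, 20, 6, 15, 21, 3, 11] .fail)), (1, .fail), (1, (.step [2, 12, 6, 20, 15, 3, 12, 15, 11] .fail)), (1, (.step [3, 12, 6, 20, 15, 8] .fail)), (1, (.step [3, 12, 6, 15, 12, 15, 2] .fail)), (1, .fail), (1, (.step [2, 12, 6, 20, 15,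 2, 12] .fail)), (1, (.step [2, 12, 6, 21, 15, 21, 3, 8] .fail)), (2, .fail), (1, (.step [2, 15, 12, 6, 15, 11, 2] (.step [4, 5, 22, 15, 20] .fail))), (1, (.step [2, 15, 12, 6, 15, 11, 2] .fail)), (1, (.step [2, 20, 15, 12, 6, 11, 2, 15] .fail)), (1, (.step [2, 12, 6, 20, 15, 5, 12, 3] .fail)), (1, (.step [2, 12, 6, 20, 15, 2, 11, 20] .fail)), (1, (.step [0, 2, 15, 12, 6, 15, 21, 3] .fail)), (1, .fail), (1, (.step [2, 20, 6, 15, 5, 4, 21] (.step [8, 22, 21, 22] .fail))), (1, (.step [2, 20, 6, 15, 20, 3, 15] .fail)), (1, (.step [2, 12, 6, 21, 15, 20, 12] (.step [4, 5, 22, 11, 11] .fail))), (1, (.step [3, 20, 6, 15, 11, 3, 8, 20] .fail)), (1, (.step [3, 12, 3, 12, 6, 12, 15, 2] .fail)), (1, (.step [0, 2, 20, 6, 15, 11, 11, 2, 12] .fail)), (1, (.step [2, 12, 6, 20, 15, 3, 21, 2] (.step [4, 11, 4, 15, 22] .fail))), (1, (.step [0, 2,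 12, 6, 20, 15, 3, 5, 12] .fail)), (1, (.step [3, 20, 6, 15, 2, 12, 15, 3] .fail)), (1, (.step [3, 12, 3, 6, 12, 15, 2, 21] .fail)), (1, (.step [2, 15, 12, 6, 15, 21, 15] .fail)), (1, (.step [3, 20, 6, 15, 11, 15, 2, 11] .fail)), (1, (.step [2, 12, 6, 21, 3, 11, 15, 2] .fail)), (1, (.step [2, 15, 12, 6, 15, 11, 3, 4, 11] (.step [4, 5, 22, 5, 11] .fail))), (1, (.step [3, 12, 6, 20, 2, 15, 21] .fail)), (1, (.step [0, 3, 12, 6, 20, 15, 12, 2] .fail)), (1, (.step [3, 12, 3, 6, 12, 15, 3] .fail)), (1, (.step [2, 15, 12, 2, 6, 15, 5] .fail)), (1, .fail), (1, (.step [2, 20, 6, 15, 5, 15, 21, 2] .fail)), (1, (.step [0, 2, 12, 6, 21, 15, 21, 2] (.step [4, 5, 22, 15, 8, 20] .fail))), (1, (.step [0, 3, 12, 6, 21, 15, 11, 2] (.step [4, 5, 6, 22, 4] .fail))), (1, (.step [2, 15, 12, 6, 15, 11, 3, 4] .fail)), (1, .fail), (1, (.step [2, 15, 2,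 21, 3] .fail)), (1, (.step [0, 3, 12, 20, 3] .fail)), (1, (.step [2, 12, 6, 15, 20, 4, 3, 7] .fail)), (2, .fail), (1, (.step [0, 3, 20, 6, 15, 21, 2, 15] .fail)), (2, .fail), (1, (.step [0, 2, 20, 6, 15, 5, 15, 20] .fail)), (1, .fail), (1, (.step [0, 2, 20, 6, 15, 5, 15, 21] .fail)), (1, .fail), (1, (.step [2, 12, 6, 15, 20, 3, 6, 7] (.step [4, 5, 22, 15, 5, 4] .fail))), (1, (.step [0, 3, 12, 6, 20, 15, 5, 12] .fail)), (1, (.step [2, 15, 2, 12, 6, 12, 15, 5] .fail)), (1, (.step [0, 2, 20, 6, 15, 5, 15, 21] .fail)), (1, (.step [2, 12, 6, 15, 20, 2, 15, 21] .fail)), (1, (.step [2, 20, 6, 15, 12, 12, 2, 21] .fail)), (1, (.step [2, 20, 6, 15, 3, 12, 15, 20, 6] .fail)), (1, .fail), (1, (.step [0, 3, 20, 6, 15, 21, 2, 15] .fail)), (1, (.step [2, 15, 12, 6, 15, 11, 3, 7] .fail)), (1, (.step [3, 12, 15, 12, 6, 12, 3] .fail)), (1, (.step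 [2, 15, 5, 6, 15, 21, 3, 7] .fail)), (1, .fail), (1, (.step [2, 15, 12, 6, 15, 11, 3, 7] .fail)), (1, (.step [2, 20, 15, 3] .fail)), (1, (.step [2, 12, 6, 15, 12, 15, 2, 20] .fail)), (1, .fail), (1, (.step [0, 3, 20, 6, 15, 2, 21] .fail)), (1, (.step [2, 12, 6, 20, 15, 2, 21, 6, 21] .fail)), (1, (.step [2, 20, 6, 15, 3, 12, 15, 20] .fail)), (1, .fail), (1, (.step [2, 12, 6, 12, 2, 20, 3, 15, 5] .fail)), (1, .fail), (1, (.step [0, 2, 15, 21, 3, 6, 11, 11] (.step [4, 22, 8, 21, 11] .fail))), (1, (.step [2, 20, 6, 15, 21, 15, 2, 5] .fail)), (1, .fail), (1, (.step [0, 3, 20, 6, 15, 21, 11, 3] .fail)), (1, .fail), (1, (.step [3, 20, 6, 15, 11, 15, 2, 15] .fail)), (1, (.step [0, 2, 12, 6, 20, 15, 2, 5] (.step [15, 22, 20, 15, 22] .fail))), (1, (.step [3, 12, 6, 20, 2, 15, 2] .fail)), (1, (.step [2, 20, 2, 6, 15, 12, 12] .fail)), (1,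 (.step [0, 3, 12, 6, 20, 2, 15, 12, 6] .fail)), (1, (.step [0, 3, 12, 6, 20, 2, 15, 12, 12] .fail)), (1, (.step [3, 20, 6, 15, 20, 15] .fail)), (1, .fail), (1, (.step [2, 12, 6, 21, 2] (.step [15, 22, 20, 6, 15] .fail))), (2, .fail), (1, (.step [0, 2, 20, 6, 15, 12, 12, 3] .fail)), (1, .fail), (1, (.step [2, 20, 15, 12, 6, 12] .fail)), (1, .fail), (1, (.step [0, 3, 20, 6, 15] .fail)), (1, (.step [3, 20, 6, 15, 11, 2, 12] .fail)), (1, .fail), (1, (.step [0, 2, 12, 6, 21, 15, 21, 2] .fail)), (1, (.step [3, 20, 6, 15, 5] (.step [12, 22, 20, 6] .fail))), (1, .fail), (1, (.step [0, 3, 20, 15, 3] .fail)), (1, .fail), (1, (.step [2, 12, 6, 20, 15, 3, 21] .fail)), (1, .fail), (1, (.step [0, 3, 20, 6, 15, 3] .fail)), (1, (.step [2, 15, 21, 6, 15, 21, 3] .fail)), (1, (.step [0, 2, 20, 6, 15, 11, 11, 3, 15] (.step [15, 5, 12, 22, 21] .fail))),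 (1, (.step [2, 20, 6, 15, 3, 21, 15, 12, 12] .fail)), (1, (.step [2, 20, 2, 6, 15, 21, 3, 7] .fail)), (1, (.step [2, 12, 6, 12, 12, 2, 15, 21] .fail)), (1, (.step [2, 12, 6, 15, 12, 15, 2, 12, 2] .fail)), (1, (.step [3, 12, 20, 15] .fail)), (1, (.step [2, 20, 15, 21, 6, 12, 15] (.step [4, 15, 22, 4, 11] .fail))), (1, (.step [3, 12, 3, 6, 12, 15, 2, 20] .fail)), (1, (.step [2, 15, 2, 21] (.step [4, 11, 15, 12, 22] .fail))), (1, (.step [2, 12, 6, 20, 3, 15] .fail)), (1, (.step [3, 12, 6, 20, 15, 21, 3, 11] .fail)), (1, (.step [3, 12, 6, 21, 15, 11, 11] (.step [15, 5, 12] .fail))), (1, (.step [2, 20, 6, 15, 2, 21, 2, 12] .fail)), (1, (.step [2, 12, 6, 20, 15, 2, 11, 3, 6] .fail)), (1, (.step [3, 20, 6, 15, 3, 11, 8] .fail)), (1, (.step [2, 20, 6, 15, 5, 15, 3, 20] .fail)), (2, .fail), (1, (.step [3, 12, 3, 6, 12, 15, 3] .fail)),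 (1, (.step [0, 2, 20, 6, 15, 21, 2, 12] .fail)), (1, (.step [0, 3, 20, 15, 11, 6, 21, 2] .fail)), (1, (.step [2, 12, 6, 12, 3, 12, 15, 20, 3] (.step [12, 22, 20, 8, 22] .fail))), (1, (.step [3, 12, 6, 20, 15, 3] .fail)), (1, .fail), (1, (.step [2, 12, 6, 15, 12, 15, 12, 2] .fail)), (1, (.step [0, 3, 12, 6, 20, 2, 15] .fail)), (1, (.step [2, 12, 15, 12, 6, 12, 15, 12] .fail)), (1, .fail), (1, (.step [2, 12, 6, 20, 15, 2, 8, 12] .fail)), (1, (.step [2, 15, 12, 2, 6, 20, 15, 21] .fail)), (1, (.step [2, 20, 6, 15, 21, 3, 12, 21] .fail)), (1, (.step [2, 12, 6, 15, 12, 6, 12, 15, 11] .fail)), (1, (.step [2, 15, 2, 21, 6] (.step [4, 15, 5, 15] .fail))), (1, .fail), (1, (.step [2, 20, 6, 15, 11, 3, 20] .fail)), (1, (.step [0, 3, 12, 6, 15, 12, 15, 3, 21] (.step [12, 22, 20, 8, 22] .fail))), (1, .fail), (1, (.step [3, 20, 6, 15, 11, 15]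 (.step [4, 8, 22, 5, 6] (.step [6, 17, 6] .fail)))), (1, (.step [2, 20, 6, 15, 3, 5, 15, 2] .fail)), (1, (.step [2, 20, 6, 15, 3, 12, 15, 20] (.step [4, 8, 20, 22, 15] .fail))), (1, .fail), (1, (.step [2, 15, 21, 6, 15, 5, 4] .fail)), (1, (.step [0, 2, 20, 15, 21, 6, 21] .fail)), (1, (.step [2, 15, 2, 12, 6, 20, 15, 8] .fail)), (1, .fail), (1, (.step [2, 12, 6, 20, 15, 12, 12, 21, 3] .fail)), (1, .fail), (1, (.step [3, 20, 6, 15, 11, 15, 2] .fail)), (1, (.step [0, 2, 20, 6, 15, 3, 20, 12] .fail)), (1, (.step [2, 12, 6, 15, 20, 3, 15] .fail)), (1, (.step [0, 2, 20, 2, 6, 15, 12, 12] .fail)), (1, .fail), (1, (.step [2, 15, 21, 6, 15, 21, 3, 7] .fail)), (1, (.step [2, 15, 12, 6, 15, 2] (.step [4, 5, 22, 15, 12] .fail))), (1, (.step [2, 20, 6, 15, 3, 11, 15] .fail)), (1, (.step [3, 12, 6, 21, 15, 21, 3] .fail)), (1, .fail), (1, (.step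 [2, 20, 6, 15, 2, 5, 4, 3] .fail)), (1, (.step [2, 12, 6, 20, 15, 3, 21, 15] .fail)), (1, (.step [2, 20, 6, 15, 11, 3, 8, 20] .fail)), (1, (.step [2, 20, 6, 15, 2, 11, 2, 8] .fail)), (1, (.step [2, 20, 6, 15, 2, 5, 4, 3] .fail)), (1, .fail), (1, (.step [2, 12, 6, 20, 15, 3, 4, 11] .fail)), (1, (.step [0, 3, 12, 6, 20, 15, 21, 3, 21] (.step [11, 22, 15, 22, 4] (.step [6, 5, 7, 16] .fail)))), (1, (.step [0, 2, 20, 6, 15, 21, 2] .fail)), (1, (.step [2, 11, 15, 11, 6, 21, 15, 21] (.step [4, 5, 6, 15, 8] .fail))), (1, .fail), (1, (.step [2, 12, 6, 20, 15, 2, 11, 11, 20] .fail)), (1, (.step [0, 3, 20, 6, 15, 2, 21, 15] .fail)), (1, (.step [0, 2, 20, 6, 15, 5, 6, 15, 2] .fail)), (1, (.step [2, 12, 6, 15, 12, 15, 2, 8, 12] .fail)), (1, (.step [2, 20, 6, 15, 11, 3, 11] .fail)), (1, (.step [2, 20, 6, 15, 8, 11, 15] .fail)), (1, (.step [3,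 20, 6, 15, 11, 3, 11, 11] .fail)), (1, (.step [3, 12, 6, 20, 15, 5, 6] (.step [4, 22, 12, 12] .fail))), (1, (.step [0, 2, 20, 15, 21, 6, 21] .fail)), (1, .fail), (1, (.step [2, 15, 12, 6, 15, 21] .fail)), (1, (.step [2, 11, 15, 11, 6, 21, 15] .fail)), (1, (.step [2, 12, 6, 15, 20, 15, 3, 4] .fail)), (1, (.step [2, 20, 6, 15, 11, 3, 15, 12] .fail)), (1, (.step [3, 20, 6, 15, 11, 3, 20] .fail)), (1, .fail), (1, (.step [0, 2, 20, 6, 15, 11, 3, 11, 20] (.step [15, 22, 11, 8] .fail))), (1, (.step [3, 15] (.step [4, 12] (.step [6, 7] (.step [20] (.step [22] (.done [9, 9, 9, 9, 9, 9, 9, 9]))))))), (1, (.step [2, 20, 6, 15, 11, 3, 11] .fail)), (1, (.step [3, 12, 6, 15, 12, 15, 12, 6] .fail)), (1, (.step [2, 20, 6, 15, 2, 5, 4, 3] .fail)), (1, (.step [0, 2, 15, 21, 3, 6, 12, 15, 21] (.step [4, 22, 5, 21] .fail))), (1, (.step [2, 15, 12,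 6, 15, 21, 15, 3] .fail)), (1, (.step [2, 15, 12, 6, 15, 21, 3] .fail)), (1, (.step [2, 20, 6, 15, 5, 15, 20, 3] (.step [8, 22, 5, 15] (.step [17, 14, 22] .fail)))), (1, .fail), (1, (.step [0, 3, 12, 6, 20, 15, 12] .fail)), (1, (.step [2, 15, 21, 2, 6, 21, 15] .fail)), (1, (.step [2, 20, 6, 15, 11, 15, 8] .fail)), (1, (.step [2, 12, 6, 20, 15, 2, 11, 15, 5] .fail)), (1, (.step [0, 2, 12, 6, 20, 15, 12, 5] .fail)), (1, (.step [2, 12, 6, 12, 2, 20, 3, 15, 5] .fail)), (1, .fail), (1, (.step [2, 15, 21, 6, 15, 11, 2] .fail)), (1, (.step [0, 2, 20, 6, 15, 20, 12, 6] .fail)), (1, .fail), (1, (.step [3, 12, 6, 20, 15] .fail)), (1, (.step [2, 15, 2, 12, 6, 20, 15, 8] .fail)), (1, (.step [2, 12, 6, 20, 15, 2, 11, 15] .fail)), (1, (.step [2, 15, 12, 6, 15, 5, 15, 3] .fail)), (1, (.step [0, 2, 12, 6, 20, 15, 3, 12] (.step [4, 21, 4, 22]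 .fail))), (1, (.step [0, 3, 12, 6, 15, 12, 15, 2] .fail)), (1, (.step [2, 12, 6, 15, 20, 2, 15, 5, 12] .fail)), (1, (.step [2, 20, 6, 15, 21, 3, 11, 21] (.step [8, 22, 5] .fail))), (1, (.step [2, 20, 6, 15, 21, 15, 2, 5] .fail)), (1, (.step [2, 12, 6, 21, 15, 11, 2, 15] .fail)), (1, (.step [0, 2, 20, 6, 15, 2, 11] .fail)), (1, .fail), (1, (.step [2, 20, 6, 15, 5, 8] .fail)), (1, (.step [2, 20, 6, 15, 5, 4, 3] .fail)), (1, (.step [2, 12, 6, 12, 3, 20, 3, 15] .fail)), (1, (.step [3, 12, 6, 15, 12, 15, 2, 20] .fail)), (1, (.step [3, 20, 6, 15, 11, 2, 8] .fail)), (1, (.step [0, 3, 12, 6, 20, 15, 3, 20, 4] .fail)), (1, (.step [2, 12, 6, 21, 15, 21, 3, 4] .fail)), (1, (.step [2, 20, 6, 15, 21, 4, 3, 15] (.step [4, 22, 12, 20] .fail))), (1, (.step [2, 12, 6, 20, 15, 12, 12] .fail)), (1, (.step [2, 15, 12, 6, 15, 11, 3, 8] .fail)), (2,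 .fail), (1, (.step [2, 12, 6, 20, 15, 21, 2, 6] .fail)), (1, (.step [2, 20, 6, 15, 20, 12, 20] .fail)), (1, (.step [0, 2, 20, 6, 15, 5, 12, 21] .fail)), (1, (.step [2, 15, 12, 15, 11, 6] .fail)), (1, .fail), (1, (.step [0, 3, 20, 6, 15, 21, 2, 15] .fail)), (1, (.step [3, 12, 20, 15] .fail)), (1, (.step [2, 20, 15, 11] (.step [4, 8, 22, 5, 6, 8] .fail))), (1, (.step [2, 15, 21, 3, 6, 20, 15, 12] .fail)), (1, .fail), (1, (.step [3, 12, 6, 15, 11] (.step [4, 22, 12, 20] .fail))), (1, (.step [2, 12, 6, 15, 20, 4, 3] .fail)), (1, (.step [2, 12, 6, 20, 15, 21, 2, 4] .fail)), (1, (.step [3, 20, 6, 15, 20, 12, 12] .fail)), (1, .fail), (1, (.step [2, 15, 12, 6, 15, 21, 2] .fail)), (1, (.step [2, 12, 6, 20, 15, 5] .fail)), (1, (.step [3, 20, 15, 11, 6, 21, 2] .fail)), (1, (.step [0, 3, 12, 6, 21, 15, 11, 15] .fail)), (1, (.step [3, 12,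 20, 15, 8] .fail)), (1, (.step [3, 20, 15, 11] (.step [15, 5, 12, 12, 22] .fail))), (1, (.step [0, 2, 15, 21, 6, 15, 21] .fail)), (1, (.step [2, 20, 15, 12, 6] .fail)), (1, (.step [0, 2, 15, 2, 12] .fail)), (1, (.step [0, 2, 12, 6, 20, 15, 5, 4] .fail)), (1, (.step [3, 20, 6, 15, 11, 15, 2, 15] .fail)), (1, (.step [0, 2, 20, 15, 5, 12, 6] .fail)), (1, (.step [2, 12, 6, 15, 20, 2, 15, 5, 20] .fail)), (1, (.step [0, 3, 20, 15, 2] .fail)), (2, .fail), (1, (.step [2, 20, 6, 15, 11, 2, 6] .fail)), (1, .fail), (1, (.step [2, 12, 6, 15, 20, 15, 8] .fail)), (1, (.step [2, 20, 2, 6, 15, 11] .fail)), (1, (.step [2, 20, 15, 11] .fail)), (1, (.step [0, 3, 12, 6, 20, 2, 15, 12, 12] .fail)), (2, .fail), (1, (.step [2, 12, 6, 15, 12, 3, 15, 21] .fail)), (1, (.step [2, 15, 21, 6, 15, 21, 3, 4] .fail)), (1, (.step [2, 12, 6, 12, 3, 12, 3] .fail)),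 (1, (.step [2, 15, 2] .fail)), (1, (.step [2, 15, 12, 2] .fail)), (1, (.step [3, 12, 3] .fail)), (1, (.step [2, 20, 6, 15, 11, 15, 21] .fail)), (1, (.step [2, 15, 12, 2] .fail)), (1, (.step [0, 3, 20, 6, 15, 12, 12] .fail)), (1, .fail), (1, (.step [2, 12, 6, 21, 15, 20, 4] .fail)), (1, (.step [2, 12, 6, 21, 15, 11, 8, 11] .fail)), (1, .fail), (1, (.step [3, 12, 6, 20, 15, 3, 12, 15] .fail)), (1, (.step [2, 12, 6, 20, 15, 2, 12, 20] .fail)), (1, (.step [2, 15, 12, 15, 2] (.step [4, 5, 22, 15, 12] .fail))), (1, (.step [2, 20, 6, 15, 11, 2, 21] .fail)), (1, .fail), (1, (.step [0, 2, 12, 6, 20, 15, 3, 21, 15] .fail)), (1, .fail), (1, (.step [2, 12, 6, 15, 12, 6, 12, 15] .fail)), (1, (.step [0, 2, 20, 6, 15, 5, 15, 20] .fail)), (1, .fail), (1, (.step [0, 3, 20, 6, 15, 21] .fail)), (1, (.step [2, 15, 21, 3, 6, 12, 15, 20] .fail)), (1,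 (.step [2, 12, 6, 20, 15, 3, 21, 2] .fail)), (1, (.step [2, 20, 6, 15, 2, 5, 4, 3] .fail)), (1, (.step [2, 20, 6, 15, 20, 12, 20] .fail)), (1, (.step [2, 11, 15, 11, 6, 21, 15, 21] .fail)), (1, (.step [2, 12, 6, 20, 2, 15, 2, 12] .fail)), (1, (.step [2, 20, 6, 15, 11, 3, 8, 20] .fail)), (1, (.step [2, 15, 21, 3, 6, 12, 15, 20] .fail)), (1, (.step [2, 12, 12, 3, 6, 21, 15] .fail)), (1, (.step [0, 3, 12, 6, 20, 2, 15, 5, 12] .fail)), (1, (.step [0, 3, 20, 6, 15, 21, 2] .fail)), (1, (.step [2, 12, 6, 15, 12, 15, 3, 20, 6] .fail)), (1, (.step [2, 11, 15, 11, 6, 21, 15, 21] (.step [11, 11, 22, 4] .fail))), (1, (.step [2, 20, 6, 15, 12, 12, 3] .fail)), (1, (.step [2, 12, 6, 20, 15, 2, 15] .fail)), (1, (.step [0, 3, 20, 6, 15, 21] .fail)), (1, (.step [0, 3, 20, 6, 15, 21, 2] .fail)), (1, .fail), (1, (.step [3, 12, 6, 21, 15, 21] .fail)),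 (1, (.step [2, 12, 6, 20, 7, 15, 2, 21] (.step [15, 5, 22, 12] .fail))), (1, (.step [2, 20, 6, 15, 5, 4, 20] .fail)), (1, (.step [2, 12, 6, 20, 15, 8, 7, 3] .fail)), (1, (.step [3, 12, 3, 12, 6, 12, 15, 5] .fail)), (1, (.step [2, 20, 6, 15, 3, 20, 15, 20] (.step [8, 11, 22, 15] .fail))), (1, (.step [2, 12, 6, 21, 15, 21, 15, 3] .fail)), (1, (.step [3, 20, 6, 15, 8, 11, 15] .fail)), (1, (.step [3, 20, 6, 15, 3, 21, 11] .fail)), (1, (.step [0, 2, 12, 6, 21, 15, 21] .fail)), (1, (.step [0, 2, 15, 12, 6, 15, 5] .fail)), (1, (.step [2, 15, 2, 12, 6, 12, 15, 3, 11] .fail)), (1, (.step [2, 12, 6, 15, 12, 3, 15, 5] .fail)), (1, (.step [3, 20, 6, 15, 3, 11, 15, 5] .fail)), (1, (.step [2, 20, 6, 15, 3, 21, 2] .fail)), (1, (.step [3, 20, 6, 15, 11, 11, 3] (.step [15, 22, 8] .fail))), (1, (.step [0, 3, 20, 6, 15, 2, 21, 15, 11] (.step [4,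 11, 6, 15] .fail))), (1, .fail), (1, (.step [2, 12, 6, 20, 15, 12, 12, 21] .fail)), (1, .fail), (1, (.step [2, 12, 6, 15, 20, 3, 15, 12, 6] .fail)), (1, (.step [0, 2, 20, 6, 15, 21, 2, 12] .fail)), (4, .fail), (1, (.step [2, 15, 2, 12, 6, 20] .fail)), (1, (.step [0, 3, 12, 6, 20, 15, 12, 6] (.step [4, 22, 11, 4] .fail))), (1, (.step [2, 15, 21, 6, 15, 21, 3] .fail)), (1, (.step [3, 12, 6, 15, 11, 15, 3, 8] .fail)), (1, (.step [2, 20, 6, 15, 21, 4, 3, 15] (.step [11, 15, 11, 15, 22] .fail))), (1, (.step [2, 20, 6, 15, 5, 15, 20] .fail)), (1, (.step [0, 2, 12, 6, 21, 15, 21, 15] .fail)), (1, .fail), (1, (.step [2, 20, 6, 15, 2, 21, 2, 12] .fail)), (1, (.step [2, 20, 6, 15, 20, 12, 6] (.step [4, 8, 22, 4, 11] .fail))), (1, (.step [3, 12, 6, 15, 11, 15, 3, 8] .fail)), (1, (.step [2, 15, 21, 6, 15, 11, 3] .fail)), (1, (.step [2, 20,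 6, 15, 11, 3, 11, 20] .fail)), (1, (.step [2, 12, 6, 20, 15, 3, 8, 7] .fail)), (1, (.step [2, 20, 6, 15, 5, 4, 3] .fail)), (1, (.step [2, 20, 6, 15, 5, 6, 15, 12] .fail)), (1, (.step [3, 20, 6, 15, 21, 4, 3] .fail)), (1, (.step [3, 12, 3, 6, 12, 15, 2] .fail)), (1, (.step [2, 12, 6, 12, 3, 12, 15, 20, 3] .fail)), (1, (.step [3, 12, 6, 15, 12, 15, 8] (.step [11, 11, 6, 21] .fail))), (1, .fail), (1, (.step [2, 20, 6, 15, 11, 3, 20, 15] .fail)), (1, (.step [0, 3, 20, 15, 11, 6, 21, 3] .fail)), (1, (.step [2, 20, 6, 15, 2, 20, 12, 3] .fail)), (1, (.step [0, 2, 12, 6, 20, 15, 2, 20, 12] .fail)), (1, (.step [2, 15, 21, 3, 6, 20, 15, 8, 21] .fail)), (1, (.step [2, 15, 21, 6, 15, 21, 3, 15] .fail)), (1, (.step [2, 20, 6, 15, 5, 15, 20, 6] .fail)), (1, (.step [2, 20, 6, 15, 11, 3, 11, 6] .fail)), (1, (.step [0, 2, 20, 6, 15, 2, 11, 15]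 .fail)), (1, (.step [0, 3, 12, 6, 15, 21, 15] .fail)), (2, .fail), (1, (.step [2, 12, 6, 15, 12, 6, 15, 12] .fail)), (1, (.step [3, 20, 6, 15, 5, 15, 2] .fail)), (1, (.step [2, 12, 6, 21, 15, 5, 15, 11] .fail)), (1, (.step [2, 12, 6, 20, 7, 3, 15, 20] .fail)), (1, (.step [2, 15, 12, 6, 15, 21, 3] .fail)), (1, (.step [2, 12, 12, 3, 6, 21, 3] (.step [15, 22, 4, 20] .fail))), (1, (.step [3, 12, 3, 6, 12, 15, 20, 3] .fail)), (1, (.step [3, 20, 6, 15, 21, 15, 3, 5] .fail)), (1, .fail), (1, (.step [2, 15, 21, 6, 15, 21, 3, 15] .fail)), (1, (.step [3, 20, 15, 20, 6, 11] .fail)), (1, (.step [2, 12, 12, 3, 6, 21, 3] .fail)), (1, (.step [3, 20, 15, 20, 6, 11, 2] .fail)), (1, (.step [2, 12, 6, 15, 20, 2, 15, 5, 8] (.step [12, 22, 12, 15] .fail))), (1, (.step [2, 20, 6, 15, 21, 15, 3, 7] .fail)), (1, (.step [2, 20, 15, 11, 6, 20, 4] .fail)),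 (1, (.step [2, 12, 6, 21, 15, 5, 4, 3] .fail)), (1, (.step [2, 12, 20, 15, 3] .fail)), (1, (.step [2, 12, 6, 15, 20, 2, 15, 20] .fail)), (1, (.step [3, 20, 6, 15, 11, 8] .fail)), (1, (.step [2, 12, 6, 12, 2, 12, 3, 6] .fail)), (1, (.step [2, 20, 6, 15, 5, 15, 2, 12, 6] .fail)), (1, (.step [0, 2, 20, 2, 6, 15, 12] (.step [8, 22, 20, 15, 8] .fail))), (1, (.step [2, 20, 6, 15, 11, 2, 21] .fail)), (1, (.step [0, 2, 12, 6, 20, 15, 3, 11, 2] .fail)), (1, .fail), (1, (.step [2, 12, 6, 21, 3, 11, 15, 2] (.step [15, 21, 22, 5] .fail))), (1, (.step [2, 12, 6, 12, 2, 12, 15, 5] .fail)), (1, (.step [3, 12, 3, 6, 12, 15, 3] .fail)), (1, (.step [2, 15, 2, 12, 6, 20, 15, 5] .fail)), (1, (.step [0, 3, 20, 6, 15, 2, 21, 15, 11] .fail)), (1, (.step [2, 12, 6, 20, 15, 2, 5, 12] .fail)), (1, .fail), (1, (.step [3, 12, 3, 20] .fail)), (1, (.step [0,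 2, 15, 12, 6, 15, 11, 3, 11] .fail)), (1, (.step [2, 15, 12, 6, 15, 11, 15] .fail)), (1, (.step [3, 20, 6, 15, 11, 15, 2, 21] .fail)), (1, .fail), (1, (.step [2, 20, 6, 15, 11, 21, 15] .fail)), (1, (.step [0, 2, 12, 6, 20, 15, 21, 3] (.step [12, 22, 15, 11] .fail))), (1, (.step [2, 12, 6, 21, 15, 11, 2, 15, 12] .fail)), (1, (.step [2, 15, 12, 6, 15, 21, 2, 8] .fail)), (1, (.step [2, 12, 6, 15, 21, 3, 11, 15, 21] .fail)), (1, (.step [2, 20, 6, 15, 11, 2, 21, 4] .fail)), (1, (.step [0, 3, 20, 6, 15, 3, 12] .fail)), (1, (.step [2, 12, 6, 15, 12, 6, 12, 15, 11] .fail)), (1, (.step [3, 20, 6, 15, 11, 2, 11] .fail)), (1, (.step [2, 20, 6, 15, 21, 3, 8] .fail)), (1, (.step [2, 12, 6, 15, 20, 2, 15, 12] .fail)), (1, (.step [2, 12, 6, 15, 20, 6, 15, 8] .fail)), (1, .fail), (1, (.step [2, 12, 6, 20, 15, 3, 21, 8] .fail)), (1, (.step [2,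 20, 6, 15, 11, 2, 8] .fail)), (1, (.step [2, 12, 6, 20, 15, 12, 12, 21, 3] .fail)), (1, (.step [2, 15, 2, 21, 6, 11, 3] .fail)), (1, (.step [2, 20, 6, 15, 21, 15, 5, 6] .fail)), (1, (.step [0, 2, 15, 21, 3, 6, 12, 15, 5] .fail)), (1, .fail), (1, (.step [3, 20, 6, 15, 20, 15, 20, 6] .fail)), (1, (.step [2, 12, 6, 15, 20, 6, 15, 5] .fail)), (1, (.step [3, 20, 6, 15, 11, 3, 4, 11] .fail)), (1, .fail), (1, (.step [2, 15, 2, 21, 2, 6] .fail)), (1, (.step [2, 20, 6, 15, 3, 12, 15, 20] .fail)), (1, (.step [0, 2, 12, 6, 21, 15, 11, 3] (.step [15, 22, 12] .fail))), (1, (.step [2, 12, 6, 20, 15, 3, 21, 4] .fail)), (1, .fail), (1, (.step [2, 12, 15, 12, 5] .fail)), (1, (.step [2, 12, 6, 15, 21, 3, 12] .fail)), (1, (.step [2, 21, 15, 11, 2] .fail)), (1, (.step [2, 20, 6, 15, 11, 2, 8] .fail)), (1, (.step [3, 20, 6, 15, 11, 2, 15] .fail)),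 (1, (.step [2, 12, 6, 20, 15, 5, 4] .fail)), (1, (.step [2, 12, 6, 15, 20, 6, 15, 8] (.step [11, 15, 11, 15, 22] .fail))), (1, (.step [2, 12, 6, 20, 15, 3, 21, 6] .fail)), (1, (.step [2, 20, 15, 20, 6] .fail)), (1, (.step [3, 12, 3, 6, 12, 15, 2, 21] .fail)), (1, (.step [0, 2, 20, 6, 15, 11, 11, 2, 20] .fail)), (1, (.step [2, 20, 6, 15, 21, 11, 2, 21] .fail)), (1, (.step [3, 12, 6, 20, 15, 3, 20, 2] (.step [8, 22, 21, 22] .fail))), (1, (.step [3, 12, 6, 21, 2, 21] .fail)), (1, (.step [2, 20, 2, 6, 15, 11, 11, 3, 20] .fail)), (1, (.step [2, 20, 6, 15, 11, 3, 8] .fail)), (1, (.step [2, 20, 6, 15, 3, 12, 15, 20] .fail)), (1, (.step [2, 20, 15, 5, 12, 6] (.step [8, 11, 22] .fail))), (1, (.step [2, 20, 6, 15, 11, 11, 2, 6] .fail)), (1, (.step [0, 3, 20, 6, 15] .fail)), (1, (.step [3, 12, 3, 6, 20, 15, 3, 12] .fail)), (1, (.step [0,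 2, 20, 6, 15, 20, 15, 3] .fail)), (1, (.step [2, 12, 6, 12, 12, 2, 15, 21] .fail)), (1, (.step [3, 20, 6, 15, 20, 4, 3, 21] (.step [4, 11, 15, 5, 22] .fail))), (2, .fail), (1, (.step [2, 12, 6, 21, 15, 11, 11] .fail)), (1, (.step [2, 15, 21, 15, 21] .fail)), (1, (.step [2, 20, 6, 15, 8, 11, 15, 3] .fail)), (1, (.step [3, 12, 6, 20, 15, 3, 20] (.step [4, 5, 22, 15, 5] .fail))), (1, (.step [0, 2, 20, 6, 15, 11, 3, 12] .fail)), (1, .fail), (1, (.step [2, 20, 6, 15, 21, 15, 3, 4] .fail)), (1, (.step [2, 20, 6, 15, 5, 15, 21, 3] .fail)), (1, (.step [0, 3, 12, 6, 20, 15, 3, 20] (.step [11, 11, 6, 21] .fail))), (1, (.step [2, 20, 6, 15, 3, 20, 15] .fail)), (1, (.step [3, 20, 6, 15, 21, 2, 15, 8] .fail)), (1, (.step [0, 2, 20, 6, 15, 11, 3, 11] .fail)), (1, (.step [2, 20, 6, 15, 3, 12, 15, 5] .fail)), (1, (.step [2, 12, 6, 20, 15, 3,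 11, 15] .fail)), (1, (.step [2, 12, 15, 12, 6, 12, 15] .fail)), (1, (.step [2, 20, 15, 12, 6, 12, 12, 3] .fail)), (1, (.step [0, 2, 15, 12, 6, 15, 11, 11] .fail)), (1, (.step [2, 12, 6, 20, 15, 2, 5, 6] .fail)), (1, (.step [2, 20, 6, 15, 5, 15, 20] (.step [4, 22, 21, 15, 12] .fail))), (1, (.step [3, 20, 6, 15, 21, 15, 3, 7] .fail)), (1, (.step [2, 12, 6, 12, 3, 12, 15, 20, 3] .fail)), (1, (.step [2, 20, 6, 15, 2, 11, 2, 12] .fail)), (1, (.step [0, 2, 15, 12, 6, 15, 11, 3, 11] (.step [4, 5, 22, 15, 5] .fail))), (1, (.step [0, 2, 20, 6, 15, 2, 11, 3] .fail)), (1, (.step [2, 15, 12, 6, 15, 11, 2] .fail)), (1, (.step [2, 12, 6, 20, 15, 2, 8, 12, 20] (.step [4, 5, 15, 11] .fail))), (1, (.step [0, 2, 12, 6, 20, 15, 3, 11] .fail)), (1, (.step [2, 20, 6, 15, 2, 11, 2, 12] .fail)), (1, .fail), (1, (.step [2, 15, 5, 6, 15, 11, 15] .fail)),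 (1, (.step [0, 3, 20, 15, 11, 6, 21, 2] .fail)), (1, (.step [2, 12, 15, 12, 6, 12, 15, 8] .fail)), (1, (.step [3, 20, 6, 15, 21, 15, 3, 4] .fail)), (1, (.step [0, 3, 12, 6, 15, 12, 15, 12, 3] .fail)), (1, .fail), (1, (.step [2, 15, 21, 6, 15, 8, 11, 3] (.step [11, 22, 15, 22] .fail))), (1, (.step [2, 20, 6, 15, 2, 21, 2, 12] .fail)), (1, (.step [0, 3, 12, 6, 20, 15, 21, 3, 21] .fail)), (1, (.step [0, 3, 20, 6, 15, 21, 3] .fail)), (1, (.step [3, 12, 15, 21, 2] .fail)), (1, (.step [2, 12, 6, 21, 15, 11, 2, 8] (.step [12, 22, 12, 15] .fail))), (1, (.step [2, 20, 6, 15, 20, 12, 15, 2] .fail)), (1, .fail), (1, (.step [2, 15, 12, 2, 6, 20, 15, 21] .fail)), (1, (.step [2, 12, 6, 20, 15, 12, 3, 20, 3] .fail)), (1, (.step [2, 12, 6, 15, 12, 6, 12, 15, 11] .fail)), (1, (.step [2, 12, 6, 12, 12, 3, 15, 20, 6] .fail)), (1, (.step [0, 3, 20,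 6, 15, 11, 2, 8, 20] .fail)), (1, (.step [2, 12, 6, 20, 15, 12, 6, 12] .fail)), (1, (.step [2, 12, 12, 3, 12, 3, 6, 12] (.step [4, 5, 6, 8] .fail))), (2, .fail), (1, (.step [2, 15, 12, 6, 15, 11, 11, 2] (.step [4, 5, 6, 22, 15, 8] .fail))), (1, (.step [2, 20, 6, 15, 11, 21] .fail)), (1, (.step [2, 15, 21, 6, 15, 11, 11] (.step [11, 22, 11, 21, 6] .fail))), (1, (.step [0, 3, 20, 6, 15, 5, 8] .fail)), (1, (.step [2, 20, 6, 15, 21, 4, 3, 15] .fail)), (1, (.step [2, 15, 2, 12, 6, 20] .fail)), (1, (.step [2, 12, 6, 12, 12, 3, 15, 20, 6] .fail)), (1, (.step [2, 12, 6, 12, 12, 3, 15, 20] (.step [15, 22, 4, 8] .fail))), (1, (.step [3, 20, 6, 15, 2, 21, 2] (.step [8, 11, 22] .fail))), (1, (.step [0, 2, 20, 6, 15, 3, 20, 12] .fail)), (1, .fail), (1, (.step [2, 12, 6, 15, 20, 2, 15, 11, 11] .fail)), (1, (.step [0, 2, 20, 6, 15, 3, 20, 12]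 .fail)), (1, (.step [3, 20, 6, 15, 5, 8] .fail)), (1, .fail), (1, (.step [3, 20, 6, 15, 21, 3, 11, 3] .fail)), (1, (.step [0, 3, 12, 6, 20, 15, 12] (.step [4, 21, 4, 22] .fail))), (1, (.step [2, 12, 6, 20, 7, 15, 5, 12, 3] (.step [4, 21, 4, 22, 5] .fail))), (1, (.step [0, 2, 20, 6, 15, 21, 2] (.step [15, 21, 8, 22] (.step [6, 13, 16, 16] .fail)))), (1, (.step [3, 20, 6, 15, 21, 15, 3, 4] .fail)), (1, (.step [2, 20, 6, 15, 12, 3] .fail)), (2, .fail), (1, (.step [3, 20, 6, 15, 21, 2, 12] .fail)), (1, .fail), (1, (.step [0, 3, 20, 6, 15, 21] .fail)), (1, (.step [2, 15, 12, 6, 15, 11, 3, 11] .fail)), (1, (.step [2, 12, 6, 15, 12, 15, 2, 8, 12] .fail)), (1, (.step [2, 20, 15, 21, 6, 12, 15] (.step [4, 5, 15, 5, 15] (.step [17, 7] .fail)))), (1, (.step [0, 2, 12, 6, 20, 15, 2, 5, 12] .fail)), (1, (.step [2, 20, 6, 15, 21, 15, 5, 6]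 .fail)), (1, (.step [3, 12, 6, 20, 15, 12, 3] (.step [12, 12, 22, 12] .fail))), (1, (.step [2, 20, 6, 15, 11] (.step [4, 5, 22, 5, 11] .fail))), (1, (.step [3, 12, 3, 20, 6, 11, 3] (.step [12, 22, 11, 8, 22] .fail))), (1, (.step [2, 20, 15, 21, 6, 12, 12] .fail)), (1, (.step [2, 15, 12, 15, 3] .fail)), (1, (.step [0, 3, 20, 6, 15, 11, 15, 3] .fail)), (1, (.step [2, 20, 6, 15, 21, 15, 5, 6] (.step [8, 22, 5, 6] .fail))), (1, (.step [2, 12, 6, 20, 15, 2, 11, 11, 20] .fail)), (1, (.step [3, 12, 3, 12, 6, 21, 15, 12] .fail)), (1, (.step [3, 12, 6, 20, 15, 12, 6, 15] (.step [11, 15, 5, 15] .fail))), (1, (.step [2, 12, 6, 12, 2, 20, 3] .fail)), (1, (.step [2, 11, 15, 11, 6, 21, 15] .fail)), (1, (.step [0, 2, 20, 6, 15, 11, 2] (.step [8, 22, 12, 22, 5] .fail))), (1, (.step [2, 12, 6, 20, 3, 15] .fail)), (1, (.step [3, 12, 3, 6, 12, 15,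 2, 21] .fail)), (1, (.step [2, 20, 6, 15, 11, 11, 15] .fail)), (1, (.step [2, 12, 6, 12, 3, 20, 3, 20] .fail)), (1, (.step [2, 20, 6, 15, 2, 5, 4, 3] .fail)), (2, .fail), (1, (.step [2, 20, 6, 15, 11, 2, 8] .fail)), (1, (.step [2, 20, 6, 15, 11, 11, 3] (.step [4, 12, 22, 15, 21] .fail))), (1, (.step [2, 20, 6, 15, 11, 3, 15, 12] .fail)), (1, .fail), (1, (.step [2, 20, 15, 11, 6, 20, 4] .fail)), (1, (.step [0, 3, 12, 6, 15, 12, 15, 2] .fail)), (1, (.step [3, 20, 6, 15, 21, 4, 3, 11] .fail)), (1, (.step [2, 15, 12, 6, 15, 21] .fail)), (2, .fail), (1, (.step [2, 15, 2, 12, 6, 20, 3, 4] .fail)), (1, (.step [2, 12, 6, 20] .fail)), (1, (.step [2, 15, 21, 3, 4, 6] .fail)), (1, (.step [2, 12, 6, 12, 3, 20, 3, 15] .fail)), (1, (.step [2, 20, 6, 15, 11, 2, 8] .fail)), (1, (.step [2, 12, 6, 20, 15, 2, 11, 11] (.step [12, 15] .fail))), (1,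 (.step [3, 20, 6, 15, 11, 8] .fail)), (2, .fail), (1, (.step [3, 12, 3, 6, 12, 15, 2, 21] (.step [4, 5, 15, 21, 4] .fail))), (1, (.step [0, 2, 15, 21, 6, 15, 5] .fail)), (2, .fail), (1, (.step [0, 2, 12, 6, 20, 15, 2, 21, 7] .fail)), (1, (.step [0, 3, 12, 6, 15, 12, 12] .fail)), (1, (.step [0, 2, 20, 6, 15, 5, 20, 3, 15] .fail)), (1, (.step [2, 20, 2, 6, 20, 15, 2] (.step [12, 12, 22, 12] .fail))), (1, (.step [2, 15, 12, 6, 15, 21, 15, 3] .fail)), (1, (.step [2, 12, 12, 6, 15, 21, 15] .fail)), (2, .fail), (1, (.step [2, 12, 6, 20, 15, 3, 21, 6] .fail)), (1, (.step [2, 20, 6, 15, 8, 20] (.step [15, 22, 20, 15, 22] .fail))), (1, (.step [0, 3, 20, 6, 15, 21, 4] .fail)), (1, (.step [2, 12, 6, 15, 20, 2, 15, 8, 21] .fail)), (1, (.step [2, 20, 6, 15, 20, 4, 12] .fail)), (1, (.step [0, 3, 20, 6, 15, 21] .fail)), (1, .fail), (1, (.step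 [0, 2, 20, 6, 15, 21, 8] .fail)), (1, (.step [3, 12, 6, 20] .fail)), (1, (.step [2, 12, 6, 20, 15, 2, 8, 12] .fail)), (3, .fail), (1, (.step [2, 12, 6, 20, 15, 3, 21, 2] .fail)), (1, (.step [3, 12, 3, 6, 12, 15, 3, 21] (.step [15, 22, 11, 22, 8] .fail))), (1, .fail), (1, (.step [0, 2, 20, 6, 15, 11, 2, 12] .fail)), (1, (.step [3, 12, 6, 20, 15, 12] .fail)), (1, (.step [2, 12, 6, 15, 12, 3, 15, 21] (.step [11, 22, 15, 22] .fail))), (1, (.step [0, 3, 20, 6, 15, 21, 11, 3] .fail)), (1, (.step [0, 2, 15, 12, 6, 15, 21, 3] .fail)), (1, (.step [3, 20, 6, 15, 11, 2, 8] .fail)), (1, (.step [0, 2, 12, 6, 20, 15, 3, 21, 15] .fail)), (1, (.step [2, 12, 6, 15, 12, 15, 2, 5] (.step [15, 8, 22] .fail))), (1, .fail), (1, (.step [0, 3, 12, 6, 20, 15, 3, 4] .fail)), (1, (.step [2, 20, 6, 15, 21, 3, 12] .fail)), (1, (.step [3, 20, 6, 15, 21, 2,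 8, 12, 15] .fail)), (1, (.step [2, 15, 12, 6, 15, 21, 3, 8] (.step [4, 5, 8, 22, 4] .fail))), (1, (.step [2, 12, 6, 20, 15, 3, 5, 4, 12] .fail)), (1, (.step [0, 3, 12, 6, 20, 2, 15, 21, 11] .fail)), (1, .fail), (1, (.step [3, 12, 6, 20, 15, 3, 5, 4] .fail)), (1, (.step [2, 15, 2, 21, 3, 6, 11, 15] .fail)), (1, (.step [3, 12, 6, 21, 15, 11] .fail)), (1, (.step [2, 12, 6, 20, 3, 15, 11, 2] .fail)), (1, (.step [2, 20, 6, 15, 21, 3, 12] .fail)), (1, (.step [2, 20, 6, 15, 5, 6, 12] (.step [15, 11, 6, 22] .fail))), (1, (.step [2, 20, 6, 15, 21, 6] (.step [15, 22, 20, 6] .fail))), (1, (.step [2, 12, 6, 15, 12, 15, 5, 15] .fail)), (1, .fail), (1, (.step [2, 12, 6, 20, 15, 12, 12, 3, 7] .fail)), (1, (.step [3, 20, 6, 15, 11, 3, 11, 6] .fail)), (1, (.step [2, 20, 6, 15, 2, 11, 3, 4] .fail)), (1, (.step [2, 12, 6, 15, 20, 2, 15, 3] (.step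 [15, 22, 21] .fail))), (1, (.step [2, 12, 15, 12, 6, 12, 15, 12] .fail)), (1, (.step [2, 20, 15, 11, 6] .fail)), (1, (.step [0, 2, 12, 6, 20, 7, 15, 2] .fail)), (1, (.step [3, 20, 6, 15, 8, 11, 15, 3] .fail)), (1, (.step [0, 2, 12, 6, 20, 15, 2, 5, 12] .fail)), (1, (.step [2, 12, 6, 20, 15, 21, 2, 4] .fail)), (1, (.step [2, 12, 6, 15, 12, 15, 5, 15] .fail)), (1, .fail), (1, (.step [2, 12, 6, 15, 20, 2, 15, 5, 20] .fail)), (1, (.step [2, 12, 6, 20, 7, 3, 15, 12] .fail)), (1, (.step [2, 20, 6, 15, 21, 2, 11] .fail)), (1, (.step [0, 2, 20, 6, 15, 11, 3, 12] .fail)), (1, (.step [2, 20, 6, 15, 11, 3, 20] (.step [4, 5, 22, 11] .fail))), (1, (.step [2, 15, 21, 6, 15, 5, 4, 3] .fail)), (1, .fail), (1, (.step [2, 15, 21, 6, 15, 21, 3, 4] .fail)), (1, (.step [2, 20, 6, 15, 20] (.step [4, 12, 22] .fail))), (1, (.step [2, 15, 12, 6, 15, 11,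 3, 11] .fail)), (2, .fail), (1, (.step [2, 12, 6, 20, 15, 2, 12, 20] .fail)), (1, (.step [2, 12, 6, 12, 3, 21] .fail)), (1, .fail), (1, (.step [3, 20, 6, 15, 2, 21, 15, 21] .fail)), (1, (.step [2, 20, 6, 15, 2, 11, 3, 4] .fail)), (1, (.step [0, 3, 12, 15, 12, 6, 11] .fail)), (1, (.step [0, 2, 12, 6, 20, 15, 3, 11, 2] (.step [4, 12, 22, 5, 4] .fail))), (1, (.step [2, 20, 2, 6, 15, 21, 3, 7] .fail)), (2, .fail), (1, (.step [2, 20, 6, 15, 3, 21, 8, 15] .fail)), (1, (.step [0, 2, 12, 6, 20, 3, 15] (.step [4, 22, 5, 11, 22] .fail))), (1, (.step [2, 20, 2, 6, 20, 15, 3, 11] .fail)), (1, .fail), (1, (.step [3, 12, 6, 20, 15, 12, 3, 7, 15] (.step [4, 22, 5, 21] .fail))), (1, (.step [0, 2, 20, 15, 12, 6, 11] .fail)), (1, (.step [2, 12, 6, 15, 12, 15, 8] .fail)), (1, (.step [2, 12, 6, 15, 12, 6, 15, 21] .fail)), (1, (.step [0, 2, 12, 6,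 21, 3, 11] .fail)), (1, (.step [3, 20, 6, 15, 11, 11, 3] .fail)), (1, (.step [3, 12, 6, 15, 12, 15, 12, 6] .fail)), (1, .fail), (1, (.step [2, 20, 6, 15, 11] .fail)), (1, (.step [2, 12, 6, 21, 15, 21, 4, 3] .fail)), (1, (.step [0, 3, 20, 6, 15, 11, 15, 3] .fail)), (1, (.step [2, 12, 6, 15, 12, 15, 8] .fail)), (1, (.step [2, 20, 6, 15, 11, 11] .fail)), (1, .fail), (1, (.step [2, 20, 6, 15, 5, 8] .fail)), (1, (.step [0, 2, 12, 6, 20, 15, 2, 21] .fail)), (1, (.step [2, 12, 6, 15, 12, 15, 20, 3, 11] .fail)), (1, (.step [3, 20, 15, 11, 6, 21, 3] .fail)), (2, .fail), (1, (.step [2, 11, 15, 11, 6, 21, 15, 21] .fail)), (1, (.step [2, 12, 12, 3, 6, 12, 3] .fail)), (2, .fail), (1, (.step [2, 12, 6, 21, 15, 21, 2, 15] .fail)), (1, (.step [0, 2, 12, 6, 20, 15, 12, 2, 12] .fail)), (1, (.step [2, 12, 6, 21, 15, 11, 11] .fail)), (1, (.step [2,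 15, 12, 6, 15, 21, 15, 3] .fail)), (1, (.step [0, 2, 20, 6, 15, 2, 11, 3, 4] .fail)), (1, (.step [0, 2, 12, 6, 21, 3, 11] .fail)), (1, (.step [2, 12, 6, 20, 7, 3] .fail)), (1, (.step [2, 20, 6, 15, 5, 15, 20, 3] .fail)), (1, (.step [2, 11, 15, 21, 6, 11, 15, 8] .fail)), (1, .fail), (1, (.step [2, 20, 2, 6, 11, 11] .fail)), (1, (.step [0, 2, 12, 6, 21, 15, 21] .fail)), (2, .fail), (1, (.step [2, 20, 6, 15, 20, 12, 15, 2] (.step [4, 15, 22, 4, 12] .fail))), (2, .fail), (1, (.step [2, 20, 6, 15, 11, 2, 21] .fail)), (1, (.step [0, 3, 20, 6, 15, 11, 2, 11] (.step [11, 22, 15, 5, 6] .fail))), (1, (.step [0, 2, 12, 6, 20, 15, 21, 8] .fail)), (1, (.step [0, 2, 12, 6, 20, 15, 2, 21, 4] .fail)), (1, (.step [3, 20, 6, 15, 21, 2, 20, 8] .fail)), (1, (.step [0, 3, 20, 6, 15, 11, 8, 11] .fail)), (1, (.step [2, 12, 6, 20, 15, 2, 20, 12] (.step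 [15, 5, 12, 12, 22] .fail))), (1, (.step [0, 3, 12, 6, 15, 12, 15, 12, 3] .fail)), (1, (.step [0, 2, 20, 6, 15, 11, 15, 11] .fail)), (1, (.step [2, 15, 21, 2, 6, 21] .fail)), (1, .fail), (1, (.step [0, 2, 12, 6, 21, 3, 11, 15] .fail)), (2, .fail), (1, (.step [2, 12, 6, 15, 12, 3, 15, 21] .fail)), (2, .fail), (1, (.step [3, 12, 6, 20, 2, 20, 2] .fail)), (1, (.step [2, 12, 6, 15, 12, 15, 2, 8, 12] .fail)), (3, .fail), (1, (.step [2, 20, 6, 15, 2, 21, 2, 12] (.step [4, 22, 11, 15, 12] (.step [16, 22] .fail)))), (1, (.step [2, 12, 6, 15, 12, 15, 8] .fail)), (1, (.step [2, 20, 6, 15, 20, 12, 20, 2] .fail)), (1, (.step [3, 12, 6, 20, 2, 15, 12, 12] .fail)), (1, (.step [2, 20, 6, 15, 11, 3, 11, 6] (.step [12, 22, 11, 20] .fail))), (2, .fail), (1, (.step [2, 20, 2, 6, 15, 20, 4, 3] .fail)), (1, (.step [2, 20, 6, 15, 11, 11, 3, 21] .fail)),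 (3, .fail), (1, (.step [2, 15, 21, 3, 6, 12, 6, 12] .fail)), (1, (.step [2, 20, 6, 15, 20, 12, 20] .fail)), (1, (.step [2, 20, 2, 6, 15, 20, 4] .fail)), (1, .fail), (1, (.step [2, 20, 6, 15, 11, 2, 8] .fail)), (1, (.step [0, 3, 20, 15, 11, 6, 21] .fail)), (1, .fail), (1, (.step [3, 12, 20, 15, 8] (.step [15, 11, 22, 5, 15] .fail))), (1, (.step [2, 20, 6, 15, 5, 4, 21, 2] .fail)), (1, (.step [2, 20, 6, 15, 5, 12, 21] .fail)), (1, (.step [2, 20, 6, 15, 5, 15, 2, 20] .fail)), (1, (.step [2, 15, 12, 15, 2] .fail)), (1, .fail), (1, (.step [3, 12, 6, 20, 2, 12, 20] .fail)), (2, .fail), (1, (.step [0, 2, 12, 6, 20, 7, 3, 15, 12] (.step [15, 11, 22, 12] .fail))), (1, (.step [2, 12, 6, 20, 15, 12, 3, 12] (.step [4, 5, 12, 22, 12, 6] .fail))), (1, (.step [2, 20, 6, 15, 5, 15, 3, 7] .fail)), (2, .fail), (1, (.step [2, 20, 6, 15, 21, 15,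 3, 15] .fail)), (1, (.step [2, 20, 6, 15, 8, 11, 15, 2] .fail)), (1, .fail), (1, (.step [2, 12, 6, 15, 20, 2, 15, 12, 15] .fail)), (1, (.step [0, 2, 20, 6, 15, 3, 5, 15] .fail)), (1, .fail), (1, (.step [0, 2, 12, 6, 20, 3, 15, 3] .fail)), (1, (.step [2, 20, 6, 15, 11, 8] .fail)), (1, .fail), (1, (.step [0, 3, 12, 6, 20, 15, 12, 6] .fail)), (1, .fail), (1, (.step [2, 12, 6, 20, 7, 3] .fail)), (2, .fail), (1, (.step [0, 2, 12, 6, 21, 15, 11, 2] .fail)), (1, .fail), (1, (.step [2, 15, 21, 3, 6, 7, 21] .fail)), (1, (.step [2, 20, 6, 15, 5, 15, 20] .fail)), (1, (.step [2, 20, 6, 15, 21, 15, 3, 4] .fail)), (1, (.step [0, 3, 20, 6, 15, 5, 8] .fail)), (1, (.step [2, 12, 6, 21, 15, 5, 15, 11] .fail)), (1, (.step [3, 20, 6, 15, 21, 2] (.step [15, 22, 5, 21] .fail))), (1, (.step [3, 12, 3, 6, 12, 3, 12] .fail)), (1, .fail), (1, (.step [3,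 12, 6, 21, 15, 11, 11] .fail)), (1, (.step [3, 20, 15, 20, 6, 11] .fail)), (1, (.step [2, 20, 6, 15, 3, 5, 4, 15] .fail)), (1, (.step [2, 20, 6, 15, 20, 4, 21] (.step [8, 11, 22, 4] .fail))), (1, (.step [3, 12, 6, 20, 15, 5, 4, 3] .fail)), (1, (.step [2, 12, 6, 12, 2, 20, 15, 3, 11] .fail)), (1, (.step [2, 12, 6, 15, 12, 15, 3, 12] .fail)), (1, (.step [2, 12, 12, 3, 6, 21, 3, 7] .fail)), (1, (.step [2, 12, 12, 6, 15, 21, 15] .fail)), (1, (.step [2, 12, 6, 20, 3, 15, 3, 12] .fail)), (1, (.step [2, 15, 2, 12, 6, 20, 2] .fail)), (1, (.step [2, 20, 15, 12, 6, 12, 12, 3] .fail)), (1, (.step [2, 20, 6, 15, 2, 21, 3] .fail)), (1, .fail), (1, (.step [0, 2, 20, 6, 15, 2] .fail)), (1, (.step [2, 12, 6, 20, 3, 15, 3, 8] .fail)), (1, (.step [3, 12, 6, 21, 15, 11, 11] .fail)), (1, (.step [2, 20, 6, 15, 2, 5, 4, 3] .fail)), (1, (.step [0, 3,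 20, 15, 11, 6, 21, 3] (.step [4, 15, 5, 22] .fail))), (1, (.step [2, 20, 15, 21, 6, 12] .fail)), (1, (.step [2, 20, 6, 15, 21, 15, 3, 4] .fail)), (1, (.step [3, 20, 6, 15, 20, 12, 3] (.step [15, 5, 6, 22] .fail))), (1, (.step [2, 11, 15, 21] .fail)), (1, (.step [0, 3, 12, 6, 15, 21, 2, 21] .fail)), (1, (.step [0, 2, 12, 6, 20, 3, 15] (.step [4, 21, 4, 15] .fail))), (1, (.step [2, 12, 15, 12, 3, 6, 20, 15] .fail)), (1, (.step [2, 20, 6, 15, 11, 11, 3, 12] .fail)), (1, (.step [0, 2, 20, 2, 6, 15, 12] .fail)), (1, (.step [2, 20, 6, 15, 11, 2, 21] .fail)), (1, (.step [0, 2, 12, 6, 20, 15, 3, 11, 2] (.step [8, 22, 20, 15] .fail))), (1, (.step [3, 20, 6, 15, 21, 4, 3, 11] .fail)), (1, (.step [2, 12, 6, 15, 20, 3, 15, 12] .fail)), (2, .fail), (1, (.step [0, 3, 20, 6, 15, 21, 15, 3, 5] .fail)), (1, .fail), (1, (.step [2, 20, 6, 15, 2,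 11, 8] .fail)), (1, (.step [3, 12, 3, 6, 12, 15, 20, 2] .fail)), (1, (.step [3, 20, 6, 15, 2, 11, 15] .fail)), (1, .fail), (1, (.step [2, 12, 15, 12, 6, 12, 15, 2, 5] .fail)), (1, (.step [3, 12, 6, 20, 2, 12, 20] .fail)), (1, (.step [2, 12, 15, 12, 6, 21, 15] .fail)), (1, (.step [2, 12, 6, 12, 12, 3, 15, 20, 6] .fail)), (1, (.step [3, 12, 6, 21, 15, 11, 3] .fail)), (2, .fail), (1, (.step [3, 12, 6, 20, 2, 12, 20] .fail)), (1, .fail), (1, (.step [2, 12, 6, 15, 12, 15, 5, 11] .fail)), (2, .fail), (1, (.step [2, 20, 15, 3, 20] .fail)), (1, (.step [2, 20, 6, 15, 11, 21] (.step [15, 12] .fail))), (1, (.step [3, 12, 6, 20, 15, 2, 11, 3] .fail)), (1, (.step [2, 12, 6, 20, 15, 12, 12, 21, 3] .fail)), (1, (.step [2, 20, 6, 15, 3, 5, 12, 15] .fail)), (1, (.step [3, 20, 6, 15, 20, 12] .fail)), (1, (.step [0, 2, 12, 6, 20, 7, 15] .fail)),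 (1, (.step [2, 20, 6, 15, 2, 11, 3, 8] .fail)), (1, (.step [0, 2, 20, 6, 15, 11, 15, 11, 21] .fail)), (2, .fail), (1, (.step [3, 12, 6, 20, 2, 12, 20, 15] .fail)), (1, (.step [2, 12, 6, 20, 15, 2, 12, 15] .fail)), (1, .fail), (1, (.step [2, 15, 12, 6, 15, 11, 11, 11] .fail)), (1, (.step [0, 2, 20, 15, 21, 6, 12, 15] .fail)), (1, (.step [2, 20, 6, 15, 8, 11, 11] .fail)), (1, (.step [2, 12, 6, 15, 20, 4, 15, 3] .fail)), (1, (.step [2, 12, 6, 15, 20, 15, 8, 7, 3] .fail)), (1, (.step [2, 20, 6, 15, 21, 3, 11, 11] .fail)), (1, (.step [2, 12, 6, 20, 15, 2, 11] .fail)), (1, (.step [2, 12, 6, 15, 12, 6, 12, 15] .fail)), (1, (.step [2, 12, 6, 15, 12, 15, 8] .fail)), (1, .fail), (1, (.step [2, 20, 6, 15, 21, 3, 20, 15] .fail)), (1, (.step [3, 12, 6, 15, 12, 15, 3] .fail)), (1, (.step [2, 12, 6, 20, 15, 21, 3, 12] .fail)), (1, (.step [2,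 12, 6, 20, 7, 3, 4] .fail)), (2, .fail), (1, (.step [0, 3, 12, 6, 21, 15, 11, 2] .fail)), (1, .fail), (1, (.step [2, 20, 2, 6, 15, 20, 4, 3] (.step [4, 5, 22, 15, 20, 7] .fail))), (1, (.step [2, 12, 6, 15, 20, 6, 15, 8] .fail)), (1, (.step [3, 20, 6, 15, 20, 4, 3, 21] .fail)), (1, (.step [2, 15, 21, 15, 21, 6] .fail)), (1, .fail), (1, (.step [2, 15, 2, 12, 6, 12, 15, 5] (.step [4, 22, 21, 7, 15] .fail))), (1, (.step [2, 20, 6, 15, 8, 11, 15, 3] (.step [11, 11, 15, 22, 12] .fail))), (1, (.step [0, 3, 12, 15, 12, 6, 11, 2] .fail)), (1, (.step [0, 2, 12, 6, 20, 15, 3, 11] .fail)), (1, (.step [0, 3, 20, 6, 15] .fail)), (1, (.step [3, 12, 3, 6, 20, 15, 3, 12] .fail)), (1, (.step [2, 12, 6, 20, 15, 2, 12, 20] .fail)), (1, (.step [2, 12, 6, 20, 15, 12, 2, 15] .fail)), (1, (.step [3, 20, 6, 15, 20, 15, 20, 6] .fail)), (1, .fail), (1,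 (.step [2, 15, 21, 6, 15, 21, 11] (.step [15, 22, 4, 5] .fail))), (1, (.step [2, 15, 12, 3] .fail)), (1, (.step [3, 20, 6, 15, 21, 11, 2, 21] .fail)), (1, (.step [3, 12, 6, 21, 15, 11] .fail)), (1, (.step [2, 15, 12, 6, 15, 11, 11, 2] .fail)), (1, .fail), (1, (.step [2, 12, 6, 15, 20, 15, 3] .fail)), (1, (.step [2, 12, 6, 20, 15, 2, 11, 6, 15] .fail)), (1, (.step [2, 12, 6, 12, 12, 3, 15, 20, 6] .fail)), (1, (.step [2, 12, 6, 15, 12, 15, 21, 2, 12] (.step [4, 5, 15, 21, 6] .fail))), (1, .fail), (1, (.step [2, 15, 12, 6, 15, 11, 11, 2] .fail)), (1, (.step [0, 2, 20, 6, 15, 3, 11, 15] .fail)), (1, (.step [2, 15, 12, 6, 15, 11, 2, 21] .fail)), (1, (.step [3, 20, 6, 15, 11, 3, 4] (.step [12, 22, 12, 7, 15] .fail))), (1, (.step [0, 2, 20, 6, 15, 11, 3] .fail)), (1, (.step [2, 12, 6, 15, 20, 2, 15, 21, 12] .fail)), (1, (.step [2, 20,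 6, 15, 21, 3, 8, 20] .fail)), (1, (.step [2, 12, 6, 12, 2, 12, 3, 6] .fail)), (1, (.step [2, 20, 6, 15, 11, 3, 8, 20] .fail)), (1, (.step [0, 2, 15, 12, 6, 15, 11, 3, 11] .fail)), (1, (.step [2, 20, 6, 15, 3, 20, 15] .fail)), (1, (.step [2, 20, 6, 15, 3, 12, 15] .fail)), (1, (.step [2, 12, 15, 12, 6, 21, 15, 5] .fail)), (1, (.step [2, 12, 6, 15, 12, 15, 5, 15] (.step [4, 5, 12, 22, 5] .fail))), (1, .fail), (1, (.step [2, 20, 6, 15, 21, 2, 11, 3] .fail)), (1, (.step [2, 20, 6, 15, 11, 6] .fail)), (1, (.step [0, 2, 12, 6, 20, 15, 2, 21, 3] .fail)), (1, (.step [0, 3, 12, 6, 20, 2, 15] .fail)), (1, (.step [3, 20, 6, 15, 2, 21, 15] .fail)), (1, (.step [2, 12, 6, 12, 3, 12, 15, 20, 3] .fail)), (1, .fail), (1, (.step [2, 20, 2, 6, 20, 15, 3, 8] .fail)), (1, (.step [2, 12, 6, 15, 20, 15, 3, 8, 20] .fail)), (1, (.step [2, 20, 6, 15, 5,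 15, 21] .fail)), (1, (.step [2, 20, 6, 15, 20, 12, 20] (.step [4, 12, 22, 11] .fail))), (1, (.step [0, 3, 12, 15, 12, 6, 12, 3] .fail)), (1, (.step [2, 12, 6, 15, 12, 15, 2] .fail)), (1, (.step [3, 20, 6, 15, 21, 15, 3] .fail)), (1, (.step [0, 2, 12, 12, 6, 15, 21, 2] .fail)), (1, (.step [0, 2, 12, 6, 20, 15, 3, 11] .fail)), (1, (.step [2, 12, 6, 20, 15, 12, 3, 12] .fail)), (1, (.step [3, 20, 6, 15, 20, 4, 3, 21] .fail)), (1, .fail), (1, (.step [2, 12, 6, 21, 15, 20, 3, 12] .fail)), (1, .fail), (1, (.step [2, 12, 6, 20, 7, 3, 15, 5, 20] .fail)), (1, (.step [3, 12, 6, 15, 11, 15, 2] (.step [15, 22, 4, 5, 22] .fail))), (1, (.step [2, 12, 6, 15, 20, 6, 15, 5] .fail)), (1, (.step [2, 20, 6, 15, 3, 11, 11, 3] (.step [4, 22, 20, 8, 22] .fail))), (1, .fail), (1, (.step [0, 3, 12, 6, 20, 15, 21, 3, 21] .fail)), (1, (.step [2, 20, 6, 15,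 20, 3, 12, 3] .fail)), (1, (.step [2, 20, 6, 15, 20, 3, 12] .fail)), (1, (.step [3, 12, 6, 20, 2, 15, 5, 12] .fail)), (1, (.step [2, 12, 6, 20, 7, 3, 4] .fail)), (1, .fail), (1, (.step [2, 20, 6, 15, 5, 15, 20] (.step [4, 22, 21, 15, 12] .fail))), (1, (.step [2, 20, 15, 11, 6] .fail)), (1, (.step [2, 12, 6, 15, 20, 2, 15, 20, 7] .fail)), (1, (.step [3, 20, 6, 15, 21, 15, 5, 6] .fail)), (1, (.step [2, 12, 6, 20, 15, 2, 11, 11] .fail)), (1, (.step [2, 20, 6, 15, 11, 11, 6] .fail)), (1, (.step [2, 20, 6, 15, 3, 12, 15, 21] .fail)), (1, (.step [2, 15, 21, 6, 15, 2, 11] (.step [8, 11, 22, 11, 22] .fail))), (1, (.step [2, 12, 6, 15, 20, 2, 15, 5] .fail)), (1, (.step [3, 12, 6, 20, 2, 12, 20] .fail)), (1, (.step [2, 12, 6, 21, 15, 21, 3, 15] .fail)), (1, (.step [2, 12, 6, 15, 20, 3, 15, 11, 15] .fail)), (1, .fail), (1, (.step [2, 20,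 6, 15, 5, 6, 15, 12] .fail)), (1, (.step [0, 3, 12, 6, 20, 15, 3, 4] .fail)), (1, .fail), (1, (.step [3, 20, 6, 15, 21, 15, 5, 6] .fail)), (1, (.step [2, 12, 6, 12, 3, 20, 3] (.step [15, 22, 4, 20] .fail))), (2, .fail), (1, (.step [2, 11, 15, 11, 6, 21, 15, 8] .fail)), (1, (.step [2, 20, 6, 15, 11, 11, 11, 2] (.step [15, 22, 4, 20] .fail))), (1, (.step [2, 15, 12, 6, 15, 2, 11, 2] .fail)), (1, (.step [3, 12, 6, 21, 15, 11] .fail)), (1, (.step [2, 12, 6, 15, 20, 2, 4, 15, 5] .fail)), (1, .fail), (1, (.step [2, 15, 21, 15, 2] (.step [4, 8, 22, 4, 21, 6] .fail))), (1, (.step [2, 15, 12, 6, 15, 5, 4, 3] (.step [15, 5, 6, 12, 22] .fail))), (1, (.step [2, 15, 21, 3, 6, 20, 15, 12] .fail)), (1, .fail), (1, (.step [2, 15, 12, 6, 15, 11, 3, 11] .fail)), (1, (.step [0, 2, 20, 6, 15, 21, 4] .fail)), (1, (.step [3, 12, 6, 15, 11, 15, 3, 8]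 .fail)), (1, (.step [2, 12, 6, 15, 12, 15, 5, 15] .fail)), (1, (.step [2, 20, 6, 15, 21, 15, 2, 5] .fail)), (1, .fail), (1, (.step [2, 12, 6, 12, 3, 12, 15, 20] .fail)), (1, (.step [2, 11, 15, 11, 6, 21, 15, 21] .fail)), (1, (.step [2, 12, 6, 15, 20, 6, 15, 3, 5] .fail)), (1, (.step [3, 20, 6, 15, 11, 2, 21, 11] .fail)), (1, (.step [3, 12, 3, 6, 12, 15, 12, 3] .fail)), (1, (.step [2, 20, 6, 15, 11, 2, 15] .fail)), (2, .fail), (1, (.step [2, 12, 6, 15, 20, 6, 15, 5] (.step [4, 22, 20, 8, 12] .fail))), (1, (.step [2, 20, 6, 15, 11] .fail)), (1, (.step [2, 12, 6, 15, 12, 15, 5, 11] .fail)), (1, (.step [2, 12, 6, 15, 12, 15, 5, 15] (.step [4, 5, 12, 22, 5] .fail))), (1, (.step [3, 12, 6, 15, 11, 15, 2, 21] .fail)), (1, (.step [0, 2, 12, 6, 21, 15] (.step [4, 11, 15, 5] (.step [17, 17, 20] .fail)))), (1, .fail), (1, (.step [2, 15,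 12, 3] .fail)), (1, (.step [2, 15, 21, 6, 15, 5, 4] .fail)), (1, (.step [2, 12, 6, 20, 15, 12, 6, 12] .fail)), (1, (.step [2, 12, 6, 15, 20, 3, 15, 11] .fail)), (1, (.step [2, 12, 6, 12, 3, 20] .fail)), (1, .fail), (1, (.step [3, 20, 6, 15, 3, 11, 15, 5] (.step [11, 15, 22, 15, 22] .fail))), (1, (.step [2, 20, 6, 15, 2, 11, 15] .fail)), (1, (.step [2, 20, 15, 5, 6, 20, 15] (.step [11, 22, 11, 15, 22, 15] .fail))), (1, (.step [0, 3, 12, 6, 15, 12, 15, 3, 21] (.step [12, 22, 20, 8, 22] .fail))), (1, (.step [2, 20, 6, 15, 2, 11, 3, 4] .fail)), (1, .fail), (1, (.step [0, 2, 15, 21, 3, 6] .fail)), (1, (.step [0, 2, 15, 21, 6, 15, 11, 11] .fail)), (1, (.step [2, 20, 6, 15, 5, 15, 11] .fail)), (1, (.step [2, 15, 2, 12, 6, 20, 15, 11] .fail)), (1, (.step [0, 2, 20, 6, 15, 11, 3, 12, 21] .fail)), (1, .fail), (1, (.step [2, 12, 6, 21, 15,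 21, 3] .fail)), (1, .fail), (1, (.step [2, 20, 6, 15, 2, 21, 8] .fail)), (1, (.step [2, 20, 6, 15, 2, 21, 2] .fail)), (1, (.step [2, 20, 6, 15, 11] .fail)), (1, (.step [3, 20, 6, 15, 3, 11, 15, 21] .fail)), (1, (.step [3, 12, 3, 12, 6, 21, 15, 8] .fail)), (1, (.step [2, 20, 6, 15, 8, 11] .fail)), (1, (.step [0, 2, 15, 21, 6, 15, 11, 3] (.step [4, 8, 22, 12] .fail))), (1, (.step [0, 2, 20, 6, 15, 5, 15, 20] .fail)), (1, .fail), (1, (.step [2, 20, 6, 15, 5, 6, 15, 12] .fail)), (1, (.step [3, 12, 6, 20, 2, 15, 21, 11] .fail)), (1, (.step [2, 12, 6, 20, 3, 7, 3] .fail)), (1, (.step [2, 12, 6, 21, 15, 11, 2, 8] .fail)), (1, (.step [2, 12, 6, 15, 12, 3, 12, 15] (.step [12, 22, 12] .fail))), (2, .fail), (1, (.step [2, 12, 6, 21, 15, 20, 12, 3] .fail)), (1, (.step [2, 20, 6, 15, 3, 20, 15, 21] (.step [4, 12, 22, 20] .fail))), (1, (.step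 [2, 12, 6, 20, 15, 2, 11, 11] (.step [12, 15] .fail))), (1, (.step [0, 2, 12, 6, 20, 7, 15] .fail)), (3, .fail), (1, (.step [2, 12, 6, 12, 3, 12, 15, 20] .fail)), (1, .fail), (1, (.step [2, 15, 2, 12, 6, 12, 15, 12] .fail)), (1, (.step [3, 12, 15, 12, 6, 12, 15, 12] .fail)), (1, (.step [2, 20, 6, 15, 11, 8, 20] .fail)), (1, .fail), (1, (.step [3, 12, 6, 21, 2, 21, 8] .fail)), (1, (.step [3, 12, 6, 20, 15, 21, 12, 2] (.step [4, 5, 22, 4, 21] .fail))), (1, (.step [2, 12, 6, 21, 15, 11, 2, 15, 12] .fail)), (1, (.step [2, 20, 6, 15, 5, 15, 20, 6] .fail)), (1, (.step [2, 20, 6, 15, 11, 8, 11] .fail)), (1, .fail), (1, (.step [0, 2, 12, 6, 20, 3, 15] .fail)), (1, (.step [0, 2, 20, 6, 15, 21, 11] (.step [11, 22, 15, 8, 12] .fail))), (1, (.step [2, 15, 21, 6] (.step [12, 12, 6, 12] (.step [16, 13, 17] (.step [19, 5, 22] (.step [22, 23]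 (.done [9, 9, 9, 9, 9]))))))), (1, (.step [2, 12, 6, 15, 12, 15, 12, 3, 21] .fail)), (1, (.step [2, 12, 6, 20, 15, 2, 21, 7, 3] .fail)), (1, .fail), (1, (.step [2, 15, 21, 6, 15, 21, 3] (.step [4, 22, 5, 12] (.step [7, 17, 7] .fail)))), (1, (.step [3, 12, 3, 6, 12, 3, 12] .fail)), (1, .fail), (1, (.step [2, 20, 15, 12, 6, 12, 12, 3] .fail)), (1, (.step [3, 20, 6, 15, 3, 12, 12] .fail)), (1, .fail), (1, (.step [0, 2, 12, 6, 20, 15, 2, 21, 4] .fail)), (1, (.step [3, 12, 3, 6, 12, 15, 3, 21] (.step [15, 22, 21, 22] .fail))), (1, (.step [0, 2, 20, 6, 15] .fail)), (1, (.step [2, 12, 6, 15, 20, 3, 7, 15] .fail)), (1, .fail), (1, (.step [2, 12, 6, 15, 20, 3, 15] .fail)), (1, (.step [0, 2, 20, 6, 15, 11, 21, 15] .fail)), (1, (.step [2, 20, 6, 15, 3, 11, 15] .fail)), (1, (.step [0, 2, 20, 6, 15, 21, 3, 4] (.step [11, 15, 22, 8, 21] .fail))),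 (1, (.step [2, 20, 6, 15, 21, 15, 3, 4] (.step [11, 11, 15, 22, 11] .fail))), (1, (.step [0, 2, 12, 6, 20, 15, 2, 21, 15] .fail)), (1, (.step [3, 12, 3, 6, 12, 15, 20, 3] .fail)), (1, (.step [2, 12, 6, 21, 15, 5, 15, 11] .fail)), (1, (.step [0, 2, 20, 6, 15, 11, 11, 3, 15] .fail)), (1, (.step [3, 12, 6, 20, 2, 12, 12] .fail)), (1, (.step [3, 20, 6, 15, 21, 15, 5, 6] .fail)), (1, (.step [3, 12, 6, 21, 15, 11] .fail)), (1, (.step [3, 12, 3, 12, 6, 21, 15, 21] .fail)), (1, (.step [2, 12, 6, 15, 12, 3, 15, 21] .fail)), (1, (.step [2, 12, 6, 15, 20, 3, 4, 6, 15] .fail)), (2, .fail), (1, (.step [2, 20, 6, 15, 20, 12, 6] .fail)), (1, (.step [3, 20, 6, 15, 21, 11, 2, 21] .fail)), (1, (.step [0, 2, 20, 6, 15, 12, 12] .fail)), (1, .fail)])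

/-- a piece of a certificate -/
noncomputable def cCp_2 : Cert := (Cert.rl [(1, (.step [2, 12, 6, 12, 12, 3, 15, 20] (.step [12, 22, 20, 15] .fail))), (1, (.step [2, 20, 6, 15, 21, 15, 5, 6] .fail)), (1, (.step [0, 3, 12, 6, 20, 15, 2] .fail)), (1, .fail), (1, (.step [2, 20, 6, 15, 3, 11, 2] .fail)), (1, (.step [2, 12, 6, 15, 20, 2, 15, 5] .fail)), (1, (.step [2, 15, 21, 3, 12, 6, 21] (.step [15, 5, 12] .fail))), (1, .fail), (1, (.step [3, 20, 6, 15, 3, 21] .fail)), (1, (.step [0, 2, 20, 6, 15, 11, 15, 11, 21] .fail)), (1, .fail), (1, (.step [3, 20, 6, 15, 21, 8] .fail)), (1, (.step [3, 20, 6, 15, 11, 2, 11] .fail)), (1, (.step [0, 2, 12, 6, 20, 15, 3, 21] (.step [4, 5, 15, 21, 4] .fail))), (1, (.step [2, 20, 6, 15, 11, 11, 11, 2] .fail)), (1, (.step [2, 12, 6, 15, 12, 6, 12, 15] (.step [4, 5, 22, 15, 5, 6] .fail))), (1, (.step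 [2, 12, 6, 15, 20, 15, 2] .fail)), (1, (.step [2, 20, 6, 15, 11, 3, 4, 5] .fail)), (1, (.step [2, 12, 6, 20, 7, 3, 20] .fail)), (1, (.step [2, 20, 6, 15, 11, 11, 11, 2] .fail)), (1, .fail), (1, (.step [3, 12, 6, 20, 15, 21] .fail)), (1, .fail), (1, (.step [2, 20, 6, 15, 11, 3, 8] .fail)), (1, (.step [2, 12, 6, 15, 20, 2, 15, 5, 6] (.step [15, 11, 6, 22, 15] .fail))), (1, (.step [3, 12, 6, 21, 2] .fail)), (1, (.step [3, 20, 6, 15, 21, 15, 5] (.step [8, 22, 20] .fail))), (1, (.step [2, 20, 15, 21, 6, 21, 2] .fail)), (1, (.step [2, 12, 6, 20, 15, 21, 2, 12] .fail)), (1, (.step [3, 12, 6, 20, 2, 15, 12, 6] .fail)), (1, .fail), (1, (.step [2, 15, 21, 6, 15, 21, 3, 4] .fail)), (1, (.step [0, 2, 15, 12, 6, 15, 11, 2, 15] .fail)), (1, (.step [2, 12, 6, 15, 20, 15, 3, 20] .fail)), (1, (.step [2, 12, 6, 15, 20, 15, 8, 7, 3] .fail)), (1,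 (.step [3, 20, 6, 15, 5, 15, 2] .fail)), (1, (.step [2, 12, 6, 12, 12, 3, 15, 20, 6] (.step [15, 11, 22, 12] .fail))), (1, (.step [3, 12, 6, 15, 12, 15, 3, 8] (.step [8, 22, 20, 15, 8] .fail))), (2, .fail), (1, (.step [2, 15, 12, 6, 15, 11, 15] .fail)), (1, (.step [2, 12, 6, 21, 15, 2, 11] (.step [11, 22, 4] .fail))), (3, .fail), (1, (.step [2, 12, 6, 12, 2, 20, 3, 15, 21] .fail)), (1, (.step [2, 12, 6, 20, 15, 3, 12, 12] .fail)), (1, (.step [0, 3, 20, 6, 15, 5, 8] (.step [4, 22, 21, 7] .fail))), (1, (.step [0, 2, 12, 6, 21, 15, 21] .fail)), (1, (.step [3, 12, 6, 20, 2, 12, 15, 12] .fail)), (1, (.step [3, 12, 6, 21, 15, 11, 3] .fail)), (1, (.step [2, 12, 6, 12, 12, 15, 21, 2] (.step [4, 22, 12, 5] .fail))), (1, (.step [0, 3, 12, 6, 15, 21] .fail)), (1, (.step [2, 11, 15, 11, 6, 21, 15, 3, 11] .fail)), (1, (.step [2, 12, 6, 20,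 7, 3, 15, 5, 20] (.step [11, 11, 15, 21, 22] .fail))), (1, .fail), (1, (.step [0, 2, 20, 15, 21, 6, 12, 12] .fail)), (1, (.step [2, 20, 6, 15, 5, 6, 12, 3] .fail)), (1, (.step [0, 2, 20, 6, 15, 12, 3, 15] .fail)), (1, (.step [0, 2, 15, 12, 6, 15, 11, 8] .fail)), (1, (.step [2, 12, 6, 12, 2, 12, 6] .fail)), (1, (.step [2, 20, 6, 15, 20, 3] .fail)), (1, .fail), (1, (.step [0, 3, 20, 6, 15, 11, 15, 3] (.step [8, 22, 15, 21] .fail))), (1, (.step [2, 12, 12, 3, 6, 12, 3] .fail)), (2, .fail), (1, (.step [2, 15, 12, 6, 15, 11] (.step [4, 5, 22, 4, 15] .fail))), (1, (.step [2, 12, 6, 12, 2, 12, 3, 6] .fail)), (1, (.step [2, 20, 6, 15, 3, 5, 4, 15] .fail)), (1, .fail), (1, (.step [2, 20, 6, 15, 2, 11, 8] (.step [4, 5, 22, 15, 8, 12] .fail))), (1, (.step [2, 12, 6, 15, 20, 6, 15, 3] .fail)), (1, (.step [2, 12, 6, 15, 12, 15, 3, 8] .fail)),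 (1, (.step [2, 20, 6, 15, 8, 20, 4, 3] .fail)), (1, .fail), (1, (.step [2, 15, 21, 3, 6, 12, 15] .fail)), (1, (.step [2, 12, 6, 12, 2, 20] .fail)), (1, .fail), (1, (.step [2, 15, 21, 6, 15, 11, 11] .fail)), (1, (.step [2, 12, 6, 20, 15, 12, 12, 21, 3] .fail)), (1, (.step [3, 20, 6, 15, 21, 15, 3, 7] .fail)), (1, (.step [2, 12, 6, 20, 15, 3, 4, 11] .fail)), (1, (.step [3, 12, 6, 20, 15, 3, 20, 2] (.step [8, 22, 21, 22] .fail))), (1, (.step [2, 12, 6, 21, 3, 7] .fail)), (1, (.step [2, 20, 6, 15, 5, 4, 12] (.step [4, 12, 22, 20] .fail))), (1, (.step [0, 2, 20, 6, 15, 8, 11, 3] .fail)), (1, (.step [2, 15, 12, 6, 15, 11, 2] (.step [4, 5, 22, 15, 20] .fail))), (1, (.step [3, 12, 6, 15, 12, 15, 8] .fail)), (1, .fail), (1, (.step [2, 20, 6, 15, 2, 11, 2, 8] .fail)), (1, (.step [3, 20, 6, 15, 21, 15] .fail)), (1, (.step [2, 20, 6, 15,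 2, 11, 2, 8] .fail)), (1, .fail), (1, (.step [2, 12, 6, 20, 7, 15, 5, 12, 3] (.step [15, 22, 5] .fail))), (1, (.step [2, 20, 6, 15, 5, 15, 3] (.step [4, 5, 22, 15, 5, 4] .fail))), (1, (.step [2, 12, 6, 21, 15, 2] .fail)), (1, .fail), (1, (.step [2, 15, 21, 2, 6, 21] .fail)), (1, (.step [2, 15, 2, 12, 6, 20, 3, 4] .fail)), (1, (.step [2, 15, 12, 6, 15, 11, 2, 21] (.step [15, 5] .fail))), (1, .fail), (1, (.step [0, 3, 20, 6, 15, 21, 15] .fail)), (1, (.step [0, 2, 12, 6, 20, 15, 12, 3, 6] .fail)), (1, (.step [2, 15, 12, 6, 15, 21, 3, 7] .fail)), (1, (.step [2, 20, 6, 15, 11, 2, 21] .fail)), (1, .fail), (1, (.step [2, 12, 15, 12, 3, 6, 20, 15] .fail)), (1, (.step [2, 12, 6, 20, 15, 12, 2, 12] (.step [4, 5, 22, 5, 11, 15] .fail))), (1, (.step [2, 12, 6, 20, 3, 4, 15] .fail)), (3, .fail), (1, (.step [3, 20, 6, 15, 3, 11, 15, 5] .fail)),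 (1, .fail), (1, (.step [2, 11, 15, 11, 6, 5, 15, 5] .fail)), (1, (.step [0, 3, 20, 6, 15, 11, 11, 3, 11] .fail)), (1, (.step [0, 3, 20, 6, 15, 11, 11, 3] .fail)), (1, (.step [2, 15, 2, 21, 6, 11, 2] .fail)), (1, (.step [0, 3, 20, 6, 15, 11, 11, 3, 20] .fail)), (3, .fail), (1, (.step [0, 3, 12, 6, 20, 15, 2] .fail)), (1, (.step [3, 12, 3, 12, 6, 21, 2] .fail)), (1, (.step [3, 20, 6, 15, 21, 2, 21] .fail)), (1, (.step [0, 2, 15, 21, 6, 15, 11, 3, 15] .fail)), (1, (.step [2, 12, 6, 15, 20, 15, 3] .fail)), (1, (.step [2, 11, 15, 11, 6, 5, 15, 5] .fail)), (1, (.step [2, 15, 12, 6, 15, 2, 11, 2] .fail)), (1, (.step [2, 12, 6, 20, 15, 21, 2, 11] .fail)), (1, (.step [3, 12, 6, 20, 2, 12, 6] (.step [4, 21, 4, 6] .fail))), (1, (.step [0, 2, 15, 12, 6, 15, 11, 2] .fail)), (1, (.step [2, 12, 6, 21, 15, 11, 8] .fail)), (1, .fail), (1, (.step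 [2, 20, 6, 15, 11, 11, 20] .fail)), (1, (.step [2, 20, 6, 15, 11, 6] .fail)), (1, (.step [2, 15, 12, 15, 2] .fail)), (1, .fail), (1, (.step [2, 20, 6, 15, 21, 4, 3, 15] .fail)), (1, (.step [0, 2, 20, 6, 15, 11, 2, 15] .fail)), (1, (.step [2, 12, 6, 21, 3] .fail)), (1, (.step [2, 12, 6, 20, 15, 2, 12, 15, 5] .fail)), (1, (.step [0, 2, 20, 6, 15, 21, 3, 12] .fail)), (1, (.step [0, 2, 20, 6, 15, 20, 12, 20, 2] (.step [15, 8, 22, 15] (.step [6, 5] .fail)))), (1, (.step [2, 12, 6, 20, 15, 2, 12] .fail)), (1, (.step [2, 12, 6, 12, 12, 3, 12] (.step [4, 5, 8] .fail))), (1, (.step [2, 12, 15, 12, 6, 21, 15, 5] (.step [4, 5, 6, 8, 22] .fail))), (1, (.step [2, 20, 6, 15, 20, 12, 6] .fail)), (1, (.step [0, 3, 20, 6, 15, 11, 11, 3] .fail)), (1, (.step [0, 2, 15, 21, 6, 15, 5, 15] .fail)), (1, (.step [0, 2, 15, 21, 6, 15, 11, 11] (.step [4,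 8, 22, 5, 6, 8] (.step [17, 20] (.step [18, 22] .fail))))), (1, (.step [2, 15, 12, 6, 15, 11, 2] .fail)), (1, (.step [2, 12, 6, 12, 2, 12, 3, 6] .fail)), (1, (.step [2, 12, 6, 12, 12, 15, 21, 2, 11] .fail)), (1, .fail), (1, (.step [3, 12, 3, 20, 6, 11, 3] .fail)), (1, .fail), (1, (.step [2, 15, 21, 3, 6, 11, 11] .fail)), (1, (.step [2, 15, 21, 15, 21] (.step [8, 22, 11, 22] .fail))), (1, (.step [2, 20, 6, 15, 2, 11, 8] (.step [4, 5, 22, 15, 8, 12] .fail))), (1, .fail), (1, (.step [2, 12, 6, 21, 15, 2, 11] (.step [11, 22, 4] .fail))), (1, (.step [2, 12, 6, 20, 15, 2, 8, 12, 20] .fail)), (1, (.step [0, 3, 20, 15, 11, 6, 21] .fail)), (1, (.step [0, 3, 20, 6, 15, 11, 2, 8] .fail)), (1, (.step [2, 20, 6, 15, 5, 15, 21, 3] .fail)), (1, (.step [2, 20, 6, 15, 12, 3, 4] .fail)), (1, (.step [3, 20, 6, 15, 11, 3, 4] (.step [15, 22, 5, 21]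 .fail))), (1, (.step [3, 20, 6, 15, 20, 15, 20, 6] .fail)), (1, (.step [2, 15, 21, 6, 15, 21, 3, 7] .fail)), (1, (.step [2, 12, 6, 15, 20, 3, 15, 20, 4] (.step [4, 22, 11, 11] (.step [7, 17, 17, 6] (.step [5, 22, 23] .fail))))), (1, (.step [2, 20, 6, 15, 20, 15, 21] (.step [4, 22, 8, 11] (.step [17, 5, 6, 20] (.step [] .fail))))), (1, (.step [2, 12, 6, 15, 20, 3, 15, 20, 4] .fail)), (1, (.step [2, 12, 6, 15, 12, 15, 2, 12, 3] (.step [4, 22, 5, 11] .fail))), (1, (.step [0, 2, 20, 6, 15, 3, 11, 15, 5] .fail)), (1, (.step [3, 20, 15, 20, 6, 12] .fail)), (1, (.step [3, 12, 3, 20, 6, 11, 3] (.step [4, 22, 5, 11, 22] .fail))), (1, (.step [2, 20, 6, 15, 11, 21] .fail)), (1, (.step [3, 12, 6, 15, 21, 2, 15] .fail)), (1, (.step [0, 3, 20, 6, 15, 11, 2, 11] .fail)), (1, (.step [2, 12, 6, 21, 15, 5, 15, 2] .fail)), (1, (.step [2, 12, 6,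 20, 7] (.step [4, 5, 22, 15, 12] .fail))), (2, .fail), (1, (.step [2, 20, 6, 15, 12, 3] .fail)), (1, (.step [2, 20, 6, 15, 3, 12, 15, 5] .fail)), (1, (.step [2, 12, 6, 20, 15, 12, 6, 12] .fail)), (1, (.step [2, 20, 2, 6, 15, 20, 4] .fail)), (2, .fail), (1, (.step [2, 11, 15, 11, 6, 5, 15, 2] .fail)), (1, (.step [0, 2, 15, 12, 6, 15, 11, 11] (.step [4, 15, 22, 11, 20] .fail))), (1, (.step [2, 20, 6, 15, 3, 5, 15, 2] (.step [4, 11, 15, 5, 22, 15] .fail))), (1, (.step [2, 15, 21, 3, 12, 6, 21] (.step [15, 12] .fail))), (1, (.step [3, 12] .fail)), (1, (.step [3, 20, 6, 15, 11, 15, 2, 11] .fail)), (1, (.step [2, 20, 6, 15, 11, 3, 6, 7] .fail)), (1, .fail), (1, (.step [3, 20, 6, 15, 8, 11, 15] .fail)), (1, (.step [3, 20, 6, 15, 3, 20, 12] .fail)), (1, (.step [0, 3, 12, 6, 20, 2, 20, 15] .fail)), (2, .fail), (1, (.step [2, 12, 6, 20,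 15, 2, 15] .fail)), (1, .fail), (1, (.step [2, 15, 21, 3, 20, 6, 11] .fail)), (1, .fail), (1, (.step [2, 12, 6, 20, 15, 21, 2, 11] .fail)), (1, (.step [2, 12, 6, 21, 15, 11, 3, 20] (.step [4, 22, 15] .fail))), (2, .fail), (1, (.step [2, 12, 6, 20, 15, 2, 15] .fail)), (1, (.step [2, 15, 12, 6, 15, 21, 15] .fail)), (1, .fail), (1, (.step [2, 20, 2, 6, 15, 21, 3] .fail)), (1, .fail), (1, (.step [2, 20, 6, 15, 8, 11, 3, 11, 21] .fail)), (1, (.step [2, 20, 6, 15, 21, 11, 15] .fail)), (1, (.step [2, 12, 6, 15, 12, 15, 20, 3, 11] .fail)), (1, (.step [2, 20, 6, 15, 11, 2, 21, 8] .fail)), (1, (.step [2, 15, 21, 2, 6, 21, 15, 11] .fail)), (1, (.step [2, 12, 6, 20, 15, 12, 3, 20] .fail)), (1, (.step [0, 2, 12, 6, 20, 15, 21, 3, 8] .fail)), (1, (.step [2, 20, 6, 15, 21, 15, 3] .fail)), (1, .fail), (1, (.step [0, 2, 20, 6, 15, 11, 3, 15, 12]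 .fail)), (1, .fail), (1, (.step [3, 12, 6, 20, 2, 15, 21, 7] .fail)), (1, (.step [0, 2, 20, 6, 15, 21, 4, 3] .fail)), (1, (.step [3, 12, 6, 15, 21, 15, 11, 6] .fail)), (1, (.step [0, 3, 20, 6, 15, 21] .fail)), (1, (.step [3, 20, 6, 15, 3, 21, 8] .fail)), (1, (.step [2, 12, 6, 15, 20, 3, 8, 15] .fail)), (1, (.step [2, 15, 21, 6, 15, 21] .fail)), (1, (.step [2, 20, 6, 15, 5, 15, 11, 2] .fail)), (1, (.step [0, 3, 12, 15, 12, 6, 11, 2] .fail)), (1, .fail), (1, (.step [2, 15, 21, 3, 6, 15, 20, 15] .fail)), (1, (.step [0, 2, 12, 6, 20, 15, 2, 21, 4] (.step [11, 22, 15, 21, 22] .fail))), (1, (.step [2, 20, 6, 15, 2, 11, 3, 4] .fail)), (1, (.step [0, 2, 12, 6, 20, 15, 2, 21] .fail)), (1, (.step [3, 20, 6, 15, 20, 12, 20, 2] .fail)), (2, .fail), (2, (.step [2, 20, 6, 15, 8, 11, 15, 2] .fail)), (1, (.step [2, 15, 12, 6, 15, 11, 3, 11] .fail)),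 (1, (.step [0, 2, 15, 12, 6, 15, 11, 2] .fail)), (1, .fail), (1, (.step [2, 12, 6, 20, 15, 3, 21, 4] .fail)), (1, (.step [2, 12, 6, 12, 12, 15, 21] .fail)), (1, .fail), (1, (.step [0, 2, 20, 6, 15, 11, 3] .fail)), (1, (.step [3, 20, 6, 15, 21, 2, 4] .fail)), (1, .fail), (1, (.step [2, 11, 15, 11, 6, 5, 15, 21, 2] .fail)), (1, .fail), (1, (.step [2, 12, 6, 20, 15, 21, 6] .fail)), (1, (.step [3, 20, 6, 15, 21, 2, 4] .fail)), (1, (.step [2, 12, 6, 12, 12, 15, 21, 2] .fail)), (1, (.step [3, 20, 6, 15, 21, 2, 20, 8] .fail)), (1, (.step [2, 12, 6, 15, 12, 6, 15, 3] .fail)), (1, (.step [2, 12, 6, 15, 20, 2, 15, 5] .fail)), (1, (.step [2, 12, 6, 12, 3, 20, 3] .fail)), (1, (.step [3, 12, 6, 21, 15, 11] .fail)), (1, (.step [3, 20, 6, 15, 3, 21] (.step [4, 5, 22, 4, 15, 5] .fail))), (1, .fail), (1, (.step [2, 20, 2, 6, 15, 11, 11, 3, 20]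 (.step [4, 15, 22, 21, 8] .fail))), (1, (.step [2, 12, 6, 15, 12, 6, 15, 21, 4] .fail)), (1, (.step [0, 2, 12, 6, 21, 15, 21, 15] (.step [4, 5, 15, 8, 22] .fail))), (1, (.step [2, 20, 6, 15, 21, 2, 6] .fail)), (1, (.step [2, 20, 2, 6, 15, 11, 3, 8] .fail)), (1, (.step [3, 20, 6, 15, 21, 15] .fail)), (1, .fail), (1, (.step [3, 12, 6, 20, 15, 12, 6, 15] .fail)), (1, (.step [2, 12, 6, 15, 12, 15, 3, 8] .fail)), (1, (.step [0, 3, 20, 6, 15, 21, 11, 3] .fail)), (1, (.step [2, 20, 6, 15, 21, 3, 12] (.step [4, 22, 20, 8, 12] .fail))), (1, (.step [2, 20, 15] (.step [11, 11, 15, 21, 22] .fail))), (1, (.step [3, 12, 6, 20, 2, 15, 12, 6] .fail)), (1, (.step [2, 20, 15, 21, 6, 21] .fail)), (1, (.step [3, 20, 6, 15, 21, 4, 3] .fail)), (1, .fail), (1, (.step [0, 3, 20, 6, 15, 8, 11, 15, 3] .fail)), (1, (.step [2, 20, 6, 15, 3, 5, 4, 15] .fail)),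 (1, (.step [0, 2, 20, 6, 15, 5, 15, 20, 6] .fail)), (1, .fail), (1, (.step [2, 12, 6, 21, 15, 2, 11, 2] .fail)), (1, (.step [0, 3, 20, 6, 15, 11, 11] .fail)), (1, (.step [2, 12, 6, 20, 3, 7, 3] .fail)), (1, (.step [3, 20, 6, 15, 21, 3, 12] (.step [12, 22, 4, 5, 22] .fail))), (1, (.step [3, 12, 3, 12, 3] .fail)), (1, (.step [0, 2, 20, 6, 15, 2] .fail)), (1, (.step [0, 2, 12, 6, 20, 15, 12, 2, 12] (.step [15, 22, 21] .fail))), (1, (.step [2, 12, 6, 20, 15, 21, 2, 11] (.step [15, 21, 6, 22] .fail))), (1, (.step [3, 12, 6, 20, 2, 15, 12, 12] (.step [12, 22, 5, 21] .fail))), (1, .fail), (1, (.step [2, 20, 6, 15, 11, 3, 11, 20] .fail)), (1, (.step [3, 12, 6, 15, 12, 15, 8] .fail)), (1, .fail), (1, (.step [2, 20, 6, 15, 21, 8, 11] .fail)), (1, (.step [0, 3, 20, 6, 15, 21, 2, 12] .fail)), (1, (.step [2, 12, 6, 15, 12, 15, 2, 12] (.step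 [11, 22, 15, 21] (.step [6, 17] .fail)))), (1, (.step [0, 3, 12, 6, 20, 15, 12, 3, 15] .fail)), (1, .fail), (1, (.step [0, 3, 12, 6, 20, 2, 15, 12, 15] .fail)), (1, (.step [3, 12, 6, 20, 15, 3, 21, 4] .fail)), (1, (.step [2, 20, 6, 15, 11, 3, 8] .fail)), (1, (.step [2, 15, 21, 3, 6, 12, 20] .fail)), (1, (.step [2, 20, 6, 15, 11, 3, 4] (.step [12, 22, 11, 4] .fail))), (1, (.step [2, 12, 15, 12, 6, 12, 12, 15] (.step [4, 22, 5, 6] .fail))), (1, (.step [2, 12, 12, 3, 12, 6] .fail)), (1, (.step [3, 20, 6, 15, 21, 15, 21] (.step [8, 22, 15, 12] .fail))), (1, (.step [3, 12, 6, 15, 21, 15, 3] .fail)), (1, (.step [2, 20, 6, 15, 2, 21, 3, 7] .fail)), (1, (.step [2, 12, 15, 12, 6, 12, 15, 2, 5] .fail)), (1, (.step [2, 12, 6, 21, 15, 21, 4, 3] (.step [4, 22, 11, 4, 15] .fail))), (1, (.step [2, 12, 6, 15, 12, 15, 2] .fail)), (1, (.step [0,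 2, 15, 21, 6, 15, 21, 15, 3] .fail)), (1, (.step [0, 2, 12, 12, 6, 15, 21, 2] .fail)), (1, (.step [2, 12, 6, 20, 15, 21, 3, 4] .fail)), (1, (.step [2, 20, 6, 15, 3, 21, 15, 8] .fail)), (1, (.step [2, 12, 6, 20, 15, 3, 12, 5] .fail)), (1, (.step [3, 12, 6, 20, 2, 12, 15, 12] (.step [4, 21, 4, 6] (.step [6, 16, 22] (.step [21, 22] .fail))))), (1, (.step [2, 12, 6, 20, 15, 12, 6, 12] .fail)), (1, (.step [0, 2, 20, 6, 15, 11, 11, 11] .fail)), (1, .fail), (1, (.step [2, 12, 6, 12, 3, 20, 3, 15] .fail)), (1, (.step [2, 20, 6, 15, 5, 15, 21, 2] .fail)), (2, .fail), (1, (.step [2, 12, 6, 15, 12, 15, 8] (.step [15, 21, 8, 22] .fail))), (1, .fail), (1, (.step [3, 12, 3, 6, 12, 12] .fail)), (1, (.step [2, 15, 21, 6, 15, 2, 11] .fail)), (1, (.step [2, 20, 6, 15, 8, 11, 11] .fail)), (1, (.step [2, 20, 6, 15, 21, 2] .fail)), (1, .fail), (1,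 (.step [3, 12, 6, 20, 2, 12, 20] (.step [11, 11, 6, 21] .fail))), (1, (.step [0, 3, 20, 6, 15, 21, 15, 2] .fail)), (1, (.step [2, 15, 12, 6, 15, 11, 3, 8] (.step [15, 22] .fail))), (1, (.step [3, 20, 6, 15, 21, 15, 3] .fail)), (1, (.step [2, 15, 12, 6, 15, 11, 11, 2] .fail)), (1, (.step [0, 2, 20, 6, 15, 8, 11] (.step [4, 5, 15, 5, 22, 15] .fail))), (1, (.step [3, 20, 6, 15, 2, 11, 15, 11] .fail)), (1, (.step [3, 12, 6, 15, 12, 15, 3, 8] (.step [11, 11, 6, 21] .fail))), (1, (.step [3, 20, 6, 15, 2, 11, 15, 11] .fail)), (1, (.step [0, 3, 12, 6, 20, 2, 15, 21, 11] .fail)), (1, (.step [0, 2, 20, 6, 15, 11, 11, 2] .fail)), (1, .fail), (1, (.step [3, 20, 6, 15, 21, 15, 20] .fail)), (1, (.step [2, 15, 12, 6, 15, 11, 3, 4, 11] .fail)), (1, (.step [2, 12, 6, 20, 15, 12, 12, 3] .fail)), (1, (.step [0, 3, 20, 6, 15, 3, 12] .fail)), (1,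 (.step [0, 2, 20, 15, 21, 6, 12, 15] .fail)), (1, (.step [2, 20, 6, 15, 21, 2, 12] (.step [4, 15, 22, 5, 15] .fail))), (1, (.step [0, 2, 20, 6, 15, 11, 3, 15, 12] .fail)), (1, (.step [0, 2, 20, 6, 15, 2] .fail)), (1, (.step [2, 12, 6, 20, 3, 15, 21] (.step [4, 22, 21, 15] .fail))), (1, (.step [2, 11, 15, 11, 6, 5, 15, 20] .fail)), (1, (.step [2, 15, 21, 15] .fail)), (1, (.step [2, 12, 6, 20, 3, 7] .fail)), (1, (.step [2, 11, 15, 11, 6, 21, 15, 3, 11] (.step [12, 22, 20, 8] (.step [16, 16, 6] .fail)))), (1, (.step [2, 15, 12, 6, 15, 2, 11, 3] .fail)), (1, .fail), (1, (.step [2, 12, 6, 20, 3, 15] .fail)), (1, (.step [0, 3, 20, 6, 15, 21, 15, 3, 4] .fail)), (1, (.step [2, 20, 6, 15, 20, 3, 15] .fail)), (1, (.step [0, 2, 12, 6, 21, 15, 21] .fail)), (1, (.step [2, 12, 6, 20, 15, 12, 12, 21, 2] .fail)), (1, (.step [2, 20, 15, 11, 3,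 6] (.step [8, 22, 21, 22, 12] .fail))), (1, (.step [2, 21, 2, 11, 11, 6] .fail)), (1, .fail), (1, (.step [2, 20, 15, 12, 6, 11] .fail)), (1, (.step [3, 12, 6, 20, 2, 15, 5, 20] .fail)), (1, (.step [2, 20, 2, 6, 15, 11, 11, 11] .fail)), (1, (.step [2, 20, 6, 15, 8, 11, 3, 11] .fail)), (1, (.step [2, 12, 6, 15, 20, 3, 15, 5] .fail)), (2, .fail), (1, (.step [2, 15, 21, 3, 6, 12, 15, 20] .fail)), (1, (.step [2, 12, 6, 12, 2, 20, 3, 8] .fail)), (1, .fail), (1, (.step [2, 12, 6, 20, 7, 15, 2] .fail)), (1, (.step [2, 20, 6, 15, 5, 15, 11] .fail)), (1, .fail), (1, (.step [2, 12, 6, 21, 15, 5, 15, 2] .fail)), (1, (.step [3, 20, 6, 15, 11, 3, 4, 5] .fail)), (1, .fail), (1, (.step [2, 12, 6, 20, 15, 2, 11, 6] .fail)), (1, (.step [2, 11, 11] .fail)), (1, (.step [0, 2, 15, 12, 6, 15, 11, 2, 15] .fail)), (1, (.step [2, 12, 15, 12, 6, 12, 15,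 2, 5] .fail)), (1, .fail), (1, (.step [2, 12, 6, 15, 12, 15, 2, 8, 12] (.step [12, 12, 22, 12, 7] .fail))), (1, (.step [2, 20, 6, 15, 11, 3, 4, 7] .fail)), (1, (.step [0, 2, 15, 12, 6, 15, 11, 2, 15] .fail)), (1, (.step [3, 20, 15, 11, 6] .fail)), (1, (.step [2, 20, 6, 15, 3, 21, 15, 8] .fail)), (1, (.step [0, 3, 20, 6, 15, 2] .fail)), (1, (.step [2, 12, 6, 12, 3, 20] .fail)), (1, (.step [2, 12, 6, 20, 15, 2, 11, 6] .fail)), (1, (.step [3, 12, 6, 15, 11, 15, 2, 21] (.step [15, 22, 21, 11] (.step [17, 5, 6, 20] (.step [5, 19, 5] .fail))))), (1, (.step [3, 20, 6, 15, 21, 15, 3, 5] (.step [4, 22, 15, 21] .fail))), (1, (.step [0, 2, 15, 12, 6, 15, 11] (.step [4, 5, 22, 15, 20, 7] .fail))), (1, (.step [0, 2, 12, 6, 20, 15, 3, 8] .fail)), (1, (.step [3, 12, 6, 15, 21, 15] .fail)), (1, (.step [2, 12, 6, 15, 20, 15, 3, 7] .fail)), (1,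 (.step [3, 12, 3, 6, 12, 15, 20, 6] .fail)), (1, (.step [2, 20, 6, 15, 21, 3] .fail)), (1, .fail), (1, (.step [2, 12, 6, 20, 7, 15, 5, 12] .fail)), (1, .fail), (1, (.step [2, 12, 15, 12, 6, 21, 8, 15] (.step [4, 5, 15] .fail))), (1, (.step [3, 12, 6, 20, 2, 12, 15, 12] (.step [4, 21, 4, 6] (.step [6, 16, 22] (.step [21, 22] .fail))))), (1, (.step [2, 12, 6, 20, 7, 3, 15, 11] (.step [] .fail))), (1, (.step [2, 20, 2, 6, 15, 21] .fail)), (1, (.step [3, 20, 6, 15, 3, 11, 8] .fail)), (1, (.step [2, 12, 6, 15, 12, 15, 2, 5] .fail)), (1, (.step [2, 12, 6, 20, 15, 2, 11, 15, 5] (.step [4, 8, 22, 4, 21] .fail))), (1, (.step [0, 3, 12, 6, 21, 2, 21, 15] .fail)), (2, .fail), (1, (.step [2, 15, 12, 6, 15, 21, 3, 4] .fail)), (2, .fail), (1, (.step [2, 20, 6, 15, 5, 6, 12, 3] .fail)), (1, (.step [2, 20, 6, 15, 2, 11, 3, 4] .fail)), (1, (.step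 [3, 12, 3, 6, 12, 15, 2, 8] (.step [8, 22, 4, 20] .fail))), (1, (.step [0, 3, 12, 6, 20, 15, 5, 12] .fail)), (1, (.step [3, 12, 3, 6, 12, 15, 2, 20] .fail)), (1, .fail), (1, (.step [2, 15, 2, 12, 6, 20, 3] .fail)), (1, (.step [2, 12, 6, 20, 15, 2, 5, 21] .fail)), (1, (.step [3, 12, 3, 6, 12, 15, 5] .fail)), (1, .fail), (1, (.step [3, 12, 6, 15, 21, 15, 3] .fail)), (1, (.step [0, 2, 20, 6, 15, 12, 12] .fail)), (1, (.step [2, 20, 6, 15, 20, 12, 20, 2] .fail)), (1, (.step [2, 12, 6, 20, 15, 21, 4] .fail)), (1, (.step [3, 12, 6, 20, 2, 20, 15, 8] .fail)), (1, (.step [2, 11, 15, 11, 6, 21, 15, 21] .fail)), (1, (.step [2, 20, 6, 15, 21, 11, 2] .fail)), (1, (.step [2, 12, 15, 12, 6, 21, 8, 15] .fail)), (1, (.step [2, 12, 6, 15, 20, 6, 15, 3] (.step [15, 5, 12, 22, 5] (.step [7, 16, 16] (.step [18, 22] .fail))))), (2, .fail), (1, (.step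 [3, 12, 3, 6, 12, 12] (.step [4, 12, 22, 15] (.step [6, 14, 16, 6] (.step [5, 19] .fail))))), (1, (.step [2, 12, 6, 20, 7, 15, 2, 12] .fail)), (1, (.step [0, 2, 12, 6, 20, 15, 3, 11, 6] (.step [12, 22, 12, 7, 15] .fail))), (1, (.step [0, 3, 12, 6, 21, 2, 21, 15] (.step [12, 22, 20, 11] .fail))), (1, (.step [2, 20, 6, 15, 2, 5, 4] .fail)), (1, (.step [3, 20, 6, 15, 21, 4, 3] .fail)), (1, (.step [2, 20, 15, 11, 6, 20, 4] (.step [15, 22, 5, 12] .fail))), (1, (.step [2, 12, 15, 12, 3, 6, 20, 15] .fail)), (1, (.step [3, 20, 6, 15, 2, 11, 15, 11] .fail)), (1, (.step [2, 15, 21, 3, 6, 20, 15, 20, 2] .fail)), (1, (.step [2, 20, 6, 15, 21, 15, 3] (.step [15, 22, 21, 4] .fail))), (1, (.step [2, 15, 21, 6, 15, 2, 11, 2, 15] .fail)), (1, (.step [3, 12, 6, 15, 21, 4, 15] .fail)), (1, (.step [3, 12, 3, 12, 6, 12, 15, 12] .fail)), (1, (.step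 [2, 12, 6, 12, 12, 3, 4] (.step [4, 5, 6, 8] .fail))), (1, (.step [2, 12, 6, 15, 12, 15, 21, 7] .fail)), (1, (.step [2, 20, 2, 6, 15, 12, 12, 21] .fail)), (1, .fail), (1, (.step [2, 12, 6, 15, 20, 4, 15, 3] (.step [11, 22, 15] (.step [16, 16, 6, 14] (.step [19, 5, 22] .fail))))), (1, (.step [2, 11, 15, 11, 6, 21, 15, 21, 3] (.step [12, 22, 20] .fail))), (1, .fail), (1, (.step [0, 3, 12, 6, 15, 21, 8] .fail)), (1, (.step [2, 12, 6, 20, 3, 15, 11] (.step [15, 22, 11, 22, 8] .fail))), (1, (.step [2, 15, 12, 6, 15, 11, 3, 11] .fail)), (1, (.step [3, 12, 6, 15, 12, 15, 20, 2] .fail)), (2, .fail), (1, (.step [2, 12, 6, 20, 7, 15, 2, 11] .fail)), (5, .fail), (1, (.step [2, 12, 15, 12, 6, 21, 15, 8] (.step [11, 22, 11, 21, 15] .fail))), (1, (.step [2, 15, 21, 3, 6, 20, 15, 20, 2] (.step [4, 11, 6, 15] (.step [6, 5, 17, 6] (.step [18,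 22] .fail))))), (1, (.step [2, 20, 2, 15, 20, 6] .fail)), (1, (.step [2, 12, 15, 12, 3, 6, 20, 15] .fail)), (1, (.step [0, 2, 20, 6, 15, 21, 3, 12] .fail)), (1, (.step [2, 12, 6, 15, 20, 2, 15, 21, 12] .fail)), (1, (.step [3, 20, 6, 15, 21, 3] .fail)), (1, (.step [0, 2, 15, 12, 6, 15, 11, 2, 15] (.step [8, 22, 20, 7] .fail))), (1, (.step [0, 3, 12, 6, 15, 12, 15, 20] .fail)), (1, (.step [0, 2, 12, 6, 20, 15, 3, 11] .fail)), (1, (.step [2, 20, 6, 15, 11] .fail)), (1, (.step [0, 2, 12, 6, 20, 15, 21, 8] .fail)), (1, (.step [0, 3, 12, 6, 20, 15, 12, 2, 15] .fail)), (1, (.step [0, 3, 12, 6, 21, 2, 21, 15] (.step [12, 22, 20, 11] .fail))), (1, (.step [2, 12, 6, 20, 15, 21, 3, 4] .fail)), (1, (.step [0, 3, 20, 6, 15, 2, 11, 15, 5] .fail)), (1, (.step [2, 20, 6, 15, 2, 21, 2] .fail)), (1, (.step [2, 12, 6, 15, 20, 3, 6, 15] .fail)),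 (1, (.step [2, 12, 6, 15, 20, 15] (.step [4, 22, 11, 21] .fail))), (1, (.step [2, 20, 6, 15, 11, 3, 4] .fail)), (1, (.step [3, 12, 3, 6, 12, 15, 20, 2] .fail)), (1, (.step [2, 12, 6, 21, 15, 11, 3, 8] .fail)), (1, (.step [2, 12, 6, 15, 20, 2, 15, 3] (.step [15, 11, 22, 12, 22] .fail))), (1, (.step [0, 3, 12, 6, 20, 15, 5] (.step [4, 22, 11, 8, 7] .fail))), (1, (.step [0, 2, 20, 6, 15, 11, 8] .fail)), (2, .fail), (1, (.step [2, 20, 6, 15, 3, 8, 11, 15] .fail)), (1, (.step [2, 12, 6, 15, 12, 3, 15, 11] .fail)), (1, (.step [2, 12, 6, 12, 2, 12, 3, 12] .fail)), (1, (.step [2, 20, 6, 15, 21, 8] .fail)), (1, (.step [3, 20, 6, 15, 21, 8] .fail)), (1, (.step [2, 12, 6, 12, 2, 20, 15, 3, 11] (.step [15, 22, 20] (.step [6, 5, 7] (.step [18, 21] .fail))))), (1, .fail), (1, (.step [3, 20, 6, 15, 3, 11, 15, 5] .fail)), (1, (.step [2, 12, 6,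 15, 20, 15, 3, 20] (.step [4, 21, 6] .fail))), (1, (.step [2, 20, 6, 15, 11, 3, 4, 7] .fail)), (1, (.step [2, 20, 6, 15, 5, 4, 12] (.step [12, 22, 12, 12] .fail))), (1, (.step [2, 15, 21, 15, 2] .fail)), (1, .fail), (1, (.step [2, 12, 12, 3, 6, 21, 3, 11] .fail)), (1, (.step [2, 20, 6, 15, 11, 8, 11] (.step [8, 22, 11, 20] .fail))), (1, (.step [2, 20, 6, 15, 5, 12, 21, 2] .fail)), (1, .fail), (1, (.step [3, 20, 6, 15, 20, 12, 12] .fail)), (1, (.step [2, 20, 2, 6, 15, 20] (.step [11, 22, 4, 11, 22] .fail))), (1, (.step [2, 12, 6, 15, 20, 2, 15, 12, 15] .fail)), (1, (.step [2, 12, 6, 21, 15, 11, 2, 8] .fail)), (1, (.step [2, 12, 6, 21, 15, 21, 3, 7] .fail)), (1, (.step [2, 12, 6, 12, 2, 20] (.step [12, 12] .fail))), (1, (.step [3, 12, 6, 20, 15, 12, 3, 7, 15] .fail)), (1, (.step [2, 20, 6, 15, 3, 11, 15, 20] .fail)), (1, (.step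 [2, 12, 6, 12, 3, 20, 3] .fail)), (1, (.step [3, 20, 6, 15, 21, 2, 20, 8] .fail)), (1, (.step [0, 3, 20, 6, 15, 5, 4, 15] (.step [4, 5, 8, 22, 4] .fail))), (1, (.step [2, 20, 6, 15, 8, 20, 4] .fail)), (1, (.step [2, 12, 6, 12, 2, 20, 8] .fail)), (1, .fail), (1, (.step [2, 15, 2, 12, 6, 20, 3] .fail)), (1, .fail), (1, (.step [2, 12, 20, 15, 3] .fail)), (1, .fail), (1, (.step [2, 12, 6, 15, 12, 6, 15, 12] .fail)), (1, (.step [2, 20, 15, 12, 6, 21, 3, 4] .fail)), (2, .fail), (1, (.step [3, 20, 6, 15, 21, 8] (.step [15, 5, 22, 12] .fail))), (1, (.step [2, 12, 6, 20, 15, 3, 21, 3, 4] .fail)), (1, (.step [2, 12, 6, 12, 3, 20, 3, 20] .fail)), (1, (.step [2, 15, 21, 6, 15, 11, 2] .fail)), (1, (.step [2, 15, 21, 3, 6, 12, 15, 2] .fail)), (1, (.step [2, 20, 6, 15, 21, 15, 2] .fail)), (1, (.step [0, 2, 20, 6, 15, 11, 3, 12] .fail)), (1,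 (.step [2, 12, 6, 20, 7, 15, 5, 12, 3] (.step [8, 11, 22, 11, 22] .fail))), (1, (.step [2, 15, 21, 6, 15, 21, 15, 2] (.step [4, 22, 11, 15, 22] .fail))), (1, (.step [2, 12, 6, 21, 15, 5, 4] .fail)), (1, .fail), (1, (.step [3, 20, 6, 15, 11, 3, 4, 8] .fail)), (1, (.step [2, 12, 6, 15, 20, 4, 15, 3] (.step [4, 22, 12, 12] .fail))), (1, (.step [3, 20, 6, 15, 20, 12, 20, 2] .fail)), (1, .fail), (1, (.step [3, 20, 6, 15, 2] .fail)), (1, (.step [2, 12, 6, 21, 15, 5, 4, 3] .fail)), (1, (.step [2, 15, 21, 3, 6, 20, 15, 8] .fail)), (1, .fail), (1, (.step [2, 20, 6, 15, 21, 3] .fail)), (1, (.step [0, 2, 20, 6, 15, 11, 2, 8] .fail)), (1, (.step [0, 2, 20, 6, 15, 11, 3, 7] (.step [4, 12, 22, 11] .fail))), (1, (.step [2, 20, 6, 15, 3, 12, 15] .fail)), (1, (.step [0, 2, 20, 6, 15, 2, 11, 3] (.step [4, 5, 12, 22, 12] .fail))), (1, (.step [0,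 3, 20, 6, 15, 21, 2, 4] .fail)), (1, (.step [3, 12, 6, 15, 12, 15, 3] .fail)), (3, .fail), (1, (.step [2, 20, 6, 15, 11, 6] .fail)), (1, (.step [2, 12, 6, 12, 12, 15, 21] .fail)), (1, (.step [2, 11, 15, 11, 6, 21, 15, 21, 3] (.step [4, 5, 6, 15, 8] .fail))), (1, (.step [3, 12, 6, 15, 12, 15] (.step [4, 15, 22, 11, 20] (.step [17, 5, 6, 20] (.step [19, 22, 21] .fail))))), (1, (.step [0, 3, 12, 6, 20, 15, 3, 21] .fail)), (1, (.step [2, 11, 15, 11, 6, 5, 15, 21] .fail)), (1, .fail), (1, (.step [3, 12, 6, 21, 15, 11, 11] .fail)), (1, (.step [2, 20, 6, 15, 11, 3, 6] .fail)), (1, (.step [2, 12, 6, 20, 15, 2, 8, 11] .fail)), (1, (.step [2, 12, 6, 20, 15, 3, 5, 4, 12] .fail)), (1, (.step [2, 20, 6, 15, 11, 11, 11, 2] .fail)), (1, .fail), (1, (.step [2, 12, 6, 15, 12, 15, 3] .fail)), (1, (.step [0, 2, 15, 12, 6, 15, 11] .fail)), (1, (.step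 [3, 20, 6, 15, 21, 2] (.step [15, 22, 21, 4] .fail))), (1, (.step [3, 12, 6, 15, 12, 15, 8] .fail)), (1, (.step [3, 12, 6, 21, 2] .fail)), (1, (.step [3, 12, 6, 15, 11, 15, 2, 21] .fail)), (1, (.step [2, 20, 6, 15, 11, 2, 6] (.step [4, 5, 22, 15, 8, 12] .fail))), (1, .fail), (1, (.step [2, 20, 6, 15, 21, 3, 20, 15] (.step [15, 12] .fail))), (1, (.step [2, 12, 6, 15, 12, 6, 12, 15] .fail)), (1, (.step [2, 12, 6, 12, 3, 20, 3, 20] .fail)), (1, (.step [3, 12, 3, 6, 20, 3, 15, 20] .fail)), (1, (.step [2, 15, 12, 6, 15, 21, 2, 11] .fail)), (1, (.step [2, 20, 6, 15, 5, 6, 15] .fail)), (1, (.step [0, 3, 12, 6, 20, 15, 12, 6, 15] .fail)), (2, .fail), (1, (.step [3, 20, 6, 15, 21, 3, 11, 3] .fail)), (1, (.step [3, 12, 6, 15, 12, 15, 12, 3] .fail)), (1, .fail), (1, (.step [2, 20, 6, 15, 5, 15, 2, 20] .fail)), (1, (.step [2, 12, 6, 15, 20,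 3, 15, 20, 4] .fail)), (1, .fail), (1, (.step [3, 20, 6, 15, 21, 15, 3, 20] .fail)), (1, .fail), (1, (.step [2, 12, 6, 21, 15, 21, 11, 3] .fail)), (1, (.step [2, 20, 6, 15, 21, 15, 3, 4] .fail)), (1, (.step [0, 2, 20, 6, 15, 11, 2, 8] .fail)), (1, (.step [2, 15, 12, 6, 15, 21, 8] .fail)), (1, (.step [2, 12, 6, 15, 12, 3, 15, 21] .fail)), (1, .fail), (1, (.step [2, 15, 2, 21, 6, 8] .fail)), (1, (.step [2, 12, 6, 15, 12, 15, 21] .fail)), (1, (.step [0, 2, 20, 6, 15, 2, 11, 2] .fail)), (1, (.step [0, 3, 20, 6, 15, 2, 12, 15] .fail)), (1, .fail), (1, (.step [2, 20, 6, 15, 5, 20, 3, 11] .fail)), (1, .fail), (1, (.step [2, 12, 6, 20, 15, 5, 4, 12] .fail)), (1, (.step [2, 12, 6, 20, 15, 3, 11, 2, 15] .fail)), (1, (.step [0, 2, 20, 6, 15, 5, 6] .fail)), (1, (.step [2, 11, 15, 11, 6, 5, 15, 3] (.step [4, 5, 22, 12, 5] (.step [6, 17, 14]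 (.step [5, 22, 23] .fail))))), (1, (.step [0, 2, 20, 6, 15, 20, 15, 21] .fail)), (1, (.step [2, 12, 6, 15, 12, 15, 21] .fail)), (1, .fail), (1, (.step [2, 15, 21, 6, 15, 11] .fail)), (1, (.step [2, 20, 6, 15, 3, 20, 15, 21] .fail)), (1, (.step [2, 12, 6, 15, 20, 6, 15, 3] .fail)), (1, (.step [0, 3, 12, 6, 15, 21, 2, 11] .fail)), (1, (.step [2, 12, 6, 15, 20, 6, 15, 8] .fail)), (1, (.step [2, 20, 6, 15, 3, 21, 11, 2] .fail)), (1, (.step [2, 20, 6, 15, 8, 11, 3] .fail)), (1, (.step [2, 12, 6, 20, 15, 2, 12] .fail)), (1, .fail), (1, (.step [0, 3, 12, 6, 15, 12, 15, 12] .fail)), (1, (.step [2, 15, 21, 3, 12, 6, 21] .fail)), (1, (.step [2, 15, 12, 6, 15, 11, 3, 11] (.step [4, 8, 22] (.step [16, 16, 13] (.step [20, 19] .fail))))), (1, (.step [2, 12, 6, 21, 15, 11, 3] .fail)), (1, (.step [2, 15, 12, 6, 15, 21, 3, 15] (.step [11, 22,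 15, 8, 12] .fail))), (1, (.step [2, 20, 6, 15, 3, 8] .fail)), (1, (.step [3, 12, 6, 20, 2, 12, 6] (.step [4, 21, 4] .fail))), (1, (.step [2, 15, 12, 6, 15, 11, 3] .fail)), (1, (.step [0, 2, 20, 6, 15, 20, 12, 20, 2] .fail)), (1, (.step [0, 2, 20, 6, 15, 11, 11, 11, 2] .fail)), (4, .fail), (1, (.step [3, 12, 15, 12, 6, 11, 15] .fail)), (1, .fail), (1, (.step [2, 12, 6, 15, 20, 6, 15, 3, 5] .fail)), (1, (.step [2, 20, 15, 12, 6, 11, 2] (.step [12, 22, 12] (.step [6, 5, 17, 6] .fail)))), (1, .fail), (1, (.step [0, 3, 12, 6, 15, 21, 2, 11] .fail)), (1, (.step [2, 15, 21, 6, 15, 11] .fail)), (1, (.step [2, 12, 6, 20, 7, 15, 21, 2, 21] .fail)), (1, (.step [3, 20, 15, 20, 6, 12] .fail)), (1, (.step [2, 20, 6, 15, 11, 3, 12, 20] (.step [8, 22, 11, 22, 20] .fail))), (1, (.step [2, 20, 6, 15, 11, 2, 21, 15] .fail)), (1, (.step [0, 2, 20,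 6, 15, 11, 11, 3] .fail)), (1, (.step [2, 20, 6, 15, 21, 11, 3] .fail)), (1, (.step [2, 20, 6, 15, 21, 2, 11, 3] .fail)), (1, (.step [2, 12, 6, 20, 15, 3, 5, 21] .fail)), (1, (.step [3, 12, 6, 20, 15, 12, 3, 7, 15] (.step [4, 5, 22, 4, 21, 15] .fail))), (1, (.step [0, 2, 12, 6, 20, 15, 3, 8, 11] .fail)), (1, (.step [3, 12, 3, 20, 6, 11, 15, 8] .fail)), (1, (.step [2, 12, 6, 20, 15, 3, 11] .fail)), (1, (.step [2, 12, 6, 21, 15, 5, 15, 2, 12] .fail)), (1, (.step [2, 15, 2, 12, 6, 12, 15, 12] .fail)), (1, .fail), (1, (.step [2, 15, 21, 3, 6, 12, 15, 11] (.step [4, 5, 22, 11, 22] (.step [13, 17, 5] .fail)))), (1, (.step [0, 2, 20, 6, 15, 12, 3, 15] .fail)), (1, (.step [2, 15, 21, 6, 15, 11] .fail)), (2, .fail), (1, (.step [2, 12, 6, 15, 20, 2, 15, 5, 8] .fail)), (1, (.step [2, 20, 6, 15, 20, 12, 3] .fail)), (1, (.step [2, 12, 6, 20,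 15, 2, 5, 20, 4] .fail)), (1, (.step [2, 11, 15, 11, 6, 21, 15, 8] (.step [4, 22, 11, 11] .fail))), (1, (.step [2, 20, 6, 15, 11, 3, 6] .fail)), (1, (.step [2, 12, 6, 15, 12, 3, 12, 15] .fail)), (1, (.step [3, 12, 6, 20, 2, 20, 2] .fail)), (1, (.step [2, 15, 12, 6, 15, 2, 11, 3] .fail)), (1, (.step [3, 20, 6, 15, 21, 2, 8] (.step [15, 22, 21, 4] (.step [17, 5, 6, 20] .fail)))), (1, .fail), (1, (.step [0, 3, 12, 6, 15, 21, 15] .fail)), (1, (.step [2, 12, 6, 15, 20, 2, 4, 15] (.step [15, 11, 22] .fail))), (2, .fail), (1, (.step [2, 12, 15, 12, 6, 12, 15, 2, 5] .fail)), (1, (.step [3, 12, 6, 20, 2, 12, 20] (.step [11, 11, 6, 21] .fail))), (1, (.step [3, 12, 6, 20, 2, 15, 21, 7] .fail)), (1, (.step [2, 20, 15, 2] .fail)), (1, (.step [2, 12, 6, 12, 12, 2, 15, 21] .fail)), (1, (.step [2, 12, 6, 21, 15, 20, 15, 12] .fail)), (1, (.step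 [2, 12, 6, 15, 20, 2, 15, 5] .fail)), (1, .fail), (1, (.step [2, 20, 6, 15, 5, 4, 3] .fail)), (1, (.step [2, 20, 6, 15, 21, 2, 11] .fail)), (1, (.step [2, 15, 21, 6, 15, 11, 2] .fail)), (1, (.step [2, 20, 6, 15, 11, 3, 7] .fail)), (1, (.step [2, 15, 21, 6, 15, 11, 2] (.step [11, 15, 22] .fail))), (1, (.step [0, 3, 12, 6, 20, 15, 12, 12] .fail)), (1, (.step [2, 20, 6, 15, 21, 2, 6] .fail)), (1, (.step [2, 12, 6, 15, 20, 6, 15, 3, 5] .fail)), (3, .fail), (1, (.step [0, 2, 20, 6, 15, 20, 15] .fail)), (1, (.step [2, 12, 6, 20, 15, 8, 7, 3] .fail)), (1, (.step [2, 15, 12, 6, 15, 11, 2] (.step [4, 5, 22, 15, 5] .fail))), (1, (.step [2, 20, 6, 15, 21, 8] .fail)), (1, (.step [0, 3, 12, 6, 20, 2, 20, 2, 15] .fail)), (1, (.step [2, 15, 21, 3, 4, 21, 6] .fail)), (1, (.step [2, 15, 21, 3, 12, 6, 21] .fail)), (1, .fail), (1, (.step [0, 2,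 12, 6, 20, 15, 3, 8, 11] .fail)), (1, (.step [3, 20, 6, 15, 3, 12, 12] .fail)), (1, (.step [2, 15, 21, 3, 6, 20, 15, 12] .fail)), (1, (.step [2, 12, 6, 20, 15, 3, 12, 2] .fail)), (1, (.step [3, 12, 6, 20, 2, 12, 6] (.step [4, 5, 6] .fail))), (1, (.step [2, 12, 6, 15, 20, 2, 15, 8, 7] .fail)), (1, (.step [2, 12, 15, 12, 6, 21, 8, 15] (.step [8, 22, 5, 11, 22] (.step [7, 16, 6, 13] (.step [20, 22] .fail))))), (1, (.step [2, 15, 21, 3, 6, 20, 15, 12] .fail)), (1, (.step [2, 12, 6, 21, 15, 21, 4, 3] .fail)), (1, (.step [2, 12, 6, 12, 3, 12, 2] .fail)), (1, (.step [2, 12, 6, 15, 20, 2, 4, 15] .fail)), (1, (.step [2, 20, 6, 15, 3, 21, 6, 15] .fail)), (1, (.step [2, 12, 6, 15, 12, 3, 20, 15] .fail)), (1, .fail), (1, (.step [2, 12, 6, 15, 12, 15, 21] .fail)), (1, (.step [2, 20, 6, 15, 21, 4, 15, 3] (.step [8, 22, 12, 22, 12] .fail))),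 (1, (.step [3, 12, 6, 20, 2, 15, 21, 7] .fail)), (1, .fail), (1, (.step [2, 12, 6, 20, 15, 2, 21, 2, 11] (.step [15, 22, 21] .fail))), (1, (.step [2, 12, 12, 3, 12, 3] .fail)), (1, (.step [3, 12, 6, 21, 2, 21, 11] .fail)), (1, (.step [3, 12, 6, 20, 2, 15, 12, 6] .fail)), (1, (.step [2, 20, 15, 21, 6, 21] .fail)), (1, (.step [2, 20, 15, 12, 6, 11, 2] .fail)), (1, (.step [2, 12, 6, 20, 15, 2, 12, 15, 5] .fail)), (1, (.step [3, 12, 6, 21, 2, 21, 8] .fail)), (1, (.step [2, 20, 6, 15, 8, 11, 3, 12] .fail)), (1, (.step [3, 20, 6, 15, 20, 12, 20, 2] .fail)), (1, (.step [2, 12, 6, 15, 12, 3, 15, 21] .fail)), (1, (.step [2, 12, 6, 20, 3, 15, 11, 2] .fail)), (1, (.step [2, 20, 2, 6, 15, 11, 11, 3, 20] .fail)), (1, (.step [3, 12, 6, 20, 3, 7] .fail)), (1, (.step [2, 20, 6, 15, 21, 3, 6] .fail)), (1, (.step [2, 20, 6, 15, 3, 21, 15, 8] .fail)),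 (1, (.step [0, 2, 20, 6, 15, 5, 12, 21] .fail)), (1, .fail), (1, (.step [2, 15, 2, 12, 6, 12, 15, 3, 11] .fail)), (1, (.step [3, 20, 6, 15, 21, 2, 20, 8] .fail)), (1, (.step [2, 15, 12, 15, 11] .fail)), (1, .fail), (1, (.step [2, 12, 6, 15, 12, 15, 2, 20, 3] .fail)), (1, (.step [0, 3, 20, 6, 15, 21, 15, 3, 5] .fail)), (1, (.step [3, 12, 3, 6, 12, 15, 2, 8] (.step [4, 22, 8, 12] .fail))), (1, (.step [2, 15, 12, 6, 15, 2, 11, 3] .fail)), (1, (.step [3, 12, 6, 20] .fail)), (1, (.step [0, 3, 20, 6, 15, 21, 15, 5] (.step [4, 22, 5, 12] (.step [6, 7] (.step [5, 19, 5] .fail))))), (1, (.step [2, 15, 21, 3, 12, 6, 12] (.step [4, 8, 20, 6, 15] .fail))), (1, (.step [0, 2, 12, 6, 21, 15, 11, 11] .fail)), (1, (.step [0, 3, 12, 6, 20, 15, 8] .fail)), (1, (.step [2, 12, 6, 21, 15, 21, 2] .fail)), (1, (.step [2, 20, 6, 15, 2, 20, 15] (.step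 [4, 11, 15, 8] (.step [16, 16, 20] (.step [18, 21] (.step [23] (.done [9, 9, 9, 9, 9, 9, 9]))))))), (1, (.step [0, 3, 12, 6, 15, 12, 15, 3] .fail)), (1, (.step [0, 2, 20, 6, 15, 11, 15, 8] .fail)), (1, (.step [2, 12, 6, 15, 12, 15, 2, 8] .fail)), (1, (.step [2, 15, 21, 6, 15, 21, 15] .fail)), (1, (.step [2, 20, 2, 6, 15, 11, 11, 3, 20] (.step [15, 11, 22] .fail))), (3, .fail), (1, (.step [2, 15, 21, 3, 7] .fail)), (1, (.step [3, 12, 15, 12, 6, 12, 3, 15] .fail)), (1, (.step [2, 12, 6, 21, 15, 21, 3] .fail)), (1, (.step [3, 12, 6, 20, 2, 15, 21, 2] .fail)), (1, .fail), (1, (.step [2, 11, 15, 11, 6, 11, 3, 15] .fail)), (1, (.step [0, 2, 20, 6, 15, 21, 15, 21] (.step [8, 22, 20] .fail))), (1, (.step [2, 12, 6, 15, 20, 3, 15] .fail)), (1, (.step [2, 12, 6, 15, 12, 3, 20, 15] .fail)), (1, (.step [2, 20, 6, 15, 2, 5, 4, 3] .fail)),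 (1, (.step [2, 12, 6, 20, 15, 2, 11, 11, 20] .fail)), (1, (.step [0, 2, 20, 6, 15, 21, 3, 12] (.step [8, 22, 11, 22, 21] (.step [6, 14, 17] (.step [19] .fail))))), (1, (.step [2, 20, 6, 15, 8, 11, 3, 12] .fail)), (1, .fail), (1, (.step [2, 20, 6, 15, 5, 6, 15] .fail)), (1, (.step [2, 20, 6, 15, 5, 12, 21] .fail)), (1, (.step [0, 2, 12, 6, 12, 12, 3, 15, 20] .fail)), (1, (.step [3, 20, 6, 15, 11, 11] .fail)), (1, (.step [2, 12, 6, 15, 20, 6, 15] .fail)), (1, .fail), (1, (.step [3, 12, 6, 20, 2, 20] .fail)), (1, .fail), (1, (.step [0, 2, 12, 6, 21, 15, 21, 15] .fail)), (1, (.step [2, 12, 6, 15, 12, 6, 15, 8] .fail)), (1, .fail), (1, (.step [2, 20, 6, 15, 5, 8] .fail)), (1, (.step [3, 12, 3, 6, 20, 15, 3, 12] .fail)), (1, (.step [2, 12, 6, 15, 20, 15, 3, 8] .fail)), (1, (.step [2, 20, 6, 15, 8, 20, 4] .fail)), (1, (.step [0, 2, 20,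 6, 15, 11, 3] (.step [11, 11, 15, 21, 22] .fail))), (1, (.step [2, 12, 6, 20, 3, 7, 3] .fail)), (1, (.step [2, 12, 6, 15, 12, 6, 15, 3] .fail)), (1, (.step [3, 12, 6, 20, 2, 20, 8] .fail)), (1, .fail), (1, (.step [3, 20, 6, 15, 21, 2, 8, 12, 15] .fail)), (1, (.step [0, 2, 12, 6, 20, 15, 2, 8, 11] .fail)), (1, (.step [2, 12, 6, 20, 15, 21, 2, 11] (.step [15, 21, 6, 22] .fail))), (1, (.step [2, 12, 6, 12, 12, 2, 15, 21] .fail)), (1, .fail), (1, (.step [2, 20, 6, 15, 21, 2, 12] (.step [12, 22, 4] .fail))), (1, (.step [3, 20, 6, 15, 21, 15, 20] .fail)), (1, (.step [2, 12, 6, 15, 20, 15, 2, 8] (.step [4, 5, 15, 11] .fail))), (1, (.step [2, 20, 6, 15, 11, 15, 8] .fail)), (1, .fail), (1, (.step [0, 3, 12, 6, 20, 15, 12, 15] .fail)), (1, (.step [0, 3, 12, 6, 20, 15, 5, 12] .fail)), (1, (.step [2, 12, 6, 15, 20, 2, 15, 5, 12] (.step [11,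 22, 15, 5] .fail))), (1, (.step [2, 20, 6, 15, 3, 5, 15, 5] .fail)), (1, (.step [2, 20, 15, 11, 6, 5] .fail)), (1, (.step [3, 20, 6, 15, 21, 4, 3] .fail)), (1, (.step [0, 2, 15, 12, 6, 15, 5] (.step [15, 5, 12, 12, 22] .fail))), (1, (.step [2, 15, 12, 6, 15, 2, 11, 2] .fail)), (2, .fail), (1, (.step [2, 20, 6, 15, 21, 2, 11] .fail)), (1, (.step [0, 2, 12, 12, 6, 15, 21, 3] (.step [15, 22, 4, 20] .fail))), (1, (.step [2, 12, 6, 21, 15, 5, 15] .fail)), (1, (.step [2, 20, 2, 6, 15, 11, 11, 3, 20] .fail)), (1, (.step [3, 12, 3, 20, 6, 11] .fail)), (1, (.step [2, 12, 6, 12, 12, 15, 21] .fail)), (1, (.step [3, 12, 3, 12, 6, 12, 15, 12] .fail)), (1, (.step [2, 12, 6, 12, 2, 20, 2] (.step [11, 11, 11] .fail))), (1, (.step [2, 20, 6, 15, 21, 11, 2] .fail)), (1, (.step [2, 15, 21, 3, 6, 11, 3] .fail)), (1, (.step [2, 12, 6, 21, 15, 11,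 8] .fail)), (1, (.step [2, 12, 6, 21, 15, 5, 4] .fail)), (1, (.step [2, 15, 12, 6, 15, 2, 11, 2] .fail)), (1, (.step [0, 3, 20, 6, 15] .fail)), (1, (.step [2, 20, 6, 15, 21, 2, 12] (.step [15, 8, 22, 21] .fail))), (1, (.step [2, 12, 15, 12, 6, 12, 15, 5] .fail)), (1, .fail), (1, (.step [2, 12, 6, 12, 12, 3, 15, 20, 6] .fail)), (1, (.step [2, 15, 21, 3, 6, 7, 21] .fail)), (1, (.step [2, 20, 6, 15, 21, 3, 11, 11] (.step [4, 12, 22, 5] (.step [17] (.step [5, 21] .fail))))), (1, (.step [2, 15, 21, 3, 6, 20, 15, 20, 2] .fail)), (1, (.step [2, 20, 6, 15, 5, 4, 8] .fail)), (1, .fail), (1, (.step [2, 11, 15, 11, 6, 5, 15, 21, 2] .fail)), (1, (.step [2, 12, 6, 20, 15, 12, 12, 21, 3] (.step [4, 22, 8] .fail))), (1, (.step [2, 12, 6, 20, 15, 2, 12, 20] (.step [4, 21] .fail))), (1, (.step [0, 3, 12, 6, 15, 21] .fail)), (1, (.step [3, 12,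 6, 21, 2, 21] (.step [12, 12] .fail))), (1, .fail), (1, (.step [3, 12, 6, 20, 2, 15, 5, 20] (.step [4, 22, 15, 22] .fail))), (1, (.step [2, 12, 6, 21, 15, 21, 3, 12] .fail)), (1, (.step [2, 15, 21, 3, 6, 11] .fail)), (1, (.step [3, 12, 3, 6, 12, 15, 3, 20, 3] .fail)), (1, .fail), (1, (.step [2, 15, 21, 3, 6, 15, 20, 15] .fail)), (1, (.step [2, 20, 6, 15, 5, 15, 20] .fail)), (1, .fail), (1, (.step [0, 3, 12, 6, 15, 21, 2] .fail)), (1, (.step [2, 12, 6, 20, 7, 15, 21, 2, 21] .fail)), (1, (.step [2, 12, 6, 20, 15, 21, 3, 12] .fail)), (1, (.step [3, 20, 6, 15, 20, 12, 20] (.step [4, 22, 8, 21, 11] .fail))), (1, (.step [2, 12, 6, 15, 20, 15, 8] .fail)), (1, (.step [3, 20, 6, 15, 21, 2, 20] .fail)), (1, .fail), (1, (.step [2, 12, 6, 15, 20, 3, 15, 8] .fail)), (1, (.step [3, 12, 15, 12, 6, 12, 3, 15] .fail)), (1, .fail), (1, (.step [0,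 3, 12, 6, 20, 15, 3, 12, 15] .fail)), (1, (.step [2, 20, 6, 15, 2, 12, 12, 3] (.step [15, 22, 20, 15] .fail))), (1, (.step [2, 12, 6, 15, 20, 3, 15, 5] .fail)), (1, (.step [2, 12, 6, 20, 15, 2, 12, 6] (.step [11, 22, 15, 21] .fail))), (1, (.step [2, 12, 6, 20, 15, 2, 8, 11] (.step [4, 5, 22, 8, 15] .fail))), (1, (.step [2, 20, 6, 15, 21, 15, 2, 5] .fail)), (1, (.step [3, 20, 6, 15, 2, 11, 3, 4] .fail)), (1, (.step [2, 12, 6, 12, 12, 3, 11] .fail)), (1, (.step [2, 12, 6, 21, 15, 21, 3, 8] .fail)), (1, (.step [0, 3, 20, 6, 15, 3, 20, 12] .fail)), (1, (.step [2, 20, 6, 15, 21, 3, 8, 12] .fail)), (1, (.step [0, 3, 12, 6, 15, 21, 3] .fail)), (1, (.step [2, 20, 6, 15, 21, 15, 2] .fail)), (1, (.step [2, 20, 6, 15, 11, 2, 8] .fail)), (1, (.step [2, 15, 21, 3, 6, 7, 21] (.step [4, 21, 4, 15] .fail))), (1, (.step [0, 2, 20, 6, 15, 11, 2]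 .fail)), (1, (.step [0, 3, 12, 6, 15, 12, 15, 12] .fail)), (1, (.step [3, 12, 6, 15, 12, 15, 3, 8] .fail)), (1, (.step [2, 20, 6, 15, 3, 5, 15, 5] .fail)), (1, .fail), (1, (.step [2, 20, 6, 15, 11, 3, 7] .fail)), (1, (.step [0, 3, 20, 6, 15, 11, 2, 8] .fail)), (1, .fail), (1, (.step [2, 12, 6, 21, 15, 11, 3] (.step [8, 22, 12, 22, 4] .fail))), (1, .fail), (1, (.step [2, 20, 6, 15, 21, 15, 2] .fail)), (1, .fail), (1, (.step [3, 20, 6, 15, 2, 11, 15, 11] .fail)), (2, .fail), (1, (.step [2, 12, 6, 15, 20, 15, 3] (.step [4, 22, 12, 7, 12] .fail))), (1, (.step [2, 12, 6, 15, 20, 3, 15, 8] .fail)), (1, (.step [2, 12, 15, 12, 3, 6, 21, 15] (.step [8, 22] .fail))), (1, (.step [3, 20, 6, 15, 2, 21, 15, 11] (.step [11, 15, 22, 15, 12] .fail))), (1, .fail), (1, (.step [2, 12, 6, 12, 3, 12, 2, 6] .fail)), (1, (.step [2, 20, 6, 15, 11, 3,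 7, 15] .fail)), (1, (.step [2, 12, 6, 15, 20, 15] .fail)), (1, (.step [0, 2, 20, 6, 15, 21, 3, 12] .fail)), (1, .fail), (1, (.step [2, 11, 15, 11, 6, 21, 15, 3] (.step [8, 22, 5, 11] .fail))), (1, (.step [2, 12, 20, 15] .fail)), (1, (.step [2, 12, 6, 20, 15, 2, 11, 2, 6] .fail)), (1, .fail), (1, (.step [0, 2, 20, 6, 15, 20, 4, 20] .fail)), (1, (.step [3, 20, 6, 15, 21, 15, 5] (.step [4, 15, 5] .fail))), (1, (.step [3, 20, 6, 15, 11, 2, 11] .fail)), (1, .fail), (1, (.step [2, 12, 6, 20, 3, 4, 15] (.step [4, 22, 15, 21] .fail))), (1, (.step [2, 15, 2, 21, 3, 6, 11] .fail)), (2, .fail), (1, (.step [3, 12, 6, 21, 2, 21, 8] .fail)), (1, (.step [0, 2, 20, 6, 15, 11, 15] .fail)), (1, (.step [2, 12, 6, 20, 3, 15, 11] .fail)), (1, (.step [3, 12, 6, 15, 11, 15, 3, 8] .fail)), (1, (.step [3, 20, 6, 15, 21, 8] .fail)), (1, (.step [0, 2, 20,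 6, 15, 11, 21] .fail)), (1, (.step [2, 12, 6, 21, 15, 20, 12] .fail)), (1, (.step [2, 20, 6, 15, 11, 11, 2] .fail)), (1, (.step [2, 20, 15, 11, 6] .fail)), (1, (.step [2, 12, 6, 20, 3, 7] (.step [4, 21, 4] .fail))), (1, (.step [2, 20, 6, 15, 3, 15] .fail)), (1, (.step [2, 12, 15, 20, 6, 15, 5] .fail)), (1, (.step [0, 3, 12, 6, 20, 15, 3] .fail)), (1, (.step [0, 2, 12, 6, 20, 15, 3, 8] .fail)), (1, (.step [2, 12, 6, 21, 15, 11] .fail)), (1, .fail), (1, (.step [2, 20, 6, 15, 2, 21, 3] .fail)), (1, .fail), (1, (.step [2, 20, 6, 15, 11, 3, 7] .fail)), (1, (.step [2, 20, 6, 15, 8, 11, 15, 3] .fail)), (1, (.step [2, 20, 6, 15, 8, 11, 3, 7] (.step [12, 22, 11, 21] (.step [17, 14] (.step [18, 20] .fail))))), (1, (.step [3, 20, 6, 15, 11, 2, 21, 11] .fail)), (1, (.step [0, 2, 12, 6, 20, 15, 2, 5, 12] .fail)), (1, (.step [2, 12, 6, 12,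 3, 12, 2, 6] .fail)), (1, (.step [0, 2, 15, 21, 3, 6, 12, 15] .fail)), (1, (.step [2, 20, 6, 15, 11, 3, 7] .fail)), (1, .fail), (1, (.step [0, 2, 12, 6, 20, 15, 3, 21, 6] .fail)), (1, .fail), (1, (.step [2, 20, 6, 15, 3, 5, 4, 15] (.step [11, 22, 11, 11] .fail))), (1, .fail), (1, (.step [2, 12, 6, 20] (.step [4, 21, 4, 22] .fail))), (1, (.step [2, 12, 6, 20, 15, 12, 6, 12, 3] (.step [4, 22, 21, 15, 8] .fail))), (1, (.step [3, 20, 6, 15, 21, 2, 12] .fail)), (2, .fail), (1, (.step [0, 3, 12, 6, 20, 2, 15, 12, 15] .fail)), (1, .fail), (1, (.step [2, 12, 6, 12, 12, 15, 21, 3] .fail)), (1, .fail), (1, (.step [0, 3, 12, 6, 20, 15, 12, 3, 15] .fail)), (1, (.step [0, 2, 12, 6, 20, 15] .fail)), (2, .fail), (1, (.step [0, 3, 20, 6, 15, 21, 15, 3, 5] (.step [4, 22, 8, 7] .fail))), (1, (.step [2, 20, 6, 15, 11, 2] (.step [4, 5, 22, 5, 11]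 .fail))), (1, (.step [0, 3, 12, 6, 15, 12, 15, 3] (.step [15, 22, 4, 21, 15] (.step [7, 17, 17, 6] (.step [] .fail))))), (1, (.step [2, 12, 6, 21, 15, 11] .fail)), (1, (.step [2, 12, 6, 21, 15, 8, 11, 3] .fail)), (1, (.step [2, 12, 6, 15, 20, 2, 15, 8, 7] (.step [11, 15, 22, 15, 22] (.step [6, 5, 16] (.step [5, 22, 23] .fail))))), (1, (.step [0, 3, 12, 6, 20, 15, 12] (.step [4, 22, 11, 15, 11] .fail))), (1, .fail), (1, (.step [2, 20, 6, 15, 11, 3, 8, 21] .fail)), (1, .fail), (1, (.step [3, 12, 3, 6, 12, 15, 2] .fail)), (1, (.step [3, 12, 6, 15, 12, 15] .fail)), (1, (.step [0, 2, 20, 6, 15, 11, 21, 15] .fail)), (1, (.step [0, 2, 15, 12, 6, 15, 11, 2, 15] .fail)), (1, (.step [2, 12, 6, 15, 12, 15, 20, 3, 11] .fail)), (1, (.step [0, 2, 20, 6, 15, 21, 4, 15, 2] .fail)), (1, (.step [0, 3, 12, 6, 20, 15, 5] (.step [4, 5, 15, 5, 8] .fail))),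 (1, (.step [2, 20, 6, 15, 11, 3, 6] .fail)), (1, (.step [2, 12, 6, 20, 15, 3, 12, 15] .fail)), (1, (.step [3, 12, 3, 6, 12, 15, 11] (.step [4, 11, 4, 15] .fail))), (1, (.step [3, 12, 6, 20, 2, 20] (.step [12, 12, 22, 4, 5] (.step [16, 16, 20] (.step [19, 20] .fail))))), (1, .fail), (1, (.step [2, 20, 6, 15, 11, 6, 8] .fail)), (1, (.step [2, 12, 6, 21, 3, 7] .fail)), (1, (.step [2, 12, 6, 20, 15, 2, 11] .fail)), (1, (.step [2, 12, 20, 15] .fail)), (1, (.step [2, 15, 12, 6, 15, 11, 3, 7] .fail)), (1, (.step [3, 20, 6, 15, 11, 15, 2, 11] .fail)), (1, (.step [2, 12, 6, 15, 20, 2, 15, 11] .fail)), (1, (.step [2, 12, 6, 21, 15, 11, 2] .fail)), (2, .fail), (1, (.step [2, 12, 6, 21, 15, 21] .fail)), (1, (.step [3, 12, 6, 20, 15, 3, 20, 15] .fail)), (1, (.step [2, 20, 6, 15, 11, 2, 11, 2] .fail)), (1, .fail), (1, (.step [2, 20, 6, 15,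 5, 4, 8] .fail)), (1, (.step [3, 20, 6, 15, 5, 15, 20, 2] .fail)), (1, (.step [2, 12, 6, 15, 20, 15] .fail)), (2, .fail), (1, (.step [3, 20, 15, 11, 6] .fail)), (1, (.step [2, 20, 6, 15, 11, 2, 6] .fail)), (1, (.step [2, 12, 6, 15, 12, 15, 21, 2] (.step [15, 22, 8] (.step [7, 16, 6, 13] (.step [19, 20] .fail))))), (1, .fail), (1, (.step [2, 15, 21, 6, 15, 11, 3] (.step [8, 22, 12, 22, 4] .fail))), (1, (.step [2, 15, 21, 3, 6, 20, 15, 12] .fail)), (1, (.step [2, 20, 6, 15, 5, 4, 3] .fail)), (1, (.step [0, 3, 20, 6, 15] (.step [12, 22, 12, 6] .fail))), (1, (.step [2, 12, 6, 20, 15, 3, 12, 12] .fail)), (1, (.step [2, 15, 21, 3, 6, 12, 20] .fail)), (1, (.step [2, 20, 6, 15, 2, 20, 15] .fail)), (1, .fail), (1, (.step [2, 15, 21, 3, 6, 11, 8] .fail)), (1, (.step [2, 20, 6, 15, 11, 3, 7, 15] (.step [4, 11, 4] .fail))), (1, (.step [2,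 12, 6, 12, 2, 20, 2] .fail)), (1, (.step [3, 20, 6, 15, 12] .fail)), (1, (.step [2, 12, 6, 15, 20, 8, 15] .fail)), (1, (.step [2, 20, 6, 15, 11, 3, 8, 21] .fail)), (1, (.step [2, 20, 6, 15, 21, 11, 15] .fail)), (1, (.step [2, 21, 2, 11, 11, 6] .fail)), (1, (.step [2, 15, 21, 3, 6, 7, 21] .fail)), (1, .fail), (1, (.step [3, 12, 3, 12, 6, 12] .fail)), (1, (.step [0, 2, 15, 21, 6, 15, 11, 2] .fail)), (1, (.step [0, 2, 12, 6, 20, 15, 2, 11, 8] .fail)), (1, (.step [2, 20, 6, 15, 21, 3, 11, 11] .fail)), (1, (.step [3, 12, 6, 20, 2, 15, 21, 2] .fail)), (1, (.step [3, 12, 3, 20, 6, 11, 15] .fail)), (1, (.step [2, 20, 6, 15, 11, 3] .fail)), (2, .fail), (1, (.step [2, 12, 20] .fail)), (1, (.step [3, 12, 3, 12, 3, 6, 21] .fail)), (1, (.step [2, 15, 21, 3, 6, 11] .fail)), (1, (.step [3, 12, 3, 12, 6, 12] .fail)), (1, .fail), (1, (.step [2,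 12, 6, 12, 3, 20, 2] .fail)), (1, (.step [3, 20, 15, 2, 8] .fail)), (1, (.step [3, 20, 15, 20, 6, 11, 2, 15] .fail)), (1, .fail), (1, (.step [2, 12, 6, 21, 15, 20, 2] (.step [8, 22, 20] .fail))), (1, .fail), (1, (.step [0, 2, 12, 6, 20, 3, 15, 3] .fail)), (1, (.step [0, 2, 12, 6, 20, 15, 8] .fail)), (1, (.step [2, 12, 6, 15, 20, 15, 3, 21] .fail)), (1, (.step [2, 20, 6, 15, 21, 3, 15] (.step [4, 11, 15, 5, 22, 15] (.step [16, 22] (.step [20, 22] .fail))))), (1, (.step [2, 12, 6, 15, 20, 15, 2] .fail)), (1, (.step [0, 3, 12, 6, 15, 21] .fail)), (1, (.step [2, 20, 15, 12, 6] .fail)), (1, (.step [3, 12, 3, 6, 12, 15, 2, 8] .fail)), (1, (.step [3, 20, 6, 15, 21, 15, 11] .fail)), (1, (.step [2, 12, 6, 15, 20, 2, 15, 8, 7] .fail)), (1, (.step [2, 20, 6, 15, 5, 4, 3] .fail)), (1, (.step [2, 20, 6, 15, 5, 4, 8] .fail)), (1, (.step [2,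 12, 6, 15, 20, 4, 15] .fail)), (1, .fail), (1, (.step [2, 20, 6, 15, 21, 3, 6] .fail)), (1, (.step [2, 12, 6, 21, 15, 21] .fail)), (1, (.step [0, 3, 12, 6, 15, 12, 15, 3, 8] .fail)), (1, (.step [2, 12, 6, 20, 15, 12, 12, 3, 21] (.step [12, 12, 22, 4] .fail))), (1, (.step [0, 2, 20, 6, 15, 11, 11, 2, 20] .fail)), (1, (.step [2, 20, 6, 15, 21, 11, 15] .fail)), (1, (.step [2, 12, 6, 12, 3, 12] (.step [12, 12, 6, 20] (.step [6, 13] (.step [5] (.step [] (.done [9, 9, 9, 9, 9, 9]))))))), (1, (.step [3, 12, 3, 6, 20, 3, 15, 21] .fail)), (1, (.step [2, 12, 15, 20, 3, 6, 12, 15] .fail)), (1, (.step [0, 3, 12, 6, 15, 12] .fail)), (1, .fail), (1, (.step [2, 20, 6, 15, 11, 6, 8] .fail)), (1, (.step [2, 20, 6, 15, 21, 3, 11, 11] .fail)), (1, (.step [2, 12, 6, 12, 2, 20, 3] .fail)), (1, (.step [0, 2, 15, 21, 6, 15, 11, 2] .fail)), (1, (.step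 [2, 12, 6, 12] (.step [4, 21, 4] .fail))), (1, (.step [3, 12, 3, 20, 6, 11] .fail)), (1, .fail), (1, (.step [2, 11, 15, 11, 6, 21, 15] .fail)), (2, .fail), (1, (.step [2, 12, 6, 20, 7, 15, 3] .fail)), (1, (.step [0, 2, 20, 6, 15, 3, 21, 15, 21] (.step [12, 22, 20, 8, 22] .fail))), (1, (.step [2, 12, 6, 15, 20, 15, 2, 8] .fail)), (1, (.step [0, 2, 12, 6, 20, 15, 12, 3, 6] .fail)), (1, (.step [3, 12, 6, 15, 21, 15] .fail)), (1, (.step [2, 20, 15, 12, 6, 21, 3, 4] .fail)), (1, (.step [0, 2, 20, 6, 15, 11, 2] .fail)), (1, (.step [2, 12, 12, 3, 12, 3] .fail)), (1, (.step [2, 20, 6, 15, 21, 8, 11] .fail)), (1, (.step [2, 12, 6, 20, 7, 15, 21] .fail)), (1, (.step [2, 12, 6, 12, 2, 12, 6] (.step [4, 21, 4] .fail))), (1, (.step [3, 12, 6, 15, 11, 15, 8] .fail)), (1, (.step [0, 3, 12, 6, 15, 21, 2, 11] .fail)), (1, (.step [0, 2, 12, 6,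 20, 15, 2, 8, 11] .fail)), (1, (.step [2, 12, 6, 12, 12, 3, 11] .fail)), (1, (.step [2, 12, 6, 20, 3, 4] .fail)), (1, (.step [2, 12, 6, 12, 12, 15, 21, 2] .fail)), (1, (.step [2, 20, 6, 15, 21, 3] .fail)), (1, (.step [2, 20, 6, 15, 21, 15, 20] (.step [12, 12, 6, 20] (.step [17, 14, 22] (.step [19, 5, 22] .fail))))), (1, (.step [3, 20, 6, 15, 21, 4] .fail)), (1, .fail), (1, (.step [2, 20, 6, 15, 5, 12, 3] .fail)), (1, (.step [2, 12, 6, 20, 15, 2, 12, 5] .fail)), (1, (.step [2, 12, 6, 21, 15, 21, 3, 15] .fail)), (1, (.step [3, 12, 6, 15, 12, 15, 20, 2, 11] .fail)), (1, (.step [0, 3, 20, 6, 15, 21, 11, 3] .fail)), (1, (.step [2, 20, 6, 15, 11, 2, 20] (.step [4, 22, 15, 8] .fail))), (1, .fail), (1, (.step [3, 12, 3, 6, 20, 3, 15, 5] .fail)), (1, (.step [2, 20, 6, 15, 2, 5] (.step [15, 22, 4, 5] .fail))), (1, (.step [3, 20, 6, 15,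 21, 2, 8] (.step [11, 22, 11, 21] (.step [16, 13, 6] (.step [5, 21] .fail))))), (1, .fail), (1, (.step [2, 12, 6, 15, 20, 3, 15, 20, 4] .fail)), (1, (.step [2, 15, 21, 6, 15, 5, 15, 2] .fail)), (1, (.step [2, 20, 6, 15, 3, 12] .fail)), (1, (.step [0, 2, 20, 6, 15, 20, 15] .fail)), (1, (.step [2, 20, 6, 15, 11, 3, 4, 5] (.step [4, 22, 8] .fail))), (1, .fail), (1, (.step [2, 20, 6, 15, 3, 21, 15, 8] .fail)), (1, .fail), (1, (.step [2, 20, 6, 15, 21, 3, 15, 5] .fail)), (1, (.step [2, 20, 6, 15, 2, 21, 3, 15] .fail)), (1, .fail), (1, (.step [2, 12, 6, 20, 15, 2, 5, 6, 20] .fail)), (1, (.step [3, 12, 6, 20, 15, 3, 20] .fail)), (1, (.step [2, 15, 2, 21, 6, 8] .fail)), (1, (.step [3, 12, 6, 21, 15, 11, 3, 11] .fail)), (1, (.step [2, 12, 6, 20, 15, 2, 8, 12, 20] (.step [4, 11, 15, 22] .fail))), (1, (.step [2, 15, 21, 6, 15, 2, 11, 3]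 .fail)), (1, .fail), (1, (.step [2, 12, 20, 15, 5, 6] .fail)), (2, .fail), (1, (.step [2, 15, 21, 3, 6, 20, 15, 8, 21] .fail)), (1, (.step [0, 2, 15, 12, 6, 15, 11, 11] (.step [4, 15, 22, 11, 20] .fail))), (1, (.step [2, 11, 15, 21, 6, 11, 15] .fail)), (1, (.step [2, 12, 6, 20, 3, 4] .fail)), (1, (.step [2, 15, 21, 6, 15, 21, 15] .fail)), (1, (.step [2, 15, 21, 6, 15, 11, 3] .fail)), (1, (.step [0, 2, 20, 6, 15, 21, 3, 12] .fail)), (1, (.step [2, 20, 6, 15, 21, 4, 15, 3] .fail)), (1, (.step [0, 3, 20, 6, 15, 11, 2, 8, 20] .fail)), (1, (.step [2, 12, 6, 15, 20, 6, 15, 5] (.step [4, 12, 22, 15, 22] .fail))), (1, .fail), (1, (.step [2, 20, 6, 15, 5, 15, 21, 3] .fail)), (1, (.step [2, 12, 6, 12, 2, 12, 3, 12] .fail)), (1, .fail), (1, (.step [2, 12, 6, 20, 3, 20, 15, 12] (.step [4, 22, 21, 15, 20] .fail))), (1, (.step [2, 12, 6, 15,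 12, 3, 6, 15, 8] .fail)), (1, .fail), (1, (.step [2, 20, 6, 15, 3, 5, 4, 20] (.step [4, 12, 22, 11] .fail)))])

/-- the pieces of a certificate -/
noncomputable def pcsCp : List (List (List ℕ) × Cert) := [(UA_0, cCp_0), (UA_1, cCp_1), (UA_2, cCp_2)]

/-- a piece of a certificate -/
noncomputable def cT2_0 : Cert := (Cert.rl [(1, (.step [2, 11] .fail)), (1, (.step [] .fail)), (1, .fail), (1, (.step [2, 15, 12, 2, 6] .fail)), (3, .fail), (1, (.step [2, 12, 15] .fail)), (1, (.step [2] .fail)), (6, .fail), (1, (.step [2, 12, 6, 20, 7, 3] .fail)), (6, .fail), (1, (.step [2, 20, 2, 15] (.step [11, 22, 11, 21, 6] .fail))), (1, .fail), (1, (.step [2, 20, 2, 15, 3] (.step [4, 22, 5, 11, 15, 22] .fail))), (1, .fail), (1, (.step [3, 12, 3, 20, 6, 15, 2] .fail)), (1, (.step [0, 2, 20, 2] .fail)), (1, (.step [0, 3, 15] .fail)), (1, (.step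 [0, 3, 20, 6] .fail)), (1, (.step [2, 15, 21, 3, 12, 6, 20] .fail)), (1, (.step [2, 12, 15] .fail)), (1, (.step [2, 12, 6] .fail)), (1, (.step [0, 3, 12] .fail)), (1, (.step [2, 12, 6, 15] .fail)), (2, .fail), (1, (.step [2, 15, 12, 3, 6, 15] (.step [11, 11, 11, 6, 22] .fail))), (1, (.step [0, 2, 20, 6, 15, 21, 15, 20] .fail)), (1, .fail), (1, (.step [2, 15, 12, 2, 15] .fail)), (1, (.step [0, 3, 20, 6] .fail)), (3, .fail), (1, (.step [2, 20, 2, 15, 3] .fail)), (1, (.step [3, 12, 6, 15, 8] .fail)), (1, (.step [0, 3, 20] .fail)), (1, .fail), (1, (.step [2, 20, 2] .fail)), (1, (.step [3, 15] .fail)), (1, (.step [2, 20, 2, 6, 15] .fail)), (1, (.step [2, 11, 15, 21, 6, 11, 3] .fail)), (1, (.step [2, 12, 15] .fail)), (1, (.step [0, 3, 20, 6, 15, 5, 12] .fail)), (1, .fail), (1, (.step [0, 2, 20, 15, 5, 12, 6] (.step [4, 15, 5, 22] .fail))),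 (1, (.step [] .fail)), (1, .fail), (1, (.step [3, 20, 15, 2, 21, 6, 11] .fail)), (1, .fail), (1, (.step [2, 15, 21, 2, 6, 21, 15] .fail)), (1, (.step [3, 11] .fail)), (1, (.step [0, 2, 12] .fail)), (5, .fail), (1, (.step [2, 15, 12, 2, 6, 15] .fail)), (1, (.step [2, 12] .fail)), (1, (.step [2, 12, 6, 20, 2, 20, 15] (.step [15, 11] .fail))), (2, .fail), (1, (.step [3, 12, 3, 20, 15, 2] .fail)), (1, .fail), (1, (.step [0, 2, 12, 6, 20, 2] .fail)), (1, (.step [2, 12, 6, 20, 2, 20, 15] .fail)), (1, (.step [0, 3, 12, 6, 15, 21, 15] .fail)), (1, .fail), (1, (.step [2, 12, 6, 21, 3, 11, 15, 2] .fail)), (1, .fail), (1, (.step [2, 12, 6, 20, 2, 20, 15] .fail)), (2, .fail), (1, (.step [2, 15, 12, 6, 15, 2] (.step [8, 22, 20, 15, 8] .fail))), (1, (.step [2, 20, 15, 3, 21, 6, 21] .fail)), (1, (.step [0, 2, 20, 6, 15, 20, 12] (.step [11, 22,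 11, 15, 22] .fail))), (2, .fail), (1, (.step [0, 2, 20, 2] .fail)), (1, (.step [0, 2, 15, 2] .fail)), (1, .fail), (1, (.step [0, 2, 20, 6, 15, 21, 15, 20] .fail)), (1, (.step [2, 15, 21, 15, 11] .fail)), (1, .fail), (1, (.step [2, 21, 2] .fail)), (1, (.step [2, 20, 2, 6, 15, 5, 4] .fail)), (1, (.step [2, 12, 6, 20, 2, 15] .fail)), (1, (.step [0, 3, 12] .fail)), (1, (.step [2, 12, 6, 20, 2, 20, 15, 3] .fail)), (1, (.step [3, 12, 6, 15] .fail)), (3, .fail), (1, (.step [2, 20, 2, 6, 15, 12, 12] .fail)), (1, (.step [2, 12, 6, 21, 15, 20, 3] .fail)), (1, (.step [0, 2, 20, 15, 21] (.step [12, 22, 4, 5] .fail))), (1, .fail), (1, (.step [3, 20, 15, 2, 21, 6, 11] .fail)), (1, .fail), (1, (.step [2, 12, 6, 21, 3, 11, 3, 15] .fail)), (1, .fail), (1, (.step [3, 20, 6, 15, 2, 8] (.step [15, 22, 8] .fail))), (1, (.step [3, 20, 15, 3] (.step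 [12, 12, 22] .fail))), (1, (.step [0, 2, 20, 6, 15, 11, 15, 21] .fail)), (1, .fail), (1, (.step [3, 20, 15, 2, 21, 6, 11] .fail)), (1, (.step [2, 20, 6, 15, 3, 8, 11] .fail)), (1, (.step [2, 12, 6, 12, 2, 12, 15, 2, 5] .fail)), (1, (.step [2, 15, 12, 2, 15] .fail)), (1, (.step [3, 12, 15] .fail)), (8, .fail), (1, (.step [0, 2, 15, 12, 6, 15, 12] .fail)), (1, .fail), (1, (.step [0, 2, 15, 21, 3, 12, 6, 20] .fail)), (1, (.step [2, 12, 20, 15, 11, 6] .fail)), (1, (.step [2, 20, 2, 6, 15, 3] .fail)), (1, (.step [2, 12, 6, 15, 20, 15, 2, 11] (.step [15, 11, 22, 20] .fail))), (1, .fail), (1, (.step [2, 12, 6, 21, 15, 20, 2] .fail)), (1, .fail), (1, (.step [0, 2, 20, 15, 5, 12, 6] .fail)), (1, .fail), (1, (.step [3, 12, 3, 6, 12, 12] .fail)), (1, (.step [3, 12, 3, 12, 6, 21, 8, 15] .fail)), (1, (.step [2, 15, 12, 15, 3] (.step [4, 22,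 21, 15, 11] .fail))), (1, .fail), (1, (.step [2, 20, 6, 15, 12, 3, 20] .fail)), (1, .fail), (1, (.step [0, 2, 20, 6, 15, 12] .fail)), (1, .fail), (1, (.step [2, 20, 2, 6, 11, 11, 15, 8] .fail)), (1, .fail), (1, (.step [2, 20, 15, 3] (.step [4, 22, 12, 7, 12] .fail))), (1, (.step [2, 12, 6, 20, 15, 3, 5, 7] .fail)), (1, (.step [2, 12, 6, 21, 15, 20, 3] .fail)), (1, .fail), (1, (.step [2, 11, 15, 21, 6, 11, 3] .fail)), (1, (.step [2, 12] .fail)), (1, .fail), (1, (.step [2, 11, 15, 21, 6, 11, 3] .fail)), (1, (.step [2, 11, 15, 21, 6, 11] .fail)), (1, (.step [0, 3, 20, 6, 15, 20, 4] .fail)), (1, .fail), (1, (.step [2, 15, 2, 11, 6, 11, 3] .fail)), (1, (.step [2, 15, 2, 11, 6, 11, 15] .fail)), (1, .fail), (1, (.step [0, 3, 20, 15, 20, 6] .fail)), (1, .fail), (1, (.step [2, 20, 6, 15, 3, 21, 2] (.step [12, 22, 21] .fail))), (1, (.step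 [0, 3, 20, 6, 15, 8] .fail)), (1, .fail), (1, (.step [2, 11, 15, 21, 6, 11, 3] (.step [4, 15, 22, 12] .fail))), (1, (.step [3, 12, 6, 20, 2, 20, 2, 15] .fail)), (1, (.step [2, 20, 6, 15, 3, 12, 12] .fail)), (1, (.step [3, 20, 15, 2] (.step [12, 22, 11, 20] .fail))), (1, .fail), (1, (.step [2, 20, 6, 15, 3, 21, 3] .fail)), (1, .fail), (1, (.step [0, 2, 15, 12, 6, 15, 12, 12] .fail)), (1, (.step [0, 3, 20, 15, 20, 6, 12] .fail)), (1, .fail), (1, (.step [2, 12, 6, 15, 12, 15, 21, 7] .fail)), (1, (.step [3, 12, 3, 12, 6, 12, 15] .fail)), (1, (.step [0, 2, 20, 15, 11, 6] .fail)), (1, (.step [3, 12, 3, 12, 6, 12, 15, 2] .fail)), (1, (.step [0, 3, 20, 6, 15, 20] .fail)), (1, (.step [2, 20, 15, 3, 4] (.step [4, 22, 12, 7, 12] .fail))), (1, (.step [2, 20, 6, 15, 3, 21] .fail)), (1, (.step [3, 12, 6, 21, 15, 8] .fail)), (1, (.step [2, 20,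 6, 15, 3, 5, 4] .fail)), (1, .fail), (1, (.step [0, 2, 20, 15, 12] .fail)), (1, (.step [2, 12, 6, 20, 2, 20, 15] .fail)), (1, (.step [2, 15, 21, 6, 15, 21, 3, 8] .fail)), (1, (.step [0, 2, 20, 6, 15, 3, 11, 11] .fail)), (1, (.step [0, 3, 20, 6, 15, 5, 12] .fail)), (1, (.step [2, 12, 15, 20, 6, 15] .fail)), (1, (.step [0, 2, 20, 6, 15, 11, 15, 21] (.step [4, 5, 22, 12, 22] .fail))), (2, .fail), (1, (.step [0, 3, 20, 6, 15, 2, 11, 2] .fail)), (1, (.step [2, 20, 6, 15, 12, 3, 12] .fail)), (1, (.step [0, 2, 12, 6, 20, 2] .fail)), (1, (.step [0, 3, 20, 6, 15, 12, 12, 15] .fail)), (1, (.step [2, 15, 21, 2] .fail)), (1, (.step [2, 20, 15, 5, 6, 20] .fail)), (1, (.step [2, 12, 6, 12, 12, 2, 15] .fail)), (1, (.step [0, 2, 20, 6, 15, 21, 15, 20] .fail)), (1, (.step [0, 2, 20, 6, 15, 12, 12] .fail)), (1, (.step [2, 15, 2, 11, 6, 11] .fail)),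 (1, .fail), (1, (.step [0, 3, 12, 6] .fail)), (1, (.step [2, 12, 6, 21, 15, 11, 3, 20] .fail)), (1, .fail), (1, (.step [0, 2, 12, 6, 20, 15, 21, 2] .fail)), (1, (.step [2, 12, 6, 12, 3, 20, 2, 15, 8] .fail)), (1, (.step [0, 2, 20, 15, 12, 3, 6] .fail)), (1, (.step [2, 12, 6, 12, 3, 12, 6, 15] .fail)), (2, .fail), (1, (.step [2, 12, 6, 20, 3, 15, 12, 3, 12] .fail)), (1, (.step [2, 12, 6, 20, 2, 20, 15] .fail)), (1, .fail), (1, (.step [2, 20, 6, 15, 2, 20] .fail)), (1, .fail), (1, (.step [2, 12, 6, 15, 12, 6, 15, 3] .fail)), (1, (.step [0, 2, 20, 6, 15, 5, 6, 15, 12] .fail)), (1, (.step [0, 3, 12, 6, 20, 2, 15, 12, 6] (.step [4, 5, 22, 15, 8, 20] .fail))), (1, .fail), (1, (.step [0, 3, 12, 6, 20, 15, 11] .fail)), (1, (.step [2, 15, 21, 6, 15, 5, 4] (.step [4, 5, 15, 5, 6] .fail))), (1, (.step [0, 2, 20, 15, 12] .fail)), (1, (.step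 [0, 2, 20, 6, 15, 5, 12] .fail)), (1, (.step [3, 12, 3, 12, 6, 12, 15, 5] .fail)), (1, (.step [3, 12, 3, 6, 12, 15, 21, 2] .fail)), (1, (.step [2, 12, 12, 3] .fail)), (1, .fail), (1, (.step [2, 20, 2, 6, 15, 3] (.step [4, 22, 5, 11, 15, 22] .fail))), (1, .fail), (1, (.step [3, 12, 6, 15, 11, 15, 3, 5] .fail)), (1, (.step [2, 15, 21, 3, 6, 20, 15, 5, 6] .fail)), (1, .fail), (1, (.step [3, 12, 3, 6, 20, 15, 2] .fail)), (1, .fail), (1, (.step [2, 12, 6, 12, 2, 20, 2, 15] .fail)), (1, (.step [2, 12, 6, 21, 15, 8] .fail)), (1, (.step [3, 12, 6, 20, 15, 5, 12] .fail)), (1, (.step [0, 3, 20, 6, 15, 2, 21, 2] .fail)), (1, (.step [2, 20, 2, 6, 15, 5, 4] .fail)), (1, (.step [2, 20, 6, 15, 12, 12, 3, 6] .fail)), (1, .fail), (1, (.step [0, 2, 12, 6, 12, 12, 2] (.step [15, 22, 11, 11] (.step [6, 14, 17] (.step [5, 22] .fail))))), (1, (.step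 [0, 2, 20, 15, 5, 6, 20, 15] .fail)), (1, .fail), (1, (.step [2, 12, 20, 15, 11, 6] .fail)), (2, .fail), (1, (.step [0, 3] .fail)), (1, (.step [3, 20, 6, 15, 5, 4, 15] .fail)), (1, .fail), (1, (.step [2, 20, 6, 15, 21, 15, 20] .fail)), (1, (.step [0, 3, 20, 6, 15, 5, 8] (.step [12, 22, 11, 11] (.step [6, 5, 22] .fail)))), (1, (.step [2, 20, 15, 5, 6, 20, 15] (.step [15, 12, 12] (.step [16, 16, 20] (.step [5, 22, 23] .fail))))), (1, (.step [0, 2, 12] .fail)), (1, (.step [2, 15, 2, 11, 6, 11, 15] (.step [4, 8, 20] .fail))), (1, (.step [2, 20, 6, 15, 21, 15, 20] .fail)), (1, (.step [2, 20, 6, 15, 12, 12] (.step [4, 22, 11, 8, 7] .fail))), (1, (.step [0, 2, 20, 6, 15, 3, 21, 15] (.step [12, 22, 20, 15, 22] .fail))), (1, (.step [2, 15, 21, 3, 6, 15, 5] .fail)), (1, (.step [2, 12, 6, 20, 2, 15, 2] .fail)), (1, .fail), (1, (.step [2,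 15, 2, 12, 6] .fail)), (1, (.step [3, 12, 3, 6, 20, 15, 5] .fail)), (1, (.step [2, 15, 2, 12, 6, 12, 15, 5] .fail)), (1, (.step [0, 3, 12, 6, 20, 2, 12, 6, 15] .fail)), (1, (.step [3, 20, 6, 15, 2, 11, 11] .fail)), (1, (.step [0, 3, 20, 6, 15, 2, 11, 3, 4] .fail)), (1, (.step [0, 2, 20, 6, 15, 11, 11, 11, 2] (.step [4, 5, 22, 15, 12] .fail))), (1, .fail), (1, (.step [0, 2, 20, 6, 15, 12] .fail)), (1, (.step [2, 20, 6, 15, 3, 21, 2] .fail)), (1, (.step [2, 20, 15, 3, 21, 6] .fail)), (1, (.step [0, 3, 12, 6, 20, 2, 20, 15] .fail)), (1, (.step [3, 20, 6, 15, 2, 12] (.step [12, 12, 22] .fail))), (1, (.step [2, 12, 6, 15, 20, 2, 15, 3] .fail)), (1, (.step [0, 3, 20, 6, 15, 21, 2, 21] .fail)), (1, (.step [2, 20, 6, 15, 3, 21, 8, 15] .fail)), (1, (.step [2, 20, 2, 6, 15, 5, 4] .fail)), (1, (.step [2, 12, 6, 15, 20, 3, 15, 5, 20] .fail)),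 (1, (.step [2, 12, 6, 15, 20, 15, 3, 7] .fail)), (1, (.step [3, 20, 15, 2, 21, 6, 11] .fail)), (1, .fail), (1, (.step [2, 20, 6, 15, 3, 21, 2] (.step [15, 22, 20, 6, 15] .fail))), (1, (.step [0, 2, 20, 15, 5, 12] .fail)), (1, (.step [2, 20, 6, 15, 11, 11, 21, 3] .fail)), (1, (.step [3, 12, 3, 12, 6, 21, 15, 21] .fail)), (1, (.step [2, 20, 6, 15, 11, 11, 21, 3] (.step [11, 22, 11, 15, 22, 15] .fail))), (2, .fail), (1, (.step [2, 12, 6, 12, 3, 20, 2, 15] .fail)), (1, (.step [2, 15, 2, 11, 6, 11, 15, 8] .fail)), (1, (.step [2, 20, 6, 15, 5, 4, 21, 3] (.step [12, 22, 11, 11, 11] .fail))), (1, (.step [2, 20, 6, 15, 5, 15, 2, 12, 6] (.step [4, 8, 22, 4, 21, 6] .fail))), (1, (.step [0, 2, 12, 6, 20, 15, 21, 2] .fail)), (1, (.step [3, 12, 3, 6, 20, 15, 3, 7] .fail)), (1, .fail), (1, (.step [2, 15, 12, 3, 15] .fail)), (1, (.step [2, 20]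 .fail)), (1, (.step [2, 20, 2, 6, 15, 3, 21] .fail)), (1, (.step [3, 12, 3, 6, 12, 15, 3] .fail)), (1, (.step [2, 12, 6, 12, 3, 21] .fail)), (1, (.step [0, 3, 12, 6, 20, 15, 12, 15] .fail)), (1, (.step [0, 3, 20, 6, 15, 2, 11, 2] .fail)), (1, .fail), (1, (.step [2, 21, 15, 12, 6] .fail)), (1, .fail), (1, (.step [0, 3, 20, 6] .fail)), (1, (.step [0, 3, 12, 6, 21, 2] .fail)), (2, .fail), (1, (.step [2, 20, 15, 21, 6] .fail)), (1, (.step [0, 2, 12, 20, 15, 11, 6] .fail)), (1, (.step [2, 11, 15, 21, 6, 11, 15] .fail)), (4, .fail), (1, (.step [2, 12, 20, 15, 11, 6] .fail)), (1, (.step [2, 20, 6, 15, 3, 11, 2] (.step [4, 5, 15, 5, 6] (.step [7, 16, 20] (.step [5, 18, 22] .fail))))), (1, (.step [0, 3, 20, 6, 15, 20] .fail)), (1, (.step [2, 20, 6, 15, 21, 3, 21] .fail)), (1, (.step [0, 2, 20, 6, 15, 12, 12, 6] (.step [11, 22, 8] (.step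 [6, 5, 13] .fail)))), (1, (.step [3, 12, 6, 15, 5, 15] .fail)), (1, (.step [3] .fail)), (1, .fail), (1, (.step [3, 12, 6, 15, 11, 15, 3, 5] .fail)), (1, (.step [3, 12, 3, 12, 6, 12, 15, 2] .fail)), (1, (.step [2, 20, 2, 6, 11, 11, 15] .fail)), (1, .fail), (1, (.step [2, 20, 15, 3, 20] .fail)), (1, (.step [0, 2, 20, 15, 11, 6] (.step [11, 22, 11, 21, 15] .fail))), (1, (.step [2, 20, 6, 15, 2, 11, 2, 8] .fail)), (1, .fail), (1, (.step [2, 20, 6, 15, 12, 3, 20] .fail)), (1, (.step [0, 2, 12, 6, 20, 15, 21] .fail)), (1, (.step [2, 12, 6, 15, 20, 4, 3, 15] .fail)), (1, (.step [0, 3, 20, 6, 15, 21, 8] .fail)), (1, (.step [0, 2, 20, 6, 15, 11, 3, 15, 8] .fail)), (2, .fail), (1, (.step [3, 20, 15, 2, 21, 6, 11] .fail)), (1, (.step [2, 15, 21, 15] .fail)), (1, (.step [2, 20, 6, 15, 21, 15, 2, 20] (.step [4, 8, 20, 22] .fail))), (1, (.step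 [2, 12, 6, 12, 3, 20, 2, 15] .fail)), (1, (.step [0, 2, 15, 21, 3, 6, 12, 15, 21] .fail)), (1, .fail), (1, (.step [2, 20, 15, 20, 3, 6] .fail)), (1, (.step [2, 20, 6, 15, 3, 12, 15, 5] .fail)), (1, .fail), (1, (.step [2, 12, 6, 20, 7, 3, 15, 12, 15] .fail)), (1, (.step [0, 2, 20, 6, 15, 3, 21, 15] (.step [15, 5, 12, 22, 5] .fail))), (1, (.step [2, 12, 15, 20, 3, 6, 12, 15] .fail)), (1, .fail), (1, (.step [3, 12, 6, 21, 15] (.step [8, 22, 4] .fail))), (1, (.step [2, 15, 12, 15, 12, 6, 12] (.step [11, 11, 6] .fail))), (1, .fail), (1, (.step [0, 2, 20, 6, 15, 5, 6, 15] .fail)), (1, (.step [2, 20, 15, 20, 3, 6] (.step [11, 15, 22, 20] .fail))), (1, (.step [2, 20, 6, 15, 3, 11, 11, 15] .fail)), (1, (.step [0, 2, 20, 6, 15, 3] .fail)), (1, (.step [0, 3, 12, 15, 12, 6, 12, 15] .fail)), (1, (.step [2, 12, 6, 12, 3, 12, 15, 21] .fail)),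 (1, (.step [0, 2, 20, 6, 15, 11, 21] .fail)), (1, .fail), (1, (.step [2, 20, 2, 6, 15, 20, 4, 15] .fail)), (1, (.step [2, 20, 6, 15, 5, 15, 2, 12] .fail)), (1, .fail), (1, (.step [2, 20, 6, 15, 3, 4] .fail)), (1, (.step [2, 15, 12, 2, 6, 20, 15] (.step [8, 22, 15, 12] .fail))), (1, .fail), (1, (.step [2, 15, 21, 3, 12] .fail)), (1, (.step [2, 20, 6, 15, 20, 15, 3] .fail)), (1, (.step [2, 15, 21, 3, 4, 21] .fail)), (1, (.step [3, 20, 6, 15, 5, 15, 2] .fail)), (1, (.step [0, 2, 20, 6, 15, 20, 3] .fail)), (1, (.step [0, 2, 12, 6, 20, 15, 21, 3] .fail)), (1, (.step [2, 12, 6, 15, 12, 15, 3, 20, 6] .fail)), (1, (.step [2, 20, 6, 15, 20, 3, 15, 20] .fail)), (1, (.step [0, 3, 12, 15, 12, 6, 12, 3, 15] .fail)), (1, (.step [0, 2, 20, 6, 15, 12] .fail)), (1, (.step [2, 20, 6, 15, 3, 21, 8] .fail)), (1, (.step [2, 12, 6, 20, 15, 12] .fail)),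 (1, (.step [3, 20, 15, 2, 12, 6] .fail)), (1, (.step [3, 20, 6, 15, 20, 4] (.step [4, 22, 8, 21, 15] .fail))), (1, (.step [2, 20, 6, 15, 3, 21, 8, 15] .fail)), (1, (.step [0, 2, 20, 15, 21, 6] .fail)), (1, (.step [3, 12, 6, 15] .fail)), (1, (.step [3, 12, 6, 15, 5, 15] .fail)), (1, (.step [0, 2, 12, 6, 12, 3, 15] (.step [12, 22, 11, 8, 22] .fail))), (1, (.step [2, 15, 12, 2, 6, 15] .fail)), (1, (.step [2, 12, 6, 21, 15, 11, 3, 20] .fail)), (1, (.step [0, 3, 20, 6, 15, 5, 4, 15] (.step [11, 15, 22] (.step [6, 21, 22] (.step [21, 22] .fail))))), (1, .fail), (1, (.step [0, 2, 20, 2, 6, 15] (.step [4, 8, 22, 12, 12] (.step [16, 16, 5] .fail)))), (1, (.step [2, 12, 12, 6, 15, 11, 15] .fail)), (1, (.step [3, 20, 6, 15, 11, 2, 12] .fail)), (1, (.step [0, 3, 20, 6, 15, 2, 21, 2] .fail)), (1, (.step [3, 20, 6, 15, 8] .fail)), (1, (.step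 [3, 12, 3, 20, 15, 2] .fail)), (1, (.step [0, 3, 20, 6, 15] .fail)), (1, (.step [0, 2, 12, 6, 12, 12, 2] (.step [11, 15, 22, 20, 15] (.step [6, 13, 16, 16] (.step [19] .fail))))), (1, (.step [2, 20, 2, 6, 15, 12, 12] .fail)), (2, .fail), (1, (.step [2, 12, 6, 12, 12, 2, 15] .fail)), (1, (.step [2, 20, 6, 15, 8, 11, 3, 11] (.step [4, 5, 22, 8, 15] .fail))), (1, .fail), (1, (.step [2, 20, 6, 15, 12, 3, 12] .fail)), (1, (.step [3, 20, 6, 15, 3, 5] .fail)), (1, (.step [3, 12, 6, 20, 2] .fail)), (1, (.step [3, 12, 6, 20, 2, 15] (.step [12, 22, 21, 8] (.step [6, 17, 6] (.step [5, 18] .fail))))), (1, (.step [3, 12, 6, 15, 12, 15, 20, 3] .fail)), (1, (.step [2, 20, 2, 6, 15, 5, 15] .fail)), (1, (.step [2, 12, 6, 15, 20, 15, 3, 11] (.step [15, 5, 4, 20] (.step [6, 5, 17] .fail)))), (2, .fail), (1, (.step [2, 20, 2, 6, 11, 11, 15, 8] .fail)),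 (1, (.step [2, 15, 21, 3, 6, 20, 15] .fail)), (1, (.step [0, 3, 12, 15, 12, 6, 12, 15] (.step [12, 22, 4, 15] .fail))), (1, (.step [2, 15, 21, 2, 6, 21, 15] .fail)), (1, .fail), (1, (.step [2, 12, 6, 12, 3, 20, 15] .fail)), (1, (.step [0, 2, 20, 15, 21] .fail)), (1, .fail), (1, (.step [3, 12, 6, 20, 15, 3, 21, 4] .fail)), (1, (.step [2, 20, 6, 15, 3, 8, 11, 2] .fail)), (1, .fail), (1, (.step [0, 2, 12, 6, 20, 7, 3, 15, 12] .fail)), (1, (.step [0, 2, 15, 12, 6, 15, 21, 8] .fail)), (1, (.step [0, 3, 12, 6, 21, 15, 11, 3] .fail)), (1, (.step [0, 2, 12, 6, 20, 15, 5, 12] (.step [4, 5, 15, 5] .fail))), (1, .fail), (1, (.step [2, 20, 6, 15, 3, 21, 3, 7] .fail)), (1, (.step [2, 12, 6, 15, 12, 6, 15] .fail)), (1, (.step [] .fail)), (1, (.step [0, 2, 20, 6, 15, 3, 21, 15, 8] .fail)), (1, (.step [3, 12, 3, 12, 6, 21, 15] .fail)), (1, (.step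 [2, 20, 2, 6, 15, 20, 15, 2] .fail)), (1, (.step [2, 12, 6, 20, 7, 3, 15] .fail)), (1, (.step [2, 12, 6, 15, 12, 15, 3, 20] .fail)), (1, (.step [2, 20, 6, 15, 3, 4, 21] .fail)), (1, (.step [2, 15, 2, 21, 2, 6] .fail)), (1, (.step [2, 20, 2, 6, 20] .fail)), (1, (.step [2, 20, 6, 15, 5, 15, 2, 12] .fail)), (1, (.step [2, 20, 6, 15, 20, 15, 2] .fail)), (1, .fail), (1, (.step [3, 12, 6, 20, 15, 12, 12] .fail)), (1, (.step [3, 12, 3, 12, 6, 12, 15, 2] .fail)), (1, .fail), (1, (.step [0, 2, 12, 12, 6, 15, 21, 15] .fail)), (1, (.step [3, 20, 6, 15, 21, 2, 21] .fail)), (1, (.step [2, 20, 6, 15, 21, 3, 8] .fail)), (1, (.step [2, 20, 6, 15, 11, 3, 4, 11] .fail)), (2, .fail), (1, (.step [2, 12, 6, 12, 3, 20, 2, 15] .fail)), (1, (.step [2, 12, 12, 3, 12, 3, 6] (.step [4, 11, 6] .fail))), (1, (.step [2, 12, 6, 12, 3, 20, 15] .fail)), (1, (.step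 [0, 2, 20, 6, 15, 21, 4, 15] .fail)), (1, (.step [3, 20, 6, 15, 11, 3, 11, 11] .fail)), (1, (.step [0, 2, 12, 6, 20, 3, 15, 3] .fail)), (1, (.step [2, 20, 6, 15, 5, 4, 21, 3] (.step [12, 22, 11, 11, 11] .fail))), (1, (.step [0, 3, 20, 6, 15, 21, 11, 15, 2] .fail)), (1, (.step [0, 2, 20, 6, 15, 3, 11] .fail)), (1, (.step [2, 15, 2, 21, 2, 6, 11, 15] .fail)), (1, (.step [2, 15, 2, 11, 6, 11, 15] .fail)), (1, (.step [3, 12, 3, 12, 6, 21, 15, 21] .fail)), (1, (.step [2, 20, 6, 15, 11, 11, 21, 3] (.step [15, 22, 21, 8] .fail))), (1, (.step [2, 20, 6, 15, 21, 15, 2, 11] .fail)), (1, (.step [3, 12, 3, 12, 6, 21, 15, 21] .fail)), (1, .fail), (1, (.step [0, 2, 12, 6, 20, 15, 2, 20] .fail)), (1, (.step [2, 20, 6, 15, 21, 3, 8, 20, 6] .fail)), (1, (.step [0, 2, 20, 15, 5, 6, 20, 15] (.step [4, 5, 22, 15, 8, 20] .fail))), (1, .fail), (1,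 (.step [2, 12, 6, 20, 15, 12, 6] (.step [4, 22, 11, 8, 7] .fail))), (1, (.step [3, 12, 3, 6, 12, 15] .fail)), (1, (.step [3, 12, 3, 6, 12, 15, 11, 21] (.step [8, 22, 15, 21, 22] .fail))), (1, (.step [0, 3, 12, 6, 15, 12, 15, 3, 12] .fail)), (1, (.step [0, 2, 20, 15, 11] .fail)), (1, .fail), (1, (.step [2, 20, 15, 3, 8] .fail)), (1, (.step [2, 12, 6, 12, 12, 2, 15] .fail)), (1, (.step [2, 12, 6, 20, 15, 2, 20, 12] (.step [4, 5, 22, 4, 15, 5] .fail))), (1, (.step [3, 12, 3, 6, 20, 15, 3, 8] (.step [4, 22, 5, 8] .fail))), (1, (.step [0, 2, 12, 12, 6, 15, 21, 15] (.step [15, 11, 22, 5, 15] .fail))), (1, (.step [2, 15, 21, 3, 6, 20, 15] (.step [4, 11, 4] .fail))), (1, (.step [2, 12, 6, 20, 15, 12] .fail)), (1, (.step [0, 2, 20, 6, 15, 3, 11, 8] .fail)), (1, (.step [3, 12, 6, 20, 15, 3, 21, 4] .fail)), (1, (.step [2, 12, 15, 20, 6]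 .fail)), (1, (.step [2, 20, 2, 6, 11, 11, 15] .fail)), (1, (.step [2, 20, 6, 15, 21, 8] (.step [4, 5, 22, 5, 15] .fail))), (1, (.step [0, 3, 12, 6, 20, 15, 3] (.step [15, 22, 4] .fail))), (1, (.step [0, 3, 12, 6, 20, 2] (.step [4, 8, 20, 22, 15] (.step [7, 17, 17, 14] (.step [19] .fail))))), (1, (.step [2, 11, 15, 21, 6, 11, 15, 8] .fail)), (1, (.step [3, 12, 15, 12, 6, 11] .fail)), (1, .fail), (1, (.step [2, 15, 12, 2, 6, 15, 5] (.step [4, 21, 4, 22, 8] (.step [7, 17, 17, 14] (.step [5] .fail))))), (1, (.step [0, 3, 20, 6, 15, 20, 4] .fail)), (1, .fail), (1, (.step [3, 20, 6, 15, 8] .fail)), (2, .fail), (1, (.step [3, 20, 6, 15, 8] .fail)), (1, (.step [0, 2, 15, 12, 6, 15, 12] (.step [4, 22, 11, 15] (.step [6, 5, 7] (.step [] .fail))))), (1, .fail), (1, (.step [2, 20, 15, 12, 6, 12] (.step [11, 22, 12, 15] (.step [] .fail)))),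 (1, (.step [2, 15, 12, 6, 15, 12, 12] .fail)), (1, (.step [2, 20, 2, 6] (.step [4, 8, 22, 11, 20] (.step [6, 5, 7] .fail)))), (1, (.step [2, 21, 15, 5, 6, 12] .fail)), (1, (.step [2, 20, 2, 6, 15] .fail)), (1, (.step [2, 12, 12, 3, 6, 21] .fail)), (1, (.step [3, 20, 6, 15, 5, 15] .fail)), (1, .fail), (1, (.step [2, 12, 20, 15, 11, 6] .fail)), (1, (.step [0, 2, 20, 6, 15, 3, 21, 15, 21] .fail)), (1, (.step [2, 20, 6, 15, 3, 11, 2] (.step [4, 5, 15, 5, 6] (.step [7, 16, 20] (.step [5, 18, 22] .fail))))), (1, (.step [3, 12, 6, 20, 2, 15] .fail)), (1, (.step [2, 21, 15, 5, 6, 12] .fail)), (1, .fail), (1, (.step [2, 20, 2, 6, 15, 12, 12] (.step [4, 22, 15] (.step [13, 17] .fail)))), (1, (.step [0, 2, 20, 6, 15, 21, 15, 21] .fail)), (4, .fail), (1, (.step [2, 12, 6, 21, 15, 20] .fail)), (1, (.step [2, 20, 2, 6, 15, 5] (.step [4, 22,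 12, 7, 12] (.step [7, 16] (.step [21] .fail))))), (1, (.step [0, 3, 20, 6, 15, 5] (.step [12, 22, 11, 11] (.step [16, 13, 6] .fail)))), (1, (.step [2, 12, 6, 12, 3, 20, 2, 15] (.step [4, 5, 15, 21, 11] .fail))), (1, (.step [2, 20, 6, 15, 3, 21, 6] .fail)), (1, (.step [2, 15, 2, 11, 6, 11, 2] .fail)), (1, (.step [3, 20, 6, 15, 3] .fail)), (1, .fail), (1, (.step [3, 12, 3, 6, 12, 15, 12, 3] .fail)), (1, (.step [2, 12, 6, 21, 3, 11, 3, 15] .fail)), (1, (.step [2, 15, 12, 15, 2] .fail)), (1, (.step [0, 2, 12, 6, 20, 15, 12, 6] .fail)), (1, (.step [2, 12, 15, 12, 6, 12, 12, 15] .fail)), (1, (.step [3, 12, 3, 12, 6, 12, 15, 2] .fail)), (1, .fail), (1, (.step [2, 20, 6, 15, 5, 15, 2, 12, 6] (.step [4, 8, 22, 4, 21] .fail))), (1, (.step [2, 12, 6, 20, 3, 20] .fail)), (1, (.step [2, 15, 2, 12, 6, 12, 15, 8] .fail)), (1, (.step [3, 20,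 6, 15, 20, 12] (.step [4, 21, 15, 22] .fail))), (1, (.step [0, 3, 20, 15, 8] (.step [11, 22, 4, 11, 15] .fail))), (2, .fail), (1, (.step [2, 12, 6, 20, 15, 2, 12] (.step [4, 5, 22, 4, 15, 5] .fail))), (1, (.step [2, 12, 6, 20, 15, 5, 4, 3] (.step [4, 5, 22, 11, 11] .fail))), (1, (.step [2, 20, 6, 15, 21, 4, 3, 7] .fail)), (1, (.step [0, 2, 12, 6, 20, 15, 2] .fail)), (1, (.step [2, 12, 6, 20, 3, 15, 3] .fail)), (1, (.step [2, 15, 2, 11, 6, 11, 15, 8] .fail)), (1, (.step [2, 15, 12, 6, 15, 5, 4, 3] (.step [15, 22, 11, 22] .fail))), (1, (.step [2, 12, 6, 20, 15, 21, 2, 12] .fail)), (1, (.step [2, 20, 2, 6, 20, 15] .fail)), (1, (.step [0, 2, 20, 6, 15, 21, 15, 3, 7] .fail)), (1, (.step [2, 12, 6, 20, 15, 12, 2, 15] .fail)), (1, .fail), (1, (.step [3, 12, 3, 20, 6, 11, 3] .fail)), (1, (.step [0, 2, 20, 6, 15, 20, 15, 20, 6] (.step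 [4, 22, 8, 11] .fail))), (1, (.step [2, 15, 2, 12] .fail)), (1, (.step [0, 3, 12, 6, 15, 12] .fail)), (1, (.step [3, 20, 6, 15, 5, 15, 3, 12] .fail)), (1, (.step [2, 12, 6, 15, 12, 6, 15, 2] .fail)), (1, (.step [3, 20, 6, 15, 21, 15, 3, 21] .fail)), (1, .fail), (1, (.step [0, 2, 20, 15, 12] .fail)), (1, (.step [2, 12, 6, 20, 15] .fail)), (1, (.step [2, 20, 6, 15, 3, 5] .fail)), (1, (.step [2, 15, 12, 2, 6, 20, 15, 3] (.step [8, 22, 15, 12] .fail))), (1, (.step [0, 3, 12, 6, 15, 21, 15, 3] (.step [4, 15, 22, 11, 20] .fail))), (1, (.step [2, 12, 6, 21, 15, 8] .fail)), (2, (.step [2, 15, 2, 21, 3, 6, 7] .fail)), (1, (.step [2, 12, 6, 12, 3, 20, 3, 15] .fail)), (1, (.step [2, 15, 12, 6, 15, 21, 2, 11] .fail)), (1, (.step [3, 20, 6, 15, 11, 3, 4, 11] (.step [4, 12, 22, 15] .fail))), (1, (.step [3, 20, 6, 15, 8, 11, 15] .fail)), (1,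 .fail), (1, (.step [2, 20, 15, 3, 4] (.step [4, 22, 12, 7, 12] .fail))), (1, (.step [0, 3, 20, 6, 15, 2, 11, 2] (.step [15, 22, 5, 12] .fail))), (1, (.step [3, 12, 6, 20, 15, 8] (.step [4, 5, 15, 11] .fail))), (1, (.step [2, 15, 21, 3, 6, 15, 5] .fail)), (1, (.step [2, 12, 15, 12, 3, 6, 12] .fail)), (1, (.step [2, 12, 6, 12, 3, 20, 15, 3] .fail)), (1, (.step [2, 20, 6, 15, 11, 2, 11] .fail)), (1, (.step [2, 12, 6, 20, 3, 15, 3] .fail)), (1, (.step [2, 12, 6, 20, 7, 3, 15, 5] .fail)), (1, (.step [2, 12, 6, 20, 15, 3, 5, 21] .fail)), (1, .fail), (1, (.step [2, 15, 2, 11, 6, 11] .fail)), (1, (.step [0, 2, 20, 6, 15, 12, 3] .fail)), (1, (.step [2, 20, 2, 6, 20, 15, 2] .fail)), (1, (.step [3, 12, 6, 21, 15] (.step [8, 11, 22, 21] .fail))), (1, (.step [0, 2, 20, 6, 15, 20, 4, 12] .fail)), (1, (.step [2, 20, 6, 15, 3, 11, 11, 15] .fail)),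 (1, (.step [0, 2, 20, 6, 15, 11, 3, 4, 11] .fail)), (1, (.step [2, 20, 2, 6, 15, 20, 15, 2] .fail)), (1, (.step [3, 12, 6, 20, 15, 2] .fail)), (1, (.step [2, 12, 6, 20, 15, 5, 12] .fail)), (1, .fail), (1, (.step [3, 20, 6, 15, 2, 21, 8] .fail)), (1, (.step [0, 2, 20, 6, 15, 11, 11, 2, 21] .fail)), (1, .fail), (1, (.step [2, 20, 6, 15, 11, 3, 11, 11] (.step [4, 15, 22, 4] .fail))), (1, (.step [2, 20, 2, 6, 15, 3, 5, 12] .fail)), (1, (.step [3, 20, 6, 15, 2, 21] .fail)), (1, (.step [2, 12, 6, 20, 2, 7] .fail)), (1, (.step [2, 20, 6, 15, 11, 15, 11] .fail)), (1, (.step [0, 2, 20, 15, 21, 6] (.step [15, 5, 6, 22] .fail))), (1, (.step [2, 20, 6, 15, 21, 3, 21] .fail)), (1, (.step [2, 12, 12, 3, 6, 21, 3, 15] .fail)), (1, (.step [2, 15, 21, 3, 20, 6] .fail)), (1, (.step [2, 20, 6, 15, 3, 4, 21] .fail)), (1, (.step [2, 12, 6, 20, 3,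 15, 12, 3, 12] .fail)), (1, (.step [2, 12, 6, 12, 2, 20, 2, 15] .fail)), (1, (.step [2, 12, 6, 20, 15, 5, 12] .fail)), (1, (.step [2, 15, 2, 11, 6] .fail)), (1, (.step [2, 12, 6, 20, 7, 3, 15, 5] .fail)), (1, (.step [2, 15, 21, 6, 15, 11, 11, 3] .fail)), (1, (.step [0, 2, 20, 6, 15, 11, 2, 20] .fail)), (1, (.step [2, 15, 2, 21, 3, 6] .fail)), (1, (.step [2, 12, 12, 15, 20, 3, 6] .fail)), (1, .fail), (1, (.step [0, 2, 15, 12, 6, 15, 12, 12] (.step [4, 22, 11, 8] (.step [17, 5, 6, 20] (.step [19, 21] .fail))))), (1, (.step [2, 15, 12, 15, 12, 6] (.step [4, 8, 22, 21, 4] (.step [7, 16, 20] (.step [5] .fail))))), (1, (.step [0, 2, 15, 12, 6, 15, 12] (.step [4, 8, 22, 21, 7] (.step [6, 5, 17] (.step [19, 22] .fail))))), (1, .fail), (1, (.step [2, 20, 2, 6, 15, 5, 4] .fail)), (2, .fail), (1, (.step [2, 12, 12, 6, 15, 11, 15] .fail)),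 (1, (.step [0, 3, 20, 6, 15, 20] .fail)), (1, .fail), (1, (.step [0, 3, 20, 6, 15, 5, 4, 3] (.step [15, 21, 22] (.step [6, 5, 7, 16] .fail)))), (1, (.step [2, 12, 6, 12, 2] .fail)), (1, (.step [3, 20, 6, 15, 11, 2, 12] .fail)), (2, .fail), (1, (.step [2, 12, 6, 12, 2, 12, 6] (.step [11, 15, 22, 12] .fail))), (1, (.step [0, 3, 20, 6, 15, 5, 8] .fail)), (1, (.step [2, 15, 12, 2, 6] (.step [4, 22, 5, 11] (.step [6, 21, 22] (.step [19, 5] .fail))))), (1, (.step [0, 2, 20, 6, 15, 12, 12, 6] (.step [11, 22, 8] (.step [17, 5, 20] .fail)))), (1, (.step [2, 15, 21, 2, 6] (.step [4, 8, 22, 11, 6, 8] (.step [16, 7, 22] (.step [5, 19, 5] .fail))))), (1, (.step [2, 12, 6, 12, 2, 12, 15, 20] .fail)), (2, .fail), (1, (.step [2, 12, 6, 12, 12, 2] .fail)), (1, (.step [0, 3, 20, 6, 15, 11, 3, 12] (.step [8, 22, 20, 12] .fail))), (1, (.step [0,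 3, 12, 6, 20, 2, 15, 5] .fail)), (1, (.step [3, 20, 6, 15, 5, 15, 3] .fail)), (1, (.step [0, 3, 20, 6, 15, 8] .fail)), (1, (.step [3, 12, 6, 15, 21, 2, 15] .fail)), (1, .fail), (1, (.step [2, 15, 2] (.step [4, 12, 22, 5] .fail))), (1, (.step [0, 2, 12, 6, 20, 7] .fail)), (1, (.step [2, 15, 12, 6, 15, 12] .fail)), (1, (.step [2, 12, 20, 15, 11, 6] (.step [8, 22, 20, 15, 5] .fail))), (1, .fail), (1, (.step [0, 3, 20, 6, 15, 5, 4] (.step [12, 22, 11, 11] (.step [6, 5, 22] .fail)))), (1, (.step [0, 2, 20, 6, 15, 21, 11, 2] (.step [4, 15, 22, 21] .fail))), (1, (.step [2, 20, 6, 15, 11, 15, 21] (.step [15, 5, 4, 20] (.step [6, 21, 22] (.step [19, 5] .fail))))), (1, (.step [0, 2, 20, 15, 11, 3, 6] .fail)), (2, .fail), (1, (.step [2, 20, 6, 15, 3, 5] .fail)), (1, .fail), (1, (.step [0, 2, 20, 6, 15, 12, 12, 6] (.step [11, 22, 4] .fail))),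 (1, (.step [0, 2, 20, 6, 15, 21, 6, 15] .fail)), (1, (.step [2, 12, 6, 20, 7, 3, 15, 12] (.step [8, 22, 5, 15] .fail))), (1, .fail), (1, (.step [2, 12, 6, 12, 12, 15, 2] (.step [4, 22, 11, 22] .fail))), (1, (.step [2, 20, 6, 15, 21, 2, 12] .fail)), (1, (.step [2, 15, 2, 12, 6] .fail)), (1, (.step [2, 12, 6, 12, 12, 2, 15, 21] .fail)), (1, .fail), (1, (.step [2, 12, 6, 15, 20, 3, 15, 21] .fail)), (1, (.step [2, 12, 6, 20, 15, 2, 20, 6] .fail)), (1, (.step [2, 20, 6, 15, 3, 4, 21] .fail)), (1, (.step [2, 12, 6, 12, 12, 3, 12] .fail)), (1, (.step [0, 2, 20, 6, 15, 3, 11, 2] .fail)), (1, (.step [0, 3, 12, 6, 15, 12, 12] .fail)), (1, (.step [0, 2, 20, 15, 12, 6] .fail)), (1, (.step [2, 12, 6, 20, 3, 15, 11, 2] .fail)), (1, (.step [2, 12, 6, 20, 3, 15, 3, 12] .fail)), (1, .fail), (1, (.step [2, 15, 21, 6, 15, 21, 3, 7] .fail)), (1,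 (.step [2, 12, 15, 20, 6, 15] .fail)), (1, (.step [3, 20, 6, 15, 5, 15] .fail)), (1, (.step [0, 3, 20, 6, 15, 11, 2, 11] .fail)), (1, (.step [0, 2, 15, 21, 6, 15, 21, 15, 2] .fail)), (1, (.step [2, 20, 6, 15, 11, 15, 11] .fail)), (1, (.step [0, 2, 12, 6, 20, 15, 3, 11] .fail)), (1, (.step [0, 2, 20, 6, 15, 11, 3, 15] .fail)), (1, (.step [2, 12, 6, 15, 12, 15, 2] .fail)), (1, (.step [0, 2, 15, 21, 3, 6, 12, 15, 21] .fail)), (1, (.step [3, 12, 6, 20, 2, 15, 2] .fail)), (1, .fail), (1, (.step [3, 12, 3, 6, 20, 15, 2, 8] .fail)), (1, (.step [0, 2, 15, 2, 12, 6] .fail)), (1, .fail), (1, (.step [2, 12, 6, 20, 15, 2, 5, 12] .fail)), (1, (.step [0, 3, 20, 6, 15, 8, 11, 15] .fail)), (1, .fail), (1, (.step [2, 12, 6, 15, 20, 2, 15] .fail)), (1, (.step [2, 20, 2, 6, 15] (.step [4, 22, 5, 11, 15, 22] .fail))), (1, (.step [0, 3, 12, 6, 20,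 2, 15] .fail)), (1, (.step [2, 12, 6, 21, 15, 8, 11, 3] .fail)), (1, (.step [2, 20, 6, 15, 3, 5, 4] .fail)), (1, (.step [2, 20, 6, 15, 20, 3, 15, 20] .fail)), (1, (.step [0, 2, 15, 12, 6, 15, 5] .fail)), (1, (.step [2, 12, 6, 20, 15, 21] .fail)), (1, (.step [2, 20, 6, 15, 3, 21, 6, 11] .fail)), (1, (.step [2, 15, 2, 21] .fail)), (1, (.step [0, 2, 15, 21, 6, 15, 11, 2] .fail)), (1, (.step [2, 12, 6, 20, 7, 3, 15] .fail)), (1, (.step [2, 15, 2, 21, 6, 11, 2, 15] .fail)), (1, (.step [3, 12, 3, 6, 12, 15, 21, 2] .fail)), (1, (.step [2, 12, 6, 20, 15, 3, 5, 20] .fail)), (1, .fail), (1, (.step [2, 12, 20, 15, 3] .fail)), (1, (.step [2, 20, 2, 6, 15, 3, 12] .fail)), (1, (.step [2, 20, 15, 20, 6, 11, 2, 15] .fail)), (1, (.step [0, 2, 20, 6, 15, 3, 11] (.step [12, 22, 12, 22, 15] .fail))), (1, .fail), (1, (.step [2, 15, 21, 3, 20, 6, 11,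 15] .fail)), (1, (.step [2, 15, 21, 3, 6, 7] .fail)), (1, (.step [0, 3, 12, 6, 20, 15, 12, 15] .fail)), (1, (.step [3, 12, 6, 21, 15, 8] (.step [8, 22, 4] .fail))), (1, (.step [3, 12, 3, 6, 20, 3, 15] .fail)), (1, (.step [3, 12, 6, 15, 12, 15, 2, 20] .fail)), (1, (.step [3, 12, 3, 12, 3, 6, 15] .fail)), (1, (.step [2, 12, 6, 21, 15, 5, 15, 2] (.step [12, 22, 4, 5] .fail))), (1, (.step [3, 12, 3, 6, 12, 15, 3, 20, 3] (.step [11] .fail))), (1, (.step [2, 12, 12, 6, 15] (.step [4, 22, 8, 11] .fail))), (1, (.step [2, 20, 6, 15, 3, 21, 6, 11] .fail)), (1, (.step [0, 2, 20, 6, 15, 12, 3] .fail)), (1, .fail), (1, (.step [0, 2, 12, 6, 20, 15, 3, 5, 12] .fail)), (1, (.step [2, 20, 2, 6, 20] .fail)), (1, (.step [2, 20, 6, 15, 3, 4] .fail)), (1, (.step [2, 15, 21, 6, 15, 2] .fail)), (1, (.step [2, 20, 6, 15, 21, 15, 2, 21] (.step [11, 22,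 4, 15] .fail))), (1, (.step [2, 12, 6, 20, 15, 21, 2, 6] .fail)), (1, (.step [2, 20, 6, 15, 21, 11, 2, 21] .fail)), (1, (.step [2, 20, 15, 12, 3] (.step [11, 15, 22, 15, 12] .fail))), (1, (.step [3, 20, 6, 15, 3] .fail)), (1, (.step [2, 11, 15, 21, 6, 11, 15, 8] .fail)), (1, (.step [2, 20, 6, 15, 21, 3, 11] .fail)), (1, (.step [0, 3, 12, 15, 12, 6, 11, 15] .fail)), (1, (.step [3, 12, 6, 20, 15, 8, 11, 3] .fail)), (1, (.step [2, 15, 2, 21, 3, 6] .fail)), (1, (.step [0, 2, 20, 6, 15, 21, 2, 12] .fail)), (1, (.step [3, 12, 6, 15, 21, 2, 15] .fail)), (1, (.step [3, 12, 6, 20, 15] (.step [4, 5, 15, 11] .fail))), (1, .fail), (1, (.step [0, 2, 20, 6, 15, 5, 15] .fail)), (1, (.step [2, 20, 6, 15, 3, 11, 15, 20] (.step [4, 8, 22, 11, 8, 11] .fail))), (1, (.step [2, 12, 6, 15, 12, 15, 3, 20] .fail)), (1, (.step [2, 12, 6, 12, 12, 2] .fail)),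 (1, (.step [0, 2, 20, 6, 15, 5, 6, 15, 2] .fail)), (1, (.step [3, 12, 6, 20, 2, 15, 5] .fail)), (1, (.step [2, 15, 12, 6, 15, 12] (.step [4, 22] .fail))), (1, (.step [3, 20, 6, 15, 20, 12, 12] (.step [15, 22, 11, 6] .fail))), (1, (.step [3, 12, 6, 15, 5, 20, 2] .fail)), (1, (.step [0, 2, 20, 6, 15, 20, 12, 6] .fail)), (1, (.step [2, 20, 2, 6, 15, 20, 15, 3] .fail)), (1, .fail), (1, (.step [2, 12, 6, 20, 15, 12, 5] .fail)), (1, .fail), (1, (.step [2, 15, 2, 12, 6, 12, 3, 15] (.step [4, 8, 22, 15] .fail))), (1, (.step [3, 12, 6, 20, 15, 3, 5, 20] .fail)), (1, (.step [3, 12, 6, 20, 2, 15, 2] .fail)), (1, (.step [3, 12, 6, 21, 15, 8] .fail)), (1, (.step [2, 15, 12, 6, 15, 21, 3, 8, 20] .fail)), (1, (.step [2, 15, 2, 21, 6, 11, 3, 15] .fail)), (1, (.step [2, 12, 6, 20, 15, 12, 12, 3, 21] .fail)), (1, (.step [0, 3, 11, 15, 11, 6] .fail)),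 (1, (.step [2, 12, 6, 15, 20, 3, 4] .fail)), (1, (.step [2, 20, 2, 6, 15] .fail)), (1, .fail), (1, (.step [3, 20, 6, 15, 5, 8] (.step [4, 15, 22, 11] .fail))), (3, .fail), (1, (.step [2, 20, 2] (.step [4, 5, 8] .fail))), (1, (.step [3, 12, 6, 20, 2, 15] .fail)), (1, .fail), (1, (.step [2, 20, 6, 15, 12, 12, 3, 6] .fail)), (1, (.step [2, 15, 12, 6, 15, 12] .fail)), (2, .fail), (1, (.step [2, 12, 6, 15, 20, 15, 2, 11] (.step [15, 22, 20, 6] (.step [6, 21, 22] .fail)))), (1, (.step [2, 12, 6, 21, 15, 20, 4] (.step [11, 11, 22, 4] (.step [7, 17, 22] (.step [19, 21] .fail))))), (1, (.step [3, 20, 6, 15, 3, 20] (.step [12, 12, 6, 20] (.step [16, 16, 5] .fail)))), (1, (.step [2, 12, 6, 20, 3, 15, 3, 8] .fail)), (1, (.step [2, 20, 15, 12, 6, 12] (.step [11, 22, 12, 15] (.step [] .fail)))), (1, (.step [0, 3, 20, 6, 15, 3] (.step [15, 11,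 22, 20] .fail))), (1, (.step [2, 15, 12, 6, 15, 21, 2, 12] (.step [4, 15, 5, 6, 22] .fail))), (1, (.step [0, 3, 20, 6, 15, 8] .fail)), (1, (.step [2, 12, 6, 15, 12, 15, 2, 5] .fail)), (1, (.step [0, 3, 20, 6, 15, 3, 20] .fail)), (1, .fail), (1, (.step [0, 3, 12, 6, 15] .fail)), (1, (.step [2, 15, 2, 11, 6, 11] .fail)), (1, (.step [2, 20, 6, 15, 3, 11, 2] .fail)), (1, .fail), (1, (.step [2, 20, 6, 15, 12, 3, 12] .fail)), (1, (.step [0, 2, 20, 6, 15, 3, 11, 2] (.step [15, 21, 22, 5] (.step [13, 16] .fail)))), (1, (.step [2, 15, 21, 15, 11, 6] (.step [8, 22, 20, 15, 5] .fail))), (1, .fail), (1, (.step [0, 2, 20, 6, 15, 3, 21, 15, 8] (.step [4, 15, 22, 5, 4] .fail))), (1, (.step [0, 3, 20, 6, 15, 3] (.step [11, 15, 22] (.step [13, 16] (.step [5, 21] .fail))))), (1, (.step [0, 3, 20, 6, 15, 20, 15, 20, 6] .fail)), (1, (.step [2, 12,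 6, 20, 15, 2, 11, 2] .fail)), (1, (.step [0, 2, 20, 6, 15, 5, 20, 3, 15] (.step [12, 22, 4, 5] .fail))), (1, (.step [2, 15, 2, 12, 6, 20, 15, 5] .fail)), (2, .fail), (1, (.step [0, 3, 20, 6, 15, 5, 15] .fail)), (1, (.step [0, 3, 20, 6, 15, 11, 8, 11] .fail)), (1, (.step [0, 3, 20, 15, 20, 6] .fail)), (1, .fail), (1, (.step [2, 12, 6, 12, 3, 20, 3, 15] .fail)), (1, (.step [2, 12, 6, 20, 15, 21, 6] .fail)), (1, (.step [2, 20, 6, 15, 2] .fail)), (1, (.step [2, 12, 6, 15, 20, 2, 4, 15, 21] .fail)), (1, (.step [2, 12, 6, 20, 7, 15] .fail)), (1, .fail), (1, (.step [2, 15, 12, 6, 15, 11] (.step [11, 22, 4, 11] .fail))), (1, .fail), (1, (.step [2, 12, 6, 21, 15, 2] .fail)), (1, (.step [0, 3, 20, 15, 20, 6, 11, 3] (.step [8, 22, 21, 22] .fail))), (1, (.step [2, 20, 6, 15, 20, 15, 20, 6] .fail)), (1, .fail), (1, (.step [3, 12, 6, 15, 5,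 12, 15] .fail)), (1, (.step [0, 3, 20, 15, 11, 6] .fail)), (1, (.step [2, 15, 21, 6, 15, 21, 3, 4] .fail)), (2, .fail), (1, (.step [2, 20, 15, 11, 6, 20, 4] (.step [15, 22, 8, 15] .fail))), (1, .fail), (1, (.step [2, 12, 6, 20, 15, 12, 6] .fail)), (1, (.step [0, 3, 20, 6, 15, 11, 11, 3, 20] .fail)), (1, (.step [2, 15, 21, 3, 6, 20, 15, 5] .fail)), (1, .fail), (1, (.step [2, 12, 6, 12, 3, 20, 2, 15, 21] .fail)), (1, (.step [0, 2, 20, 6, 15, 5, 15, 2] .fail)), (1, (.step [0, 2, 15, 12, 6, 15, 21, 3] .fail)), (1, (.step [2, 20, 6, 15, 3, 5, 4, 20] .fail)), (1, (.step [0, 2, 20, 6, 15, 11, 11, 2, 20] .fail)), (1, (.step [3, 12, 6, 20, 15, 5, 12] .fail)), (1, .fail), (1, (.step [2, 20, 6, 15, 21, 3, 7] (.step [15, 5, 22, 12] .fail))), (1, (.step [0, 2, 12, 6, 20, 15, 2, 12] .fail)), (1, (.step [2, 20, 15, 12, 6, 21] (.step [15, 5,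 6, 12] .fail))), (1, (.step [2, 12, 6, 21, 15, 5, 15, 3] .fail)), (1, (.step [2, 12, 6, 15, 20, 3, 7, 15] .fail)), (1, .fail), (1, (.step [2, 12, 12, 6, 15, 11, 2] .fail)), (1, (.step [0, 2, 20, 6, 15, 3, 21, 11, 3] .fail)), (1, (.step [0, 2, 12, 6, 20, 15, 21, 2, 8] .fail)), (1, (.step [2, 12, 6, 20, 2, 15, 2, 12] .fail)), (1, .fail), (1, (.step [2, 20, 6, 15, 20, 15, 2] .fail)), (1, (.step [3, 11, 15, 11, 6] .fail)), (1, .fail), (1, (.step [2, 20, 6, 15, 5, 15, 2] .fail)), (1, .fail), (1, (.step [2, 20, 6, 15, 11, 11, 3, 21] .fail)), (1, (.step [2, 12, 12, 3, 6, 21, 3, 15] .fail)), (1, (.step [3, 12, 3, 20, 6, 11] .fail)), (1, (.step [2, 20, 6, 15, 2, 21, 3] .fail)), (1, (.step [2, 12, 6, 12, 3, 21] .fail)), (1, (.step [2, 12, 6, 20, 2, 20, 15, 3] .fail)), (1, (.step [2, 20, 6, 15, 21, 3, 12, 12] .fail)), (1, (.step [2, 20,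 6, 15, 11, 15, 21] .fail)), (1, .fail), (1, (.step [2, 15, 21, 6, 15, 21, 3] .fail)), (1, (.step [2, 20, 6, 15, 20, 15, 2] .fail)), (1, (.step [3, 12, 3, 6, 12, 15] .fail)), (1, (.step [2, 12, 6, 15, 12, 3, 15, 20] .fail)), (1, (.step [2, 12, 6, 21, 15, 2, 11, 2] (.step [11, 11, 11, 22, 11] .fail))), (1, (.step [2, 15, 12, 6, 15, 11, 3, 7] .fail)), (1, .fail), (1, (.step [3, 12, 3, 12, 3, 6, 15] .fail)), (1, (.step [3, 12, 3, 6, 20, 15, 3, 7] .fail)), (1, (.step [0, 2, 12, 12, 6, 15] .fail)), (1, (.step [3, 12, 3, 6, 12, 15, 8] .fail)), (1, (.step [2, 12, 6, 20, 7, 3, 15, 5] .fail)), (1, (.step [2, 12, 6, 21, 2, 11, 15, 2] .fail)), (1, (.step [2, 20, 2, 6, 15, 3, 5, 12] .fail)), (1, (.step [2, 15, 21, 3, 12, 6] .fail)), (1, (.step [2, 12, 6, 20, 15, 2, 11, 20] (.step [4, 5, 12, 22, 12, 6] .fail))), (1, (.step [2, 12, 6, 21, 15,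 8, 11, 3] (.step [4, 5, 15, 21] .fail))), (1, (.step [2, 20, 6, 15, 3, 4, 21] .fail)), (1, .fail), (1, (.step [3, 20, 6, 15, 11, 15] .fail)), (1, (.step [2, 12, 12, 3, 6, 12, 15] .fail)), (1, (.step [2, 12, 6, 20, 15, 2, 21, 7, 3] .fail)), (1, (.step [2, 12, 6, 20, 3, 15, 12, 3, 12] .fail)), (1, (.step [2, 12, 6, 20, 15, 5, 4, 12] .fail)), (1, (.step [0, 3, 12, 6, 15, 12, 15] .fail)), (1, (.step [2, 12, 6, 20, 15, 3, 21, 4] .fail)), (1, (.step [3, 20, 6, 15, 11, 3, 7] .fail)), (1, (.step [2, 15, 21, 3, 6, 7, 20, 15] (.step [8, 11, 22, 11, 22] .fail))), (1, (.step [0, 2, 12, 6, 20, 15, 12, 2] (.step [4, 11, 15, 12] .fail))), (1, (.step [0, 3, 20, 6, 15, 2, 11, 15] .fail)), (1, (.step [2, 11, 15, 11, 3, 6, 15] .fail)), (1, (.step [2, 15, 2, 21, 6, 11, 2, 15] .fail)), (1, (.step [3, 12, 3, 12, 6, 12, 15, 11] .fail)), (1, (.step [0,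 3, 20, 15, 11] .fail)), (1, (.step [2, 15, 21, 6, 15, 21, 3] .fail)), (1, (.step [3, 12, 3, 6, 20, 15, 3] (.step [4, 22, 5, 8] .fail))), (1, (.step [0, 3, 20, 15, 11, 6, 21, 2] .fail)), (1, (.step [2, 20, 6, 15, 8, 11, 2] .fail)), (1, (.step [2, 12, 6, 15, 12, 3, 15, 20] .fail)), (1, (.step [0, 3, 12, 15, 12, 6, 11, 15] .fail)), (1, (.step [2, 20, 6, 15, 3, 21, 6, 15] .fail)), (1, (.step [2, 12, 6, 20, 15, 2, 5, 20, 4] .fail)), (2, .fail), (1, (.step [2, 15, 12, 6, 15, 11, 2, 15] .fail)), (1, (.step [2, 12, 6, 12, 2, 20, 15, 3, 7] .fail)), (1, (.step [0, 2, 15, 2, 12, 6] (.step [8, 11, 22, 11] .fail))), (1, (.step [0, 2, 20, 6, 15, 21, 3, 15, 5] .fail)), (1, .fail), (1, (.step [0, 3, 20, 6, 15, 5, 15] (.step [11, 22, 8] .fail))), (1, (.step [0, 3, 12, 6, 20, 15, 21] .fail)), (1, (.step [2, 15, 21, 3, 12, 6] (.step [4, 15, 5, 4]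 .fail))), (1, (.step [2, 12, 12, 3, 6, 21, 3, 15] .fail)), (1, (.step [2, 12, 6, 12, 3, 7] .fail)), (1, (.step [2, 12, 6, 12, 2, 12, 15, 3, 5] .fail)), (1, (.step [0, 2, 20, 6, 15, 5, 12] .fail)), (1, .fail), (1, (.step [2, 12, 6, 20, 2, 7] .fail)), (1, (.step [0, 3, 20, 6, 15, 2, 11] .fail)), (1, (.step [2, 12, 6, 20, 15, 5, 12] .fail)), (1, (.step [0, 3, 20, 6, 15, 5, 15, 3] (.step [15, 5, 22, 15] .fail))), (1, (.step [0, 2, 12, 6, 20, 2, 15] .fail)), (1, (.step [0, 3, 12, 15, 12, 6, 11, 2] .fail)), (1, (.step [2, 15, 21, 6, 15, 11] (.step [4, 15, 22, 5, 15] .fail))), (1, (.step [3, 20, 6, 15, 2, 21, 8] (.step [4, 22, 11, 21] .fail))), (1, (.step [3, 20, 6, 15, 20, 4, 3] .fail)), (1, (.step [2, 12, 6, 20, 15, 2, 12, 5] .fail)), (1, (.step [0, 2, 20, 6, 15, 21, 6, 15] .fail)), (1, .fail), (1, (.step [0, 2, 20, 6, 15, 12, 12,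 3] .fail)), (1, (.step [3, 20, 6, 15, 5, 4, 15] (.step [15, 21, 22] (.step [6, 5, 7, 16] .fail)))), (1, (.step [0, 2, 20, 6, 15, 12, 12, 3] .fail)), (1, (.step [2, 15, 12, 2] .fail)), (1, (.step [2, 20, 6, 15, 12, 12] (.step [4, 8, 22, 8] .fail))), (1, (.step [0, 2, 12, 6, 12, 12, 2, 15] .fail)), (1, (.step [2, 20, 15, 3, 20, 6] .fail)), (1, (.step [0, 2, 20, 6, 15, 12, 12, 6] (.step [4, 22, 20, 8] (.step [6, 13] .fail)))), (1, .fail), (1, (.step [3, 20, 15, 8] .fail)), (2, .fail), (1, (.step [2, 12, 6, 15, 20, 15, 3, 11] (.step [4] .fail))), (1, (.step [2, 12, 20, 15, 11, 6] (.step [4, 15, 22, 5, 15] .fail))), (1, (.step [2, 12, 6, 21, 15, 20, 15] .fail)), (1, (.step [0, 2, 20, 2, 6, 15, 12, 12] (.step [4, 15, 22, 4, 12] .fail))), (1, (.step [2, 20, 2, 6, 15, 5] .fail)), (1, (.step [0, 3, 20, 6, 15, 5, 4, 3] (.step [12, 22, 11,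 11] (.step [17, 14, 16] .fail)))), (1, (.step [0, 3, 20, 6, 15, 12, 12] (.step [4, 15, 5, 22, 8] .fail))), (1, (.step [0, 3, 20, 6, 15, 5, 4] .fail)), (1, (.step [3, 12, 3, 6, 12, 15, 3, 20] .fail)), (1, (.step [0, 3, 20, 6, 15, 20, 15] .fail)), (1, (.step [2, 20, 6, 15, 3, 8, 11, 2] .fail)), (1, (.step [2, 15, 21, 3, 20, 6] (.step [4, 11] .fail))), (1, (.step [2, 20, 2, 6, 15, 5] .fail)), (1, (.step [2, 20, 2, 6, 15, 12, 12] (.step [11, 22, 21, 15] (.step [6, 13, 16, 16] .fail)))), (1, (.step [2, 12, 6, 20, 2, 7] (.step [4, 15, 5, 15] (.step [17, 14, 6] (.step [19, 20] .fail))))), (1, (.step [2, 12, 6, 21, 2] .fail)), (1, (.step [3, 12, 3, 6, 20, 3, 15, 20] .fail)), (4, .fail), (1, (.step [2, 12, 6, 20, 15, 2, 21, 3] .fail)), (1, .fail), (1, (.step [2, 15, 2, 12, 6, 20, 15, 5] .fail)), (1, .fail), (1, (.step [2, 20, 6, 15, 3,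 21, 2] (.step [4, 12, 22, 20] .fail))), (1, (.step [2, 12, 6, 15, 12, 3, 15, 21] (.step [15, 5, 12, 22] .fail))), (1, (.step [3, 12, 6, 20, 2, 12, 20, 15] .fail)), (1, (.step [3, 12, 6, 20, 2, 20, 15, 20] .fail)), (1, (.step [2, 15, 21, 6, 15, 21, 15, 2] .fail)), (1, (.step [2, 12, 12, 3] .fail)), (1, (.step [2, 20, 6, 15, 20, 3, 15, 20] (.step [15, 5, 12, 22, 5] .fail))), (1, .fail), (1, (.step [2, 12, 6, 20, 2, 20, 2] .fail)), (1, (.step [2, 20, 6, 15, 3, 12, 15, 11] .fail)), (1, (.step [0, 2, 20, 6, 15, 2, 11, 3, 4] .fail)), (1, (.step [0, 2, 20, 6, 15, 11, 3, 11] .fail)), (1, (.step [3, 12, 3, 6, 20, 3, 15] (.step [11, 11, 15, 22, 11] .fail))), (1, (.step [2, 15, 21, 6, 15, 11, 3] .fail)), (1, .fail), (1, (.step [2, 12, 6, 20, 15, 12, 2, 15] .fail)), (1, .fail), (1, (.step [0, 3, 20, 6, 15, 11, 2, 8] (.step [4, 8, 22, 12,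 15] .fail))), (1, (.step [2, 20, 6, 15, 3, 20, 15, 21] .fail)), (1, (.step [3, 20, 6, 15, 5, 15, 20, 2] .fail)), (1, (.step [2, 20, 15, 20] .fail)), (1, (.step [2, 15, 2, 21, 2, 6] .fail)), (1, (.step [2, 20, 6, 15, 2, 11, 2] .fail)), (1, (.step [2, 12, 6, 15, 12, 15, 20, 3, 12] .fail)), (1, (.step [2, 20, 6, 15, 20, 15, 5] .fail)), (1, (.step [0, 3, 12, 6, 20, 2, 15, 12, 15] .fail)), (1, (.step [0, 2, 12, 6, 20, 15, 2, 8] (.step [4, 15, 22, 8] .fail))), (1, (.step [3, 20, 6, 15, 2, 21, 15] (.step [11, 11, 11, 22, 21] .fail))), (1, (.step [2, 20, 6, 15, 11, 6] .fail)), (1, (.step [3, 12, 6, 20, 15, 3, 8] (.step [4, 12, 22, 11] .fail))), (1, (.step [2, 15, 12, 6, 15, 21, 3, 4] (.step [4, 5, 22, 4, 21] .fail))), (2, .fail), (1, (.step [0, 2, 12, 6, 20, 15, 12, 3, 15] .fail)), (1, (.step [0, 2, 20, 6, 15, 3, 21, 11, 3] .fail)), (1,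 .fail), (1, (.step [2, 15, 12, 2, 6, 15, 5] .fail)), (1, (.step [2, 12, 6, 20, 15, 12, 3] (.step [4, 21, 4] .fail))), (1, (.step [3, 12, 6, 20, 2, 15, 5] (.step [4, 22, 15, 22] .fail))), (1, (.step [2, 12, 6, 15, 12, 15, 5, 11] .fail)), (1, (.step [3, 20, 6, 15, 5, 15, 3, 12] .fail)), (1, (.step [0, 3, 20, 6, 15, 2] .fail)), (1, .fail), (1, (.step [2, 20, 6, 15, 20, 4, 12] (.step [11, 22, 11, 15, 22, 15] .fail))), (1, (.step [3, 12, 6, 20, 2, 15, 21] .fail)), (1, (.step [2, 12, 6, 20, 3, 7, 15] .fail)), (1, (.step [2, 12, 6, 15, 12, 15, 21, 7] .fail)), (1, (.step [0, 2, 12, 6, 20, 15, 21, 2, 12] .fail)), (1, (.step [3, 12, 6, 20, 15, 21, 3, 7] .fail)), (1, (.step [3, 12, 6, 21, 15, 11, 3] (.step [4, 8, 22, 5, 6, 8] .fail))), (1, (.step [0, 2, 12, 6, 20, 7, 3, 15, 5] .fail)), (1, (.step [2, 20, 6, 15, 3, 5, 15, 2] .fail)), (1,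 (.step [2, 12, 6, 20, 15, 3, 15] .fail)), (1, (.step [0, 2, 20, 6, 15, 5, 12] .fail)), (1, .fail), (1, (.step [2, 15, 21, 3, 6, 12, 15, 20] .fail)), (1, (.step [2, 15, 21, 6, 15, 21, 8] .fail)), (1, .fail), (1, (.step [2, 20, 2, 6, 15, 21, 2] .fail)), (1, (.step [3, 20, 6, 15, 8, 11, 3] (.step [4, 5, 6, 8] .fail))), (1, (.step [0, 3, 20, 6, 15, 21, 2, 21] .fail)), (1, (.step [2, 15, 2, 12, 6, 20, 3, 4] .fail)), (1, (.step [2, 15, 21, 3, 6, 15] .fail)), (1, (.step [3, 12, 3, 6, 20, 15, 3] .fail)), (1, (.step [2, 12, 15, 20, 15, 2] .fail)), (1, (.step [2, 20, 6, 15, 5, 12, 3] .fail)), (1, (.step [2, 12, 6, 15, 20, 3, 15, 11] .fail)), (1, (.step [3, 12, 3, 6, 12, 3, 15, 5] .fail)), (1, (.step [2, 12, 15, 12, 6, 21, 15, 8] .fail)), (1, (.step [2, 11, 15, 11, 6, 21, 15, 21] .fail)), (1, .fail), (1, (.step [3, 12, 6, 15, 11, 15, 3,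 11] .fail)), (1, (.step [2, 20, 15, 20, 6, 11] .fail)), (1, (.step [0, 3, 20, 6, 15, 21, 15] (.step [15, 22, 21, 22] .fail))), (1, (.step [3, 12, 6, 20, 2, 15, 2] .fail)), (1, .fail), (1, (.step [3, 12, 6, 20, 2, 15, 8] .fail)), (1, .fail), (1, (.step [2, 15, 12, 6, 15, 2] .fail)), (1, .fail), (1, (.step [2, 12, 6, 15, 12, 6, 15, 2, 12] .fail)), (1, (.step [2, 12, 6, 15, 20, 2, 15, 20, 2] .fail)), (1, (.step [2, 12, 6, 12, 2, 20, 15, 3] .fail)), (1, (.step [0, 2, 20, 6, 15, 11, 3, 7, 15] .fail)), (4, .fail), (1, (.step [3, 12, 6, 20, 2, 12, 20, 15] .fail)), (1, (.step [0, 3, 20, 6, 15, 2, 11] (.step [11, 15, 22, 5, 15] .fail))), (1, (.step [2, 12, 12, 3, 6, 21, 15] .fail)), (1, (.step [0, 2, 20, 6, 15, 3, 11, 3] .fail)), (2, .fail), (1, (.step [2, 12, 6, 20, 3, 20] .fail)), (1, (.step [3, 12, 3, 6, 12, 3, 15] .fail)), (1, (.step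 [2, 20, 6, 15, 11, 8] .fail)), (1, (.step [0, 3, 12, 6, 20, 2, 15, 5, 12] .fail)), (1, (.step [0, 3, 20, 6, 15, 21, 2] .fail)), (1, (.step [2, 12, 6, 21, 3, 11, 15] (.step [4, 5, 15, 5, 22] .fail))), (1, (.step [0, 2, 20, 6, 15, 5, 15, 2] .fail)), (1, .fail), (1, (.step [2, 15, 21, 6, 15, 2, 11, 2, 15] .fail)), (1, .fail), (1, (.step [2, 15, 21, 6, 15] (.step [15, 22, 20, 15] .fail))), (1, (.step [2, 20, 6, 15, 12, 3, 4, 21] .fail)), (1, (.step [0, 3, 20, 6, 15, 8, 11, 15] (.step [4, 11, 15] .fail))), (1, (.step [2, 20, 2, 6, 20, 15, 2] .fail)), (1, (.step [2, 12, 6, 20, 15, 12] .fail)), (1, (.step [2, 12, 6, 20, 15, 3, 21, 3, 4] .fail)), (1, (.step [2, 12, 6, 12, 2, 20, 15, 3, 11] .fail)), (1, .fail), (1, (.step [2, 20, 2, 6, 15, 3, 12] .fail)), (1, (.step [2, 11, 15, 11] .fail)), (1, (.step [3, 20, 6, 15, 11, 11, 3, 11] .fail)),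 (1, (.step [3, 12, 6, 20, 2, 15, 2] .fail)), (1, (.step [2, 20, 6, 15, 11, 3, 20, 15] (.step [11, 22, 4, 20] .fail))), (1, (.step [2, 20, 6, 15, 5, 15, 11] .fail)), (1, (.step [2, 12, 6, 15, 20, 2, 15, 20, 2] .fail)), (1, .fail), (1, (.step [2, 20, 15, 12, 6, 11, 2] .fail)), (1, (.step [2, 15, 12, 15, 2] .fail)), (1, (.step [2, 20, 6, 15, 5, 15, 20, 2] .fail)), (1, .fail), (1, (.step [2, 11, 15, 11, 6] .fail)), (1, (.step [0, 2, 20, 6, 15, 21, 3, 15] .fail)), (1, (.step [2, 11, 15, 11, 3, 6] .fail)), (1, (.step [0, 3, 20, 6, 15, 20, 15, 20, 6] .fail)), (1, (.step [2, 20, 2, 6, 15, 12] .fail)), (1, (.step [0, 3, 20, 6, 15, 21, 15, 20] .fail)), (1, (.step [0, 2, 15, 12, 15, 12, 6] (.step [11, 22, 15, 8] .fail))), (1, (.step [0, 2, 20, 6, 15, 11, 3, 4, 11] .fail)), (1, (.step [2, 20, 15, 3, 21, 6, 21] .fail)), (1, (.step [2, 15,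 2, 12, 6, 12, 3, 15] .fail)), (1, .fail), (1, (.step [3, 12, 6, 20, 2, 15, 2] (.step [4, 5, 22, 4, 15] .fail))), (1, (.step [2, 12, 6, 12, 3, 20, 15, 2] .fail)), (4, .fail), (1, (.step [3, 12, 6, 20, 2, 15, 21] .fail)), (1, (.step [0, 3, 20, 15] (.step [11, 11] .fail))), (1, (.step [3, 20, 15, 20, 6] (.step [4, 8, 22, 21, 7] (.step [6, 17, 14] (.step [20] .fail))))), (1, (.step [2, 15, 21, 15, 11] (.step [4, 15, 22, 11] (.step [7, 16] (.step [5, 23] .fail))))), (1, (.step [3, 20, 6, 15, 20] (.step [4, 22, 5] (.step [17, 17, 14] (.step [18, 22] .fail))))), (1, (.step [3, 20, 15, 20, 6] (.step [4, 22, 5] (.step [17, 17, 14] (.step [18, 22] .fail))))), (1, (.step [2, 12, 6, 21, 2] (.step [4, 22, 20, 20, 15] (.step [6, 5, 13, 17] (.step [5, 22, 19] .fail))))), (1, (.step [3, 20, 6, 15, 5] .fail)), (1, .fail), (1, (.step [0, 2, 20,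 6, 15, 12, 12, 3] (.step [4, 22, 11, 8, 7] .fail))), (1, (.step [0, 2, 20, 6, 15, 21, 8] .fail)), (1, (.step [2, 20, 2, 6, 15, 12, 12] (.step [4, 11, 6] (.step [7, 17, 17, 14] .fail)))), (1, (.step [0, 3, 12, 6, 20, 2, 15] (.step [15, 5, 6, 22] (.step [6, 21] (.step [18, 20] .fail))))), (1, (.step [2, 12, 6, 15, 20, 15, 3, 11] .fail)), (1, .fail), (1, (.step [0, 2, 12, 20, 15, 11] .fail)), (1, (.step [2, 20, 2, 6, 20] (.step [4, 21, 4] .fail))), (1, (.step [2, 12, 6, 15, 12, 15, 2, 12, 15] .fail)), (1, (.step [3, 20, 6, 15, 3, 20] (.step [4, 5, 6, 8, 22] .fail))), (3, .fail), (1, (.step [0, 3, 20, 6, 15, 5, 4] .fail)), (1, .fail), (1, (.step [2, 12, 6, 20, 15, 2, 11, 20] .fail)), (1, (.step [3, 20, 6, 15, 20] .fail)), (1, (.step [0, 3, 11, 15] .fail)), (1, .fail), (1, (.step [2, 12, 6, 20, 15, 5, 12, 3, 12] .fail)), (1, (.step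 [0, 3, 12, 6, 20, 15, 3, 20] (.step [4, 22, 12, 7, 12] .fail))), (1, (.step [2, 20, 6, 15, 11, 3, 4, 7] .fail)), (1, (.step [0, 3, 12, 6, 15, 21, 15, 3] (.step [8, 22, 11, 20] .fail))), (1, (.step [3, 20, 6, 15, 5, 15, 3, 12] .fail))])

/-- a piece of a certificate -/
noncomputable def cT2_1 : Cert := (Cert.rl [(1, (.step [2, 12, 6, 15, 12, 15, 21, 7] .fail)), (1, (.step [2, 15, 5, 6, 15, 11, 15] .fail)), (1, .fail), (1, (.step [2, 12, 6, 20, 15, 8, 7, 3] .fail)), (1, (.step [0, 3, 12, 6, 21, 15, 11, 15] .fail)), (1, (.step [2, 15, 21, 3, 12, 6, 20] .fail)), (1, (.step [0, 2, 12, 6, 20, 15, 3, 12, 12] .fail)), (1, (.step [0, 2, 12, 6, 20, 15, 2, 21, 6] (.step [15, 11, 22, 20] .fail))), (1, (.step [0, 2, 15, 21, 3, 6, 12, 15, 21] (.step [11, 15, 11] .fail))), (1, (.step [2, 12, 6, 20, 3, 20, 15] (.step [11, 22, 11, 21, 15] .fail))),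 (1, (.step [3, 20, 6, 15, 11, 3] .fail)), (1, (.step [2, 12, 6, 15, 12, 6, 12, 3] .fail)), (1, (.step [3, 12, 3, 6, 20, 15, 2, 8] .fail)), (1, (.step [3, 12, 6, 20, 15, 11, 2] .fail)), (1, (.step [2, 12, 6, 20, 2, 20] .fail)), (1, (.step [2, 12, 15, 12, 6, 21, 15] .fail)), (1, (.step [2, 20, 6, 15, 12, 12, 2, 20] .fail)), (1, (.step [2, 12, 15, 20, 3, 6, 12] (.step [4, 11, 15, 8] .fail))), (1, .fail), (1, (.step [0, 2, 20, 6, 15, 11, 3, 7, 15] .fail)), (1, .fail), (1, (.step [0, 2, 15, 21, 6, 15, 11, 2] .fail)), (1, (.step [3, 12, 6, 15, 5, 20] .fail)), (1, (.step [0, 2, 12, 6, 20, 7, 15, 12] (.step [15, 22, 4, 5] .fail))), (1, (.step [2, 20, 2, 6, 15, 5, 12] .fail)), (1, (.step [2, 12, 6, 15, 12, 6, 15, 3, 11] .fail)), (1, (.step [0, 3, 12, 6, 20, 2, 15] .fail)), (1, (.step [3, 12, 6, 20, 2, 15, 21, 7] .fail)), (1, (.step [2,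 12, 6, 20, 15, 21, 3, 20, 6] .fail)), (1, (.step [2, 15, 21, 3, 6, 11, 8] .fail)), (1, (.step [2, 12, 6, 15, 20, 2, 15, 5, 11] .fail)), (1, .fail), (1, (.step [2, 15, 2, 21, 3] .fail)), (1, (.step [2, 12, 6, 21, 15, 11, 15] .fail)), (1, .fail), (1, (.step [2, 12, 6, 15, 12, 15, 2, 12, 3] .fail)), (1, (.step [0, 2, 20, 6, 15, 2, 11, 15] .fail)), (1, (.step [3, 20, 15, 11, 6, 21, 2, 15] .fail)), (1, (.step [2, 20, 6, 15, 5, 20, 3] .fail)), (1, (.step [3, 12, 6, 15, 12, 15, 2, 20] .fail)), (1, (.step [2, 20, 6, 15, 5, 15, 2, 20] .fail)), (1, (.step [3, 20, 6, 15, 11, 15, 2, 11] .fail)), (1, (.step [3, 12, 3, 12, 6, 21, 15, 5] .fail)), (1, (.step [2, 12, 6, 20, 3, 15, 11] .fail)), (1, .fail), (1, (.step [2, 12, 6, 12, 3, 12, 6, 15] (.step [11, 15, 11, 15] .fail))), (1, (.step [2, 12, 6, 12, 12, 3, 15] .fail)), (1, (.step [2, 12, 6,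 12, 2, 12, 15, 3, 5] .fail)), (1, (.step [0, 2, 12, 6, 20, 15, 5, 12] .fail)), (1, (.step [0, 3, 20, 6, 15, 21, 2, 21] .fail)), (1, (.step [3, 12, 6, 20, 2, 15, 8] (.step [15, 5, 22] .fail))), (1, (.step [2, 15, 21, 3, 6, 12, 15, 8] (.step [11, 22, 15, 12] .fail))), (1, .fail), (1, (.step [0, 3, 20, 6, 15, 5, 15, 3] .fail)), (1, .fail), (1, (.step [2, 12, 6, 12, 3, 15] .fail)), (1, (.step [2, 20, 15, 3, 7] (.step [4, 22, 12, 7, 12] .fail))), (1, (.step [2, 12, 6, 15, 12, 15, 3, 20, 3] .fail)), (1, (.step [2, 20, 6, 15, 8, 11, 2, 11] .fail)), (1, (.step [2, 12, 6, 15, 20, 3, 15, 8, 11] .fail)), (1, (.step [2, 20, 6, 15, 3, 12, 15, 12] .fail)), (1, (.step [0, 2, 12, 6, 20, 15, 3, 8, 11] .fail)), (1, (.step [2, 12, 6, 12, 12] .fail)), (1, (.step [3, 12, 3, 20, 6, 11] .fail)), (1, (.step [2, 20, 6, 15, 11, 3, 11, 3] .fail)), (1, (.step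 [2, 20, 6, 15, 21, 3, 6] .fail)), (1, (.step [2, 15, 21, 3, 6, 20, 15] (.step [4, 11] .fail))), (1, .fail), (1, (.step [2, 20, 6, 15, 3, 21, 11, 2] .fail)), (1, (.step [2, 12, 6, 12] .fail)), (1, (.step [2, 15, 21, 6, 15, 11, 3] .fail)), (1, .fail), (1, (.step [2, 12, 6, 15, 12, 15, 2, 8] .fail)), (1, (.step [0, 3, 20, 6, 15, 21, 4] .fail)), (1, (.step [2, 20, 6, 15, 11, 3, 11, 21] .fail)), (1, (.step [2, 12, 6, 15, 20, 15, 3] (.step [12, 12] .fail))), (1, .fail), (1, (.step [3, 20, 6, 15, 11, 3, 11, 6] .fail)), (1, (.step [2, 20, 6, 15, 11, 11] .fail)), (1, (.step [2, 20, 6, 15, 11, 3, 15] .fail)), (1, (.step [2, 15, 21, 2, 6, 21, 15] .fail)), (1, (.step [0, 3, 12, 6, 15, 12, 15, 3, 12] (.step [15, 11, 8] .fail))), (1, (.step [0, 2, 15, 21, 3, 12] (.step [11, 22, 12, 15] .fail))), (1, (.step [3, 20, 6, 15, 2, 21, 8] .fail)),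 (1, (.step [2, 12, 6, 15, 20, 2, 15, 8, 21] .fail)), (1, (.step [2, 15, 2, 11, 6] (.step [15, 21, 8] .fail))), (1, (.step [3, 12, 6, 20, 2, 20, 15, 20] .fail)), (1, (.step [0, 3, 12, 6, 15, 12, 12] .fail)), (1, (.step [0, 3, 20, 15, 11, 6] .fail)), (1, .fail), (1, (.step [2, 12, 6, 21, 15, 21, 3] .fail)), (1, (.step [2, 15, 12, 6, 15, 2, 11, 3, 4] (.step [15, 8, 22, 12] .fail))), (1, (.step [2, 15, 12, 2, 6, 20, 15] .fail)), (1, (.step [2, 20, 6, 15, 20, 12, 6] (.step [8, 11, 22, 4] .fail))), (1, (.step [2, 20, 15, 20] (.step [4, 22, 11, 4, 15] .fail))), (1, (.step [2, 20, 6, 15, 21, 3, 4, 6] .fail)), (1, (.step [2, 12, 6, 15, 12, 3, 6] (.step [15, 8, 22, 21] .fail))), (1, (.step [2, 12, 6, 15, 12, 3, 15, 11] .fail)), (1, (.step [0, 3, 12, 6, 20, 15, 5, 6] .fail)), (1, (.step [3, 20, 6, 15, 21, 4, 3, 15] .fail)), (1, (.step [2,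 20, 2, 6, 15, 20, 15, 2] .fail)), (1, .fail), (1, (.step [2, 12, 6, 12, 3, 20, 2, 15, 5] .fail)), (1, (.step [2, 15, 12, 6, 15, 2, 11] (.step [4, 8, 22, 12] .fail))), (1, (.step [3, 12, 6, 21, 15, 21, 3] .fail)), (1, (.step [3, 20, 6, 15, 8, 11, 3] .fail)), (1, (.step [2, 20, 6, 15, 2] (.step [4, 12, 22, 20] .fail))), (1, (.step [2, 20, 6, 15, 11, 2, 21, 8] .fail)), (1, (.step [2, 20, 6, 15, 11, 2, 21] .fail)), (1, (.step [0, 2, 20, 6, 15, 11, 3, 15] .fail)), (1, (.step [2, 12, 20, 15] (.step [4, 11, 15, 8] .fail))), (1, (.step [0, 2, 20, 6, 15, 3, 20, 15, 20] .fail)), (1, (.step [0, 2, 15, 21, 6, 15, 21] .fail)), (1, (.step [0, 2, 12, 6, 20, 15, 12] .fail)), (3, .fail), (1, (.step [2, 11, 15, 11, 6, 5, 15, 21, 2] .fail)), (1, (.step [3, 12, 3, 12, 3, 6, 15] .fail)), (1, (.step [2, 20, 6, 15, 3, 8, 11] .fail)), (1, (.step [3,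 12, 3, 12, 3] .fail)), (1, (.step [2, 20, 6, 15, 2, 20, 12, 3] .fail)), (1, (.step [2, 12, 6, 20, 2, 15, 2, 12] (.step [15, 22, 4] .fail))), (1, .fail), (1, (.step [3, 12, 6, 20, 2, 15] .fail)), (1, (.step [0, 3, 12, 6, 20, 2, 15, 12, 6] .fail)), (1, (.step [0, 2, 12, 6, 20, 15, 12, 5] .fail)), (1, .fail), (1, (.step [3, 20, 6, 15, 2] (.step [8, 11, 22] .fail))), (1, (.step [3, 12, 6, 15, 21, 15] .fail)), (1, (.step [0, 3, 20, 6, 15, 2, 11] (.step [4, 22, 21, 4] .fail))), (1, (.step [2, 20, 2, 6, 11, 11, 15] .fail)), (1, (.step [2, 11, 15, 11, 6, 5, 15, 21] .fail)), (4, .fail), (1, (.step [2, 12, 6, 15, 12, 15, 3, 20, 6] .fail)), (1, (.step [3, 12, 3, 12, 6, 21, 15, 12] .fail)), (1, (.step [2, 12, 6, 20, 15, 21, 2, 4] .fail)), (1, .fail), (1, (.step [2, 12, 6, 20, 15, 3, 5, 20] .fail)), (1, .fail), (1, (.step [2, 15, 12, 2, 6,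 20, 15, 21] .fail)), (1, (.step [0, 2, 20, 6, 15, 8, 11, 15, 3] (.step [4, 22, 21, 15, 8] .fail))), (1, (.step [0, 2, 20, 6, 15, 5, 20, 3, 15] .fail)), (1, (.step [2, 15, 21, 6, 15, 5, 4, 3] .fail)), (1, (.step [2, 20, 6, 15, 11, 2, 21] .fail)), (1, .fail), (1, (.step [0, 3, 20, 6, 15, 11, 3, 4] .fail)), (1, (.step [0, 3, 20, 6, 15, 2, 15] .fail)), (1, (.step [2, 20, 6, 15, 21, 4, 3, 7] .fail)), (1, (.step [2, 12, 15, 12, 3, 6, 20] .fail)), (1, (.step [0, 2, 15, 12, 6, 15, 12, 12] .fail)), (1, (.step [0, 3, 12, 6, 20, 15, 21, 3] .fail)), (1, (.step [2, 15, 2, 12, 6] .fail)), (1, (.step [0, 3, 12, 6, 20, 2, 15, 5] (.step [4, 5, 15, 21] .fail))), (1, (.step [3, 12, 3] (.step [4, 8, 22, 8] (.step [6, 13, 16, 16] .fail)))), (1, (.step [2, 20, 2] (.step [4, 8, 22, 11, 20] (.step [6, 5, 7] .fail)))), (1, .fail), (1, (.step [2, 12, 12,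 6, 15, 11, 15] (.step [8, 11, 22, 21] (.step [17, 5, 6, 20] .fail)))), (1, (.step [2, 15, 21, 3, 12, 6, 20] .fail)), (1, (.step [2, 20, 2] (.step [4, 8, 22, 11, 20] (.step [13] .fail)))), (1, (.step [2, 15, 21, 2] (.step [4, 22, 8, 21, 15] .fail))), (1, .fail), (1, (.step [0, 3, 20, 15, 3] (.step [15, 22, 11, 15] (.step [6, 21, 22] .fail)))), (1, (.step [0, 2, 20, 6, 15, 20, 4, 12] .fail)), (1, (.step [2, 12, 6, 20, 2, 20] .fail)), (1, .fail), (1, (.step [2, 12, 15, 20, 15, 2] .fail)), (1, (.step [3, 20, 15, 20, 6] (.step [4, 22, 5, 11, 22] (.step [7] .fail)))), (1, (.step [2, 15, 21, 3, 6, 15, 11, 11] (.step [15, 5, 12, 21] .fail))), (1, .fail), (1, (.step [3, 12, 3] .fail)), (1, (.step [3, 12, 3, 6, 12, 3, 15, 8] .fail)), (1, (.step [0, 2, 12, 6, 20, 15, 12, 2] .fail)), (1, (.step [2, 20, 6, 15, 3, 11, 15, 5] .fail)), (1, (.step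 [2, 12, 6, 15, 20, 2, 4, 15, 8] .fail)), (1, (.step [2, 12, 6, 15, 20, 6, 15, 11] .fail)), (1, (.step [2, 12, 6, 15, 20, 15, 3, 8, 20] .fail)), (1, .fail), (1, (.step [3, 12, 6, 20, 15, 3, 4] .fail)), (1, (.step [2, 12, 6, 15, 20, 2, 15, 8, 7] .fail)), (1, (.step [3, 12, 15, 12, 6, 12] .fail)), (1, (.step [3, 20, 15, 11, 6, 21, 2, 15] .fail)), (1, (.step [2, 20, 6, 15, 11, 2, 20] .fail)), (1, (.step [0, 3, 12, 6, 15, 21, 15, 11, 2] .fail)), (1, (.step [0, 3, 12, 6, 20, 15, 2] .fail)), (1, (.step [2, 11, 15, 11, 6, 5, 15, 21] .fail)), (1, (.step [3, 12, 6, 20, 2] .fail)), (1, .fail), (1, (.step [3, 20, 6, 15, 11, 11, 3, 11] .fail)), (1, (.step [2, 12, 12, 6, 15, 21, 3, 7] (.step [4, 8, 22, 11, 8, 11] .fail))), (1, (.step [2, 20, 2, 6, 15, 20, 15, 2] .fail)), (1, (.step [2, 15, 21, 6, 15, 21, 3, 15] .fail)), (1, (.step [3, 20, 6,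 15, 12, 12, 15] .fail)), (1, (.step [2, 15, 21, 6, 15, 21, 11] .fail)), (1, (.step [0, 2, 12, 6, 20] .fail)), (1, (.step [3, 20, 6, 15, 11] .fail)), (1, (.step [0, 3, 20, 15] (.step [4, 15, 22, 5, 15, 22] .fail))), (1, (.step [3, 12, 3, 6, 12, 15, 11, 21] .fail)), (1, (.step [2, 12, 15, 20, 6, 15, 2] .fail)), (1, (.step [0, 2, 20, 6, 15, 11, 2, 20] .fail)), (1, (.step [3, 12, 3, 6, 20, 15, 8] (.step [4] .fail))), (1, (.step [0, 3, 20, 6, 15, 11, 3, 4] .fail)), (1, .fail), (1, (.step [2, 15, 21, 3, 6, 15, 11] .fail)), (1, (.step [2, 11, 15, 11, 6, 8] (.step [8, 22, 21] .fail))), (1, (.step [3, 12, 6, 21, 2, 21] (.step [15, 22, 4, 8] .fail))), (1, (.step [2, 12, 6, 20, 15, 21, 3, 12] .fail)), (1, (.step [0, 2, 15, 21, 6, 15, 11] (.step [4, 5, 15, 5, 22] .fail))), (1, (.step [3, 20, 6, 15, 2, 21, 15, 20] .fail)), (1, (.step [2, 12,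 12, 6, 15, 21, 3, 7] .fail)), (1, .fail), (1, (.step [0, 2, 15, 12, 6, 15, 11, 8] .fail)), (1, (.step [2, 12, 15, 12, 3, 6, 20, 15] .fail)), (1, .fail), (1, (.step [2, 20, 6, 15, 11, 3, 11, 20] .fail)), (1, (.step [0, 2, 15, 12, 6, 15, 12] .fail)), (1, (.step [2, 12, 6, 20, 7, 15, 5, 12] .fail)), (1, (.step [3, 12, 6, 15, 11, 15] .fail)), (2, .fail), (1, (.step [0, 3, 12, 6, 21, 15, 11, 15] .fail)), (1, (.step [0, 2, 20, 6, 15, 11, 21] .fail)), (1, (.step [2, 12, 6, 15, 20, 2, 15, 11, 20] (.step [4, 22, 15, 21] .fail))), (1, .fail), (1, (.step [2, 15, 12, 15, 11] (.step [8, 22, 20, 15] .fail))), (1, (.step [2, 15, 12, 6, 15, 11, 3, 4] .fail)), (1, (.step [3, 20, 6, 15, 11, 15] .fail)), (1, .fail), (1, (.step [2, 12, 6, 20, 15, 21, 4] .fail)), (1, (.step [2, 12, 6, 21, 15, 21, 3, 4] .fail)), (1, (.step [0, 3, 20, 6, 15, 11, 11,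 3] .fail)), (1, (.step [2, 12, 6, 20, 15, 12, 12, 21, 3] .fail)), (1, (.step [2, 12, 6, 20, 15, 12, 12, 3, 7] .fail)), (2, .fail), (1, (.step [2, 12, 6, 15, 12, 15, 2] .fail)), (1, (.step [2, 20, 2, 6, 15, 11, 11, 2] .fail)), (1, (.step [2, 15, 21, 15, 2] .fail)), (1, (.step [2, 20, 6, 15, 21, 15, 3, 7] .fail)), (1, (.step [3, 12, 6, 21, 15, 11, 15] .fail)), (1, (.step [2, 20, 15, 12, 6, 21] (.step [15, 5, 6, 12] .fail))), (1, (.step [2, 12, 6, 12, 3, 12, 15] (.step [4, 11, 15, 12, 22] .fail))), (1, (.step [3, 12, 6, 20, 2, 12, 15] .fail)), (1, (.step [2, 20, 6, 15, 5, 6, 12] (.step [4, 8, 22, 5, 15] .fail))), (1, (.step [3, 12, 6, 20, 2, 15, 2] (.step [12, 22, 5] .fail))), (1, (.step [2, 12, 6, 20, 15, 2] .fail)), (1, (.step [0, 3, 20, 6, 15, 21, 11, 15, 2] .fail)), (1, (.step [2, 15, 12, 3, 15] .fail)), (1, (.step [0, 2, 12,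 6, 12, 12, 2, 15] (.step [4, 22, 12, 7, 22] .fail))), (1, (.step [0, 3, 20, 6, 15, 11, 3, 7] .fail)), (1, .fail), (1, (.step [2, 20, 6, 15, 5, 12, 3] .fail)), (1, (.step [2, 12] .fail)), (1, .fail), (1, (.step [2, 12, 6, 12, 12, 15, 2] .fail)), (1, (.step [0, 2, 20, 6, 15, 5, 4, 3] .fail)), (1, (.step [0, 3, 20, 6, 15, 21, 8] .fail)), (1, (.step [] .fail)), (1, (.step [3, 12, 6, 20, 15, 3] .fail)), (2, .fail), (1, (.step [2, 12, 6, 20, 2, 15, 2] .fail)), (1, (.step [0, 2, 20, 6, 15, 5, 15, 21] (.step [15, 22, 20, 15, 22] .fail))), (1, .fail), (1, (.step [2, 12, 6, 15, 12, 15, 2, 11] .fail)), (1, (.step [2, 15, 21, 3, 6, 15, 20, 15] (.step [4, 5, 22, 15, 22] .fail))), (1, (.step [2, 12, 6, 20, 15, 12, 12, 21, 2] .fail)), (1, .fail), (1, (.step [2, 12, 6, 21, 15, 21, 4] .fail)), (1, (.step [0, 2, 20, 2, 6, 15, 12, 12] (.step [15,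 22, 20, 15] .fail))), (1, (.step [2, 15, 2, 11, 6] .fail)), (1, (.step [2, 12, 6, 20, 15, 12] .fail)), (1, (.step [2, 12, 15, 20, 6] .fail)), (1, (.step [3, 12, 3, 12, 6, 21] .fail)), (1, (.step [2, 20, 6, 15, 11, 3, 11, 11] .fail)), (1, (.step [0, 2, 12, 6, 21, 3, 11, 15] .fail)), (1, .fail), (1, (.step [2, 15, 21, 3, 12] .fail)), (1, (.step [0, 3, 12, 6, 20, 15, 11] .fail)), (1, (.step [0, 3, 12, 6, 15, 21, 15, 11, 6] .fail)), (1, (.step [2, 12, 6, 20, 15, 2, 11, 6, 15] .fail)), (1, (.step [2, 12, 6, 15, 21, 11, 3] .fail)), (1, (.step [3, 20, 6, 15] .fail)), (1, (.step [3, 20, 6, 15, 3, 20, 12] (.step [12, 22, 12, 6] .fail))), (1, (.step [2, 11, 15, 11, 6, 5, 15, 20] (.step [15, 21, 22, 5] .fail))), (1, (.step [3, 20, 6, 15, 11, 15, 3] .fail)), (1, (.step [2, 12, 6, 20, 15, 21, 6] .fail)), (1, (.step [3, 12, 6, 20, 15, 5, 12,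 2] .fail)), (1, .fail), (1, (.step [0, 2, 20, 6, 15, 21, 15, 3] .fail)), (1, (.step [2, 12, 6, 20, 15, 12, 6] .fail)), (1, (.step [2, 12, 6, 15, 12, 15, 20, 3, 12] .fail)), (1, .fail), (1, (.step [2, 20, 6, 15, 11, 11, 3, 15] (.step [4, 22, 15, 8] .fail))), (1, (.step [2, 20, 15, 12, 6, 11] .fail)), (1, (.step [0, 2, 12, 6, 20, 15, 12, 2, 12] (.step [4, 8, 22, 21] .fail))), (1, (.step [2, 12, 6, 12, 12, 3, 7] .fail)), (1, (.step [0, 2, 12, 6, 20, 15, 2] .fail)), (1, (.step [0, 2, 12, 6, 12] .fail)), (1, (.step [3, 12, 6, 20, 2] (.step [4, 5, 22, 15, 5, 6] .fail))), (1, (.step [0, 2, 20, 6, 15, 3, 11, 11, 3] (.step [12, 22, 15, 22] .fail))), (1, .fail), (1, (.step [3, 12, 6, 20, 15, 12, 2, 6] .fail)), (1, (.step [3, 12, 6, 20, 2, 20, 8] .fail)), (2, .fail), (1, (.step [2, 20, 2, 6, 11, 11, 2] .fail)), (1, (.step [2, 20, 6, 15,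 21, 11, 2, 21] .fail)), (1, (.step [2, 15, 21, 3, 6, 20, 15, 20, 2] (.step [11, 11, 15, 22] .fail))), (1, (.step [2, 12, 12, 3, 21] .fail)), (1, (.step [2, 20, 2, 6, 15, 12] .fail)), (1, (.step [3, 12, 6, 20, 2, 20, 15] (.step [4, 22, 11, 15] .fail))), (1, (.step [2, 20, 6, 15, 11, 11, 3, 15] .fail)), (1, (.step [2, 12, 6, 21, 15, 11, 3] .fail)), (1, (.step [2, 20, 2, 6, 15, 5, 15, 2] .fail)), (1, .fail), (1, (.step [3, 12, 20, 15, 8] .fail)), (1, (.step [2, 15, 12, 3] .fail)), (1, .fail), (1, (.step [2, 12, 12, 3, 6, 21, 3, 11] .fail)), (1, (.step [2, 12, 6, 21, 15, 11, 2, 15] .fail)), (1, (.step [2, 12, 6, 12, 3, 20, 15, 3] (.step [4, 22, 8, 21, 15] .fail))), (1, (.step [0, 2, 20, 6, 15, 5, 4, 3] .fail)), (1, (.step [2, 20, 2, 6, 15, 3, 5, 12] .fail)), (1, (.step [2, 20, 6, 15, 5, 12, 3] .fail)), (1, (.step [0, 2, 20, 15, 8]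 .fail)), (1, (.step [3, 12, 6, 20, 2, 20, 2, 15] .fail)), (1, (.step [2, 15, 12, 6, 15, 12] .fail)), (1, .fail), (1, (.step [2, 20, 6, 15, 2, 20, 12, 3] .fail)), (1, (.step [2, 20, 6, 15, 11, 15, 8] .fail)), (2, .fail), (1, (.step [3, 20, 6, 15, 11, 3, 11, 21] .fail)), (1, (.step [3, 20, 6, 15, 2, 11, 2] (.step [15, 22, 20, 15] .fail))), (4, .fail), (1, (.step [2, 20, 6, 15, 5, 20] (.step [4, 8, 20, 22] .fail))), (1, (.step [0, 2, 12, 6, 20, 15, 12, 3, 15] .fail)), (1, (.step [2, 12, 6, 20, 7, 15, 2, 21] .fail)), (2, .fail), (1, (.step [0, 2, 20, 2, 6, 15, 12, 12] (.step [4, 8, 22, 8] .fail))), (2, .fail), (1, (.step [2, 21, 2] .fail)), (1, (.step [2, 12, 15, 12, 6, 12, 15] .fail)), (1, (.step [2, 12, 6, 20, 15, 21, 3, 7] .fail)), (1, (.step [0, 2, 20, 15, 3] .fail)), (1, (.step [2, 12, 15, 12, 6, 21, 15, 5] .fail)), (1, .fail),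 (1, (.step [2, 12, 6, 20, 15, 21, 3, 8] .fail)), (1, (.step [3, 20, 6, 15, 21, 2, 12, 21] .fail)), (1, (.step [0, 2, 12, 6, 20, 15, 2, 21] (.step [4, 11, 15, 5, 22, 15] .fail))), (1, .fail), (1, (.step [0, 2, 12, 6, 20, 2, 15] .fail)), (1, (.step [2, 12, 6, 15, 20, 4, 3] .fail)), (1, (.step [2, 12, 6, 15, 20, 2, 15, 12] .fail)), (1, (.step [2, 15, 2, 12, 6, 20, 2] .fail)), (1, (.step [2, 12, 6, 20, 15, 12, 2] .fail)), (1, (.step [0, 2, 12, 6, 12, 12, 2, 15] (.step [4, 22, 5, 4] .fail))), (1, (.step [2, 12, 6, 20, 15, 2, 21, 7, 3] .fail)), (1, (.step [3, 20, 6, 15, 2, 11, 15] .fail)), (1, (.step [2, 12, 6, 20, 15, 12, 6, 12] .fail)), (1, (.step [0, 2, 20, 6, 15, 21, 4, 3, 15] (.step [4, 15, 22, 21] .fail))), (1, .fail), (1, (.step [2, 15, 21, 3, 6, 20, 15, 5, 6] .fail)), (1, (.step [2, 12, 6, 20, 2, 20, 2] .fail)), (1, (.step [2,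 12, 6, 12, 2, 20, 3] (.step [11, 11, 6, 21] .fail))), (1, (.step [2, 12, 12, 6, 15, 21, 3] .fail)), (1, (.step [0, 2, 20, 6, 15, 11, 3, 12, 12] .fail)), (1, .fail), (1, (.step [2, 12, 6, 20, 2, 15, 12, 3] .fail)), (1, (.step [2, 20, 6, 15, 21, 4, 3, 15] .fail)), (1, .fail), (1, (.step [3, 20, 6, 15, 11, 15, 2, 15] .fail)), (1, (.step [2, 12, 6, 20, 15, 2, 11, 6] (.step [4, 22, 5] .fail))), (1, .fail), (1, (.step [0, 2, 15, 12, 6, 15, 12, 12] (.step [4, 22, 11, 8, 7] .fail))), (1, .fail), (1, (.step [2, 20, 6, 15, 3, 7] .fail)), (1, (.step [3, 12, 6, 15, 11, 15, 2] .fail)), (1, (.step [2, 11, 15, 11, 6, 21, 15] .fail)), (1, (.step [2, 15, 21, 3, 6, 15] .fail)), (1, (.step [2, 12, 6, 12, 3, 20, 15, 3] .fail)), (1, (.step [2, 20, 2, 6, 15, 11, 3, 8] .fail)), (1, (.step [2, 15, 21, 15, 21, 6] (.step [15, 5, 22, 12] .fail))), (1, (.step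 [2, 15, 21, 6, 15, 21, 15, 2, 12] .fail)), (1, .fail), (1, (.step [2, 12, 20, 3] .fail)), (1, (.step [2, 12, 6, 20, 15, 2, 21] .fail)), (1, (.step [2, 12, 6, 12, 12, 15, 21, 3] .fail)), (1, .fail), (1, (.step [2, 15, 12, 15, 12] .fail)), (1, (.step [2, 12, 6, 20, 15, 12, 12, 3, 20] .fail)), (1, (.step [2, 20, 6, 15, 21, 3, 11] .fail)), (1, .fail), (1, (.step [2, 12, 6, 15, 20, 15, 3, 8, 20] (.step [4, 22, 11, 15, 12] .fail))), (1, (.step [2, 15, 21, 3, 6, 7, 20] .fail)), (1, .fail), (1, (.step [2, 15, 21, 3, 6, 7, 20, 15] .fail)), (1, (.step [2, 12, 6, 15, 12, 15, 3, 8] .fail)), (1, (.step [2, 12, 6, 12, 3, 20, 2, 15, 21] .fail)), (1, .fail), (1, (.step [2, 12, 6, 15, 12, 15, 11] .fail)), (1, (.step [0, 2, 15, 21, 6, 15, 21] .fail)), (1, (.step [2, 20, 6, 15, 2, 21, 3, 4] (.step [8, 22, 5, 11, 22, 8] .fail))), (2, .fail), (1,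 (.step [2, 12, 15, 12, 6, 21, 15] .fail)), (1, (.step [2, 20, 6, 15, 11, 3, 8, 11] .fail)), (1, (.step [0, 2, 15, 12, 6, 15, 11, 2] (.step [8, 22, 12, 12] .fail))), (1, (.step [2, 12, 6, 21, 2, 11, 15] .fail)), (1, (.step [2, 15, 2, 12, 6, 20, 3, 4] .fail)), (1, (.step [2, 20, 6, 15, 21, 3, 4, 15] .fail)), (1, (.step [2, 20, 6, 15, 21, 8] (.step [11, 22, 11, 15, 22, 15] .fail))), (1, .fail), (1, (.step [0, 3, 12, 6, 15, 21, 2, 8] .fail)), (1, .fail), (1, (.step [3, 20, 6, 15, 5, 15, 20, 2] .fail)), (1, (.step [0, 2, 20, 6, 15, 21, 3, 7] (.step [15, 22, 12, 7] .fail))), (1, (.step [2, 12, 6, 15, 20, 4, 15] .fail)), (1, (.step [0, 2, 20, 15, 12] .fail)), (1, (.step [3, 12, 6, 15, 12, 15, 12, 6] .fail)), (1, (.step [2, 12, 6, 21, 15, 21, 2, 15] .fail)), (1, (.step [2, 20, 6, 15, 11, 15, 8] .fail)), (1, (.step [2, 12, 20, 15, 2] (.step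 [11, 22, 11, 20] .fail))), (2, .fail), (1, (.step [2, 12, 6, 20, 7, 3, 4] .fail)), (1, (.step [3, 20, 6, 15, 20, 12] .fail)), (1, .fail), (1, (.step [2, 15, 2, 21] .fail)), (1, (.step [2, 20, 15, 20, 6, 11] .fail)), (1, (.step [2, 12, 6, 12, 12, 3] .fail)), (1, (.step [0, 2, 12, 20, 15, 11] (.step [4, 5, 6] .fail))), (1, (.step [3, 20, 6, 15, 20, 4] .fail)), (1, (.step [2, 15, 2, 21, 6, 11, 3, 15] .fail)), (1, (.step [2, 20, 6, 15, 21, 2, 6] (.step [15, 22, 11, 22] .fail))), (1, (.step [3, 12, 3, 12, 3, 6] .fail)), (2, .fail), (1, (.step [2, 12, 6, 21, 15, 2, 11, 2] (.step [4, 15, 11, 11] .fail))), (1, (.step [2, 12, 6, 20, 15, 2, 21, 12, 2] .fail)), (1, (.step [0, 2, 12, 6, 20, 15, 12, 2, 12] .fail)), (1, .fail), (1, (.step [2, 15, 5, 6, 15] (.step [15, 11, 22, 15] .fail))), (1, .fail), (1, (.step [0, 2, 20, 6, 15, 5, 12, 21]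 (.step [4, 11, 15, 5, 22, 15] .fail))), (1, .fail), (1, (.step [2, 15, 12, 3] .fail)), (1, (.step [2, 20, 6, 15, 11, 8, 20] .fail)), (1, (.step [2, 12, 6, 20, 15, 3, 11, 2] .fail)), (1, (.step [0, 2, 12, 6, 20, 15, 8] .fail)), (1, (.step [0, 2, 12, 6, 20, 15, 3, 8, 11] .fail)), (1, (.step [0, 3, 20, 6, 15, 20, 15] .fail)), (1, (.step [2, 12, 6, 20, 3, 15, 3] .fail)), (1, (.step [2, 15, 12, 15, 2] (.step [11, 11, 11, 6] .fail))), (1, (.step [2, 12, 6, 20, 15, 3, 8, 11] .fail)), (1, (.step [2, 12, 6, 15, 12, 15, 3, 20, 6] .fail)), (1, (.step [2, 15, 21, 6, 15, 2, 11, 2, 15] .fail)), (1, (.step [2, 12, 6, 20, 7, 3, 15, 11] (.step [12, 22, 11, 20] .fail))), (1, (.step [3, 12, 6, 20, 3] .fail)), (1, (.step [2, 15, 21, 6, 15, 21, 3, 4] .fail)), (1, (.step [2, 12, 6, 15, 20, 2, 4] .fail)), (1, (.step [2, 15, 2, 12, 6, 12, 15, 8] .fail)),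 (1, (.step [0, 2, 20, 15, 5, 6, 20, 15] (.step [4, 22, 8, 21, 22] .fail))), (1, .fail), (1, (.step [3, 12, 3, 6, 12, 15] .fail)), (1, (.step [2, 20, 2, 6, 15, 20, 15] .fail)), (1, (.step [2, 20, 15, 20, 6, 11, 2, 15] .fail)), (1, (.step [2, 20, 15, 3, 21, 6, 21] .fail)), (1, (.step [2, 20, 6, 15, 21, 8, 11] .fail)), (1, (.step [0, 3, 4] .fail)), (1, .fail), (1, (.step [2, 12, 6, 21, 15, 20, 3, 12] .fail)), (1, .fail), (1, (.step [3, 12, 15, 12] .fail)), (1, (.step [2, 12, 6, 12, 2, 20, 15, 3, 11] .fail)), (2, .fail), (1, (.step [3, 20, 6, 15, 8, 11, 3] (.step [15, 22, 4] .fail))), (1, .fail), (1, (.step [2, 20, 2, 6, 15, 3, 11] .fail)), (1, (.step [3, 12, 15, 12, 6, 11, 15] .fail)), (1, (.step [2, 12, 6, 15, 20, 2, 4, 15] .fail)), (1, .fail), (1, (.step [0, 3, 12, 6, 20, 15, 12, 3, 6] .fail)), (1, (.step [2, 12, 6, 20, 15, 21,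 4] .fail)), (1, (.step [3, 12, 6, 15, 11, 15, 2, 5] .fail)), (1, (.step [2, 20, 6, 15, 11, 3, 11, 6] .fail)), (1, (.step [2, 12, 6, 20, 15, 21, 2] .fail)), (1, (.step [2, 20, 6, 15, 5, 6, 15] .fail)), (1, .fail), (1, (.step [2, 20, 6, 15, 3, 11, 8] .fail)), (1, (.step [2, 12, 6, 20, 2, 20, 2] .fail)), (1, (.step [2, 20, 15, 20, 6, 11, 2] .fail)), (1, (.step [2, 20, 6, 15, 2, 21, 2, 12] (.step [12, 22, 20, 15, 22] .fail))), (2, .fail), (1, (.step [2, 12, 6, 12, 12, 15, 11] .fail)), (1, (.step [0, 3, 20, 15, 2] (.step [4, 8, 22, 4, 21, 15] .fail))), (1, (.step [2, 12, 6, 12, 2, 20, 15, 2, 12] .fail)), (1, (.step [2, 12, 6, 12, 3, 12, 2] (.step [11, 11, 6, 5, 15] .fail))), (1, (.step [2, 12, 6, 21, 15, 5, 6] .fail)), (1, (.step [2, 20, 6, 15, 21, 4, 3, 7] .fail)), (1, (.step [0, 2, 12, 6, 20, 15, 12] .fail)), (1, (.step [2, 20, 6,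 15, 11, 3, 7, 11] .fail)), (2, .fail), (1, (.step [2, 12, 6, 15, 20, 2, 4, 15] (.step [4, 22, 5, 11, 15] .fail))), (1, (.step [3, 20, 6, 15, 21, 2, 20] .fail)), (1, .fail), (1, (.step [2, 20, 6, 15, 11, 8] .fail)), (1, (.step [2, 12, 6, 12, 2, 12, 3, 6] .fail)), (1, (.step [2, 12, 6, 20, 15, 3, 5, 21] .fail)), (1, .fail), (1, (.step [0, 3, 20, 6, 15, 21, 15, 5, 6] .fail)), (1, (.step [2, 12, 6, 20, 15, 2, 20, 6] .fail)), (1, (.step [2, 20, 6, 15, 3, 20, 4] (.step [4, 5, 6, 8] .fail))), (1, (.step [2, 15, 2, 12, 6, 12, 15, 12] .fail)), (1, (.step [0, 3, 20, 15, 2] (.step [4, 8, 22, 4, 21, 15] .fail))), (1, (.step [0, 2, 20, 6, 15, 3, 11, 15] .fail)), (1, .fail), (1, (.step [0, 3, 20, 6, 15, 20, 15, 2] .fail)), (1, (.step [2, 20, 15, 12, 3, 6] .fail)), (2, .fail), (1, (.step [3, 12, 6, 20, 15, 3, 20, 2] (.step [4, 8, 22, 5, 15]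 .fail))), (1, (.step [0, 2, 12, 6, 20, 15, 12, 6] .fail)), (1, (.step [0, 3, 12, 6, 20, 2, 12, 15, 5] .fail)), (1, (.step [2, 12, 6, 15, 20, 4, 15, 3] (.step [15, 5, 12, 12] .fail))), (1, .fail), (1, (.step [0, 3, 20, 6, 15, 2] .fail)), (1, (.step [2, 12, 15, 12, 6, 12, 15, 11, 2] .fail)), (1, (.step [2, 15, 21, 15, 8] .fail)), (1, (.step [2, 12, 6, 20, 15, 12, 5] .fail)), (1, (.step [0, 2, 12, 6, 20, 15, 3, 21, 6] .fail)), (1, (.step [0, 3, 12, 6, 15, 12, 15, 3, 21] .fail)), (1, (.step [3, 12, 6, 15, 11, 15, 5] .fail)), (1, (.step [2, 20, 6, 15, 21, 3, 4] .fail)), (1, .fail), (1, (.step [0, 2, 15, 21, 3, 12, 6, 21] .fail)), (1, (.step [0, 2, 20, 6, 15, 21, 15, 8] (.step [8, 22, 4] .fail))), (1, (.step [0, 3, 20, 6, 15, 2, 11, 15] .fail)), (1, (.step [2, 12, 6, 21, 15, 21] .fail)), (1, .fail), (1, (.step [2, 12, 6, 15, 20, 3,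 4, 15] .fail)), (1, .fail), (1, (.step [2, 12, 6, 21, 15, 21, 15, 3] .fail)), (1, (.step [2, 20, 15, 20, 3] .fail)), (1, .fail), (1, (.step [2, 12, 6, 15, 20, 6, 15, 8] .fail)), (1, (.step [3, 12, 6, 20, 15, 3, 20, 2] (.step [15, 8, 22, 11] .fail))), (1, (.step [2, 12, 6, 21, 15, 20, 12, 12] .fail)), (1, (.step [3, 12, 6, 20, 2, 15, 21] .fail)), (1, (.step [3, 20, 6, 15, 2, 21, 8] .fail)), (1, (.step [2, 12, 6, 20, 15, 12] .fail)), (1, (.step [2, 12, 6, 20, 15, 12, 6, 12] .fail)), (1, (.step [0, 2, 12, 6, 20, 15, 2, 21, 3] .fail)), (3, .fail), (1, (.step [2, 12, 6, 12, 12, 3, 15, 20, 6] .fail)), (1, .fail), (1, (.step [2, 20, 6, 15, 3, 21] (.step [4, 12, 22, 20] .fail))), (1, (.step [2, 20, 6, 15, 21, 3, 12, 21] .fail)), (1, .fail), (1, (.step [2, 12, 6, 20, 15, 12, 2] .fail)), (1, (.step [2, 15, 21, 3, 6, 12, 15, 21] .fail)),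 (1, .fail), (1, (.step [2, 12, 6, 20, 15, 2, 11, 15, 5] (.step [11, 11, 11, 22] .fail))), (1, (.step [2, 12, 6, 15, 12, 15, 12, 3, 12] .fail)), (1, (.step [2, 12, 6, 12, 2, 20, 3, 15] (.step [15, 22] .fail))), (1, (.step [2, 15, 21, 3, 20, 6, 11, 15] (.step [4, 5, 12] .fail))), (1, (.step [2, 20, 6, 15, 8, 11, 15, 3] .fail)), (1, (.step [2, 12, 6, 15, 12, 3, 15, 3] .fail)), (1, .fail), (1, (.step [3, 12, 6, 20, 2, 12, 20] (.step [4, 5, 6] .fail))), (1, (.step [2, 12, 6, 20, 15, 12, 12, 21] .fail)), (1, (.step [0, 2, 12, 12, 6, 15, 21, 3] .fail)), (1, (.step [3, 12, 6, 15, 11, 15, 8] (.step [12, 22, 4] .fail))), (1, (.step [3, 12, 6, 20, 15, 3, 21] .fail)), (1, (.step [2, 12, 6, 20, 3, 15] .fail)), (1, (.step [2, 15, 21, 15, 2] .fail)), (1, (.step [3, 20, 15, 11, 6, 21, 3] (.step [11, 11, 15, 22, 4] .fail))), (1, (.step [2, 20,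 6, 15, 21, 4] .fail)), (1, (.step [0, 3, 12, 6, 15, 12, 15, 12, 3] .fail)), (1, (.step [2, 20, 2, 6, 15, 20, 4, 15] .fail)), (1, .fail), (1, (.step [2, 12, 6, 20, 15, 2, 21, 3] .fail)), (1, (.step [2, 20, 6, 15, 3, 12, 15, 20] (.step [4, 8, 22, 11, 8] .fail))), (1, (.step [2, 12, 6, 20, 15, 21, 6] (.step [4, 22, 11, 4, 15] .fail))), (1, (.step [2, 15, 21, 6, 15, 11, 3, 4] (.step [4, 22, 12, 22, 20] .fail))), (1, (.step [2, 12, 6, 20, 3, 20] .fail)), (1, (.step [2, 12, 6, 12, 2, 20, 15] .fail)), (1, (.step [2, 12, 6, 20, 15, 2, 11, 20] .fail)), (1, (.step [2, 12, 6, 20, 15, 12, 3] .fail)), (1, (.step [2, 15, 2, 11, 6] .fail)), (1, (.step [0, 3, 20, 6, 15, 21, 2, 15] .fail)), (1, (.step [2, 12, 6, 12, 12, 3, 15, 20, 6] .fail)), (1, (.step [2, 15, 2, 21, 6, 11, 3, 15] .fail)), (1, (.step [2, 12, 6, 21, 15, 21, 3, 8] .fail)), (1,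 (.step [2, 20, 6, 15, 11, 11, 3, 15] (.step [4, 22, 5] .fail))), (1, .fail), (1, (.step [2, 20, 6, 15, 21, 15, 3, 21] .fail)), (1, (.step [3, 12, 6, 20, 15, 12, 2, 6] (.step [4, 15, 22, 15] .fail))), (1, (.step [2, 15, 2, 21, 2] .fail)), (1, .fail), (1, (.step [3, 20, 15, 2, 21] .fail)), (1, (.step [0, 3, 12, 6, 15, 21, 2, 21] .fail)), (1, (.step [0, 3, 12, 15, 12, 6, 12, 3, 15] .fail)), (1, .fail), (1, (.step [0, 3, 20, 6, 15, 21, 2, 12, 21] (.step [15, 8, 22, 11] .fail))), (1, (.step [0, 3, 20, 6, 15, 11, 15, 2] .fail)), (1, (.step [0, 2, 12, 6, 20, 15, 3, 11] .fail)), (1, (.step [2, 12, 6, 15, 20, 15, 3, 8] .fail)), (1, .fail), (1, (.step [3, 12, 6, 15, 5, 12] .fail)), (1, (.step [2, 12, 6, 21, 15, 21, 3, 12] .fail)), (1, (.step [2, 12, 6, 15, 20, 15, 3, 12] .fail)), (1, (.step [2, 12, 6, 20, 15, 21] (.step [4, 22, 20, 20,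 15] .fail))), (1, (.step [3, 12, 6, 21, 15, 21, 2] .fail)), (1, (.step [2, 12, 6, 20, 15, 2, 11, 15, 5] (.step [4, 5, 22, 11, 22] .fail))), (1, (.step [2, 15, 21, 6, 15, 5, 15, 2] .fail)), (1, (.step [2, 20, 6, 15, 21, 15, 2] .fail)), (1, (.step [2, 20, 6, 15, 11, 3, 6, 7] .fail)), (1, (.step [3, 12, 6, 20, 15, 5, 4] .fail)), (1, .fail), (1, (.step [2, 20, 6, 15, 3, 20, 12, 15] .fail)), (1, (.step [2, 12, 6, 15, 12, 6, 15, 21, 4] .fail)), (1, .fail), (1, (.step [2, 12, 6, 20, 15, 3, 11, 2, 15] .fail)), (1, (.step [0, 3, 12, 6, 20, 15, 21, 3, 21] .fail)), (1, (.step [2, 12, 6, 20, 7, 15, 12, 2] (.step [15, 22, 15] .fail))), (1, (.step [2, 12, 6, 20, 3, 15, 11, 2] .fail)), (1, (.step [3, 20, 6, 15, 11, 3, 11] .fail)), (1, (.step [2, 15, 21, 6, 15, 11, 11, 2] .fail)), (1, .fail), (1, (.step [2, 11, 15, 11, 6, 11] .fail)), (1, (.step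 [2, 12, 20, 15, 2] .fail)), (1, .fail), (1, (.step [2, 20, 6, 15, 5, 12, 20, 3] .fail)), (1, .fail), (1, (.step [2, 11, 15, 11, 6, 5, 15, 20] .fail)), (1, .fail), (1, (.step [2, 12, 6, 20, 7, 15, 5, 12] .fail)), (1, .fail), (1, (.step [2, 20, 6, 15, 3, 11, 15] (.step [4, 8, 22, 5, 4, 20] .fail))), (1, (.step [2, 12, 6, 15, 12, 15, 12, 3, 21] .fail)), (1, .fail), (1, (.step [2, 20, 6, 15, 20, 12, 15, 2] .fail)), (1, (.step [0, 2, 15, 12, 6, 15, 11, 3, 11] .fail)), (1, (.step [0, 2, 20, 6, 15, 11, 11, 11] .fail)), (1, (.step [2, 20, 6, 15, 2, 11, 2] .fail)), (1, (.step [2, 20, 2, 6, 15, 20] .fail)), (1, (.step [2, 12, 15, 20, 3, 6, 11] .fail)), (1, .fail), (1, (.step [2, 12, 6, 20, 2, 15, 20] .fail)), (1, (.step [3, 12, 6, 20, 15, 21, 3] .fail)), (1, (.step [2, 12, 6, 15, 20, 2] .fail)), (1, (.step [2, 12, 12, 3, 12] (.step [11,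 22, 15, 22, 5] .fail))), (1, (.step [2, 12, 6, 15, 12, 6, 15, 20] .fail)), (3, .fail), (1, (.step [3, 20, 6, 15, 21, 2, 20, 8] .fail)), (1, (.step [2, 12, 6, 20, 15, 3, 11, 6] (.step [4, 22, 5, 4] .fail))), (1, (.step [3, 12, 6, 20, 15, 12, 6] .fail)), (2, .fail), (1, (.step [2, 12, 15, 12, 3, 6, 20, 15] .fail)), (1, .fail), (1, (.step [2, 20, 6, 15, 3, 11, 11] .fail)), (1, (.step [2, 12, 6, 15, 12, 6, 15, 20] .fail)), (1, .fail), (1, (.step [2, 20, 6, 15, 11, 15, 2, 15] .fail)), (1, (.step [2, 12, 6, 20, 7, 15, 12, 2] .fail)), (1, .fail), (1, (.step [3, 12, 6, 15, 11, 15] .fail)), (1, (.step [3, 12, 6, 20, 2, 15] .fail)), (1, (.step [0, 2, 20, 6, 15, 20, 12, 12] .fail)), (1, (.step [3, 4] .fail)), (1, (.step [0, 2, 20, 6, 15, 11, 2, 11] (.step [12, 22, 5, 21] .fail))), (1, (.step [2, 12, 15, 12, 6, 12, 15, 12] .fail)), (2, .fail),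 (1, (.step [3, 12, 3, 6, 12] .fail)), (1, (.step [2, 12, 6, 15, 20, 2, 15, 8] .fail)), (1, (.step [0, 3, 20, 6, 15, 20, 12, 12] .fail)), (1, (.step [0, 2, 20, 6, 15, 12, 3, 15] .fail)), (1, .fail), (1, (.step [2, 20, 6, 15, 21, 2, 4] .fail)), (1, (.step [2, 11, 15, 11, 6, 5, 15, 2] .fail)), (2, .fail), (1, (.step [2, 12, 6, 20, 3, 15, 3, 8] (.step [12, 22, 20, 15] .fail))), (1, (.step [2, 12, 6, 15, 12, 6, 15] .fail)), (1, (.step [2, 12, 6, 15, 12, 15, 3, 21] .fail)), (1, (.step [2, 12, 6, 20, 15, 2, 20] (.step [4, 22, 11, 21] .fail))), (1, (.step [2, 12, 6, 20, 15, 21, 2, 8] (.step [15, 8, 22] .fail))), (1, .fail), (1, (.step [2, 20, 6, 15, 21, 3, 15] .fail)), (1, (.step [2, 20, 6, 15, 21, 3, 4] .fail)), (1, .fail), (1, (.step [2, 12, 6, 20, 7, 3, 20, 15, 12] .fail)), (1, (.step [2, 15, 2, 12, 6, 12, 15, 3, 11] (.step [15, 22,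 20, 6] .fail))), (2, .fail), (1, (.step [0, 2, 12, 6, 20, 15, 3, 21] .fail)), (1, (.step [2, 20, 6, 15, 21, 2, 6] (.step [11, 22, 15, 22, 12] .fail))), (2, .fail), (1, (.step [0, 2, 20, 6, 15, 11, 3, 12] .fail)), (1, (.step [0, 2, 20, 6, 15, 3, 20] .fail)), (1, (.step [3, 12, 6, 20, 2, 15, 12, 15] .fail)), (1, (.step [3, 20, 6, 15, 3, 11, 15] .fail)), (1, (.step [0, 2, 12, 6, 20, 15, 2, 8, 21] .fail)), (1, (.step [2, 15, 12, 6, 15, 12] .fail)), (1, (.step [0, 2, 20, 6, 15, 3, 11, 15, 21] (.step [12, 15] .fail))), (1, (.step [2, 20, 6, 15, 20, 4, 12] .fail)), (1, (.step [3, 20, 15, 11, 6, 21, 3] .fail)), (1, (.step [0, 3, 12, 6, 21, 15, 11, 15] .fail)), (1, (.step [2, 12, 6, 20, 15, 8, 7, 3] .fail)), (1, (.step [3, 12, 6, 20, 15, 3, 20, 12] .fail)), (1, (.step [0, 2, 20, 15, 5, 12, 6] .fail)), (1, (.step [2, 12, 6, 15, 12, 15,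 2, 12] .fail)), (1, (.step [0, 3, 20, 6, 15] .fail)), (1, (.step [0, 3, 12, 15, 12, 6, 11] (.step [15, 22, 11, 11] .fail))), (1, (.step [2, 12, 6, 15, 20, 15, 8] .fail)), (1, (.step [2, 12, 6, 15, 20, 2, 15, 20, 2] .fail)), (1, (.step [2, 12, 6, 20, 15, 2, 11, 11, 20] .fail)), (1, (.step [2, 12, 6, 15, 12, 15, 21] .fail)), (1, .fail), (1, (.step [0, 3, 12, 15, 12, 6, 11, 2] .fail)), (1, (.step [2, 20, 6, 15, 5, 4, 15] .fail)), (1, (.step [3, 20, 6, 15, 5, 12, 12] (.step [4, 8, 20, 6] .fail))), (1, (.step [2, 12, 6, 15, 20, 2, 15, 12, 15] (.step [11, 11, 15, 21, 22] .fail))), (1, (.step [2, 12, 6, 20, 15, 12, 5] .fail)), (1, (.step [0, 3, 20, 6, 15, 5, 4] .fail)), (1, (.step [2, 12, 6, 15, 20, 15, 2] (.step [15, 5, 12, 12] .fail))), (1, (.step [2, 12, 6, 15, 12, 15, 2, 8] .fail)), (1, (.step [3, 12, 6, 15, 11, 15, 3, 8] .fail)),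 (1, .fail), (1, (.step [2, 20, 6, 15, 5, 15, 3, 7] .fail)), (1, .fail), (1, (.step [2, 15, 2, 12, 6, 20, 2] .fail)), (1, (.step [3, 12, 6, 20, 2, 15, 5, 12] .fail)), (1, (.step [3, 12, 20, 2] .fail)), (1, (.step [0, 2, 20, 6, 15, 11, 2, 12] .fail)), (1, .fail), (1, (.step [2, 20, 15, 11, 3] .fail)), (1, (.step [2, 11, 15, 11, 6, 5, 15, 2] .fail)), (1, (.step [3, 12, 3, 20, 6, 11, 2] .fail)), (1, (.step [2, 12, 6, 15, 12, 6, 15, 3, 11] .fail)), (1, (.step [0, 2, 20, 2, 6, 15, 12] (.step [4, 15, 22, 15] .fail))), (1, (.step [3, 20, 6, 15, 21, 4, 3, 15] .fail)), (1, (.step [3, 12, 3, 12, 6, 21] .fail)), (1, (.step [2, 12, 6, 20, 15, 21, 2, 8, 12] .fail)), (1, (.step [2, 12, 6, 20, 15, 8] .fail)), (1, (.step [0, 3, 12, 6, 20, 15, 3, 20] (.step [4, 5, 15, 8] .fail))), (1, (.step [3, 20, 15, 2, 8] .fail)), (1, (.step [3, 20, 6, 15,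 5, 15, 3] .fail)), (1, (.step [2, 12, 6, 21, 15, 21, 4, 3] .fail)), (1, (.step [2, 20, 6, 15, 11, 11, 11, 2] (.step [4, 5, 22, 5, 15] .fail))), (1, (.step [3, 20, 6, 15, 5, 15, 3, 20] .fail)), (1, (.step [0, 2, 12, 6, 21, 3, 11, 15] (.step [11, 22, 11, 15, 22] .fail))), (1, (.step [2, 20, 15, 3, 21, 6, 12] .fail)), (1, .fail), (1, (.step [2, 12, 6, 20, 15, 2, 21, 6, 21] .fail)), (1, (.step [3, 20, 6, 15, 3, 20, 12] .fail)), (1, (.step [2, 12, 6, 20, 7, 15, 2, 11] .fail)), (1, (.step [2, 20, 6, 15, 20, 4, 12] .fail)), (1, (.step [2, 20, 6, 15, 3, 7, 11, 15] .fail)), (1, (.step [0, 3, 12, 6, 15, 21, 2, 21] .fail)), (1, .fail), (1, (.step [3, 12, 3, 6, 12, 15, 11, 21] .fail)), (1, (.step [2, 12, 6, 21, 3] (.step [4, 22, 11, 8, 21] .fail))), (1, (.step [2, 12, 6, 15, 20, 2, 15] .fail)), (2, .fail), (1, (.step [2, 11, 15, 11, 6, 5,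 15, 5] .fail)), (1, (.step [2, 15, 21, 6, 15, 11, 3, 7] .fail)), (1, (.step [0, 2, 20, 6, 15, 11, 15, 11] .fail)), (1, (.step [0, 3, 12, 6, 20, 2, 20, 15, 8] .fail)), (1, (.step [0, 2, 20, 6, 15, 21, 4, 3, 11] .fail)), (1, (.step [0, 2, 20, 15, 21, 6, 12, 15] .fail)), (1, (.step [2, 20, 6, 15, 11, 11] .fail)), (1, (.step [3, 12, 6, 20, 2, 15, 21, 11] .fail)), (1, (.step [3, 20, 6, 15, 11, 8] .fail)), (1, .fail), (1, (.step [2, 12, 6, 21, 15, 21, 15, 3] .fail)), (1, (.step [2, 20, 6, 15, 3, 21, 15, 12] (.step [4, 11, 4, 22, 11] .fail))), (1, (.step [3, 20, 6, 15, 11, 3, 7] .fail)), (1, .fail), (1, (.step [3, 12, 6, 20, 2, 20, 15] .fail)), (1, (.step [2, 15, 21, 3, 4, 21, 6] .fail)), (1, (.step [0, 3, 20, 15, 11, 6, 21, 3] .fail)), (1, (.step [2, 20, 6, 15, 11, 2, 21, 15] .fail)), (1, (.step [0, 2, 20, 6, 15, 11, 11, 6] .fail)),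 (1, (.step [2, 12, 6, 15, 20, 3, 15, 20, 15] .fail)), (1, (.step [2, 12, 6, 20, 15, 2, 11, 3] (.step [4, 22, 11, 8] .fail))), (1, (.step [2, 12, 6, 20, 15, 12, 12, 21, 2] .fail)), (1, (.step [2, 15, 21, 6, 15, 8, 11, 3] (.step [4, 5, 22, 5, 11] .fail))), (1, (.step [0, 3, 20, 15, 20, 6, 11, 3] .fail)), (1, (.step [2, 15, 21, 6, 15, 21, 3, 15] .fail)), (1, .fail), (1, (.step [0, 3, 12, 15, 12, 6, 12, 3, 15] .fail)), (1, (.step [2, 20, 6, 15, 12, 3, 4] .fail)), (1, .fail), (1, (.step [2, 12, 6, 15, 12, 6, 15] .fail)), (1, (.step [0, 2, 12, 6, 20, 15, 2, 8, 21] .fail)), (1, .fail), (1, (.step [2, 12, 6, 15, 12, 15, 21] .fail)), (1, .fail), (1, (.step [0, 2, 20, 6, 15, 3, 11] .fail)), (2, .fail), (1, (.step [2, 20, 6, 15, 2, 5, 4] .fail)), (1, (.step [2, 12, 15, 12, 6, 12, 15, 8] .fail)), (1, (.step [2, 15, 21, 3, 6, 20, 15, 11] .fail)),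 (1, (.step [2, 12, 6, 20, 15, 2, 8, 12] .fail)), (4, .fail), (1, (.step [2, 12, 6, 20, 15, 3, 21, 6] .fail)), (1, (.step [0, 3, 12, 6, 20, 15, 2] .fail)), (1, (.step [3, 12, 6, 20, 15, 21, 3, 21] .fail)), (1, (.step [3, 20, 6, 15, 11, 3, 11, 6] .fail)), (1, (.step [0, 2, 20, 6, 15, 21, 2] .fail)), (1, .fail), (1, (.step [3, 20, 6, 15, 21, 2, 4, 15] .fail)), (1, (.step [2, 12, 6, 20, 7, 15, 5, 12, 3] .fail)), (1, (.step [2, 15, 21, 6, 15, 21, 3, 8] .fail)), (1, (.step [3, 20, 15, 11, 6, 21, 2] .fail)), (1, (.step [2, 15, 12, 2, 6, 15, 5, 12] .fail)), (1, (.step [2, 20, 15, 11, 6, 20, 4] (.step [15, 22, 8, 15] .fail))), (1, (.step [2, 20, 2, 6, 15, 20, 4] .fail)), (1, (.step [2, 15, 2, 12, 6, 12, 3] .fail)), (1, (.step [2, 11, 15, 11, 8] .fail)), (1, (.step [2, 12, 6, 15, 20, 3, 15, 5, 12] .fail)), (1, (.step [2, 20, 6, 15, 11,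 11, 3, 4] .fail)), (1, (.step [2, 12, 6, 20, 15, 3, 11, 6] .fail)), (1, (.step [2, 15, 12, 6, 15, 11, 3, 11] .fail)), (1, .fail), (1, (.step [0, 2, 20, 15, 21, 6, 12, 12] .fail)), (1, (.step [2, 20, 15, 8] .fail)), (1, .fail), (1, (.step [3, 20, 15, 11, 6, 21, 2] .fail)), (1, (.step [2, 20, 6, 15, 11, 3, 15, 8] .fail)), (1, (.step [3, 20, 6, 15, 11, 15, 3, 15] .fail)), (1, .fail), (1, (.step [2, 20, 15, 21, 6, 21] .fail)), (1, (.step [2, 20, 6, 15, 11, 11, 20, 2] .fail)), (1, (.step [3, 20, 6, 15, 20, 4] .fail)), (1, (.step [2, 12, 6, 12, 12, 2, 15, 12] .fail)), (1, (.step [3, 12, 6, 20] .fail)), (1, (.step [2, 12, 6, 15, 12, 15, 3, 21] .fail)), (1, (.step [3, 12, 6, 15, 12, 15, 3, 12] .fail)), (1, (.step [2, 12, 6, 20, 15, 12, 2] .fail)), (1, (.step [2, 15, 12, 6, 15, 11, 8] .fail)), (1, (.step [2, 20, 6, 15, 5, 4, 6] .fail)),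 (1, (.step [2, 12, 6, 20, 15, 3, 12, 5] (.step [4, 22, 11, 22] .fail))), (1, (.step [2, 12, 6, 15, 12, 6, 15, 3, 11] .fail)), (1, (.step [2, 12, 6, 21, 15, 11, 3, 8] .fail)), (1, (.step [2, 15, 21, 15, 11] .fail)), (1, (.step [2, 12, 6, 15, 20, 4, 15, 3] .fail)), (1, (.step [3, 12, 15, 21] .fail)), (1, (.step [2, 12, 6, 20, 15, 3, 11, 6] .fail)), (1, (.step [0, 2, 12, 6, 20, 15, 12, 2, 12] .fail)), (1, (.step [3, 12, 6, 20, 3, 7] .fail)), (1, (.step [2, 20, 6, 15, 21, 8, 11] .fail)), (1, (.step [2, 12, 6, 20, 7, 3, 15, 11] .fail)), (1, (.step [0, 2, 15, 21, 3, 6, 12, 15, 21] .fail)), (1, (.step [0, 2, 20, 6, 15, 3, 12] (.step [11, 15, 22, 21, 11] .fail))), (1, (.step [0, 2, 20, 6, 15, 21, 15, 5] .fail)), (1, (.step [3, 12, 3, 6, 12, 15, 2, 20] .fail)), (1, (.step [2, 12, 6, 15, 12, 15, 21] .fail)), (1, (.step [2, 12, 6, 12, 2,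 20, 3, 15, 21] .fail)), (1, (.step [2, 20, 6, 15, 11, 3, 12, 21] .fail)), (1, (.step [2, 12, 6, 15, 20, 6, 15, 8] .fail)), (1, (.step [3, 12, 6, 20, 15, 3, 20, 2] .fail)), (1, (.step [3, 12, 6, 21, 2, 21, 8] .fail)), (1, (.step [2, 20, 6, 15, 11, 11, 3, 12] .fail)), (1, (.step [2, 12, 6, 20, 15, 2, 21, 2] .fail)), (1, (.step [2, 20, 6, 15, 11, 3, 20, 15] .fail)), (1, (.step [0, 2, 20, 6, 15, 11, 2, 12] .fail)), (1, (.step [3, 20, 6, 15, 3, 5] .fail)), (1, (.step [2, 12, 6, 12, 2, 20, 2] .fail)), (1, (.step [2, 20, 6, 15, 2, 21, 3] .fail)), (1, (.step [2, 12, 6, 20, 15, 3, 21, 4] .fail)), (1, .fail), (1, (.step [3, 20, 6, 15, 3, 11, 15, 21] .fail)), (1, (.step [0, 3, 12, 6, 20, 15, 12] .fail)), (1, (.step [3, 12, 15, 12, 6, 11, 15, 11] (.step [4, 5, 6, 15, 8] .fail))), (1, (.step [3, 12, 6, 20, 15, 12, 3, 15] .fail)), (1, (.step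 [2, 20, 6, 15, 21, 3, 11, 11] .fail)), (1, (.step [2, 20, 6, 15, 3, 8, 11, 15] .fail)), (1, (.step [0, 3, 20, 6, 15, 11, 3, 11, 11] .fail)), (1, (.step [2, 12, 6, 15, 21, 3, 11, 15] .fail)), (1, (.step [3, 20, 6, 15, 20, 12] (.step [4, 21, 15, 22] .fail))), (1, (.step [2, 20, 6, 15, 11, 15] .fail)), (1, .fail), (1, (.step [2, 12, 15, 12, 6, 12, 15, 11] .fail)), (1, (.step [3, 20, 6, 15, 21, 2, 4, 15] .fail)), (1, (.step [0, 3, 12, 6, 20, 15, 3, 4] .fail)), (1, (.step [2, 15, 21, 3, 6, 20, 15, 20, 2] .fail)), (1, (.step [3, 20, 15, 11, 6, 21, 2] .fail)), (1, (.step [2, 12, 6, 12, 12] .fail)), (1, (.step [2, 15, 2, 11, 6, 11, 3] .fail)), (1, (.step [2, 12, 6, 20, 15, 21, 2, 4] .fail)), (1, (.step [2, 12, 6, 20, 7, 15, 5, 12] .fail)), (1, (.step [2, 12, 6, 20, 15, 2, 5, 6, 20] .fail)), (1, (.step [2, 15, 21, 6, 15, 8, 11, 3] .fail)),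 (1, (.step [2, 12, 6, 20, 15, 2, 5, 6, 20] .fail)), (1, (.step [3, 20, 6, 15, 8, 11, 15] .fail)), (1, (.step [0, 3, 20, 6, 15, 5, 8] (.step [4, 15, 22, 5, 15, 22] .fail))), (1, (.step [3, 20, 15, 20, 6, 11] .fail)), (1, (.step [2, 12, 6, 15, 20, 4, 3, 15] .fail)), (1, (.step [2, 12, 6, 12, 2, 20, 8] .fail)), (1, (.step [0, 2, 20, 6, 15, 21, 15, 5] .fail)), (1, .fail), (1, (.step [0, 3, 20, 6, 15, 8, 11] .fail)), (1, (.step [0, 3, 12, 6, 20, 15, 2] .fail)), (1, (.step [2, 20, 6, 15, 11, 3, 8, 21] .fail)), (1, (.step [2, 12, 6, 20, 15, 3, 5, 12] .fail)), (1, (.step [0, 2, 12, 6, 20, 15, 12, 6] .fail)), (1, (.step [2, 20, 6, 15, 21, 3, 4, 15] (.step [4, 22, 5, 6] .fail))), (1, (.step [3, 12, 6, 15, 21, 2, 15] .fail)), (1, (.step [2, 15, 21, 6, 15, 11, 3] .fail)), (1, (.step [0, 2, 12, 6, 20, 15, 5, 4] .fail)), (1, (.step [2, 15,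 21, 3, 6, 7, 20] .fail)), (2, .fail), (1, (.step [2, 12, 6, 20, 15, 2, 20] .fail)), (1, (.step [3, 12, 6, 20, 15, 3, 20, 6] .fail)), (1, (.step [0, 2, 12, 6, 20, 15, 3, 21, 15] (.step [12, 22, 11, 8, 22] .fail))), (1, (.step [2, 12, 6, 20, 15, 3, 21, 12] .fail)), (1, (.step [2, 20, 15, 21, 6] .fail)), (1, .fail), (1, (.step [2, 12, 6, 21, 15, 21, 11, 15] .fail)), (1, (.step [0, 3, 20, 6, 15, 2, 21] (.step [4, 11, 15, 22, 11] .fail))), (1, .fail), (1, (.step [2, 12, 6, 15, 12, 6, 15, 2, 12] (.step [4, 5, 22, 11] .fail))), (1, (.step [0, 2, 20, 6, 15, 11, 11] (.step [11, 11, 11, 6, 22] .fail))), (2, .fail), (1, (.step [0, 3, 12, 6, 20, 2, 15, 21] .fail)), (1, (.step [2, 12, 6, 21, 15, 21, 3, 4] .fail)), (1, (.step [2, 12, 6, 20, 15, 21, 2, 4] .fail)), (1, (.step [3, 20, 6, 15, 2, 11, 15] .fail)), (1, (.step [0, 2, 12, 6, 20, 7,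 3, 15, 20] .fail)), (1, (.step [2, 12, 6, 15, 12, 6, 15, 20] .fail)), (1, (.step [2, 12, 6, 20, 15, 5, 12] (.step [4, 5, 6, 22] .fail))), (1, (.step [0, 3, 20, 6, 15, 11, 15, 2] .fail)), (1, (.step [2, 12, 6, 20, 15, 21, 6, 8] .fail)), (1, (.step [3, 20, 6, 15, 20, 12] .fail)), (1, .fail), (1, (.step [3, 12, 3, 6, 12, 15, 20] .fail)), (1, (.step [2, 20, 2, 6, 20, 15] (.step [11, 22, 15, 8] .fail))), (1, (.step [2, 15, 2, 11, 6, 11, 3] .fail)), (1, (.step [2, 12, 6, 20, 7, 3, 15, 12] (.step [4, 15, 22, 11, 8] .fail))), (1, (.step [0, 2, 12, 6, 20, 15, 3, 21, 15] .fail)), (1, (.step [0, 2, 12, 6, 20, 15, 3, 12] .fail)), (1, (.step [0, 3, 20, 15, 11, 6, 21, 3] .fail)), (2, .fail), (1, (.step [2, 12, 6, 20, 15, 21, 6, 8] .fail)), (1, (.step [2, 20, 15, 21, 6, 12] .fail)), (1, (.step [3, 12, 3, 6, 12, 15, 3, 20, 3] .fail)), (1, (.step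 [2, 12, 6, 12, 3, 20, 3, 15] (.step [4, 22, 11, 8, 21] .fail))), (1, (.step [2, 12, 15, 12, 6, 21, 15, 8] (.step [12, 22, 20, 8] .fail))), (1, (.step [2, 12, 6, 20, 15, 2, 21, 6, 21] .fail)), (1, (.step [2, 12, 6, 15, 20, 3, 15] .fail)), (1, (.step [2, 15, 21, 2, 6, 21] .fail)), (1, (.step [2, 12, 12, 3, 6, 21, 3] .fail)), (1, (.step [2, 15, 12, 6, 15, 21, 3, 8] .fail)), (1, .fail), (1, (.step [2, 20, 2, 6] .fail)), (1, (.step [3, 20, 6, 15, 11, 15, 2, 15] (.step [4, 5, 12] .fail))), (1, (.step [2, 12, 6, 20, 15, 12, 3, 6, 12] .fail)), (1, .fail), (1, (.step [2, 12, 6, 12, 2, 20, 8] .fail)), (1, (.step [2, 15, 21, 3, 4, 21] .fail)), (1, (.step [2, 20, 15, 21, 6, 12, 12, 3] .fail)), (1, (.step [2, 15, 12, 6, 15, 21, 2, 8] .fail)), (1, (.step [2, 15, 12, 6, 15, 21, 3, 7] (.step [4, 15, 22, 4, 12] .fail))), (1, (.step [2, 12, 6,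 21, 15, 21, 15, 2] .fail)), (1, (.step [3, 20, 6, 15, 12, 12, 3] (.step [12, 22, 12, 6, 22] .fail))), (1, .fail), (1, (.step [2, 20, 6, 15, 11, 3, 11, 21] .fail)), (1, (.step [0, 3, 20, 6, 15, 2, 21, 15] (.step [4, 22, 15, 8] .fail))), (1, (.step [2, 12, 6, 12, 12, 3] .fail)), (1, .fail), (1, (.step [0, 3, 12, 6, 20, 15, 3, 20, 4] .fail)), (1, (.step [0, 2, 20, 6, 15, 11, 11, 2, 20] (.step [8, 22, 12, 22, 4] .fail))), (2, .fail), (1, (.step [0, 3, 12, 6, 20, 2, 12, 6, 15] .fail)), (1, .fail), (1, (.step [0, 2, 12, 6, 20, 7, 3, 15, 5] .fail)), (1, (.step [2, 20, 6, 15, 11, 3, 11, 21] .fail)), (1, (.step [0, 3, 12, 6, 20, 2, 15, 5] .fail)), (1, .fail), (1, (.step [0, 2, 20, 6, 15, 11, 11, 11, 2] .fail)), (1, (.step [2, 15, 21, 6, 15, 5, 15, 2] .fail)), (1, .fail), (1, (.step [2, 12, 6, 12, 12, 3, 7] .fail)), (2, .fail), (1, (.step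 [2, 12, 6, 15, 20, 3, 15, 11, 15] .fail)), (1, (.step [0, 2, 12, 6, 20, 15, 21, 3, 8] .fail)), (1, (.step [2, 20, 6, 15, 21, 2, 11, 3] .fail)), (1, (.step [2, 15, 21, 3, 6, 7, 21] (.step [8, 11, 22, 21] .fail))), (1, (.step [0, 2, 20, 6, 15, 21] .fail)), (1, (.step [2, 15, 2, 21, 6, 11, 2] (.step [12, 22, 21] (.step [6, 5, 17] (.step [5, 23] .fail))))), (1, (.step [3, 20, 6, 15, 11, 11, 3] (.step [12, 22, 11, 11, 11] .fail))), (1, (.step [2, 20, 6, 15, 5, 6] .fail)), (1, (.step [2, 12, 6, 20, 15, 2, 8, 15] .fail)), (1, (.step [2, 12, 6, 20, 15, 21, 2, 11] .fail)), (1, (.step [2, 12, 6, 21, 15, 21, 15, 3] .fail)), (1, (.step [2, 12, 6, 12, 12, 15, 21, 2] .fail)), (1, (.step [2, 12, 6, 12, 3, 20, 3, 7] (.step [4, 11, 4, 6] .fail))), (1, (.step [0, 3, 12, 6, 15, 12, 15, 3, 21] .fail)), (1, (.step [2, 20, 15, 5, 12, 6] (.step [4,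 21, 4, 22] .fail))), (1, (.step [2, 15, 21, 6, 15, 2, 11, 2] .fail)), (1, (.step [0, 3, 12, 6, 15, 12, 15, 2, 8] .fail)), (1, (.step [2, 12, 6, 20, 7, 3] .fail)), (1, (.step [2, 12, 6, 15, 20, 3, 15, 2] (.step [4, 22, 12, 22] (.step [6, 17, 14] (.step [20] .fail))))), (1, (.step [0, 3, 12, 6, 15] .fail)), (1, (.step [2, 20, 6, 15, 20, 4, 20] .fail)), (1, .fail), (1, (.step [0, 3, 12, 6, 15, 21] .fail)), (1, (.step [3, 20, 6, 15, 2, 21, 15, 12] .fail)), (1, (.step [3, 12, 15, 12, 6, 12, 3, 15] .fail)), (2, .fail), (1, (.step [3, 12, 3, 20, 6, 11, 15, 8] .fail)), (1, (.step [2, 20, 6, 15, 20, 12, 6] (.step [4, 5, 6, 22, 4] .fail))), (1, (.step [0, 3, 20, 6, 15, 2, 11, 15, 5] .fail)), (1, (.step [2, 12, 6, 15, 12, 3, 12, 15] .fail)), (1, (.step [0, 2, 12, 6, 20, 15, 2, 12, 15] .fail)), (1, (.step [0, 2, 20, 6, 15, 3, 21, 15, 21]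 .fail)), (1, (.step [3, 20, 6, 15, 21, 3, 8] (.step [4, 8, 22, 8, 11] .fail))), (1, (.step [0, 3, 20, 6, 15, 8, 11, 15] .fail)), (1, (.step [2, 12, 6, 20, 7, 3, 15, 12] (.step [8, 22, 5, 15] .fail))), (1, (.step [2, 20, 6, 15, 11, 3, 20, 15] .fail)), (1, (.step [3, 12, 6, 15, 12, 15] .fail)), (1, (.step [2, 12, 6, 20, 7, 15, 5, 12] (.step [4, 5, 6, 8] .fail))), (1, (.step [2, 12, 6, 12, 3, 20, 2, 15, 11] .fail)), (1, (.step [2, 12, 6, 15, 12, 15, 5, 15] (.step [15, 22, 20, 6, 15] .fail))), (1, (.step [2, 20, 6, 15, 5, 15, 20, 3] (.step [15, 22, 21, 4] .fail))), (1, (.step [2, 20, 2, 6, 15, 20, 4, 3] .fail)), (1, (.step [3, 20, 6, 15, 3, 11, 15] .fail)), (1, (.step [2, 20, 6, 15, 21, 4, 15, 3] .fail)), (1, (.step [2, 12, 6, 21, 2, 11, 15, 20] .fail)), (1, (.step [2, 15, 21, 2, 6, 21, 15, 11] .fail)), (1, (.step [3, 12, 6, 20, 15,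 12, 2] .fail)), (1, (.step [2, 20, 6, 15, 3, 5, 12] (.step [12, 22, 20, 15, 22] .fail))), (1, (.step [3, 20] .fail)), (1, (.step [2, 20, 6, 15, 2, 5, 4] .fail)), (1, (.step [0, 2, 20, 6, 15, 11, 15, 12] (.step [8, 22, 4, 11, 15] (.step [13] (.step [5, 22, 19] .fail))))), (1, (.step [2, 15, 21, 6, 15, 21] .fail)), (1, (.step [2, 12, 6, 15, 12, 15, 2, 8, 12] (.step [4, 5, 6, 15] .fail))), (1, (.step [2, 12, 6, 20, 15, 3, 21] .fail)), (1, (.step [2, 12, 6, 12, 12, 15, 21, 6] .fail)), (1, (.step [0, 2, 20, 6, 15, 21, 3] (.step [15, 22, 12, 7] .fail))), (1, (.step [2, 15, 12, 6, 15, 21, 3, 7] (.step [4, 15, 22, 4, 12] .fail))), (1, (.step [2, 12, 6, 15, 20, 15] .fail)), (1, (.step [2, 20, 15, 12, 6, 21] .fail)), (1, (.step [2, 15, 21, 3, 6, 20, 15, 11] .fail)), (1, (.step [0, 2, 12, 6, 20, 15, 3, 12] .fail)), (1, (.step [2, 12, 6,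 20, 7, 15, 21, 2, 21] .fail)), (1, .fail), (1, (.step [0, 3, 20, 6, 15, 11, 8, 11] .fail)), (1, (.step [0, 2, 20, 6, 15, 21] .fail)), (1, .fail), (1, (.step [0, 2, 20, 6, 15, 11, 3, 7] (.step [4, 5, 22, 4, 21] .fail))), (1, (.step [2, 12, 6, 15, 12, 3, 15, 11] .fail)), (1, (.step [2, 12, 6, 15, 20, 2, 15, 5, 11] .fail)), (1, (.step [0, 2, 15, 21, 6, 15, 11] (.step [4, 5, 15, 5, 22] .fail))), (1, (.step [0, 2, 20, 6, 15, 11, 11] .fail)), (1, (.step [2, 20, 6, 15, 3, 12, 15, 11] .fail)), (1, .fail), (1, (.step [2, 20, 6, 15, 5, 12, 3, 21] (.step [4, 22, 20, 4, 20] .fail))), (1, (.step [2, 12, 6, 15, 12, 3, 15, 21] .fail)), (1, (.step [0, 2, 15, 2, 12] (.step [4, 5, 15, 5, 15] .fail))), (1, (.step [0, 2, 12, 6, 12, 3, 15] (.step [4, 5, 8, 22, 4] .fail))), (1, (.step [3, 12] (.step [4, 11, 6] .fail))), (1, (.step [0, 2, 20, 6, 15,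 21, 3, 12] .fail)), (1, .fail), (1, (.step [2, 12, 6, 20, 15, 12, 6, 12] .fail)), (2, .fail), (1, (.step [2, 12, 6, 20, 15, 3, 12, 15, 5] .fail)), (1, (.step [2, 20, 6, 15, 5, 6, 12] .fail)), (1, (.step [0, 2, 20, 6, 15, 8, 7] .fail)), (1, (.step [3, 20, 6, 15, 21, 2, 8, 12, 15] .fail)), (1, (.step [2, 12, 6, 20, 3, 15, 3, 12] .fail)), (1, (.step [2, 12, 6, 12, 12, 3, 15, 20, 12] .fail)), (1, (.step [3, 20, 6, 15, 21, 15, 3, 4] .fail)), (1, (.step [2, 12, 6, 15, 12, 6, 15, 2] .fail)), (2, .fail), (1, (.step [2, 20, 6, 15, 11, 11, 3, 4] .fail)), (1, (.step [2, 12, 6, 12, 12, 3, 12] .fail)), (1, (.step [0, 3, 12, 15, 12, 6, 12, 15] (.step [15, 11, 11] .fail))), (1, .fail), (1, (.step [2, 20, 2, 6, 15, 3, 21, 8] .fail)), (1, (.step [2, 12, 6, 15, 12, 15, 12, 3, 21] .fail)), (1, (.step [3, 20] .fail)), (1, (.step [2, 15, 21, 6, 15,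 21, 3] .fail)), (1, (.step [0, 2, 15, 12, 6, 15, 21, 3] .fail)), (1, (.step [2, 15, 21, 6, 15, 5, 15] (.step [4, 22, 20, 20] .fail))), (1, (.step [2, 12, 6, 15, 20, 2, 15, 20, 7] (.step [11, 15, 22, 21, 11] .fail))), (1, (.step [2, 12, 6, 20, 7, 15, 5, 12] .fail)), (1, (.step [2, 20, 2] .fail)), (1, (.step [0, 3, 20, 6, 15, 21, 3] .fail)), (1, (.step [2, 20, 2] .fail)), (1, (.step [2, 15, 21, 6, 15, 8, 11] .fail)), (1, (.step [2, 12, 6, 15, 12, 15, 20, 3, 11] .fail)), (1, (.step [2, 20, 6, 15, 5, 12, 3] .fail)), (1, .fail), (1, (.step [0, 2, 20, 15, 5, 6, 20] .fail)), (1, .fail), (1, (.step [2, 12, 6, 12, 12, 15, 21, 6] .fail)), (1, (.step [2, 20, 6, 15, 21, 2] .fail)), (1, (.step [2, 12, 6, 15, 20, 15] .fail)), (1, (.step [0, 3, 12, 6, 15, 12, 12] .fail)), (1, (.step [2, 12, 6, 20, 15, 3, 21, 8] .fail)), (1, (.step [2, 20, 6,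 15, 12, 12, 2] .fail)), (1, (.step [2, 20, 6, 15, 5, 15, 11] .fail)), (1, (.step [2, 20, 6, 15, 21, 15, 21, 3] .fail)), (1, (.step [2, 12, 6, 15, 20, 15, 3, 8, 20] .fail)), (1, (.step [0, 3, 12, 6, 20, 15, 3, 20] .fail)), (1, .fail), (1, (.step [2, 15, 21, 3, 6, 20, 15, 20, 2] .fail)), (1, (.step [2, 20, 6, 15, 12, 3, 4, 21] .fail)), (1, (.step [2, 20, 6, 15, 5, 15, 3] .fail)), (1, (.step [2, 20, 6, 15, 5, 4, 21, 3] (.step [8, 22, 11, 22, 8] .fail))), (1, (.step [2, 12, 6, 21, 15, 21, 3, 7] .fail)), (1, (.step [0, 3, 12, 6, 20, 2, 12, 15] .fail)), (1, (.step [2, 15, 12, 6, 15, 2, 11] (.step [11, 15, 22, 5, 15] .fail))), (1, (.step [0, 3, 20, 6, 15, 11, 2, 8] (.step [4, 8, 22, 12, 15] .fail))), (1, (.step [3, 12, 6, 15, 12, 15, 3] .fail)), (1, (.step [3, 12, 3, 12, 6, 21, 15, 21] .fail)), (1, (.step [0, 3, 20, 6, 15, 11, 2] .fail)),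 (1, (.step [2, 12, 15, 12, 6, 21, 15] .fail)), (1, (.step [2, 12, 6, 20, 15, 3, 12, 15, 5] .fail)), (1, (.step [2, 20, 2, 6, 11, 11, 3] .fail)), (1, (.step [2, 20, 6, 15, 11, 3, 11] .fail)), (1, (.step [0, 3, 20, 6, 15, 20, 12, 3] .fail)), (1, .fail), (1, (.step [0, 3, 12, 6, 20, 2, 12, 15] .fail)), (1, (.step [2, 12, 6, 12, 12, 3, 15, 20, 12] .fail)), (1, (.step [2, 12, 6, 20, 15, 3, 12, 15, 5] .fail)), (1, .fail), (1, (.step [2, 12, 6, 20, 3, 7, 3] (.step [11, 11, 6, 21] (.step [16, 16, 6, 14] (.step [5, 19] .fail))))), (1, (.step [2, 12, 6, 20, 15, 2, 21, 7, 3] .fail)), (1, (.step [0, 3, 20, 6, 15, 21] .fail)), (1, (.step [3, 20, 6, 15, 2, 12] .fail)), (1, (.step [0, 2, 12, 6, 20, 15, 21, 3, 12] .fail)), (1, (.step [3, 12, 6, 15, 12, 15, 20, 2] .fail)), (1, (.step [2, 15, 12, 2, 6, 15, 12] .fail))])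

/-- a piece of a certificate -/
noncomputable def cT2_2 : Cert := (Cert.rl [(1, (.step [2, 12, 6, 15, 12, 15, 20, 3, 15] (.step [12, 22, 11, 21] .fail))), (1, (.step [0, 2, 20, 15, 21, 6, 21] .fail)), (1, (.step [2, 20, 15, 12, 6, 20, 4, 3] .fail)), (1, (.step [2, 15, 12, 6, 15, 2, 11] (.step [4, 22, 5, 4, 21] .fail))), (1, (.step [2, 12, 6, 12, 12] .fail)), (1, (.step [0, 2, 12, 6, 20, 15, 2, 11, 15] .fail)), (1, (.step [2, 15, 21, 3, 20, 6, 11] .fail)), (1, (.step [3, 12, 6, 21, 15, 11, 3] .fail)), (1, (.step [2, 15, 21, 3, 6, 12, 15, 11] .fail)), (1, (.step [2, 20, 15, 5, 6, 20, 15] (.step [11, 15, 22, 8, 21] .fail))), (1, (.step [2, 12, 6, 20, 15, 21, 2, 6] .fail)), (1, (.step [0, 2, 20, 6, 15, 2, 11] .fail)), (1, (.step [0, 3, 20, 6, 15, 3] .fail)), (1, (.step [2, 20, 6, 15, 11, 3, 11] .fail)), (1, .fail), (1, (.step [2,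 20, 6, 15, 2, 21, 3] .fail)), (1, .fail), (1, (.step [2, 12, 6, 20, 15, 2, 12, 5] (.step [12, 22, 5] .fail))), (1, (.step [3, 12, 6, 20, 15, 3, 12] .fail)), (1, .fail), (1, (.step [0, 3, 12, 6, 20, 15, 21, 3, 21] .fail)), (1, (.step [2, 12, 6, 12, 12, 15, 21, 2, 11] (.step [4, 22, 15, 21] .fail))), (1, (.step [2, 20, 6, 15, 20, 3, 20, 15] .fail)), (1, (.step [2, 20, 6, 15, 21, 3, 11, 8] .fail)), (1, (.step [2, 12, 6, 12, 12, 2, 15, 12] .fail)), (1, (.step [3, 20, 6, 15, 11, 21] .fail)), (1, (.step [2, 15, 21, 3, 6, 7] .fail)), (1, .fail), (1, (.step [2, 12, 6, 20, 7, 15, 2] (.step [8, 22, 11] .fail))), (1, (.step [2, 15, 5, 6] .fail)), (1, (.step [2, 20, 6, 15, 21, 15, 21, 3] .fail)), (1, (.step [2, 12, 6, 20, 15, 21, 2, 8, 12] .fail)), (1, (.step [2, 12, 6, 20, 15, 5, 4, 12] .fail)), (1, (.step [0, 3, 12, 15, 12, 6, 11] .fail)),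 (1, (.step [0, 2, 20, 6, 15, 20, 12, 12] .fail)), (1, (.step [3, 12, 3, 12, 3, 6] .fail)), (1, (.step [0, 2, 12, 6, 20, 3, 15] .fail)), (1, (.step [3, 12, 6, 20, 15, 3, 20, 6] (.step [4, 22, 21, 7, 15] .fail))), (1, (.step [0, 2, 12, 6, 20, 15, 2, 5, 12] .fail)), (1, (.step [2, 12, 6, 15, 12, 6, 15, 21] .fail)), (1, (.step [0, 3, 20, 6, 15, 5, 15, 3, 12] (.step [12, 22, 4, 20] .fail))), (1, (.step [2, 20, 6, 15, 2, 21, 2, 12] .fail)), (1, (.step [2, 12, 6, 21, 15, 5, 15, 11] .fail)), (1, (.step [3, 12, 6, 20, 15, 12, 2] .fail)), (1, (.step [0, 2, 15, 21, 6, 15, 21, 15] (.step [15, 5, 4, 20] .fail))), (1, (.step [2, 12, 6, 20, 15, 2, 12, 2] (.step [12, 12, 6, 20] .fail))), (1, (.step [0, 2, 12, 6, 20, 15, 2, 11, 8] .fail)), (1, (.step [2, 12, 6, 20, 7, 15] .fail)), (1, (.step [2, 12, 15, 12, 6, 21, 15] .fail)), (1, (.step [0, 3,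 20, 15] .fail)), (1, (.step [2, 12, 6, 15, 20, 3, 15, 20] .fail)), (1, (.step [0, 3, 20, 6, 15, 11, 11, 3, 11] .fail)), (1, (.step [3, 12, 3, 6, 20, 3, 15, 20] .fail)), (1, (.step [2, 11, 15, 11, 6, 5, 15] (.step [15, 22, 4, 20, 6] .fail))), (1, (.step [2, 12, 6, 20, 3] .fail)), (1, (.step [2, 15, 21, 6, 15, 5, 6] .fail)), (2, .fail), (1, (.step [0, 3, 20, 6, 15, 2, 11, 15, 5] .fail)), (1, (.step [2, 15, 21, 3, 6, 7] .fail)), (1, (.step [3, 12, 6, 20, 15, 11, 2, 11] .fail)), (1, (.step [3, 12, 6, 20, 2, 15, 5, 12] (.step [4, 8, 22, 5, 6, 8] .fail))), (1, (.step [2, 15, 21, 6, 15, 21, 3] .fail)), (1, (.step [2, 12, 6, 15, 12, 15, 3, 5] .fail)), (1, (.step [2, 20, 6, 15, 3, 11, 15] .fail)), (1, (.step [2, 20, 6, 15, 5, 4, 12] .fail)), (1, (.step [0, 3, 20, 6, 15, 11, 3, 11, 11] .fail)), (1, (.step [3, 20, 6, 15, 20, 4, 3, 21] .fail)),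 (1, (.step [2, 12, 6, 20, 15, 3, 8, 11] .fail)), (1, .fail), (1, (.step [2, 15, 21, 6, 15, 21] .fail)), (1, (.step [2, 12, 6, 12, 12, 3, 15, 20, 12] .fail)), (1, (.step [2, 20, 6, 15, 5, 4, 3, 12] .fail)), (1, (.step [2, 15, 21, 6, 15, 11, 11, 2] (.step [11, 15, 22, 15, 22] .fail))), (1, (.step [0, 2, 12, 6, 20, 15, 12, 3] .fail)), (1, .fail), (1, (.step [0, 2, 15, 21, 3, 6, 12, 15, 21] .fail)), (1, (.step [0, 3, 12, 6, 20, 15, 5, 6] .fail)), (1, (.step [2, 12, 6, 15, 20, 2, 4, 15, 21] .fail)), (1, (.step [2, 12, 6, 15, 12, 15, 20, 3, 11] .fail)), (1, (.step [2, 12, 6, 12, 3, 20, 3, 7] .fail)), (1, (.step [0, 2, 12, 6, 20, 15, 2, 20, 12] .fail)), (1, (.step [0, 2, 12, 12, 6, 15, 21, 2] .fail)), (1, (.step [0, 3, 20, 6, 15, 21, 15, 5, 6] .fail)), (1, .fail), (1, (.step [0, 2, 20, 6, 15, 5, 15, 20, 6] .fail)), (1, (.step [0, 2,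 20, 6, 15, 21, 15, 2] .fail)), (1, (.step [3, 20, 6, 15, 11, 3, 11, 6] .fail)), (1, .fail), (1, (.step [3, 12, 6, 20, 15, 3, 20, 12] .fail)), (1, (.step [2, 20, 6, 15, 5, 6, 15, 2] .fail)), (1, (.step [3, 12, 3, 6, 12, 15, 3, 20, 3] .fail)), (1, (.step [2, 20, 6, 15, 11, 11, 3, 12] .fail)), (1, (.step [2, 12, 6, 15, 20, 2, 4, 15, 21] (.step [4, 11, 4, 22] .fail))), (1, (.step [2, 20, 6, 15, 2, 11, 2] .fail)), (1, (.step [3, 12, 6, 20, 15, 3, 20, 12] .fail)), (1, (.step [2, 20, 15, 12, 3] .fail)), (1, (.step [2, 12, 6, 20, 15, 2, 8, 7] .fail)), (1, (.step [2, 12, 6, 15, 20, 2, 4, 15, 5] .fail)), (1, .fail), (1, (.step [2, 20, 6, 15, 21, 3] .fail)), (1, (.step [2, 15, 21, 3, 6, 15, 20] .fail)), (1, .fail), (1, (.step [2, 20, 6, 15, 21, 4, 15, 3] .fail)), (1, .fail), (1, (.step [2, 20, 6, 15, 11, 11, 3] .fail)), (2, .fail), (1, (.step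 [2, 20, 6, 15, 11, 11, 15] .fail)), (1, (.step [2, 20, 15, 12, 6, 11, 2, 15] .fail)), (1, (.step [2, 12, 6, 15, 20, 15, 8, 7] .fail)), (1, (.step [2, 12, 6, 21, 15, 20, 15, 21] .fail)), (1, (.step [3, 20, 6, 15, 5, 15, 3] .fail)), (1, (.step [2, 20, 6, 15, 11, 21] .fail)), (1, (.step [0, 2, 12, 6, 20, 3, 15, 3] .fail)), (1, (.step [2, 12, 12, 3, 12, 3, 6, 12] .fail)), (1, (.step [3, 20, 6, 15, 11, 2, 11, 11] .fail)), (1, .fail), (1, (.step [2, 20, 6, 15, 21, 15, 21, 3] (.step [4, 8, 22, 11, 8] (.step [6, 5, 13] (.step [21, 22] .fail))))), (1, (.step [0, 3, 20, 6, 15, 5] (.step [4, 11, 4] .fail))), (1, (.step [2, 20, 2, 6, 20, 15, 3, 5] (.step [15, 5, 6, 12, 22] .fail))), (1, (.step [0, 3, 20, 6, 15, 3, 20] .fail)), (1, (.step [2, 12, 6, 20, 15, 2, 5, 20, 4] .fail)), (1, .fail), (1, (.step [2, 20, 6, 15, 21, 15] .fail)), (1, (.step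 [2, 20, 6, 15, 3, 7, 11, 15] .fail)), (1, .fail), (1, (.step [2, 12, 6, 20, 15, 2, 11, 6] .fail)), (1, (.step [3, 12, 3, 6, 20, 3, 15, 21] .fail)), (1, (.step [0, 2, 12, 6, 20, 15, 3, 7] (.step [4, 5, 12] (.step [7, 17, 5, 17] (.step [20, 22] .fail))))), (1, (.step [2, 20, 6, 15, 3, 7, 11, 15] (.step [4, 15, 22, 4] .fail))), (1, (.step [2, 15, 21, 3, 6, 11, 11] .fail)), (1, (.step [3, 12, 3, 12, 3, 6, 21] .fail)), (1, (.step [2, 20, 6, 15, 2, 5] .fail)), (1, (.step [2, 20, 6, 15, 3, 11, 8] .fail)), (1, (.step [2, 12, 6, 21, 15, 5, 15, 3] .fail)), (1, .fail), (1, (.step [0, 2, 20, 6, 15, 21, 2] .fail)), (1, (.step [3, 12, 3, 6, 20, 3, 15, 20] .fail)), (1, (.step [0, 2, 12, 6, 20, 15, 3, 21, 6] .fail)), (1, (.step [2, 12, 6, 20, 7, 15, 21, 2] .fail)), (1, (.step [2, 15, 12, 15, 12, 6] .fail)), (1, (.step [0, 3, 12, 6, 15, 12, 15,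 3, 21] .fail)), (1, (.step [3, 12, 6, 15, 12, 15, 20, 2, 11] .fail)), (1, (.step [0, 3, 20, 6, 15, 21, 15, 21] .fail)), (1, (.step [2, 20, 15, 12, 6, 20, 4, 3] .fail)), (1, (.step [2, 12, 6, 12, 3, 12, 2] .fail)), (1, (.step [0, 2, 15, 12, 6, 15] .fail)), (1, (.step [3, 20, 6, 15, 2, 12] .fail)), (1, (.step [3, 12, 3, 6, 12, 3] .fail)), (1, .fail), (1, (.step [0, 2, 15, 21, 6, 15, 11, 3] .fail)), (1, (.step [2, 20, 6, 15, 11, 11] .fail)), (1, (.step [2, 12, 6, 12, 12, 2, 15, 12] .fail)), (1, (.step [2, 12, 15, 12, 6, 21, 15, 5] .fail)), (1, (.step [2, 12, 6, 20, 15, 2, 12, 5] (.step [4, 21, 15, 20] .fail))), (1, (.step [2, 12, 6, 20, 15, 5, 12, 3, 12] .fail)), (1, (.step [2, 15, 21, 6, 15, 21] .fail)), (1, (.step [3, 20, 6, 15, 20, 12, 20, 2] .fail)), (1, (.step [2, 20, 15, 12, 6, 12, 12, 3] .fail)), (1, (.step [2, 12, 6, 12,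 12, 3, 15, 20, 12] .fail)), (1, .fail), (1, (.step [2, 20, 6, 15, 2, 21, 2, 12] .fail)), (1, (.step [2, 20, 15, 5, 12, 6] (.step [15, 21, 22] (.step [17, 17, 20] (.step [19, 20] .fail))))), (1, (.step [2, 20, 6, 15, 11, 11, 3] .fail)), (1, (.step [3, 12, 6, 15, 5, 12, 15] .fail)), (1, .fail), (1, (.step [2, 20, 6, 15, 11, 11, 3] (.step [15, 22, 5, 12] .fail))), (1, (.step [0, 3, 20, 6, 15, 11, 11, 3] .fail)), (1, (.step [2, 12, 6, 20, 7, 3, 15, 11] (.step [4, 22, 20, 15, 22] .fail))), (1, (.step [3, 20, 6, 15, 21, 11, 2, 21] .fail)), (1, (.step [2, 20, 6, 15, 12, 12, 6] .fail)), (1, (.step [0, 3, 12, 6, 20, 15, 12, 3, 7] .fail)), (1, .fail), (1, (.step [2, 12, 6, 20, 15, 2, 11, 11] .fail)), (1, (.step [0, 3, 12, 6, 20, 15] (.step [4, 11, 15, 12, 22, 4] .fail))), (1, (.step [2, 12, 6, 15, 21, 3, 11, 15] (.step [15, 21, 22] .fail))),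 (1, (.step [2, 20, 15, 11, 6] .fail)), (1, (.step [2, 20, 6, 15, 21, 15, 20] .fail)), (1, (.step [2, 15, 12, 6, 15, 11, 11, 2] .fail)), (1, .fail), (1, (.step [2, 20, 6, 15, 21, 15, 21, 3] .fail)), (1, (.step [2, 12, 6, 20, 7, 15, 5, 12, 3] .fail)), (1, (.step [3, 20, 6, 15, 11, 3, 4, 5] .fail)), (1, (.step [2, 12, 6, 20, 15, 2, 21, 2, 11] .fail)), (1, (.step [2, 12, 6, 20, 15, 3, 5, 21] .fail)), (1, (.step [2, 15, 21, 6, 15, 8] .fail)), (1, .fail), (1, (.step [2, 15, 21, 3, 4, 21, 6] .fail)), (1, .fail), (1, (.step [0, 2, 20, 6, 15, 21, 15, 5, 6] .fail)), (1, (.step [3, 12, 6, 20, 2, 20, 2] .fail)), (1, (.step [0, 2, 20, 6, 15, 21, 3, 4] .fail)), (1, (.step [0, 2, 12, 6, 20, 7, 3, 15, 20] .fail)), (1, (.step [2, 12, 6, 12, 3, 12, 3] .fail)), (1, (.step [3, 12, 3, 6, 20, 15, 3, 7] .fail)), (1, (.step [2, 12, 6, 20, 15, 3, 8, 7]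 .fail)), (1, .fail), (1, (.step [0, 3, 12, 6, 20, 15, 12, 6, 15] .fail)), (1, (.step [2, 12, 6, 20, 15, 2] .fail)), (1, (.step [2, 15, 21, 3, 6, 12, 15, 5] .fail)), (1, (.step [2, 12, 6, 12, 12, 15, 21, 2] .fail)), (1, (.step [2, 20, 6, 15, 20, 12, 6] (.step [15, 22, 21, 22] .fail))), (1, (.step [2, 12, 6, 20, 7, 15, 12] .fail)), (1, (.step [3, 20, 6, 15, 11, 15, 2, 15] .fail)), (1, (.step [2, 20, 6, 15, 5, 4] .fail)), (1, (.step [0, 2, 20, 6, 15, 11, 11, 11, 2] .fail)), (1, (.step [2, 20, 2, 6, 15, 20, 4] .fail)), (1, (.step [2, 12, 6, 15, 20, 2, 15, 5] .fail)), (1, (.step [2, 12, 15, 12, 6, 12, 15, 2, 5] .fail)), (1, (.step [2, 20, 6, 15, 11, 3, 15, 12] .fail)), (1, (.step [2, 20, 6, 15, 5, 6, 12, 3] (.step [4, 5, 6, 22, 4] .fail))), (1, (.step [2, 12, 6, 12, 12, 3, 15, 20, 6] .fail)), (1, .fail), (1, (.step [2, 20, 6, 15, 11,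 21, 15] .fail)), (2, .fail), (1, (.step [0, 2, 15, 21, 6, 15, 11, 2] .fail)), (1, (.step [3, 20, 6, 15, 21, 3, 7] (.step [4, 5, 12, 22, 12] .fail))), (1, (.step [0, 3, 12, 6, 20, 15, 3, 20] (.step [4, 5, 15, 8] .fail))), (1, .fail), (1, (.step [2, 11, 15, 11, 6, 5, 15, 2] .fail)), (1, (.step [2, 12, 6, 15, 12, 15, 2] .fail)), (1, (.step [2, 12, 15, 20, 6, 15, 5] .fail)), (1, (.step [0, 3, 12, 6, 20, 15, 12, 6, 15] (.step [4, 8, 22, 11, 11] .fail))), (1, .fail), (1, (.step [3, 12, 6, 20, 15, 12] .fail)), (1, (.step [0, 2, 12, 6, 20, 15, 3, 21, 6] (.step [4, 22, 21, 4, 15] .fail))), (1, (.step [0, 3, 20, 6, 15, 21, 15] .fail)), (1, (.step [2, 20, 6, 15, 21, 2, 6] .fail)), (1, (.step [3, 20, 6, 15, 3, 11] .fail)), (1, (.step [2, 15, 21, 6, 15, 2, 11, 2, 15] .fail)), (1, .fail), (1, (.step [2, 12, 6, 15, 20, 2, 4, 15, 21] .fail)),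 (1, (.step [2, 15, 21, 3, 6, 12, 12] .fail)), (1, .fail), (1, (.step [0, 2, 20, 2, 6, 15, 12, 12] .fail)), (1, (.step [2, 15, 2, 11, 6, 11] .fail)), (1, (.step [2, 12, 6, 21, 15, 11, 11] .fail)), (1, (.step [0, 3, 12, 6, 20, 2, 20, 15] .fail)), (1, (.step [2, 20, 15, 20, 3] .fail)), (1, (.step [2, 12, 6, 12, 12, 3] .fail)), (1, (.step [2, 15, 2, 12, 6, 12, 15, 12] .fail)), (1, (.step [2, 12, 6, 15, 20, 2, 15, 8] .fail)), (1, (.step [2, 12, 15, 12, 3, 6, 20, 15] .fail)), (1, (.step [2, 12, 6, 15, 21, 3, 11, 15] .fail)), (2, .fail), (1, (.step [2, 20, 15, 21, 6, 21] .fail)), (1, (.step [0, 2, 20, 6, 15, 3, 11, 15, 5] (.step [15, 22, 4, 20, 6] .fail))), (1, (.step [2, 12, 6, 20, 15, 2, 5] .fail)), (1, (.step [2, 20, 6, 15, 20, 4, 20] .fail)), (1, (.step [2, 20, 6, 15, 21, 15, 3, 7] (.step [4, 5, 15, 21] .fail))), (1, .fail), (1,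 (.step [3, 12, 3, 12, 6, 21] .fail)), (1, (.step [2, 12, 6, 20, 15, 21, 8] .fail)), (1, (.step [3, 12, 6, 20, 15, 3, 21] .fail)), (1, (.step [3, 20, 6, 15, 21, 11, 15] .fail)), (1, (.step [0, 3, 20, 6, 15, 21, 11] .fail)), (1, (.step [2, 15, 2, 21, 6, 11] .fail)), (1, (.step [2, 12, 6, 20, 15, 3, 12, 2] (.step [4, 5, 15, 5] .fail))), (1, (.step [2, 15, 21, 15, 11] .fail)), (1, (.step [2, 15, 21, 3, 12, 6, 21] .fail)), (1, (.step [2, 20, 2, 6, 15, 3, 21] .fail)), (1, (.step [0, 2, 15, 21, 6, 15, 5, 15] .fail)), (1, (.step [2, 15, 5, 6, 15, 21, 15] .fail)), (1, (.step [2, 20, 6, 15, 11, 11, 15] (.step [15, 5, 6, 12, 22] .fail))), (1, (.step [0, 3, 20, 6, 15, 21, 11] .fail)), (1, (.step [2, 12, 6, 21, 15, 21, 8] .fail)), (1, (.step [2, 12, 6, 15, 20, 2, 15] .fail)), (1, (.step [3, 20, 6, 15, 11, 15, 2, 15] .fail)), (1, (.step [2,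 20, 6, 15, 21, 15, 2, 20] .fail)), (1, .fail), (1, (.step [2, 20, 6, 15, 5, 12, 21, 2] .fail)), (2, .fail), (1, (.step [0, 3, 12, 6, 20, 15, 3, 20, 4] .fail)), (1, (.step [2, 12, 6, 20, 15, 21, 3] .fail)), (1, (.step [0, 2, 20, 6, 15, 5, 15, 21, 3] .fail)), (1, (.step [0, 2, 20, 6, 15, 11, 11, 3] .fail)), (1, (.step [2, 20, 2, 6, 11, 11, 3] .fail)), (1, (.step [0, 2, 12, 6, 20, 7, 15] (.step [4, 12, 22, 15] .fail))), (1, (.step [2, 12, 6, 15, 20, 15] .fail)), (1, (.step [2, 20, 6, 15, 20, 12, 15, 2] .fail)), (1, (.step [2, 20, 2, 6, 15, 20, 6] .fail)), (1, (.step [2, 20, 6, 15, 5, 15, 3] .fail)), (1, (.step [3, 20, 6, 15, 2, 21, 15, 21] (.step [15, 5, 4] .fail))), (1, (.step [0, 2, 20, 6, 15, 11, 11, 15] .fail)), (3, .fail), (1, (.step [2, 12, 6, 15, 12, 15, 5] .fail)), (1, (.step [2, 12, 6, 20, 15, 2, 5, 15] .fail)), (1, (.step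 [0, 2, 20, 6, 15, 11, 15, 12] .fail)), (1, (.step [0, 2, 12, 6, 12, 12, 3, 15] .fail)), (1, (.step [3, 12, 15, 12, 6, 11, 15] .fail)), (1, (.step [0, 2, 20, 6, 15, 11, 3, 15, 8] .fail)), (1, (.step [2, 15, 21, 2, 6, 21, 15, 11] .fail)), (1, (.step [2, 15, 21, 3, 6, 15, 20, 15] .fail)), (1, (.step [2, 15, 21, 6, 15, 5, 15, 2] .fail)), (1, (.step [0, 2, 20, 15, 5] .fail)), (1, (.step [2, 20, 6, 15, 5, 15, 21] .fail)), (1, .fail), (1, (.step [2, 12, 6, 20, 15, 21] .fail)), (3, .fail), (1, (.step [2, 20, 6, 15, 21, 11, 15] .fail)), (1, (.step [2, 12, 6, 15, 21, 3, 11, 15] (.step [4, 21, 4, 22, 15] .fail))), (1, (.step [2, 12, 6, 15, 12, 15, 21, 2, 12] (.step [8, 22, 11, 22, 21] .fail))), (1, (.step [2, 20, 6, 15, 11, 11, 15] .fail)), (1, (.step [2, 20, 6, 15, 20, 12, 3] .fail)), (1, (.step [0, 2, 20, 15, 21] .fail)), (1, (.step [3,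 20, 6, 15, 21, 2, 8, 12, 15] .fail)), (1, (.step [2, 12, 6, 20, 15, 5, 4, 3] .fail)), (1, (.step [2, 12, 6, 21, 2, 11, 15, 21] .fail)), (1, .fail), (1, (.step [2, 12, 6, 21, 15, 5] .fail)), (1, (.step [0, 2, 15, 21, 6, 15, 5] .fail)), (1, (.step [2, 12, 6, 15, 12, 15, 2, 8, 12] .fail)), (1, (.step [0, 2, 15, 21, 6, 15] .fail)), (2, .fail), (1, (.step [2, 12, 15, 12, 3, 6, 21, 15] .fail)), (1, (.step [3, 12, 6, 20, 15, 12, 12, 2] .fail)), (1, (.step [0, 3, 12, 6, 15, 21, 2, 11] .fail)), (1, (.step [3, 12, 6, 20, 2, 15, 21, 7] .fail)), (1, (.step [2, 12, 6, 12, 2, 20, 15, 3, 11] .fail)), (1, .fail), (1, (.step [2, 15, 12, 6, 15, 11, 8] (.step [4, 22, 15, 21] .fail))), (1, (.step [0, 2, 12, 6, 20, 15, 2, 5, 15] .fail)), (1, (.step [0, 2, 20, 6, 15, 11, 3, 11] .fail)), (1, (.step [2, 20, 6, 15, 21, 15, 3, 4] .fail)), (1, (.step [0,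 3, 20, 6, 15, 2, 11, 15] .fail)), (1, (.step [2, 20, 6, 15, 5, 12, 3, 21] .fail)), (1, (.step [2, 20, 2, 6, 15, 21, 11] .fail)), (1, .fail), (1, (.step [0, 2, 20, 6, 15, 11, 11, 2] .fail)), (1, (.step [2, 12, 6, 20, 15, 12, 12, 3, 7] .fail)), (1, (.step [2, 15, 12, 2, 6] .fail)), (1, (.step [2, 20, 15, 20, 6, 11] .fail)), (1, (.step [0, 2, 15, 21, 3, 6, 12, 20, 15] .fail)), (1, (.step [0, 3, 20, 6, 15, 2, 12, 15] .fail)), (1, .fail), (1, (.step [3, 20, 6, 15, 21, 2, 8, 12, 15] .fail)), (1, (.step [2, 20, 6, 15, 5, 15, 21] .fail)), (1, (.step [3, 20, 6, 15, 11, 2, 15] .fail)), (1, (.step [2, 11, 15, 11, 6, 5, 15, 21, 2] (.step [4, 8, 22, 11, 6, 8] .fail))), (1, .fail), (1, (.step [2, 20, 6, 15, 5, 4, 3, 21] .fail)), (1, (.step [2, 12, 6, 20, 15, 12, 12] .fail)), (1, (.step [0, 2, 12, 6, 21, 15, 21, 8] (.step [4, 5, 15, 5, 8] .fail))),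 (2, .fail), (1, (.step [2, 12, 6, 20, 15, 3, 12, 15, 5] .fail)), (1, (.step [2, 12, 6, 21, 15, 20, 3] .fail)), (1, (.step [2, 12, 6, 15, 12, 15] .fail)), (1, .fail), (1, (.step [2, 12, 6, 15, 12, 15, 21] .fail)), (1, (.step [2, 20, 6, 15, 3, 5, 12, 15] .fail)), (1, (.step [2, 15, 21, 6, 15, 11, 11, 2] (.step [4, 21, 4, 15] .fail))), (1, .fail), (1, (.step [2, 12, 6, 15, 20, 2, 15, 11] (.step [4, 11, 4, 22] .fail))), (1, (.step [3, 12, 6, 20, 15, 12, 2, 15, 12] .fail)), (1, (.step [2, 12, 6, 20, 7, 3, 15, 5, 20] .fail)), (1, .fail), (1, (.step [3, 12, 6, 20, 15, 5, 4] .fail)), (1, .fail), (1, (.step [0, 2, 12, 6, 20, 15, 3, 12, 12] .fail)), (1, (.step [0, 3, 12, 6, 20, 2, 15] (.step [12, 22, 5, 21] .fail))), (1, (.step [2, 20, 15, 12, 6] .fail)), (1, (.step [2, 12, 6, 20, 15, 5, 4, 3] (.step [4, 5, 22, 15, 12] .fail))), (2, .fail),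 (1, (.step [2, 12, 6, 15, 20, 2, 15, 3] .fail)), (1, .fail), (1, (.step [0, 3, 12, 6, 20, 2, 15, 5] .fail)), (1, (.step [2, 12, 6, 20, 15, 2, 12, 6, 21] .fail)), (1, (.step [0, 3, 20, 6, 15, 2, 12, 15] .fail)), (1, (.step [2, 20, 6, 15, 3, 21, 11, 3] .fail)), (1, (.step [0, 2, 20, 6, 15, 5, 20, 3, 11] .fail)), (1, (.step [0, 2, 12, 6, 20, 15, 3, 4] .fail)), (1, .fail), (1, (.step [3, 20, 6, 15, 3, 12] .fail)), (1, (.step [2, 20, 6, 15, 3, 11, 3] .fail)), (1, (.step [2, 12, 6, 21, 15, 2, 11, 2] .fail)), (4, .fail), (1, (.step [2, 11, 15, 11, 6, 5, 15] .fail)), (1, (.step [3, 12, 6, 15, 11, 15] .fail)), (1, .fail), (1, (.step [3, 12, 6, 20, 15, 12, 6] .fail)), (1, .fail), (1, (.step [3, 12, 6, 21, 15, 11, 11] .fail)), (1, .fail), (1, (.step [3, 12, 6, 20, 15, 12, 3, 6] .fail)), (1, .fail), (1, (.step [2, 12, 6, 20, 15, 2, 11, 3,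 6] .fail)), (1, .fail), (1, (.step [0, 2, 20, 6, 15, 21] .fail)), (1, (.step [2, 20, 6, 15, 5, 15, 20] .fail)), (1, (.step [2, 15, 21, 6, 15, 2, 11] .fail)), (1, (.step [2, 20, 6, 15, 5, 15, 3] .fail)), (1, (.step [2, 20, 6, 15, 8, 11, 3, 7] .fail)), (1, (.step [2, 20, 6, 15, 20, 15, 20] .fail)), (1, (.step [2, 12, 6, 15, 12, 15, 2, 12, 3] .fail)), (1, (.step [3, 20, 6, 15, 11, 3, 4, 8] .fail)), (1, (.step [2, 20, 6, 15, 21, 15, 5] .fail)), (1, (.step [0, 3, 12, 6, 20, 15, 5, 6] .fail)), (1, (.step [0, 3, 12, 20, 15] .fail)), (1, (.step [0, 3, 12, 6, 15, 21] .fail)), (1, (.step [2, 20, 6, 15, 11, 11, 3] .fail)), (1, (.step [2, 12, 6, 20, 15, 2, 20, 6] .fail)), (1, (.step [3, 12, 6, 20, 15, 12, 12, 2] .fail)), (1, (.step [0, 2, 20, 15, 20] .fail)), (1, (.step [2, 20, 6, 15, 8, 11, 3, 12] .fail)), (1, (.step [0, 3, 20, 15, 11, 6,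 21, 3] .fail)), (1, .fail), (1, (.step [2, 20, 6, 15, 5, 15, 20, 3] .fail)), (1, (.step [0, 2, 15, 12, 6, 15, 21, 3] .fail)), (1, .fail), (1, (.step [0, 2, 20, 6, 15, 5, 4, 3] .fail)), (1, (.step [2, 15, 12, 6, 15, 21, 2, 12] .fail)), (1, (.step [3, 12, 6, 20, 15, 3, 4, 5] (.step [15, 11, 22, 20] .fail))), (1, (.step [2, 20, 6, 15, 5, 15, 20, 3] (.step [4, 22, 11, 15, 11] .fail))), (1, (.step [0, 2, 20, 15, 5, 6, 20] .fail)), (1, .fail), (1, (.step [2, 12, 6, 20, 15, 2, 21, 12, 2] .fail)), (1, (.step [0, 2, 12, 6, 20, 15, 8] .fail)), (1, (.step [3, 20, 6, 15, 3, 11, 15, 3] .fail)), (1, (.step [3, 20, 6, 15, 11, 3, 11, 6] .fail)), (1, (.step [0, 3, 12, 6, 15, 21, 2, 21] .fail)), (1, .fail), (1, (.step [2, 11, 15, 11, 6, 11, 15] .fail)), (1, (.step [2, 12, 6, 20, 15, 3, 8, 11] .fail)), (1, (.step [3, 12, 6, 20, 15, 21, 3, 21] .fail)),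 (1, (.step [3, 12, 6, 20, 3, 12, 3] .fail)), (1, (.step [2, 20, 6, 15, 3, 11, 15, 2] (.step [4, 12, 22, 5, 4] .fail))), (2, .fail), (1, (.step [3, 12, 6, 15, 11, 15, 2, 5] .fail)), (1, (.step [2, 12, 6, 20, 15, 2, 8] .fail)), (1, (.step [3, 20, 6, 15, 12, 12, 20] .fail)), (1, (.step [0, 2, 15, 21, 6, 15, 5, 15, 2] .fail)), (1, (.step [3, 20, 6, 15, 2, 15] .fail)), (1, (.step [2, 12, 6, 15, 20, 2, 15, 8, 7] .fail)), (1, (.step [2, 20, 6, 15, 21, 15, 21, 3] .fail)), (1, (.step [3, 12, 6, 20, 15, 3, 20, 12] .fail)), (1, (.step [2, 20, 6, 15, 21, 3, 12, 20] (.step [4, 8, 22, 21, 4] .fail))), (1, (.step [2, 12, 6, 12, 3, 12] .fail)), (1, (.step [2, 12, 6, 20, 15, 12, 6, 12, 3] .fail)), (1, (.step [3, 20, 6, 15, 3, 12] .fail)), (1, (.step [0, 3, 20, 6, 15, 21, 15, 5] .fail)), (1, (.step [2, 20, 6, 15, 21, 3, 7] .fail)), (1, (.step [2,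 12, 6, 20, 15, 2, 8, 15] (.step [8, 11, 22, 21] .fail))), (1, (.step [2, 20, 6, 15, 21, 3, 8] .fail)), (1, (.step [3, 20, 6, 15, 5, 15, 3] .fail)), (1, (.step [3, 12, 6, 20, 2, 12, 20, 15] .fail)), (1, .fail), (1, (.step [2, 15, 12, 6, 15, 5, 15] .fail)), (1, (.step [3, 12, 3, 6, 12, 12] .fail)), (1, (.step [3, 20, 6, 15, 21, 11, 2, 21] .fail)), (1, (.step [3, 12, 6, 20, 15, 3, 21, 4] (.step [4, 22, 20, 15, 22] .fail))), (1, (.step [2, 12, 6, 15, 20, 3, 4, 15] (.step [4, 8, 22, 15, 8] .fail))), (1, (.step [2, 20, 15, 12, 6, 21, 3] .fail)), (1, (.step [2, 12, 6, 21, 15, 5, 15, 2] .fail)), (1, (.step [0, 2, 12, 6, 20, 15, 3, 11] .fail)), (1, (.step [2, 20, 6, 15, 11, 3, 15, 3] .fail)), (1, (.step [3, 20, 6, 15, 20, 15, 20, 6] .fail)), (1, (.step [3, 20, 6, 15, 11, 3, 4, 5] .fail)), (1, (.step [0, 2, 15, 12, 6, 15, 11, 3] (.step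 [4, 5, 22, 15, 8] .fail))), (1, .fail), (1, (.step [0, 3, 12, 15, 12] .fail)), (1, (.step [2, 12, 6, 20, 15, 8, 7] .fail)), (1, (.step [0, 3, 12, 6, 20, 15, 3, 20, 4] .fail)), (1, (.step [3, 20, 15, 20, 6, 11] .fail)), (1, (.step [0, 2, 12, 6, 20, 15, 21, 2, 11] .fail)), (1, (.step [2, 20, 6, 15, 11] .fail)), (1, (.step [3, 12, 3, 12, 6, 21] .fail)), (1, (.step [2, 11, 15, 11, 6, 5, 15, 21] .fail)), (1, (.step [2, 20, 6, 15, 21, 15, 3] .fail)), (1, (.step [2, 15, 21, 3, 6, 20, 15, 11, 11] .fail)), (1, (.step [0, 3, 12, 6, 15, 21, 2, 11] .fail)), (2, .fail), (1, (.step [3, 12, 6, 20, 15, 3, 20, 6] .fail)), (1, (.step [2, 12, 6, 15, 12, 15, 21, 6] .fail)), (1, (.step [3, 20] .fail)), (1, (.step [2, 12, 15, 12, 6, 12, 15] .fail)), (1, (.step [2, 15, 21, 3, 12, 6, 20] .fail)), (1, .fail), (1, (.step [0, 3, 12, 6, 20, 15] (.step [11,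 15, 22, 11] .fail))), (1, (.step [2, 12, 6, 12, 3, 12] .fail)), (1, (.step [3, 20] .fail)), (1, (.step [3, 20, 6, 15, 21, 2, 8] .fail)), (1, .fail), (1, (.step [2, 12, 6, 20, 15, 2, 12, 6] .fail)), (1, (.step [3, 12, 6, 20, 2, 15, 21] .fail)), (1, (.step [0, 3, 12, 6, 20, 15, 2] (.step [4, 11, 15, 5, 22] .fail))), (1, .fail), (1, (.step [2, 20, 6, 15, 2, 12, 12, 3] .fail)), (1, (.step [2, 11, 15, 11, 6, 5, 15, 21, 2] .fail)), (1, (.step [2, 15, 21, 6, 15, 21, 15] .fail)), (2, .fail), (1, (.step [2, 20, 15, 12, 6, 11, 2] .fail)), (1, .fail), (1, (.step [2, 20, 6, 15, 3, 5, 15, 12, 6] .fail)), (1, (.step [2, 20, 6, 15, 11, 11, 6] .fail)), (1, (.step [0, 2, 12, 6, 20, 15, 2, 21, 15] .fail)), (1, (.step [2, 11, 15, 11, 6, 21, 15, 8] .fail)), (1, (.step [2, 12, 6, 15, 20, 3, 4, 15, 5] .fail)), (1, .fail), (1, (.step [3, 12, 20] .fail)),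 (1, (.step [2, 12, 6, 12, 3, 12, 15, 20] (.step [12, 22, 15] .fail))), (1, (.step [2, 20, 6, 15, 21, 6, 15] .fail)), (1, (.step [2, 12, 6, 15, 12, 3, 15, 8, 15] .fail)), (1, .fail), (1, (.step [2, 12, 6, 20, 7, 15] .fail)), (1, (.step [0, 2, 12, 6, 20, 15, 3, 21] (.step [15, 22, 15] .fail))), (1, (.step [0, 3, 12, 6, 15, 21, 15, 11, 2] .fail)), (1, (.step [2, 12, 6, 20, 15, 2, 21, 6] .fail)), (1, (.step [0, 2, 15, 21, 6, 15, 5] .fail)), (1, (.step [0, 2, 12, 6, 20, 15, 3, 5, 4] .fail)), (1, (.step [2, 12, 6, 20, 15, 2, 11, 6, 15] .fail)), (1, (.step [2, 12, 6, 12, 12, 3, 7] .fail)), (1, (.step [2, 12, 6, 20, 15, 3, 12, 2] .fail)), (1, (.step [0, 2, 20, 6, 15, 21, 15, 5] .fail)), (1, (.step [3, 12, 6, 20, 2, 20] .fail)), (1, (.step [2, 12, 6, 15, 20, 2, 15, 11, 20] .fail)), (1, (.step [3, 20, 15, 3] (.step [4, 22, 11, 11] .fail))),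 (1, (.step [3, 20, 6, 15, 3, 11, 8] .fail)), (1, (.step [2, 20, 6, 15, 8, 11, 15] .fail)), (1, (.step [2, 12, 6, 15, 12, 15, 2, 8] .fail)), (3, .fail), (1, (.step [3, 20, 6, 15, 11, 3, 4, 8] .fail)), (1, (.step [2, 12, 6, 15, 12, 15, 21] .fail)), (1, (.step [0, 3, 20, 6, 15, 20, 15] .fail)), (1, (.step [2, 12, 6, 15, 12, 6, 15, 21] .fail)), (1, (.step [2, 12, 15, 20, 6, 15, 2] .fail)), (1, (.step [2, 20, 6, 15, 21, 3, 15, 5] .fail)), (1, (.step [0, 2, 20, 6, 15, 21, 6, 15] .fail)), (1, (.step [3, 20, 6, 15, 20, 12] .fail)), (1, (.step [2, 20, 6, 15, 11, 3, 15] .fail)), (1, (.step [2, 15, 21, 6, 15, 11, 11, 3] .fail)), (1, (.step [0, 2, 12, 6, 20, 15, 3, 5, 20] (.step [15, 5, 4, 20] .fail))), (1, .fail), (1, (.step [2, 12, 15, 20, 3, 6, 12] .fail)), (1, (.step [3, 20, 6, 15, 8, 11, 15, 3] .fail)), (1, .fail), (1, (.step [3, 20,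 6, 15, 21, 2, 20] .fail)), (1, (.step [3, 20, 6, 15, 11, 11, 3, 7] (.step [4, 22, 20, 20, 15] .fail))), (1, (.step [2, 20, 15, 11, 6, 20] .fail)), (1, (.step [2, 12, 6, 20, 15, 3, 12, 2] (.step [4, 8, 22, 21] .fail))), (1, (.step [2, 12, 6, 12, 2, 20, 3, 15, 11] .fail)), (1, (.step [2, 15, 21, 3, 6, 20, 15, 21] .fail)), (1, (.step [2, 20, 6, 15, 11, 8, 20] .fail)), (1, .fail), (1, (.step [2, 12, 12, 3] (.step [] .fail))), (1, .fail), (1, (.step [2, 20, 6, 15, 21, 2, 12, 12] .fail)), (1, (.step [2, 12, 20, 15, 11, 6] .fail)), (1, (.step [3, 12, 3, 12, 6, 21] (.step [4, 5] .fail))), (1, (.step [2, 12, 6, 15, 12, 6, 15, 3, 5] .fail)), (1, (.step [2, 12, 6, 15, 20, 2, 15, 5, 8] .fail)), (1, (.step [3, 12, 6, 20, 15, 21, 3, 7] .fail)), (1, (.step [2, 12, 6, 20, 2, 15, 2, 21] .fail)), (1, .fail), (1, (.step [2, 12, 6, 20, 15, 3, 5,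 4, 6] .fail)), (1, (.step [0, 2, 20, 6, 15, 5, 4] .fail)), (1, (.step [0, 2, 20, 15, 21, 6, 12, 15] .fail)), (1, (.step [2, 12, 6, 15, 20, 2, 15, 21] (.step [4, 8, 22, 4, 21] .fail))), (1, .fail), (1, (.step [2, 20, 15, 21, 6, 21] (.step [12, 22, 15, 22] .fail))), (1, (.step [2, 20, 6, 15, 11, 11, 2, 21] .fail)), (1, (.step [2, 15, 21, 6, 15, 2, 11, 2] .fail)), (1, (.step [2, 12, 6, 20, 7, 3, 15, 12] .fail)), (2, .fail), (1, (.step [2, 20, 6, 15, 11, 3, 12, 21] .fail)), (1, (.step [3, 20, 6, 15, 11, 11, 3, 7] .fail)), (1, (.step [2, 11, 15, 11, 6, 21, 15] .fail)), (1, (.step [2, 12, 6, 20, 15, 3, 5, 21] (.step [15, 22, 21, 8] .fail))), (1, (.step [2, 20, 6, 15, 21, 3, 11, 8] .fail)), (2, .fail), (1, (.step [0, 2, 15, 21, 3, 6, 12, 15, 5] .fail)), (1, (.step [2, 15, 12, 6, 15, 21, 2, 11] .fail)), (1, (.step [2, 12, 6, 20, 15, 2,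 12, 5] .fail)), (1, .fail), (1, (.step [0, 3, 20, 6, 15, 11, 2, 8] (.step [12, 22, 21] .fail))), (1, (.step [0, 2, 20, 6, 15, 2, 11, 15] .fail)), (1, (.step [3, 12, 6, 20, 15, 12, 2] .fail)), (1, (.step [3, 20, 6, 15, 11, 2, 15] (.step [4, 15, 22, 12, 15] .fail))), (1, (.step [2, 12, 6, 20, 15, 2, 8, 15] (.step [4, 8] .fail))), (1, (.step [3, 20, 6, 15, 21, 2, 8, 12, 15] .fail)), (1, .fail), (1, (.step [2, 20, 6, 15, 5, 15, 21, 3] .fail)), (1, (.step [2, 15, 12, 6, 15, 2, 11, 3, 4] .fail)), (1, (.step [3, 20, 6, 15, 11, 15, 2, 11] (.step [12, 22, 15] .fail))), (1, (.step [2, 12, 6, 12, 12, 15, 21] (.step [4, 15, 5, 4, 22] .fail))), (1, (.step [0, 2, 20, 6, 15, 11, 8, 11] .fail)), (1, (.step [3, 12, 6, 15, 12, 15, 2, 12] .fail)), (1, (.step [2, 20, 2, 6, 15, 11, 11, 2, 20] (.step [4, 8, 22, 8, 7] .fail))), (1, (.step [3, 12, 6,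 15, 12, 15, 20] .fail)), (1, (.step [2, 15, 12, 6, 15, 11, 8] .fail)), (1, (.step [2, 20, 6, 15, 3, 5, 15, 2] .fail)), (1, .fail), (1, (.step [2, 11, 15, 11, 6, 11, 15, 8] .fail)), (1, (.step [2, 12, 6, 12, 12, 3, 4] .fail)), (1, (.step [2, 12, 6, 20, 7, 15, 12, 2, 15] .fail)), (1, (.step [2, 12, 6, 15, 12, 15, 3, 21] .fail)), (1, (.step [2, 20, 6, 15, 11, 15, 2, 15] .fail)), (4, .fail), (1, (.step [3, 12, 3, 20, 6, 11, 3] .fail)), (1, .fail), (1, (.step [2, 20, 6, 15, 2, 5, 4] .fail)), (2, .fail), (1, (.step [2, 20, 6, 15, 2, 11, 2, 8] (.step [4, 11, 15, 5, 22, 15] .fail))), (1, (.step [2, 15, 2, 21, 2] .fail)), (1, (.step [0, 3, 20, 6, 15, 11, 15, 2] .fail)), (1, (.step [2, 20, 6, 15, 11, 15, 11] .fail)), (1, (.step [3, 12, 6, 15, 21, 15, 3] .fail)), (1, (.step [0, 3, 20, 6, 15, 5, 15, 3, 12] .fail)), (1, (.step [0, 3, 20, 6,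 15, 2, 11, 15] .fail)), (1, (.step [2, 12, 6, 15, 12, 3, 6, 15, 8] .fail)), (1, (.step [0, 2, 20, 6, 15, 11, 11, 20, 2] .fail)), (1, (.step [2, 15, 21, 6, 15, 5, 15, 2] .fail)), (1, .fail), (1, (.step [2, 20, 6, 15, 21, 8, 11] .fail)), (1, .fail), (1, (.step [2, 12, 6, 20, 15, 3, 21, 12] .fail)), (1, (.step [0, 2, 15, 12, 6, 15, 21, 8] .fail)), (1, (.step [2, 12, 6, 15, 12, 6, 15, 3] .fail)), (3, .fail), (1, (.step [2, 12, 6, 15, 12, 6, 15, 21] .fail)), (1, (.step [2, 20, 6, 15, 5, 12, 21, 2] .fail)), (1, (.step [2, 20, 6, 15, 11, 11, 3, 4] .fail)), (1, (.step [2, 15, 21, 3, 6, 12, 15] .fail)), (1, (.step [2, 15, 2, 12, 6, 20, 3, 4] .fail)), (1, (.step [2, 12, 6, 12, 12, 3, 7] .fail)), (1, (.step [2, 20, 15, 3, 20] .fail)), (1, (.step [2, 12, 6, 12, 12, 3, 12] .fail)), (1, (.step [3, 12, 6, 15, 11, 15, 2, 21] .fail)), (1, (.step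 [2, 20, 6, 15, 2, 21, 3, 4] .fail)), (1, (.step [2, 20, 6, 15, 3, 20, 15, 21] .fail)), (1, .fail), (1, (.step [2, 15, 21, 3, 12, 6, 11] .fail)), (1, (.step [2, 20, 6, 15, 21, 4, 15] (.step [11, 11] .fail))), (1, (.step [2, 12, 6, 15, 20, 15, 2, 12] .fail)), (1, (.step [2, 20, 15, 12, 6, 20, 4] .fail)), (1, .fail), (1, (.step [3, 20, 6, 15, 21, 11, 15] .fail)), (1, .fail), (1, (.step [2, 12, 6, 20, 15, 12, 3, 12] .fail)), (1, .fail), (1, (.step [2, 15, 2, 12, 6, 12, 15, 12] .fail)), (1, (.step [2, 20, 6, 15, 5, 6, 15, 2] .fail)), (1, .fail), (1, (.step [2, 20, 6, 15, 5, 4, 3, 21] .fail)), (1, .fail), (1, (.step [2, 20, 6, 15, 2, 21, 2, 12] (.step [12, 22, 5] .fail))), (1, (.step [3, 12, 6, 15, 11, 15, 2] (.step [11, 22, 15, 21, 6] .fail))), (1, (.step [0, 3, 20, 6, 15, 11, 15, 3] .fail)), (1, (.step [3, 20, 6, 15, 20, 4, 3, 21]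 .fail)), (1, (.step [2, 20, 6, 15, 2, 12] .fail)), (1, (.step [2, 12, 6, 20, 15, 3, 4, 11] .fail)), (1, .fail), (1, (.step [0, 2, 20, 15, 12, 6, 11] (.step [4, 22, 11, 15, 22] .fail))), (1, (.step [2, 12, 6, 15, 12, 15, 20, 2] .fail)), (1, .fail), (1, (.step [0, 3, 12, 6, 15, 21, 3] .fail)), (1, .fail), (1, (.step [2, 15, 2, 12, 6, 20] .fail)), (1, (.step [3, 20, 6, 15, 20, 12, 21] .fail)), (1, (.step [3, 12, 6, 20, 15, 3, 20, 15] .fail)), (1, (.step [2, 12, 6, 20, 15, 2, 21, 7, 3] .fail)), (1, (.step [2, 12, 6, 20, 15, 2, 20] .fail)), (1, (.step [2, 12, 6, 15, 20, 15, 2] .fail)), (1, .fail), (1, (.step [2, 12, 6, 21, 15, 20, 12] .fail)), (1, .fail), (1, (.step [2, 15, 12, 6, 15, 21, 2, 11] .fail)), (1, (.step [0, 3, 12, 6, 15, 12, 15, 12, 3] (.step [4, 5, 22, 15, 8, 20] .fail))), (1, (.step [0, 2, 12, 20, 15, 11] (.step [4, 5,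 6] .fail))), (1, (.step [2, 15, 21, 3, 6, 20, 15, 20] .fail)), (1, (.step [0, 3, 20, 6, 15, 2, 11, 15] .fail)), (1, .fail), (1, (.step [2, 20, 6] .fail)), (1, (.step [2, 15, 12, 2, 6] .fail)), (1, (.step [2, 12, 6, 20, 15, 2, 21, 2, 11] .fail)), (1, .fail), (1, (.step [3, 12, 3, 6, 20, 3, 15, 20] .fail)), (1, (.step [3, 12, 6, 21, 2, 11, 11] .fail)), (1, (.step [2, 12, 6, 12, 2, 12, 3, 12] .fail)), (1, (.step [2, 11, 15, 11, 6, 5, 15, 21, 2] (.step [4, 5, 22] .fail))), (1, (.step [2, 12, 6, 20, 15, 2, 12, 6, 21] .fail)), (1, (.step [3, 20, 6, 15, 11, 11, 11] .fail)), (1, (.step [3, 12, 6, 20, 2, 15, 21] .fail)), (1, (.step [2, 12, 6, 12, 2, 20, 3] .fail)), (1, (.step [2, 20, 6, 15, 20, 4, 12] .fail)), (1, .fail), (1, (.step [3, 20, 6, 15, 11, 3, 4, 5] (.step [4, 8, 22, 5] .fail))), (1, (.step [2, 12, 6, 20, 3, 20, 15, 12] .fail)),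 (1, .fail), (1, (.step [3, 12, 6, 20, 15, 12, 6] .fail)), (1, .fail), (1, (.step [2, 20, 6, 15, 21, 15] (.step [4, 8, 20, 6] (.step [17, 17, 6] (.step [5, 18, 5] .fail))))), (1, (.step [3, 20, 6, 15, 20, 4, 3, 12] (.step [8, 11, 22, 15] .fail))), (1, (.step [0, 3, 12, 6, 15, 12, 15, 2, 20] .fail)), (1, (.step [2, 20, 2, 6, 15, 11, 11, 11] (.step [11, 22, 12, 15] .fail))), (1, (.step [3, 20, 6, 15, 21, 3, 11, 3] .fail)), (1, (.step [2, 12, 6, 12, 2, 20, 15, 3, 7] .fail)), (1, (.step [2, 20, 6, 15, 21, 15] .fail)), (2, .fail), (1, (.step [2, 15, 21, 3, 6, 20, 15, 20, 2] .fail)), (2, .fail), (1, (.step [2, 15, 2, 21, 2, 6, 11] .fail)), (1, (.step [2, 20, 15, 21, 6, 12, 12] .fail)), (1, (.step [2, 12, 6, 12, 3, 12, 15, 20] .fail)), (1, (.step [2, 12, 6, 20, 15, 3, 5, 6, 15] .fail)), (1, (.step [0, 2, 12, 6, 20, 15, 3, 5] .fail)),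 (1, .fail), (1, (.step [3, 12, 6, 20, 15, 5, 12] .fail)), (1, (.step [3, 20, 6, 15, 11, 3, 11, 21] .fail)), (1, (.step [2, 20, 6, 15, 21, 4, 15, 2] .fail)), (1, (.step [0, 3, 12, 15, 12, 6, 11] .fail)), (1, (.step [2, 20, 6, 15, 5, 6, 12, 3] .fail)), (1, (.step [0, 2, 12, 6, 21, 15, 11, 3] (.step [4, 5, 22, 4, 15] .fail))), (1, (.step [2, 20, 6, 15, 5, 4, 3] .fail)), (1, (.step [3, 20, 6, 15, 3, 21] (.step [4, 11, 15, 22, 11] .fail))), (1, (.step [0, 3, 20, 6, 15, 2, 21, 15, 21] .fail)), (1, (.step [2, 12, 6, 20, 15, 5, 12, 3, 12] .fail)), (1, (.step [0, 3, 11, 15, 11, 6] .fail)), (1, (.step [0, 3, 12, 15] .fail)), (1, (.step [2, 12, 6, 20, 15, 5, 4] (.step [11, 15, 22, 21, 11] .fail))), (1, .fail), (1, (.step [2, 12, 6, 12, 12, 3, 15] .fail)), (1, (.step [2, 20, 6, 15, 3, 8, 11, 15] (.step [4, 22, 20, 20, 15] .fail))), (1, (.step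 [2, 20, 6, 15, 8, 11, 15, 3] .fail)), (1, .fail), (1, (.step [2, 12, 6, 15, 20, 6, 15, 3, 5] .fail)), (1, (.step [0, 3, 12, 6, 20, 15, 12] .fail)), (1, (.step [2, 20, 6, 15, 20, 4, 12] (.step [4, 15, 5, 22, 8] .fail))), (1, (.step [2, 12, 6, 12, 12, 2, 15, 21] .fail)), (1, (.step [2, 12, 6, 20, 15, 12, 6, 20] (.step [4, 5, 22, 15, 5, 4] .fail))), (1, (.step [2, 15, 2, 21, 6, 11, 3] .fail)), (1, (.step [2, 12, 6, 20, 3, 15, 12] (.step [15, 22, 11, 22, 8] .fail))), (1, (.step [3, 12, 3, 6, 12, 15, 20] (.step [11, 11, 6, 21, 15] .fail))), (1, .fail), (1, (.step [2, 20, 6, 15, 5, 15, 11] .fail)), (1, (.step [0, 3, 12, 6, 15, 21] (.step [4, 22, 8, 11, 15] .fail))), (1, (.step [2, 12, 6, 15, 20, 6, 15, 8] .fail)), (1, (.step [2, 15, 2, 12, 6, 12, 15] .fail)), (1, (.step [2, 20, 6, 15, 12] .fail)), (1, (.step [0, 3, 12, 15, 12, 6, 11,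 15, 11] .fail)), (1, (.step [2, 12, 6, 20, 15, 3, 5, 15] .fail)), (1, (.step [2, 20, 6, 15, 3, 11, 11] .fail)), (1, (.step [2, 20, 6, 15, 3, 21, 15, 12] .fail)), (1, (.step [2, 15, 21, 3, 6, 12, 6, 12] .fail)), (1, (.step [3, 20, 6, 15, 21, 4, 3] .fail)), (1, (.step [2, 12, 6, 20, 15, 3, 5, 12] .fail)), (1, .fail), (1, (.step [0, 2, 20, 6, 15, 11, 2, 12] .fail)), (1, (.step [2, 12, 6, 15, 21, 3] .fail)), (1, (.step [0, 2, 20, 6, 15, 11, 11, 2] .fail)), (1, .fail), (1, (.step [2, 12, 6, 15, 12, 6, 15, 8] .fail)), (1, (.step [2, 20, 6, 15, 11, 8, 20] .fail)), (1, (.step [0, 2, 12, 6, 21, 15, 11, 3] .fail)), (1, (.step [2, 20, 2, 6, 15, 20, 4, 3] .fail)), (1, (.step [2, 12, 6, 15, 20, 2, 15, 20, 7] (.step [4, 5, 22, 8, 15] .fail))), (1, (.step [2, 12, 12, 3, 6, 12, 3, 15] .fail)), (1, (.step [2, 12, 15, 12, 6, 12, 15, 11] (.step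 [15, 11, 8] .fail))), (1, (.step [2, 15, 2, 12, 6, 12] .fail)), (1, (.step [2, 20, 6, 15, 3, 5, 4, 15] .fail)), (1, (.step [2, 15, 21, 3, 6, 12, 15, 20] .fail)), (1, (.step [3, 12, 3, 6, 12, 15, 21, 2] .fail)), (1, (.step [3, 12, 3, 12] .fail)), (1, (.step [2, 12, 6, 21, 15, 21, 11, 3] (.step [4, 8, 22, 5, 15] .fail))), (2, .fail), (1, (.step [3, 12, 6, 15, 21, 15, 11, 6] .fail)), (1, (.step [0, 2, 15, 21, 6, 15, 11] .fail)), (1, (.step [3, 12, 6, 20, 15, 21] .fail)), (1, (.step [2, 20, 6, 15, 5, 4, 6] .fail)), (1, (.step [2, 12, 6, 15, 20, 2, 15, 8, 21] .fail)), (1, (.step [0, 2, 20, 6, 15, 8, 20] .fail)), (1, (.step [2, 20, 6, 15, 3, 11, 15, 5, 12] (.step [15, 11, 11] .fail))), (1, (.step [3, 20, 15, 2, 12] (.step [4, 22, 21, 15] .fail))), (1, (.step [2, 12, 6, 20, 15, 2, 11, 2] (.step [15, 11, 11] .fail))), (1, (.step [2, 20,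 6, 15, 3, 21] (.step [4, 12, 22, 20] .fail))), (1, .fail), (1, (.step [0, 3, 20, 6, 15, 11, 11, 2] .fail)), (1, (.step [2, 15, 12, 15, 11, 6] .fail)), (1, (.step [3, 20, 6, 15, 3, 11] .fail)), (1, (.step [0, 2, 20, 6, 15, 5, 4, 3] (.step [8, 22, 11] .fail))), (1, .fail), (1, (.step [2, 12, 6, 20, 15, 2, 21, 12, 2] .fail)), (1, (.step [2, 15, 21, 3, 6, 12, 15, 21] .fail)), (1, (.step [2, 15, 21, 3, 4, 21] .fail)), (1, (.step [2, 20, 6, 15, 5, 15, 11] .fail)), (1, .fail), (1, (.step [0, 2, 20, 6, 15, 20, 12, 20, 2] .fail)), (1, (.step [2, 12, 6, 21, 15, 2, 11, 2] .fail)), (1, (.step [2, 12, 6, 15, 20, 3, 15, 5, 12] (.step [4, 11, 4, 22, 11] .fail))), (1, (.step [2, 12, 6, 20, 15, 3, 12, 2] (.step [4, 8, 22, 5, 6] .fail))), (1, (.step [2, 12, 6, 21, 15, 21, 3, 12] .fail)), (1, (.step [3, 12, 15, 12, 6, 11, 15] .fail)), (1, (.step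 [0, 3, 12, 6, 20, 2, 15, 21, 11] .fail)), (1, (.step [2, 20, 6, 15, 2, 11, 2, 8] .fail)), (1, (.step [0, 2, 12, 6, 20, 15, 5, 4] .fail)), (1, .fail), (1, (.step [0, 2, 20, 15, 5, 6] (.step [11, 22, 15, 22, 5] .fail))), (1, (.step [0, 3, 12, 6, 15, 12, 15, 2, 8] .fail)), (2, .fail), (1, (.step [3, 12, 6, 20, 3, 12, 3] .fail)), (1, (.step [2, 20, 6, 15, 8, 11, 3, 11] .fail)), (1, (.step [2, 12, 6, 20, 3, 20, 15, 12] .fail)), (1, (.step [3, 20, 6, 15, 21, 11, 2, 21] .fail)), (1, (.step [3, 20, 6, 15, 3, 12] .fail)), (1, (.step [2, 20, 6, 15, 11, 3, 6, 15] .fail)), (1, (.step [2, 15, 12, 6, 15, 5, 4, 3] .fail)), (1, (.step [2, 15, 21, 6, 15, 21, 3, 7] .fail)), (1, .fail), (1, (.step [3, 12, 3, 6, 12, 15, 20] .fail)), (1, (.step [2, 12, 6, 15, 12, 6, 15, 20] .fail)), (1, (.step [2, 20, 2, 6, 15, 20, 4, 3] .fail)), (1, .fail), (1, (.step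 [3, 12, 3, 6, 12, 15, 20] .fail)), (1, (.step [2, 20, 6, 15, 11, 11, 20] .fail)), (1, .fail), (1, (.step [0, 3, 12, 6, 15, 21, 8] .fail)), (1, (.step [0, 2, 20, 6, 15, 11, 11, 15] .fail)), (1, .fail), (1, (.step [2, 12, 6, 21, 15, 8, 11] .fail)), (1, (.step [3, 12, 6, 15, 12, 15, 2] .fail)), (1, .fail), (1, (.step [3, 12, 3, 20, 6, 11, 3] (.step [15, 8, 22, 21] .fail))), (1, (.step [3, 20, 6, 15, 21, 15, 20] .fail)), (1, (.step [2, 12, 6, 15, 20, 3, 15, 20, 15] .fail)), (1, (.step [3, 12, 6, 21, 2, 21, 8] .fail)), (1, (.step [2, 12, 6, 12, 3, 20, 3, 15] (.step [4, 22, 11, 8, 21] .fail))), (1, (.step [2, 12, 6, 15, 12, 6, 15, 2] .fail)), (1, (.step [2, 12, 6, 21, 15, 11, 2] .fail)), (1, (.step [2, 12, 6, 12, 12, 2, 15, 12] (.step [4, 5, 22, 15, 5, 6] .fail))), (1, (.step [2, 20, 2, 6, 15, 11, 11, 3, 20] .fail)), (1, .fail), (1,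 (.step [2, 20, 6, 15, 21, 3, 6, 15] .fail)), (1, (.step [3, 12, 3, 6, 20, 3, 15] .fail)), (1, (.step [2, 12, 6, 21, 15, 5, 15, 3] .fail)), (1, .fail), (1, (.step [0, 3, 12, 6, 15, 21, 3] .fail)), (1, (.step [2, 12, 6, 15, 12, 6, 15, 8] .fail)), (1, (.step [0, 2, 20, 6, 15, 21, 15] (.step [4, 5, 22, 15] .fail))), (1, (.step [2, 20, 6, 15, 8, 11, 3] .fail)), (1, (.step [2, 12, 6, 21, 15, 2, 11] .fail)), (1, (.step [2, 15, 21, 3, 6, 7, 21] .fail)), (1, .fail), (1, (.step [0, 3, 12, 6, 20, 15, 3, 12] .fail)), (1, (.step [2, 20, 6, 15, 11, 2, 8] (.step [4, 22, 12, 20] .fail))), (1, .fail), (1, (.step [3, 20, 6, 15, 11, 3, 4] .fail)), (1, (.step [3, 20, 6, 15, 3, 11, 15] .fail)), (1, (.step [0, 2, 12, 12, 6, 15, 21, 3] (.step [4, 15, 5, 4] .fail))), (1, (.step [2, 20, 15, 11, 6, 5] .fail)), (1, (.step [3, 12, 3, 6, 20, 15, 3, 12] .fail)),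 (1, (.step [2, 12, 6, 20, 15, 2, 8, 12, 20] (.step [15, 22, 15] (.step [7, 17, 17, 14] (.step [18, 22] .fail))))), (1, (.step [2, 12, 15, 12, 6, 12, 15, 11] .fail)), (1, .fail), (1, (.step [2, 20, 6, 15, 2, 12, 12] (.step [4, 22, 15, 21] .fail))), (1, (.step [2, 12, 6, 15, 20, 3, 15, 20, 4] .fail)), (1, (.step [0, 2, 20, 6, 15, 11, 11, 3] .fail)), (1, (.step [2, 12, 6, 20, 15, 2, 8, 15] (.step [4, 5, 22, 4, 15, 5] .fail))), (1, (.step [2, 20, 6, 15, 3, 12, 15, 21] .fail)), (1, (.step [2, 12, 6, 15, 21, 3, 11, 15, 21] .fail)), (1, (.step [2, 20, 6, 15, 21, 15, 2] .fail)), (1, (.step [3, 12, 3, 6, 12, 3, 12] .fail)), (1, (.step [3, 12, 3, 6, 20, 3, 15, 12] .fail)), (1, .fail), (1, (.step [2, 20, 6, 15, 8, 11, 15, 3] (.step [11, 22, 15, 12, 12] .fail))), (1, (.step [0, 2, 20, 6, 15, 11, 3, 11, 20] .fail)), (1, (.step [2, 12, 6, 20,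 15, 3, 8, 15] .fail)), (1, (.step [3, 12, 3, 6, 20, 3, 15, 20] .fail)), (1, (.step [2, 12, 6, 12, 12, 3, 4] .fail)), (1, (.step [2, 20, 6, 15, 3, 11, 15] (.step [4, 8, 22, 5, 4, 20] .fail))), (1, (.step [2, 15, 21, 3, 12, 6, 21] .fail)), (1, (.step [0, 2, 20, 6, 15, 12, 3, 15] .fail)), (1, (.step [2, 20, 6, 15, 11, 11, 6] .fail)), (1, (.step [2, 12, 6, 20, 15, 2, 12, 5] .fail)), (1, (.step [2, 12, 6, 20, 15, 3, 12, 5] .fail)), (1, (.step [0, 2, 20, 6, 15, 3, 21, 15, 12] .fail)), (1, .fail), (1, (.step [0, 2, 20, 6, 15, 5, 20] .fail)), (1, .fail), (1, (.step [0, 2, 12, 6, 20, 15, 2, 21, 4] .fail)), (1, .fail), (1, (.step [2, 11, 15, 11, 6, 5, 15, 21] (.step [12, 22, 4, 15] .fail))), (1, .fail), (1, (.step [2, 20, 6, 15, 5, 15, 21] .fail)), (1, (.step [3, 20, 6, 15, 21, 2, 20] .fail)), (1, (.step [3, 12, 6, 15, 21, 15, 3] .fail)),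 (1, (.step [2, 12, 6, 20, 7, 15, 5, 12] .fail)), (1, (.step [0, 2, 15, 21, 6, 15, 21, 15] .fail)), (1, (.step [2, 12, 6, 21, 15, 21, 2, 8] .fail)), (1, (.step [2, 15, 12, 6, 15, 11, 11, 11] (.step [15, 21, 22, 8] .fail))), (1, (.step [2, 12, 6, 15, 20, 3, 4, 6, 15] (.step [4, 5, 15, 5, 8] .fail))), (1, .fail), (1, (.step [3, 12, 6, 15, 12, 15, 20, 2, 11] .fail)), (1, (.step [2, 20, 15, 12, 6, 20, 4] .fail)), (1, .fail), (1, (.step [2, 12, 6, 20, 15, 2, 5, 20, 4] .fail)), (1, (.step [2, 12, 15, 12, 6, 12, 15, 2, 5] .fail)), (1, (.step [3, 12, 3, 12, 3, 6, 15] .fail)), (1, (.step [2, 12, 6, 12, 2, 12, 15, 20] .fail)), (1, .fail), (1, (.step [0, 2, 12, 6, 20, 15, 3, 11] .fail)), (1, (.step [3, 20, 6, 15, 21, 15, 11] (.step [11, 15, 5] .fail))), (1, (.step [2, 12, 6, 15, 20, 15] .fail)), (1, (.step [2, 12, 6, 15, 20, 4, 15, 3] (.step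 [4, 8, 22, 12, 12] .fail))), (1, (.step [2, 20, 6, 15, 2, 12, 12] (.step [4, 8, 22, 4, 21, 6] .fail))), (1, (.step [2, 20, 6, 15, 5, 15, 20] .fail)), (1, (.step [3, 12, 6, 20, 2, 15, 12] .fail)), (1, (.step [2, 12, 6, 20, 15, 5, 4, 3] .fail)), (1, (.step [2, 12, 6, 20, 15, 3, 11, 2, 15] .fail)), (1, (.step [2, 12, 6, 15, 12, 3, 15, 11] .fail)), (1, (.step [2, 12, 6, 12, 3, 12, 15, 20, 3] .fail)), (1, (.step [0, 2, 15, 21, 6, 15, 21, 15] .fail)), (1, (.step [3, 12, 6, 20, 2, 15, 12] .fail)), (1, (.step [2, 20, 2, 6, 15, 5, 15, 21] (.step [8, 22, 15, 21] .fail))), (1, (.step [2, 15, 12, 6, 15, 11, 3, 4, 11] .fail)), (1, (.step [2, 12, 6, 20, 7, 15, 12, 6] .fail)), (1, (.step [3, 20, 6, 15, 2, 11, 3, 4] .fail)), (1, (.step [2, 15, 21, 3, 6, 12] .fail)), (1, (.step [2, 12, 6, 20, 15, 3, 11] .fail)), (1, (.step [2, 20, 6, 15, 21, 15,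 21, 3] .fail)), (1, .fail), (1, (.step [2, 20, 6, 15, 20, 15, 20] .fail)), (1, .fail), (1, (.step [3, 12, 3, 6, 12, 15, 20, 3] (.step [11, 15, 22, 12] .fail))), (1, (.step [2, 12, 6, 21, 2, 11, 15, 2] .fail)), (1, (.step [0, 2, 20, 6, 15, 11, 15, 11] .fail)), (1, (.step [2, 12, 6, 15, 20, 6, 15, 3, 5] .fail)), (1, (.step [3, 20, 6, 15, 21, 15, 3, 5] (.step [8, 22, 20] .fail))), (1, (.step [0, 2, 12, 6, 21, 15, 11] .fail)), (1, .fail), (1, (.step [0, 3, 20, 6, 15, 21, 15, 3, 7] .fail)), (1, (.step [2, 20, 6, 15, 20, 4, 20] .fail)), (1, (.step [2, 20, 6, 15, 21, 11, 3] .fail)), (1, (.step [2, 20, 6, 15, 3, 12, 15, 21] .fail)), (1, (.step [3, 12, 6, 15, 5, 12, 15] .fail)), (1, (.step [3, 12, 3, 12, 6, 21, 15] .fail)), (1, (.step [2, 15, 21, 6, 15, 11, 11, 3] (.step [11, 11, 15, 22, 20] .fail))), (1, (.step [2, 15, 21, 3, 6, 12, 15,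 11] .fail)), (1, (.step [2, 12, 6, 20, 3, 15, 21] .fail)), (1, (.step [3, 12, 6, 20, 2, 15, 12] .fail)), (1, (.step [2, 12, 6, 12, 12, 3, 15, 20, 12] .fail)), (1, (.step [2, 20, 6, 15, 2, 11, 15] .fail)), (1, .fail), (1, (.step [2, 12, 6, 15, 20, 3, 15, 21, 7] (.step [8, 22, 11, 22] .fail))), (1, (.step [3, 12, 6, 20, 15, 3, 21, 4] (.step [4, 5, 15, 21, 4] .fail))), (1, (.step [0, 2, 20, 6, 15, 11, 15, 11] .fail)), (1, (.step [3, 12, 6, 15, 21, 15, 11] (.step [11, 11, 6] .fail))), (1, (.step [2, 12, 6, 12, 2, 12, 6, 15, 11] .fail)), (1, (.step [0, 2, 20, 6, 15, 5, 4] .fail)), (1, (.step [3, 12, 6, 21] .fail)), (1, (.step [0, 3, 12, 6, 20, 2, 12, 15, 8] .fail)), (1, .fail), (1, (.step [2, 12, 6, 21, 15, 5, 6] .fail)), (1, (.step [0, 2, 12, 6, 20, 15, 3, 11, 2] .fail)), (1, (.step [2, 20, 6, 15, 2, 11, 15] .fail)), (1, .fail), (1,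 (.step [0, 2, 15, 21, 6, 15, 11, 11] .fail)), (1, (.step [0, 2, 20, 6, 15, 3, 20] .fail)), (1, (.step [3, 12, 6, 20, 2, 12, 20, 15] .fail)), (1, (.step [2, 12, 6, 20, 15, 2, 21] .fail)), (1, (.step [3, 12, 6, 20, 2, 15, 12] .fail)), (1, .fail), (1, (.step [3, 20, 6, 15, 2, 11] .fail)), (1, (.step [0, 2, 20, 6, 15, 11, 11, 2, 20] .fail)), (1, (.step [3, 12, 6, 21, 15, 11, 3, 11] .fail)), (1, .fail), (1, (.step [2, 20, 6, 15, 11, 2, 8, 21] .fail)), (1, .fail), (1, (.step [2, 15, 12, 6, 15, 5, 15] .fail)), (1, (.step [2, 12, 6, 12, 3, 12, 15, 20] .fail)), (1, (.step [2, 20, 6, 15, 21, 2, 11, 3] .fail)), (1, (.step [3, 20, 6, 15, 20, 12] .fail)), (1, (.step [2, 20, 6, 15, 11, 11, 20, 2] .fail)), (1, (.step [3, 12, 6, 20, 15, 3, 20, 2] .fail)), (1, .fail), (1, (.step [3, 12, 3, 6, 12, 15, 20, 2] .fail)), (1, .fail), (1, (.step [2,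 12, 6, 12, 3, 20, 3, 15] .fail)), (1, .fail), (1, (.step [3, 12, 6, 20, 15, 12, 3, 6] .fail)), (1, (.step [2, 12, 6, 12, 3, 20] .fail)), (1, (.step [2, 12, 6, 12, 12, 3, 15, 20] .fail)), (1, (.step [2, 12, 6, 15, 12, 15, 21] .fail)), (1, (.step [2, 12, 6, 21, 15, 11] .fail)), (1, (.step [2, 12, 6, 15, 20, 15, 3] .fail)), (1, (.step [2, 12, 6, 20, 15, 2, 5, 4] .fail)), (1, (.step [2, 12, 6, 12, 3, 20, 2] .fail)), (1, (.step [0, 3, 12, 6, 20, 15, 3] .fail)), (2, .fail), (1, (.step [2, 20, 6, 15, 21, 8, 11] .fail)), (2, .fail), (1, (.step [2, 20, 6, 15, 2, 11, 8] (.step [12, 12, 6, 12] (.step [17, 14, 22] (.step [19, 5] .fail))))), (1, (.step [3, 12, 3, 12, 6, 21] .fail)), (1, (.step [2, 12, 6, 21, 15, 2, 11] .fail)), (1, .fail), (1, (.step [3, 20, 6, 15, 21, 11, 2, 21] .fail)), (1, (.step [3, 12, 3, 20, 6, 11, 3] .fail)), (1, (.step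 [2, 12, 6, 21, 15, 5] .fail)), (1, (.step [2, 12, 15, 12, 6, 21, 15, 11] .fail)), (1, (.step [0, 2, 12, 6, 20, 15, 3, 11, 6] .fail)), (1, (.step [3, 12, 6, 20, 2, 15, 21, 6] .fail)), (3, .fail), (1, (.step [2, 12, 6, 21, 15, 21, 3] .fail)), (1, (.step [3, 20, 6, 15, 2, 21, 15, 11] .fail)), (1, (.step [0, 2, 20, 6, 15, 20, 4, 20] .fail)), (1, (.step [0, 3, 12, 6, 20, 2, 20, 15, 8] .fail)), (1, (.step [0, 2, 12, 6, 20, 15, 3, 7] (.step [4, 21, 6] .fail))), (1, (.step [3, 20, 6, 15, 21, 3, 7] (.step [4, 5, 12, 22, 12] .fail))), (1, .fail), (1, (.step [3, 12, 6, 20, 15, 12, 12] .fail)), (3, .fail), (1, (.step [2, 20, 6, 15, 5, 20] .fail)), (1, (.step [2, 12, 15, 12, 6, 21, 8, 15] .fail)), (1, (.step [2, 15, 21, 3, 6, 12, 20] .fail)), (1, (.step [0, 2, 15, 21, 6, 15, 5] .fail)), (1, (.step [2, 12, 6, 15, 20, 2, 4, 15] .fail)), (1,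 (.step [2, 20, 6, 15, 11, 2, 21, 15] .fail)), (1, (.step [0, 2, 20, 6, 15, 8, 11] .fail)), (1, (.step [2, 20, 6, 15, 21, 4] .fail)), (1, (.step [2, 20, 15, 20, 6, 11] .fail)), (1, (.step [0, 2, 12, 6, 20, 15, 3, 20, 6] .fail)), (2, .fail), (1, (.step [2, 15, 12, 6, 15, 11, 3, 8] .fail)), (1, (.step [2, 12, 6, 12, 2, 20, 3, 15, 11] .fail)), (1, (.step [0, 2, 20, 6, 15, 3, 21, 15, 8] .fail)), (1, (.step [2, 12, 6, 15, 20, 2, 15, 5, 11] .fail)), (1, (.step [2, 20, 15, 3, 20] .fail)), (1, (.step [3, 20, 6, 15, 20, 4, 3, 21] .fail)), (1, (.step [0, 3, 12, 6, 20, 15, 21, 3, 7] (.step [11, 11, 6, 5, 15] .fail))), (1, .fail), (1, (.step [2, 20, 6, 15, 3, 7, 11] .fail)), (1, (.step [3, 12, 6, 20, 15, 12, 15] .fail)), (1, (.step [2, 12, 6, 15, 20, 3, 4, 15, 5] (.step [4, 22, 12, 15] (.step [6, 17, 6] (.step [18, 21] .fail))))), (1, .fail),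 (1, (.step [3, 12, 6, 15, 11, 15, 2] .fail)), (1, (.step [2, 20, 6, 15, 2, 11, 15] .fail)), (1, (.step [0, 3, 20, 6, 15, 11, 15, 3] .fail)), (1, (.step [2, 12, 6, 20, 7, 15, 2, 11] .fail)), (1, (.step [2, 12, 6, 12, 12, 3, 15, 20] .fail)), (1, (.step [3, 12, 6, 20, 2, 15, 12, 12] .fail)), (1, (.step [2, 12, 6, 20, 15, 2, 20] .fail)), (1, (.step [3, 20, 6, 15, 20, 12] .fail)), (1, .fail), (1, (.step [2, 12, 6, 15, 20, 15, 3] .fail)), (1, (.step [0, 2, 12, 6, 20, 15, 3, 7] .fail)), (1, (.step [2, 20, 6, 15, 11, 3, 4, 7] .fail)), (1, (.step [2, 12, 6, 20, 15, 5, 4, 12] (.step [12, 12, 22, 12] .fail))), (1, (.step [2, 12, 6, 21, 15, 3] .fail)), (1, (.step [3, 12, 6, 21, 2, 21, 11] .fail)), (1, (.step [3, 12, 6, 20, 3, 12, 3] .fail)), (1, (.step [0, 2, 12, 6, 20, 15, 3, 21, 15] (.step [4, 21, 15, 11] .fail))), (1, (.step [0, 3, 12,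 6, 15, 12, 15, 3] .fail)), (1, (.step [3, 12, 6, 15, 21, 4, 15, 11] (.step [4, 5, 22, 11, 22] .fail))), (1, (.step [2, 12, 12, 3, 6, 21] .fail)), (1, (.step [0, 2, 20, 6, 15, 21, 4] .fail)), (2, .fail), (1, (.step [2, 12, 12, 3, 6, 12] .fail)), (1, (.step [2, 20, 15, 12, 6, 20, 4, 3] .fail)), (1, (.step [0, 3, 20, 6, 15, 5, 8] .fail)), (1, (.step [2, 20, 6, 15, 5, 15, 20, 3] .fail)), (2, .fail), (1, (.step [2, 12, 6, 20, 15, 3, 5, 4, 12] .fail)), (1, (.step [0, 3, 20, 15, 20, 6, 11] .fail)), (1, (.step [2, 20, 6, 15, 21, 2, 11] .fail)), (1, (.step [2, 12, 6, 21, 15, 21, 3, 12] .fail)), (1, (.step [2, 12, 6, 15, 12, 3, 15, 11] .fail)), (1, .fail), (1, (.step [2, 12, 6, 12, 12, 3, 12] .fail)), (2, .fail), (1, (.step [2, 12, 6, 20, 15, 2, 12, 6, 21] .fail)), (1, (.step [2, 15, 2, 12, 6, 20, 3, 4] .fail)), (1, .fail), (1, (.step [2,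 20, 6, 15, 21, 8, 11] .fail)), (2, .fail), (1, (.step [2, 12, 6, 20, 15, 3, 8, 15] .fail)), (2, .fail), (1, (.step [0, 2, 20, 6, 15, 8] .fail)), (2, .fail), (1, (.step [2, 20, 6, 15, 11, 3, 11, 21] .fail)), (1, (.step [2, 12, 6, 12, 3, 12, 6] .fail)), (1, (.step [3, 20, 6, 15, 20, 12, 21] .fail)), (1, (.step [2, 15, 21, 3, 6, 12, 20] .fail)), (1, (.step [2, 12, 6, 20, 15, 21, 3] .fail)), (1, (.step [2, 12, 6, 12, 2, 20, 15, 3, 11] .fail)), (1, .fail), (1, (.step [2, 15, 21, 3, 6, 12, 6, 12] .fail)), (1, (.step [2, 15, 21, 3, 6, 20, 15, 21] .fail)), (1, (.step [3, 20, 6, 15, 21, 2, 8, 12] .fail)), (3, .fail), (1, (.step [2, 12, 6, 20, 15, 12, 2, 12] .fail)), (1, (.step [0, 2, 20, 6, 15, 21, 11, 15] (.step [15, 21, 8, 22] (.step [16, 13, 6] (.step [5, 18] .fail))))), (1, (.step [2, 15, 21, 6, 15, 21, 15] .fail)), (1, .fail), (1,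 (.step [2, 20, 6, 15, 3, 11, 15, 2] .fail)), (1, .fail), (1, (.step [0, 3, 20, 6, 15, 11, 11, 3, 20] (.step [11, 11, 6, 5] .fail))), (1, (.step [2, 12, 6, 12, 2, 12, 3] .fail)), (1, (.step [0, 2, 20, 6, 15, 11, 11, 15] .fail)), (1, (.step [2, 12, 6, 15, 12, 15, 3] .fail)), (1, (.step [3, 12, 6, 21, 2, 21, 8] .fail)), (1, (.step [0, 2, 20, 6, 15, 5, 20] .fail)), (1, (.step [2, 12, 20, 15, 2] .fail)), (1, (.step [2, 20, 6, 15, 21, 2, 12] .fail)), (1, (.step [2, 20, 6, 15, 11, 3, 15, 12] .fail)), (1, .fail), (1, (.step [2, 20, 6, 15, 11, 3, 8, 20] .fail)), (1, .fail), (1, (.step [2, 12, 6, 15, 20, 2, 15, 8, 21] .fail)), (1, (.step [2, 12, 6, 21, 2] .fail)), (1, (.step [0, 2, 20, 6, 15, 21, 3, 4] .fail)), (1, (.step [2, 12, 6, 15, 12, 15, 20, 3, 15] (.step [15, 21, 8, 22] (.step [17, 14, 6] (.step [21, 22] .fail))))), (1, (.step [2,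 20, 15, 20, 6, 11, 3, 4] .fail)), (1, (.step [0, 2, 20, 6, 15, 21, 3, 4] (.step [4, 8, 22] .fail))), (1, (.step [2, 12, 15, 12, 6, 12, 15, 5] .fail)), (1, (.step [2, 20, 2, 6, 15, 21, 11] .fail)), (1, (.step [2, 15, 2] .fail)), (1, (.step [3, 12, 6, 20, 2, 12, 15, 12] .fail)), (1, (.step [0, 3, 20, 6, 15, 11, 8] .fail)), (1, .fail), (1, (.step [0, 2, 20, 6, 15, 11, 11] .fail)), (1, .fail), (1, (.step [2, 15, 12, 6, 15, 5, 4] .fail)), (1, (.step [2, 12, 6, 15, 20, 15, 8, 7] .fail)), (1, (.step [2, 12, 6, 20, 7, 15, 5, 12, 3] .fail)), (1, (.step [2, 12, 6, 20, 15, 8] .fail)), (1, (.step [0, 2, 15, 21, 6, 15, 11, 3, 15] .fail))])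

/-- the pieces of a certificate -/
noncomputable def pcsT2 : List (List (List ℕ) × Cert) := [(UA_0, cT2_0), (UA_1, cT2_1), (UA_2, cT2_2)]

/-- a piece of a certificate -/
noncomputable def cCh_0 : Cert := (Cert.rl [(3, (.badPow 3 3)), (1, (.step [] (.step [] (Cert.rl [(1, (.badPow 18 3)), (1, (.step [] (Cert.rl [(1, (.done [])), (1, (.badAt 0)), (1, (.done [31, 32])), (29, (.badAt 0))]))), (1, (.badPow 18 3)), (1, (.step [44, 31] (Cert.rl [(4, (.badAt 0)), (1, (.badAt 1)), (21, (.badAt 0)), (1, (.badAt 1)), (5, (.badAt 0))]))), (1, (.step [40] (Cert.rl [(7, (.badAt 0)), (1, (.badAt 1)), (17, (.badAt 0)), (1, (.badAt 1)), (6, (.badAt 0))]))), (15, (.badPow 18 3)), (1, (.step [40, 44] (Cert.rl [(13, (.badAt 0)), (1, (.badAt 1)), (8, (.badAt 0)), (1, (.badAt 1)), (9, (.badAt 0))]))), (7, (.badPow 18 3)), (1, (.step [44] (Cert.rl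 [(17, (.badAt 0)), (1, (.done [32, 43, 44, 38, 38, 32, 39])), (10, (.badAt 0)), (1, (.done [46])), (3, (.badAt 0))]))), (1, (.step [44, 41] (Cert.rl [(19, (.badAt 0)), (1, (.done [33, 43, 44, 41, 39, 31, 39, 39])), (2, (.badAt 0)), (1, (.done [31, 32, 33, 43, 44, 41, 39, 31, 39, 39])), (9, (.badAt 0))])))])))), (14, (.badPow 3 3)), (1, (.step [8, 28, 5, 35] (.step [1, 36, 38, 38, 1] (Cert.rl [(1, (.step [40, 44, 44] (Cert.rl [(17, (.badAt 0)), (1, (.done [32, 43, 40, 44, 44, 38, 38, 38, 1, 36, 38, 38, 1, 8, 28, 5, 35, 0, 1, 3, 7])), (10, (.badAt 0)), (1, (.done [31, 43, 40, 44, 44, 38, 38, 38, 1, 36, 38, 38, 1, 8, 28, 5, 35, 0, 1, 3, 7])), (3, (.badAt 0))]))), (9, (.badPow 18 3)), (1, (.step [40] (Cert.rl [(13, (.badAt 0)), (1, (.done [32, 40, 39, 33, 39, 39, 1, 36, 38, 38, 1, 8, 28, 5, 35, 0, 1, 3, 7])), (1, (.done [31, 40, 39,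 33, 39, 39, 1, 36, 38, 38, 1, 8, 28, 5, 35, 0, 1, 3, 7])), (17, (.badAt 0))]))), (3, (.badPow 18 3)), (1, (.step [] (Cert.rl [(10, (.badAt 0)), (1, (.badAt 1)), (13, (.badAt 0)), (1, (.badAt 1)), (7, (.badAt 0))]))), (4, (.badPow 18 3)), (1, (.step [45] (Cert.rl [(8, (.badAt 0)), (1, (.done [42, 43, 45, 39, 39, 1, 36, 38, 38, 1, 8, 28, 5, 35, 0, 1, 3, 7])), (1, (.badAt 0)), (1, (.done [31, 32, 42, 43, 45, 39, 39, 1, 36, 38, 38, 1, 8, 28, 5, 35, 0, 1, 3, 7])), (21, (.badAt 0))]))), (1, (.badPow 18 3)), (1, (.step [44, 32] (Cert.rl [(6, (.badAt 0)), (1, (.badAt 1)), (20, (.badAt 0)), (1, (.badAt 1)), (4, (.badAt 0))]))), (5, (.badPow 18 3)), (1, (.step [44] (Cert.rl [(1, (.badAt 1)), (20, (.badAt 0)), (1, (.badAt 1)), (10, (.badAt 0))]))), (2, (.badPow 18 3))])))), (2, (.badPow 3 3)), (1, (.step [8, 28, 5] (.step [1, 36, 38, 38,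 1] (Cert.rl [(1, (.badPow 18 3)), (1, (.step [40, 44, 44] (Cert.rl [(17, (.badAt 0)), (1, (.done [32, 43, 40, 44, 44, 1, 36, 38, 38, 1, 8, 28, 5, 0, 3, 7, 8])), (10, (.badAt 0)), (1, (.done [31, 43, 40, 44, 44, 1, 36, 38, 38, 1, 8, 28, 5, 0, 3, 7, 8])), (3, (.badAt 0))]))), (1, (.badPow 18 3)), (1, (.step [45, 41] (Cert.rl [(13, (.badAt 0)), (1, (.badAt 1)), (8, (.badAt 0)), (1, (.badAt 1)), (9, (.badAt 0))]))), (1, (.step [40] (Cert.rl [(13, (.badAt 0)), (1, (.done [32, 40, 39, 33, 38, 1, 36, 38, 38, 1, 8, 28, 5, 0, 3, 7, 8])), (1, (.done [31, 40, 39, 33, 38, 1, 36, 38, 38, 1, 8, 28, 5, 0, 3, 7, 8])), (17, (.badAt 0))]))), (15, (.badPow 18 3)), (1, (.step [45] (Cert.rl [(8, (.badAt 0)), (1, (.done [42, 43, 45, 38, 1, 36, 38, 38, 1, 8, 28, 5, 0, 3, 7, 8])), (1, (.badAt 0)), (1, (.done [31, 32, 42, 43, 45, 38, 1, 36, 38, 38, 1,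 8, 28, 5, 0, 3, 7, 8])), (21, (.badAt 0))]))), (7, (.badPow 18 3)), (1, (.step [44] (Cert.rl [(5, (.badAt 0)), (1, (.badAt 1)), (17, (.badAt 0)), (1, (.badAt 1)), (8, (.badAt 0))]))), (1, (.step [44, 32] (Cert.rl [(6, (.badAt 0)), (1, (.badAt 1)), (20, (.badAt 0)), (1, (.badAt 1)), (4, (.badAt 0))])))])))), (27, (.badPow 3 3)), (1, .fail), (38, (.badPow 3 3)), (1, (.step [5, 6, 7, 28, 5, 6] .fail)), (5, (.badPow 3 3)), (1, (.step [4, 35, 1, 27, 8, 28] (.step [29, 38, 1, 37] (Cert.rl [(4, (.badPow 18 3)), (1, (.step [44, 41] (Cert.rl [(19, (.badAt 0)), (1, (.done [33, 43, 44, 41, 39, 33, 38, 29, 38, 1, 37, 4, 35, 1, 27, 8, 28, 0, 1, 3, 4, 5, 6, 7, 8])), (2, (.badAt 0)), (1, (.done [31, 32, 33, 43, 44, 41, 39, 33, 38, 29, 38, 1, 37, 4, 35, 1, 27, 8, 28, 0, 1, 3, 4, 5, 6, 7, 8])), (9, (.badAt 0))]))), (3, (.badPow 18 3)), (1, (.step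 [40, 45] (Cert.rl [(9, (.badAt 0)), (1, (.badAt 1)), (18, (.badAt 0)), (1, (.badAt 1)), (3, (.badAt 0))]))), (1, (.badPow 18 3)), (1, (.step [45, 41] (Cert.rl [(14, (.badAt 0)), (1, (.badAt 1)), (4, (.badAt 0)), (1, (.badAt 1)), (12, (.badAt 0))]))), (2, (.badPow 18 3)), (1, (.step [44, 31] (Cert.rl [(18, (.badAt 0)), (1, (.done [42, 44, 31, 39, 32, 39, 29, 38, 1, 37, 4, 35, 1, 27, 8, 28, 0, 1, 3, 4, 5, 6, 7, 8])), (7, (.badAt 0)), (1, (.done [31, 32, 42, 44, 31, 39, 32, 39, 29, 38, 1, 37, 4, 35, 1, 27, 8, 28, 0, 1, 3, 4, 5, 6, 7, 8])), (5, (.badAt 0))]))), (1, (.step [40, 44] (Cert.rl [(17, (.badAt 0)), (1, (.done [32, 43, 40, 44, 39, 33, 39, 31, 29, 38, 1, 37, 4, 35, 1, 27, 8, 28, 0, 1, 3, 4, 5, 6, 7, 8])), (10, (.badAt 0)), (1, (.done [31, 43, 40, 44, 39, 33, 39, 31, 29, 38, 1, 37, 4, 35, 1, 27, 8, 28, 0, 1, 3, 4, 5, 6, 7,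 8])), (3, (.badAt 0))]))), (13, (.badPow 18 3)), (1, (.step [44, 32] (Cert.rl [(2, (.badAt 0)), (1, (.badAt 1)), (28, (.badAt 0)), (1, (.badAt 1))]))), (1, (.badPow 18 3))])))), (16, (.badPow 3 3)), (1, (.step [34, 28, 34, 27, 6, 5] (.step [26, 29, 36, 36] (Cert.rl [(1, (.badPow 18 3)), (1, (.step [40, 44] (Cert.rl [(3, (.badAt 0)), (1, (.badAt 1)), (13, (.badAt 0)), (1, (.badAt 1)), (14, (.badAt 0))]))), (1, (.badPow 18 3)), (1, (.step [40] (Cert.rl [(25, (.badAt 0)), (1, (.done [43, 40, 38, 38, 38, 31, 38, 26, 29, 36, 36, 34, 28, 34, 27, 6, 5, 3, 4, 5, 6, 7, 3, 8, 7])), (4, (.badAt 0)), (1, (.done [31, 32, 43, 40, 38, 38, 38, 31, 38, 26, 29, 36, 36, 34, 28, 34, 27, 6, 5, 3, 4, 5, 6, 7, 3, 8, 7])), (1, (.badAt 0))]))), (1, (.badPow 18 3)), (1, (.step [44, 32] (Cert.rl [(3, (.badAt 0)), (1, (.done [31, 32, 33, 44, 32, 38, 38,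 38, 32, 26, 29, 36, 36, 34, 28, 34, 27, 6, 5, 3, 4, 5, 6, 7, 3, 8, 7])), (5, (.badAt 0)), (1, (.done [33, 44, 32, 38, 38, 38, 32, 26, 29, 36, 36, 34, 28, 34, 27, 6, 5, 3, 4, 5, 6, 7, 3, 8, 7])), (22, (.badAt 0))]))), (1, (.badPow 18 3)), (1, (.step [44, 31] (Cert.rl [(6, (.badAt 0)), (1, (.badAt 1)), (20, (.badAt 0)), (1, (.badAt 1)), (4, (.badAt 0))]))), (1, (.badPow 18 3)), (1, (.step [] (Cert.rl [(18, (.badAt 0)), (1, (.done [42, 39, 26, 29, 36, 36, 34, 28, 34, 27, 6, 5, 3, 4, 5, 6, 7, 3, 8, 7])), (7, (.badAt 0)), (1, (.done [31, 32, 42, 39, 26, 29, 36, 36, 34, 28, 34, 27, 6, 5, 3, 4, 5, 6, 7, 3, 8, 7])), (5, (.badAt 0))]))), (1, (.badPow 18 3)), (1, (.step [40] (Cert.rl [(3, (.badAt 0)), (1, (.badAt 1)), (13, (.badAt 0)), (1, (.badAt 1)), (14, (.badAt 0))]))), (18, (.badPow 18 3))])))), (55, (.badPow 3 3)), (1, .fail), (65,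 (.badPow 3 3)), (1, (.step [4, 27, 6, 8, 27, 34] (.step [26, 37, 30, 26] (Cert.rl [(1, (.step [45, 41] (Cert.rl [(10, (.badAt 0)), (1, (.badAt 1)), (13, (.badAt 0)), (1, (.badAt 1)), (7, (.badAt 0))]))), (1, (.step [44, 32] (Cert.rl [(13, (.badAt 0)), (1, (.done [32, 44, 32, 26, 37, 30, 26, 4, 27, 6, 8, 27, 34, 3, 4, 5, 7, 3, 2, 1, 4, 3, 8, 7])), (1, (.done [31, 44, 32, 26, 37, 30, 26, 4, 27, 6, 8, 27, 34, 3, 4, 5, 7, 3, 2, 1, 4, 3, 8, 7])), (17, (.badAt 0))]))), (1, (.step [44, 32] (Cert.rl [(3, (.badAt 0)), (1, (.badAt 1)), (13, (.badAt 0)), (1, (.badAt 1)), (14, (.badAt 0))]))), (1, (.step [45] (Cert.rl [(2, (.badAt 0)), (1, (.badAt 1)), (28, (.badAt 0)), (1, (.badAt 1))]))), (2, (.badPow 18 3)), (1, (.step [40] (Cert.rl [(17, (.badAt 0)), (1, (.done [32, 43, 40, 39, 32, 26, 37, 30, 26, 4, 27, 6, 8, 27, 34, 3, 4, 5, 7, 3, 2,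 1, 4, 3, 8, 7])), (10, (.badAt 0)), (1, (.done [31, 43, 40, 39, 32, 26, 37, 30, 26, 4, 27, 6, 8, 27, 34, 3, 4, 5, 7, 3, 2, 1, 4, 3, 8, 7])), (3, (.badAt 0))]))), (20, (.badPow 18 3)), (1, (.step [40, 44, 44] (Cert.rl [(1, (.badAt 0)), (1, (.done [31, 33, 42, 43, 40, 44, 44, 39, 31, 26, 37, 30, 26, 4, 27, 6, 8, 27, 34, 3, 4, 5, 7, 3, 2, 1, 4, 3, 8, 7])), (2, (.badAt 0)), (1, (.done [32, 33, 42, 43, 40, 44, 44, 39, 31, 26, 37, 30, 26, 4, 27, 6, 8, 27, 34, 3, 4, 5, 7, 3, 2, 1, 4, 3, 8, 7])), (27, (.badAt 0))]))), (2, (.badPow 18 3))])))), (3, (.badPow 3 3)), (1, (.step [28, 35, 28, 6] .fail)), (116, (.badPow 3 3)), (1, .fail), (147, (.badPow 3 3)), (1, (.step [6, 5, 4, 8] (.step [] (Cert.rl [(1, (.badPow 18 3)), (1, (.step [] (Cert.rl [(1, (.done [6, 5, 4, 8, 3, 4, 7, 3, 2, 1, 8, 7, 3, 2, 4, 3, 5, 6])), (1, (.badAt 0)), (1, (.done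 [31, 32, 6, 5, 4, 8, 3, 4, 7, 3, 2, 1, 8, 7, 3, 2, 4, 3, 5, 6])), (29, (.badAt 0))]))), (1, (.badPow 18 3)), (1, (.step [44, 31] (Cert.rl [(4, (.badAt 0)), (1, (.badAt 1)), (21, (.badAt 0)), (1, (.badAt 1)), (5, (.badAt 0))]))), (1, (.step [40] (Cert.rl [(7, (.badAt 0)), (1, (.badAt 1)), (17, (.badAt 0)), (1, (.badAt 1)), (6, (.badAt 0))]))), (15, (.badPow 18 3)), (1, (.step [40, 44] (Cert.rl [(13, (.badAt 0)), (1, (.badAt 1)), (8, (.badAt 0)), (1, (.badAt 1)), (9, (.badAt 0))]))), (7, (.badPow 18 3)), (1, (.step [44] (Cert.rl [(17, (.badAt 0)), (1, (.done [32, 43, 44, 38, 38, 32, 39, 6, 5, 4, 8, 3, 4, 7, 3, 2, 1, 8, 7, 3, 2, 4, 3, 5, 6])), (10, (.badAt 0)), (1, (.done [31, 43, 44, 38, 38, 32, 39, 6, 5, 4, 8, 3, 4, 7, 3, 2, 1, 8, 7, 3, 2, 4, 3, 5, 6])), (3, (.badAt 0))]))), (1, (.step [44, 41] (Cert.rl [(19, (.badAt 0)), (1, (.done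 [33, 43, 44, 41, 39, 31, 39, 39, 6, 5, 4, 8, 3, 4, 7, 3, 2, 1, 8, 7, 3, 2, 4, 3, 5, 6])), (2, (.badAt 0)), (1, (.done [31, 32, 33, 43, 44, 41, 39, 31, 39, 39, 6, 5, 4, 8, 3, 4, 7, 3, 2, 1, 8, 7, 3, 2, 4, 3, 5, 6])), (9, (.badAt 0))])))])))), (9, (.badPow 3 3)), (1, (.step [4, 8, 27, 6, 34, 8, 28] (.step [1, 29, 38, 29, 37] (Cert.rl [(1, (.step [45] (Cert.rl [(13, (.badAt 0)), (1, (.badAt 1)), (8, (.badAt 0)), (1, (.badAt 1)), (9, (.badAt 0))]))), (15, (.badPow 18 3)), (1, (.step [40] (Cert.rl [(21, (.badAt 0)), (1, (.done [31, 33, 43, 40, 39, 32, 39, 31, 1, 29, 38, 29, 37, 4, 8, 27, 6, 34, 8, 28, 0, 3, 4, 5, 6, 7, 3, 2, 4, 3, 5, 8, 7, 3, 4])), (9, (.badAt 0)), (1, (.done [32, 33, 43, 40, 39, 32, 39, 31, 1, 29, 38, 29, 37, 4, 8, 27, 6, 34, 8, 28, 0, 3, 4, 5, 6, 7, 3, 2, 4, 3, 5, 8, 7, 3, 4]))]))), (1, (.step [40, 45] (Cert.rl [(10,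 (.badAt 0)), (1, (.badAt 1)), (13, (.badAt 0)), (1, (.badAt 1)), (7, (.badAt 0))]))), (4, (.badPow 18 3)), (1, (.step [40, 45] (Cert.rl [(8, (.badAt 0)), (1, (.done [42, 43, 40, 45, 39, 31, 39, 1, 29, 38, 29, 37, 4, 8, 27, 6, 34, 8, 28, 0, 3, 4, 5, 6, 7, 3, 2, 4, 3, 5, 8, 7, 3, 4])), (1, (.badAt 0)), (1, (.done [31, 32, 42, 43, 40, 45, 39, 31, 39, 1, 29, 38, 29, 37, 4, 8, 27, 6, 34, 8, 28, 0, 3, 4, 5, 6, 7, 3, 2, 4, 3, 5, 8, 7, 3, 4])), (21, (.badAt 0))]))), (1, (.badPow 18 3)), (1, (.step [] (Cert.rl [(11, (.badAt 0)), (1, (.badAt 1)), (18, (.badAt 0)), (1, (.badAt 1)), (1, (.badAt 0))]))), (2, (.badPow 18 3)), (1, (.step [44, 32] (Cert.rl [(1, (.done [44, 32, 39, 31, 1, 29, 38, 29, 37, 4, 8, 27, 6, 34, 8, 28, 0, 3, 4, 5, 6, 7, 3, 2, 4, 3, 5, 8, 7, 3, 4])), (1, (.badAt 0)), (1, (.done [31, 32, 44, 32, 39, 31, 1, 29, 38, 29, 37,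 4, 8, 27, 6, 34, 8, 28, 0, 3, 4, 5, 6, 7, 3, 2, 4, 3, 5, 8, 7, 3, 4])), (29, (.badAt 0))]))), (2, (.badPow 18 3))])))), (38, (.badPow 3 3)), (1, (.step [35, 27, 8] (.step [1, 38, 37] (Cert.rl [(1, (.step [40, 44, 44] (Cert.rl [(8, (.badAt 0)), (1, (.done [42, 43, 40, 44, 44, 38, 38, 38, 1, 38, 37, 35, 27, 8, 3, 4, 5, 6, 7, 3, 2, 1, 4, 3, 5, 4, 7, 8, 7])), (1, (.badAt 0)), (1, (.done [31, 32, 42, 43, 40, 44, 44, 38, 38, 38, 1, 38, 37, 35, 27, 8, 3, 4, 5, 6, 7, 3, 2, 1, 4, 3, 5, 4, 7, 8, 7])), (21, (.badAt 0))]))), (9, (.badPow 18 3)), (1, (.step [40] (Cert.rl [(25, (.badAt 0)), (1, (.done [43, 40, 39, 33, 39, 39, 1, 38, 37, 35, 27, 8, 3, 4, 5, 6, 7, 3, 2, 1, 4, 3, 5, 4, 7, 8, 7])), (4, (.badAt 0)), (1, (.done [31, 32, 43, 40, 39, 33, 39, 39, 1, 38, 37, 35, 27, 8, 3, 4, 5, 6, 7, 3, 2, 1, 4, 3, 5, 4, 7, 8, 7])), (1, (.badAt 0))]))),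 (3, (.badPow 18 3)), (1, (.step [] (Cert.rl [(11, (.badAt 0)), (1, (.badAt 1)), (18, (.badAt 0)), (1, (.badAt 1)), (1, (.badAt 0))]))), (4, (.badPow 18 3)), (1, (.step [45] (Cert.rl [(1, (.done [45, 39, 39, 1, 38, 37, 35, 27, 8, 3, 4, 5, 6, 7, 3, 2, 1, 4, 3, 5, 4, 7, 8, 7])), (1, (.badAt 0)), (1, (.done [31, 32, 45, 39, 39, 1, 38, 37, 35, 27, 8, 3, 4, 5, 6, 7, 3, 2, 1, 4, 3, 5, 4, 7, 8, 7])), (29, (.badAt 0))]))), (1, (.badPow 18 3)), (1, (.step [44, 32] (Cert.rl [(13, (.badAt 0)), (1, (.badAt 1)), (8, (.badAt 0)), (1, (.badAt 1)), (9, (.badAt 0))]))), (5, (.badPow 18 3)), (1, (.step [44] (Cert.rl [(11, (.badAt 0)), (1, (.badAt 1)), (18, (.badAt 0)), (1, (.badAt 1)), (1, (.badAt 0))]))), (2, (.badPow 18 3))])))), (87, (.badPow 3 3)), (1, .fail), (7, (.badPow 3 3)), (1, (.step [5, 8, 28, 5] (.step [29, 37, 39, 26, 29] (Cert.rl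 [(1, (.badPow 18 3)), (1, (.step [45] (Cert.rl [(12, (.badAt 0)), (1, (.done [31, 32, 33, 42, 43, 45, 29, 37, 39, 26, 29, 5, 8, 28, 5, 0, 3, 4, 5, 6, 7, 3, 2, 4, 3, 5, 8, 7, 3, 4, 5])), (2, (.badAt 0)), (1, (.done [33, 42, 43, 45, 29, 37, 39, 26, 29, 5, 8, 28, 5, 0, 3, 4, 5, 6, 7, 3, 2, 4, 3, 5, 8, 7, 3, 4, 5])), (16, (.badAt 0))]))), (1, (.badPow 18 3)), (1, (.step [44, 44] (Cert.rl [(1, (.badAt 0)), (1, (.badAt 1)), (16, (.badAt 0)), (1, (.badAt 1)), (13, (.badAt 0))]))), (1, (.badPow 18 3)), (1, (.step [44, 32] (Cert.rl [(9, (.badAt 0)), (1, (.badAt 1)), (18, (.badAt 0)), (1, (.badAt 1)), (3, (.badAt 0))]))), (1, (.badPow 18 3)), (1, (.step [45, 41] (Cert.rl [(2, (.badAt 0)), (1, (.badAt 1)), (28, (.badAt 0)), (1, (.badAt 1))]))), (1, (.badPow 18 3)), (1, (.step [40, 44, 44] (Cert.rl [(25, (.badAt 0)), (1, (.done [43, 40, 44,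 44, 39, 29, 37, 39, 26, 29, 5, 8, 28, 5, 0, 3, 4, 5, 6, 7, 3, 2, 4, 3, 5, 8, 7, 3, 4, 5])), (4, (.badAt 0)), (1, (.done [31, 32, 43, 40, 44, 44, 39, 29, 37, 39, 26, 29, 5, 8, 28, 5, 0, 3, 4, 5, 6, 7, 3, 2, 4, 3, 5, 8, 7, 3, 4, 5])), (1, (.badAt 0))]))), (1, (.badPow 18 3)), (1, (.step [40] (Cert.rl [(3, (.badAt 0)), (1, (.done [31, 32, 33, 40, 39, 33, 29, 37, 39, 26, 29, 5, 8, 28, 5, 0, 3, 4, 5, 6, 7, 3, 2, 4, 3, 5, 8, 7, 3, 4, 5])), (5, (.badAt 0)), (1, (.done [33, 40, 39, 33, 29, 37, 39, 26, 29, 5, 8, 28, 5, 0, 3, 4, 5, 6, 7, 3, 2, 4, 3, 5, 8, 7, 3, 4, 5])), (22, (.badAt 0))]))), (18, (.badPow 18 3))])))), (9, (.badPow 3 3)), (1, (.step [4, 8, 27, 6, 34, 8, 28] (.step [1, 37, 29] (Cert.rl [(1, (.badPow 18 3)), (1, (.step [44, 44] (Cert.rl [(1, (.done [44, 44, 1, 37, 29, 4, 8, 27, 6, 34, 8, 28, 0, 3, 4, 5, 6, 7, 3, 2, 4, 5, 8,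 7, 3, 2, 1, 4])), (1, (.badAt 0)), (1, (.done [31, 32, 44, 44, 1, 37, 29, 4, 8, 27, 6, 34, 8, 28, 0, 3, 4, 5, 6, 7, 3, 2, 4, 5, 8, 7, 3, 2, 1, 4])), (29, (.badAt 0))]))), (1, (.badPow 18 3)), (1, (.step [44, 41] (Cert.rl [(3, (.badAt 0)), (1, (.badAt 1)), (13, (.badAt 0)), (1, (.badAt 1)), (14, (.badAt 0))]))), (1, (.step [] (Cert.rl [(15, (.badAt 0)), (1, (.badAt 1)), (4, (.badAt 0)), (1, (.badAt 1)), (11, (.badAt 0))]))), (15, (.badPow 18 3)), (1, (.step [44] (Cert.rl [(7, (.badAt 0)), (1, (.badAt 1)), (17, (.badAt 0)), (1, (.badAt 1)), (6, (.badAt 0))]))), (7, (.badPow 18 3)), (1, (.step [45] (Cert.rl [(12, (.badAt 0)), (1, (.done [31, 32, 33, 42, 43, 45, 38, 38, 32, 39, 1, 37, 29, 4, 8, 27, 6, 34, 8, 28, 0, 3, 4, 5, 6, 7, 3, 2, 4, 5, 8, 7, 3, 2, 1, 4])), (2, (.badAt 0)), (1, (.done [33, 42, 43, 45, 38, 38, 32, 39, 1, 37, 29,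 4, 8, 27, 6, 34, 8, 28, 0, 3, 4, 5, 6, 7, 3, 2, 4, 5, 8, 7, 3, 2, 1, 4])), (16, (.badAt 0))]))), (1, (.step [45, 41] (Cert.rl [(5, (.badAt 0)), (1, (.done [32, 42, 43, 45, 41, 39, 31, 39, 39, 1, 37, 29, 4, 8, 27, 6, 34, 8, 28, 0, 3, 4, 5, 6, 7, 3, 2, 4, 5, 8, 7, 3, 2, 1, 4])), (1, (.done [31, 42, 43, 45, 41, 39, 31, 39, 39, 1, 37, 29, 4, 8, 27, 6, 34, 8, 28, 0, 3, 4, 5, 6, 7, 3, 2, 4, 5, 8, 7, 3, 2, 1, 4])), (25, (.badAt 0))])))])))), (49, (.badPow 3 3)), (1, (.step [5, 6, 35, 8, 7] .fail)), (111, (.badPow 3 3)), (1, (.step [5, 8, 28, 5, 4] (.step [29, 37, 39, 26, 29] (Cert.rl [(2, (.badPow 18 3)), (1, (.step [] (Cert.rl [(12, (.badAt 0)), (1, (.done [31, 32, 33, 42, 43, 38, 38, 38, 33, 29, 37, 39, 26, 29, 5, 8, 28, 5, 4, 0, 3, 4, 5, 6, 7, 3, 2, 4, 5, 8, 7, 3, 2, 1, 4, 5])), (2, (.badAt 0)), (1, (.done [33, 42, 43, 38, 38, 38,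 33, 29, 37, 39, 26, 29, 5, 8, 28, 5, 4, 0, 3, 4, 5, 6, 7, 3, 2, 4, 5, 8, 7, 3, 2, 1, 4, 5])), (16, (.badAt 0))]))), (3, (.badPow 18 3)), (1, (.step [44, 31] (Cert.rl [(1, (.badAt 1)), (20, (.badAt 0)), (1, (.badAt 1)), (10, (.badAt 0))]))), (8, (.badPow 18 3)), (1, (.step [44, 31] (Cert.rl [(21, (.badAt 0)), (1, (.done [31, 33, 43, 44, 31, 39, 33, 39, 29, 37, 39, 26, 29, 5, 8, 28, 5, 4, 0, 3, 4, 5, 6, 7, 3, 2, 4, 5, 8, 7, 3, 2, 1, 4, 5])), (9, (.badAt 0)), (1, (.done [32, 33, 43, 44, 31, 39, 33, 39, 29, 37, 39, 26, 29, 5, 8, 28, 5, 4, 0, 3, 4, 5, 6, 7, 3, 2, 4, 5, 8, 7, 3, 2, 1, 4, 5]))]))), (7, (.badPow 18 3)), (1, (.step [44, 41] (Cert.rl [(7, (.badAt 0)), (1, (.badAt 1)), (17, (.badAt 0)), (1, (.badAt 1)), (6, (.badAt 0))]))), (1, (.badPow 18 3)), (1, (.step [] (Cert.rl [(6, (.badAt 0)), (1, (.badAt 1)), (20, (.badAt 0)), (1,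 (.badAt 1)), (4, (.badAt 0))]))), (1, (.step [44, 41] (Cert.rl [(1, (.done [44, 41, 39, 31, 38, 33, 29, 37, 39, 26, 29, 5, 8, 28, 5, 4, 0, 3, 4, 5, 6, 7, 3, 2, 4, 5, 8, 7, 3, 2, 1, 4, 5])), (1, (.badAt 0)), (1, (.done [31, 32, 44, 41, 39, 31, 38, 33, 29, 37, 39, 26, 29, 5, 8, 28, 5, 4, 0, 3, 4, 5, 6, 7, 3, 2, 4, 5, 8, 7, 3, 2, 1, 4, 5])), (29, (.badAt 0))]))), (3, (.badPow 18 3))])))), (1, (.badPow 3 3)), (1, (.step [7, 27, 8, 34, 27] (.step [1, 38, 1] (Cert.rl [(5, (.badPow 18 3)), (1, (.step [40] (Cert.rl [(12, (.badAt 0)), (1, (.done [31, 32, 33, 42, 43, 40, 38, 38, 38, 32, 1, 38, 1, 7, 27, 8, 34, 27, 0, 3, 4, 5, 6, 7, 3, 2, 4, 5, 8, 7, 3, 2, 4, 3, 7])), (2, (.badAt 0)), (1, (.done [33, 42, 43, 40, 38, 38, 38, 32, 1, 38, 1, 7, 27, 8, 34, 27, 0, 3, 4, 5, 6, 7, 3, 2, 4, 5, 8, 7, 3, 2, 4, 3, 7])), (16, (.badAt 0))]))), (5, (.badPow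 18 3)), (1, (.step [44, 32] (Cert.rl [(11, (.badAt 0)), (1, (.badAt 1)), (18, (.badAt 0)), (1, (.badAt 1)), (1, (.badAt 0))]))), (1, (.step [45, 41] (Cert.rl [(10, (.badAt 0)), (1, (.badAt 1)), (13, (.badAt 0)), (1, (.badAt 1)), (7, (.badAt 0))]))), (3, (.badPow 18 3)), (1, (.step [40, 44] (Cert.rl [(13, (.badAt 0)), (1, (.done [32, 40, 44, 39, 32, 39, 31, 1, 38, 1, 7, 27, 8, 34, 27, 0, 3, 4, 5, 6, 7, 3, 2, 4, 5, 8, 7, 3, 2, 4, 3, 7])), (1, (.done [31, 40, 44, 39, 32, 39, 31, 1, 38, 1, 7, 27, 8, 34, 27, 0, 3, 4, 5, 6, 7, 3, 2, 4, 5, 8, 7, 3, 2, 4, 3, 7])), (17, (.badAt 0))]))), (1, (.step [45, 41] (Cert.rl [(14, (.badAt 0)), (1, (.badAt 1)), (4, (.badAt 0)), (1, (.badAt 1)), (12, (.badAt 0))]))), (1, (.step [44, 31] (Cert.rl [(1, (.done [44, 31, 38, 38, 33, 1, 38, 1, 7, 27, 8, 34, 27, 0, 3, 4, 5, 6, 7, 3, 2, 4, 5, 8, 7, 3, 2,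 4, 3, 7])), (1, (.badAt 0)), (1, (.done [31, 32, 44, 31, 38, 38, 33, 1, 38, 1, 7, 27, 8, 34, 27, 0, 3, 4, 5, 6, 7, 3, 2, 4, 5, 8, 7, 3, 2, 4, 3, 7])), (29, (.badAt 0))]))), (11, (.badPow 18 3))])))), (51, (.badPow 3 3)), (1, (.step [4, 34, 28, 34, 1, 27] .fail)), (93, (.badPow 3 3)), (1, (.step [5, 8, 28, 34, 8] .fail)), (18, (.badPow 3 3)), (1, (.step [4, 8, 27, 6, 34, 8, 28] (.step [36, 39, 29, 38] (Cert.rl [(1, (.step [40, 45] (Cert.rl [(25, (.badAt 0)), (1, (.done [43, 40, 45, 38, 38, 38, 36, 39, 29, 38, 4, 8, 27, 6, 34, 8, 28, 0, 3, 4, 5, 6, 7, 3, 2, 4, 5, 8, 7, 3, 2, 4, 3, 5, 7])), (4, (.badAt 0)), (1, (.done [31, 32, 43, 40, 45, 38, 38, 38, 36, 39, 29, 38, 4, 8, 27, 6, 34, 8, 28, 0, 3, 4, 5, 6, 7, 3, 2, 4, 5, 8, 7, 3, 2, 4, 3, 5, 7])), (1, (.badAt 0))]))), (15, (.badPow 18 3)), (1, (.step [] (Cert.rl [(11, (.badAt 0)),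 (1, (.badAt 1)), (18, (.badAt 0)), (1, (.badAt 1)), (1, (.badAt 0))]))), (1, (.step [40, 44] (Cert.rl [(8, (.badAt 0)), (1, (.done [42, 43, 40, 44, 38, 38, 32, 38, 36, 39, 29, 38, 4, 8, 27, 6, 34, 8, 28, 0, 3, 4, 5, 6, 7, 3, 2, 4, 5, 8, 7, 3, 2, 4, 3, 5, 7])), (1, (.badAt 0)), (1, (.done [31, 32, 42, 43, 40, 44, 38, 38, 32, 38, 36, 39, 29, 38, 4, 8, 27, 6, 34, 8, 28, 0, 3, 4, 5, 6, 7, 3, 2, 4, 5, 8, 7, 3, 2, 4, 3, 5, 7])), (21, (.badAt 0))]))), (4, (.badPow 18 3)), (1, (.step [45] (Cert.rl [(12, (.badAt 0)), (1, (.done [31, 32, 33, 42, 43, 45, 39, 31, 39, 36, 39, 29, 38, 4, 8, 27, 6, 34, 8, 28, 0, 3, 4, 5, 6, 7, 3, 2, 4, 5, 8, 7, 3, 2, 4, 3, 5, 7])), (2, (.badAt 0)), (1, (.done [33, 42, 43, 45, 39, 31, 39, 36, 39, 29, 38, 4, 8, 27, 6, 34, 8, 28, 0, 3, 4, 5, 6, 7, 3, 2, 4, 5, 8, 7, 3, 2, 4, 3, 5, 7])), (16, (.badAt 0))]))), (1,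 (.badPow 18 3)), (1, (.step [44, 44] (Cert.rl [(1, (.badAt 0)), (1, (.badAt 1)), (16, (.badAt 0)), (1, (.badAt 1)), (13, (.badAt 0))]))), (2, (.badPow 18 3)), (1, (.step [44, 31] (Cert.rl [(14, (.badAt 0)), (1, (.badAt 1)), (4, (.badAt 0)), (1, (.badAt 1)), (12, (.badAt 0))]))), (2, (.badPow 18 3))])))), (44, (.badPow 3 3)), (1, (.step [34, 4, 5] (.step [26, 30, 37] (Cert.rl [(4, (.badPow 18 3)), (1, (.step [45, 41] (Cert.rl [(25, (.badAt 0)), (1, (.done [43, 45, 41, 39, 33, 38, 26, 30, 37, 34, 4, 5, 3, 4, 5, 6, 7, 3, 2, 1, 4, 3, 5, 8, 7, 3, 2, 1, 0, 4])), (4, (.badAt 0)), (1, (.done [31, 32, 43, 45, 41, 39, 33, 38, 26, 30, 37, 34, 4, 5, 3, 4, 5, 6, 7, 3, 2, 1, 4, 3, 5, 8, 7, 3, 2, 1, 0, 4])), (1, (.badAt 0))]))), (3, (.badPow 18 3)), (1, (.step [45] (Cert.rl [(6, (.badAt 0)), (1, (.badAt 1)), (20, (.badAt 0)), (1, (.badAt 1)),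 (4, (.badAt 0))]))), (1, (.badPow 18 3)), (1, (.step [44, 32] (Cert.rl [(6, (.badAt 0)), (1, (.badAt 1)), (20, (.badAt 0)), (1, (.badAt 1)), (4, (.badAt 0))]))), (2, (.badPow 18 3)), (1, (.step [44, 32] (Cert.rl [(25, (.badAt 0)), (1, (.done [43, 44, 32, 39, 32, 39, 26, 30, 37, 34, 4, 5, 3, 4, 5, 6, 7, 3, 2, 1, 4, 3, 5, 8, 7, 3, 2, 1, 0, 4])), (4, (.badAt 0)), (1, (.done [31, 32, 43, 44, 32, 39, 32, 39, 26, 30, 37, 34, 4, 5, 3, 4, 5, 6, 7, 3, 2, 1, 4, 3, 5, 8, 7, 3, 2, 1, 0, 4])), (1, (.badAt 0))]))), (1, (.step [40, 45] (Cert.rl [(16, (.badAt 0)), (1, (.done [32, 42, 40, 45, 39, 33, 39, 31, 26, 30, 37, 34, 4, 5, 3, 4, 5, 6, 7, 3, 2, 1, 4, 3, 5, 8, 7, 3, 2, 1, 0, 4])), (3, (.badAt 0)), (1, (.done [31, 42, 40, 45, 39, 33, 39, 31, 26, 30, 37, 34, 4, 5, 3, 4, 5, 6, 7, 3, 2, 1, 4, 3, 5, 8, 7, 3, 2, 1, 0, 4])), (11, (.badAt 0))]))),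 (13, (.badPow 18 3)), (1, (.step [45, 41] (Cert.rl [(1, (.badAt 1)), (20, (.badAt 0)), (1, (.badAt 1)), (10, (.badAt 0))]))), (1, (.badPow 18 3))])))), (118, (.badPow 3 3)), (1, (.step [4, 8, 27, 6, 34, 8, 28] .fail)), (19, (.badPow 3 3))])

/-- a piece of a certificate -/
noncomputable def cCh_1 : Cert := (Cert.rl [(34, (.badPow 3 3)), (1, (.step [4, 6, 27, 34, 28, 35] (.step [37, 30, 38, 30] (Cert.rl [(1, (.badPow 18 3)), (1, (.step [45] (Cert.rl [(24, (.badAt 0)), (1, (.done [32, 33, 42, 45, 37, 30, 38, 30, 4, 6, 27, 34, 28, 35, 3, 4, 5, 6, 7, 3, 2, 1, 4, 3, 5, 4, 7, 8, 7, 3, 2, 1, 4])), (4, (.badAt 0)), (1, (.done [31, 33, 42, 45, 37, 30, 38, 30, 4, 6, 27, 34, 28, 35, 3, 4, 5, 6, 7, 3, 2, 1, 4, 3, 5, 4, 7, 8, 7, 3, 2, 1, 4])), (2, (.badAt 0))]))), (1, (.badPow 18 3)), (1, (.step [44, 44] (Cert.rl [(1, (.badAt 1)), (20, (.badAt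 0)), (1, (.badAt 1)), (10, (.badAt 0))]))), (1, (.badPow 18 3)), (1, (.step [44, 32] (Cert.rl [(13, (.badAt 0)), (1, (.badAt 1)), (8, (.badAt 0)), (1, (.badAt 1)), (9, (.badAt 0))]))), (1, (.badPow 18 3)), (1, (.step [45, 41] (Cert.rl [(8, (.badAt 0)), (1, (.badAt 1)), (20, (.badAt 0)), (1, (.badAt 1)), (2, (.badAt 0))]))), (1, (.badPow 18 3)), (1, (.step [40, 44, 44] (Cert.rl [(18, (.badAt 0)), (1, (.done [42, 40, 44, 44, 39, 37, 30, 38, 30, 4, 6, 27, 34, 28, 35, 3, 4, 5, 6, 7, 3, 2, 1, 4, 3, 5, 4, 7, 8, 7, 3, 2, 1, 4])), (7, (.badAt 0)), (1, (.done [31, 32, 42, 40, 44, 44, 39, 37, 30, 38, 30, 4, 6, 27, 34, 28, 35, 3, 4, 5, 6, 7, 3, 2, 1, 4, 3, 5, 4, 7, 8, 7, 3, 2, 1, 4])), (5, (.badAt 0))]))), (1, (.badPow 18 3)), (1, (.step [40] (Cert.rl [(24, (.badAt 0)), (1, (.done [32, 33, 42, 40, 39, 33, 37, 30, 38, 30, 4, 6, 27, 34, 28,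 35, 3, 4, 5, 6, 7, 3, 2, 1, 4, 3, 5, 4, 7, 8, 7, 3, 2, 1, 4])), (4, (.badAt 0)), (1, (.done [31, 33, 42, 40, 39, 33, 37, 30, 38, 30, 4, 6, 27, 34, 28, 35, 3, 4, 5, 6, 7, 3, 2, 1, 4, 3, 5, 4, 7, 8, 7, 3, 2, 1, 4])), (2, (.badAt 0))]))), (18, (.badPow 18 3))])))), (16, (.badPow 3 3)), (1, (.step [4, 6, 27, 34, 28, 34] (.step [29, 26, 37, 29] (Cert.rl [(12, (.badPow 18 3)), (1, (.step [] (Cert.rl [(14, (.badAt 0)), (1, (.badAt 1)), (4, (.badAt 0)), (1, (.badAt 1)), (12, (.badAt 0))]))), (5, (.badPow 18 3)), (1, (.step [40, 45] (Cert.rl [(5, (.badAt 0)), (1, (.done [32, 42, 43, 40, 45, 38, 38, 33, 29, 26, 37, 29, 4, 6, 27, 34, 28, 34, 3, 4, 5, 6, 7, 3, 2, 1, 4, 3, 5, 8, 7, 3, 2, 1, 0, 4, 5])), (1, (.done [31, 42, 43, 40, 45, 38, 38, 33, 29, 26, 37, 29, 4, 6, 27, 34, 28, 34, 3, 4, 5, 6, 7, 3, 2, 1, 4, 3, 5, 8, 7, 3, 2, 1, 0, 4, 5])),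 (25, (.badAt 0))]))), (1, (.step [44, 32] (Cert.rl [(23, (.badAt 0)), (1, (.done [31, 32, 33, 42, 44, 32, 39, 39, 29, 26, 37, 29, 4, 6, 27, 34, 28, 34, 3, 4, 5, 6, 7, 3, 2, 1, 4, 3, 5, 8, 7, 3, 2, 1, 0, 4, 5])), (3, (.badAt 0)), (1, (.done [33, 42, 44, 32, 39, 39, 29, 26, 37, 29, 4, 6, 27, 34, 28, 34, 3, 4, 5, 6, 7, 3, 2, 1, 4, 3, 5, 8, 7, 3, 2, 1, 0, 4, 5])), (4, (.badAt 0))]))), (1, (.step [45, 41] (Cert.rl [(3, (.badAt 0)), (1, (.badAt 1)), (13, (.badAt 0)), (1, (.badAt 1)), (14, (.badAt 0))]))), (1, (.step [40] (Cert.rl [(7, (.badAt 0)), (1, (.badAt 1)), (17, (.badAt 0)), (1, (.badAt 1)), (6, (.badAt 0))]))), (7, (.badPow 18 3)), (1, (.step [40, 44, 44] (Cert.rl [(24, (.badAt 0)), (1, (.done [32, 33, 42, 40, 44, 44, 39, 31, 39, 39, 29, 26, 37, 29, 4, 6, 27, 34, 28, 34, 3, 4, 5, 6, 7, 3, 2, 1, 4, 3, 5, 8, 7, 3, 2, 1, 0, 4,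 5])), (4, (.badAt 0)), (1, (.done [31, 33, 42, 40, 44, 44, 39, 31, 39, 39, 29, 26, 37, 29, 4, 6, 27, 34, 28, 34, 3, 4, 5, 6, 7, 3, 2, 1, 4, 3, 5, 8, 7, 3, 2, 1, 0, 4, 5])), (2, (.badAt 0))])))])))), (81, (.badPow 3 3)), (1, (.step [4, 34, 28, 34, 1, 27] (.step [36, 30, 39, 30, 1] (Cert.rl [(2, (.badPow 18 3)), (1, (.step [40, 44, 44] (Cert.rl [(5, (.badAt 0)), (1, (.badAt 1)), (17, (.badAt 0)), (1, (.badAt 1)), (8, (.badAt 0))]))), (3, (.badPow 18 3)), (1, (.step [45, 41] (Cert.rl [(18, (.badAt 0)), (1, (.done [42, 45, 41, 39, 32, 36, 30, 39, 30, 1, 4, 34, 28, 34, 1, 27, 3, 4, 5, 6, 7, 3, 2, 4, 3, 5, 8, 7, 3, 2, 1, 4, 3, 2, 7])), (7, (.badAt 0)), (1, (.done [31, 32, 42, 45, 41, 39, 32, 36, 30, 39, 30, 1, 4, 34, 28, 34, 1, 27, 3, 4, 5, 6, 7, 3, 2, 4, 3, 5, 8, 7, 3, 2, 1, 4, 3, 2, 7])), (5, (.badAt 0))]))), (8, (.badPow 18 3)),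 (1, (.step [45, 41] (Cert.rl [(8, (.badAt 0)), (1, (.done [42, 43, 45, 41, 39, 33, 39, 36, 30, 39, 30, 1, 4, 34, 28, 34, 1, 27, 3, 4, 5, 6, 7, 3, 2, 4, 3, 5, 8, 7, 3, 2, 1, 4, 3, 2, 7])), (1, (.badAt 0)), (1, (.done [31, 32, 42, 43, 45, 41, 39, 33, 39, 36, 30, 39, 30, 1, 4, 34, 28, 34, 1, 27, 3, 4, 5, 6, 7, 3, 2, 4, 3, 5, 8, 7, 3, 2, 1, 4, 3, 2, 7])), (21, (.badAt 0))]))), (7, (.badPow 18 3)), (1, (.step [44, 41] (Cert.rl [(23, (.badAt 0)), (1, (.done [31, 32, 33, 42, 44, 41, 38, 38, 32, 36, 30, 39, 30, 1, 4, 34, 28, 34, 1, 27, 3, 4, 5, 6, 7, 3, 2, 4, 3, 5, 8, 7, 3, 2, 1, 4, 3, 2, 7])), (3, (.badAt 0)), (1, (.done [33, 42, 44, 41, 38, 38, 32, 36, 30, 39, 30, 1, 4, 34, 28, 34, 1, 27, 3, 4, 5, 6, 7, 3, 2, 4, 3, 5, 8, 7, 3, 2, 1, 4, 3, 2, 7])), (4, (.badAt 0))]))), (1, (.badPow 18 3)), (1, (.step [40, 44, 44] (Cert.rl [(1, (.badAt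 1)), (20, (.badAt 0)), (1, (.badAt 1)), (10, (.badAt 0))]))), (1, (.step [44, 41] (Cert.rl [(11, (.badAt 0)), (1, (.badAt 1)), (18, (.badAt 0)), (1, (.badAt 1)), (1, (.badAt 0))]))), (3, (.badPow 18 3))])))), (96, (.badPow 3 3)), (1, (.step [7, 35, 8] (.step [29, 37, 38] (Cert.rl [(7, (.badPow 18 3)), (1, (.step [40, 45] (Cert.rl [(2, (.badAt 0)), (1, (.badAt 1)), (28, (.badAt 0)), (1, (.badAt 1))]))), (1, (.step [45, 41] (Cert.rl [(14, (.badAt 0)), (1, (.badAt 1)), (4, (.badAt 0)), (1, (.badAt 1)), (12, (.badAt 0))]))), (1, (.step [44, 31] (Cert.rl [(18, (.badAt 0)), (1, (.done [42, 44, 31, 39, 29, 37, 38, 7, 35, 8, 3, 4, 5, 6, 7, 3, 2, 1, 4, 3, 5, 4, 7, 8, 7, 3, 2, 1, 4, 5])), (7, (.badAt 0)), (1, (.done [31, 32, 42, 44, 31, 39, 29, 37, 38, 7, 35, 8, 3, 4, 5, 6, 7, 3, 2, 1, 4, 3, 5, 4, 7, 8, 7, 3, 2, 1, 4, 5])), (5, (.badAt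 0))]))), (3, (.badPow 18 3)), (1, (.step [40, 44, 44] (Cert.rl [(23, (.badAt 0)), (1, (.done [31, 32, 33, 42, 40, 44, 44, 39, 32, 39, 29, 37, 38, 7, 35, 8, 3, 4, 5, 6, 7, 3, 2, 1, 4, 3, 5, 4, 7, 8, 7, 3, 2, 1, 4, 5])), (3, (.badAt 0)), (1, (.done [33, 42, 40, 44, 44, 39, 32, 39, 29, 37, 38, 7, 35, 8, 3, 4, 5, 6, 7, 3, 2, 1, 4, 3, 5, 4, 7, 8, 7, 3, 2, 1, 4, 5])), (4, (.badAt 0))]))), (8, (.badPow 18 3)), (1, (.step [40] (Cert.rl [(16, (.badAt 0)), (1, (.done [32, 42, 40, 39, 31, 39, 29, 37, 38, 7, 35, 8, 3, 4, 5, 6, 7, 3, 2, 1, 4, 3, 5, 4, 7, 8, 7, 3, 2, 1, 4, 5])), (3, (.badAt 0)), (1, (.done [31, 42, 40, 39, 31, 39, 29, 37, 38, 7, 35, 8, 3, 4, 5, 6, 7, 3, 2, 1, 4, 3, 5, 4, 7, 8, 7, 3, 2, 1, 4, 5])), (11, (.badAt 0))]))), (1, (.badPow 18 3)), (1, (.step [44, 32] (Cert.rl [(2, (.badAt 0)), (1, (.badAt 1)), (28, (.badAt 0)), (1,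 (.badAt 1))]))), (5, (.badPow 18 3))])))), (104, (.badPow 3 3)), (1, (.step [7, 35, 27, 8, 7] (.step [1, 39, 26, 30] (Cert.rl [(4, (.badPow 18 3)), (1, (.step [44, 31] (Cert.rl [(12, (.badAt 0)), (1, (.done [31, 32, 33, 42, 43, 44, 31, 39, 33, 38, 1, 39, 26, 30, 7, 35, 27, 8, 7, 3, 4, 5, 6, 7, 3, 2, 4, 3, 5, 8, 7, 3, 2, 1, 4, 3, 2, 5, 7])), (2, (.badAt 0)), (1, (.done [33, 42, 43, 44, 31, 39, 33, 38, 1, 39, 26, 30, 7, 35, 27, 8, 7, 3, 4, 5, 6, 7, 3, 2, 4, 3, 5, 8, 7, 3, 2, 1, 4, 3, 2, 5, 7])), (16, (.badAt 0))]))), (3, (.badPow 18 3)), (1, (.step [40, 44] (Cert.rl [(13, (.badAt 0)), (1, (.done [32, 40, 44, 39, 33, 39, 32, 1, 39, 26, 30, 7, 35, 27, 8, 7, 3, 4, 5, 6, 7, 3, 2, 4, 3, 5, 8, 7, 3, 2, 1, 4, 3, 2, 5, 7])), (1, (.done [31, 40, 44, 39, 33, 39, 32, 1, 39, 26, 30, 7, 35, 27, 8, 7, 3, 4, 5, 6, 7, 3, 2, 4, 3, 5, 8, 7, 3, 2,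 1, 4, 3, 2, 5, 7])), (17, (.badAt 0))]))), (1, (.badPow 18 3)), (1, (.step [44, 32] (Cert.rl [(23, (.badAt 0)), (1, (.done [31, 32, 33, 42, 44, 32, 39, 33, 39, 39, 1, 39, 26, 30, 7, 35, 27, 8, 7, 3, 4, 5, 6, 7, 3, 2, 4, 3, 5, 8, 7, 3, 2, 1, 4, 3, 2, 5, 7])), (3, (.badAt 0)), (1, (.done [33, 42, 44, 32, 39, 33, 39, 39, 1, 39, 26, 30, 7, 35, 27, 8, 7, 3, 4, 5, 6, 7, 3, 2, 4, 3, 5, 8, 7, 3, 2, 1, 4, 3, 2, 5, 7])), (4, (.badAt 0))]))), (2, (.badPow 18 3)), (1, (.step [44, 41] (Cert.rl [(15, (.badAt 0)), (1, (.badAt 1)), (4, (.badAt 0)), (1, (.badAt 1)), (11, (.badAt 0))]))), (1, (.step [40, 45] (Cert.rl [(15, (.badAt 0)), (1, (.badAt 1)), (4, (.badAt 0)), (1, (.badAt 1)), (11, (.badAt 0))]))), (13, (.badPow 18 3)), (1, (.step [44, 31] (Cert.rl [(2, (.badAt 0)), (1, (.badAt 1)), (28, (.badAt 0)), (1, (.badAt 1))]))), (1, (.badPow 18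 3))])))), (247, (.badPow 3 3)), (1, (.step [6, 28, 34, 1] (.step [26, 37, 30, 26] (Cert.rl [(1, (.step [44, 32] (Cert.rl [(11, (.badAt 0)), (1, (.badAt 1)), (18, (.badAt 0)), (1, (.badAt 1)), (1, (.badAt 0))]))), (1, (.step [44, 31] (Cert.rl [(1, (.done [44, 31, 26, 37, 30, 26, 6, 28, 34, 1, 3, 4, 5, 6, 7, 3, 2, 1, 4, 3, 2, 5, 8, 7, 3, 2, 1, 4, 3, 2, 5, 6])), (1, (.badAt 0)), (1, (.done [31, 32, 44, 31, 26, 37, 30, 26, 6, 28, 34, 1, 3, 4, 5, 6, 7, 3, 2, 1, 4, 3, 2, 5, 8, 7, 3, 2, 1, 4, 3, 2, 5, 6])), (29, (.badAt 0))]))), (1, (.step [45, 41] (Cert.rl [(7, (.badAt 0)), (1, (.badAt 1)), (17, (.badAt 0)), (1, (.badAt 1)), (6, (.badAt 0))]))), (1, (.step [40, 45] (Cert.rl [(9, (.badAt 0)), (1, (.badAt 1)), (18, (.badAt 0)), (1, (.badAt 1)), (3, (.badAt 0))]))), (2, (.badPow 18 3)), (1, (.step [40, 44, 44] (Cert.rl [(8, (.badAt 0)),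 (1, (.done [42, 43, 40, 44, 44, 39, 32, 26, 37, 30, 26, 6, 28, 34, 1, 3, 4, 5, 6, 7, 3, 2, 1, 4, 3, 2, 5, 8, 7, 3, 2, 1, 4, 3, 2, 5, 6])), (1, (.badAt 0)), (1, (.done [31, 32, 42, 43, 40, 44, 44, 39, 32, 26, 37, 30, 26, 6, 28, 34, 1, 3, 4, 5, 6, 7, 3, 2, 1, 4, 3, 2, 5, 8, 7, 3, 2, 1, 4, 3, 2, 5, 6])), (21, (.badAt 0))]))), (20, (.badPow 18 3)), (1, (.step [40] (Cert.rl [(21, (.badAt 0)), (1, (.done [31, 33, 43, 40, 39, 31, 26, 37, 30, 26, 6, 28, 34, 1, 3, 4, 5, 6, 7, 3, 2, 1, 4, 3, 2, 5, 8, 7, 3, 2, 1, 4, 3, 2, 5, 6])), (9, (.badAt 0)), (1, (.done [32, 33, 43, 40, 39, 31, 26, 37, 30, 26, 6, 28, 34, 1, 3, 4, 5, 6, 7, 3, 2, 1, 4, 3, 2, 5, 8, 7, 3, 2, 1, 4, 3, 2, 5, 6]))]))), (2, (.badPow 18 3))])))), (44, (.badPow 3 3)), (1, .fail), (19, (.badPow 3 3)), (1, (.step [6, 8, 28, 5, 35] .fail)), (4, (.badPow 3 3)), (1, (.step [5, 35,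 6, 28] .fail)), (59, (.badPow 3 3)), (1, (.step [5, 6, 27, 34, 1] (.step [29, 37, 39, 29, 29] (Cert.rl [(7, (.badPow 18 3)), (1, (.step [40] (Cert.rl [(19, (.badAt 0)), (1, (.done [33, 43, 40, 38, 38, 38, 31, 29, 37, 39, 29, 29, 5, 6, 27, 34, 1, 3, 4, 5, 6, 7, 3, 2, 1, 4, 8, 7, 3, 2, 1, 4, 3, 5, 4, 7, 3, 2, 1])), (2, (.badAt 0)), (1, (.done [31, 32, 33, 43, 40, 38, 38, 38, 31, 29, 37, 39, 29, 29, 5, 6, 27, 34, 1, 3, 4, 5, 6, 7, 3, 2, 1, 4, 8, 7, 3, 2, 1, 4, 3, 5, 4, 7, 3, 2, 1])), (9, (.badAt 0))]))), (1, (.badPow 18 3)), (1, (.step [40, 44] (Cert.rl [(6, (.badAt 0)), (1, (.badAt 1)), (20, (.badAt 0)), (1, (.badAt 1)), (4, (.badAt 0))]))), (5, (.badPow 18 3)), (1, (.step [40] (Cert.rl [(8, (.badAt 0)), (1, (.badAt 1)), (20, (.badAt 0)), (1, (.badAt 1)), (2, (.badAt 0))]))), (3, (.badPow 18 3)), (1, (.step [] (Cert.rl [(16, (.badAt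 0)), (1, (.done [32, 42, 39, 39, 29, 37, 39, 29, 29, 5, 6, 27, 34, 1, 3, 4, 5, 6, 7, 3, 2, 1, 4, 8, 7, 3, 2, 1, 4, 3, 5, 4, 7, 3, 2, 1])), (3, (.badAt 0)), (1, (.done [31, 42, 39, 39, 29, 37, 39, 29, 29, 5, 6, 27, 34, 1, 3, 4, 5, 6, 7, 3, 2, 1, 4, 8, 7, 3, 2, 1, 4, 3, 5, 4, 7, 3, 2, 1])), (11, (.badAt 0))]))), (1, (.badPow 18 3)), (1, (.step [40, 45] (Cert.rl [(14, (.badAt 0)), (1, (.badAt 1)), (4, (.badAt 0)), (1, (.badAt 1)), (12, (.badAt 0))]))), (3, (.badPow 18 3)), (1, (.step [40, 44] (Cert.rl [(1, (.badAt 0)), (1, (.done [31, 33, 42, 43, 40, 44, 39, 32, 39, 32, 29, 37, 39, 29, 29, 5, 6, 27, 34, 1, 3, 4, 5, 6, 7, 3, 2, 1, 4, 8, 7, 3, 2, 1, 4, 3, 5, 4, 7, 3, 2, 1])), (2, (.badAt 0)), (1, (.done [32, 33, 42, 43, 40, 44, 39, 32, 39, 32, 29, 37, 39, 29, 29, 5, 6, 27, 34, 1, 3, 4, 5, 6, 7, 3, 2, 1, 4, 8, 7, 3, 2, 1, 4, 3, 5, 4,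 7, 3, 2, 1])), (27, (.badAt 0))]))), (4, (.badPow 18 3))])))), (74, (.badPow 3 3)), (1, (.step [28, 6, 5, 34] .fail)), (107, (.badPow 3 3)), (1, (.step [6, 35, 8, 34] (.step [30, 38, 37] (Cert.rl [(4, (.badPow 18 3)), (1, (.step [44, 41] (Cert.rl [(14, (.badAt 0)), (1, (.badAt 1)), (4, (.badAt 0)), (1, (.badAt 1)), (12, (.badAt 0))]))), (3, (.badPow 18 3)), (1, (.step [44] (Cert.rl [(16, (.badAt 0)), (1, (.done [32, 42, 44, 39, 33, 39, 32, 30, 38, 37, 6, 35, 8, 34, 3, 4, 5, 6, 7, 3, 2, 1, 4, 3, 5, 8, 7, 3, 2, 1, 0, 4, 3, 5, 4, 6, 7])), (3, (.badAt 0)), (1, (.done [31, 42, 44, 39, 33, 39, 32, 30, 38, 37, 6, 35, 8, 34, 3, 4, 5, 6, 7, 3, 2, 1, 4, 3, 5, 8, 7, 3, 2, 1, 0, 4, 3, 5, 4, 6, 7])), (11, (.badAt 0))]))), (1, (.badPow 18 3)), (1, (.step [44, 31] (Cert.rl [(8, (.badAt 0)), (1, (.badAt 1)), (20, (.badAt 0)), (1, (.badAt 1)),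 (2, (.badAt 0))]))), (2, (.badPow 18 3)), (1, (.step [45, 41] (Cert.rl [(4, (.badAt 0)), (1, (.badAt 1)), (21, (.badAt 0)), (1, (.badAt 1)), (5, (.badAt 0))]))), (1, (.step [45] (Cert.rl [(25, (.badAt 0)), (1, (.done [43, 45, 39, 33, 39, 31, 30, 38, 37, 6, 35, 8, 34, 3, 4, 5, 6, 7, 3, 2, 1, 4, 3, 5, 8, 7, 3, 2, 1, 0, 4, 3, 5, 4, 6, 7])), (4, (.badAt 0)), (1, (.done [31, 32, 43, 45, 39, 33, 39, 31, 30, 38, 37, 6, 35, 8, 34, 3, 4, 5, 6, 7, 3, 2, 1, 4, 3, 5, 8, 7, 3, 2, 1, 0, 4, 3, 5, 4, 6, 7])), (1, (.badAt 0))]))), (13, (.badPow 18 3)), (1, (.step [44, 32] (Cert.rl [(21, (.badAt 0)), (1, (.done [31, 33, 43, 44, 32, 38, 38, 32, 39, 30, 38, 37, 6, 35, 8, 34, 3, 4, 5, 6, 7, 3, 2, 1, 4, 3, 5, 8, 7, 3, 2, 1, 0, 4, 3, 5, 4, 6, 7])), (9, (.badAt 0)), (1, (.done [32, 33, 43, 44, 32, 38, 38, 32, 39, 30, 38, 37, 6, 35, 8, 34, 3, 4, 5, 6,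 7, 3, 2, 1, 4, 3, 5, 8, 7, 3, 2, 1, 0, 4, 3, 5, 4, 6, 7]))]))), (1, (.badPow 18 3))])))), (170, (.badPow 3 3)), (1, (.step [35, 8, 7, 28] (.step [29, 37, 38] (Cert.rl [(7, (.badPow 18 3)), (1, (.step [40, 45] (Cert.rl [(2, (.badAt 0)), (1, (.badAt 1)), (28, (.badAt 0)), (1, (.badAt 1))]))), (1, (.step [45, 41] (Cert.rl [(14, (.badAt 0)), (1, (.badAt 1)), (4, (.badAt 0)), (1, (.badAt 1)), (12, (.badAt 0))]))), (1, (.step [44, 31] (Cert.rl [(18, (.badAt 0)), (1, (.done [42, 44, 31, 39, 29, 37, 38, 35, 8, 7, 28, 3, 4, 5, 6, 7, 3, 2, 1, 4, 3, 2, 7, 8, 7, 3, 2, 1, 4, 3, 2, 5, 4, 3, 7])), (7, (.badAt 0)), (1, (.done [31, 32, 42, 44, 31, 39, 29, 37, 38, 35, 8, 7, 28, 3, 4, 5, 6, 7, 3, 2, 1, 4, 3, 2, 7, 8, 7, 3, 2, 1, 4, 3, 2, 5, 4, 3, 7])), (5, (.badAt 0))]))), (3, (.badPow 18 3)), (1, (.step [40, 44, 44] (Cert.rl [(23, (.badAt 0)),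 (1, (.done [31, 32, 33, 42, 40, 44, 44, 39, 32, 39, 29, 37, 38, 35, 8, 7, 28, 3, 4, 5, 6, 7, 3, 2, 1, 4, 3, 2, 7, 8, 7, 3, 2, 1, 4, 3, 2, 5, 4, 3, 7])), (3, (.badAt 0)), (1, (.done [33, 42, 40, 44, 44, 39, 32, 39, 29, 37, 38, 35, 8, 7, 28, 3, 4, 5, 6, 7, 3, 2, 1, 4, 3, 2, 7, 8, 7, 3, 2, 1, 4, 3, 2, 5, 4, 3, 7])), (4, (.badAt 0))]))), (8, (.badPow 18 3)), (1, (.step [40] (Cert.rl [(16, (.badAt 0)), (1, (.done [32, 42, 40, 39, 31, 39, 29, 37, 38, 35, 8, 7, 28, 3, 4, 5, 6, 7, 3, 2, 1, 4, 3, 2, 7, 8, 7, 3, 2, 1, 4, 3, 2, 5, 4, 3, 7])), (3, (.badAt 0)), (1, (.done [31, 42, 40, 39, 31, 39, 29, 37, 38, 35, 8, 7, 28, 3, 4, 5, 6, 7, 3, 2, 1, 4, 3, 2, 7, 8, 7, 3, 2, 1, 4, 3, 2, 5, 4, 3, 7])), (11, (.badAt 0))]))), (1, (.badPow 18 3)), (1, (.step [44, 32] (Cert.rl [(2, (.badAt 0)), (1, (.badAt 1)), (28, (.badAt 0)), (1, (.badAt 1))]))),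 (5, (.badPow 18 3))])))), (32, (.badPow 3 3)), (1, (.step [5, 35, 8, 35, 27] .fail)), (11, (.badPow 3 3)), (1, (.step [6, 8, 27, 34, 8] (.step [30, 36, 1, 29] (Cert.rl [(1, (.badPow 18 3)), (1, (.step [45] (Cert.rl [(3, (.badAt 0)), (1, (.badAt 1)), (13, (.badAt 0)), (1, (.badAt 1)), (14, (.badAt 0))]))), (1, (.badPow 18 3)), (1, (.step [44, 44] (Cert.rl [(7, (.badAt 0)), (1, (.done [31, 33, 44, 44, 38, 38, 38, 31, 38, 30, 36, 1, 29, 6, 8, 27, 34, 8, 3, 4, 5, 6, 7, 3, 2, 1, 4, 3, 5, 4, 8, 7, 3, 2, 1, 4, 3, 2, 5, 7, 3, 4])), (3, (.badAt 0)), (1, (.done [32, 33, 44, 44, 38, 38, 38, 31, 38, 30, 36, 1, 29, 6, 8, 27, 34, 8, 3, 4, 5, 6, 7, 3, 2, 1, 4, 3, 5, 4, 8, 7, 3, 2, 1, 4, 3, 2, 5, 7, 3, 4])), (20, (.badAt 0))]))), (1, (.badPow 18 3)), (1, (.step [44, 41] (Cert.rl [(6, (.badAt 0)), (1, (.badAt 1)), (20, (.badAt 0)), (1, (.badAt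 1)), (4, (.badAt 0))]))), (1, (.badPow 18 3)), (1, (.step [44, 31] (Cert.rl [(12, (.badAt 0)), (1, (.done [31, 32, 33, 42, 43, 44, 31, 38, 38, 38, 31, 30, 36, 1, 29, 6, 8, 27, 34, 8, 3, 4, 5, 6, 7, 3, 2, 1, 4, 3, 5, 4, 8, 7, 3, 2, 1, 4, 3, 2, 5, 7, 3, 4])), (2, (.badAt 0)), (1, (.done [33, 42, 43, 44, 31, 38, 38, 38, 31, 30, 36, 1, 29, 6, 8, 27, 34, 8, 3, 4, 5, 6, 7, 3, 2, 1, 4, 3, 5, 4, 8, 7, 3, 2, 1, 4, 3, 2, 5, 7, 3, 4])), (16, (.badAt 0))]))), (1, (.badPow 18 3)), (1, (.step [] (Cert.rl [(14, (.badAt 0)), (1, (.badAt 1)), (4, (.badAt 0)), (1, (.badAt 1)), (12, (.badAt 0))]))), (1, (.badPow 18 3)), (1, (.step [44, 44] (Cert.rl [(8, (.badAt 0)), (1, (.done [42, 43, 44, 44, 39, 33, 30, 36, 1, 29, 6, 8, 27, 34, 8, 3, 4, 5, 6, 7, 3, 2, 1, 4, 3, 5, 4, 8, 7, 3, 2, 1, 4, 3, 2, 5, 7, 3, 4])), (1, (.badAt 0)), (1, (.done [31, 32, 42,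 43, 44, 44, 39, 33, 30, 36, 1, 29, 6, 8, 27, 34, 8, 3, 4, 5, 6, 7, 3, 2, 1, 4, 3, 5, 4, 8, 7, 3, 2, 1, 4, 3, 2, 5, 7, 3, 4])), (21, (.badAt 0))]))), (18, (.badPow 18 3))])))), (57, (.badPow 3 3))])

/-- a piece of a certificate -/
noncomputable def cCh_2 : Cert := (Cert.rl [(184, (.badPow 3 3)), (1, (.step [4, 34, 4, 35] .fail)), (13, (.badPow 3 3)), (1, (.step [5, 34, 4, 5, 27, 34] (.step [30, 37, 26] (Cert.rl [(4, (.badPow 18 3)), (1, (.step [44, 41] (Cert.rl [(23, (.badAt 0)), (1, (.done [31, 32, 33, 42, 44, 41, 39, 33, 38, 30, 37, 26, 5, 34, 4, 5, 27, 34, 3, 4, 5, 6, 7, 3, 2, 1, 4, 3, 5, 4, 8, 7, 3, 2, 1, 4, 3, 2, 5, 7, 3, 4, 5])), (3, (.badAt 0)), (1, (.done [33, 42, 44, 41, 39, 33, 38, 30, 37, 26, 5, 34, 4, 5, 27, 34, 3, 4, 5, 6, 7, 3, 2, 1, 4, 3, 5, 4, 8, 7, 3, 2, 1, 4, 3, 2, 5, 7, 3, 4, 5])), (4, (.badAt 0))]))), (3, (.badPow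 18 3)), (1, (.step [40, 45] (Cert.rl [(13, (.badAt 0)), (1, (.badAt 1)), (8, (.badAt 0)), (1, (.badAt 1)), (9, (.badAt 0))]))), (1, (.badPow 18 3)), (1, (.step [45, 41] (Cert.rl [(15, (.badAt 0)), (1, (.badAt 1)), (4, (.badAt 0)), (1, (.badAt 1)), (11, (.badAt 0))]))), (2, (.badPow 18 3)), (1, (.step [44, 31] (Cert.rl [(13, (.badAt 0)), (1, (.done [32, 44, 31, 39, 32, 39, 30, 37, 26, 5, 34, 4, 5, 27, 34, 3, 4, 5, 6, 7, 3, 2, 1, 4, 3, 5, 4, 8, 7, 3, 2, 1, 4, 3, 2, 5, 7, 3, 4, 5])), (1, (.done [31, 44, 31, 39, 32, 39, 30, 37, 26, 5, 34, 4, 5, 27, 34, 3, 4, 5, 6, 7, 3, 2, 1, 4, 3, 5, 4, 8, 7, 3, 2, 1, 4, 3, 2, 5, 7, 3, 4, 5])), (17, (.badAt 0))]))), (1, (.step [40, 44] (Cert.rl [(1, (.done [40, 44, 39, 33, 39, 31, 30, 37, 26, 5, 34, 4, 5, 27, 34, 3, 4, 5, 6, 7, 3, 2, 1, 4, 3, 5, 4, 8, 7, 3, 2, 1, 4, 3, 2, 5, 7, 3, 4, 5])), (1, (.badAt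 0)), (1, (.done [31, 32, 40, 44, 39, 33, 39, 31, 30, 37, 26, 5, 34, 4, 5, 27, 34, 3, 4, 5, 6, 7, 3, 2, 1, 4, 3, 5, 4, 8, 7, 3, 2, 1, 4, 3, 2, 5, 7, 3, 4, 5])), (29, (.badAt 0))]))), (13, (.badPow 18 3)), (1, (.step [44, 32] (Cert.rl [(8, (.badAt 0)), (1, (.badAt 1)), (20, (.badAt 0)), (1, (.badAt 1)), (2, (.badAt 0))]))), (1, (.badPow 18 3))])))), (52, (.badPow 3 3)), (1, (.step [4, 27, 6, 8] (.step [26, 37, 30, 26] (Cert.rl [(1, (.step [45, 41] (Cert.rl [(10, (.badAt 0)), (1, (.badAt 1)), (13, (.badAt 0)), (1, (.badAt 1)), (7, (.badAt 0))]))), (1, (.step [44, 32] (Cert.rl [(13, (.badAt 0)), (1, (.done [32, 44, 32, 26, 37, 30, 26, 4, 27, 6, 8, 3, 4, 5, 6, 7, 3, 2, 1, 4, 5, 8, 7, 3, 2, 1, 0, 4, 3, 2, 5, 4, 7, 3, 2, 1])), (1, (.done [31, 44, 32, 26, 37, 30, 26, 4, 27, 6, 8, 3, 4, 5, 6, 7, 3, 2, 1, 4, 5, 8, 7, 3, 2, 1, 0, 4, 3, 2,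 5, 4, 7, 3, 2, 1])), (17, (.badAt 0))]))), (1, (.step [44, 32] (Cert.rl [(3, (.badAt 0)), (1, (.badAt 1)), (13, (.badAt 0)), (1, (.badAt 1)), (14, (.badAt 0))]))), (1, (.step [45] (Cert.rl [(2, (.badAt 0)), (1, (.badAt 1)), (28, (.badAt 0)), (1, (.badAt 1))]))), (2, (.badPow 18 3)), (1, (.step [40] (Cert.rl [(17, (.badAt 0)), (1, (.done [32, 43, 40, 39, 32, 26, 37, 30, 26, 4, 27, 6, 8, 3, 4, 5, 6, 7, 3, 2, 1, 4, 5, 8, 7, 3, 2, 1, 0, 4, 3, 2, 5, 4, 7, 3, 2, 1])), (10, (.badAt 0)), (1, (.done [31, 43, 40, 39, 32, 26, 37, 30, 26, 4, 27, 6, 8, 3, 4, 5, 6, 7, 3, 2, 1, 4, 5, 8, 7, 3, 2, 1, 0, 4, 3, 2, 5, 4, 7, 3, 2, 1])), (3, (.badAt 0))]))), (20, (.badPow 18 3)), (1, (.step [40, 44, 44] (Cert.rl [(1, (.badAt 0)), (1, (.done [31, 33, 42, 43, 40, 44, 44, 39, 31, 26, 37, 30, 26, 4, 27, 6, 8, 3, 4, 5, 6, 7, 3, 2, 1, 4, 5, 8, 7, 3, 2, 1,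 0, 4, 3, 2, 5, 4, 7, 3, 2, 1])), (2, (.badAt 0)), (1, (.done [32, 33, 42, 43, 40, 44, 44, 39, 31, 26, 37, 30, 26, 4, 27, 6, 8, 3, 4, 5, 6, 7, 3, 2, 1, 4, 5, 8, 7, 3, 2, 1, 0, 4, 3, 2, 5, 4, 7, 3, 2, 1])), (27, (.badAt 0))]))), (2, (.badPow 18 3))])))), (1, .fail), (217, (.badPow 3 3)), (1, (.step [6, 34, 8, 27] (.step [37, 29, 1] (Cert.rl [(12, (.badPow 18 3)), (1, (.step [40, 44, 44] (Cert.rl [(1, (.badAt 1)), (20, (.badAt 0)), (1, (.badAt 1)), (10, (.badAt 0))]))), (5, (.badPow 18 3)), (1, (.step [44] (Cert.rl [(19, (.badAt 0)), (1, (.done [33, 43, 44, 38, 38, 33, 37, 29, 1, 6, 34, 8, 27, 3, 4, 5, 6, 7, 3, 2, 1, 4, 3, 5, 4, 8, 7, 3, 2, 4, 3, 5, 4, 7, 3, 2, 1, 8, 7])), (2, (.badAt 0)), (1, (.done [31, 32, 33, 43, 44, 38, 38, 33, 37, 29, 1, 6, 34, 8, 27, 3, 4, 5, 6, 7, 3, 2, 1, 4, 3, 5, 4, 8, 7, 3, 2, 4, 3, 5, 4, 7, 3, 2, 1, 8,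 7])), (9, (.badAt 0))]))), (1, (.step [44, 32] (Cert.rl [(6, (.badAt 0)), (1, (.badAt 1)), (20, (.badAt 0)), (1, (.badAt 1)), (4, (.badAt 0))]))), (1, (.step [44, 31] (Cert.rl [(3, (.badAt 0)), (1, (.done [31, 32, 33, 44, 31, 38, 37, 29, 1, 6, 34, 8, 27, 3, 4, 5, 6, 7, 3, 2, 1, 4, 3, 5, 4, 8, 7, 3, 2, 4, 3, 5, 4, 7, 3, 2, 1, 8, 7])), (5, (.badAt 0)), (1, (.done [33, 44, 31, 38, 37, 29, 1, 6, 34, 8, 27, 3, 4, 5, 6, 7, 3, 2, 1, 4, 3, 5, 4, 8, 7, 3, 2, 4, 3, 5, 4, 7, 3, 2, 1, 8, 7])), (22, (.badAt 0))]))), (1, (.step [40] (Cert.rl [(25, (.badAt 0)), (1, (.done [43, 40, 39, 31, 38, 37, 29, 1, 6, 34, 8, 27, 3, 4, 5, 6, 7, 3, 2, 1, 4, 3, 5, 4, 8, 7, 3, 2, 4, 3, 5, 4, 7, 3, 2, 1, 8, 7])), (4, (.badAt 0)), (1, (.done [31, 32, 43, 40, 39, 31, 38, 37, 29, 1, 6, 34, 8, 27, 3, 4, 5, 6, 7, 3, 2, 1, 4, 3, 5, 4, 8, 7, 3, 2, 4, 3, 5, 4, 7, 3,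 2, 1, 8, 7])), (1, (.badAt 0))]))), (7, (.badPow 18 3)), (1, (.step [] (Cert.rl [(5, (.badAt 0)), (1, (.badAt 1)), (17, (.badAt 0)), (1, (.badAt 1)), (8, (.badAt 0))])))])))), (58, (.badPow 3 3)), (1, (.step [5, 27, 6, 8, 27, 8] (.step [37, 38, 38] (Cert.rl [(1, (.step [44, 44] (Cert.rl [(6, (.badAt 0)), (1, (.badAt 1)), (20, (.badAt 0)), (1, (.badAt 1)), (4, (.badAt 0))]))), (9, (.badPow 18 3)), (1, (.step [40, 44, 44] (Cert.rl [(3, (.badAt 0)), (1, (.badAt 1)), (13, (.badAt 0)), (1, (.badAt 1)), (14, (.badAt 0))]))), (3, (.badPow 18 3)), (1, (.step [40] (Cert.rl [(19, (.badAt 0)), (1, (.done [33, 43, 40, 39, 33, 39, 31, 37, 38, 38, 5, 27, 6, 8, 27, 8, 3, 4, 5, 6, 7, 3, 2, 1, 4, 3, 2, 5, 4, 3, 8, 7, 3, 2, 1, 4, 3, 5, 4, 7, 3, 2, 1])), (2, (.badAt 0)), (1, (.done [31, 32, 33, 43, 40, 39, 33, 39, 31, 37, 38, 38, 5, 27, 6, 8, 27,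 8, 3, 4, 5, 6, 7, 3, 2, 1, 4, 3, 2, 5, 4, 3, 8, 7, 3, 2, 1, 4, 3, 5, 4, 7, 3, 2, 1])), (9, (.badAt 0))]))), (4, (.badPow 18 3)), (1, (.step [40, 45] (Cert.rl [(1, (.badAt 0)), (1, (.done [31, 33, 42, 43, 40, 45, 39, 39, 37, 38, 38, 5, 27, 6, 8, 27, 8, 3, 4, 5, 6, 7, 3, 2, 1, 4, 3, 2, 5, 4, 3, 8, 7, 3, 2, 1, 4, 3, 5, 4, 7, 3, 2, 1])), (2, (.badAt 0)), (1, (.done [32, 33, 42, 43, 40, 45, 39, 39, 37, 38, 38, 5, 27, 6, 8, 27, 8, 3, 4, 5, 6, 7, 3, 2, 1, 4, 3, 2, 5, 4, 3, 8, 7, 3, 2, 1, 4, 3, 5, 4, 7, 3, 2, 1])), (27, (.badAt 0))]))), (1, (.badPow 18 3)), (1, (.step [44, 31] (Cert.rl [(6, (.badAt 0)), (1, (.badAt 1)), (20, (.badAt 0)), (1, (.badAt 1)), (4, (.badAt 0))]))), (5, (.badPow 18 3)), (1, (.step [45] (Cert.rl [(13, (.badAt 0)), (1, (.done [32, 45, 39, 31, 37, 38, 38, 5, 27, 6, 8, 27, 8, 3, 4, 5, 6, 7, 3, 2, 1, 4, 3, 2, 5, 4,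 3, 8, 7, 3, 2, 1, 4, 3, 5, 4, 7, 3, 2, 1])), (1, (.done [31, 45, 39, 31, 37, 38, 38, 5, 27, 6, 8, 27, 8, 3, 4, 5, 6, 7, 3, 2, 1, 4, 3, 2, 5, 4, 3, 8, 7, 3, 2, 1, 4, 3, 5, 4, 7, 3, 2, 1])), (17, (.badAt 0))]))), (2, (.badPow 18 3))])))), (1, (.step [35, 27, 6] .fail)), (70, (.badPow 3 3)), (1, (.step [5, 28, 35, 1] (.step [37, 29, 37, 38] (Cert.rl [(1, (.step [40, 44] (Cert.rl [(7, (.badAt 0)), (1, (.done [31, 33, 40, 44, 38, 38, 38, 37, 29, 37, 38, 5, 28, 35, 1, 3, 4, 5, 6, 7, 3, 2, 1, 4, 3, 2, 5, 4, 8, 7, 3, 2, 4, 3, 5, 4, 7, 3, 2, 1, 8, 7])), (3, (.badAt 0)), (1, (.done [32, 33, 40, 44, 38, 38, 38, 37, 29, 37, 38, 5, 28, 35, 1, 3, 4, 5, 6, 7, 3, 2, 1, 4, 3, 2, 5, 4, 8, 7, 3, 2, 4, 3, 5, 4, 7, 3, 2, 1, 8, 7])), (20, (.badAt 0))]))), (15, (.badPow 18 3)), (1, (.step [40] (Cert.rl [(10, (.badAt 0)), (1, (.badAt 1)), (13, (.badAt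 0)), (1, (.badAt 1)), (7, (.badAt 0))]))), (1, (.step [40, 45] (Cert.rl [(1, (.done [40, 45, 38, 38, 32, 38, 37, 29, 37, 38, 5, 28, 35, 1, 3, 4, 5, 6, 7, 3, 2, 1, 4, 3, 2, 5, 4, 8, 7, 3, 2, 4, 3, 5, 4, 7, 3, 2, 1, 8, 7])), (1, (.badAt 0)), (1, (.done [31, 32, 40, 45, 38, 38, 32, 38, 37, 29, 37, 38, 5, 28, 35, 1, 3, 4, 5, 6, 7, 3, 2, 1, 4, 3, 2, 5, 4, 8, 7, 3, 2, 4, 3, 5, 4, 7, 3, 2, 1, 8, 7])), (29, (.badAt 0))]))), (4, (.badPow 18 3)), (1, (.step [44] (Cert.rl [(1, (.badAt 0)), (1, (.done [31, 33, 42, 43, 44, 39, 31, 39, 37, 29, 37, 38, 5, 28, 35, 1, 3, 4, 5, 6, 7, 3, 2, 1, 4, 3, 2, 5, 4, 8, 7, 3, 2, 4, 3, 5, 4, 7, 3, 2, 1, 8, 7])), (2, (.badAt 0)), (1, (.done [32, 33, 42, 43, 44, 39, 31, 39, 37, 29, 37, 38, 5, 28, 35, 1, 3, 4, 5, 6, 7, 3, 2, 1, 4, 3, 2, 5, 4, 8, 7, 3, 2, 4, 3, 5, 4, 7, 3, 2, 1, 8, 7])), (27, (.badAt 0))]))),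 (1, (.badPow 18 3)), (1, (.step [40, 44, 44] (Cert.rl [(2, (.badAt 0)), (1, (.badAt 1)), (28, (.badAt 0)), (1, (.badAt 1))]))), (2, (.badPow 18 3)), (1, (.step [44, 41] (Cert.rl [(15, (.badAt 0)), (1, (.badAt 1)), (4, (.badAt 0)), (1, (.badAt 1)), (11, (.badAt 0))]))), (2, (.badPow 18 3))])))), (56, (.badPow 3 3)), (1, (.step [6, 5, 35] (.step [30, 38, 37] (Cert.rl [(4, (.badPow 18 3)), (1, (.step [44, 31] (Cert.rl [(10, (.badAt 0)), (1, (.badAt 1)), (13, (.badAt 0)), (1, (.badAt 1)), (7, (.badAt 0))]))), (3, (.badPow 18 3)), (1, (.step [45] (Cert.rl [(7, (.badAt 0)), (1, (.done [31, 33, 45, 39, 33, 39, 32, 30, 38, 37, 6, 5, 35, 3, 4, 5, 6, 7, 3, 2, 1, 4, 3, 2, 5, 8, 7, 3, 2, 1, 4, 3, 2, 5, 6, 7, 3, 4, 8, 7])), (3, (.badAt 0)), (1, (.done [32, 33, 45, 39, 33, 39, 32, 30, 38, 37, 6, 5, 35, 3, 4, 5, 6, 7, 3, 2, 1, 4, 3, 2, 5, 8,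 7, 3, 2, 1, 4, 3, 2, 5, 6, 7, 3, 4, 8, 7])), (20, (.badAt 0))]))), (1, (.badPow 18 3)), (1, (.step [44, 41] (Cert.rl [(10, (.badAt 0)), (1, (.badAt 1)), (13, (.badAt 0)), (1, (.badAt 1)), (7, (.badAt 0))]))), (2, (.badPow 18 3)), (1, (.step [44, 32] (Cert.rl [(2, (.badAt 0)), (1, (.badAt 1)), (28, (.badAt 0)), (1, (.badAt 1))]))), (1, (.step [44] (Cert.rl [(7, (.badAt 0)), (1, (.done [31, 33, 44, 39, 33, 39, 31, 30, 38, 37, 6, 5, 35, 3, 4, 5, 6, 7, 3, 2, 1, 4, 3, 2, 5, 8, 7, 3, 2, 1, 4, 3, 2, 5, 6, 7, 3, 4, 8, 7])), (3, (.badAt 0)), (1, (.done [32, 33, 44, 39, 33, 39, 31, 30, 38, 37, 6, 5, 35, 3, 4, 5, 6, 7, 3, 2, 1, 4, 3, 2, 5, 8, 7, 3, 2, 1, 4, 3, 2, 5, 6, 7, 3, 4, 8, 7])), (20, (.badAt 0))]))), (13, (.badPow 18 3)), (1, (.step [44, 31] (Cert.rl [(18, (.badAt 0)), (1, (.done [42, 44, 31, 38, 38, 32, 39, 30, 38, 37, 6, 5, 35,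 3, 4, 5, 6, 7, 3, 2, 1, 4, 3, 2, 5, 8, 7, 3, 2, 1, 4, 3, 2, 5, 6, 7, 3, 4, 8, 7])), (7, (.badAt 0)), (1, (.done [31, 32, 42, 44, 31, 38, 38, 32, 39, 30, 38, 37, 6, 5, 35, 3, 4, 5, 6, 7, 3, 2, 1, 4, 3, 2, 5, 8, 7, 3, 2, 1, 4, 3, 2, 5, 6, 7, 3, 4, 8, 7])), (5, (.badAt 0))]))), (1, (.badPow 18 3))])))), (75, (.badPow 3 3)), (1, (.step [6, 27, 6, 35] (.step [36, 36, 30, 39] (Cert.rl [(12, (.badPow 18 3)), (1, (.step [40, 44, 44] (Cert.rl [(1, (.badAt 1)), (20, (.badAt 0)), (1, (.badAt 1)), (10, (.badAt 0))]))), (5, (.badPow 18 3)), (1, (.step [44] (Cert.rl [(19, (.badAt 0)), (1, (.done [33, 43, 44, 38, 38, 33, 36, 36, 30, 39, 6, 27, 6, 35, 3, 4, 5, 6, 7, 3, 2, 1, 4, 3, 5, 8, 7, 3, 2, 1, 4, 3, 2, 5, 4, 7, 3, 2, 1, 8, 7])), (2, (.badAt 0)), (1, (.done [31, 32, 33, 43, 44, 38, 38, 33, 36, 36, 30, 39, 6, 27, 6, 35, 3, 4, 5, 6, 7, 3, 2,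 1, 4, 3, 5, 8, 7, 3, 2, 1, 4, 3, 2, 5, 4, 7, 3, 2, 1, 8, 7])), (9, (.badAt 0))]))), (1, (.step [44, 32] (Cert.rl [(6, (.badAt 0)), (1, (.badAt 1)), (20, (.badAt 0)), (1, (.badAt 1)), (4, (.badAt 0))]))), (1, (.step [44, 31] (Cert.rl [(3, (.badAt 0)), (1, (.done [31, 32, 33, 44, 31, 38, 36, 36, 30, 39, 6, 27, 6, 35, 3, 4, 5, 6, 7, 3, 2, 1, 4, 3, 5, 8, 7, 3, 2, 1, 4, 3, 2, 5, 4, 7, 3, 2, 1, 8, 7])), (5, (.badAt 0)), (1, (.done [33, 44, 31, 38, 36, 36, 30, 39, 6, 27, 6, 35, 3, 4, 5, 6, 7, 3, 2, 1, 4, 3, 5, 8, 7, 3, 2, 1, 4, 3, 2, 5, 4, 7, 3, 2, 1, 8, 7])), (22, (.badAt 0))]))), (1, (.step [40] (Cert.rl [(25, (.badAt 0)), (1, (.done [43, 40, 39, 31, 38, 36, 36, 30, 39, 6, 27, 6, 35, 3, 4, 5, 6, 7, 3, 2, 1, 4, 3, 5, 8, 7, 3, 2, 1, 4, 3, 2, 5, 4, 7, 3, 2, 1, 8, 7])), (4, (.badAt 0)), (1, (.done [31, 32, 43, 40, 39, 31, 38, 36, 36, 30,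 39, 6, 27, 6, 35, 3, 4, 5, 6, 7, 3, 2, 1, 4, 3, 5, 8, 7, 3, 2, 1, 4, 3, 2, 5, 4, 7, 3, 2, 1, 8, 7])), (1, (.badAt 0))]))), (7, (.badPow 18 3)), (1, (.step [] (Cert.rl [(5, (.badAt 0)), (1, (.badAt 1)), (17, (.badAt 0)), (1, (.badAt 1)), (8, (.badAt 0))])))])))), (128, (.badPow 3 3)), (1, (.step [6, 34, 8, 27] (.step [1, 36, 30] (Cert.rl [(1, (.badPow 18 3)), (1, (.step [40, 44, 44] (Cert.rl [(16, (.badAt 0)), (1, (.done [32, 42, 40, 44, 44, 1, 36, 30, 6, 34, 8, 27, 3, 4, 5, 6, 7, 3, 2, 1, 4, 3, 2, 5, 8, 7, 3, 2, 1, 4, 3, 2, 5, 4, 7, 3, 2, 1, 8, 7])), (3, (.badAt 0)), (1, (.done [31, 42, 40, 44, 44, 1, 36, 30, 6, 34, 8, 27, 3, 4, 5, 6, 7, 3, 2, 1, 4, 3, 2, 5, 8, 7, 3, 2, 1, 4, 3, 2, 5, 4, 7, 3, 2, 1, 8, 7])), (11, (.badAt 0))]))), (1, (.badPow 18 3)), (1, (.step [45, 41] (Cert.rl [(6, (.badAt 0)), (1, (.badAt 1)), (20, (.badAt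 0)), (1, (.badAt 1)), (4, (.badAt 0))]))), (1, (.step [40] (Cert.rl [(18, (.badAt 0)), (1, (.done [42, 40, 39, 33, 38, 1, 36, 30, 6, 34, 8, 27, 3, 4, 5, 6, 7, 3, 2, 1, 4, 3, 2, 5, 8, 7, 3, 2, 1, 4, 3, 2, 5, 4, 7, 3, 2, 1, 8, 7])), (7, (.badAt 0)), (1, (.done [31, 32, 42, 40, 39, 33, 38, 1, 36, 30, 6, 34, 8, 27, 3, 4, 5, 6, 7, 3, 2, 1, 4, 3, 2, 5, 8, 7, 3, 2, 1, 4, 3, 2, 5, 4, 7, 3, 2, 1, 8, 7])), (5, (.badAt 0))]))), (15, (.badPow 18 3)), (1, (.step [45] (Cert.rl [(16, (.badAt 0)), (1, (.done [32, 42, 45, 38, 1, 36, 30, 6, 34, 8, 27, 3, 4, 5, 6, 7, 3, 2, 1, 4, 3, 2, 5, 8, 7, 3, 2, 1, 4, 3, 2, 5, 4, 7, 3, 2, 1, 8, 7])), (3, (.badAt 0)), (1, (.done [31, 42, 45, 38, 1, 36, 30, 6, 34, 8, 27, 3, 4, 5, 6, 7, 3, 2, 1, 4, 3, 2, 5, 8, 7, 3, 2, 1, 4, 3, 2, 5, 4, 7, 3, 2, 1, 8, 7])), (11, (.badAt 0))]))), (7, (.badPow 18 3)), (1, (.step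 [44] (Cert.rl [(15, (.badAt 0)), (1, (.badAt 1)), (4, (.badAt 0)), (1, (.badAt 1)), (11, (.badAt 0))]))), (1, (.step [44, 32] (Cert.rl [(9, (.badAt 0)), (1, (.badAt 1)), (18, (.badAt 0)), (1, (.badAt 1)), (3, (.badAt 0))])))])))), (7, (.badPow 3 3)), (1, (.step [27, 6, 27, 34] (.step [30, 36, 1, 29] (Cert.rl [(5, (.badPow 18 3)), (1, (.step [45] (Cert.rl [(4, (.badAt 0)), (1, (.badAt 1)), (21, (.badAt 0)), (1, (.badAt 1)), (5, (.badAt 0))]))), (4, (.badPow 18 3)), (1, (.step [40, 44] (Cert.rl [(8, (.badAt 0)), (1, (.done [42, 43, 40, 44, 39, 33, 39, 39, 30, 36, 1, 29, 27, 6, 27, 34, 3, 4, 5, 6, 7, 3, 2, 1, 4, 3, 2, 5, 8, 7, 3, 2, 1, 4, 3, 2, 5, 6, 7, 3, 4, 5, 8, 7])), (1, (.badAt 0)), (1, (.done [31, 32, 42, 43, 40, 44, 39, 33, 39, 39, 30, 36, 1, 29, 27, 6, 27, 34, 3, 4, 5, 6, 7, 3, 2, 1, 4, 3, 2, 5, 8, 7, 3, 2, 1, 4, 3, 2, 5,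 6, 7, 3, 4, 5, 8, 7])), (21, (.badAt 0))]))), (1, (.step [40, 44] (Cert.rl [(18, (.badAt 0)), (1, (.done [42, 40, 44, 39, 33, 30, 36, 1, 29, 27, 6, 27, 34, 3, 4, 5, 6, 7, 3, 2, 1, 4, 3, 2, 5, 8, 7, 3, 2, 1, 4, 3, 2, 5, 6, 7, 3, 4, 5, 8, 7])), (7, (.badAt 0)), (1, (.done [31, 32, 42, 40, 44, 39, 33, 30, 36, 1, 29, 27, 6, 27, 34, 3, 4, 5, 6, 7, 3, 2, 1, 4, 3, 2, 5, 8, 7, 3, 2, 1, 4, 3, 2, 5, 6, 7, 3, 4, 5, 8, 7])), (5, (.badAt 0))]))), (2, (.badPow 18 3)), (1, (.step [44, 32] (Cert.rl [(6, (.badAt 0)), (1, (.badAt 1)), (20, (.badAt 0)), (1, (.badAt 1)), (4, (.badAt 0))]))), (8, (.badPow 18 3)), (1, (.step [] (Cert.rl [(13, (.badAt 0)), (1, (.badAt 1)), (8, (.badAt 0)), (1, (.badAt 1)), (9, (.badAt 0))]))), (2, (.badPow 18 3)), (1, (.step [44] (Cert.rl [(24, (.badAt 0)), (1, (.done [32, 33, 42, 44, 39, 31, 38, 33, 30, 36, 1, 29,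 27, 6, 27, 34, 3, 4, 5, 6, 7, 3, 2, 1, 4, 3, 2, 5, 8, 7, 3, 2, 1, 4, 3, 2, 5, 6, 7, 3, 4, 5, 8, 7])), (4, (.badAt 0)), (1, (.done [31, 33, 42, 44, 39, 31, 38, 33, 30, 36, 1, 29, 27, 6, 27, 34, 3, 4, 5, 6, 7, 3, 2, 1, 4, 3, 2, 5, 8, 7, 3, 2, 1, 4, 3, 2, 5, 6, 7, 3, 4, 5, 8, 7])), (2, (.badAt 0))]))), (3, (.badPow 18 3))])))), (128, (.badPow 3 3)), (1, (.step [5, 28, 35, 1, 8] (.step [1, 29, 29] (Cert.rl [(1, (.badPow 18 3)), (1, (.step [] (Cert.rl [(1, (.done [1, 29, 29, 5, 28, 35, 1, 8, 3, 4, 5, 6, 7, 3, 2, 1, 4, 3, 2, 5, 8, 7, 3, 2, 1, 0, 4, 3, 2, 5, 4, 3, 7, 3, 4, 8, 7])), (1, (.badAt 0)), (1, (.done [31, 32, 1, 29, 29, 5, 28, 35, 1, 8, 3, 4, 5, 6, 7, 3, 2, 1, 4, 3, 2, 5, 8, 7, 3, 2, 1, 0, 4, 3, 2, 5, 4, 3, 7, 3, 4, 8, 7])), (29, (.badAt 0))]))), (1, (.badPow 18 3)), (1, (.step [44, 31] (Cert.rl [(4, (.badAt 0)), (1, (.badAt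 1)), (21, (.badAt 0)), (1, (.badAt 1)), (5, (.badAt 0))]))), (1, (.step [40] (Cert.rl [(7, (.badAt 0)), (1, (.badAt 1)), (17, (.badAt 0)), (1, (.badAt 1)), (6, (.badAt 0))]))), (15, (.badPow 18 3)), (1, (.step [40, 44] (Cert.rl [(13, (.badAt 0)), (1, (.badAt 1)), (8, (.badAt 0)), (1, (.badAt 1)), (9, (.badAt 0))]))), (7, (.badPow 18 3)), (1, (.step [44] (Cert.rl [(17, (.badAt 0)), (1, (.done [32, 43, 44, 38, 38, 32, 39, 1, 29, 29, 5, 28, 35, 1, 8, 3, 4, 5, 6, 7, 3, 2, 1, 4, 3, 2, 5, 8, 7, 3, 2, 1, 0, 4, 3, 2, 5, 4, 3, 7, 3, 4, 8, 7])), (10, (.badAt 0)), (1, (.done [31, 43, 44, 38, 38, 32, 39, 1, 29, 29, 5, 28, 35, 1, 8, 3, 4, 5, 6, 7, 3, 2, 1, 4, 3, 2, 5, 8, 7, 3, 2, 1, 0, 4, 3, 2, 5, 4, 3, 7, 3, 4, 8, 7])), (3, (.badAt 0))]))), (1, (.step [44, 41] (Cert.rl [(19, (.badAt 0)), (1, (.done [33, 43, 44, 41, 39, 31, 39, 39, 1, 29,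 29, 5, 28, 35, 1, 8, 3, 4, 5, 6, 7, 3, 2, 1, 4, 3, 2, 5, 8, 7, 3, 2, 1, 0, 4, 3, 2, 5, 4, 3, 7, 3, 4, 8, 7])), (2, (.badAt 0)), (1, (.done [31, 32, 33, 43, 44, 41, 39, 31, 39, 39, 1, 29, 29, 5, 28, 35, 1, 8, 3, 4, 5, 6, 7, 3, 2, 1, 4, 3, 2, 5, 8, 7, 3, 2, 1, 0, 4, 3, 2, 5, 4, 3, 7, 3, 4, 8, 7])), (9, (.badAt 0))])))])))), (65, (.badPow 3 3)), (1, (.step [4, 35, 27] (.step [36, 30, 39, 30, 1] (Cert.rl [(2, (.badPow 18 3)), (1, (.step [40, 44, 44] (Cert.rl [(5, (.badAt 0)), (1, (.badAt 1)), (17, (.badAt 0)), (1, (.badAt 1)), (8, (.badAt 0))]))), (3, (.badPow 18 3)), (1, (.step [45, 41] (Cert.rl [(18, (.badAt 0)), (1, (.done [42, 45, 41, 39, 32, 36, 30, 39, 30, 1, 4, 35, 27, 3, 4, 5, 6, 7, 3, 2, 1, 4, 3, 2, 5, 4, 7, 8, 7, 3, 2, 1, 4, 3, 2, 5, 4, 3, 7, 3, 4, 8, 7])), (7, (.badAt 0)), (1, (.done [31, 32, 42, 45, 41, 39, 32, 36, 30,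 39, 30, 1, 4, 35, 27, 3, 4, 5, 6, 7, 3, 2, 1, 4, 3, 2, 5, 4, 7, 8, 7, 3, 2, 1, 4, 3, 2, 5, 4, 3, 7, 3, 4, 8, 7])), (5, (.badAt 0))]))), (8, (.badPow 18 3)), (1, (.step [45, 41] (Cert.rl [(8, (.badAt 0)), (1, (.done [42, 43, 45, 41, 39, 33, 39, 36, 30, 39, 30, 1, 4, 35, 27, 3, 4, 5, 6, 7, 3, 2, 1, 4, 3, 2, 5, 4, 7, 8, 7, 3, 2, 1, 4, 3, 2, 5, 4, 3, 7, 3, 4, 8, 7])), (1, (.badAt 0)), (1, (.done [31, 32, 42, 43, 45, 41, 39, 33, 39, 36, 30, 39, 30, 1, 4, 35, 27, 3, 4, 5, 6, 7, 3, 2, 1, 4, 3, 2, 5, 4, 7, 8, 7, 3, 2, 1, 4, 3, 2, 5, 4, 3, 7, 3, 4, 8, 7])), (21, (.badAt 0))]))), (7, (.badPow 18 3)), (1, (.step [44, 41] (Cert.rl [(23, (.badAt 0)), (1, (.done [31, 32, 33, 42, 44, 41, 38, 38, 32, 36, 30, 39, 30, 1, 4, 35, 27, 3, 4, 5, 6, 7, 3, 2, 1, 4, 3, 2, 5, 4, 7, 8, 7, 3, 2, 1, 4, 3, 2, 5, 4, 3, 7, 3, 4, 8, 7])), (3, (.badAt 0)), (1,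 (.done [33, 42, 44, 41, 38, 38, 32, 36, 30, 39, 30, 1, 4, 35, 27, 3, 4, 5, 6, 7, 3, 2, 1, 4, 3, 2, 5, 4, 7, 8, 7, 3, 2, 1, 4, 3, 2, 5, 4, 3, 7, 3, 4, 8, 7])), (4, (.badAt 0))]))), (1, (.badPow 18 3)), (1, (.step [40, 44, 44] (Cert.rl [(1, (.badAt 1)), (20, (.badAt 0)), (1, (.badAt 1)), (10, (.badAt 0))]))), (1, (.step [44, 41] (Cert.rl [(11, (.badAt 0)), (1, (.badAt 1)), (18, (.badAt 0)), (1, (.badAt 1)), (1, (.badAt 0))]))), (3, (.badPow 18 3))])))), (103, (.badPow 3 3))])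

/-- the pieces of a certificate -/
noncomputable def pcsCh : List (List (List ℕ) × Cert) := [(UB_0, cCh_0), (UB_1, cCh_1), (UB_2, cCh_2)]

/-- the old letters as words in good letters -/
def Wl : List (List ℕ) := [
[65, 62, 61, 57, 61, 52, 57, 55, 52, 48, 48, 50, 52, 54, 48], [60, 62, 56, 56, 59, 57, 54, 52, 58, 57, 49, 49, 54, 50, 48, 10], [62, 64, 56, 62, 59, 52, 55, 56, 56, 48, 50, 53, 50],
[65, 61, 65, 56, 58, 52, 52, 61, 57, 48, 50, 50, 55, 52], [60, 62, 56, 54, 57, 54], [65, 66, 62, 64],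
[60, 58, 64], [62, 61, 64, 57, 62, 58, 56], [65, 66, 61, 65, 58, 52, 52, 59]]

/-- the element of order 13 in the old letters -/
def wpOld : List ℕ := [7, 4, 7, 1, 5, 3, 6, 7, 2, 8]

/-- the element of order 6 in the old letters -/
def whOld : List ℕ := [7, 8, 1, 2, 3, 4, 5, 6, 7, 3, 2, 1, 4, 8, 7, 3, 2, 1, 0, 4, 3, 7, 8, 5, 6, 5, 4, 0, 1, 2, 3, 7, 8, 2, 3, 4, 1, 2, 3, 7, 6, 5, 4, 3, 2, 1, 7, 8, 7, 3, 4, 2, 3, 7, 5, 4, 3, 0, 2, 1, 2, 3, 4, 5, 6, 7, 3, 2, 1, 4, 3, 8, 7, 3, 2, 4, 3, 5, 4, 0, 4, 5, 3, 4, 2, 3, 7, 8, 3, 4, 1, 2, 3, 7, 6, 5, 4, 3, 2, 1, 3, 7, 4, 3, 0, 2, 1, 2, 3, 4, 5, 6, 7, 3, 2, 1, 4, 3, 5, 8, 7, 3, 2, 4, 3, 5, 4, 7, 3, 8, 0, 8, 3, 7, 4, 5, 3, 4, 2, 3, 7, 8, 5, 3, 4, 1, 2, 3, 7, 6, 5, 4, 3, 2, 1, 6, 5, 7, 3, 4, 5, 7, 3, 2, 4, 3, 7, 8, 7, 1, 2, 3, 4, 5, 6, 7, 3, 2, 1, 4, 3, 2, 8, 7, 3, 2, 1, 0, 4, 5, 6, 5, 8, 7, 3,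 4, 0, 1, 2, 3, 7, 8, 4, 1, 2, 3, 7, 6, 5, 4, 3, 2, 1, 3, 4, 5, 7, 3, 2, 4, 3, 7, 8, 7, 1, 2, 3, 4, 5, 6, 7, 3, 2, 1, 4, 3, 2, 8, 7, 3, 2, 1, 0, 4, 5, 6, 5, 8, 7, 3, 4, 0, 1, 2, 3, 7, 8, 4, 1, 2, 3, 7, 6, 5, 4, 3, 2, 1, 6, 3, 4, 5, 7, 3, 2, 4, 3, 7, 8, 7, 1, 2, 3, 4, 5, 6, 7, 3, 2, 1, 4, 3, 2, 8, 7, 3, 2, 1, 0, 4, 5, 6, 5, 8, 7, 3, 4, 0, 1, 2, 3, 7, 8, 4, 1, 2, 3, 7, 6, 5, 4, 3, 2, 1, 3, 3, 4, 5, 7, 3, 2, 4, 3, 7, 8, 7, 1, 2, 3, 4, 5, 6, 7, 3, 2, 1, 4, 3, 2, 8, 7, 3, 2, 1, 0, 4, 5, 6, 5, 8, 7, 3, 4, 0, 1, 2, 3, 7, 8, 4, 1, 2, 3, 7, 6, 5, 4, 3, 2, 1, 3, 6, 1, 2, 3, 4, 5, 6, 7, 3, 2, 1, 4, 3, 5, 8, 7, 3, 2, 4, 3, 5, 4, 7, 3, 8, 0, 8, 3, 7, 4, 5, 3, 4, 2, 3, 7, 8, 5, 3, 4, 1, 2, 3, 7, 6, 5, 4, 3, 2, 1, 2, 1, 2, 3, 4, 5, 6, 7, 3, 2, 1, 4, 3, 8, 7, 3, 2, 4, 3, 5, 4, 0, 4, 5, 3, 4, 2, 3, 7, 8, 3, 4, 1, 2, 3, 7, 6, 5, 4, 3, 2, 1, 3, 7,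 4, 3, 0, 2, 0, 3, 4, 5, 7, 3, 2, 4, 3, 7, 8, 7, 1, 2, 3, 4, 5, 6, 7, 3, 2, 1, 4, 3, 2, 8, 7, 3, 2, 1, 0, 4, 5, 6, 5, 8, 7, 3, 4, 0, 1, 2, 3, 7, 8, 4, 1, 2, 3, 7, 6, 5, 4, 3, 2, 1, 8, 7, 3, 1, 2, 3, 4, 5, 6, 7, 3, 2, 1, 4, 3, 5, 4, 7, 3, 8, 7, 3, 2, 4, 3, 5]

/-- the conjugating element of the outer automorphism -/
def wx : List ℕ := [9, 9, 24, 24, 24, 24, 24, 18, 16, 13, 8, 22, 20, 15, 5, 3, 12, 3, 20, 6, 11, 1, 2, 3, 4, 5, 6, 7, 3, 2, 1, 4, 3, 5, 4, 7, 8, 7, 3, 2, 1, 4, 3, 5, 6, 7, 8]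

/-- the relators -/
def relL : List (List ℕ) := [
[0, 1, 2, 2, 2, 0, 1, 2, 2, 2, 0, 1, 2, 2, 2, 0, 1, 2, 2, 2, 0, 1, 2, 2, 2, 0, 1, 2, 2, 2],
[0, 0, 2, 0, 0, 2, 0, 0, 2, 0, 0, 2, 0, 0, 2, 0, 0, 2, 0, 0, 2, 0, 0, 2, 0, 0, 2, 0, 0, 2, 0, 0, 2],
[0, 1, 2, 0, 1, 2, 0, 1, 2, 0, 1, 2, 0, 1, 2, 0, 1, 2, 0, 1, 2, 0, 1, 2, 0, 1, 2, 0, 1, 2, 0, 1, 2],
[0, 0, 2, 2, 0, 0, 2, 2, 0, 0, 2, 2, 0, 0, 2, 2, 0, 0, 2, 2, 0, 0, 2, 2, 0, 0, 2, 2, 0, 0, 2, 2, 0, 0, 2, 2, 0, 0, 2, 2, 0, 0, 2, 2],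
[0, 2, 0, 2, 2, 0, 2, 0, 2, 2, 0, 2, 0, 2, 2, 0, 2, 0, 2, 2, 0, 2, 0, 2, 2, 0, 2, 0, 2, 2, 0, 2, 0, 2, 2, 0, 2, 0, 2, 2, 0, 2, 0, 2, 2]]

/-- the elements of the centralizer, each with a relator and a point -/
def candL : List (List ℕ × ℕ × ℕ) := [([], 1, 0),
  ([31, 32], 1, 1),
  ([32, 43, 44, 38, 38, 32, 39], 1, 0),
  ([46], 0, 0),
  ([33, 43, 44, 41, 39, 31, 39, 39], 1, 0),
  ([31, 32, 33, 43, 44, 41, 39, 31, 39, 39], 2, 0),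
  ([32, 43, 40, 44, 44, 38, 38, 38, 1, 36, 38, 38, 1, 8, 28, 5, 35, 0, 1, 3, 7], 1, 0),
  ([31, 43, 40, 44, 44, 38, 38, 38, 1, 36, 38, 38, 1, 8, 28, 5, 35, 0, 1, 3, 7], 1, 0),
  ([32, 40, 39, 33, 39, 39, 1, 36, 38, 38, 1, 8, 28, 5, 35, 0, 1, 3, 7], 0, 0),
  ([31, 40, 39, 33, 39, 39, 1, 36, 38, 38, 1, 8, 28, 5, 35, 0, 1, 3, 7], 0, 0),
  ([42, 43, 45, 39, 39, 1, 36, 38, 38, 1, 8, 28, 5, 35, 0, 1, 3, 7], 1, 0),
  ([31, 32, 42, 43, 45, 39, 39, 1, 36, 38, 38, 1, 8, 28, 5, 35, 0, 1, 3, 7], 1, 0),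
  ([32, 43, 40, 44, 44, 1, 36, 38, 38, 1, 8, 28, 5, 0, 3, 7, 8], 1, 0),
  ([31, 43, 40, 44, 44, 1, 36, 38, 38, 1, 8, 28, 5, 0, 3, 7, 8], 1, 0),
  ([32, 40, 39, 33, 38, 1, 36, 38, 38, 1, 8, 28, 5, 0, 3, 7, 8], 1, 0),
  ([31, 40, 39, 33, 38, 1, 36, 38, 38, 1, 8, 28, 5, 0, 3, 7, 8], 1, 0),
  ([42, 43, 45, 38, 1, 36, 38, 38, 1, 8, 28, 5, 0, 3, 7, 8], 0, 0),
  ([31, 32, 42, 43, 45, 38, 1, 36, 38, 38, 1, 8, 28, 5, 0, 3, 7, 8], 0, 0),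
  ([33, 43, 44, 41, 39, 33, 38, 29, 38, 1, 37, 4, 35, 1, 27, 8, 28, 0, 1, 3, 4, 5, 6, 7, 8], 0, 0),
  ([31, 32, 33, 43, 44, 41, 39, 33, 38, 29, 38, 1, 37, 4, 35, 1, 27, 8, 28, 0, 1, 3, 4, 5, 6, 7, 8], 0, 0),
  ([42, 44, 31, 39, 32, 39, 29, 38, 1, 37, 4, 35, 1, 27, 8, 28, 0, 1, 3, 4, 5, 6, 7, 8], 2, 0),
  ([31, 32, 42, 44, 31, 39, 32, 39, 29, 38, 1, 37, 4, 35, 1, 27, 8, 28, 0, 1, 3, 4, 5, 6, 7, 8], 1, 0),
  ([32, 43, 40, 44, 39, 33, 39, 31, 29, 38, 1, 37, 4, 35, 1, 27, 8, 28, 0, 1, 3, 4, 5, 6, 7, 8], 1, 0),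
  ([31, 43, 40, 44, 39, 33, 39, 31, 29, 38, 1, 37, 4, 35, 1, 27, 8, 28, 0, 1, 3, 4, 5, 6, 7, 8], 1, 0),
  ([43, 40, 38, 38, 38, 31, 38, 26, 29, 36, 36, 34, 28, 34, 27, 6, 5, 3, 4, 5, 6, 7, 3, 8, 7], 0, 0),
  ([31, 32, 43, 40, 38, 38, 38, 31, 38, 26, 29, 36, 36, 34, 28, 34, 27, 6, 5, 3, 4, 5, 6, 7, 3, 8, 7], 0, 0),
  ([31, 32, 33, 44, 32, 38, 38, 38, 32, 26, 29, 36, 36, 34, 28, 34, 27, 6, 5, 3, 4, 5, 6, 7, 3, 8, 7], 1, 0),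
  ([33, 44, 32, 38, 38, 38, 32, 26, 29, 36, 36, 34, 28, 34, 27, 6, 5, 3, 4, 5, 6, 7, 3, 8, 7], 1, 0),
  ([42, 39, 26, 29, 36, 36, 34, 28, 34, 27, 6, 5, 3, 4, 5, 6, 7, 3, 8, 7], 1, 0),
  ([31, 32, 42, 39, 26, 29, 36, 36, 34, 28, 34, 27, 6, 5, 3, 4, 5, 6, 7, 3, 8, 7], 1, 0),
  ([32, 44, 32, 26, 37, 30, 26, 4, 27, 6, 8, 27, 34, 3, 4, 5, 7, 3, 2, 1, 4, 3, 8, 7], 2, 0),
  ([31, 44, 32, 26, 37, 30, 26, 4, 27, 6, 8, 27, 34, 3, 4, 5, 7, 3, 2, 1, 4, 3, 8, 7], 1, 0),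
  ([32, 43, 40, 39, 32, 26, 37, 30, 26, 4, 27, 6, 8, 27, 34, 3, 4, 5, 7, 3, 2, 1, 4, 3, 8, 7], 1, 0),
  ([31, 43, 40, 39, 32, 26, 37, 30, 26, 4, 27, 6, 8, 27, 34, 3, 4, 5, 7, 3, 2, 1, 4, 3, 8, 7], 1, 0),
  ([31, 33, 42, 43, 40, 44, 44, 39, 31, 26, 37, 30, 26, 4, 27, 6, 8, 27, 34, 3, 4, 5, 7, 3, 2, 1, 4, 3, 8, 7], 0, 0),
  ([32, 33, 42, 43, 40, 44, 44, 39, 31, 26, 37, 30, 26, 4, 27, 6, 8, 27, 34, 3, 4, 5, 7, 3, 2, 1, 4, 3, 8, 7], 0, 0),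
  ([6, 5, 4, 8, 3, 4, 7, 3, 2, 1, 8, 7, 3, 2, 4, 3, 5, 6], 1, 0),
  ([31, 32, 6, 5, 4, 8, 3, 4, 7, 3, 2, 1, 8, 7, 3, 2, 4, 3, 5, 6], 1, 0),
  ([32, 43, 44, 38, 38, 32, 39, 6, 5, 4, 8, 3, 4, 7, 3, 2, 1, 8, 7, 3, 2, 4, 3, 5, 6], 0, 0),
  ([31, 43, 44, 38, 38, 32, 39, 6, 5, 4, 8, 3, 4, 7, 3, 2, 1, 8, 7, 3, 2, 4, 3, 5, 6], 0, 0),
  ([33, 43, 44, 41, 39, 31, 39, 39, 6, 5, 4, 8, 3, 4, 7, 3, 2, 1, 8, 7, 3, 2, 4, 3, 5, 6], 1, 0),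
  ([31, 32, 33, 43, 44, 41, 39, 31, 39, 39, 6, 5, 4, 8, 3, 4, 7, 3, 2, 1, 8, 7, 3, 2, 4, 3, 5, 6], 1, 0),
  ([31, 33, 43, 40, 39, 32, 39, 31, 1, 29, 38, 29, 37, 4, 8, 27, 6, 34, 8, 28, 0, 3, 4, 5, 6, 7, 3, 2, 4, 3, 5, 8, 7, 3, 4], 0, 0),
  ([32, 33, 43, 40, 39, 32, 39, 31, 1, 29, 38, 29, 37, 4, 8, 27, 6, 34, 8, 28, 0, 3, 4, 5, 6, 7, 3, 2, 4, 3, 5, 8, 7, 3, 4], 0, 0),
  ([42, 43, 40, 45, 39, 31, 39, 1, 29, 38, 29, 37, 4, 8, 27, 6, 34, 8, 28, 0, 3, 4, 5, 6, 7, 3, 2, 4, 3, 5, 8, 7, 3, 4], 1, 0),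
  ([31, 32, 42, 43, 40, 45, 39, 31, 39, 1, 29, 38, 29, 37, 4, 8, 27, 6, 34, 8, 28, 0, 3, 4, 5, 6, 7, 3, 2, 4, 3, 5, 8, 7, 3, 4], 1, 0),
  ([44, 32, 39, 31, 1, 29, 38, 29, 37, 4, 8, 27, 6, 34, 8, 28, 0, 3, 4, 5, 6, 7, 3, 2, 4, 3, 5, 8, 7, 3, 4], 4, 0),
  ([31, 32, 44, 32, 39, 31, 1, 29, 38, 29, 37, 4, 8, 27, 6, 34, 8, 28, 0, 3, 4, 5, 6, 7, 3, 2, 4, 3, 5, 8, 7, 3, 4], 1, 0),
  ([42, 43, 40, 44, 44, 38, 38, 38, 1, 38, 37, 35, 27, 8, 3, 4, 5, 6, 7, 3, 2, 1, 4, 3, 5, 4, 7, 8, 7], 1, 0),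
  ([31, 32, 42, 43, 40, 44, 44, 38, 38, 38, 1, 38, 37, 35, 27, 8, 3, 4, 5, 6, 7, 3, 2, 1, 4, 3, 5, 4, 7, 8, 7], 1, 0),
  ([43, 40, 39, 33, 39, 39, 1, 38, 37, 35, 27, 8, 3, 4, 5, 6, 7, 3, 2, 1, 4, 3, 5, 4, 7, 8, 7], 2, 0),
  ([31, 32, 43, 40, 39, 33, 39, 39, 1, 38, 37, 35, 27, 8, 3, 4, 5, 6, 7, 3, 2, 1, 4, 3, 5, 4, 7, 8, 7], 1, 0),
  ([45, 39, 39, 1, 38, 37, 35, 27, 8, 3, 4, 5, 6, 7, 3, 2, 1, 4, 3, 5, 4, 7, 8, 7], 1, 0),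
  ([31, 32, 45, 39, 39, 1, 38, 37, 35, 27, 8, 3, 4, 5, 6, 7, 3, 2, 1, 4, 3, 5, 4, 7, 8, 7], 1, 0),
  ([31, 32, 33, 42, 43, 45, 29, 37, 39, 26, 29, 5, 8, 28, 5, 0, 3, 4, 5, 6, 7, 3, 2, 4, 3, 5, 8, 7, 3, 4, 5], 1, 0),
  ([33, 42, 43, 45, 29, 37, 39, 26, 29, 5, 8, 28, 5, 0, 3, 4, 5, 6, 7, 3, 2, 4, 3, 5, 8, 7, 3, 4, 5], 1, 0),
  ([43, 40, 44, 44, 39, 29, 37, 39, 26, 29, 5, 8, 28, 5, 0, 3, 4, 5, 6, 7, 3, 2, 4, 3, 5, 8, 7, 3, 4, 5], 0, 0),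
  ([31, 32, 43, 40, 44, 44, 39, 29, 37, 39, 26, 29, 5, 8, 28, 5, 0, 3, 4, 5, 6, 7, 3, 2, 4, 3, 5, 8, 7, 3, 4, 5], 0, 0),
  ([31, 32, 33, 40, 39, 33, 29, 37, 39, 26, 29, 5, 8, 28, 5, 0, 3, 4, 5, 6, 7, 3, 2, 4, 3, 5, 8, 7, 3, 4, 5], 1, 0),
  ([33, 40, 39, 33, 29, 37, 39, 26, 29, 5, 8, 28, 5, 0, 3, 4, 5, 6, 7, 3, 2, 4, 3, 5, 8, 7, 3, 4, 5], 1, 0),
  ([44, 44, 1, 37, 29, 4, 8, 27, 6, 34, 8, 28, 0, 3, 4, 5, 6, 7, 3, 2, 4, 5, 8, 7, 3, 2, 1, 4], 0, 0),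
  ([31, 32, 44, 44, 1, 37, 29, 4, 8, 27, 6, 34, 8, 28, 0, 3, 4, 5, 6, 7, 3, 2, 4, 5, 8, 7, 3, 2, 1, 4], 0, 0),
  ([31, 32, 33, 42, 43, 45, 38, 38, 32, 39, 1, 37, 29, 4, 8, 27, 6, 34, 8, 28, 0, 3, 4, 5, 6, 7, 3, 2, 4, 5, 8, 7, 3, 2, 1, 4], 1, 0),
  ([33, 42, 43, 45, 38, 38, 32, 39, 1, 37, 29, 4, 8, 27, 6, 34, 8, 28, 0, 3, 4, 5, 6, 7, 3, 2, 4, 5, 8, 7, 3, 2, 1, 4], 1, 0),
  ([32, 42, 43, 45, 41, 39, 31, 39, 39, 1, 37, 29, 4, 8, 27, 6, 34, 8, 28, 0, 3, 4, 5, 6, 7, 3, 2, 4, 5, 8, 7, 3, 2, 1, 4], 1, 0),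
  ([31, 42, 43, 45, 41, 39, 31, 39, 39, 1, 37, 29, 4, 8, 27, 6, 34, 8, 28, 0, 3, 4, 5, 6, 7, 3, 2, 4, 5, 8, 7, 3, 2, 1, 4], 2, 0),
  ([31, 32, 33, 42, 43, 38, 38, 38, 33, 29, 37, 39, 26, 29, 5, 8, 28, 5, 4, 0, 3, 4, 5, 6, 7, 3, 2, 4, 5, 8, 7, 3, 2, 1, 4, 5], 0, 0),
  ([33, 42, 43, 38, 38, 38, 33, 29, 37, 39, 26, 29, 5, 8, 28, 5, 4, 0, 3, 4, 5, 6, 7, 3, 2, 4, 5, 8, 7, 3, 2, 1, 4, 5], 0, 0),
  ([31, 33, 43, 44, 31, 39, 33, 39, 29, 37, 39, 26, 29, 5, 8, 28, 5, 4, 0, 3, 4, 5, 6, 7, 3, 2, 4, 5, 8, 7, 3, 2, 1, 4, 5], 1, 0),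
  ([32, 33, 43, 44, 31, 39, 33, 39, 29, 37, 39, 26, 29, 5, 8, 28, 5, 4, 0, 3, 4, 5, 6, 7, 3, 2, 4, 5, 8, 7, 3, 2, 1, 4, 5], 1, 0),
  ([44, 41, 39, 31, 38, 33, 29, 37, 39, 26, 29, 5, 8, 28, 5, 4, 0, 3, 4, 5, 6, 7, 3, 2, 4, 5, 8, 7, 3, 2, 1, 4, 5], 1, 0),
  ([31, 32, 44, 41, 39, 31, 38, 33, 29, 37, 39, 26, 29, 5, 8, 28, 5, 4, 0, 3, 4, 5, 6, 7, 3, 2, 4, 5, 8, 7, 3, 2, 1, 4, 5], 1, 0),
  ([31, 32, 33, 42, 43, 40, 38, 38, 38, 32, 1, 38, 1, 7, 27, 8, 34, 27, 0, 3, 4, 5, 6, 7, 3, 2, 4, 5, 8, 7, 3, 2, 4, 3, 7], 0, 0),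
  ([33, 42, 43, 40, 38, 38, 38, 32, 1, 38, 1, 7, 27, 8, 34, 27, 0, 3, 4, 5, 6, 7, 3, 2, 4, 5, 8, 7, 3, 2, 4, 3, 7], 0, 0),
  ([32, 40, 44, 39, 32, 39, 31, 1, 38, 1, 7, 27, 8, 34, 27, 0, 3, 4, 5, 6, 7, 3, 2, 4, 5, 8, 7, 3, 2, 4, 3, 7], 1, 0),
  ([31, 40, 44, 39, 32, 39, 31, 1, 38, 1, 7, 27, 8, 34, 27, 0, 3, 4, 5, 6, 7, 3, 2, 4, 5, 8, 7, 3, 2, 4, 3, 7], 1, 0),
  ([44, 31, 38, 38, 33, 1, 38, 1, 7, 27, 8, 34, 27, 0, 3, 4, 5, 6, 7, 3, 2, 4, 5, 8, 7, 3, 2, 4, 3, 7], 1, 0),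
  ([31, 32, 44, 31, 38, 38, 33, 1, 38, 1, 7, 27, 8, 34, 27, 0, 3, 4, 5, 6, 7, 3, 2, 4, 5, 8, 7, 3, 2, 4, 3, 7], 1, 0),
  ([43, 40, 45, 38, 38, 38, 36, 39, 29, 38, 4, 8, 27, 6, 34, 8, 28, 0, 3, 4, 5, 6, 7, 3, 2, 4, 5, 8, 7, 3, 2, 4, 3, 5, 7], 1, 0),
  ([31, 32, 43, 40, 45, 38, 38, 38, 36, 39, 29, 38, 4, 8, 27, 6, 34, 8, 28, 0, 3, 4, 5, 6, 7, 3, 2, 4, 5, 8, 7, 3, 2, 4, 3, 5, 7], 1, 0),
  ([42, 43, 40, 44, 38, 38, 32, 38, 36, 39, 29, 38, 4, 8, 27, 6, 34, 8, 28, 0, 3, 4, 5, 6, 7, 3, 2, 4, 5, 8, 7, 3, 2, 4, 3, 5, 7], 0, 0),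
  ([31, 32, 42, 43, 40, 44, 38, 38, 32, 38, 36, 39, 29, 38, 4, 8, 27, 6, 34, 8, 28, 0, 3, 4, 5, 6, 7, 3, 2, 4, 5, 8, 7, 3, 2, 4, 3, 5, 7], 0, 0),
  ([31, 32, 33, 42, 43, 45, 39, 31, 39, 36, 39, 29, 38, 4, 8, 27, 6, 34, 8, 28, 0, 3, 4, 5, 6, 7, 3, 2, 4, 5, 8, 7, 3, 2, 4, 3, 5, 7], 1, 0),
  ([33, 42, 43, 45, 39, 31, 39, 36, 39, 29, 38, 4, 8, 27, 6, 34, 8, 28, 0, 3, 4, 5, 6, 7, 3, 2, 4, 5, 8, 7, 3, 2, 4, 3, 5, 7], 1, 0),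
  ([43, 45, 41, 39, 33, 38, 26, 30, 37, 34, 4, 5, 3, 4, 5, 6, 7, 3, 2, 1, 4, 3, 5, 8, 7, 3, 2, 1, 0, 4], 2, 0),
  ([31, 32, 43, 45, 41, 39, 33, 38, 26, 30, 37, 34, 4, 5, 3, 4, 5, 6, 7, 3, 2, 1, 4, 3, 5, 8, 7, 3, 2, 1, 0, 4], 1, 0),
  ([43, 44, 32, 39, 32, 39, 26, 30, 37, 34, 4, 5, 3, 4, 5, 6, 7, 3, 2, 1, 4, 3, 5, 8, 7, 3, 2, 1, 0, 4], 1, 0),
  ([31, 32, 43, 44, 32, 39, 32, 39, 26, 30, 37, 34, 4, 5, 3, 4, 5, 6, 7, 3, 2, 1, 4, 3, 5, 8, 7, 3, 2, 1, 0, 4], 1, 0),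
  ([32, 42, 40, 45, 39, 33, 39, 31, 26, 30, 37, 34, 4, 5, 3, 4, 5, 6, 7, 3, 2, 1, 4, 3, 5, 8, 7, 3, 2, 1, 0, 4], 0, 0),
  ([31, 42, 40, 45, 39, 33, 39, 31, 26, 30, 37, 34, 4, 5, 3, 4, 5, 6, 7, 3, 2, 1, 4, 3, 5, 8, 7, 3, 2, 1, 0, 4], 0, 0),
  ([32, 33, 42, 45, 37, 30, 38, 30, 4, 6, 27, 34, 28, 35, 3, 4, 5, 6, 7, 3, 2, 1, 4, 3, 5, 4, 7, 8, 7, 3, 2, 1, 4], 1, 0),
  ([31, 33, 42, 45, 37, 30, 38, 30, 4, 6, 27, 34, 28, 35, 3, 4, 5, 6, 7, 3, 2, 1, 4, 3, 5, 4, 7, 8, 7, 3, 2, 1, 4], 1, 0),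
  ([42, 40, 44, 44, 39, 37, 30, 38, 30, 4, 6, 27, 34, 28, 35, 3, 4, 5, 6, 7, 3, 2, 1, 4, 3, 5, 4, 7, 8, 7, 3, 2, 1, 4], 1, 0),
  ([31, 32, 42, 40, 44, 44, 39, 37, 30, 38, 30, 4, 6, 27, 34, 28, 35, 3, 4, 5, 6, 7, 3, 2, 1, 4, 3, 5, 4, 7, 8, 7, 3, 2, 1, 4], 1, 0),
  ([32, 33, 42, 40, 39, 33, 37, 30, 38, 30, 4, 6, 27, 34, 28, 35, 3, 4, 5, 6, 7, 3, 2, 1, 4, 3, 5, 4, 7, 8, 7, 3, 2, 1, 4], 0, 0),
  ([31, 33, 42, 40, 39, 33, 37, 30, 38, 30, 4, 6, 27, 34, 28, 35, 3, 4, 5, 6, 7, 3, 2, 1, 4, 3, 5, 4, 7, 8, 7, 3, 2, 1, 4], 0, 0),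
  ([32, 42, 43, 40, 45, 38, 38, 33, 29, 26, 37, 29, 4, 6, 27, 34, 28, 34, 3, 4, 5, 6, 7, 3, 2, 1, 4, 3, 5, 8, 7, 3, 2, 1, 0, 4, 5], 1, 0),
  ([31, 42, 43, 40, 45, 38, 38, 33, 29, 26, 37, 29, 4, 6, 27, 34, 28, 34, 3, 4, 5, 6, 7, 3, 2, 1, 4, 3, 5, 8, 7, 3, 2, 1, 0, 4, 5], 1, 0),
  ([31, 32, 33, 42, 44, 32, 39, 39, 29, 26, 37, 29, 4, 6, 27, 34, 28, 34, 3, 4, 5, 6, 7, 3, 2, 1, 4, 3, 5, 8, 7, 3, 2, 1, 0, 4, 5], 0, 0),
  ([33, 42, 44, 32, 39, 39, 29, 26, 37, 29, 4, 6, 27, 34, 28, 34, 3, 4, 5, 6, 7, 3, 2, 1, 4, 3, 5, 8, 7, 3, 2, 1, 0, 4, 5], 0, 0),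
  ([32, 33, 42, 40, 44, 44, 39, 31, 39, 39, 29, 26, 37, 29, 4, 6, 27, 34, 28, 34, 3, 4, 5, 6, 7, 3, 2, 1, 4, 3, 5, 8, 7, 3, 2, 1, 0, 4, 5], 1, 0),
  ([31, 33, 42, 40, 44, 44, 39, 31, 39, 39, 29, 26, 37, 29, 4, 6, 27, 34, 28, 34, 3, 4, 5, 6, 7, 3, 2, 1, 4, 3, 5, 8, 7, 3, 2, 1, 0, 4, 5], 1, 0),
  ([42, 45, 41, 39, 32, 36, 30, 39, 30, 1, 4, 34, 28, 34, 1, 27, 3, 4, 5, 6, 7, 3, 2, 4, 3, 5, 8, 7, 3, 2, 1, 4, 3, 2, 7], 1, 0),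
  ([31, 32, 42, 45, 41, 39, 32, 36, 30, 39, 30, 1, 4, 34, 28, 34, 1, 27, 3, 4, 5, 6, 7, 3, 2, 4, 3, 5, 8, 7, 3, 2, 1, 4, 3, 2, 7], 1, 0),
  ([42, 43, 45, 41, 39, 33, 39, 36, 30, 39, 30, 1, 4, 34, 28, 34, 1, 27, 3, 4, 5, 6, 7, 3, 2, 4, 3, 5, 8, 7, 3, 2, 1, 4, 3, 2, 7], 0, 0),
  ([31, 32, 42, 43, 45, 41, 39, 33, 39, 36, 30, 39, 30, 1, 4, 34, 28, 34, 1, 27, 3, 4, 5, 6, 7, 3, 2, 4, 3, 5, 8, 7, 3, 2, 1, 4, 3, 2, 7], 0, 0),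
  ([31, 32, 33, 42, 44, 41, 38, 38, 32, 36, 30, 39, 30, 1, 4, 34, 28, 34, 1, 27, 3, 4, 5, 6, 7, 3, 2, 4, 3, 5, 8, 7, 3, 2, 1, 4, 3, 2, 7], 1, 0),
  ([33, 42, 44, 41, 38, 38, 32, 36, 30, 39, 30, 1, 4, 34, 28, 34, 1, 27, 3, 4, 5, 6, 7, 3, 2, 4, 3, 5, 8, 7, 3, 2, 1, 4, 3, 2, 7], 1, 0),
  ([42, 44, 31, 39, 29, 37, 38, 7, 35, 8, 3, 4, 5, 6, 7, 3, 2, 1, 4, 3, 5, 4, 7, 8, 7, 3, 2, 1, 4, 5], 1, 0),
  ([31, 32, 42, 44, 31, 39, 29, 37, 38, 7, 35, 8, 3, 4, 5, 6, 7, 3, 2, 1, 4, 3, 5, 4, 7, 8, 7, 3, 2, 1, 4, 5], 1, 0),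
  ([31, 32, 33, 42, 40, 44, 44, 39, 32, 39, 29, 37, 38, 7, 35, 8, 3, 4, 5, 6, 7, 3, 2, 1, 4, 3, 5, 4, 7, 8, 7, 3, 2, 1, 4, 5], 0, 0),
  ([33, 42, 40, 44, 44, 39, 32, 39, 29, 37, 38, 7, 35, 8, 3, 4, 5, 6, 7, 3, 2, 1, 4, 3, 5, 4, 7, 8, 7, 3, 2, 1, 4, 5], 0, 0),
  ([32, 42, 40, 39, 31, 39, 29, 37, 38, 7, 35, 8, 3, 4, 5, 6, 7, 3, 2, 1, 4, 3, 5, 4, 7, 8, 7, 3, 2, 1, 4, 5], 1, 0),
  ([31, 42, 40, 39, 31, 39, 29, 37, 38, 7, 35, 8, 3, 4, 5, 6, 7, 3, 2, 1, 4, 3, 5, 4, 7, 8, 7, 3, 2, 1, 4, 5], 1, 0),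
  ([31, 32, 33, 42, 43, 44, 31, 39, 33, 38, 1, 39, 26, 30, 7, 35, 27, 8, 7, 3, 4, 5, 6, 7, 3, 2, 4, 3, 5, 8, 7, 3, 2, 1, 4, 3, 2, 5, 7], 1, 0),
  ([33, 42, 43, 44, 31, 39, 33, 38, 1, 39, 26, 30, 7, 35, 27, 8, 7, 3, 4, 5, 6, 7, 3, 2, 4, 3, 5, 8, 7, 3, 2, 1, 4, 3, 2, 5, 7], 1, 0),
  ([32, 40, 44, 39, 33, 39, 32, 1, 39, 26, 30, 7, 35, 27, 8, 7, 3, 4, 5, 6, 7, 3, 2, 4, 3, 5, 8, 7, 3, 2, 1, 4, 3, 2, 5, 7], 0, 0),
  ([31, 40, 44, 39, 33, 39, 32, 1, 39, 26, 30, 7, 35, 27, 8, 7, 3, 4, 5, 6, 7, 3, 2, 4, 3, 5, 8, 7, 3, 2, 1, 4, 3, 2, 5, 7], 0, 0),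
  ([31, 32, 33, 42, 44, 32, 39, 33, 39, 39, 1, 39, 26, 30, 7, 35, 27, 8, 7, 3, 4, 5, 6, 7, 3, 2, 4, 3, 5, 8, 7, 3, 2, 1, 4, 3, 2, 5, 7], 3, 0),
  ([33, 42, 44, 32, 39, 33, 39, 39, 1, 39, 26, 30, 7, 35, 27, 8, 7, 3, 4, 5, 6, 7, 3, 2, 4, 3, 5, 8, 7, 3, 2, 1, 4, 3, 2, 5, 7], 1, 0),
  ([44, 31, 26, 37, 30, 26, 6, 28, 34, 1, 3, 4, 5, 6, 7, 3, 2, 1, 4, 3, 2, 5, 8, 7, 3, 2, 1, 4, 3, 2, 5, 6], 1, 0),
  ([31, 32, 44, 31, 26, 37, 30, 26, 6, 28, 34, 1, 3, 4, 5, 6, 7, 3, 2, 1, 4, 3, 2, 5, 8, 7, 3, 2, 1, 4, 3, 2, 5, 6], 1, 0),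
  ([42, 43, 40, 44, 44, 39, 32, 26, 37, 30, 26, 6, 28, 34, 1, 3, 4, 5, 6, 7, 3, 2, 1, 4, 3, 2, 5, 8, 7, 3, 2, 1, 4, 3, 2, 5, 6], 1, 0),
  ([31, 32, 42, 43, 40, 44, 44, 39, 32, 26, 37, 30, 26, 6, 28, 34, 1, 3, 4, 5, 6, 7, 3, 2, 1, 4, 3, 2, 5, 8, 7, 3, 2, 1, 4, 3, 2, 5, 6], 1, 0),
  ([31, 33, 43, 40, 39, 31, 26, 37, 30, 26, 6, 28, 34, 1, 3, 4, 5, 6, 7, 3, 2, 1, 4, 3, 2, 5, 8, 7, 3, 2, 1, 4, 3, 2, 5, 6], 0, 0),
  ([32, 33, 43, 40, 39, 31, 26, 37, 30, 26, 6, 28, 34, 1, 3, 4, 5, 6, 7, 3, 2, 1, 4, 3, 2, 5, 8, 7, 3, 2, 1, 4, 3, 2, 5, 6], 0, 0),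
  ([33, 43, 40, 38, 38, 38, 31, 29, 37, 39, 29, 29, 5, 6, 27, 34, 1, 3, 4, 5, 6, 7, 3, 2, 1, 4, 8, 7, 3, 2, 1, 4, 3, 5, 4, 7, 3, 2, 1], 1, 0),
  ([31, 32, 33, 43, 40, 38, 38, 38, 31, 29, 37, 39, 29, 29, 5, 6, 27, 34, 1, 3, 4, 5, 6, 7, 3, 2, 1, 4, 8, 7, 3, 2, 1, 4, 3, 5, 4, 7, 3, 2, 1], 1, 0),
  ([32, 42, 39, 39, 29, 37, 39, 29, 29, 5, 6, 27, 34, 1, 3, 4, 5, 6, 7, 3, 2, 1, 4, 8, 7, 3, 2, 1, 4, 3, 5, 4, 7, 3, 2, 1], 2, 0),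
  ([31, 42, 39, 39, 29, 37, 39, 29, 29, 5, 6, 27, 34, 1, 3, 4, 5, 6, 7, 3, 2, 1, 4, 8, 7, 3, 2, 1, 4, 3, 5, 4, 7, 3, 2, 1], 1, 0),
  ([31, 33, 42, 43, 40, 44, 39, 32, 39, 32, 29, 37, 39, 29, 29, 5, 6, 27, 34, 1, 3, 4, 5, 6, 7, 3, 2, 1, 4, 8, 7, 3, 2, 1, 4, 3, 5, 4, 7, 3, 2, 1], 1, 0),
  ([32, 33, 42, 43, 40, 44, 39, 32, 39, 32, 29, 37, 39, 29, 29, 5, 6, 27, 34, 1, 3, 4, 5, 6, 7, 3, 2, 1, 4, 8, 7, 3, 2, 1, 4, 3, 5, 4, 7, 3, 2, 1], 1, 0),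
  ([32, 42, 44, 39, 33, 39, 32, 30, 38, 37, 6, 35, 8, 34, 3, 4, 5, 6, 7, 3, 2, 1, 4, 3, 5, 8, 7, 3, 2, 1, 0, 4, 3, 5, 4, 6, 7], 1, 0),
  ([31, 42, 44, 39, 33, 39, 32, 30, 38, 37, 6, 35, 8, 34, 3, 4, 5, 6, 7, 3, 2, 1, 4, 3, 5, 8, 7, 3, 2, 1, 0, 4, 3, 5, 4, 6, 7], 1, 0),
  ([43, 45, 39, 33, 39, 31, 30, 38, 37, 6, 35, 8, 34, 3, 4, 5, 6, 7, 3, 2, 1, 4, 3, 5, 8, 7, 3, 2, 1, 0, 4, 3, 5, 4, 6, 7], 1, 0),
  ([31, 32, 43, 45, 39, 33, 39, 31, 30, 38, 37, 6, 35, 8, 34, 3, 4, 5, 6, 7, 3, 2, 1, 4, 3, 5, 8, 7, 3, 2, 1, 0, 4, 3, 5, 4, 6, 7], 1, 0),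
  ([31, 33, 43, 44, 32, 38, 38, 32, 39, 30, 38, 37, 6, 35, 8, 34, 3, 4, 5, 6, 7, 3, 2, 1, 4, 3, 5, 8, 7, 3, 2, 1, 0, 4, 3, 5, 4, 6, 7], 1, 0),
  ([32, 33, 43, 44, 32, 38, 38, 32, 39, 30, 38, 37, 6, 35, 8, 34, 3, 4, 5, 6, 7, 3, 2, 1, 4, 3, 5, 8, 7, 3, 2, 1, 0, 4, 3, 5, 4, 6, 7], 2, 0),
  ([42, 44, 31, 39, 29, 37, 38, 35, 8, 7, 28, 3, 4, 5, 6, 7, 3, 2, 1, 4, 3, 2, 7, 8, 7, 3, 2, 1, 4, 3, 2, 5, 4, 3, 7], 0, 0),
  ([31, 32, 42, 44, 31, 39, 29, 37, 38, 35, 8, 7, 28, 3, 4, 5, 6, 7, 3, 2, 1, 4, 3, 2, 7, 8, 7, 3, 2, 1, 4, 3, 2, 5, 4, 3, 7], 0, 0),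
  ([31, 32, 33, 42, 40, 44, 44, 39, 32, 39, 29, 37, 38, 35, 8, 7, 28, 3, 4, 5, 6, 7, 3, 2, 1, 4, 3, 2, 7, 8, 7, 3, 2, 1, 4, 3, 2, 5, 4, 3, 7], 1, 0),
  ([33, 42, 40, 44, 44, 39, 32, 39, 29, 37, 38, 35, 8, 7, 28, 3, 4, 5, 6, 7, 3, 2, 1, 4, 3, 2, 7, 8, 7, 3, 2, 1, 4, 3, 2, 5, 4, 3, 7], 1, 0),
  ([32, 42, 40, 39, 31, 39, 29, 37, 38, 35, 8, 7, 28, 3, 4, 5, 6, 7, 3, 2, 1, 4, 3, 2, 7, 8, 7, 3, 2, 1, 4, 3, 2, 5, 4, 3, 7], 1, 0),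
  ([31, 42, 40, 39, 31, 39, 29, 37, 38, 35, 8, 7, 28, 3, 4, 5, 6, 7, 3, 2, 1, 4, 3, 2, 7, 8, 7, 3, 2, 1, 4, 3, 2, 5, 4, 3, 7], 1, 0),
  ([31, 33, 44, 44, 38, 38, 38, 31, 38, 30, 36, 1, 29, 6, 8, 27, 34, 8, 3, 4, 5, 6, 7, 3, 2, 1, 4, 3, 5, 4, 8, 7, 3, 2, 1, 4, 3, 2, 5, 7, 3, 4], 0, 0),
  ([32, 33, 44, 44, 38, 38, 38, 31, 38, 30, 36, 1, 29, 6, 8, 27, 34, 8, 3, 4, 5, 6, 7, 3, 2, 1, 4, 3, 5, 4, 8, 7, 3, 2, 1, 4, 3, 2, 5, 7, 3, 4], 0, 0),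
  ([31, 32, 33, 42, 43, 44, 31, 38, 38, 38, 31, 30, 36, 1, 29, 6, 8, 27, 34, 8, 3, 4, 5, 6, 7, 3, 2, 1, 4, 3, 5, 4, 8, 7, 3, 2, 1, 4, 3, 2, 5, 7, 3, 4], 1, 0),
  ([33, 42, 43, 44, 31, 38, 38, 38, 31, 30, 36, 1, 29, 6, 8, 27, 34, 8, 3, 4, 5, 6, 7, 3, 2, 1, 4, 3, 5, 4, 8, 7, 3, 2, 1, 4, 3, 2, 5, 7, 3, 4], 1, 0),
  ([42, 43, 44, 44, 39, 33, 30, 36, 1, 29, 6, 8, 27, 34, 8, 3, 4, 5, 6, 7, 3, 2, 1, 4, 3, 5, 4, 8, 7, 3, 2, 1, 4, 3, 2, 5, 7, 3, 4], 1, 0),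
  ([31, 32, 42, 43, 44, 44, 39, 33, 30, 36, 1, 29, 6, 8, 27, 34, 8, 3, 4, 5, 6, 7, 3, 2, 1, 4, 3, 5, 4, 8, 7, 3, 2, 1, 4, 3, 2, 5, 7, 3, 4], 1, 0),
  ([31, 32, 33, 42, 44, 41, 39, 33, 38, 30, 37, 26, 5, 34, 4, 5, 27, 34, 3, 4, 5, 6, 7, 3, 2, 1, 4, 3, 5, 4, 8, 7, 3, 2, 1, 4, 3, 2, 5, 7, 3, 4, 5], 1, 0),
  ([33, 42, 44, 41, 39, 33, 38, 30, 37, 26, 5, 34, 4, 5, 27, 34, 3, 4, 5, 6, 7, 3, 2, 1, 4, 3, 5, 4, 8, 7, 3, 2, 1, 4, 3, 2, 5, 7, 3, 4, 5], 1, 0),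
  ([32, 44, 31, 39, 32, 39, 30, 37, 26, 5, 34, 4, 5, 27, 34, 3, 4, 5, 6, 7, 3, 2, 1, 4, 3, 5, 4, 8, 7, 3, 2, 1, 4, 3, 2, 5, 7, 3, 4, 5], 1, 0),
  ([31, 44, 31, 39, 32, 39, 30, 37, 26, 5, 34, 4, 5, 27, 34, 3, 4, 5, 6, 7, 3, 2, 1, 4, 3, 5, 4, 8, 7, 3, 2, 1, 4, 3, 2, 5, 7, 3, 4, 5], 2, 0),
  ([40, 44, 39, 33, 39, 31, 30, 37, 26, 5, 34, 4, 5, 27, 34, 3, 4, 5, 6, 7, 3, 2, 1, 4, 3, 5, 4, 8, 7, 3, 2, 1, 4, 3, 2, 5, 7, 3, 4, 5], 1, 0),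
  ([31, 32, 40, 44, 39, 33, 39, 31, 30, 37, 26, 5, 34, 4, 5, 27, 34, 3, 4, 5, 6, 7, 3, 2, 1, 4, 3, 5, 4, 8, 7, 3, 2, 1, 4, 3, 2, 5, 7, 3, 4, 5], 1, 0),
  ([32, 44, 32, 26, 37, 30, 26, 4, 27, 6, 8, 3, 4, 5, 6, 7, 3, 2, 1, 4, 5, 8, 7, 3, 2, 1, 0, 4, 3, 2, 5, 4, 7, 3, 2, 1], 0, 0),
  ([31, 44, 32, 26, 37, 30, 26, 4, 27, 6, 8, 3, 4, 5, 6, 7, 3, 2, 1, 4, 5, 8, 7, 3, 2, 1, 0, 4, 3, 2, 5, 4, 7, 3, 2, 1], 0, 0),
  ([32, 43, 40, 39, 32, 26, 37, 30, 26, 4, 27, 6, 8, 3, 4, 5, 6, 7, 3, 2, 1, 4, 5, 8, 7, 3, 2, 1, 0, 4, 3, 2, 5, 4, 7, 3, 2, 1], 1, 0),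
  ([31, 43, 40, 39, 32, 26, 37, 30, 26, 4, 27, 6, 8, 3, 4, 5, 6, 7, 3, 2, 1, 4, 5, 8, 7, 3, 2, 1, 0, 4, 3, 2, 5, 4, 7, 3, 2, 1], 1, 0),
  ([31, 33, 42, 43, 40, 44, 44, 39, 31, 26, 37, 30, 26, 4, 27, 6, 8, 3, 4, 5, 6, 7, 3, 2, 1, 4, 5, 8, 7, 3, 2, 1, 0, 4, 3, 2, 5, 4, 7, 3, 2, 1], 1, 0),
  ([32, 33, 42, 43, 40, 44, 44, 39, 31, 26, 37, 30, 26, 4, 27, 6, 8, 3, 4, 5, 6, 7, 3, 2, 1, 4, 5, 8, 7, 3, 2, 1, 0, 4, 3, 2, 5, 4, 7, 3, 2, 1], 1, 0),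
  ([33, 43, 44, 38, 38, 33, 37, 29, 1, 6, 34, 8, 27, 3, 4, 5, 6, 7, 3, 2, 1, 4, 3, 5, 4, 8, 7, 3, 2, 4, 3, 5, 4, 7, 3, 2, 1, 8, 7], 1, 0),
  ([31, 32, 33, 43, 44, 38, 38, 33, 37, 29, 1, 6, 34, 8, 27, 3, 4, 5, 6, 7, 3, 2, 1, 4, 3, 5, 4, 8, 7, 3, 2, 4, 3, 5, 4, 7, 3, 2, 1, 8, 7], 3, 0),
  ([31, 32, 33, 44, 31, 38, 37, 29, 1, 6, 34, 8, 27, 3, 4, 5, 6, 7, 3, 2, 1, 4, 3, 5, 4, 8, 7, 3, 2, 4, 3, 5, 4, 7, 3, 2, 1, 8, 7], 1, 0),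
  ([33, 44, 31, 38, 37, 29, 1, 6, 34, 8, 27, 3, 4, 5, 6, 7, 3, 2, 1, 4, 3, 5, 4, 8, 7, 3, 2, 4, 3, 5, 4, 7, 3, 2, 1, 8, 7], 1, 0),
  ([43, 40, 39, 31, 38, 37, 29, 1, 6, 34, 8, 27, 3, 4, 5, 6, 7, 3, 2, 1, 4, 3, 5, 4, 8, 7, 3, 2, 4, 3, 5, 4, 7, 3, 2, 1, 8, 7], 1, 0),
  ([31, 32, 43, 40, 39, 31, 38, 37, 29, 1, 6, 34, 8, 27, 3, 4, 5, 6, 7, 3, 2, 1, 4, 3, 5, 4, 8, 7, 3, 2, 4, 3, 5, 4, 7, 3, 2, 1, 8, 7], 1, 0),
  ([33, 43, 40, 39, 33, 39, 31, 37, 38, 38, 5, 27, 6, 8, 27, 8, 3, 4, 5, 6, 7, 3, 2, 1, 4, 3, 2, 5, 4, 3, 8, 7, 3, 2, 1, 4, 3, 5, 4, 7, 3, 2, 1], 1, 0),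
  ([31, 32, 33, 43, 40, 39, 33, 39, 31, 37, 38, 38, 5, 27, 6, 8, 27, 8, 3, 4, 5, 6, 7, 3, 2, 1, 4, 3, 2, 5, 4, 3, 8, 7, 3, 2, 1, 4, 3, 5, 4, 7, 3, 2, 1], 1, 0),
  ([31, 33, 42, 43, 40, 45, 39, 39, 37, 38, 38, 5, 27, 6, 8, 27, 8, 3, 4, 5, 6, 7, 3, 2, 1, 4, 3, 2, 5, 4, 3, 8, 7, 3, 2, 1, 4, 3, 5, 4, 7, 3, 2, 1], 1, 0),
  ([32, 33, 42, 43, 40, 45, 39, 39, 37, 38, 38, 5, 27, 6, 8, 27, 8, 3, 4, 5, 6, 7, 3, 2, 1, 4, 3, 2, 5, 4, 3, 8, 7, 3, 2, 1, 4, 3, 5, 4, 7, 3, 2, 1], 1, 0),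
  ([32, 45, 39, 31, 37, 38, 38, 5, 27, 6, 8, 27, 8, 3, 4, 5, 6, 7, 3, 2, 1, 4, 3, 2, 5, 4, 3, 8, 7, 3, 2, 1, 4, 3, 5, 4, 7, 3, 2, 1], 0, 0),
  ([31, 45, 39, 31, 37, 38, 38, 5, 27, 6, 8, 27, 8, 3, 4, 5, 6, 7, 3, 2, 1, 4, 3, 2, 5, 4, 3, 8, 7, 3, 2, 1, 4, 3, 5, 4, 7, 3, 2, 1], 0, 0),
  ([31, 33, 40, 44, 38, 38, 38, 37, 29, 37, 38, 5, 28, 35, 1, 3, 4, 5, 6, 7, 3, 2, 1, 4, 3, 2, 5, 4, 8, 7, 3, 2, 4, 3, 5, 4, 7, 3, 2, 1, 8, 7], 0, 0),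
  ([32, 33, 40, 44, 38, 38, 38, 37, 29, 37, 38, 5, 28, 35, 1, 3, 4, 5, 6, 7, 3, 2, 1, 4, 3, 2, 5, 4, 8, 7, 3, 2, 4, 3, 5, 4, 7, 3, 2, 1, 8, 7], 0, 0),
  ([40, 45, 38, 38, 32, 38, 37, 29, 37, 38, 5, 28, 35, 1, 3, 4, 5, 6, 7, 3, 2, 1, 4, 3, 2, 5, 4, 8, 7, 3, 2, 4, 3, 5, 4, 7, 3, 2, 1, 8, 7], 1, 0),
  ([31, 32, 40, 45, 38, 38, 32, 38, 37, 29, 37, 38, 5, 28, 35, 1, 3, 4, 5, 6, 7, 3, 2, 1, 4, 3, 2, 5, 4, 8, 7, 3, 2, 4, 3, 5, 4, 7, 3, 2, 1, 8, 7], 1, 0),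
  ([31, 33, 42, 43, 44, 39, 31, 39, 37, 29, 37, 38, 5, 28, 35, 1, 3, 4, 5, 6, 7, 3, 2, 1, 4, 3, 2, 5, 4, 8, 7, 3, 2, 4, 3, 5, 4, 7, 3, 2, 1, 8, 7], 1, 0),
  ([32, 33, 42, 43, 44, 39, 31, 39, 37, 29, 37, 38, 5, 28, 35, 1, 3, 4, 5, 6, 7, 3, 2, 1, 4, 3, 2, 5, 4, 8, 7, 3, 2, 4, 3, 5, 4, 7, 3, 2, 1, 8, 7], 1, 0),
  ([31, 33, 45, 39, 33, 39, 32, 30, 38, 37, 6, 5, 35, 3, 4, 5, 6, 7, 3, 2, 1, 4, 3, 2, 5, 8, 7, 3, 2, 1, 4, 3, 2, 5, 6, 7, 3, 4, 8, 7], 0, 0),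
  ([32, 33, 45, 39, 33, 39, 32, 30, 38, 37, 6, 5, 35, 3, 4, 5, 6, 7, 3, 2, 1, 4, 3, 2, 5, 8, 7, 3, 2, 1, 4, 3, 2, 5, 6, 7, 3, 4, 8, 7], 0, 0),
  ([31, 33, 44, 39, 33, 39, 31, 30, 38, 37, 6, 5, 35, 3, 4, 5, 6, 7, 3, 2, 1, 4, 3, 2, 5, 8, 7, 3, 2, 1, 4, 3, 2, 5, 6, 7, 3, 4, 8, 7], 1, 0),
  ([32, 33, 44, 39, 33, 39, 31, 30, 38, 37, 6, 5, 35, 3, 4, 5, 6, 7, 3, 2, 1, 4, 3, 2, 5, 8, 7, 3, 2, 1, 4, 3, 2, 5, 6, 7, 3, 4, 8, 7], 1, 0),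
  ([42, 44, 31, 38, 38, 32, 39, 30, 38, 37, 6, 5, 35, 3, 4, 5, 6, 7, 3, 2, 1, 4, 3, 2, 5, 8, 7, 3, 2, 1, 4, 3, 2, 5, 6, 7, 3, 4, 8, 7], 1, 0),
  ([31, 32, 42, 44, 31, 38, 38, 32, 39, 30, 38, 37, 6, 5, 35, 3, 4, 5, 6, 7, 3, 2, 1, 4, 3, 2, 5, 8, 7, 3, 2, 1, 4, 3, 2, 5, 6, 7, 3, 4, 8, 7], 1, 0),
  ([33, 43, 44, 38, 38, 33, 36, 36, 30, 39, 6, 27, 6, 35, 3, 4, 5, 6, 7, 3, 2, 1, 4, 3, 5, 8, 7, 3, 2, 1, 4, 3, 2, 5, 4, 7, 3, 2, 1, 8, 7], 1, 0),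
  ([31, 32, 33, 43, 44, 38, 38, 33, 36, 36, 30, 39, 6, 27, 6, 35, 3, 4, 5, 6, 7, 3, 2, 1, 4, 3, 5, 8, 7, 3, 2, 1, 4, 3, 2, 5, 4, 7, 3, 2, 1, 8, 7], 1, 0),
  ([31, 32, 33, 44, 31, 38, 36, 36, 30, 39, 6, 27, 6, 35, 3, 4, 5, 6, 7, 3, 2, 1, 4, 3, 5, 8, 7, 3, 2, 1, 4, 3, 2, 5, 4, 7, 3, 2, 1, 8, 7], 1, 0),
  ([33, 44, 31, 38, 36, 36, 30, 39, 6, 27, 6, 35, 3, 4, 5, 6, 7, 3, 2, 1, 4, 3, 5, 8, 7, 3, 2, 1, 4, 3, 2, 5, 4, 7, 3, 2, 1, 8, 7], 1, 0),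
  ([43, 40, 39, 31, 38, 36, 36, 30, 39, 6, 27, 6, 35, 3, 4, 5, 6, 7, 3, 2, 1, 4, 3, 5, 8, 7, 3, 2, 1, 4, 3, 2, 5, 4, 7, 3, 2, 1, 8, 7], 0, 0),
  ([31, 32, 43, 40, 39, 31, 38, 36, 36, 30, 39, 6, 27, 6, 35, 3, 4, 5, 6, 7, 3, 2, 1, 4, 3, 5, 8, 7, 3, 2, 1, 4, 3, 2, 5, 4, 7, 3, 2, 1, 8, 7], 0, 0),
  ([32, 42, 40, 44, 44, 1, 36, 30, 6, 34, 8, 27, 3, 4, 5, 6, 7, 3, 2, 1, 4, 3, 2, 5, 8, 7, 3, 2, 1, 4, 3, 2, 5, 4, 7, 3, 2, 1, 8, 7], 1, 0),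
  ([31, 42, 40, 44, 44, 1, 36, 30, 6, 34, 8, 27, 3, 4, 5, 6, 7, 3, 2, 1, 4, 3, 2, 5, 8, 7, 3, 2, 1, 4, 3, 2, 5, 4, 7, 3, 2, 1, 8, 7], 1, 0),
  ([42, 40, 39, 33, 38, 1, 36, 30, 6, 34, 8, 27, 3, 4, 5, 6, 7, 3, 2, 1, 4, 3, 2, 5, 8, 7, 3, 2, 1, 4, 3, 2, 5, 4, 7, 3, 2, 1, 8, 7], 1, 0),
  ([31, 32, 42, 40, 39, 33, 38, 1, 36, 30, 6, 34, 8, 27, 3, 4, 5, 6, 7, 3, 2, 1, 4, 3, 2, 5, 8, 7, 3, 2, 1, 4, 3, 2, 5, 4, 7, 3, 2, 1, 8, 7], 1, 0),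
  ([32, 42, 45, 38, 1, 36, 30, 6, 34, 8, 27, 3, 4, 5, 6, 7, 3, 2, 1, 4, 3, 2, 5, 8, 7, 3, 2, 1, 4, 3, 2, 5, 4, 7, 3, 2, 1, 8, 7], 1, 0),
  ([31, 42, 45, 38, 1, 36, 30, 6, 34, 8, 27, 3, 4, 5, 6, 7, 3, 2, 1, 4, 3, 2, 5, 8, 7, 3, 2, 1, 4, 3, 2, 5, 4, 7, 3, 2, 1, 8, 7], 1, 0),
  ([42, 43, 40, 44, 39, 33, 39, 39, 30, 36, 1, 29, 27, 6, 27, 34, 3, 4, 5, 6, 7, 3, 2, 1, 4, 3, 2, 5, 8, 7, 3, 2, 1, 4, 3, 2, 5, 6, 7, 3, 4, 5, 8, 7], 1, 0),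
  ([31, 32, 42, 43, 40, 44, 39, 33, 39, 39, 30, 36, 1, 29, 27, 6, 27, 34, 3, 4, 5, 6, 7, 3, 2, 1, 4, 3, 2, 5, 8, 7, 3, 2, 1, 4, 3, 2, 5, 6, 7, 3, 4, 5, 8, 7], 2, 0),
  ([42, 40, 44, 39, 33, 30, 36, 1, 29, 27, 6, 27, 34, 3, 4, 5, 6, 7, 3, 2, 1, 4, 3, 2, 5, 8, 7, 3, 2, 1, 4, 3, 2, 5, 6, 7, 3, 4, 5, 8, 7], 1, 0),
  ([31, 32, 42, 40, 44, 39, 33, 30, 36, 1, 29, 27, 6, 27, 34, 3, 4, 5, 6, 7, 3, 2, 1, 4, 3, 2, 5, 8, 7, 3, 2, 1, 4, 3, 2, 5, 6, 7, 3, 4, 5, 8, 7], 1, 0),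
  ([32, 33, 42, 44, 39, 31, 38, 33, 30, 36, 1, 29, 27, 6, 27, 34, 3, 4, 5, 6, 7, 3, 2, 1, 4, 3, 2, 5, 8, 7, 3, 2, 1, 4, 3, 2, 5, 6, 7, 3, 4, 5, 8, 7], 1, 0),
  ([31, 33, 42, 44, 39, 31, 38, 33, 30, 36, 1, 29, 27, 6, 27, 34, 3, 4, 5, 6, 7, 3, 2, 1, 4, 3, 2, 5, 8, 7, 3, 2, 1, 4, 3, 2, 5, 6, 7, 3, 4, 5, 8, 7], 1, 0),
  ([1, 29, 29, 5, 28, 35, 1, 8, 3, 4, 5, 6, 7, 3, 2, 1, 4, 3, 2, 5, 8, 7, 3, 2, 1, 0, 4, 3, 2, 5, 4, 3, 7, 3, 4, 8, 7], 1, 0),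
  ([31, 32, 1, 29, 29, 5, 28, 35, 1, 8, 3, 4, 5, 6, 7, 3, 2, 1, 4, 3, 2, 5, 8, 7, 3, 2, 1, 0, 4, 3, 2, 5, 4, 3, 7, 3, 4, 8, 7], 1, 0),
  ([32, 43, 44, 38, 38, 32, 39, 1, 29, 29, 5, 28, 35, 1, 8, 3, 4, 5, 6, 7, 3, 2, 1, 4, 3, 2, 5, 8, 7, 3, 2, 1, 0, 4, 3, 2, 5, 4, 3, 7, 3, 4, 8, 7], 1, 0),
  ([31, 43, 44, 38, 38, 32, 39, 1, 29, 29, 5, 28, 35, 1, 8, 3, 4, 5, 6, 7, 3, 2, 1, 4, 3, 2, 5, 8, 7, 3, 2, 1, 0, 4, 3, 2, 5, 4, 3, 7, 3, 4, 8, 7], 1, 0),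
  ([33, 43, 44, 41, 39, 31, 39, 39, 1, 29, 29, 5, 28, 35, 1, 8, 3, 4, 5, 6, 7, 3, 2, 1, 4, 3, 2, 5, 8, 7, 3, 2, 1, 0, 4, 3, 2, 5, 4, 3, 7, 3, 4, 8, 7], 1, 0),
  ([31, 32, 33, 43, 44, 41, 39, 31, 39, 39, 1, 29, 29, 5, 28, 35, 1, 8, 3, 4, 5, 6, 7, 3, 2, 1, 4, 3, 2, 5, 8, 7, 3, 2, 1, 0, 4, 3, 2, 5, 4, 3, 7, 3, 4, 8, 7], 1, 0),
  ([42, 45, 41, 39, 32, 36, 30, 39, 30, 1, 4, 35, 27, 3, 4, 5, 6, 7, 3, 2, 1, 4, 3, 2, 5, 4, 7, 8, 7, 3, 2, 1, 4, 3, 2, 5, 4, 3, 7, 3, 4, 8, 7], 1, 0),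
  ([31, 32, 42, 45, 41, 39, 32, 36, 30, 39, 30, 1, 4, 35, 27, 3, 4, 5, 6, 7, 3, 2, 1, 4, 3, 2, 5, 4, 7, 8, 7, 3, 2, 1, 4, 3, 2, 5, 4, 3, 7, 3, 4, 8, 7], 1, 0),
  ([42, 43, 45, 41, 39, 33, 39, 36, 30, 39, 30, 1, 4, 35, 27, 3, 4, 5, 6, 7, 3, 2, 1, 4, 3, 2, 5, 4, 7, 8, 7, 3, 2, 1, 4, 3, 2, 5, 4, 3, 7, 3, 4, 8, 7], 1, 0),
  ([31, 32, 42, 43, 45, 41, 39, 33, 39, 36, 30, 39, 30, 1, 4, 35, 27, 3, 4, 5, 6, 7, 3, 2, 1, 4, 3, 2, 5, 4, 7, 8, 7, 3, 2, 1, 4, 3, 2, 5, 4, 3, 7, 3, 4, 8, 7], 1, 0),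
  ([31, 32, 33, 42, 44, 41, 38, 38, 32, 36, 30, 39, 30, 1, 4, 35, 27, 3, 4, 5, 6, 7, 3, 2, 1, 4, 3, 2, 5, 4, 7, 8, 7, 3, 2, 1, 4, 3, 2, 5, 4, 3, 7, 3, 4, 8, 7], 0, 0),
  ([33, 42, 44, 41, 38, 38, 32, 36, 30, 39, 30, 1, 4, 35, 27, 3, 4, 5, 6, 7, 3, 2, 1, 4, 3, 2, 5, 4, 7, 8, 7, 3, 2, 1, 4, 3, 2, 5, 4, 3, 7, 3, 4, 8, 7], 0, 0)]

end Cfsg.Agent.Lib.Helper5.Fi22Out
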