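import Cfsg.Agent.Lib.Helper5.Fi22Out1
import Cfsg.Agent.Lib.Helper5.Fi22Out2
import Cfsg.Agent.Lib.Helper5.Fi22Out3
import Cfsg.Agent.Lib.Helper5.Srch3

set_option autoImplicit false
set_option maxRecDepth 100000

/-! # The group `Fi22`: the model with more letters, and the two verified stabilizer chains -/

namespace Cfsg.Agent.Lib.Helper5.Fi22Out

open Cfsg.Spor Cfsg.Agent.Lib.Helper6.TC Cfsg.Agent.Lib.Helper6.PM Cfsg.Agent.Lib.Helper2.PMS
open Cfsg.Agent.Lib.Helper2.PMC Cfsg.Agent.Lib.Helper5.Chain Cfsg.Agent.Lib.Helper5.Srch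

set_option Elab.async false

theorem chk_old_0 : chkRange (chkOld fi22Model.px 3510 pm) 0 9 = true := by decide +kernel
theorem chk_old : chkRange (chkOld fi22Model.px 3510 pm) 0 9 = true :=
  chk_old_0

theorem chk_new_0 : chkRange (chkNew 3510 9 ds pm) 0 2 = true := by decide +kernel
theorem chk_new_1 : chkRange (chkNew 3510 9 ds pm) 2 1 = true := by decide +kernel
theorem chk_new_2 : chkRange (chkNew 3510 9 ds pm) 3 3 = true := by decide +kernel
theorem chk_new_3 : chkRange (chkNew 3510 9 ds pm) 6 2 = true := by decide +kernel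
theorem chk_new_4 : chkRange (chkNew 3510 9 ds pm) 8 3 = true := by decide +kernel
theorem chk_new_5 : chkRange (chkNew 3510 9 ds pm) 11 1 = true := by decide +kernel
theorem chk_new_6 : chkRange (chkNew 3510 9 ds pm) 12 1 = true := by decide +kernel
theorem chk_new_7 : chkRange (chkNew 3510 9 ds pm) 13 2 = true := by decide +kernel
theorem chk_new_8 : chkRange (chkNew 3510 9 ds pm) 15 1 = true := by decide +kernel
theorem chk_new_9 : chkRange (chkNew 3510 9 ds pm) 16 2 = true := by decide +kernel
theorem chk_new_10 : chkRange (chkNew 3510 9 ds pm) 18 1 = true := by decide +kernel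
theorem chk_new_11 : chkRange (chkNew 3510 9 ds pm) 19 2 = true := by decide +kernel
theorem chk_new_12 : chkRange (chkNew 3510 9 ds pm) 21 4 = true := by decide +kernel
theorem chk_new_13 : chkRange (chkNew 3510 9 ds pm) 25 1 = true := by decide +kernel
theorem chk_new_14 : chkRange (chkNew 3510 9 ds pm) 26 3 = true := by decide +kernel
theorem chk_new_15 : chkRange (chkNew 3510 9 ds pm) 29 8 = true := by decide +kernel
theorem chk_new_16 : chkRange (chkNew 3510 9 ds pm) 37 5 = true := by decide +kernel
theorem chk_new_17 : chkRange (chkNew 3510 9 ds pm) 42 3 = true := by decide +kernel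
theorem chk_new_18 : chkRange (chkNew 3510 9 ds pm) 45 3 = true := by decide +kernel
theorem chk_new_19 : chkRange (chkNew 3510 9 ds pm) 48 4 = true := by decide +kernel
theorem chk_new_20 : chkRange (chkNew 3510 9 ds pm) 52 4 = true := by decide +kernel
theorem chk_new_21 : chkRange (chkNew 3510 9 ds pm) 56 2 = true := by decide +kernel
theorem chk_new : chkRange (chkNew 3510 9 ds pm) 0 58 = true :=
  chkRange_append _ 2 0 56 chk_new_0 (chkRange_append _ 1 2 55 chk_new_1 (chkRange_append _ 3 3 52 chk_new_2 (chkRange_append _ 2 6 50 chk_new_3 (chkRange_append _ 3 8 47 chk_new_4 (chkRange_append _ 1 11 46 chk_new_5 (chkRange_append _ 1 12 45 chk_new_6 (chkRange_append _ 2 13 43 chk_new_7 (chkRange_append _ 1 15 42 chk_new_8 (chkRange_append _ 2 16 40 chk_new_9 (chkRange_append _ 1 18 39 chk_new_10 (chkRange_append _ 2 19 37 chk_new_11 (chkRange_append _ 4 21 33 chk_new_12 (chkRange_append _ 1 25 32 chk_new_13 (chkRange_append _ 3 26 29 chk_new_14 (chkRange_append _ 8 29 21 chk_new_15 (chkRange_append _ 5 37 16 chk_new_16 (chkRange_append _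 3 42 13 chk_new_17 (chkRange_append _ 3 45 10 chk_new_18 (chkRange_append _ 4 48 6 chk_new_19 (chkRange_append _ 4 52 2 chk_new_20 (chk_new_21)))))))))))))))))))))

theorem chk_slp : chkSLP fi22Model.px fi22Model.n fi22Model.nl ds pm = true :=
  chkSLP_of_pieces fi22Model.px 3510 9 ds pm chk_old chk_new

/-- the model with the new letters -/
noncomputable def M : PModel := slpModel fi22Model ds pm chk_slp

instance finite_G : Finite M.G := finite_Fi22

theorem card_G : Nat.card M.G = 64561751654400 := card_Fi22

theorem M_nl : M.nl = 67 := slpModel_nl fi22Model ds pm chk_slp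

theorem chk_inv_0 : chkRange (chkInv1 M iv) 0 35 = true := by decide +kernel
theorem chk_inv_1 : chkRange (chkInv1 M iv) 35 32 = true := by decide +kernel
theorem chk_inv : chkRange (chkInv1 M iv) 0 67 = true :=
  chkRange_append _ 35 0 32 chk_inv_0 (chk_inv_1)

theorem invMap : InvMap M iv := invMap_of_pieces M iv chk_inv

theorem chk_lvA : chkLevels M [] lvA = true := by decide +kernel

theorem factsA : ChainFacts M lvA where
  hchk := chk_lvA
  hcard := by
    rw [card_G]
    decide +kernel

theorem chk_msA : chkMasks lvA msA = true := by decide +kernel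

theorem chk_lvB : chkLevels M [] lvB = true := by decide +kernel

theorem factsB : ChainFacts M lvB where
  hchk := chk_lvB
  hcard := by
    rw [card_G]
    decide +kernel

theorem chk_msB : chkMasks lvB msB = true := by decide +kernel

end Cfsg.Agent.Lib.Helper5.Fi22Out
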