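import Cfsg.Agent.Lib.Helper2.RigidOut1

set_option autoImplicit false

/-! # Outer automorphism group of order two from a rigid triple of generators, general prime

`G` is generated by `p` (of prime order `ℓ`, generating a Sylow subgroup), `h` (of order `d`, acting
on `p` by the power `r`, of order `d` modulo `ℓ`) and `v`; the normalizer of `⟨p⟩` is `⟨p⟩⟨h⟩`; every
automorphism fixing `p` and `h` fixes `v`; the powers of `r` and their products with `s` cover the
nonzero residues; and some automorphism raises `p` to the power `s` (not a power of `r`) and fixes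
`h`. Then the outer automorphism group has order two. -/

namespace Cfsg.Agent.Lib.Helper5.Rigid

open Cfsg.Agent.Lib.Helper1 Cfsg.Agent.Lib.Helper2.RigidOut
open scoped Pointwise

variable {G : Type*} [Group G]

/-- Sylow: an automorphism maps `p` into a conjugate of `⟨p⟩` -/
theorem exists_conj_pow [Finite G] (ℓ : ℕ) [hℓ : Fact ℓ.Prime] (p : G) (m : ℕ)
    (hcard : Nat.card G = ℓ * m) (hm : ¬ ℓ ∣ m)
    (hp : orderOf p = ℓ) (α : MulAut G) : ∃ g : G, ∃ k < ℓ, g * α p * g⁻¹ = p ^ k := by
  have hm0 : m ≠ 0 := by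
    rintro rfl
    have := Nat.card_pos (α := G)
    omega
  have hfac : (Nat.card G).factorization ℓ = 1 := by
    rw [hcard, Nat.factorization_mul hℓ.out.ne_zero hm0]
    simp [Nat.Prime.factorization_self hℓ.out, Nat.factorization_eq_zero_of_not_dvd hm]
  set P : Subgroup G := Subgroup.zpowers p with hP
  have hPc : Nat.card P = ℓ := by rw [hP, Nat.card_zpowers, hp]
  set P' : Subgroup G := P.map α.toMonoidHom with hP'
  have hP'c : Nat.card P' = ℓ := by
    rw [hP', Subgroup.card_map_of_injective α.injective, hPc]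
  let S : Sylow ℓ G := Sylow.ofCard P (by rw [hPc, hfac, pow_one])
  let S' : Sylow ℓ G := Sylow.ofCard P' (by rw [hP'c, hfac, pow_one])
  obtain ⟨g, hg⟩ := MulAction.exists_smul_eq G S' S
  have h1 : (g • S' : Sylow ℓ G).toSubgroup = S.toSubgroup := by rw [hg]
  rw [Sylow.coe_subgroup_smul] at h1
  have h2 : g * α p * g⁻¹ ∈ P := by
    have h3 : g * α p * g⁻¹ ∈ MulAut.conj g • S'.toSubgroup := by
      rw [Subgroup.mem_pointwise_smul_iff_inv_smul_mem]
      have : (MulAut.conj g)⁻¹ • (g * α p * g⁻¹) = α p := by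
        rw [MulAut.smul_def, ← map_inv, MulAut.conj_apply]
        group
      rw [this]
      exact ⟨p, Subgroup.mem_zpowers p, rfl⟩
    rw [h1] at h3
    exact h3
  obtain ⟨j, hj, e⟩ := exists_pow_of_mem_zpowers' hp hℓ.out.pos h2
  exact ⟨g, j, hj, e⟩

theorem rigid_out [Finite G] (ℓ : ℕ) [hℓ : Fact ℓ.Prime] (r s d m : ℕ) (p h v : G)
    (hcard : Nat.card G = ℓ * m) (hm : ¬ ℓ ∣ m)
    (hp : orderOf p = ℓ) (hh : orderOf h = d) (hd : 1 < d)
    (hph : h⁻¹ * p * h = p ^ r)
    (hr : ∀ j : ℕ, r ^ j % ℓ = 1 → d ∣ j)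
    (hs : ∀ j : ℕ, r ^ j % ℓ ≠ s % ℓ)
    (hrs : ∀ k : ℕ, 0 < k → k < ℓ → ∃ j : ℕ, (r ^ j * k) % ℓ = 1 ∨ (s * (r ^ j * k)) % ℓ = 1)
    (hN : ∀ n : G, (∃ k : ℕ, n⁻¹ * p * n = p ^ k) → ∃ i j : ℕ, n = p ^ i * h ^ j)
    (hgen : Subgroup.closure ({p, h, v} : Set G) = ⊤)
    (hrig : ∀ α : MulAut G, α p = p → α h = h → α v = v)
    (β : MulAut G) (hβp : β p = p ^ s) (hβh : β h = h) :
    Nat.card (Cfsg.Out G) = 2 := by
  have hℓ2 : 2 ≤ ℓ := hℓ.out.two_le
  have h1ℓ : 1 % ℓ = 1 := Nat.mod_eq_of_lt hℓ2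
  have hp1 : p ≠ 1 := by
    intro h1
    rw [h1, orderOf_one] at hp
    omega
  have hpℓ : p ^ ℓ = 1 := by rw [← hp]; exact pow_orderOf_eq_one p
  have hpmod : ∀ a : ℕ, p ^ a = p ^ (a % ℓ) := by
    intro a
    rw [← hp, pow_mod_orderOf]
  have hpeq : ∀ a b : ℕ, p ^ a = p ^ b ↔ a % ℓ = b % ℓ := by
    intro a b
    rw [pow_eq_pow_iff_modEq, hp]
    rfl
  -- the shape of an element normalizing `p` to a given power
  have hshape : ∀ (n : G) (k : ℕ), n⁻¹ * p * n = p ^ k → ∃ i j : ℕ, n = p ^ i * h ^ j ∧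
      r ^ j % ℓ = k % ℓ := by
    intro n k hk
    obtain ⟨i, j, rfl⟩ := hN n ⟨k, hk⟩
    refine ⟨i, j, rfl, ?_⟩
    have e1 : (p ^ i * h ^ j)⁻¹ * p * (p ^ i * h ^ j) = (h ^ j)⁻¹ * p ^ 1 * h ^ j := by
      rw [mul_inv_rev, pow_one]
      have : (p ^ i)⁻¹ * p * p ^ i = p := by
        rw [mul_assoc, (Commute.self_pow p i).eq, ← mul_assoc, inv_mul_cancel, one_mul]
      calc (h ^ j)⁻¹ * (p ^ i)⁻¹ * p * (p ^ i * h ^ j)
          = (h ^ j)⁻¹ * ((p ^ i)⁻¹ * p * p ^ i) * h ^ j := by group
        _ = (h ^ j)⁻¹ * p * h ^ j := by rw [this]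
    rw [e1, conj_rel_pow_pow hph, mul_one] at hk
    exact (hpeq _ _).mp hk
  -- the other form of the conjugation relation
  have hph' : ∀ i : ℕ, p ^ i * h = h * p ^ (r * i) := by
    intro i
    have := conj_rel_pow hph i
    rw [← this]
    group
  have hr1 : r % ℓ ≠ 1 := by
    intro h1
    have := hr 1 (by rwa [pow_one])
    have := Nat.le_of_dvd (by norm_num) this
    omega
  -- `β` is not inner
  have hβ : β ∉ (MulAut.conj : G →* MulAut G).range := by
    rintro ⟨k, hk⟩
    have hkp : k * p * k⁻¹ = p ^ s := by rw [← MulAut.conj_apply, hk, hβp]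
    have e1 : (k⁻¹)⁻¹ * p * k⁻¹ = p ^ s := by rw [inv_inv]; exact hkp
    obtain ⟨i, j, _, hj⟩ := hshape k⁻¹ s e1
    exact hs j hj
  show Nat.card (MulAut G ⧸ Cfsg.Inn G) = 2
  rw [← Subgroup.index, Subgroup.index_eq_two_iff]
  have hInn : Cfsg.Inn G = (MulAut.conj : G →* MulAut G).range := rfl
  haveI : (Cfsg.Inn G).Normal := by rw [hInn]; infer_instance
  -- the automorphism is determined by the images of the generators
  have hdet : ∀ γ : MulAut G, γ p = p → γ h = h → γ = 1 := by
    intro γ h1 h2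
    have h3 := hrig γ h1 h2
    have : γ.toMonoidHom = (1 : MulAut G).toMonoidHom := by
      apply MonoidHom.eq_of_eqOn_dense hgen
      intro x hx
      rcases hx with rfl | rfl | rfl
      · exact h1
      · exact h2
      · exact h3
    ext x
    exact DFunLike.congr_fun this x
  -- the normalization of an automorphism
  have hnorm : ∀ α : MulAut G, α ∈ Cfsg.Inn G ∨ α * β ∈ Cfsg.Inn G := by
    intro α
    obtain ⟨g, k, hkℓ, hgk⟩ := exists_conj_pow ℓ p m hcard hm hp α
    have hk0 : 0 < k := by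
      rcases Nat.eq_zero_or_pos k with rfl | h0
      · exfalso
        rw [pow_zero] at hgk
        have : α p = 1 := by
          have : α p = g⁻¹ * (g * α p * g⁻¹) * g := by group
          rw [this, hgk]
          group
        exact hp1 (by simpa using this)
      · exact h0
    obtain ⟨j, hj⟩ := hrs k hk0 hkℓ
    -- the first normalization: `p` goes to `p ^ (r ^ j * k)`
    set α₁ : MulAut G := MulAut.conj ((h ^ j)⁻¹) * (MulAut.conj g * α) with hα₁
    have hα₁p : α₁ p = p ^ (r ^ j * k) := by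
      rw [hα₁, MulAut.mul_apply, MulAut.mul_apply, MulAut.conj_apply, MulAut.conj_apply, hgk, inv_inv,
        conj_rel_pow_pow hph]
    have hα₁inn : α₁ * α⁻¹ ∈ Cfsg.Inn G := by
      rw [hInn]
      refine ⟨(h ^ j)⁻¹ * g, ?_⟩
      rw [hα₁, map_mul]
      group
    -- the second normalization: `p` goes to `p`
    have key : ∀ α₂ : MulAut G, α₂ p = p → α₂ ∈ Cfsg.Inn G := by
      intro α₂ hα₂p
      have e1 : (α₂ h)⁻¹ * p * α₂ h = p ^ r := by
        have : α₂ (h⁻¹ * p * h) = α₂ (p ^ r) := by rw [hph]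
        rw [map_mul, map_mul, map_inv, map_pow, hα₂p] at this
        exact this
      obtain ⟨i, j', hij, hj'⟩ := hshape (α₂ h) r e1
      -- `h ^ j' = h`
      have hhj : h ^ j' = h := by
        rcases Nat.eq_zero_or_pos j' with rfl | hpos
        · exfalso
          rw [pow_zero, h1ℓ] at hj'
          exact hr1 hj'.symm
        · have e2 : r ^ (j' - 1) % ℓ = 1 := by
            have hcop : Nat.Coprime r ℓ := by
              rw [Nat.coprime_comm, Nat.Prime.coprime_iff_not_dvd hℓ.out]
              intro hdvd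
              have : r ^ j' % ℓ = 0 := by
                apply Nat.mod_eq_zero_of_dvd
                exact dvd_trans hdvd (dvd_pow_self r (by omega))
              rw [this] at hj'
              have : r % ℓ = 0 := Nat.mod_eq_zero_of_dvd hdvd
              rw [this] at hj'
              have e5 := (hpeq 0 r).mpr (by rw [Nat.zero_mod, this])
              rw [pow_zero] at e5
              rw [← e5] at hph
              have : p = 1 := by
                have : p = h * (h⁻¹ * p * h) * h⁻¹ := by group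
                rw [this, hph]
                group
              exact hp1 this
            have e3 : (r ^ (j' - 1) * r) % ℓ = (1 * r) % ℓ := by
              rw [← pow_succ, Nat.sub_add_cancel hpos, one_mul]
              exact hj'
            have e4 : r ^ (j' - 1) ≡ 1 [MOD ℓ] := Nat.ModEq.cancel_right_of_coprime
              (Nat.Coprime.symm hcop) e3
            have e5 : r ^ (j' - 1) % ℓ = 1 % ℓ := e4
            rwa [h1ℓ] at e5
          have hdj := hr (j' - 1) e2
          obtain ⟨t, ht⟩ := hdj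
          have : j' = d * t + 1 := by omega
          rw [this, pow_add, pow_mul, ← hh, pow_orderOf_eq_one, one_pow, one_mul, pow_one]
      rw [hhj] at hij
      -- solve `a * (r - 1) + r * i ≡ 0`
      have hsolve : ∃ a : ℕ, (r * (a + i)) % ℓ = a % ℓ := by
        -- work in `ZMod ℓ`
        have hne : ((r : ZMod ℓ) - 1) ≠ 0 := by
          intro h0
          have : (r : ZMod ℓ) = ((1 : ℕ) : ZMod ℓ) := by
            rw [Nat.cast_one]
            exact sub_eq_zero.mp h0
          rw [ZMod.natCast_eq_natCast_iff'] at this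
          rw [h1ℓ] at this
          exact hr1 this
        set a : ZMod ℓ := -((r : ZMod ℓ) * (i : ZMod ℓ)) * ((r : ZMod ℓ) - 1)⁻¹ with ha
        refine ⟨a.val, ?_⟩
        rw [← ZMod.natCast_eq_natCast_iff']
        push_cast
        rw [ZMod.natCast_zmod_val]
        have : a * ((r : ZMod ℓ) - 1) = -((r : ZMod ℓ) * (i : ZMod ℓ)) := by
          rw [ha, mul_assoc, inv_mul_cancel₀ hne, mul_one]
        linear_combination this
      obtain ⟨a, ha⟩ := hsolve
      set α₃ : MulAut G := MulAut.conj (p ^ a) * α₂ with hα₃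
      have hα₃p : α₃ p = p := by
        rw [hα₃, MulAut.mul_apply, MulAut.conj_apply, hα₂p, (Commute.pow_self p a).eq, mul_assoc,
          mul_inv_cancel, mul_one]
      have hα₃h : α₃ h = h := by
        rw [hα₃, MulAut.mul_apply, MulAut.conj_apply, hij]
        have e2 : p ^ a * (p ^ i * h) = p ^ (a + i) * h := by
          rw [← mul_assoc, ← pow_add]
        have e3 : p ^ (r * (a + i)) = p ^ a := by
          rw [hpeq, ha]
        rw [e2, hph' (a + i), e3, mul_inv_cancel_right]
      have h1 := hdet α₃ hα₃p hα₃h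
      rw [hInn]
      refine ⟨(p ^ a)⁻¹, ?_⟩
      rw [map_inv]
      rw [hα₃] at h1
      exact (eq_inv_of_mul_eq_one_right h1).symm
    rcases hj with hj | hj
    · left
      have hα₁p' : α₁ p = p := by
        rw [hα₁p, hpmod, hj, pow_one]
      have h2 := key α₁ hα₁p'
      have h3 := (Cfsg.Inn G).mul_mem ((Cfsg.Inn G).inv_mem hα₁inn) h2
      rwa [mul_inv_rev, inv_inv, mul_assoc, inv_mul_cancel, mul_one] at h3
    · right
      have hβα₁ : (β * α₁) p = p := by
        rw [MulAut.mul_apply, hα₁p, map_pow, hβp, ← pow_mul, hpmod, hj, pow_one]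
      have h2 := key (β * α₁) hβα₁
      -- `β * α₁ ∈ Inn`, `α₁ * α⁻¹ ∈ Inn`
      have h3 : β * α ∈ Cfsg.Inn G := by
        have h6 : α⁻¹ * α₁ ∈ Cfsg.Inn G := by
          have := Subgroup.Normal.conj_mem (inferInstance : (Cfsg.Inn G).Normal) _ hα₁inn α⁻¹
          rwa [inv_inv, mul_assoc, inv_mul_cancel_right] at this
        have h4 : β * α = (β * α₁) * (α⁻¹ * α₁)⁻¹ := by group
        rw [h4]
        exact (Cfsg.Inn G).mul_mem h2 ((Cfsg.Inn G).inv_mem h6)
      have h5 : α * β = α * (β * α) * α⁻¹ := by group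
      rw [h5]
      exact Subgroup.Normal.conj_mem inferInstance _ h3 α
  refine ⟨β, fun b => ?_⟩
  rcases hnorm b with hb | hb
  · refine Or.inr ⟨hb, fun h2 => hβ ?_⟩
    have := (Cfsg.Inn G).mul_mem ((Cfsg.Inn G).inv_mem hb) h2
    rwa [inv_mul_cancel_left] at this
  · by_cases hb' : b ∈ Cfsg.Inn G
    · exfalso
      apply hβ
      have := (Cfsg.Inn G).mul_mem ((Cfsg.Inn G).inv_mem hb') hb
      rwa [inv_mul_cancel_left] at this
    · exact Or.inl ⟨hb, hb'⟩

end Cfsg.Agent.Lib.Helper5.Rigid
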