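import Cfsg.Agent.Lib.Helper5.Fi22Out7
import Cfsg.Agent.Lib.Helper5.Rigid1

set_option autoImplicit false
set_option maxRecDepth 100000

/-! # The group `Fi22`: the diagram automorphism, and the order of the outer automorphism group -/

namespace Cfsg.Agent.Lib.Helper5.Fi22Out

open Cfsg.Spor Cfsg.Agent.Lib.Helper6.TC Cfsg.Agent.Lib.Helper6.PM Cfsg.Agent.Lib.Helper2.PMS
open Cfsg.Agent.Lib.Helper2.PMC Cfsg.Agent.Lib.Helper5.Chain Cfsg.Agent.Lib.Helper2.RigidOut
open Cfsg.Agent.Lib.Helper6.TCP.Fi22

set_option Elab.async false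

/-- the symmetry of the diagram exchanging the two long arms -/
def sw : Fi22.Gen → Fi22.Gen
  | .a => .g | .b => .f | .c => .e | .d => .d | .e => .c | .f => .b | .g => .a | .h => .h
  | .i => .i

theorem sw_sw (x : Fi22.Gen) : sw (sw x) = x := by cases x <;> rfl

theorem label_sw (x y : Fi22.Gen) :
    coxLabel Fi22.edges (sw x) (sw y) = coxLabel Fi22.edges x y := by
  cases x <;> cases y <;> rfl

/-- the symmetry on the letters -/
def swc (c : ℕ) : ℕ := col (sw (gen c))

theorem gen_col (x : Fi22.Gen) : gen (col x) = x := by cases x <;> rfl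

theorem gen_swc (c : ℕ) : gen (swc c) = sw (gen c) := gen_col _

theorem swc_lt (c : ℕ) : swc c < 9 := col_lt _

theorem elt_nil' : elt [] = 1 := by
  unfold elt
  rw [wordElt_nil, map_one]

theorem elt_cons' (c : ℕ) (w : List ℕ) : elt (c :: w) = PresentedGroup.of (gen c) * elt w := by
  unfold elt
  rw [wordElt_cons, map_mul, ceOf_gc]
  rfl

/-- the images of the generators -/
noncomputable def sf (x : Fi22.Gen) : Fi22 := PresentedGroup.of (sw x)

theorem lift_sf_word (w : List ℕ) :
    FreeGroup.lift sf (wordElt gc w) = elt (w.map swc) := by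
  induction w with
  | nil =>
    rw [wordElt_nil, map_one, List.map_nil, elt_nil']
  | cons c w ih =>
    rw [wordElt_cons, map_mul, ih, List.map_cons, elt_cons', gen_swc, ceOf_gc,
      FreeGroup.lift_apply_of]
    rfl

theorem lt_map_swc (w : List ℕ) : ∀ c ∈ w.map swc, c < 9 := by
  intro c hc
  rw [List.mem_map] at hc
  obtain ⟨c', _, rfl⟩ := hc
  exact swc_lt c'

/-- the elements of the words in the old letters -/
theorem M_elt_old (w : List ℕ) (hw : ∀ c ∈ w, c < 9) : M.elt w = elt w :=
  slpModel_elt_old_word fi22Model ds pm chk_slp w hw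

theorem elt_eq_one_of_chk (w : List ℕ) (hw : ∀ c ∈ w, c < 9)
    (h : chkBaseL M lvA w [] = true) : elt w = 1 := by
  rw [← M_elt_old w hw]
  have := factsA.elt_eq_of_chk _ _ h
  rw [M.elt_nil] at this
  exact this

theorem chk_x1 : chkBaseL M lvA ((rep 10 u1).map swc) [] = true := by decide +kernel
theorem chk_x2 : chkBaseL M lvA ((rep 9 u2).map swc) [] = true := by decide +kernel
theorem chk_x3 : chkBaseL M lvA ((rep 9 u3).map swc) [] = true := by decide +kernel

theorem wordElt_rep (k : ℕ) (w : List ℕ) : wordElt gc (rep k w) = wordElt gc w ^ k := by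
  induction k with
  | zero => rw [rep_zero, wordElt_nil, pow_zero]
  | succ k ih => rw [rep_succ, wordElt_append, ih, pow_succ']

theorem wordElt_u1 : wordElt gc u1 =
    Fi22.d * Fi22.c * Fi22.b * Fi22.d * Fi22.e * Fi22.f * Fi22.d * Fi22.h * Fi22.i := by
  simp only [u1, wordElt_cons, wordElt_nil, mul_one, mul_assoc]
  rfl

theorem wordElt_u2 : wordElt gc u2 =
    Fi22.a * Fi22.b * Fi22.c * Fi22.d * Fi22.e * Fi22.f * Fi22.h := by
  simp only [u2, wordElt_cons, wordElt_nil, mul_one, mul_assoc]
  rfl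

theorem wordElt_u3 : wordElt gc u3 =
    Fi22.b * Fi22.c * Fi22.d * Fi22.e * Fi22.f * Fi22.g * Fi22.h := by
  simp only [u3, wordElt_cons, wordElt_nil, mul_one, mul_assoc]
  rfl

theorem sf_rel : ∀ r ∈ Rels, FreeGroup.lift sf r = 1 := by
  intro r hr
  rcases hr with ⟨x, _, y, _, rfl⟩ | hr
  · rw [map_pow, map_mul, FreeGroup.lift_apply_of, FreeGroup.lift_apply_of, ← label_sw]
    have := cox_rel (sw x) (sw y)
    rw [map_pow, map_mul] at this
    exact this
  · have hr' : r ∈ Fi22.extra := hr
    simp only [Fi22.extra, List.mem_cons, List.not_mem_nil, or_false] at hr'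
    rcases hr' with rfl | rfl | rfl
    · rw [← wordElt_u1, ← wordElt_rep, lift_sf_word]
      exact elt_eq_one_of_chk _ (lt_map_swc _) chk_x1
    · rw [← wordElt_u2, ← wordElt_rep, lift_sf_word]
      exact elt_eq_one_of_chk _ (lt_map_swc _) chk_x2
    · rw [← wordElt_u3, ← wordElt_rep, lift_sf_word]
      exact elt_eq_one_of_chk _ (lt_map_swc _) chk_x3

/-- the endomorphism given by the symmetry of the diagram -/
noncomputable def sigmaHom : Fi22 →* Fi22 := PresentedGroup.toGroup sf_rel

theorem sigmaHom_of (x : Fi22.Gen) : sigmaHom (PresentedGroup.of x) = PresentedGroup.of (sw x) :=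
  PresentedGroup.toGroup.of sf_rel

theorem sigmaHom_sigmaHom (g : Fi22) : sigmaHom (sigmaHom g) = g := by
  have h : sigmaHom.comp sigmaHom = MonoidHom.id Fi22 := by
    apply PresentedGroup.ext
    intro x
    rw [MonoidHom.comp_apply, sigmaHom_of, sigmaHom_of, sw_sw]
    rfl
  exact DFunLike.congr_fun h g

/-- the automorphism given by the symmetry of the diagram -/
noncomputable def sigma : MulAut M.G where
  toFun := sigmaHom
  invFun := sigmaHom
  left_inv := sigmaHom_sigmaHom
  right_inv := sigmaHom_sigmaHom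
  map_mul' := sigmaHom.map_mul

theorem sigmaHom_elt (w : List ℕ) : sigmaHom (elt w) = elt (w.map swc) := by
  induction w with
  | nil => rw [elt_nil', map_one, List.map_nil, elt_nil']
  | cons c w ih =>
    rw [elt_cons', map_mul, ih, List.map_cons, elt_cons', sigmaHom_of, gen_swc]

/-- the action of the symmetry on an element given by a word in the old letters -/
theorem sigma_old (w wo : List ℕ) (hwo : ∀ c ∈ wo, c < 9)
    (h : chkBaseL M lvA w wo = true) : sigma (M.elt w) = M.elt (wo.map swc) := by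
  have e1 : M.elt w = M.elt wo := factsA.elt_eq_of_chk _ _ h
  have e2 : M.elt wo = elt wo := M_elt_old wo hwo
  have e3 : M.elt (wo.map swc) = elt (wo.map swc) := M_elt_old _ (lt_map_swc wo)
  have e4 : sigmaHom (elt wo) = elt (wo.map swc) := sigmaHom_elt wo
  show sigmaHom (M.elt w) = M.elt (wo.map swc)
  exact (congrArg sigmaHom (e1.trans e2)).trans (e4.trans e3.symm)

/-- the outer automorphism -/
noncomputable def beta : MulAut M.G := MulAut.conj (M.elt wx) * sigma

theorem lt_wx : ∀ c ∈ wx, c < M.nl := by rw [M_nl]; decide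

theorem beta_elt (w wo : List ℕ) (hwo : ∀ c ∈ wo, c < 9)
    (h : chkBaseL M lvA w wo = true) :
    beta (M.elt w) = M.elt (wx ++ wo.map swc ++ invw iv wx) := by
  unfold beta
  rw [MulAut.mul_apply, MulAut.conj_apply, sigma_old w wo hwo h, M.elt_append, M.elt_append,
    elt_invw M iv invMap wx lt_wx]

theorem lt_wpOld : ∀ c ∈ wpOld, c < 9 := by decide
theorem lt_whOld : ∀ c ∈ whOld, c < 9 := by decide

theorem chk_wpOld : chkBaseL M lvA wp wpOld = true := by decide +kernel
theorem chk_whOld : chkBaseL M lvA wh whOld = true := by decide +kernel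

theorem chk_beta_p : chkBaseL M lvA (wx ++ wpOld.map swc ++ invw iv wx) (rep 2 wp) = true := by
  decide +kernel
theorem chk_beta_h : chkBaseL M lvA (wx ++ whOld.map swc ++ invw iv wx) wh = true := by
  decide +kernel

theorem beta_gp : beta gp = gp ^ 2 := by
  rw [gp_pow]
  unfold gp
  rw [beta_elt wp wpOld lt_wpOld chk_wpOld]
  exact factsA.elt_eq_of_chk _ _ chk_beta_p

theorem beta_gh : beta gh = gh := by
  unfold gh
  rw [beta_elt wh whOld lt_whOld chk_whOld]
  exact factsA.elt_eq_of_chk _ _ chk_beta_h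

theorem pow4_mod (j : ℕ) : 4 ^ j % 13 = 4 ^ (j % 6) % 13 := by
  conv_lhs => rw [← Nat.div_add_mod j 6]
  rw [pow_add, pow_mul, Nat.mul_mod, Nat.pow_mod]
  norm_num

theorem card_out_G : Nat.card (Cfsg.Out M.G) = 2 := by
  haveI : Fact (Nat.Prime 13) := ⟨by norm_num⟩
  refine Cfsg.Agent.Lib.Helper5.Rigid.rigid_out (G := M.G) 13 4 2 6 4966288588800 gp gh gv
    (by rw [card_G]) (by norm_num)
    orderOf_gp orderOf_gh (by norm_num) rel_ph ?_ ?_ ?_ normalizer_gp closure_gens rigid beta
    beta_gp beta_gh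
  · intro j hj
    rw [pow4_mod] at hj
    have h6 : j % 6 < 6 := Nat.mod_lt _ (by norm_num)
    have : j % 6 = 0 := by
      interval_cases (j % 6) <;> simp_all
    exact Nat.dvd_of_mod_eq_zero this
  · intro j hj
    rw [pow4_mod] at hj
    have h6 : j % 6 < 6 := Nat.mod_lt _ (by norm_num)
    interval_cases (j % 6) <;> simp_all
  · have h : ∀ k < 13, 0 < k → ∃ j < 6, (4 ^ j * k) % 13 = 1 ∨ (2 * (4 ^ j * k)) % 13 = 1 := by
      decide
    intro k hk0 hk
    obtain ⟨j, _, hj⟩ := h k hk hk0
    exact ⟨j, hj⟩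

/-- the outer automorphism group of the Fischer group `Fi22` has order two -/
theorem card_out_Fi22 : Nat.card (Cfsg.Out Cfsg.Spor.Fi22) = 2 := card_out_G

end Cfsg.Agent.Lib.Helper5.Fi22Out
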