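import Mathlib
import Cfsg.Prelude.Def_LinearParabolics
import Cfsg.Agent.Lib.Helper5.FlagCount
import Cfsg.Agent.Lib.Helper5.GLBruhat1
import Cfsg.Agent.Lib.Helper5.CompLabel

/-!
The order of a standard parabolic subgroup of `GL_n(F)`.
-/

namespace Cfsg.Agent.Lib.Helper5.FlagCount

open Module Finset
open Cfsg.Agent.Lib.Helper5.GLBruhat Cfsg.Agent.Lib.Helper5.CompLabel

variable {n : ℕ} {F : Type*} [Field F] [Fintype F]

/-- The coordinate subspace attached to column `j`. -/
def colSub (μ : Fin n → ℕ) (j : Fin n) : Submodule F (Fin n → F) :=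
  coordSub (univ.filter fun i => Cfsg.compLabel μ i ≤ Cfsg.compLabel μ j)

theorem colSub_mono (μ : Fin n → ℕ) : Monotone (colSub (F := F) μ) := by
  intro j j' hjj' v hv x hx
  apply hv
  intro hx'
  apply hx
  rw [mem_filter] at hx' ⊢
  exact ⟨hx'.1, hx'.2.trans (GLBruhat_compLabel_mono μ hjj')⟩
where
  GLBruhat_compLabel_mono (μ : Fin n → ℕ) {i j : Fin n} (h : i ≤ j) :
      Cfsg.compLabel μ i ≤ Cfsg.compLabel μ j := by
    unfold Cfsg.compLabel
    apply Finset.card_le_card
    intro k hk
    rw [Finset.mem_filter] at hk ⊢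
    exact ⟨hk.1, hk.2.trans h⟩

theorem mem_parabolicGL_iff (μ : Fin n → ℕ) (g : GL (Fin n) F) :
    g ∈ Cfsg.parabolicGL n F μ ↔
      ∀ j, ((Matrix.equiv_GL_linearindependent n g).1 j) ∈ colSub (F := F) μ j := by
  constructor
  · intro hg j x hx
    rw [mem_filter, not_and, not_le] at hx
    exact hg (hx (mem_univ _))
  · intro h i j hij
    apply h j i
    rw [mem_filter, not_and, not_le]
    exact fun _ => hij

/-- The parabolic subgroup as a set of constrained linearly independent tuples. -/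
noncomputable def parabolicEquiv (μ : Fin n → ℕ) :
    ↥(Cfsg.parabolicGL n F μ) ≃
      {s : Fin n → (Fin n → F) // LinearIndependent F s ∧ ∀ j, s j ∈ colSub (F := F) μ j} :=
  ((Matrix.equiv_GL_linearindependent n).subtypeEquiv (fun g => mem_parabolicGL_iff μ g)).trans
    (Equiv.subtypeSubtypeEquivSubtypeInter _ _)

theorem card_parabolicGL (μ : Fin n → ℕ) :
    Nat.card ↥(Cfsg.parabolicGL n F μ)
      = ∏ j : Fin n, (Fintype.card F ^ (univ.filter fun i =>
          Cfsg.compLabel μ i ≤ Cfsg.compLabel μ j).card - Fintype.card F ^ j.val) := by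
  rw [Nat.card_congr (parabolicEquiv μ), card_nested n _ (colSub_mono μ)]
  refine Finset.prod_congr rfl fun j _ => ?_
  unfold colSub
  rw [finrank_coordSub]

end Cfsg.Agent.Lib.Helper5.FlagCount
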