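import Mathlib
import Cfsg.Agent.Lib.Helper5.FlagCount2

/-!
The index of a standard parabolic subgroup of `GL_n(F)` as a q-multinomial coefficient.
-/

namespace Cfsg.Agent.Lib.Helper5.FlagCount

open Module Finset
open Cfsg.Agent.Lib.Helper5.GLBruhat Cfsg.Agent.Lib.Helper5.CompLabel

/-- The q-integer `1 + q + ⋯ + q^(m-1)`. -/
def gs (q m : ℕ) : ℕ := ∑ l ∈ range m, q ^ l

theorem gs_spec (q m : ℕ) (hq : 1 ≤ q) : gs q m * (q - 1) + 1 = q ^ m := by
  have := geom_sum_mul_add (q - 1) m
  rw [Nat.sub_add_cancel hq] at this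
  exact this

theorem pow_sub_pow (q m j : ℕ) (hq : 1 ≤ q) (hj : j ≤ m) :
    q ^ m - q ^ j = q ^ j * (q - 1) * gs q (m - j) := by
  have h1 : q ^ m = q ^ j * q ^ (m - j) := by rw [← pow_add, Nat.add_sub_cancel' hj]
  rw [h1, ← gs_spec q (m - j) hq]
  have : q ^ j * (gs q (m - j) * (q - 1) + 1) = q ^ j * (q - 1) * gs q (m - j) + q ^ j := by ring
  rw [this, Nat.add_sub_cancel]

variable {n : ℕ}

theorem card_filter_le (μ : Fin n → ℕ) (hμ : ∑ k, μ k = n) (i : Fin n) :
    (univ.filter fun x : Fin n => Cfsg.compLabel μ x ≤ i.val).card = psum μ i := by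
  have hlab : ∀ x : Fin n, Cfsg.compLabel μ x < n := compLabel_lt μ hμ
  rw [Finset.card_eq_sum_card_fiberwise (f := fun x => (⟨Cfsg.compLabel μ x, hlab x⟩ : Fin n))
    (t := univ.filter fun k : Fin n => k ≤ i)]
  · unfold psum
    refine Finset.sum_congr rfl fun k hk => ?_
    rw [mem_filter] at hk
    rw [← card_filter_compLabel μ hμ k, Finset.filter_filter]
    congr 1
    ext x
    simp only [mem_filter, mem_univ, true_and, Fin.ext_iff]
    constructor
    · rintro ⟨_, h⟩; exact h
    · intro h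
      refine ⟨?_, h⟩
      rw [h]
      exact hk.2
  · intro x hx
    rw [Finset.mem_coe, mem_filter] at hx
    rw [Finset.mem_coe, mem_filter]
    exact ⟨mem_univ _, hx.2⟩

theorem prod_block (μ : Fin n → ℕ) (hμ : ∑ k, μ k = n) (q : ℕ) (i : Fin n) :
    ∏ j ∈ univ.filter (fun j : Fin n => Cfsg.compLabel μ j = i.val),
        gs q ((univ.filter fun x : Fin n => Cfsg.compLabel μ x ≤ Cfsg.compLabel μ j).card - j.val)
      = ∏ t ∈ range (μ i), gs q (t + 1) := by
  have hps : psum μ i ≤ n := (psum_le_total μ i).trans hμ.le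
  refine Finset.prod_bij' (fun j _ => psum μ i - 1 - j.val)
    (fun t ht => (⟨psum μ i - 1 - t, by
      have := mem_range.mp ht
      have h2 := psum_eq μ i
      omega⟩ : Fin n)) ?_ ?_ ?_ ?_ ?_
  · intro j hj
    rw [mem_filter] at hj
    have := (compLabel_eq_iff μ hμ j i).mp hj.2
    have h2 := psum_eq μ i
    rw [mem_range]
    omega
  · intro t ht
    have h1 := mem_range.mp ht
    have h2 := psum_eq μ i
    rw [mem_filter]
    refine ⟨mem_univ _, ?_⟩
    rw [compLabel_eq_iff μ hμ]
    constructor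
    · show psum' μ i ≤ psum μ i - 1 - t
      omega
    · show psum μ i - 1 - t < psum μ i
      omega
  · intro j hj
    rw [mem_filter] at hj
    have := (compLabel_eq_iff μ hμ j i).mp hj.2
    apply Fin.ext
    show psum μ i - 1 - (psum μ i - 1 - j.val) = j.val
    omega
  · intro t ht
    have h1 := mem_range.mp ht
    have h2 := psum_eq μ i
    show psum μ i - 1 - (psum μ i - 1 - t) = t
    omega
  · intro j hj
    rw [mem_filter] at hj
    have h3 := (compLabel_eq_iff μ hμ j i).mp hj.2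
    rw [hj.2, card_filter_le μ hμ i]
    congr 1
    omega

variable {F : Type*} [Field F] [Fintype F]

/-- The index of a standard parabolic subgroup. -/
theorem index_parabolicGL (μ : Fin n → ℕ) (hμ : ∑ k, μ k = n) :
    (Cfsg.parabolicGL n F μ).index * ∏ i : Fin n, ∏ t ∈ range (μ i), gs (Fintype.card F) (t + 1)
      = ∏ j ∈ range n, gs (Fintype.card F) (j + 1) := by
  set q := Fintype.card F with hqdef
  have hq : 1 ≤ q := Fintype.card_pos
  have hq2 : 1 < q := Fintype.one_lt_card
  have hlab : ∀ x : Fin n, Cfsg.compLabel μ x < n := compLabel_lt μ hμ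
  have hlag := Subgroup.index_mul_card (Cfsg.parabolicGL n F μ)
  rw [card_parabolicGL, Matrix.card_GL_field] at hlag
  have hc : ∀ j : Fin n, j.val ≤ (univ.filter fun x : Fin n =>
      Cfsg.compLabel μ x ≤ Cfsg.compLabel μ j).card := by
    intro j
    have h1 := card_filter_le μ hμ ⟨Cfsg.compLabel μ j, hlab j⟩
    have h2 := (compLabel_eq_iff μ hμ j ⟨Cfsg.compLabel μ j, hlab j⟩).mp rfl
    simp only at h1
    rw [h1]
    omega
  have e1 : ∏ j : Fin n, (q ^ (univ.filter fun x : Fin n =>
        Cfsg.compLabel μ x ≤ Cfsg.compLabel μ j).card - q ^ j.val)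
      = (∏ j : Fin n, q ^ j.val * (q - 1)) * ∏ j : Fin n, gs q ((univ.filter fun x : Fin n =>
        Cfsg.compLabel μ x ≤ Cfsg.compLabel μ j).card - j.val) := by
    rw [← Finset.prod_mul_distrib]
    exact Finset.prod_congr rfl fun j _ => pow_sub_pow q _ _ hq (hc j)
  have e2 : ∏ j : Fin n, (q ^ n - q ^ j.val)
      = (∏ j : Fin n, q ^ j.val * (q - 1)) * ∏ j : Fin n, gs q (n - j.val) := by
    rw [← Finset.prod_mul_distrib]
    exact Finset.prod_congr rfl fun j _ => pow_sub_pow q _ _ hq j.2.le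
  rw [e1, e2] at hlag
  have hA : 0 < ∏ j : Fin n, q ^ j.val * (q - 1) := by
    apply Finset.prod_pos
    intro j _
    have : 0 < q - 1 := by omega
    positivity
  have hlag' : (Cfsg.parabolicGL n F μ).index * ∏ j : Fin n, gs q ((univ.filter fun x : Fin n =>
        Cfsg.compLabel μ x ≤ Cfsg.compLabel μ j).card - j.val) = ∏ j : Fin n, gs q (n - j.val) := by
    apply Nat.eq_of_mul_eq_mul_left hA
    rw [← hlag]
    ring
  have e3 : ∏ j : Fin n, gs q ((univ.filter fun x : Fin n =>
        Cfsg.compLabel μ x ≤ Cfsg.compLabel μ j).card - j.val)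
      = ∏ i : Fin n, ∏ t ∈ range (μ i), gs q (t + 1) := by
    rw [← Finset.prod_fiberwise univ (fun j : Fin n => (⟨Cfsg.compLabel μ j, hlab j⟩ : Fin n))]
    refine Finset.prod_congr rfl fun i _ => ?_
    rw [← prod_block μ hμ q i]
    refine Finset.prod_congr ?_ fun j _ => rfl
    ext j
    simp only [mem_filter, mem_univ, true_and, Fin.ext_iff]
  have e4 : ∏ j : Fin n, gs q (n - j.val) = ∏ j ∈ range n, gs q (j + 1) := by
    rw [Fin.prod_univ_eq_prod_range (fun j => gs q (n - j)) n, ← Finset.prod_range_reflect]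
    refine Finset.prod_congr rfl fun j hj => ?_
    rw [mem_range] at hj
    congr 1
    omega
  rw [e3, e4] at hlag'
  exact hlag'

end Cfsg.Agent.Lib.Helper5.FlagCount
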