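import Mathlib
import Cfsg.Agent.Lib.Helper5.FlvDefs
import Cfsg.Agent.Lib.Helper5.FlvF
import Cfsg.Agent.Lib.Helper5.FlvM
import Cfsg.Agent.Lib.Helper5.FlvR1
import Cfsg.Agent.Lib.Lead.CoprimeAction3

/-!
# S3816, package NC1 = (N1),(N2): in the non-central case some `[h,P]` is a complement of `V`
-/

set_option autoImplicit false

namespace Cfsg.Agent.Lib.Helper5.FlvNC1

open scoped Pointwise commutatorElement
open Cfsg.Agent.Lib.Helper5.FlvDefs
open Cfsg.Agent.Lib.Helper5.FlvF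
open Cfsg.Agent.Lib.Helper5.FlvM
open Cfsg.Agent.Lib.Helper5.FlvR1
open Cfsg.Agent.Lib.Helper4.FlvR2
open Cfsg.Agent.Lib.Lead

universe u

section
variable {G : Type u} [Group G] [Finite G] {p : ℕ} {P H V : Subgroup G}

theorem le_normalizer_sup' {A U M : Subgroup G} (hU : A ≤ Subgroup.normalizer (U : Set G))
    (hM : A ≤ Subgroup.normalizer (M : Set G)) :
    A ≤ Subgroup.normalizer ((U ⊔ M : Subgroup G) : Set G) := by
  intro a ha
  rw [mem_normalizer_iff_conj_smul, Subgroup.smul_sup,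
    (mem_normalizer_iff_conj_smul a U).mp (hU ha), (mem_normalizer_iff_conj_smul a M).mp (hM ha)]

/-- `[V,H] = V` in the non-central case -/
theorem comm_VH_eq (hc : Ctx p P H) (hV : MinNormal P H V)
    (hnc : ¬ H ≤ Subgroup.centralizer (V : Set G)) : ⁅V, H⁆ = V := by
  obtain ⟨hVH, hV1, hVn, hVmin⟩ := hV
  have hle : ⁅V, H⁆ ≤ V := commutator_le_left_of_le_normalizer V H hVn.1
  apply hVmin _ hle
  · intro hbot
    apply hnc
    rw [← Subgroup.commutator_eq_bot_iff_le_centralizer, Subgroup.commutator_comm]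
    exact hbot
  · refine ⟨fun g hg => ?_, fun g hg => ?_⟩
    · exact normalizer_inf_le_normalizer_commutator V H ⟨hVn.1 hg, Subgroup.le_normalizer hg⟩
    · exact normalizer_inf_le_normalizer_commutator V H ⟨hVn.2 hg, hc.norm hg⟩

/-- (N1) -/
theorem exists_sup_eq (h : MinCE p P H) (hV : MinNormal P H V)
    (hnc : ¬ H ≤ Subgroup.centralizer (V : Set G)) : ∃ g ∈ H, V ⊔ cmE P g = H := by
  by_contra hno
  push Not at hno
  obtain ⟨q, hq, hqp, hqV, hab, hexp⟩ := minNormal_elem h.ctx hV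
  have hVH : V ≤ H := hV.1
  have hVn := hV.2.2.1
  -- each `[V,[g,P]] ∩ C(P) ≤ K`
  have hpiece : ∀ g ∈ H, ⁅V, cmE P g⁆ ⊓ Subgroup.centralizer (P : Set G) ≤ KK P H := by
    intro g hg
    set B := cmE P g with hB
    set H₁ : Subgroup G := V ⊔ B with hH₁
    have hBH : B ≤ H := cmE_le h.ctx.norm hg
    have h1 : H₁ ≤ H := sup_le hVH hBH
    have hPn : P ≤ Subgroup.normalizer (H₁ : Set G) := le_normalizer_sup' hVn.2 (cmE_norm g)
    have hR := R1 h h1 (hno g hg) hPn
    set L : Subgroup G := ⁅H₁, P⁆ with hL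
    have hBL : B ≤ L := by
      have : ⁅B, P⁆ ≤ L := Subgroup.commutator_mono le_sup_right le_rfl
      rwa [cmE_comm h.ctx hg] at this
    have hVL : V ≤ Subgroup.normalizer (L : Set G) :=
      le_sup_left.trans (le_normalizer_commutator_left H₁ P)
    have h2 : ⁅V, B⁆ ≤ L := by
      calc ⁅V, B⁆ ≤ ⁅V, L⁆ := Subgroup.commutator_mono le_rfl hBL
        _ = ⁅L, V⁆ := Subgroup.commutator_comm _ _
        _ ≤ L := commutator_le_left_of_le_normalizer L V hVL
    exact (inf_le_inf_right _ h2).trans hR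
  -- `V = ⁅V,H⁆ ≤ ⨆ ⁅V,[g,P]⁆`
  have hHsup : H = ⨆ g : H, cmE P (g : G) := by
    have h1 := R0 h
    rw [comm_eq_iSup] at h1
    rw [iSup_subtype'] at h1
    exact h1.symm
  have hVle : V ≤ ⨆ g : H, ⁅V, cmE P (g : G)⁆ := by
    have h1 := comm_VH_eq h.ctx hV hnc
    have h2 : ⁅V, ⨆ g : H, cmE P (g : G)⁆ ≤ ⨆ g : H, ⁅V, cmE P (g : G)⁆ :=
      comm_iSup_le hab (fun g : H => cmE P (g : G))
        (fun g => (cmE_le h.ctx.norm g.2).trans hVn.1)
    rw [← hHsup, h1] at h2
    exact h2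
  have hWV : ∀ g : H, ⁅V, cmE P (g : G)⁆ ≤ V := fun g =>
    commutator_le_left_of_le_normalizer V _ ((cmE_le h.ctx.norm g.2).trans hVn.1)
  have hVeq : V = ⨆ g : H, ⁅V, cmE P (g : G)⁆ := le_antisymm hVle (iSup_le hWV)
  have hcopV : (Nat.card V).Coprime p :=
    Nat.Coprime.coprime_dvd_left (Subgroup.card_dvd_of_le hVH) h.ctx.cop
  have hfix := fix_iSup_le h.ctx.hp h.ctx.cardP hab hcopV (fun g : H => ⁅V, cmE P (g : G)⁆) hWV
    (fun g => fun y hy => normalizer_inf_le_normalizer_commutator V (cmE P (g : G))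
      ⟨hVn.2 hy, cmE_norm (g : G) hy⟩)
  rw [← hVeq] at hfix
  apply R3 h hVH hV.2.1 hVn
  exact hfix.trans (iSup_le fun g => hpiece g g.2)

/-- (N2) if `V[g,P] = H` then `[g,P]` is a complement of `V` -/
theorem cmE_disj (h : MinCE p P H) (hV : MinNormal P H V) {g : G} (hg : g ∈ H)
    (hsup : V ⊔ cmE P g = H) : cmE P g ⊓ V = ⊥ := by
  obtain ⟨q, hq, hqp, hqV, hab, hexp⟩ := minNormal_elem h.ctx hV
  obtain ⟨hVH, hV1, hVn, hVmin⟩ := hV
  set A := cmE P g with hA
  have hAH : A ≤ H := cmE_le h.ctx.norm hg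
  have hPA : P ≤ Subgroup.normalizer (A : Set G) := cmE_norm g
  -- `A ⊓ V` is normalised by `H` and `P`
  have hAVn : NormBy P H (A ⊓ V) := by
    have hnA : ∀ a ∈ A, a ∈ Subgroup.normalizer ((A ⊓ V : Subgroup G) : Set G) := by
      intro a ha
      rw [Subgroup.mem_normalizer_iff]
      intro x
      have haV := hVn.1 (hAH ha)
      constructor
      · rintro ⟨h1, h2⟩
        exact ⟨A.mul_mem (A.mul_mem ha h1) (A.inv_mem ha),
          (Subgroup.mem_normalizer_iff.mp haV x).mp h2⟩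
      · rintro ⟨h1, h2⟩
        refine ⟨?_, (Subgroup.mem_normalizer_iff.mp haV x).mpr h2⟩
        have : x = a⁻¹ * (a * x * a⁻¹) * a := by group
        rw [this]
        exact A.mul_mem (A.mul_mem (A.inv_mem ha) h1) ha
    have hnV : ∀ v ∈ V, v ∈ Subgroup.normalizer ((A ⊓ V : Subgroup G) : Set G) := by
      intro v hv
      rw [Subgroup.mem_normalizer_iff]
      intro x
      constructor
      · rintro ⟨h1, h2⟩
        have : v * x * v⁻¹ = x := by rw [hab v hv x h2]; group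
        rw [this]; exact ⟨h1, h2⟩
      · rintro ⟨h1, h2⟩
        have hxV : x ∈ V := by
          have : x = v⁻¹ * (v * x * v⁻¹) * v := by group
          rw [this]
          exact V.mul_mem (V.mul_mem (V.inv_mem hv) h2) hv
        have : v * x * v⁻¹ = x := by rw [hab v hv x hxV]; group
        rw [this] at h1
        exact ⟨h1, hxV⟩
    refine ⟨?_, ?_⟩
    · rw [← hsup]
      exact sup_le hnV hnA
    · intro y hy
      rw [Subgroup.mem_normalizer_iff]
      intro x
      constructor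
      · rintro ⟨h1, h2⟩
        exact ⟨(Subgroup.mem_normalizer_iff.mp (hPA hy) x).mp h1,
          (Subgroup.mem_normalizer_iff.mp (hVn.2 hy) x).mp h2⟩
      · rintro ⟨h1, h2⟩
        exact ⟨(Subgroup.mem_normalizer_iff.mp (hPA hy) x).mpr h1,
          (Subgroup.mem_normalizer_iff.mp (hVn.2 hy) x).mpr h2⟩
  by_contra hne
  have h1 : A ⊓ V = V := hVmin _ inf_le_right hne hAVn
  have hVA : V ≤ A := by rw [← h1]; exact inf_le_left
  apply R3 h hVH hV1 hVn
  exact (inf_le_inf_right _ hVA).trans (cmE_inf_le_KK hg)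

/-- PKG-NC1 = (N1),(N2) -/
theorem NC1 (h : MinCE p P H) (hV : MinNormal P H V)
    (hnc : ¬ H ≤ Subgroup.centralizer (V : Set G)) : ∃ A, NCSplit P H V A := by
  obtain ⟨g, hg, hsup⟩ := exists_sup_eq h hV hnc
  have hdisj := cmE_disj h hV hg hsup
  obtain ⟨hVH, hV1, hVn, hVmin⟩ := hV
  set A := cmE P g with hA
  have hAH : A ≤ H := cmE_le h.ctx.norm hg
  have hPA : P ≤ Subgroup.normalizer (A : Set G) := cmE_norm g
  -- `g = v * a`
  have hgmem : g ∈ ((V ⊔ A : Subgroup G) : Set G) := by rw [hsup]; exact hg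
  rw [Subgroup.coe_mul_of_right_le_normalizer_left V A (hAH.trans hVn.1)] at hgmem
  obtain ⟨v, hv, a, ha, hva⟩ := hgmem
  have hva' : v * a = g := hva
  set B := cmE P a with hB
  have hBA : B ≤ A := cmE_le hPA ha
  have hBsup : B ⊔ V = H := by
    have h1 := (cmE_mul_sup hVn.2 hv (hVn.1 (hAH ha))).1
    rw [hva'] at h1
    rw [← h1, sup_comm]; exact hsup
  have hBV : B ⊓ V = ⊥ := eq_bot_iff.mpr ((inf_le_inf_right V hBA).trans hdisj.le)
  have hcB := card_sup_of_disjoint B V (hBA.trans (hAH.trans hVn.1)) hBV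
  have hcA := card_sup_of_disjoint A V (hAH.trans hVn.1) hdisj
  rw [hBsup] at hcB
  rw [sup_comm, hsup] at hcA
  have hcard : Nat.card A ≤ Nat.card B := by
    have h3 : Nat.card B * Nat.card V = Nat.card A * Nat.card V := by rw [← hcB, ← hcA]
    exact (Nat.eq_of_mul_eq_mul_right Nat.card_pos h3).ge
  have hBeq : B = A := Subgroup.eq_of_le_of_card_ge hBA hcard
  exact ⟨A, hAH, hPA, hdisj, hsup, a, ha, hBeq⟩

end

end Cfsg.Agent.Lib.Helper5.FlvNC1
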