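import Mathlib
import Cfsg.Agent.Lib.Helper5.FlvDefs
import Cfsg.Agent.Lib.Helper5.FlvF
import Cfsg.Agent.Lib.Helper5.FlvM
import Cfsg.Agent.Lib.Helper5.FlvR1
import Cfsg.Agent.Lib.Helper5.FlvNC1
import Cfsg.Agent.Lib.Lead.CoprimeAction3

/-!
# S3816, package C2c: a chief factor `M/Z₁` over `Z₁ = C_{Z(H)}(P)`, abelian of prime exponent
-/

set_option autoImplicit false

namespace Cfsg.Agent.Lib.Helper5.FlvC2c

open scoped Pointwise commutatorElement
open Cfsg.Agent.Lib.Helper5.FlvDefs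
open Cfsg.Agent.Lib.Helper5.FlvF
open Cfsg.Agent.Lib.Helper5.FlvM
open Cfsg.Agent.Lib.Helper5.FlvR1
open Cfsg.Agent.Lib.Helper5.FlvNC1
open Cfsg.Agent.Lib.Helper4.FlvR2
open Cfsg.Agent.Lib.Lead

universe u

section gen
variable {G : Type u} [Group G] {P H : Subgroup G}

theorem Z1_le (P H : Subgroup G) : Z1 P H ≤ H := inf_le_left.trans inf_le_left

theorem Z1_comm {z g : G} (hz : z ∈ Z1 P H) (hg : g ∈ H) : g * z = z * g :=
  Subgroup.mem_centralizer_iff.mp hz.1.2 g hg

theorem Z1_commP {z y : G} (hz : z ∈ Z1 P H) (hy : y ∈ P) : y * z = z * y :=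
  Subgroup.mem_centralizer_iff.mp hz.2 y hy

theorem Z1_normBy : NormBy P H (Z1 P H) := by
  constructor
  · apply le_normalizer_of_conj_mem
    intro b hb x hx
    have : b * x * b⁻¹ = x := by rw [Z1_comm hx hb]; group
    rw [this]; exact hx
  · apply le_normalizer_of_conj_mem
    intro b hb x hx
    have : b * x * b⁻¹ = x := by rw [Z1_commP hx hb]; group
    rw [this]; exact hx

/-- a perfect solvable subgroup is trivial -/
theorem eq_bot_of_commutator_eq_self {K : Subgroup G} (hs : Group.IsSolvable K)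
    (hK : ⁅K, K⁆ = K) : K = ⊥ := by
  by_contra hne
  haveI : Nontrivial K := (Subgroup.nontrivial_iff_ne_bot K).mpr hne
  have h2 : commutator K < ⊤ := IsSolvable.commutator_lt_top_of_nontrivial K
  apply h2.ne
  apply Subgroup.map_injective K.subtype_injective
  rw [commutator_def, Subgroup.map_commutator, ← MonoidHom.range_eq_map, Subgroup.range_subtype]
  exact hK

theorem comm_mul_central_left {a z b : G} (hzb : b * z = z * b) : ⁅a * z, b⁆ = ⁅a, b⁆ := by
  simp only [commutatorElement_def]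
  have : a * z * b * (a * z)⁻¹ * b⁻¹ = a * (z * b) * z⁻¹ * a⁻¹ * b⁻¹ := by group
  rw [this, ← hzb]; group

theorem comm_mul_central_right {a z b : G} (hza : a⁻¹ * z = z * a⁻¹) : ⁅a, b * z⁆ = ⁅a, b⁆ := by
  simp only [commutatorElement_def]
  have : a * (b * z) * a⁻¹ * (b * z)⁻¹ = a * b * (z * a⁻¹) * z⁻¹ * b⁻¹ := by group
  rw [this, ← hza]; group

end gen

section
variable {G : Type u} [Group G] [Finite G] {p : ℕ} {P H : Subgroup G} {z : G} {q : ℕ}

/-- PKG-C2c : a chief factor `M/Z₁` over `Z₁ = C_{Z(H)}(P)`; `M/Z₁` abelian of prime exponent -/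
theorem C2c (h : MinCE p P H) (hz : CData P H z q) : ∃ M s, CChief P H (Z1 P H) M s := by
  classical
  have _ := hz
  set Z : Subgroup G := Z1 P H with hZ
  have hZH : Z ≤ H := Z1_le P H
  have hZn : NormBy P H Z := Z1_normBy
  have hcent : ∀ z ∈ Z, ∀ g ∈ H, g * z = z * g := fun z hz g hg => Z1_comm hz hg
  have hZne : Z ≠ H := by
    intro heq
    apply H_ne_bot h
    have hHP : H ≤ Subgroup.centralizer (P : Set G) := by
      have : Z ≤ Subgroup.centralizer (P : Set G) := inf_le_right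
      rwa [heq] at this
    have h0 := R0 h
    rw [← h0, Subgroup.commutator_eq_bot_iff_le_centralizer]
    exact hHP
  -- a minimal `M > Z`
  let S : Set (Subgroup G) := {X | Z ≤ X ∧ X ≠ Z ∧ X ≤ H ∧ NormBy P H X}
  obtain ⟨M, hM, hmin⟩ := Set.exists_min_image S (fun X => Nat.card X) (Set.toFinite S)
    ⟨H, hZH, hZne.symm, le_rfl, ⟨Subgroup.le_normalizer, h.ctx.norm⟩⟩
  obtain ⟨hZM, hMne, hMH, hMn⟩ := hM
  have hchief : ∀ X : Subgroup G, Z ≤ X → X ≤ M → NormBy P H X → X = Z ∨ X = M := by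
    intro X hZX hXM hXn
    by_cases hXZ : X = Z
    · exact Or.inl hXZ
    · exact Or.inr (Subgroup.eq_of_le_of_card_ge hXM (hmin X ⟨hZX, hXZ, hXM.trans hMH, hXn⟩))
  -- `[M,M] ≤ Z`
  have hMM : ⁅M, M⁆ ≤ Z := by
    set M' : Subgroup G := ⁅M, M⁆ with hM'
    have hM'M : M' ≤ M := Subgroup.commutator_le_self M
    have hM'n : NormBy P H M' :=
      ⟨fun g hg => normalizer_inf_le_normalizer_commutator M M ⟨hMn.1 hg, hMn.1 hg⟩,
        fun g hg => normalizer_inf_le_normalizer_commutator M M ⟨hMn.2 hg, hMn.2 hg⟩⟩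
    have hXn : NormBy P H (M' ⊔ Z) :=
      ⟨le_normalizer_sup' hM'n.1 hZn.1, le_normalizer_sup' hM'n.2 hZn.2⟩
    rcases hchief (M' ⊔ Z) le_sup_right (sup_le hM'M hZM) hXn with h1 | h1
    · rw [← h1]; exact le_sup_left
    · exfalso
      have hle : ⁅M, M⁆ ≤ ⁅M', M'⁆ := by
        rw [Subgroup.commutator_le]
        intro a ha b hb
        have ha' : a ∈ ((M' ⊔ Z : Subgroup G) : Set G) := by rw [h1]; exact ha
        have hb' : b ∈ ((M' ⊔ Z : Subgroup G) : Set G) := by rw [h1]; exact hb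
        rw [Subgroup.coe_mul_of_right_le_normalizer_left M' Z (hZH.trans hM'n.1)] at ha' hb'
        obtain ⟨c, hc, z₁, hz₁, rfl⟩ := ha'
        obtain ⟨c', hc', z₂, hz₂, rfl⟩ := hb'
        have hcH : c ∈ H := hMH (hM'M hc)
        have hc'H : c' ∈ H := hMH (hM'M hc')
        show ⁅c * z₁, c' * z₂⁆ ∈ ⁅M', M'⁆
        rw [comm_mul_central_left (hcent z₁ hz₁ _ (H.mul_mem hc'H (hZH hz₂))),
          comm_mul_central_right (hcent z₂ hz₂ _ (H.inv_mem hcH))]
        exact Subgroup.commutator_mem_commutator hc hc'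
      have hperf : ⁅M', M'⁆ = M' := le_antisymm (Subgroup.commutator_le_self M') hle
      haveI : Group.IsSolvable H := h.ctx.solv
      have hsolv : Group.IsSolvable M' := isSolvable_of_le (hM'M.trans hMH)
      have hbot := eq_bot_of_commutator_eq_self hsolv hperf
      rw [hbot, bot_sup_eq] at h1
      exact hMne h1.symm
  -- an element outside `Z` of prime order modulo `Z`
  obtain ⟨m₀, hm₀M, hm₀Z⟩ : ∃ m ∈ M, m ∉ Z := by
    by_contra hno
    push Not at hno
    exact hMne (le_antisymm hno hZM)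
  have hex : ∃ n, 0 < n ∧ m₀ ^ n ∈ Z :=
    ⟨orderOf m₀, orderOf_pos m₀, by rw [pow_orderOf_eq_one]; exact Z.one_mem⟩
  set n : ℕ := Nat.find hex with hn
  have hn_spec : 0 < n ∧ m₀ ^ n ∈ Z := Nat.find_spec hex
  have hn_min : ∀ k, k < n → ¬ (0 < k ∧ m₀ ^ k ∈ Z) := fun k hk => Nat.find_min hex hk
  have hn1 : n ≠ 1 := by
    intro h1
    apply hm₀Z
    have := hn_spec.2
    rwa [h1, pow_one] at this
  set s : ℕ := n.minFac with hs_def
  have hs : s.Prime := Nat.minFac_prime hn1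
  have hsn : s ∣ n := Nat.minFac_dvd n
  set m₁ : G := m₀ ^ (n / s) with hm₁
  have hm₁M : m₁ ∈ M := M.pow_mem hm₀M _
  have hm₁s : m₁ ^ s ∈ Z := by
    rw [hm₁, ← pow_mul, Nat.div_mul_cancel hsn]; exact hn_spec.2
  have hm₁Z : m₁ ∉ Z := by
    intro hmem
    exact hn_min (n / s) (Nat.div_lt_self hn_spec.1 hs.one_lt)
      ⟨Nat.div_pos (Nat.le_of_dvd hn_spec.1 hsn) hs.pos, hmem⟩
  -- powers of products modulo `Z`
  have hpow : ∀ a ∈ M, ∀ b ∈ M, ∀ k : ℕ, ∃ z ∈ Z, (a * b) ^ k = a ^ k * b ^ k * z := by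
    intro a ha b hb k
    induction k with
    | zero => exact ⟨1, Z.one_mem, by simp⟩
    | succ k ih =>
      obtain ⟨z, hz, hk⟩ := ih
      set c : G := ⁅(b ^ k)⁻¹, a⁻¹⁆ with hc
      have hcZ : c ∈ Z := hMM (Subgroup.commutator_mem_commutator
        (M.inv_mem (M.pow_mem hb k)) (M.inv_mem ha))
      refine ⟨c * z, Z.mul_mem hcZ hz, ?_⟩
      have h1 : (a * b) * z = z * (a * b) := hcent z hz _ (hMH (M.mul_mem ha hb))
      have h2 : b * c = c * b := hcent c hcZ b (hMH hb)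
      have h3 : b ^ k * a = a * b ^ k * c := by rw [hc, commutatorElement_def]; group
      calc (a * b) ^ (k + 1) = (a * b) ^ k * (a * b) := pow_succ _ _
        _ = a ^ k * b ^ k * z * (a * b) := by rw [hk]
        _ = a ^ k * b ^ k * (z * (a * b)) := by group
        _ = a ^ k * b ^ k * ((a * b) * z) := by rw [h1]
        _ = a ^ k * (b ^ k * a) * b * z := by group
        _ = a ^ k * (a * b ^ k * c) * b * z := by rw [h3]
        _ = a ^ k * a * b ^ k * (c * b) * z := by group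
        _ = a ^ k * a * b ^ k * (b * c) * z := by rw [h2]
        _ = a ^ (k + 1) * b ^ (k + 1) * (c * z) := by rw [pow_succ, pow_succ]; group
  -- the subgroup of elements of order dividing `s` modulo `Z`
  let X : Subgroup G :=
    { carrier := {m | m ∈ M ∧ m ^ s ∈ Z}
      one_mem' := ⟨M.one_mem, by rw [one_pow]; exact Z.one_mem⟩
      mul_mem' := by
        rintro a b ⟨haM, ha⟩ ⟨hbM, hb⟩
        obtain ⟨z, hz, hk⟩ := hpow a haM b hbM s
        exact ⟨M.mul_mem haM hbM, by rw [hk]; exact Z.mul_mem (Z.mul_mem ha hb) hz⟩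
      inv_mem' := by
        rintro a ⟨haM, ha⟩
        exact ⟨M.inv_mem haM, by rw [inv_pow]; exact Z.inv_mem ha⟩ }
  have hXn : NormBy P H X := by
    have key : ∀ Q : Subgroup G, Q ≤ Subgroup.normalizer (M : Set G) →
        Q ≤ Subgroup.normalizer (Z : Set G) → Q ≤ Subgroup.normalizer (X : Set G) := by
      intro Q hQM hQZ
      apply le_normalizer_of_conj_mem
      rintro g hg x ⟨hxM, hxs⟩
      refine ⟨(Subgroup.mem_normalizer_iff.mp (hQM hg) x).mp hxM, ?_⟩
      rw [conj_pow]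
      exact (Subgroup.mem_normalizer_iff.mp (hQZ hg) _).mp hxs
    exact ⟨key H hMn.1 hZn.1, key P hMn.2 hZn.2⟩
  have hZX : Z ≤ X := fun z hz => ⟨hZM hz, Z.pow_mem hz s⟩
  have hXM : X ≤ M := fun x hx => hx.1
  have hexp : ∀ m ∈ M, m ^ s ∈ Z := by
    rcases hchief X hZX hXM hXn with h1 | h1
    · exfalso
      apply hm₁Z
      rw [← h1]
      exact ⟨hm₁M, hm₁s⟩
    · intro m hm
      have : m ∈ X := by rw [h1]; exact hm
      exact this.2
  exact ⟨M, s, ⟨hs, hZM, hMne, hMH, hMn, hchief, hMM, hexp⟩⟩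

end

end Cfsg.Agent.Lib.Helper5.FlvC2c
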