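import Mathlib
import Cfsg.Agent.Lib.Helper5.FlvDefs
import Cfsg.Agent.Lib.Helper5.FlvF
import Cfsg.Agent.Lib.Helper5.FlvM
import Cfsg.Agent.Lib.Helper5.FlvR1
import Cfsg.Agent.Lib.Helper5.FlvNC1
import Cfsg.Agent.Lib.Helper5.FlvC2c
import Cfsg.Agent.Lib.Lead.CoprimeAction3
import Cfsg.Agent.Lib.Lead.Coprime

/-!
# S3816, package C2iii = case (iii): `M₀ = Ω₁(M)` is elementary abelian, `M₀/⟨z⟩` chief, `[M₀,P] ≠ 1`
-/

set_option autoImplicit false

namespace Cfsg.Agent.Lib.Helper5.FlvC2iii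

open scoped Pointwise commutatorElement
open Cfsg.Agent.Lib.Helper5.FlvDefs
open Cfsg.Agent.Lib.Helper5.FlvF
open Cfsg.Agent.Lib.Helper5.FlvM
open Cfsg.Agent.Lib.Helper5.FlvR1
open Cfsg.Agent.Lib.Helper5.FlvNC1
open Cfsg.Agent.Lib.Helper5.FlvC2c
open Cfsg.Agent.Lib.Helper4.FlvR2
open Cfsg.Agent.Lib.Lead

universe u

section gen
variable {G : Type u} [Group G] {P H : Subgroup G}

/-- every subgroup of `Z₁` is normal in `HP` -/
theorem normBy_of_le_Z1 {T : Subgroup G} (hT : T ≤ Z1 P H) : NormBy P H T := by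
  constructor
  · apply le_normalizer_of_conj_mem
    intro b hb x hx
    have : b * x * b⁻¹ = x := by rw [Z1_comm (hT hx) hb]; group
    rw [this]; exact hx
  · apply le_normalizer_of_conj_mem
    intro b hb x hx
    have : b * x * b⁻¹ = x := by rw [Z1_commP (hT hx) hb]; group
    rw [this]; exact hx

theorem z_mem_Z1 {z : G} {q : ℕ} (hz : CData P H z q) : z ∈ Z1 P H :=
  ⟨⟨hz.zH, hz.zcentH⟩, hz.zP⟩

end gen

section
variable {G : Type u} [Group G] [Finite G] {p : ℕ} {P H M : Subgroup G} {z : G} {q : ℕ}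

/-- `Ω₁(Z₁) = ⟨z⟩` -/
theorem mem_zpowers_of_pow_eq_one (hz : CData P H z q) {x : G} (hx : x ∈ Z1 P H)
    (hxq : x ^ q = 1) : x ∈ Subgroup.zpowers z := by
  haveI : Fact q.Prime := ⟨hz.hq⟩
  by_cases hx1 : x = 1
  · rw [hx1]; exact Subgroup.one_mem _
  · set T : Subgroup G := Subgroup.zpowers x with hT
    have hTZ : T ≤ Z1 P H := Subgroup.zpowers_le.mpr hx
    have hTne : T ≠ ⊥ := Subgroup.zpowers_ne_bot.mpr hx1
    have hzT : z ∈ T := hz.zmin T (hTZ.trans (Z1_le P H)) hTne (normBy_of_le_Z1 hTZ)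
    have hle : Subgroup.zpowers z ≤ T := Subgroup.zpowers_le.mpr hzT
    have hcard : Nat.card T ≤ Nat.card (Subgroup.zpowers z) := by
      rw [hT, Nat.card_zpowers, Nat.card_zpowers, hz.zord, orderOf_eq_prime hxq hx1]
    have heq : Subgroup.zpowers z = T := Subgroup.eq_of_le_of_card_ge hle hcard
    rw [heq]
    exact Subgroup.mem_zpowers x

/-- PKG-C2iii = case (iii): `Ω₁(M)` -/
theorem C2iii (h : MinCE p P H) (hz : CData P H z q) (hM : CChief P H (Z1 P H) M q)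
    (hab : ∀ a ∈ M, ∀ b ∈ M, a * b = b * a) : ∃ M₀, CMData P H z q M₀ := by
  classical
  set Z : Subgroup G := Z1 P H with hZ
  have hzZ : z ∈ Z := z_mem_Z1 hz
  have hzM : z ∈ M := hM.ZM hzZ
  have hzq : z ^ q = 1 := by rw [← hz.zord]; exact pow_orderOf_eq_one z
  have hZH : Z ≤ H := Z1_le P H
  have hPM : P ≤ Subgroup.normalizer (M : Set G) := hM.nM.2
  haveI : IsMulCommutative M := ⟨⟨fun a b => Subtype.ext (hab a a.2 b b.2)⟩⟩
  have hcop : (Nat.card P).Coprime (Nat.card M) := ctx_coprime h.ctx hM.MH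
  obtain ⟨hdisj, hdec⟩ := coprime_abelian_decomp P M hPM hcop
  set L : Subgroup G := ⁅M, P⁆ with hL
  have hLM : L ≤ M := commutator_le_left_of_le_normalizer M P hPM
  -- `L ≠ 1`
  have hLne : L ≠ ⊥ := by
    intro hbot
    have hMP : M ≤ Subgroup.centralizer (P : Set G) :=
      Subgroup.commutator_eq_bot_iff_le_centralizer.mp hbot
    have hMH' : M ≤ Subgroup.centralizer (H : Set G) := three_sub hM.MH hM.nM hMP (R0 h)
    apply hM.ne
    apply le_antisymm _ hM.ZM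
    intro m hm
    exact ⟨⟨hM.MH hm, hMH' hm⟩, hMP hm⟩
  -- `L` has exponent `q`
  have hLexp : ∀ m ∈ L, m ^ q = 1 := by
    intro m hm
    have h1 : m ^ q ∈ Z := hM.exp m (hLM hm)
    have h2 : m ^ q ∈ (M ⊓ Subgroup.centralizer (P : Set G)) ⊓ L :=
      ⟨⟨M.pow_mem (hLM hm) q, h1.2⟩, L.pow_mem hm q⟩
    rw [hdisj, Subgroup.mem_bot] at h2
    exact h2
  -- `M₀ = Ω₁(M)`
  let M₀ : Subgroup G :=
    { carrier := {m | m ∈ M ∧ m ^ q = 1}
      one_mem' := ⟨M.one_mem, one_pow q⟩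
      mul_mem' := by
        rintro a b ⟨haM, ha⟩ ⟨hbM, hb⟩
        refine ⟨M.mul_mem haM hbM, ?_⟩
        have hc : Commute a b := hab a haM b hbM
        rw [hc.mul_pow, ha, hb, one_mul]
      inv_mem' := by
        rintro a ⟨haM, ha⟩
        exact ⟨M.inv_mem haM, by rw [inv_pow, ha, inv_one]⟩ }
  have hM₀M : M₀ ≤ M := fun x hx => hx.1
  have hM₀n : NormBy P H M₀ := by
    apply normBy_of_conj_invariant hM.nM
    rintro g hg x ⟨hxM, hxq⟩
    refine ⟨(Subgroup.mem_normalizer_iff.mp hg x).mp hxM, ?_⟩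
    rw [conj_pow, hxq]; group
  have hzM₀ : z ∈ M₀ := ⟨hzM, hzq⟩
  have hLM₀ : L ≤ M₀ := fun m hm => ⟨hLM hm, hLexp m hm⟩
  have hZM₀ : ∀ x ∈ M₀, x ∈ Z → x ∈ Subgroup.zpowers z := fun x hx hxZ =>
    mem_zpowers_of_pow_eq_one hz hxZ hx.2
  refine ⟨M₀, ⟨hM₀M.trans hM.MH, hM₀n, hzM₀, fun a ha b hb => hab a ha.1 b hb.1,
    fun m hm => hm.2, ?_, ?_⟩⟩
  · -- chief
    intro X hXM₀ hzX hXn
    have hXZn : NormBy P H (X ⊔ Z) :=
      ⟨le_normalizer_sup' hXn.1 Z1_normBy.1, le_normalizer_sup' hXn.2 Z1_normBy.2⟩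
    have hzpX : Subgroup.zpowers z ≤ X := Subgroup.zpowers_le.mpr hzX
    rcases hM.chief (X ⊔ Z) le_sup_right (sup_le (hXM₀.trans hM₀M) hM.ZM) hXZn with h1 | h1
    · left
      apply le_antisymm _ hzpX
      intro x hx
      have hxZ : x ∈ Z := by rw [← h1]; exact Subgroup.mem_sup_left hx
      exact hZM₀ x (hXM₀ hx) hxZ
    · right
      apply le_antisymm hXM₀
      intro m hm
      have hm' : m ∈ ((X ⊔ Z : Subgroup G) : Set G) := by rw [h1]; exact hm.1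
      rw [Subgroup.coe_mul_of_right_le_normalizer_left X Z (hZH.trans hXn.1)] at hm'
      obtain ⟨x, hx, z₁, hz₁, rfl⟩ := hm'
      have hz₁M₀ : z₁ ∈ M₀ := by
        have : z₁ = x⁻¹ * (x * z₁) := by group
        rw [this]; exact M₀.mul_mem (M₀.inv_mem (hXM₀ hx)) hm
      exact X.mul_mem hx (hzpX (hZM₀ z₁ hz₁M₀ hz₁))
  · -- `[M₀,P] ≠ 1`
    intro hM₀P
    apply hLne
    rw [eq_bot_iff]
    intro m hm
    have h2 : m ∈ (M ⊓ Subgroup.centralizer (P : Set G)) ⊓ L :=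
      ⟨⟨hLM hm, hM₀P (hLM₀ hm)⟩, hm⟩
    rw [hdisj] at h2
    exact h2

end

end Cfsg.Agent.Lib.Helper5.FlvC2iii
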