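import Mathlib
import Cfsg.Agent.Lib.Helper5.FlvDefs
import Cfsg.Agent.Lib.Helper5.FlvF
import Cfsg.Agent.Lib.Helper5.FlvM
import Cfsg.Agent.Lib.Helper5.FlvR1
import Cfsg.Agent.Lib.Helper5.FlvNC1
import Cfsg.Agent.Lib.Lead.CoprimeAction3
import Cfsg.Agent.Lib.Lead.CoprimeSylow4

/-!
# S3816, package NC2 = (N3'): `A` is an `r`-group (`r ≠ q`) with a unique maximal proper
`P`-invariant subgroup `B₁`, normal in `A`
-/

set_option autoImplicit false

namespace Cfsg.Agent.Lib.Helper5.FlvNC2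

open scoped Pointwise commutatorElement
open Cfsg.Agent.Lib.Helper5.FlvDefs
open Cfsg.Agent.Lib.Helper5.FlvF
open Cfsg.Agent.Lib.Helper5.FlvM
open Cfsg.Agent.Lib.Helper5.FlvR1
open Cfsg.Agent.Lib.Helper5.FlvNC1
open Cfsg.Agent.Lib.Helper4.FlvR2
open Cfsg.Agent.Lib.Lead

universe u

section
variable {G : Type u} [Group G] [Finite G] {p : ℕ} {P H V A : Subgroup G} {q : ℕ}

/-- `[A,P] = A` -/
theorem comm_A_eq (h : MinCE p P H) (hA : NCSplit P H V A) : ⁅A, P⁆ = A := by
  obtain ⟨a, ha, hgen⟩ := hA.gen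
  have := cmE_comm h.ctx (hA.AH ha)
  rw [hgen] at this
  exact this

/-- Dedekind: a subgroup `B ≤ A` with `V ⊔ B = H` is `A` -/
theorem eq_of_sup_eq (hV : MinNormal P H V) (hA : NCSplit P H V A) {B : Subgroup G} (hBA : B ≤ A)
    (hsup : V ⊔ B = H) : B = A := by
  apply le_antisymm hBA
  intro a ha
  have hmem : a ∈ ((V ⊔ B : Subgroup G) : Set G) := by rw [hsup]; exact hA.AH ha
  rw [Subgroup.coe_mul_of_right_le_normalizer_left V B
    (hBA.trans (hA.AH.trans hV.2.2.1.1))] at hmem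
  obtain ⟨v, hv, b, hb, hvb⟩ := hmem
  have hvb' : v * b = a := hvb
  have hvA : v ∈ A ⊓ V := by
    refine ⟨?_, hv⟩
    have : v = a * b⁻¹ := by rw [← hvb']; group
    rw [this]; exact A.mul_mem ha (A.inv_mem (hBA hb))
  rw [hA.disj, Subgroup.mem_bot] at hvA
  rw [← hvb', hvA, one_mul]; exact hb

/-- the `K`-containment for a proper `P`-invariant subgroup `B` of `A` -/
theorem piece_le (h : MinCE p P H) (hV : MinNormal P H V) (hA : NCSplit P H V A)
    {B : Subgroup G} (hBA : B ≤ A) (hne : B ≠ A) (hPB : P ≤ Subgroup.normalizer (B : Set G)) :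
    ⁅V, ⁅B, P⁆⁆ ⊓ Subgroup.centralizer (P : Set G) ≤ KK P H := by
  set H₁ : Subgroup G := V ⊔ B with hH₁
  have h1 : H₁ ≤ H := sup_le hV.1 (hBA.trans hA.AH)
  have hne1 : H₁ ≠ H := fun heq => hne (eq_of_sup_eq hV hA hBA heq)
  have hPn : P ≤ Subgroup.normalizer (H₁ : Set G) := le_normalizer_sup' hV.2.2.1.2 hPB
  have hR := R1 h h1 hne1 hPn
  set L : Subgroup G := ⁅H₁, P⁆ with hL
  have hBL : ⁅B, P⁆ ≤ L := Subgroup.commutator_mono le_sup_right le_rfl
  have hVL : V ≤ Subgroup.normalizer (L : Set G) :=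
    le_sup_left.trans (le_normalizer_commutator_left H₁ P)
  have h2 : ⁅V, ⁅B, P⁆⁆ ≤ L := by
    calc ⁅V, ⁅B, P⁆⁆ ≤ ⁅V, L⁆ := Subgroup.commutator_mono le_rfl hBL
      _ = ⁅L, V⁆ := Subgroup.commutator_comm _ _
      _ ≤ L := commutator_le_left_of_le_normalizer L V hVL
  exact (inf_le_inf_right _ h2).trans hR

/-- PKG-NC2 = (N3') -/
theorem NC2 (h : MinCE p P H) (hV : MinNormal P H V)
    (hnc : ¬ H ≤ Subgroup.centralizer (V : Set G)) (hA : NCSplit P H V A)
    (hqp : q.Prime) (hq : IsPGroup q V) : ∃ B₁ r, NCMax P A B₁ r ∧ r ≠ q := by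
  classical
  obtain ⟨q', hq', hq'p, hq'V, hab, hexp⟩ := minNormal_elem h.ctx hV
  have hVH : V ≤ H := hV.1
  have hVn := hV.2.2.1
  have hAH := hA.AH
  have hPA := hA.PA
  have hAA := comm_A_eq h hA
  have hcopA : (Nat.card P).Coprime (Nat.card A) := by
    rw [h.ctx.cardP]
    exact (Nat.Coprime.coprime_dvd_left (Subgroup.card_dvd_of_le hAH) h.ctx.cop).symm
  have hsolvP : Group.IsSolvable P := isSolvable_of_card_prime h.ctx.hp h.ctx.cardP
  have hA1 : A ≠ ⊥ := by
    intro hbot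
    apply hnc
    have hHV : H = V := by rw [← hA.sup, hbot, sup_bot_eq]
    rw [hHV]
    intro x hx
    rw [Subgroup.mem_centralizer_iff]
    intro y hy
    exact hab y hy x hx
  -- the family of proper `P`-invariant subgroups
  let 𝓑 : Set (Subgroup G) := {B | B ≤ A ∧ B ≠ A ∧ P ≤ Subgroup.normalizer (B : Set G)}
  have hbot𝓑 : (⊥ : Subgroup G) ∈ 𝓑 := by
    refine ⟨bot_le, fun hh => hA1 hh.symm, ?_⟩
    intro y _
    rw [Subgroup.mem_normalizer_iff]
    intro x
    simp [Subgroup.mem_bot]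
  set D : Subgroup G := ⨆ B : 𝓑, ⁅(B : Subgroup G), P⁆ with hD
  have hDA : D ≤ A := iSup_le fun B =>
    (commutator_le_left_of_le_normalizer (B : Subgroup G) P B.2.2.2).trans B.2.1
  have hDP : P ≤ Subgroup.normalizer (D : Set G) :=
    le_normalizer_iSup _ fun B => le_normalizer_commutator_right (B : Subgroup G) P B.2.2.2
  -- `[V,D] ∩ C(P) ≤ K`
  have hDK : ⁅V, D⁆ ⊓ Subgroup.centralizer (P : Set G) ≤ KK P H := by
    have h1 : ⁅V, D⁆ ≤ ⨆ B : 𝓑, ⁅V, ⁅(B : Subgroup G), P⁆⁆ :=
      comm_iSup_le hab (fun B : 𝓑 => ⁅(B : Subgroup G), P⁆) (fun B =>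
        (commutator_le_left_of_le_normalizer (B : Subgroup G) P B.2.2.2).trans
          (B.2.1.trans (hAH.trans hVn.1)))
    have hcopV : (Nat.card V).Coprime p :=
      Nat.Coprime.coprime_dvd_left (Subgroup.card_dvd_of_le hVH) h.ctx.cop
    have h2 := fix_iSup_le h.ctx.hp h.ctx.cardP hab hcopV
      (fun B : 𝓑 => ⁅V, ⁅(B : Subgroup G), P⁆⁆)
      (fun B => commutator_le_left_of_le_normalizer V _
        ((commutator_le_left_of_le_normalizer (B : Subgroup G) P B.2.2.2).trans
          (B.2.1.trans (hAH.trans hVn.1))))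
      (fun B => fun y hy => normalizer_inf_le_normalizer_commutator V _
        ⟨hVn.2 hy, le_normalizer_commutator_right (B : Subgroup G) P B.2.2.2 hy⟩)
    exact (inf_le_inf_right _ h1).trans (h2.trans
      (iSup_le fun B => piece_le h hV hA B.2.1 B.2.2.1 B.2.2.2))
  -- `D ≠ A`
  have hDne : D ≠ A := by
    intro hDeq
    rw [hDeq] at hDK
    have h1 : ⁅V, A⁆ = V := by
      apply le_antisymm (commutator_le_left_of_le_normalizer V A (hAH.trans hVn.1))
      have h2 := comm_VH_eq h.ctx hV hnc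
      have h3 : ⁅V, ⨆ b : Bool, cond b V A⁆ ≤ ⨆ b : Bool, ⁅V, cond b V A⁆ :=
        comm_iSup_le hab (fun b : Bool => cond b V A) (fun b => by
          cases b
          · exact hAH.trans hVn.1
          · exact hVH.trans hVn.1)
      have h4 : (⨆ b : Bool, cond b V A) = H := by
        rw [iSup_bool_eq]; exact hA.sup
      have h5 : (⨆ b : Bool, ⁅V, cond b V A⁆) = ⁅V, V⁆ ⊔ ⁅V, A⁆ := by
        rw [iSup_bool_eq]; rfl
      have h6 : ⁅V, V⁆ = ⊥ := by
        rw [Subgroup.commutator_eq_bot_iff_le_centralizer]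
        intro x hx
        rw [Subgroup.mem_centralizer_iff]
        intro y hy
        exact hab y hy x hx
      rw [h4, h5, h6, bot_sup_eq, h2] at h3
      exact h3
    rw [h1] at hDK
    exact R3 h hVH hV.2.1 hVn hDK
  -- `D` is normalised by `C_A(P)`
  have hDC : A ⊓ Subgroup.centralizer (P : Set G) ≤ Subgroup.normalizer (D : Set G) := by
    have key : ∀ c ∈ A ⊓ Subgroup.centralizer (P : Set G), ∀ x ∈ D, c * x * c⁻¹ ∈ D := by
      rintro c ⟨hcA, hcC⟩ x hx
      have hcP : MulAut.conj c • P = P := by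
        rw [← mem_normalizer_iff_conj_smul]
        rw [Subgroup.mem_normalizer_iff]
        intro y
        have hcy : ∀ z ∈ P, c * z * c⁻¹ = z := by
          intro z hz
          rw [← Subgroup.mem_centralizer_iff.mp hcC z hz]; group
        constructor
        · intro hy; rw [hcy y hy]; exact hy
        · intro hy
          have hz := Subgroup.mem_centralizer_iff.mp hcC _ hy
          have h2 : c * y = c * (c * y * c⁻¹) := by rw [← hz]; group
          rw [mul_left_cancel h2]; exact hy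
      have hle : D ≤ D.comap (MulAut.conj c).toMonoidHom := by
        apply iSup_le
        intro B y hy
        rw [Subgroup.mem_comap]
        show c * y * c⁻¹ ∈ D
        have hB' : MulAut.conj c • (B : Subgroup G) ∈ 𝓑 := by
          refine ⟨?_, ?_, ?_⟩
          · rintro z ⟨w, hw, rfl⟩
            exact A.mul_mem (A.mul_mem hcA (B.2.1 hw)) (A.inv_mem hcA)
          · intro heq
            apply B.2.2.1
            apply Subgroup.eq_of_le_of_card_ge B.2.1
            rw [← heq, card_conj_smul]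
          · intro y' hy'
            rw [conj_smul_mem_normalizer_iff]
            have : c⁻¹ * y' * c = y' := by
              rw [mul_assoc, Subgroup.mem_centralizer_iff.mp hcC y' hy']; group
            rw [this]; exact B.2.2.2 hy'
        have h1 : c * y * c⁻¹ ∈ MulAut.conj c • ⁅(B : Subgroup G), P⁆ := ⟨y, hy, rfl⟩
        rw [conj_smul_commutator, hcP] at h1
        exact (le_iSup (fun B : 𝓑 => ⁅(B : Subgroup G), P⁆) ⟨_, hB'⟩) h1
      exact hle hx
    intro c hc
    rw [Subgroup.mem_normalizer_iff]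
    intro x
    constructor
    · exact key c hc x
    · intro hx
      have := key c⁻¹ (Subgroup.inv_mem _ hc) _ hx
      simpa [mul_assoc] using this
  -- a maximal element of `𝓑`
  obtain ⟨B₁, hB₁, hmax⟩ := Set.exists_max_image 𝓑 (fun B => Nat.card B) (Set.toFinite 𝓑)
    ⟨⊥, hbot𝓑⟩
  have hdecomp : ∀ B ∈ 𝓑, B ≤ D ⊔ (A ⊓ Subgroup.centralizer (P : Set G)) := by
    intro B hB
    have hcopB : (Nat.card P).Coprime (Nat.card B) :=
      Nat.Coprime.coprime_dvd_right (Subgroup.card_dvd_of_le hB.1) hcopA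
    have h1 := coprime_commutator_sup_centralizer P B hB.2.2 hcopB (Or.inl hsolvP)
    rw [← h1]
    exact sup_le_sup (le_iSup (fun B : 𝓑 => ⁅(B : Subgroup G), P⁆) ⟨B, hB⟩)
      (inf_le_inf_right _ hB.1)
  have huniq : ∀ B₂ ∈ 𝓑, B₂ ≤ B₁ := by
    intro B₂ hB₂
    by_contra hnle
    have hsupA : B₁ ⊔ B₂ = A := by
      by_contra hneA
      have hmem : B₁ ⊔ B₂ ∈ 𝓑 :=
        ⟨sup_le hB₁.1 hB₂.1, hneA, le_normalizer_sup' hB₁.2.2 hB₂.2.2⟩
      have h1 := hmax _ hmem
      have h2 : B₁ ⊔ B₂ = B₁ := (Subgroup.eq_of_le_of_card_ge le_sup_left h1).symm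
      exact hnle (h2 ▸ le_sup_right)
    have hAle : A ≤ D ⊔ (A ⊓ Subgroup.centralizer (P : Set G)) := by
      calc A = B₁ ⊔ B₂ := hsupA.symm
        _ ≤ _ := sup_le (hdecomp B₁ hB₁) (hdecomp B₂ hB₂)
    apply hDne
    apply le_antisymm hDA
    rw [← hAA, Subgroup.commutator_le]
    intro g hg y hy
    have hg' : g ∈ ((D ⊔ (A ⊓ Subgroup.centralizer (P : Set G)) : Subgroup G) : Set G) := hAle hg
    rw [Subgroup.coe_mul_of_right_le_normalizer_left D _ hDC] at hg'
    obtain ⟨d, hd, c, hc, rfl⟩ := hg'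
    have hcy : c * y = y * c := (Subgroup.mem_centralizer_iff.mp hc.2 y hy).symm
    have h1 : ⁅d * c, y⁆ = ⁅d, y⁆ := by
      simp only [commutatorElement_def]
      have : d * c * y * (d * c)⁻¹ * y⁻¹ = d * (c * y) * c⁻¹ * d⁻¹ * y⁻¹ := by group
      rw [this, hcy]; group
    show ⁅d * c, y⁆ ∈ D
    rw [h1]
    exact (commutator_le_left_of_le_normalizer D P hDP) (Subgroup.commutator_mem_commutator hd hy)
  -- `A` has prime power order
  have hpp : ∃ r : ℕ, r.Prime ∧ IsPGroup r A := by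
    by_contra hno
    push Not at hno
    have hdvd : Nat.card A ∣ Nat.card B₁ := by
      rw [← Nat.factorization_le_iff_dvd Nat.card_pos.ne' Nat.card_pos.ne']
      intro s
      by_cases hs : s.Prime
      · haveI : Fact s.Prime := ⟨hs⟩
        obtain ⟨R, hR⟩ := coprime_invariant_sylow_exists P A hPA hcopA (Or.inl hsolvP) s
        set R' : Subgroup G := (R : Subgroup A).map A.subtype with hR'
        have hR'A : R' ≤ A := Subgroup.map_subtype_le _
        have hR'card : Nat.card R' = s ^ (Nat.card A).factorization s := by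
          rw [hR', card_map_subtype]; exact R.card_eq_multiplicity
        have hR'ne : R' ≠ A := by
          intro heq
          apply hno s hs
          rw [IsPGroup.iff_card]
          exact ⟨_, by rw [← heq]; exact hR'card⟩
        have hle : R' ≤ B₁ := huniq R' ⟨hR'A, hR'ne, hR⟩
        have h1 : s ^ (Nat.card A).factorization s ∣ Nat.card B₁ := by
          rw [← hR'card]; exact Subgroup.card_dvd_of_le hle
        exact (hs.pow_dvd_iff_le_factorization Nat.card_pos.ne').mp h1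
      · rw [Nat.factorization_eq_zero_of_not_prime _ hs]; exact Nat.zero_le _
    apply hB₁.2.1
    exact Subgroup.eq_of_le_of_card_ge hB₁.1 (Nat.le_of_dvd Nat.card_pos hdvd)
  obtain ⟨r, hr, hrA⟩ := hpp
  haveI : Fact r.Prime := ⟨hr⟩
  -- `B₁` is normal in `A`
  have hAB : A ≤ Subgroup.normalizer (B₁ : Set G) := by
    have hlt : B₁ < A := lt_of_le_of_ne hB₁.1 hB₁.2.1
    have h1 := pgroup_normalizer_grows r A B₁ hrA hlt
    set N : Subgroup G := A ⊓ Subgroup.normalizer (B₁ : Set G) with hN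
    have hNP : P ≤ Subgroup.normalizer (N : Set G) := by
      intro y hy
      rw [Subgroup.mem_normalizer_iff]
      intro x
      have hyB : MulAut.conj y • B₁ = B₁ := (mem_normalizer_iff_conj_smul y B₁).mp (hB₁.2.2 hy)
      have hiff : ∀ z : G, z ∈ Subgroup.normalizer (B₁ : Set G) ↔
          y * z * y⁻¹ ∈ Subgroup.normalizer (B₁ : Set G) := by
        intro z
        have h2 := conj_smul_mem_normalizer_iff y (y * z * y⁻¹) B₁
        rw [hyB] at h2
        rw [h2]
        have : y⁻¹ * (y * z * y⁻¹) * y = z := by group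
        rw [this]
      constructor
      · rintro ⟨hxA, hxN⟩
        exact ⟨(Subgroup.mem_normalizer_iff.mp (hPA hy) x).mp hxA, (hiff x).mp hxN⟩
      · rintro ⟨hxA, hxN⟩
        exact ⟨(Subgroup.mem_normalizer_iff.mp (hPA hy) x).mpr hxA, (hiff x).mpr hxN⟩
    by_contra hnot
    have hNne : N ≠ A := by
      intro heq
      apply hnot
      rw [← heq]; exact inf_le_right
    have h2 : N ≤ B₁ := huniq N ⟨inf_le_left, hNne, hNP⟩
    exact absurd h1 (not_lt_of_ge h2)
  refine ⟨B₁, r, ⟨hr, hrA, lt_of_le_of_ne hB₁.1 hB₁.2.1, hB₁.2.2, hAB, ?_⟩, ?_⟩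
  · intro B hBA hBne hPB
    exact huniq B ⟨hBA, hBne, hPB⟩
  · -- `r ≠ q`
    rintro rfl
    haveI : Fact r.Prime := ⟨hqp⟩
    have hcardH : Nat.card H = Nat.card A * Nat.card V := by
      have := card_sup_of_disjoint A V (hAH.trans hVn.1) hA.disj
      rw [sup_comm, hA.sup] at this
      exact this
    obtain ⟨a, ha⟩ := IsPGroup.iff_card.mp hrA
    obtain ⟨b, hb⟩ := IsPGroup.iff_card.mp hq
    have hHp : IsPGroup r H := by
      rw [IsPGroup.iff_card]
      exact ⟨a + b, by rw [hcardH, ha, hb, pow_add]⟩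
    haveI : Group.IsNilpotent H := hHp.isNilpotent
    have h1 := comm_VH_eq h.ctx hV hnc
    exact hV.2.1 (eq_bot_of_le_commutator_nilpotent H V hVH h1.ge)

end

end Cfsg.Agent.Lib.Helper5.FlvNC2
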