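import Mathlib
import Cfsg.Agent.Lib.Helper5.FlvDefs
import Cfsg.Agent.Lib.Helper5.FlvF
import Cfsg.Agent.Lib.Helper5.FlvM
import Cfsg.Agent.Lib.Helper5.FlvR1
import Cfsg.Agent.Lib.Helper5.FlvNC1
import Cfsg.Agent.Lib.Helper5.FlvNC2
import Cfsg.Agent.Lib.Lead.CoprimeAction3

/-!
# S3816, package NC3 = (N4),(N5): `V = V₀ V₀^a` for `a ∈ A ∖ B₁`
-/

set_option autoImplicit false

namespace Cfsg.Agent.Lib.Helper5.FlvNC3

open scoped Pointwise commutatorElement
open Cfsg.Agent.Lib.Helper5.FlvDefs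
open Cfsg.Agent.Lib.Helper5.FlvF
open Cfsg.Agent.Lib.Helper5.FlvM
open Cfsg.Agent.Lib.Helper5.FlvR1
open Cfsg.Agent.Lib.Helper5.FlvNC1
open Cfsg.Agent.Lib.Helper5.FlvNC2
open Cfsg.Agent.Lib.Helper4.FlvR2
open Cfsg.Agent.Lib.Lead

universe u

section
variable {G : Type u} [Group G] [Finite G] {p : ℕ} {P H V A B₁ : Subgroup G} {q r : ℕ}

/-- (N4) for `a ∈ A ∖ B₁`: `[a,P] = A` -/
theorem cmE_eq_of_not_mem (h : MinCE p P H) (hA : NCSplit P H V A) (hB : NCMax P A B₁ r)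
    {a : G} (ha : a ∈ A) (haB : a ∉ B₁) : cmE P a = A := by
  by_contra hne
  have hXA : cmE P a ≤ A := cmE_le hA.PA ha
  have hXB : cmE P a ≤ B₁ := hB.max _ hXA hne (cmE_norm a)
  -- the subgroup `S` of elements of `A` centralised by `P` modulo `B₁`
  let S : Subgroup G :=
    { carrier := {g | g ∈ A ∧ ∀ y ∈ P, ⁅g, y⁆ ∈ B₁}
      one_mem' := ⟨A.one_mem, fun y _ => by simp [commutatorElement_def, B₁.one_mem]⟩
      mul_mem' := by
        rintro g₁ g₂ ⟨h1A, h1⟩ ⟨h2A, h2⟩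
        refine ⟨A.mul_mem h1A h2A, fun y hy => ?_⟩
        have e : ⁅g₁ * g₂, y⁆ = g₁ * ⁅g₂, y⁆ * g₁⁻¹ * ⁅g₁, y⁆ := by
          simp only [commutatorElement_def]; group
        rw [e]
        exact B₁.mul_mem ((Subgroup.mem_normalizer_iff.mp (hB.AB h1A) _).mp (h2 y hy)) (h1 y hy)
      inv_mem' := by
        rintro g ⟨hgA, hg⟩
        refine ⟨A.inv_mem hgA, fun y hy => ?_⟩
        have e : ⁅g⁻¹, y⁆ = g⁻¹ * (⁅g, y⁆)⁻¹ * g⁻¹⁻¹ := by
          simp only [commutatorElement_def]; group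
        rw [e]
        exact (Subgroup.mem_normalizer_iff.mp (hB.AB (A.inv_mem hgA)) _).mp
          (B₁.inv_mem (hg y hy)) }
  have hB₁S : B₁ ≤ S := by
    intro b hb
    refine ⟨hB.lt.le hb, fun y hy => ?_⟩
    have e : ⁅b, y⁆ = b * (y * b⁻¹ * y⁻¹) := by simp only [commutatorElement_def]; group
    rw [e]
    exact B₁.mul_mem hb ((Subgroup.mem_normalizer_iff.mp (hB.PB hy) _).mp (B₁.inv_mem hb))
  have haS : a ∈ S := by
    refine ⟨ha, fun y hy => ?_⟩
    have e : ⁅a, y⁆ = a * (a⁻¹ * ((y⁻¹)⁻¹ * a * y⁻¹))⁻¹ * a⁻¹ := by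
      simp only [commutatorElement_def]; group
    rw [e]
    exact (Subgroup.mem_normalizer_iff.mp (hB.AB ha) _).mp
      (B₁.inv_mem (hXB (gen_mem_cmE P a (P.inv_mem hy))))
  -- `Y = B₁ ⊔ ⟨a⟩` is `P`-invariant, hence equal to `A`
  set Y : Subgroup G := B₁ ⊔ Subgroup.zpowers a with hY
  have hYA : Y ≤ A := sup_le hB.lt.le (Subgroup.zpowers_le.mpr ha)
  have hYS : Y ≤ S := sup_le hB₁S (Subgroup.zpowers_le.mpr haS)
  have hPY : P ≤ Subgroup.normalizer (Y : Set G) := by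
    have key : ∀ y ∈ P, ∀ x ∈ Y, y * x * y⁻¹ ∈ Y := by
      intro y hy x hx
      have hle : Y ≤ Y.comap (MulAut.conj y).toMonoidHom := by
        apply sup_le
        · intro b hb
          rw [Subgroup.mem_comap]
          show y * b * y⁻¹ ∈ Y
          exact Subgroup.mem_sup_left ((Subgroup.mem_normalizer_iff.mp (hB.PB hy) b).mp hb)
        · rw [Subgroup.zpowers_le, Subgroup.mem_comap]
          show y * a * y⁻¹ ∈ Y
          have e : y * a * y⁻¹ = a * (a⁻¹ * ((y⁻¹)⁻¹ * a * y⁻¹)) := by group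
          rw [e]
          exact Subgroup.mul_mem _ (Subgroup.mem_sup_right (Subgroup.mem_zpowers a))
            (Subgroup.mem_sup_left (hXB (gen_mem_cmE P a (P.inv_mem hy))))
      exact hle hx
    intro y hy
    rw [Subgroup.mem_normalizer_iff]
    intro x
    constructor
    · exact key y hy x
    · intro hx
      have := key y⁻¹ (P.inv_mem hy) _ hx
      simpa [mul_assoc] using this
  have hYeq : Y = A := by
    by_contra hYne
    have := hB.max Y hYA hYne hPY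
    exact haB (this (Subgroup.mem_sup_right (Subgroup.mem_zpowers a)))
  -- so `[A,P] ≤ B₁`
  have hcomm : ⁅A, P⁆ ≤ B₁ := by
    rw [Subgroup.commutator_le]
    intro g hg y hy
    have : g ∈ S := hYS (hYeq ▸ hg)
    exact this.2 y hy
  have hAA := comm_A_eq h hA
  rw [hAA] at hcomm
  exact absurd hB.lt (not_lt_of_ge hcomm)

/-- `C_V(H) = 1` in the non-central case -/
theorem cent_inf_eq_bot (hc : Ctx p P H) (hV : MinNormal P H V)
    (hnc : ¬ H ≤ Subgroup.centralizer (V : Set G)) : V ⊓ Subgroup.centralizer (H : Set G) = ⊥ := by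
  by_contra hne
  obtain ⟨hVH, hV1, hVn, hVmin⟩ := hV
  have hZn : NormBy P H (V ⊓ Subgroup.centralizer (H : Set G)) := by
    have key : ∀ g : G, g ∈ Subgroup.normalizer (V : Set G) → g ∈ Subgroup.normalizer (H : Set G) →
        ∀ x ∈ V ⊓ Subgroup.centralizer (H : Set G),
          g * x * g⁻¹ ∈ V ⊓ Subgroup.centralizer (H : Set G) := by
      rintro g hgV hgH x ⟨hxV, hxC⟩
      refine ⟨(Subgroup.mem_normalizer_iff.mp hgV x).mp hxV, ?_⟩
      show g * x * g⁻¹ ∈ Subgroup.centralizer (H : Set G)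
      rw [Subgroup.mem_centralizer_iff]
      intro k hk
      have hk' : g⁻¹ * k * g ∈ H := by
        have := (Subgroup.mem_normalizer_iff.mp (Subgroup.inv_mem _ hgH) k).mp hk
        simpa using this
      have h1 := Subgroup.mem_centralizer_iff.mp hxC _ hk'
      calc k * (g * x * g⁻¹) = g * ((g⁻¹ * k * g) * x) * g⁻¹ := by group
        _ = g * (x * (g⁻¹ * k * g)) * g⁻¹ := by rw [h1]
        _ = g * x * g⁻¹ * k := by group
    have key2 : ∀ g : G, g ∈ Subgroup.normalizer (V : Set G) → g ∈ Subgroup.normalizer (H : Set G) →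
        g ∈ Subgroup.normalizer ((V ⊓ Subgroup.centralizer (H : Set G) : Subgroup G) : Set G) := by
      intro g hgV hgH
      rw [Subgroup.mem_normalizer_iff]
      intro x
      constructor
      · exact key g hgV hgH x
      · intro hx
        have := key g⁻¹ (Subgroup.inv_mem _ hgV) (Subgroup.inv_mem _ hgH) _ hx
        simpa [mul_assoc] using this
    exact ⟨fun g hg => key2 g (hVn.1 hg) (Subgroup.le_normalizer hg),
      fun g hg => key2 g (hVn.2 hg) (hc.norm hg)⟩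
  have h1 : V ⊓ Subgroup.centralizer (H : Set G) = V := hVmin _ inf_le_left hne hZn
  apply hnc
  intro k hk
  rw [Subgroup.mem_centralizer_iff]
  intro v hv
  have hvC : v ∈ Subgroup.centralizer (H : Set G) := by
    have : v ∈ V ⊓ Subgroup.centralizer (H : Set G) := by rw [h1]; exact hv
    exact this.2
  exact (Subgroup.mem_centralizer_iff.mp hvC k hk).symm

/-- PKG-NC3 = (N4),(N5) -/
theorem NC3 (h : MinCE p P H) (hV : MinNormal P H V)
    (hnc : ¬ H ≤ Subgroup.centralizer (V : Set G)) (hA : NCSplit P H V A)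
    (hqp : q.Prime) (hq : IsPGroup q V) (hB : NCMax P A B₁ r) (hrq : r ≠ q)
    {a : G} (ha : a ∈ A) (haB : a ∉ B₁) :
    ∀ u ∈ V, ∃ w₀ ∈ V ⊓ Subgroup.centralizer (P : Set G),
      ∃ w₁ ∈ V ⊓ Subgroup.centralizer (P : Set G), u = w₀ * (a⁻¹ * w₁ * a) := by
  intro u hu
  obtain ⟨q', hq', hq'p, hq'V, hab, hexp⟩ := minNormal_elem h.ctx hV
  have hVH : V ≤ H := hV.1
  have hVn := hV.2.2.1
  have hAH := hA.AH
  have hPA := hA.PA
  have haH : a ∈ H := hAH ha
  have haV : a ∈ Subgroup.normalizer (V : Set G) := hVn.1 haH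
  have hgen : cmE P a = A := cmE_eq_of_not_mem h hA hB ha haB
  -- `X = [au,P]` is a complement
  set X : Subgroup G := cmE P (a * u) with hX
  have hauH : a * u ∈ H := H.mul_mem haH (hVH hu)
  have hXH : X ≤ H := cmE_le h.ctx.norm hauH
  have hPX : P ≤ Subgroup.normalizer (X : Set G) := cmE_norm (a * u)
  have hXsup : V ⊔ X = H := by
    have h1 := (cmE_mul_sup hVn.2 hu haV).2
    rw [hgen] at h1
    rw [sup_comm, h1, sup_comm]; exact hA.sup
  have hXV : X ⊓ V = ⊥ := cmE_disj h hV hauH hXsup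
  -- cardinalities
  have hcA := card_sup_of_disjoint A V (hAH.trans hVn.1) hA.disj
  have hcX := card_sup_of_disjoint X V (hXH.trans hVn.1) hXV
  rw [sup_comm, hA.sup] at hcA
  rw [sup_comm, hXsup] at hcX
  have hcardXA : Nat.card X = Nat.card A := by
    have h3 : Nat.card X * Nat.card V = Nat.card A * Nat.card V := by rw [← hcX, ← hcA]
    exact Nat.eq_of_mul_eq_mul_right Nat.card_pos h3
  have hcopAV : (Nat.card A).Coprime (Nat.card V) := by
    haveI : Fact r.Prime := ⟨hB.r_prime⟩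
    obtain ⟨k, hk⟩ := IsPGroup.iff_card.mp hB.pA
    haveI : Fact q.Prime := ⟨hqp⟩
    obtain ⟨m, hm⟩ := IsPGroup.iff_card.mp hq
    rw [hk, hm]
    exact Nat.Coprime.pow _ _ ((Nat.coprime_primes hB.r_prime hqp).mpr hrq)
  haveI : Group.IsSolvable H := h.ctx.solv
  have hsolvV : Group.IsSolvable V := isSolvable_of_le hVH
  obtain ⟨w, hwV, hw⟩ := sz_conj_internal V H A X hVH hVn.1 hAH hXH hcA.symm hcardXA hcopAV
    (Or.inl hsolvV)
  -- `N_V(A) = 1`
  have hNVA : ∀ v ∈ V, (∀ x ∈ A, v * x * v⁻¹ ∈ A) → v = 1 := by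
    intro v hv hnorm
    have hZ := cent_inf_eq_bot h.ctx hV hnc
    have hvZ : v ∈ V ⊓ Subgroup.centralizer (H : Set G) := by
      refine ⟨hv, ?_⟩
      show v ∈ Subgroup.centralizer (H : Set G)
      rw [Subgroup.mem_centralizer_iff]
      intro k hk
      have hk' : k ∈ ((V ⊔ A : Subgroup G) : Set G) := by rw [hA.sup]; exact hk
      rw [Subgroup.coe_mul_of_right_le_normalizer_left V A (hAH.trans hVn.1)] at hk'
      obtain ⟨v', hv', x, hx, rfl⟩ := hk'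
      -- `v` commutes with `x`
      have h1 : v * x * v⁻¹ * x⁻¹ ∈ A ⊓ V := by
        refine ⟨A.mul_mem (hnorm x hx) (A.inv_mem hx), ?_⟩
        have : x * v⁻¹ * x⁻¹ ∈ V :=
          (Subgroup.mem_normalizer_iff.mp (hVn.1 (hAH hx)) v⁻¹).mp (V.inv_mem hv)
        have e : v * x * v⁻¹ * x⁻¹ = v * (x * v⁻¹ * x⁻¹) := by group
        rw [e]; exact V.mul_mem hv this
      rw [hA.disj, Subgroup.mem_bot] at h1
      have hvx : x * v = v * x := by
        have : v * x = (v * x * v⁻¹ * x⁻¹) * (x * v) := by group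
        rw [this, h1, one_mul]
      show v' * x * v = v * (v' * x)
      rw [mul_assoc, hvx, ← mul_assoc, hab v' hv' v hv, mul_assoc]
    rw [hZ, Subgroup.mem_bot] at hvZ
    exact hvZ
  -- `w ∈ C(P)`
  have hwC : w ∈ Subgroup.centralizer (P : Set G) := by
    rw [Subgroup.mem_centralizer_iff]
    intro y hy
    have hyA : MulAut.conj y • A = A := (mem_normalizer_iff_conj_smul y A).mp (hPA hy)
    have hyX : MulAut.conj y • X = X := (mem_normalizer_iff_conj_smul y X).mp (hPX hy)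
    have hywV : y * w * y⁻¹ ∈ V := (Subgroup.mem_normalizer_iff.mp (hVn.2 hy) w).mp hwV
    have h1 : MulAut.conj (y * w * y⁻¹) • A = MulAut.conj w • A := by
      have : MulAut.conj (y * w * y⁻¹) • A = MulAut.conj y • (MulAut.conj w • (MulAut.conj y⁻¹ • A)) := by
        rw [← mul_smul, ← mul_smul, ← map_mul, ← map_mul]
      rw [this]
      have hyinv : MulAut.conj y⁻¹ • A = A := by
        have := congrArg (fun S => MulAut.conj y⁻¹ • S) hyA
        simp only [← mul_smul, ← map_mul, inv_mul_cancel, map_one, one_smul] at this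
        exact this.symm
      rw [hyinv, hw, hyX]
    have h2 : ∀ x ∈ A, (w⁻¹ * (y * w * y⁻¹)) * x * (w⁻¹ * (y * w * y⁻¹))⁻¹ ∈ A := by
      intro x hx
      have h3 : (y * w * y⁻¹) * x * (y * w * y⁻¹)⁻¹ ∈ MulAut.conj w • A := by
        rw [← h1]; exact ⟨x, hx, rfl⟩
      obtain ⟨x', hx', hxx⟩ := h3
      have h4 : w * x' * w⁻¹ = (y * w * y⁻¹) * x * (y * w * y⁻¹)⁻¹ := hxx
      have e : (w⁻¹ * (y * w * y⁻¹)) * x * (w⁻¹ * (y * w * y⁻¹))⁻¹ =
          w⁻¹ * ((y * w * y⁻¹) * x * (y * w * y⁻¹)⁻¹) * w := by group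
      rw [e, ← h4]
      have : w⁻¹ * (w * x' * w⁻¹) * w = x' := by group
      rw [this]; exact hx'
    have h5 := hNVA _ (V.mul_mem (V.inv_mem hwV) hywV) h2
    have h6 : y * w * y⁻¹ = w := by
      have : y * w * y⁻¹ = w * (w⁻¹ * (y * w * y⁻¹)) := by group
      rw [this, h5, mul_one]
    calc y * w = (y * w * y⁻¹) * y := by group
      _ = w * y := by rw [h6]
  -- the element `u' = (a⁻¹ w⁻¹ a) u w`
  set u' : G := (a⁻¹ * w⁻¹ * a) * u * w with hu'
  have hawV : a⁻¹ * w⁻¹ * a ∈ V := by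
    have := (Subgroup.mem_normalizer_iff.mp (Subgroup.inv_mem _ haV) w⁻¹).mp (V.inv_mem hwV)
    simpa using this
  have hu'V : u' ∈ V := V.mul_mem (V.mul_mem hawV hu) hwV
  -- `a u' a⁻¹` commutes with every `y ∈ P`
  have hw₁C : a * u' * a⁻¹ ∈ Subgroup.centralizer (P : Set G) := by
    rw [Subgroup.mem_centralizer_iff]
    intro y hy
    have hwy : y * w = w * y := Subgroup.mem_centralizer_iff.mp hwC y hy
    have hwy' : y⁻¹ * w = w * y⁻¹ := Subgroup.mem_centralizer_iff.mp hwC y⁻¹ (P.inv_mem hy)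
    -- generator of `X`, conjugated by `w⁻¹`, lies in `A`
    have hgenX : (a * u)⁻¹ * (y⁻¹ * (a * u) * y) ∈ X := gen_mem_cmE P (a * u) hy
    rw [← hw] at hgenX
    obtain ⟨x, hxA, hxx⟩ := hgenX
    have hxx' : w * x * w⁻¹ = (a * u)⁻¹ * (y⁻¹ * (a * u) * y) := hxx
    have hx_eq : x = w⁻¹ * ((a * u)⁻¹ * (y⁻¹ * (a * u) * y)) * w := by
      rw [← hxx']; group
    -- rewrite `x` as `c_y * t` with `t ∈ V`
    set c : G := a⁻¹ * (y⁻¹ * a * y) with hc
    have hcA : c ∈ A := by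
      rw [← hgen]; exact gen_mem_cmE P a hy
    have hx_eq2 : x = c * ((c⁻¹ * u'⁻¹ * c) * (y⁻¹ * u' * y)) := by
      calc x = w⁻¹ * ((a * u)⁻¹ * (y⁻¹ * (a * u) * y)) * w := hx_eq
        _ = w⁻¹ * (a * u)⁻¹ * y⁻¹ * (a * u) * (y * w) := by group
        _ = w⁻¹ * (a * u)⁻¹ * y⁻¹ * (a * u) * (w * y) := by rw [hwy]
        _ = w⁻¹ * (a * u)⁻¹ * (y⁻¹ * w) * w⁻¹ * (a * u) * w * y := by group
        _ = w⁻¹ * (a * u)⁻¹ * (w * y⁻¹) * w⁻¹ * (a * u) * w * y := by rw [hwy']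
        _ = c * ((c⁻¹ * u'⁻¹ * c) * (y⁻¹ * u' * y)) := by rw [hu', hc]; group
    have htV : (c⁻¹ * u'⁻¹ * c) * (y⁻¹ * u' * y) ∈ V := by
      apply V.mul_mem
      · have := (Subgroup.mem_normalizer_iff.mp (Subgroup.inv_mem _ (hVn.1 (hAH hcA))) u'⁻¹).mp
          (V.inv_mem hu'V)
        simpa using this
      · have := (Subgroup.mem_normalizer_iff.mp (hVn.2 (P.inv_mem hy)) u').mp hu'V
        simpa using this
    have htA : (c⁻¹ * u'⁻¹ * c) * (y⁻¹ * u' * y) ∈ A := by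
      have : (c⁻¹ * u'⁻¹ * c) * (y⁻¹ * u' * y) = c⁻¹ * x := by rw [hx_eq2]; group
      rw [this]; exact A.mul_mem (A.inv_mem hcA) hxA
    have ht1 : (c⁻¹ * u'⁻¹ * c) * (y⁻¹ * u' * y) = 1 := by
      have : (c⁻¹ * u'⁻¹ * c) * (y⁻¹ * u' * y) ∈ A ⊓ V := ⟨htA, htV⟩
      rwa [hA.disj, Subgroup.mem_bot] at this
    -- hence `y⁻¹ u' y = c⁻¹ u' c`
    have h7 : y⁻¹ * u' * y = c⁻¹ * u' * c := by
      have : y⁻¹ * u' * y = (c⁻¹ * u'⁻¹ * c)⁻¹ * ((c⁻¹ * u'⁻¹ * c) * (y⁻¹ * u' * y)) := by group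
      rw [this, ht1]; group
    have h9 : (a⁻¹ * y * a) * u' * (a⁻¹ * y⁻¹ * a) = u' := by
      have e : (a⁻¹ * y * a) * u' * (a⁻¹ * y⁻¹ * a) = y * (c⁻¹ * u' * c) * y⁻¹ := by
        rw [hc]; group
      rw [e, ← h7]; group
    have h8 : y * (a * u' * a⁻¹) * y⁻¹ = a * u' * a⁻¹ := by
      have e : y * (a * u' * a⁻¹) * y⁻¹ = a * ((a⁻¹ * y * a) * u' * (a⁻¹ * y⁻¹ * a)) * a⁻¹ := by
        group
      rw [e, h9]
    calc y * (a * u' * a⁻¹) = (y * (a * u' * a⁻¹) * y⁻¹) * y := by group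
      _ = a * u' * a⁻¹ * y := by rw [h8]
  have hw₁V : a * u' * a⁻¹ ∈ V := (Subgroup.mem_normalizer_iff.mp haV u').mp hu'V
  refine ⟨w⁻¹, ⟨V.inv_mem hwV, Subgroup.inv_mem _ hwC⟩, w * (a * u' * a⁻¹),
    ⟨V.mul_mem hwV hw₁V, Subgroup.mul_mem _ hwC hw₁C⟩, ?_⟩
  -- `u = (a⁻¹ w a) u' w⁻¹ = w⁻¹ (a⁻¹ (w (a u' a⁻¹)) a)`
  have hmemV : a⁻¹ * (w * (a * u' * a⁻¹)) * a ∈ V := by
    have := (Subgroup.mem_normalizer_iff.mp (Subgroup.inv_mem _ haV) _).mp (V.mul_mem hwV hw₁V)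
    simpa using this
  rw [hab w⁻¹ (V.inv_mem hwV) _ hmemV, hu']
  group

end

end Cfsg.Agent.Lib.Helper5.FlvNC3
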