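import Mathlib
import Cfsg.Agent.Lib.Helper5.FlvDefs
import Cfsg.Agent.Lib.Helper5.FlvF
import Cfsg.Agent.Lib.Helper5.FlvM
import Cfsg.Agent.Lib.Helper5.FlvR1
import Cfsg.Agent.Lib.Helper5.FlvNC1
import Cfsg.Agent.Lib.Helper5.FlvNC2
import Cfsg.Agent.Lib.Lead.CoprimeAction3
import Cfsg.Agent.Lib.Lead.Coprime

/-!
# S3816, package NC4 = (N6),(N7): `B₁ = 1`
-/

set_option autoImplicit false

namespace Cfsg.Agent.Lib.Helper5.FlvNC4

open scoped Pointwise commutatorElement
open Cfsg.Agent.Lib.Helper5.FlvDefs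
open Cfsg.Agent.Lib.Helper5.FlvF
open Cfsg.Agent.Lib.Helper5.FlvM
open Cfsg.Agent.Lib.Helper5.FlvR1
open Cfsg.Agent.Lib.Helper5.FlvNC1
open Cfsg.Agent.Lib.Helper5.FlvNC2
open Cfsg.Agent.Lib.Helper4.FlvR2
open Cfsg.Agent.Lib.Lead

universe u

section gen
variable {G : Type u} [Group G]

/-- the normaliser of `X` normalises `C(X)` -/
theorem conj_mem_centralizer {X : Subgroup G} {g x : G}
    (hg : g ∈ Subgroup.normalizer (X : Set G))
    (hx : x ∈ Subgroup.centralizer (X : Set G)) :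
    g * x * g⁻¹ ∈ Subgroup.centralizer (X : Set G) := by
  rw [Subgroup.mem_centralizer_iff]
  intro k hk
  have hk' : g⁻¹ * k * g ∈ X := by
    have := (Subgroup.mem_normalizer_iff.mp (Subgroup.inv_mem _ hg) k).mp hk
    simpa using this
  have h1 := Subgroup.mem_centralizer_iff.mp hx _ hk'
  calc k * (g * x * g⁻¹) = g * ((g⁻¹ * k * g) * x) * g⁻¹ := by group
    _ = g * (x * (g⁻¹ * k * g)) * g⁻¹ := by rw [h1]
    _ = g * x * g⁻¹ * k := by group

theorem le_normalizer_inf_centralizer {Q U X : Subgroup G}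
    (hU : Q ≤ Subgroup.normalizer (U : Set G)) (hX : Q ≤ Subgroup.normalizer (X : Set G)) :
    Q ≤ Subgroup.normalizer ((U ⊓ Subgroup.centralizer (X : Set G) : Subgroup G) : Set G) := by
  apply le_normalizer_of_conj_mem
  rintro b hb x ⟨hxU, hxC⟩
  exact ⟨(Subgroup.mem_normalizer_iff.mp (hU hb) x).mp hxU, conj_mem_centralizer (hX hb) hxC⟩

/-- in an abelian subgroup everything is normal -/
theorem abelian_le_normalizer {V Y : Subgroup G} (hab : ∀ a ∈ V, ∀ b ∈ V, a * b = b * a)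
    (hY : Y ≤ V) : V ≤ Subgroup.normalizer (Y : Set G) := by
  apply le_normalizer_of_conj_mem
  intro v hv x hx
  have : v * x * v⁻¹ = x := by rw [hab v hv x (hY hx)]; group
  rw [this]; exact hx

end gen

section
variable {G : Type u} [Group G] [Finite G] {p : ℕ} {P H V A B₁ : Subgroup G} {q r : ℕ}

/-- PKG-NC4 = (N6),(N7) -/
theorem NC4 (h : MinCE p P H) (hV : MinNormal P H V)
    (hnc : ¬ H ≤ Subgroup.centralizer (V : Set G)) (hA : NCSplit P H V A)
    (hqp : q.Prime) (hq : IsPGroup q V) (hB : NCMax P A B₁ r) (hrq : r ≠ q) : B₁ = ⊥ := by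
  classical
  obtain ⟨q', hq', hq'p, hq'V, hab, hexp⟩ := minNormal_elem h.ctx hV
  have hVH : V ≤ H := hV.1
  have hVn := hV.2.2.1
  have hAH := hA.AH
  have hPA := hA.PA
  have hBA : B₁ ≤ A := hB.lt.le
  have hBH : B₁ ≤ H := hBA.trans hAH
  have hAV : A ≤ Subgroup.normalizer (V : Set G) := hAH.trans hVn.1
  have hcommOf : ∀ X : Subgroup G, X ≤ V → IsMulCommutative X := fun X hX =>
    ⟨⟨fun a b => Subtype.ext (hab a (hX a.2) b (hX b.2))⟩⟩
  haveI : IsMulCommutative V := hcommOf V le_rfl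
  have hsolvP : Group.IsSolvable P := isSolvable_of_card_prime h.ctx.hp h.ctx.cardP
  haveI : Fact r.Prime := ⟨hB.r_prime⟩
  haveI : Fact q.Prime := ⟨hqp⟩
  have hcopXV : ∀ X : Subgroup G, X ≤ A → ∀ Y : Subgroup G, Y ≤ V →
      (Nat.card X).Coprime (Nat.card Y) := by
    intro X hX Y hY
    obtain ⟨k, hk⟩ := IsPGroup.iff_card.mp (hB.pA.to_le hX)
    obtain ⟨m, hm⟩ := IsPGroup.iff_card.mp (hq.to_le hY)
    rw [hk, hm]
    exact Nat.Coprime.pow _ _ ((Nat.coprime_primes hB.r_prime hqp).mpr hrq)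
  -- `D = [B₁,P]`
  set D : Subgroup G := ⁅B₁, P⁆ with hD
  have hDB : D ≤ B₁ := commutator_le_left_of_le_normalizer B₁ P hB.PB
  have hDA : D ≤ A := hDB.trans hBA
  have hDV : D ≤ Subgroup.normalizer (V : Set G) := hDA.trans hAV
  have hPD : P ≤ Subgroup.normalizer (D : Set G) := le_normalizer_commutator_right B₁ P hB.PB
  have hK1 : ⁅V, D⁆ ⊓ Subgroup.centralizer (P : Set G) ≤ KK P H :=
    piece_le h hV hA hBA hB.lt.ne hB.PB
  -- `C = C_A(P)`
  set C : Subgroup G := A ⊓ Subgroup.centralizer (P : Set G) with hC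
  have hCK : C ≤ KK P H := by
    obtain ⟨a, ha, hgen⟩ := hA.gen
    have := cmE_inf_le_KK (P := P) (H := H) (hAH ha)
    rw [hgen] at this
    exact this
  have hK2 : ∀ v ∈ V ⊓ Subgroup.centralizer (P : Set G), ∀ c ∈ C, ⁅v, c⁆ ∈ KK P H := by
    rintro v ⟨hvV, hvC⟩ c hc
    have hvn : v ∈ Subgroup.normalizer (KK P H : Set G) := KK_norm ⟨hVH hvV, hvC⟩
    rw [commutatorElement_def]
    exact Subgroup.mul_mem _ ((Subgroup.mem_normalizer_iff.mp hvn c).mp (hCK hc))
      (Subgroup.inv_mem _ (hCK hc))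
  -- `V = C_V(D) × [V,D]`
  have hdec := (coprime_abelian_decomp D V hDV (hcopXV D hDA V le_rfl)).2
  set Y₀ : Subgroup G := V ⊓ Subgroup.centralizer (D : Set G) with hY₀
  have hPY₀ : P ≤ Subgroup.normalizer (Y₀ : Set G) := le_normalizer_inf_centralizer hVn.2 hPD
  have hVDV : ⁅V, D⁆ ≤ V := commutator_le_left_of_le_normalizer V D hDV
  have hPVD : P ≤ Subgroup.normalizer ((⁅V, D⁆ : Subgroup G) : Set G) := fun y hy =>
    normalizer_inf_le_normalizer_commutator V D ⟨hVn.2 hy, hPD hy⟩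
  have hcopY₀ : (Nat.card Y₀).Coprime p :=
    Nat.Coprime.coprime_dvd_left (Subgroup.card_dvd_of_le (inf_le_left.trans hVH)) h.ctx.cop
  set Y : Subgroup G := Y₀ ⊓ Subgroup.centralizer (P : Set G) with hY
  have hYV : Y ≤ V := inf_le_left.trans inf_le_left
  have hstep4 : ∀ v ∈ V ⊓ Subgroup.centralizer (P : Set G), ∃ c ∈ Y, ∃ d ∈ KK P H, v = c * d := by
    rintro v ⟨hvV, hvC⟩
    have hv1 : v ∈ ((Y₀ ⊔ ⁅V, D⁆ : Subgroup G) : Set G) := by rw [hdec]; exact hvV
    rw [Subgroup.coe_mul_of_right_le_normalizer_left Y₀ ⁅V, D⁆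
      (hVDV.trans (abelian_le_normalizer hab inf_le_left))] at hv1
    obtain ⟨c, hc, d, hd, hcd⟩ := hv1
    obtain ⟨c', hc', d', hd', hv⟩ := fix_mul h.ctx.hp h.ctx.cardP hPY₀ hPVD hcopY₀ hvC hc hd
      hcd.symm
    exact ⟨c', hc', d', hK1 hd', hv⟩
  -- `C` normalises `Y`
  have hCD : C ≤ Subgroup.normalizer (D : Set G) := by
    rintro c ⟨hcA, hcC⟩
    exact normalizer_inf_le_normalizer_commutator B₁ P
      ⟨hB.AB hcA, Subgroup.centralizer_le_normalizer _ hcC⟩
  have hCY : C ≤ Subgroup.normalizer (Y : Set G) := by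
    apply le_normalizer_of_conj_mem
    rintro c hc x ⟨⟨hxV, hxD⟩, hxP⟩
    refine ⟨⟨(Subgroup.mem_normalizer_iff.mp (hAV hc.1) x).mp hxV,
      conj_mem_centralizer (hCD hc) hxD⟩, ?_⟩
    exact Subgroup.mul_mem _ (Subgroup.mul_mem _ hc.2 hxP) (Subgroup.inv_mem _ hc.2)
  haveI : IsMulCommutative Y := hcommOf Y hYV
  have hdecY := (coprime_abelian_decomp C Y hCY (hcopXV C inf_le_left Y hYV)).2
  have hYCK : ⁅Y, C⁆ ≤ KK P H := by
    rw [Subgroup.commutator_le]
    intro y hy c hc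
    exact hK2 y ⟨hYV hy, hy.2⟩ c hc
  -- `B₁ ≤ D ⊔ C`
  have hB₁DC : B₁ ≤ D ⊔ C := by
    have hcopB : (Nat.card P).Coprime (Nat.card B₁) := ctx_coprime h.ctx hBH
    have h1 := coprime_commutator_sup_centralizer P B₁ hB.PB hcopB (Or.inl hsolvP)
    rw [← h1]
    exact sup_le_sup le_rfl (inf_le_inf_right _ hBA)
  have hYCC : Y ⊓ Subgroup.centralizer (C : Set G) ≤
      (V ⊓ Subgroup.centralizer (B₁ : Set G)) ⊓ Subgroup.centralizer (P : Set G) := by
    rintro x ⟨⟨⟨hxV, hxD⟩, hxP⟩, hxC⟩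
    refine ⟨⟨hxV, ?_⟩, hxP⟩
    have hle : D ⊔ C ≤ Subgroup.centralizer ({x} : Set G) := by
      apply sup_le
      · intro d hd
        rw [Subgroup.mem_centralizer_singleton_iff]
        exact (Subgroup.mem_centralizer_iff.mp hxD d hd)
      · intro c hc
        rw [Subgroup.mem_centralizer_singleton_iff]
        exact (Subgroup.mem_centralizer_iff.mp hxC c hc)
    show x ∈ Subgroup.centralizer (B₁ : Set G)
    rw [Subgroup.mem_centralizer_iff]
    intro b hb
    have := hle (hB₁DC hb)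
    rw [Subgroup.mem_centralizer_singleton_iff] at this
    exact this
  -- `W = C_V(B₁)` is normal
  set W : Subgroup G := V ⊓ Subgroup.centralizer (B₁ : Set G) with hW
  have hWn : NormBy P H W := by
    refine ⟨?_, le_normalizer_inf_centralizer hVn.2 hB.PB⟩
    rw [← hA.sup]
    exact sup_le (abelian_le_normalizer hab inf_le_left) (le_normalizer_inf_centralizer hAV hB.AB)
  by_cases hW1 : W = ⊥
  · -- then `V₀ ≤ K`
    exfalso
    apply R3 h hVH hV.2.1 hVn
    intro v hv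
    obtain ⟨c, hc, d, hd, rfl⟩ := hstep4 v hv
    refine Subgroup.mul_mem _ ?_ hd
    have h1 : Y ⊓ Subgroup.centralizer (C : Set G) = ⊥ := by
      rw [eq_bot_iff]
      intro x hx
      have := (hYCC hx).1
      rw [hW1] at this
      exact this
    rw [h1, bot_sup_eq] at hdecY
    rw [← hdecY] at hc
    exact hYCK hc
  · have hWV : W = V := hV.2.2.2 W inf_le_left hW1 hWn
    -- `B₁ ≤ N = C_A(V)`
    set N : Subgroup G := A ⊓ Subgroup.centralizer (V : Set G) with hN
    have hB₁N : B₁ ≤ N := by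
      refine le_inf hBA ?_
      rw [Subgroup.le_centralizer_iff]
      rw [← hWV]
      exact inf_le_right
    have hNn : NormBy P H N := by
      refine ⟨?_, le_normalizer_inf_centralizer hPA hVn.2⟩
      rw [← hA.sup]
      refine sup_le ?_ (le_normalizer_inf_centralizer Subgroup.le_normalizer hAV)
      apply le_normalizer_of_conj_mem
      intro v hv x hx
      have : v * x * v⁻¹ = x := by
        rw [Subgroup.mem_centralizer_iff.mp hx.2 v hv]; group
      rw [this]; exact hx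
    have hN1 : N = ⊥ := by
      by_contra hNne
      obtain ⟨V', hV', hV'N⟩ := exists_minNormal_le (inf_le_left.trans hAH) hNne hNn
      obtain ⟨q'', hq'', _, hq''V, _, _⟩ := minNormal_elem h.ctx hV'
      have hqq : q = q'' := R3q h hV hV' hqp hq'' hq hq''V
      have hrV' : IsPGroup r V' := hB.pA.to_le (hV'N.trans inf_le_left)
      rw [← hqq] at hq''V
      have := IsPGroup.disjoint_of_ne r q hrq V' V' hrV' hq''V
      exact hV'.2.1 (disjoint_self.mp this)
    rw [hN1] at hB₁N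
    exact le_bot_iff.mp hB₁N

end

end Cfsg.Agent.Lib.Helper5.FlvNC4
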