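import Mathlib
import Cfsg.Agent.Lib.Helper5.FlvDefs
import Cfsg.Agent.Lib.Helper5.FlvF
import Cfsg.Agent.Lib.Helper5.FlvM
import Cfsg.Agent.Lib.Helper4.FlvR2
import Cfsg.Agent.Lib.Helper5.FlvR1
import Cfsg.Agent.Lib.Helper5.FlvNC1
import Cfsg.Agent.Lib.Helper5.FlvNC2
import Cfsg.Agent.Lib.Helper5.FlvNC3
import Cfsg.Agent.Lib.Helper5.FlvNC4
import Cfsg.Agent.Lib.Helper9.FlvNC5
import Cfsg.Agent.Lib.Helper8.FlvC1
import Cfsg.Agent.Lib.Helper5.FlvC2c
import Cfsg.Agent.Lib.Helper5.FlvC2iii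
import Cfsg.Agent.Lib.Helper7.FlvC4
import Cfsg.Agent.Lib.Helper1.FlvC2a
import Cfsg.Agent.Lib.Helper6.FlvC2i
import Cfsg.Agent.Lib.Helper7.FlvC3

/-!
# S3816 (Flavell): assembly of the packages — the internal main theorem

`main p n G P H : Ctx p P H → Nat.card H = n → Goal P H`, by strong induction on `|H|`;
a minimal counterexample is refuted by the non-central branch (NC1–NC5) or the central branch
(C1, C2c, C2i, C2a, C2iii, C3, C4).  Paper proof: `notes/S3816_proof_helper5.md`.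
-/

set_option autoImplicit false

namespace Cfsg.Agent.Lib.Helper5.FlvMain

open scoped Pointwise commutatorElement
open Cfsg.Agent.Lib.Helper5.FlvDefs

universe u

section
variable {G : Type u} [Group G] [Finite G] {p : ℕ} {P H : Subgroup G}

theorem noncentral_false {V : Subgroup G} (h : MinCE p P H) (hV : MinNormal P H V)
    (hnc : ¬ H ≤ Subgroup.centralizer (V : Set G)) : False := by
  obtain ⟨A, hA⟩ := FlvNC1.NC1 h hV hnc
  obtain ⟨q, hqp, -, hq, hab, -⟩ := FlvM.minNormal_elem h.ctx hV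
  obtain ⟨B₁, r, hB, hrq⟩ := FlvNC2.NC2 h hV hnc hA hqp hq
  have hB1 : B₁ = ⊥ := FlvNC4.NC4 h hV hnc hA hqp hq hB hrq
  subst hB1
  refine Cfsg.Agent.Lib.Helper9.FlvNC5.NC5_of h.ctx hV hnc hA hB ?_ hab
    (fun hVP => FlvF.three_sub hV.1 hV.2.2.1 hVP (Cfsg.Agent.Lib.Helper4.FlvR2.R0 h))
    (FlvR1.R3 h hV.1 hV.2.1 hV.2.2.1)
  intro a ha ha1
  exact FlvNC3.NC3 h hV hnc hA hqp hq hB hrq ha (by simpa [Subgroup.mem_bot] using ha1)

theorem central_false (h : MinCE p P H)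
    (hcen : ∀ V, MinNormal P H V → H ≤ Subgroup.centralizer (V : Set G)) : False := by
  obtain ⟨z, q, hz⟩ := Cfsg.Agent.Lib.Helper8.FlvC1.C1 h hcen
  obtain ⟨M, s, hM⟩ := FlvC2c.C2c h hz
  have hs : s = q := Cfsg.Agent.Lib.Helper6.FlvC2i.C2i h hz hM
  subst hs
  obtain ⟨M₀, hM₀⟩ := FlvC2iii.C2iii h hz hM (Cfsg.Agent.Lib.Helper1.FlvC2a.C2a h hz hM)
  obtain ⟨n, hn⟩ := Cfsg.Agent.Lib.Helper7.FlvC3.C3 h hz hM₀
  exact Cfsg.Agent.Lib.Helper7.FlvC4.C4 h hz hM₀ hn

theorem minCE_false (h : MinCE p P H) : False := by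
  by_cases hcen : ∀ V, MinNormal P H V → H ≤ Subgroup.centralizer (V : Set G)
  · exact central_false h hcen
  · obtain ⟨V, hV⟩ := not_forall.mp hcen
    obtain ⟨hV, hnc⟩ := Classical.not_imp.mp hV
    exact noncentral_false h hV hnc

end

/-- the internal main theorem -/
theorem main (p : ℕ) : ∀ (n : ℕ) (G : Type u) [Group G] [Finite G] (P H : Subgroup G),
    Ctx p P H → Nat.card H = n → Goal P H := by
  intro n
  induction n using Nat.strong_induction_on with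
  | _ n ih =>
    intro G _ _ P H hc hn
    by_contra hbad
    refine minCE_false (p := p) (P := P) (H := H) ⟨hc, hbad, ?_⟩
    intro G' _ _ P' H' hc' hlt
    exact ih (Nat.card H') (hn ▸ hlt) G' P' H' hc' rfl

end Cfsg.Agent.Lib.Helper5.FlvMain
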