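import Mathlib
import Cfsg.Agent.S0042
import Cfsg.Agent.Lib.Lead.FrobConj1

set_option autoImplicit false
open Pointwise

/-!
# S3357, package P1 (group side)

A finite group occurring as a Frobenius complement has a nonzero fixed-point-free module over
`ZMod p` for some prime `p` not dividing its order: the `p`-torsion of the centre of the
(nilpotent) Frobenius kernel, with the conjugation action.
-/

namespace Cfsg.Agent.Lib.Helper5

section fpfV

variable {L : Type*} [Group L]

/-- the `p`-torsion of the centre of `K`, as a subgroup of the ambient group -/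
def fpfV (K : Subgroup L) (p : ℕ) : Subgroup L where
  carrier := {x | x ∈ K ∧ (∀ k ∈ K, k * x = x * k) ∧ x ^ p = 1}
  one_mem' := ⟨K.one_mem, fun k _ => by simp, one_pow p⟩
  mul_mem' := by
    rintro x y ⟨hxK, hxc, hxp⟩ ⟨hyK, hyc, hyp⟩
    refine ⟨K.mul_mem hxK hyK, fun k hk => ?_, ?_⟩
    · rw [← mul_assoc, hxc k hk, mul_assoc, hyc k hk, ← mul_assoc]
    · have hcomm : Commute x y := (hxc y hyK).symm
      rw [hcomm.mul_pow, hxp, hyp, one_mul]
  inv_mem' := by
    rintro x ⟨hxK, hxc, hxp⟩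
    refine ⟨K.inv_mem hxK, fun k hk => ?_, by rw [inv_pow, hxp, inv_one]⟩
    have h := hxc k hk
    calc k * x⁻¹ = x⁻¹ * (x * k) * x⁻¹ := by group
      _ = x⁻¹ * (k * x) * x⁻¹ := by rw [h]
      _ = x⁻¹ * k := by group

theorem mem_fpfV {K : Subgroup L} {p : ℕ} {x : L} :
    x ∈ fpfV K p ↔ x ∈ K ∧ (∀ k ∈ K, k * x = x * k) ∧ x ^ p = 1 := Iff.rfl

theorem fpfV_le (K : Subgroup L) (p : ℕ) : fpfV K p ≤ K := fun _ hx => hx.1

instance fpfV_commGroup (K : Subgroup L) (p : ℕ) : CommGroup ↥(fpfV K p) :=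
  { (inferInstance : Group ↥(fpfV K p)) with
    mul_comm := fun a b => Subtype.ext (by
      have hb := mem_fpfV.mp b.2
      exact hb.2.1 a.1 (mem_fpfV.mp a.2).1) }

theorem conj_mem_fpfV {K : Subgroup L} [hK : K.Normal] {p : ℕ} (x : L) {v : L}
    (hv : v ∈ fpfV K p) : x * v * x⁻¹ ∈ fpfV K p := by
  obtain ⟨hvK, hvc, hvp⟩ := mem_fpfV.mp hv
  refine mem_fpfV.mpr ⟨hK.conj_mem v hvK x, fun k hk => ?_, ?_⟩
  · have hk' : x⁻¹ * k * x ∈ K := by
      have := hK.conj_mem k hk x⁻¹
      rwa [inv_inv] at this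
    have h := hvc _ hk'
    calc k * (x * v * x⁻¹) = x * ((x⁻¹ * k * x) * v) * x⁻¹ := by group
      _ = x * (v * (x⁻¹ * k * x)) * x⁻¹ := by rw [h]
      _ = x * v * x⁻¹ * k := by group
  · rw [conj_pow, hvp, mul_one, mul_inv_cancel]

/-- conjugation by `x` on `fpfV K p` -/
def fpfConj (K : Subgroup L) [K.Normal] (p : ℕ) (x : L) : ↥(fpfV K p) →* ↥(fpfV K p) where
  toFun v := ⟨x * v.1 * x⁻¹, conj_mem_fpfV x v.2⟩
  map_one' := Subtype.ext (by simp)
  map_mul' a b := Subtype.ext (by simp [mul_assoc])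

@[simp] theorem fpfConj_coe (K : Subgroup L) [K.Normal] (p : ℕ) (x : L) (v : ↥(fpfV K p)) :
    ((fpfConj K p x v : ↥(fpfV K p)) : L) = x * v.1 * x⁻¹ := rfl

theorem fpfConj_one (K : Subgroup L) [K.Normal] (p : ℕ) :
    fpfConj K p (1 : L) = MonoidHom.id _ := by
  ext v; simp

theorem fpfConj_mul (K : Subgroup L) [K.Normal] (p : ℕ) (x y : L) :
    fpfConj K p (x * y) = (fpfConj K p x).comp (fpfConj K p y) := by
  ext v; simp [mul_assoc]

/-- `ZMod p`-module structure on the additive version of `fpfV K p` -/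
noncomputable instance fpfV_module (K : Subgroup L) (p : ℕ) :
    Module (ZMod p) (Additive ↥(fpfV K p)) :=
  AddCommGroup.zmodModule (fun x => by
    have h1 : (Additive.toMul x : ↥(fpfV K p)) ^ p = 1 :=
      Subtype.ext (mem_fpfV.mp (Additive.toMul x).2).2.2
    have h2 : p • x = Additive.ofMul ((Additive.toMul x) ^ p) := rfl
    rw [h2, h1]; rfl)

end fpfV

section main

/-- **S3357, P1.** A finite group isomorphic to a Frobenius complement has, for some prime `p`
not dividing its order, a nonzero `ZMod p`-module on which every non-identity element acts without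
nonzero fixed vectors. -/
theorem fpf_module_of_frobenius_complement {G : Type*} [Group G] [Finite G]
    (hFC : ∃ (L : Type) (_ : Group L) (_ : Finite L) (H : Subgroup L),
      Cfsg.IsFrobeniusComplement H ∧ Nonempty (G ≃* H)) :
    ∃ (p : ℕ) (_ : Fact p.Prime) (M : Type) (_ : AddCommGroup M) (_ : Module (ZMod p) M)
      (_ : Nontrivial M) (ρ : G →* (M →ₗ[ZMod p] M)),
      ¬ p ∣ Nat.card G ∧ ∀ h : G, h ≠ 1 → ∀ m : M, ρ h m = m → m = 0 := by
  classical
  obtain ⟨L, _, _, H, hH, ⟨e⟩⟩ := hFC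
  obtain ⟨K, hKcoe, hKn, hKnil⟩ := Cfsg.Agent.S0042.result H hH
  obtain ⟨K', hd⟩ := Cfsg.Agent.Lib.Lead.exists_frobData hH
  have hKK' : K = K' := SetLike.coe_injective (hKcoe.trans hd.coe_eq.symm)
  subst hKK'
  haveI := hKn
  haveI := hKnil
  have hKne : K ≠ ⊥ := hd.ne_bot
  haveI : Nontrivial K := (Subgroup.nontrivial_iff_ne_bot K).mpr hKne
  have hcen : Subgroup.center K ≠ ⊥ := Group.IsNilpotent.center_ne_bot (↥K)
  have hcard : Nat.card (Subgroup.center K) ≠ 1 := fun h => hcen (Subgroup.card_eq_one.mp h)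
  obtain ⟨p, hp, hpdvd⟩ := Nat.exists_prime_and_dvd hcard
  haveI hpf : Fact p.Prime := ⟨hp⟩
  obtain ⟨z, hz⟩ := exists_prime_orderOf_dvd_card' p hpdvd
  -- the element `z` gives a nontrivial element of `fpfV K p`
  have hzmem : ((z : K) : L) ∈ fpfV K p := by
    refine mem_fpfV.mpr ⟨(z : K).2, fun k hk => ?_, ?_⟩
    · have h1 := Subgroup.mem_center_iff.mp z.2 ⟨k, hk⟩
      exact congrArg Subtype.val h1
    · have h1 : z ^ p = 1 := by rw [← hz]; exact pow_orderOf_eq_one z
      have h2 := congrArg (fun w : Subgroup.center K => ((w : K) : L)) h1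
      simpa using h2
  have hzne : ((z : K) : L) ≠ 1 := by
    intro h1
    have h2 : z = 1 := Subtype.ext (Subtype.ext h1)
    rw [h2, orderOf_one] at hz
    exact hp.one_lt.ne hz
  -- `p` does not divide `|G|`
  have hpG : ¬ p ∣ Nat.card G := by
    intro hdvd
    have h1 : Nat.card G = Nat.card H := Nat.card_congr e.toEquiv
    rw [h1] at hdvd
    have h2 : p ∣ Nat.card K := hpdvd.trans (Subgroup.card_subgroup_dvd_card _)
    have h3 := Nat.dvd_gcd h2 hdvd
    rw [hd.coprime] at h3
    exact hp.one_lt.ne' (Nat.dvd_one.mp h3)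
  -- the module
  haveI : Nontrivial (Additive ↥(fpfV K p)) := by
    refine ⟨⟨Additive.ofMul ⟨_, hzmem⟩, 0, ?_⟩⟩
    intro h1
    have h2 : (⟨_, hzmem⟩ : ↥(fpfV K p)) = 1 := h1
    exact hzne (congrArg Subtype.val h2)
  let ρ : G →* (Additive ↥(fpfV K p) →ₗ[ZMod p] Additive ↥(fpfV K p)) :=
    { toFun := fun g =>
        AddMonoidHom.toZModLinearMap p (MonoidHom.toAdditive (fpfConj K p ((e g : H) : L)))
      map_one' := by
        refine LinearMap.ext fun m => ?_
        show Additive.ofMul (fpfConj K p ((e 1 : H) : L) (Additive.toMul m)) = m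
        rw [map_one, Subgroup.coe_one, fpfConj_one]
        rfl
      map_mul' := by
        intro g g'
        refine LinearMap.ext fun m => ?_
        show Additive.ofMul (fpfConj K p ((e (g * g') : H) : L) (Additive.toMul m)) =
          Additive.ofMul (fpfConj K p ((e g : H) : L)
            (fpfConj K p ((e g' : H) : L) (Additive.toMul m)))
        rw [map_mul, Subgroup.coe_mul, fpfConj_mul]
        rfl }
  refine ⟨p, hpf, Additive ↥(fpfV K p), inferInstance, inferInstance, inferInstance, ρ, hpG, ?_⟩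
  intro h hh m hm
  have hx1 : ((e h : H) : L) ≠ 1 := by
    intro h1
    apply hh
    have h2 : e h = 1 := Subtype.ext h1
    exact e.injective (h2.trans (map_one e).symm)
  have hm' : fpfConj K p ((e h : H) : L) (Additive.toMul m) = Additive.toMul m :=
    congrArg Additive.toMul hm
  have hm'' : ((e h : H) : L) * (Additive.toMul m : ↥(fpfV K p)).1 * ((e h : H) : L)⁻¹ =
      (Additive.toMul m : ↥(fpfV K p)).1 := congrArg Subtype.val hm'
  have hcomm : ((e h : H) : L) * (Additive.toMul m : ↥(fpfV K p)).1 =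
      (Additive.toMul m : ↥(fpfV K p)).1 * ((e h : H) : L) := by
    calc ((e h : H) : L) * (Additive.toMul m : ↥(fpfV K p)).1
        = (((e h : H) : L) * (Additive.toMul m : ↥(fpfV K p)).1 * ((e h : H) : L)⁻¹) *
            ((e h : H) : L) := by group
      _ = (Additive.toMul m : ↥(fpfV K p)).1 * ((e h : H) : L) := by rw [hm'']
  have hk1 := hd.fpf (e h).2 hx1 (fpfV_le K p (Additive.toMul m).2) hcomm
  have : Additive.toMul m = 1 := Subtype.ext hk1
  exact congrArg Additive.ofMul this

end main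

end Cfsg.Agent.Lib.Helper5
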