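import Mathlib
import Cfsg.Prelude.Def_Characters
import Cfsg.Agent.Lib.Helper1.CharFound5

/-!
# S4427 package (H): vanishing of `Φ = ∑ m_ξ ξ` from the class-sum vanishing (PL)

If `m ξ = ∑ w, f w * ξ w` for every irreducible character `ξ` and the class sum
`∑ x, f (x * g * x⁻¹)` vanishes, then `∑ ξ, m ξ * ξ g = 0` (column orthogonality).
-/

set_option autoImplicit false

namespace Cfsg.Agent.Lib.Helper5.FrobH

open scoped ComplexConjugate
open Cfsg Cfsg.Agent.Lib.Helper1 Cfsg.Agent.Lib.Helper4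

theorem hvan_of_PL {G : Type*} [Group G] [Fintype G] [Fintype (Cfsg.IrrCharacter G)]
    (f : G → ℂ) (m : Cfsg.IrrCharacter G → ℕ)
    (hm : ∀ ξ : Cfsg.IrrCharacter G, (m ξ : ℂ) = ∑ w, f w * (ξ : G → ℂ) w) (g : G)
    (hPL : ∑ x : G, f (x * g * x⁻¹) = 0) :
    ∑ ξ : Cfsg.IrrCharacter G, (m ξ : ℂ) * (ξ : G → ℂ) g = 0 := by
  classical
  set Φ : G → ℂ := fun w => ∑ x : G, f (x * w * x⁻¹) with hΦ
  have hΦconj : ∀ w y, Φ (y * w * y⁻¹) = Φ w := by
    intro w y
    simp only [hΦ]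
    refine Fintype.sum_equiv (Equiv.mulRight y) _ _ ?_
    intro x
    simp [mul_assoc]
  have hΦ0 : ∀ w, IsConj g w → Φ w = 0 := by
    intro w hw
    obtain ⟨y, hy⟩ := isConj_iff.1 hw
    rw [← hy, hΦconj]
    exact hPL
  have hcard : (Fintype.card G : ℂ) ≠ 0 := Nat.cast_ne_zero.2 Fintype.card_ne_zero
  have hmΦ : ∀ ξ : IrrCharacter G,
      (Fintype.card G : ℂ) * (m ξ : ℂ) = ∑ w, Φ w * (ξ : G → ℂ) w := by
    intro ξ
    have hcf := isClassFunction_irr ξ.2
    simp only [hΦ]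
    simp_rw [Finset.sum_mul]
    rw [Finset.sum_comm]
    have h1 : ∀ x : G, ∑ w, f (x * w * x⁻¹) * (ξ : G → ℂ) w = ∑ w, f w * (ξ : G → ℂ) w := by
      intro x
      refine Fintype.sum_equiv (MulAut.conj x).toEquiv _ _ ?_
      intro w
      simp only [MulEquiv.toEquiv_eq_coe, MulEquiv.coe_toEquiv, MulAut.conj_apply]
      rw [hcf w x]
    simp_rw [h1]
    rw [Finset.sum_const, Finset.card_univ, nsmul_eq_mul, hm]
  have hS : ∑ ξ : IrrCharacter G, (m ξ : ℂ) * conj ((ξ : G → ℂ) g) = 0 := by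
    have h1 : (Fintype.card G : ℂ) * ∑ ξ : IrrCharacter G, (m ξ : ℂ) * conj ((ξ : G → ℂ) g)
        = 0 := by
      rw [Finset.mul_sum]
      simp_rw [← mul_assoc, hmΦ, Finset.sum_mul]
      rw [Finset.sum_comm]
      refine Finset.sum_eq_zero fun w _ => ?_
      simp_rw [mul_assoc]
      rw [← Finset.mul_sum, column_orthogonality g w]
      unfold classIndicator
      by_cases hc : IsConj g w
      · rw [hΦ0 w hc, zero_mul]
      · rw [if_neg hc, mul_zero, mul_zero]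
    exact (mul_eq_zero.1 h1).resolve_left hcard
  have h2 := congrArg conj hS
  simpa [map_sum] using h2

end Cfsg.Agent.Lib.Helper5.FrobH
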