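import Mathlib
import Cfsg.Prelude.Def_Local
import Cfsg.Agent.Lib.Helper2.PSeries
import Cfsg.Agent.Lib.Helper2.PConstrained
import Cfsg.Agent.Lib.Lead.PStabQuot2
import Cfsg.Agent.Lib.Lead.SolvPSolv
import Cfsg.Agent.S0635

/-!
# S3801 (Gross), package G2: the wrapper `l₂(G) ≤ 2e - 1`

From G1 (`x ^ 2 ^ (e-1)` lies in `O_{2',2}` of `G/O_2(G)` when `O_{2'}(G) = 1`): induction on `e`;
the base case `e = 1` (abelian Sylow `2`-subgroups) is the solved statement S0635.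
-/

set_option autoImplicit false

namespace Cfsg.Agent.Lib.Helper5.G2LG2

open Cfsg

universe u

section transfer
variable {G : Type*} [Group G] [Finite G] {p : ℕ} [Fact p.Prime]

/-- the `p`-length of `G/N` bounds that of `G` for a normal `p'`-subgroup `N` -/
theorem pLengthLE_of_quotient_coprime (N : Subgroup G) [N.Normal] (hN : (Nat.card N).Coprime p)
    (k : ℕ) (h : PLengthLE p k (G ⧸ N)) : PLengthLE p k G := by
  classical
  obtain ⟨V, hVdef⟩ : ∃ V : ℕ → Subgroup G, V = fun i =>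
      if i = 0 then ⊥ else (upperPSeries p (G ⧸ N) i).1.comap (QuotientGroup.mk' N) := ⟨_, rfl⟩
  have hV0 : V 0 = ⊥ := by rw [hVdef]; simp
  have hVs : ∀ i, V (i + 1) = (upperPSeries p (G ⧸ N) (i + 1)).1.comap (QuotientGroup.mk' N) := by
    intro i; rw [hVdef]; simp
  have hVn : ∀ i, (V i).Normal := by
    intro i
    cases i with
    | zero => rw [hV0]; infer_instance
    | succ i => rw [hVs]; infer_instance
  have hstep : ∀ i, (V (i + 1)).relIndex (V (i + 1 + 1)) =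
      (upperPSeries p (G ⧸ N) (i + 1)).1.relIndex (upperPSeries p (G ⧸ N) (i + 1 + 1)).1 := by
    intro i
    rw [hVs, hVs, Subgroup.relIndex_comap,
      Subgroup.map_comap_eq_self_of_surjective (QuotientGroup.mk'_surjective _)]
  have hev : ∀ i, Even i → ((V i).relIndex (V (i + 1))).Coprime p := by
    intro i hi
    cases i with
    | zero =>
      rw [hV0, Subgroup.relIndex_bot_left, hVs]
      have hNle : N ≤ (upperPSeries p (G ⧸ N) (0 + 1)).1.comap (QuotientGroup.mk' N) := by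
        intro x hx
        rw [Subgroup.mem_comap]
        have : (QuotientGroup.mk' N) x = 1 := (QuotientGroup.eq_one_iff x).mpr hx
        rw [this]; exact Subgroup.one_mem _
      have h1 := Subgroup.relIndex_mul_relIndex (⊥ : Subgroup G) N _ bot_le hNle
      rw [Subgroup.relIndex_bot_left, Subgroup.relIndex_bot_left,
        Cfsg.Agent.Lib.Helper2.PSeries.relIndex_comap_mk] at h1
      rw [← h1]
      exact Nat.Coprime.mul_left hN (Cfsg.Agent.Lib.Helper4.upperPSeries_one_coprime p)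
    | succ i =>
      rw [hstep]
      exact Cfsg.Agent.Lib.Helper2.PSeries.relIndex_upperPSeries_even (i + 1) hi
  have hodd : ∀ i, ¬ Even i → ∃ m : ℕ, (V i).relIndex (V (i + 1)) = p ^ m := by
    intro i hi
    cases i with
    | zero => exact absurd (by simp) hi
    | succ i =>
      rw [hstep]
      exact Cfsg.Agent.Lib.Helper2.PSeries.relIndex_upperPSeries_odd (i + 1) hi
  have h1 := Cfsg.Agent.Lib.Helper2.PSeries.le_upperPSeries V hV0 hVn hev hodd (2 * k + 1)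
  unfold PLengthLE at h ⊢
  rw [eq_top_iff]
  refine le_trans ?_ h1
  rw [hVs, h, Subgroup.comap_top]

/-- `pLengthLE_succ_of_quotient` for a subgroup equal to `O_{p',p}(G)` -/
theorem pLengthLE_succ_of_quotient_eq (N : Subgroup G) [N.Normal] (hN : N = pPrimePCore p G)
    (k : ℕ) (h : PLengthLE p k (G ⧸ N)) : PLengthLE p (k + 1) G := by
  subst hN
  exact Cfsg.Agent.Lib.Helper2.PSeries.pLengthLE_succ_of_quotient k h

end transfer

/-- the statement of G1 -/
def G1Stmt : Prop :=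
  ∀ (G : Type u) [Group G] [Finite G], Group.IsSolvable G → ∀ (e : ℕ), 1 ≤ e →
    (∀ (P : Sylow 2 G), ∀ x ∈ (P : Subgroup G), x ^ 2 ^ e = 1) → pPrimeCore 2 G = ⊥ →
    ∀ (P : Sylow 2 G) (x : G), x ∈ (P : Subgroup G) →
      QuotientGroup.mk' (pCore 2 G) (x ^ 2 ^ (e - 1)) ∈ pPrimePCore 2 (G ⧸ pCore 2 G)

/-- base case: Sylow `2`-subgroups of exponent `2` -/
theorem gross_base (G : Type u) [Group G] [Finite G] (hG : Group.IsSolvable G)
    (hexp : ∀ (P : Sylow 2 G), ∀ x ∈ (P : Subgroup G), x ^ 2 ^ 1 = 1) : PLengthLE 2 1 G := by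
  haveI : Fact (Nat.Prime 2) := ⟨Nat.prime_two⟩
  haveI := hG
  have hPS : IsPSolvable 2 G := Cfsg.Agent.Lib.Lead.SolvPSolv.isPSolvable_of_isSolvable' 2 G
  obtain ⟨S⟩ : Nonempty (Sylow 2 G) := inferInstance
  have hsq : ∀ a : (S : Subgroup G), a * a = 1 := by
    intro a
    have := hexp S a a.2
    rw [pow_one, pow_two] at this
    exact Subtype.ext this
  have hinv : ∀ a : (S : Subgroup G), a⁻¹ = a := fun a => inv_eq_of_mul_eq_one_left (hsq a)
  have hcomm : ∀ a b : (S : Subgroup G), a * b = b * a := by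
    intro a b
    have h1 := hinv (a * b)
    rw [mul_inv_rev, hinv a, hinv b] at h1
    exact h1.symm
  letI : CommGroup (S : Subgroup G) := { (inferInstance : Group (S : Subgroup G)) with mul_comm := hcomm }
  have hcl : Group.nilpotencyClass (S : Subgroup G) ≤ 1 := CommGroup.nilpotencyClass_le_one
  have h := Cfsg.Agent.S0635.result hPS S
  exact Cfsg.Agent.Lib.Helper2.PSeries.pLengthLE_mono hcl h

/-- the inductive step when `O_{2'}(G) = 1` -/
theorem gross_step (hG1 : G1Stmt.{u}) (e : ℕ) (he : 1 ≤ e)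
    (ih : ∀ (G : Type u) [Group G] [Finite G], Group.IsSolvable G →
      (∀ (P : Sylow 2 G), ∀ x ∈ (P : Subgroup G), x ^ 2 ^ e = 1) → PLengthLE 2 (2 * e - 1) G)
    (G : Type u) [Group G] [Finite G] (hG : Group.IsSolvable G)
    (hexp : ∀ (P : Sylow 2 G), ∀ x ∈ (P : Subgroup G), x ^ 2 ^ (e + 1) = 1)
    (hO : pPrimeCore 2 G = ⊥) : PLengthLE 2 (2 * (e + 1) - 1) G := by
  haveI : Fact (Nat.Prime 2) := ⟨Nat.prime_two⟩
  haveI := hG
  have key := hG1 G hG (e + 1) (by omega) hexp hO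
  -- the two quotients
  obtain ⟨π₂, hπ₂⟩ : ∃ π₂ : G →* G ⧸ pCore 2 G, π₂ = QuotientGroup.mk' (pCore 2 G) := ⟨_, rfl⟩
  obtain ⟨π₃, hπ₃⟩ : ∃ π₃ : (G ⧸ pCore 2 G) →* (G ⧸ pCore 2 G) ⧸ pPrimePCore 2 (G ⧸ pCore 2 G),
      π₃ = QuotientGroup.mk' (pPrimePCore 2 (G ⧸ pCore 2 G)) := ⟨_, rfl⟩
  have hs₂ : Function.Surjective π₂ := by rw [hπ₂]; exact QuotientGroup.mk'_surjective _
  have hs₃ : Function.Surjective π₃ := by rw [hπ₃]; exact QuotientGroup.mk'_surjective _
  have hs : Function.Surjective (π₃.comp π₂) := hs₃.comp hs₂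
  have hexp₃ : ∀ (Q : Sylow 2 ((G ⧸ pCore 2 G) ⧸ pPrimePCore 2 (G ⧸ pCore 2 G))),
      ∀ y ∈ (Q : Subgroup ((G ⧸ pCore 2 G) ⧸ pPrimePCore 2 (G ⧸ pCore 2 G))), y ^ 2 ^ e = 1 := by
    intro Q y hy
    obtain ⟨P₀, rfl⟩ := Sylow.mapSurjective_surjective hs 2 Q
    rw [Sylow.coe_mapSurjective] at hy
    obtain ⟨x, hx, rfl⟩ := Subgroup.mem_map.mp hy
    rw [← map_pow]
    show π₃ (π₂ (x ^ 2 ^ e)) = 1
    rw [hπ₃, hπ₂]
    exact (QuotientGroup.eq_one_iff _).mpr (key P₀ x hx)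
  have h3 : PLengthLE 2 (2 * e - 1) ((G ⧸ pCore 2 G) ⧸ pPrimePCore 2 (G ⧸ pCore 2 G)) :=
    ih _ (Group.isSolvable_of_surjective hs) hexp₃
  have h2 : PLengthLE 2 (2 * e - 1 + 1) (G ⧸ pCore 2 G) :=
    Cfsg.Agent.Lib.Helper2.PSeries.pLengthLE_succ_of_quotient _ h3
  have hEq : pCore 2 G = pPrimePCore 2 G :=
    (Cfsg.Agent.Lib.Helper2.PConstrained.pPrimePCore_eq_pCore_of_bot hO).symm
  have h1 : PLengthLE 2 (2 * e - 1 + 1 + 1) G :=
    pLengthLE_succ_of_quotient_eq (pCore 2 G) hEq _ h2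
  have hnum : 2 * e - 1 + 1 + 1 = 2 * (e + 1) - 1 := by omega
  rw [← hnum]
  exact h1

/-- Gross's bound from G1 -/
theorem gross_of (hG1 : G1Stmt.{u}) : ∀ (e : ℕ), 1 ≤ e → ∀ (G : Type u) [Group G] [Finite G],
    Group.IsSolvable G → (∀ (P : Sylow 2 G), ∀ x ∈ (P : Subgroup G), x ^ 2 ^ e = 1) →
    PLengthLE 2 (2 * e - 1) G := by
  intro e he
  induction e, he using Nat.le_induction with
  | base =>
    intro G _ _ hG hexp
    exact gross_base G hG hexp
  | succ e he ih =>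
    intro G _ _ hG hexp
    haveI : Fact (Nat.Prime 2) := ⟨Nat.prime_two⟩
    haveI := hG
    apply pLengthLE_of_quotient_coprime (pPrimeCore 2 G) (Cfsg.Agent.Lib.Helper6.pPrimeCore_coprime 2)
    have hs := QuotientGroup.mk'_surjective (pPrimeCore 2 G)
    apply gross_step hG1 e he ih _ (Group.isSolvable_of_surjective hs)
    · intro Q y hy
      obtain ⟨P₀, rfl⟩ := Sylow.mapSurjective_surjective hs 2 Q
      rw [Sylow.coe_mapSurjective] at hy
      obtain ⟨x, hx, rfl⟩ := Subgroup.mem_map.mp hy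
      rw [← map_pow, hexp P₀ x hx, map_one]
    · exact Cfsg.Agent.Lib.Lead.PStabQuot.pPrimeCore_quotient_eq_bot 2

end Cfsg.Agent.Lib.Helper5.G2LG2
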