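import Mathlib
import Cfsg.Prelude.Def_Solvable
import Cfsg.Prelude.Def_CaseTheorems
import Cfsg.Agent.Lib.Helper8.GDihDefs
import Cfsg.Agent.Lib.Helper8.GDihT1
import Cfsg.Agent.Lib.Helper6.PPrimeCore

/-! S4385 package R2: the case `k = 2` (Klein four Sylow 2-subgroup, Burnside transfer). -/

set_option autoImplicit false

namespace Cfsg.Agent.Lib.Helper8.GDih

open Cfsg.Agent.Lib.Helper7 Cfsg.Agent.Lib.Helper7.Sims3 Cfsg.Agent.Lib.Helper6

variable {G : Type*} [Group G] [Finite G] {x : ℤ → G} {h : G} {n : ℕ}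

/-- `x 1` is central in `⟨x 0, x 1, x 2⟩`. -/
theorem r2_central (T : TSn x h 2 n) {a : G} (ha : a ∈ Y x 0 2) : Commute (x 1) a := by
  refine commute_of_forall x (p := 0) (q := 2) ?_ ha
  intro i h0 h2
  have hi : i = 0 ∨ i = 1 ∨ i = 2 := by omega
  rcases hi with rfl | rfl | rfl
  · exact (T.commute_succ le_rfl 0).symm
  · exact Commute.refl _
  · exact T.commute_succ le_rfl 1

/-- the four elements of `⟨x 0, x 1⟩`. -/
theorem r2_elems (T : TSn x h 2 n) {g : G} (hg : g ∈ Y x 0 1) :
    g = 1 ∨ g = x 1 ∨ g = x 0 ∨ g = x 0 * x 1 := by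
  have h11 : ∀ g' : G, g' ∈ Y x 1 1 → g' = 1 ∨ g' = x 1 := by
    intro g' hg'
    rcases T.mem_left_cases (p := 1) (q := 1) le_rfl (by norm_num) hg' with h1 | ⟨g'', h1, rfl⟩
    · left
      have : Y x (1 + 1) 1 = ⊥ := Y_empty x (by norm_num)
      rw [this] at h1
      exact (Subgroup.mem_bot).1 h1
    · right
      have : Y x (1 + 1) 1 = ⊥ := Y_empty x (by norm_num)
      rw [this] at h1
      rw [(Subgroup.mem_bot).1 h1, mul_one]
  rcases T.mem_left_cases (p := 0) (q := 1) (by norm_num) (by norm_num) hg with h1 | ⟨g', h1, rfl⟩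
  · rcases h11 g (by simpa using h1) with h2 | h2
    · exact Or.inl h2
    · exact Or.inr (Or.inl h2)
  · rcases h11 g' (by simpa using h1) with h2 | h2
    · right; right; left; rw [h2, mul_one]
    · right; right; right; rw [h2]

theorem r2_x0_ne_x1 (T : TSn x h 2 n) : x 0 ≠ x 1 := by
  intro he
  have h1 := T.not_mem_left (p := 0) (q := 1) (by norm_num) (by norm_num)
  apply h1
  rw [he]
  exact x_mem_Y x (by norm_num) le_rfl

/-- conjugation by an odd power. -/
theorem r2_odd_pow {a u v : G} (h0 : a * u * a⁻¹ = u * v) (h1 : a * v * a⁻¹ = v) (hv : v * v = 1)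
    (j : ℕ) : a ^ (2 * j + 1) * u * (a ^ (2 * j + 1))⁻¹ = u * v := by
  have h2 : a * (u * v) * a⁻¹ = u := by
    have : a * (u * v) * a⁻¹ = (a * u * a⁻¹) * (a * v * a⁻¹) := by group
    rw [this, h0, h1, mul_assoc, hv, mul_one]
  induction j with
  | zero => simpa using h0
  | succ j ih =>
    have e : a ^ (2 * (j + 1) + 1) = a * a * a ^ (2 * j + 1) := by
      rw [show 2 * (j + 1) + 1 = 1 + 1 + (2 * j + 1) by ring, pow_add, pow_add, pow_one]
    rw [e]
    have : a * a * a ^ (2 * j + 1) * u * (a * a * a ^ (2 * j + 1))⁻¹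
        = a * (a * (a ^ (2 * j + 1) * u * (a ^ (2 * j + 1))⁻¹) * a⁻¹) * a⁻¹ := by group
    rw [this, ih, h2, h0]

/-- a normalising element of `⟨x 0, x 1⟩` inside `⟨x 0, x 1, x 2⟩` centralises `x 0`. -/
theorem r2_norm (T : TSn x h 2 n) (hn : Odd n) {a : G} (ha : a ∈ Y x 0 2)
    (hN : ∀ y ∈ Y x 0 1, a * y * a⁻¹ ∈ Y x 0 1) : Commute a (x 0) := by
  have hx0 : x 0 ∈ Y x 0 1 := x_mem_Y x le_rfl (by norm_num)
  have hc1 : a * x 1 * a⁻¹ = x 1 := by
    have := (r2_central T ha).eq
    rw [← this, mul_inv_cancel_right]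
  rcases r2_elems T (hN _ hx0) with h1 | h1 | h1 | h1
  · exfalso
    apply T.ne 0
    have : x 0 = a⁻¹ * (a * x 0 * a⁻¹) * a := by group
    rw [this, h1]; group
  · exfalso
    apply r2_x0_ne_x1 T
    have := h1.trans hc1.symm
    simpa using this
  · have : a * x 0 = x 0 * a := by
      have := congrArg (· * a) h1
      simpa [mul_assoc] using this
    exact this
  · exfalso
    -- the 2-element `s = a ^ n`
    obtain ⟨j, hj⟩ := hn
    set s := a ^ n with hs
    have hsY : s ∈ Y x 0 2 := Subgroup.pow_mem _ ha n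
    have hcard2 : Nat.card (Y x 0 2) = n * 2 ^ 2 := T.cardP
    have hs4 : s ^ 4 = 1 := by
      have h1' : (⟨a, ha⟩ : Y x 0 2) ^ Nat.card (Y x 0 2) = 1 := pow_card_eq_one'
      have h2' : a ^ Nat.card (Y x 0 2) = 1 := by
        have := congrArg Subtype.val h1'
        rwa [SubmonoidClass.coe_pow, OneMemClass.coe_one] at this
      rw [hs, ← pow_mul]
      rw [hcard2] at h2'
      simpa using h2'
    have hsc : s * x 0 * s⁻¹ = x 0 * x 1 := by
      rw [hs, hj]
      exact r2_odd_pow h1 hc1 (T.sq 1) j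
    -- `s` normalises `P = Y x 0 1`
    have hsN : Subgroup.zpowers s ≤ Subgroup.normalizer ((Y x 0 1 : Subgroup G) : Set G) := by
      rw [Subgroup.zpowers_le]
      have haN : a ∈ Subgroup.normalizer ((Y x 0 1 : Subgroup G) : Set G) := by
        rw [Subgroup.mem_normalizer_iff]
        intro y
        constructor
        · intro hy; exact hN y hy
        · intro hy
          -- conjugation by `a` is injective on the finite set `P`
          have hinj : Function.Injective (fun y : Y x 0 1 => (⟨a * y * a⁻¹, hN y y.2⟩ : Y x 0 1)) := by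
            intro y1 y2 he
            have := congrArg Subtype.val he
            simp only [mul_left_inj, mul_right_inj] at this
            exact Subtype.ext this
          have hsur := Finite.surjective_of_injective hinj
          obtain ⟨y', hy'⟩ := hsur ⟨a * y * a⁻¹, hy⟩
          have := congrArg Subtype.val hy'
          simp only [mul_left_inj, mul_right_inj] at this
          rw [← this]; exact y'.2
      exact Subgroup.pow_mem _ haN n
    have hP2 : IsPGroup 2 (Y x 0 1) := by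
      have := T.card 0 1 (by norm_num) (by norm_num)
      exact IsPGroup.of_card (n := 2) (by simpa using this)
    have hZ2 : IsPGroup 2 (Subgroup.zpowers s) := by
      apply IsPGroup.of_card_dvd_pow (n := 2)
      rw [Nat.card_zpowers]
      exact orderOf_dvd_of_pow_eq_one (by simpa using hs4)
    have hS2 : IsPGroup 2 (Subgroup.zpowers s ⊔ Y x 0 1 : Subgroup G) :=
      IsPGroup.to_sup_of_normal_right' hZ2 hP2 hsN
    have hSle : (Subgroup.zpowers s ⊔ Y x 0 1 : Subgroup G) ≤ Y x 0 2 := by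
      apply sup_le
      · rw [Subgroup.zpowers_le]; exact hsY
      · exact Y_mono x le_rfl (by norm_num)
    haveI : Fact (Nat.Prime 2) := ⟨Nat.prime_two⟩
    obtain ⟨m, hm⟩ := (IsPGroup.iff_card).1 hS2
    have hdvd : 2 ^ m ∣ n * 2 ^ 2 := by
      rw [← hm, ← hcard2]
      exact Subgroup.card_dvd_of_le hSle
    have hcop : Nat.Coprime (2 ^ m) n := by
      apply Nat.Coprime.pow_left
      rw [Nat.coprime_two_left]
      exact ⟨j, hj⟩
    have hdvd4 : 2 ^ m ∣ 2 ^ 2 := hcop.dvd_of_dvd_mul_left hdvd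
    have hcardP : Nat.card (Y x 0 1) = 2 ^ 2 := by
      have := T.card 0 1 (by norm_num) (by norm_num)
      simpa using this
    have hle : Nat.card (Subgroup.zpowers s ⊔ Y x 0 1 : Subgroup G) ≤ Nat.card (Y x 0 1) := by
      rw [hm, hcardP]
      exact Nat.le_of_dvd (by norm_num) hdvd4
    have heq : Y x 0 1 = (Subgroup.zpowers s ⊔ Y x 0 1 : Subgroup G) :=
      Subgroup.eq_of_le_of_card_ge le_sup_right hle
    have hsP : s ∈ Y x 0 1 := by
      rw [heq]
      exact (le_sup_left : Subgroup.zpowers s ≤ _) (Subgroup.mem_zpowers s)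
    -- but `P` is abelian
    have hcomm : Commute s (x 0) := by
      have h01 : Commute (x 0) (x 1) := T.commute_succ le_rfl 0
      rcases r2_elems T hsP with e | e | e | e
      · rw [e]; exact Commute.one_left _
      · rw [e]; exact h01.symm
      · rw [e]
      · rw [e]; exact (Commute.refl (x 0)).mul_left h01.symm
    have : s * x 0 * s⁻¹ = x 0 := by
      rw [hcomm.eq, mul_inv_cancel_right]
    rw [this] at hsc
    apply T.ne 1
    have := congrArg (fun t => (x 0)⁻¹ * t) hsc
    simpa using this.symm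

/-- `⟨x 0, x 1⟩` is a Klein four-group. -/
theorem r2_klein (T : TSn x h 2 n) : IsKleinFour (Y x 0 1) := by
  have hcardP : Nat.card (Y x 0 1) = 4 := by
    have := T.card 0 1 (by norm_num) (by norm_num)
    simpa using this
  refine ⟨hcardP, ?_⟩
  have hsq : ∀ g : Y x 0 1, g ^ 2 = 1 := by
    intro g
    have := T.sq_of_mem (T.ab_two le_rfl) (p := 0) (q := 1) (by norm_num) g.2
    apply Subtype.ext
    simpa [pow_two] using this
  have hd : Monoid.exponent (Y x 0 1) ∣ 2 := Monoid.exponent_dvd_of_forall_pow_eq_one hsq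
  rcases (Nat.dvd_prime Nat.prime_two).1 hd with h1 | h2
  · exfalso
    have : Subsingleton (Y x 0 1) := Monoid.exp_eq_one_iff.1 h1
    have : Nat.card (Y x 0 1) ≤ 1 := Finite.card_le_one_iff_subsingleton.2 this
    omega
  · exact h2

instance r2_klein_prod :
    IsKleinFour (Multiplicative (ZMod 2) × Multiplicative (ZMod 2)) where
  card_four := by
    rw [Nat.card_prod]
    simp
  exponent_two := by
    rw [Monoid.exponent_prod]
    have : Monoid.exponent (Multiplicative (ZMod 2)) = 2 := by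
      rw [Monoid.exponent_multiplicative, ZMod.exponent]
    rw [this]
    rfl

/-- **R2**: the case `k = 2`. -/
theorem r_two {k : ℕ} (T : TSn x h k n) (hn : Odd n) (hk : k = 2) :
    Nonempty (↥(Y x 0 k) ⧸ Cfsg.oddCore ↥(Y x 0 k) ≃*
      Multiplicative (ZMod 2) × Multiplicative (ZMod 2)) := by
  subst hk
  haveI : Fact (Nat.Prime 2) := ⟨Nat.prime_two⟩
  have hle : Y x 0 1 ≤ Y x 0 (2 : ℕ) := Y_mono x le_rfl (by norm_num)
  have hcardX : Nat.card (Y x 0 (2 : ℕ)) = n * 2 ^ 2 := T.cardP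
  have hcardP : Nat.card (Y x 0 1) = 2 ^ 2 := by
    have := T.card 0 1 (by norm_num) (by norm_num)
    simpa using this
  -- the Sylow 2-subgroup
  set P' : Subgroup (Y x 0 (2 : ℕ)) := (Y x 0 1).subgroupOf (Y x 0 (2 : ℕ)) with hP'
  have hcardP' : Nat.card P' = 2 ^ 2 := by
    rw [← hcardP]
    exact Nat.card_congr (Subgroup.subgroupOfEquivOfLe hle).toEquiv
  have hP2 : IsPGroup 2 P' := IsPGroup.of_card hcardP'
  have hidx : P'.index = n := by
    have := P'.card_mul_index
    rw [hcardP', hcardX] at this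
    have h4 : (0 : ℕ) < 2 ^ 2 := by norm_num
    nlinarith [this]
  have hnd : ¬ 2 ∣ P'.index := by
    rw [hidx]
    intro h2
    obtain ⟨j, hj⟩ := hn
    omega
  set PS : Sylow 2 (Y x 0 (2 : ℕ)) := hP2.toSylow hnd with hPS
  have hPScoe : (PS : Subgroup (Y x 0 (2 : ℕ))) = P' := IsPGroup.toSylow_coe hP2 hnd
  -- normaliser ≤ centraliser
  have hNC : Subgroup.normalizer ((PS : Subgroup (Y x 0 (2 : ℕ))) : Set (Y x 0 (2 : ℕ))) ≤
      Subgroup.centralizer ((PS : Subgroup (Y x 0 (2 : ℕ))) : Set (Y x 0 (2 : ℕ))) := by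
    rw [hPScoe]
    intro g hg
    rw [Subgroup.mem_normalizer_iff] at hg
    have hN : ∀ y ∈ Y x 0 1, (g : G) * y * (g : G)⁻¹ ∈ Y x 0 1 := by
      intro y hy
      have h1 := (hg ⟨y, hle hy⟩).1 (by rw [hP', Subgroup.mem_subgroupOf]; exact hy)
      rw [hP', Subgroup.mem_subgroupOf] at h1
      simpa using h1
    have hc0 : Commute (g : G) (x 0) := r2_norm T hn g.2 hN
    have hc1 : Commute (g : G) (x 1) := (r2_central T g.2).symm
    rw [Subgroup.mem_centralizer_iff]
    intro y hy
    have hy' : (y : G) ∈ Y x 0 1 := by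
      rw [SetLike.mem_coe, hP', Subgroup.mem_subgroupOf] at hy
      exact hy
    have hcy : Commute (g : G) (y : G) := by
      refine commute_of_forall x (p := 0) (q := 1) ?_ hy'
      intro i h0 h1
      have hi : i = 0 ∨ i = 1 := by omega
      rcases hi with rfl | rfl
      · exact hc0
      · exact hc1
    apply Subtype.ext
    simpa using hcy.eq.symm
  -- Burnside's transfer theorem
  have hcompl := MonoidHom.ker_transferSylow_isComplement' PS hNC
  set K : Subgroup (Y x 0 (2 : ℕ)) := (MonoidHom.transferSylow PS hNC).ker with hK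
  have hcardK : Nat.card K = n := by
    have := hcompl.card_mul_card
    rw [hPScoe, hcardP', hcardX] at this
    nlinarith [this]
  have hKcop : (Nat.card K).Coprime 2 := by
    rw [hcardK, Nat.coprime_two_right]
    exact hn
  have hKle : K ≤ Cfsg.oddCore (Y x 0 (2 : ℕ)) := le_pPrimeCore (by rw [hK]; infer_instance) hKcop
  have hOcop : (Nat.card (Cfsg.oddCore (Y x 0 (2 : ℕ)))).Coprime 2 := pPrimeCore_coprime 2
  have hOdvd : Nat.card (Cfsg.oddCore (Y x 0 (2 : ℕ))) ∣ n * 2 ^ 2 := by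
    rw [← hcardX]
    exact Subgroup.card_subgroup_dvd_card _
  have hOle : Nat.card (Cfsg.oddCore (Y x 0 (2 : ℕ))) ≤ Nat.card K := by
    rw [hcardK]
    have h2 : Nat.card (Cfsg.oddCore (Y x 0 (2 : ℕ))) ∣ n :=
      (Nat.Coprime.pow_right 2 hOcop).dvd_of_dvd_mul_right hOdvd
    have hnpos : 0 < n := by
      obtain ⟨j, hj⟩ := hn
      omega
    exact Nat.le_of_dvd hnpos h2
  have hKO : K = Cfsg.oddCore (Y x 0 (2 : ℕ)) := Subgroup.eq_of_le_of_card_ge hKle hOle
  haveI hKn : K.Normal := by rw [hK]; infer_instance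
  have e1 : (Y x 0 (2 : ℕ)) ⧸ K ≃* (PS : Subgroup (Y x 0 (2 : ℕ))) :=
    Subgroup.IsComplement'.QuotientMulEquiv hcompl.symm
  have e0 : (Y x 0 (2 : ℕ)) ⧸ Cfsg.oddCore (Y x 0 (2 : ℕ)) ≃* (Y x 0 (2 : ℕ)) ⧸ K :=
    QuotientGroup.quotientMulEquivOfEq hKO.symm
  have e2 : (PS : Subgroup (Y x 0 (2 : ℕ))) ≃* Y x 0 1 := by
    rw [hPScoe]
    exact Subgroup.subgroupOfEquivOfLe hle
  haveI := r2_klein T
  obtain ⟨e3⟩ := IsKleinFour.nonempty_mulEquiv (G₁ := Y x 0 1)
    (G₂ := Multiplicative (ZMod 2) × Multiplicative (ZMod 2))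
  exact ⟨((e0.trans e1).trans e2).trans e3⟩

end Cfsg.Agent.Lib.Helper8.GDih
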