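import Mathlib

set_option autoImplicit false

namespace Cfsg.Agent.Lib.Helper5.OAut

section lifting

variable {G : Type*} [Group G] [Finite G] {𝔊 : Type*} [Group 𝔊] (p : ℕ) [Fact p.Prime]

/-- a surjection whose kernel is the centre -/
structure CQ (ρ : G →* 𝔊) : Prop where
  surj : Function.Surjective ρ
  ker : ∀ x : G, ρ x = 1 ↔ x ∈ Subgroup.center G

theorem cq_mk' : CQ (QuotientGroup.mk' (Subgroup.center G)) where
  surj := QuotientGroup.mk'_surjective _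
  ker := fun x => by
    show (QuotientGroup.mk x : G ⧸ Subgroup.center G) = 1 ↔ _
    rw [QuotientGroup.eq_one_iff]

variable {ρ : G →* 𝔊}

theorem center_pow_eq_one (hcop : (Nat.card (Subgroup.center G)).Coprime p) {z : G}
    (hz : z ∈ Subgroup.center G) (hzp : z ^ p = 1) : z = 1 := by
  have h1 : orderOf z ∣ p := orderOf_dvd_of_pow_eq_one hzp
  have h2 : orderOf z ∣ Nat.card (Subgroup.center G) := by
    have := orderOf_dvd_natCard (⟨z, hz⟩ : Subgroup.center G)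
    rwa [Subgroup.orderOf_mk] at this
  have h3 : orderOf z ∣ 1 := by
    have := Nat.dvd_gcd h2 h1
    rwa [hcop] at this
  exact orderOf_eq_one_iff.1 (Nat.dvd_one.1 h3)

/-- the projection is injective on elements of order dividing `p` -/
theorem eq_of_pow (hcop : (Nat.card (Subgroup.center G)).Coprime p) {x y : G}
    (hρ : CQ ρ)
    (hx : x ^ p = 1) (hy : y ^ p = 1) (h : ρ x = ρ y) : x = y := by
  have hz : y⁻¹ * x ∈ Subgroup.center G := by
    rw [← hρ.ker, map_mul, map_inv, h, inv_mul_cancel]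
  have hcomm : Commute y (y⁻¹ * x) := ((Subgroup.mem_center_iff.1 hz) y)
  have h1 : (y⁻¹ * x) ^ p = 1 := by
    have h2 : x = y * (y⁻¹ * x) := by group
    have h3 : x ^ p = y ^ p * (y⁻¹ * x) ^ p := by
      conv_lhs => rw [h2]
      exact hcomm.mul_pow p
    rw [hx, hy, one_mul] at h3
    exact h3.symm
  have h4 := center_pow_eq_one p hcop hz h1
  rw [inv_mul_eq_one] at h4
  exact h4.symm

theorem comm_of_pow (hcop : (Nat.card (Subgroup.center G)).Coprime p) {x y : G}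
    (hρ : CQ ρ)
    (hy : y ^ p = 1) (h : ρ x * ρ y = ρ y * ρ x) : x * y = y * x := by
  have hc : x * y * x⁻¹ * y⁻¹ ∈ Subgroup.center G := by
    rw [← hρ.ker, map_mul, map_mul, map_mul, map_inv, map_inv, h]
    group
  obtain ⟨c, hcdef⟩ : ∃ c, c = x * y * x⁻¹ * y⁻¹ := ⟨_, rfl⟩
  rw [← hcdef] at hc
  have h1 : x * y * x⁻¹ = c * y := by rw [hcdef]; group
  have hcy : Commute c y := ((Subgroup.mem_center_iff.1 hc) y).symm
  have h2 : (x * y * x⁻¹) ^ p = c ^ p * y ^ p := by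
    rw [h1]
    exact hcy.mul_pow p
  have h3 : (x * y * x⁻¹) ^ p = x * y ^ p * x⁻¹ := conj_pow
  rw [h3, hy, mul_one, mul_inv_cancel, mul_one] at h2
  have h4 := center_pow_eq_one p hcop hc h2.symm
  rw [h4, one_mul] at h1
  calc x * y = x * y * x⁻¹ * x := by group
    _ = y * x := by rw [h1]

/-- the lift of an abelian subgroup of exponent `p` of the central quotient -/
def liftP (hcop : (Nat.card (Subgroup.center G)).Coprime p) (hρ : CQ ρ) (𝔄 : Subgroup 𝔊)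
    (hab : ∀ a ∈ 𝔄, ∀ b ∈ 𝔄, a * b = b * a) : Subgroup G where
  carrier := {x | ρ x ∈ 𝔄 ∧ x ^ p = 1}
  mul_mem' := by
    rintro x y ⟨hx, hxp⟩ ⟨hy, hyp⟩
    refine ⟨by rw [map_mul]; exact 𝔄.mul_mem hx hy, ?_⟩
    have hc : Commute x y := comm_of_pow p hcop hρ hyp (hab _ hx _ hy)
    rw [hc.mul_pow, hxp, hyp, one_mul]
  one_mem' := ⟨by rw [map_one]; exact 𝔄.one_mem, one_pow p⟩
  inv_mem' := by
    rintro x ⟨hx, hxp⟩
    exact ⟨by rw [map_inv]; exact 𝔄.inv_mem hx, by rw [inv_pow, hxp, inv_one]⟩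

theorem mem_liftP (hcop : (Nat.card (Subgroup.center G)).Coprime p)
    (hρ : CQ ρ) (𝔄 : Subgroup 𝔊) (hab : ∀ a ∈ 𝔄, ∀ b ∈ 𝔄, a * b = b * a) (x : G) :
    x ∈ liftP p hcop hρ 𝔄 hab ↔ ρ x ∈ 𝔄 ∧ x ^ p = 1 := Iff.rfl

theorem liftP_comm (hcop : (Nat.card (Subgroup.center G)).Coprime p)
    (hρ : CQ ρ) (𝔄 : Subgroup 𝔊) (hab : ∀ a ∈ 𝔄, ∀ b ∈ 𝔄, a * b = b * a) {x y : G}
    (hx : x ∈ liftP p hcop hρ 𝔄 hab) (hy : y ∈ liftP p hcop hρ 𝔄 hab) : x * y = y * x :=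
  comm_of_pow p hcop hρ hy.2 (hab _ hx.1 _ hy.1)

theorem map_liftP (hcop : (Nat.card (Subgroup.center G)).Coprime p)
    (hρ : CQ ρ) (𝔄 : Subgroup 𝔊) (hab : ∀ a ∈ 𝔄, ∀ b ∈ 𝔄, a * b = b * a)
    (hexp : ∀ a ∈ 𝔄, a ^ p = 1) : (liftP p hcop hρ 𝔄 hab).map ρ = 𝔄 := by
  apply le_antisymm
  · rintro _ ⟨x, hx, rfl⟩
    exact hx.1
  · intro a ha
    obtain ⟨x, rfl⟩ := hρ.surj a
    have hxz : x ^ p ∈ Subgroup.center G := by
      rw [← hρ.ker, map_pow]
      exact hexp _ ha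
    -- a `p`-th root of `x ^ p` inside the centre
    obtain ⟨z, hz⟩ := (powCoprime hcop).surjective ⟨x ^ p, hxz⟩
    have hz' : (z : G) ^ p = x ^ p := by
      have := congrArg (fun t : Subgroup.center G => (t : G)) hz
      simpa using this
    have hzc : Commute x ((z : G)⁻¹) :=
      ((Subgroup.mem_center_iff.1 ((Subgroup.center G).inv_mem z.2)) x)
    refine ⟨x * (z : G)⁻¹, ⟨?_, ?_⟩, ?_⟩
    · rw [map_mul, map_inv, (hρ.ker (z : G)).2 z.2, inv_one, mul_one]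
      exact ha
    · rw [hzc.mul_pow, inv_pow, hz', mul_inv_cancel]
    · rw [map_mul, map_inv, (hρ.ker (z : G)).2 z.2, inv_one, mul_one]

theorem liftP_conj (hcop : (Nat.card (Subgroup.center G)).Coprime p)
    (hρ : CQ ρ) (𝔄 : Subgroup 𝔊) (hab : ∀ a ∈ 𝔄, ∀ b ∈ 𝔄, a * b = b * a) {g : G}
    (hg : ∀ a ∈ 𝔄, ρ g * a * (ρ g)⁻¹ ∈ 𝔄) {x : G} (hx : x ∈ liftP p hcop hρ 𝔄 hab) :
    g * x * g⁻¹ ∈ liftP p hcop hρ 𝔄 hab := by
  refine ⟨by rw [map_mul, map_mul, map_inv]; exact hg _ hx.1, ?_⟩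
  rw [conj_pow, hx.2, mul_one, mul_inv_cancel]

/-- a subgroup of exponent `p` is recovered from its image -/
theorem liftP_map (hcop : (Nat.card (Subgroup.center G)).Coprime p) (hρ : CQ ρ) (B : Subgroup G)
    (hexp : ∀ b ∈ B, b ^ p = 1) (hab : ∀ a ∈ B.map ρ, ∀ b ∈ B.map ρ, a * b = b * a) :
    liftP p hcop hρ (B.map ρ) hab = B := by
  ext x
  constructor
  · rintro ⟨⟨b, hb, hbx⟩, hxp⟩
    have := eq_of_pow p hcop hρ (hexp b hb) hxp hbx
    rw [← this]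
    exact hb
  · intro hx
    exact ⟨⟨x, hx, rfl⟩, hexp x hx⟩

end lifting

end Cfsg.Agent.Lib.Helper5.OAut
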