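import Mathlib
import Cfsg.Agent.Lib.Helper2.LongRoot18

set_option autoImplicit false

namespace Cfsg.Agent.Lib.Helper5.OAut

open Matrix Cfsg.Agent.Lib.Helper2 Cfsg.Agent.Lib.Helper2.ReflGen Cfsg.Agent.Lib.Helper2.CDG
open Cfsg.Agent.Lib.Helper2.Siegel Cfsg.Agent.Lib.Helper2.LongRoot

variable {F : Type*} [Field F] {ι : Type} [Fintype ι] [DecidableEq ι]
variable {Q : QuadraticForm F (ι → F)}

/-- the isometry group as a type -/
abbrev OG (Q : QuadraticForm F (ι → F)) := ↥(Cfsg.isometryGroup F ⇑Q)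

set_option quotPrecheck false in
local notation "β" => QuadraticMap.polar (⇑Q)

theorem smul_def (g : OG Q) (x : ι → F) :
    g • x = ((g : Matrix.GeneralLinearGroup ι F) : Matrix ι ι F) *ᵥ x := rfl

theorem Q_smul (g : OG Q) (x : ι → F) : Q (g • x) = Q x := iso_Q g x

theorem polar_smul_smul (g : OG Q) (x y : ι → F) : β (g • x) (g • y) = β x y := iso_polar g x y

theorem polar_smul_left_inv (g : OG Q) (x y : ι → F) : β (g • x) y = β x (g⁻¹ • y) := by
  have h := polar_smul_smul g x (g⁻¹ • y)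
  rw [smul_inv_smul] at h
  exact h

theorem polar_smul_right_inv (g : OG Q) (x y : ι → F) : β x (g • y) = β (g⁻¹ • x) y := by
  have h := polar_smul_smul g (g⁻¹ • x) y
  rw [smul_inv_smul] at h
  exact h

theorem ext_smul {g h : OG Q} (H : ∀ x : ι → F, g • x = h • x) : g = h := iso_ext H

theorem polar_self_sing {u : ι → F} (hu : Q u = 0) : β u u = 0 := by
  rw [ReflGen.polar_self, hu, mul_zero]

/-- the matrix of the Siegel transformation `E(u, w)` -/
def eMat (Q : QuadraticForm F (ι → F)) (u w : ι → F) : Matrix ι ι F :=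
  1 + Matrix.vecMulVec w (Cfsg.polarVec (⇑Q) u) - Matrix.vecMulVec u (Cfsg.polarVec (⇑Q) w)
    - Q w • Matrix.vecMulVec u (Cfsg.polarVec (⇑Q) u)

theorem eMat_mulVec (u w x : ι → F) :
    eMat Q u w *ᵥ x = x + β u x • w - β w x • u - (Q w * β u x) • u := by
  unfold eMat
  rw [Matrix.sub_mulVec, Matrix.sub_mulVec, Matrix.add_mulVec, Matrix.one_mulVec,
    Matrix.smul_mulVec, vecMulVec_polarVec_mulVec, vecMulVec_polarVec_mulVec,
    vecMulVec_polarVec_mulVec, smul_smul]

theorem Q_formula (u w x : ι → F) (hu : Q u = 0) (huw : β u w = 0) (a b : F) :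
    Q (x + a • w - b • u) = Q x + a * a * Q w + a * β x w - b * β x u := by
  have e : x + a • w - b • u = (x + a • w) + (-b) • u := by
    rw [neg_smul, sub_eq_add_neg]
  rw [e, map_add_smul, map_add_smul, hu, QuadraticMap.polar_add_left,
    QuadraticMap.polar_smul_left, QuadraticMap.polar_comm (⇑Q) w u, huw]
  simp only [smul_eq_mul]
  ring

theorem eMat_preserves (u w : ι → F) (hu : Q u = 0) (huw : β u w = 0) (x : ι → F) :
    Q (eMat Q u w *ᵥ x) = Q x := by
  have e : eMat Q u w *ᵥ x = x + β u x • w - (β w x + Q w * β u x) • u := by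
    rw [eMat_mulVec, add_smul]
    abel
  rw [e, Q_formula u w x hu huw, QuadraticMap.polar_comm (⇑Q) x w,
    QuadraticMap.polar_comm (⇑Q) x u]
  ring

/-- the Siegel transformation `E(u, w)` (total version: trivial unless `Q u = 0`, `u ⊥ w`) -/
noncomputable def Es (hQ : (QuadraticMap.polarBilin Q).Nondegenerate) (u w : ι → F) : OG Q :=
  open Classical in
  if h : Q u = 0 ∧ β u w = 0 then mkIso hQ (eMat Q u w) (eMat_preserves u w h.1 h.2) else 1

theorem Es_smul (hQ : (QuadraticMap.polarBilin Q).Nondegenerate) {u w : ι → F}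
    (hu : Q u = 0) (huw : β u w = 0) (x : ι → F) :
    Es hQ u w • x = x + β u x • w - β w x • u - (Q w * β u x) • u := by
  unfold Es
  rw [dif_pos ⟨hu, huw⟩, smul_def, mkIso_coe, eMat_mulVec]

theorem Es_of_not (hQ : (QuadraticMap.polarBilin Q).Nondegenerate) {u w : ι → F}
    (h : ¬ (Q u = 0 ∧ β u w = 0)) : Es hQ u w = 1 := by
  unfold Es
  rw [dif_neg h]

theorem Es_smul_self (hQ : (QuadraticMap.polarBilin Q).Nondegenerate) {u w : ι → F}
    (hu : Q u = 0) (huw : β u w = 0) : Es hQ u w • u = u := by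
  rw [Es_smul hQ hu huw, polar_self_sing hu, QuadraticMap.polar_comm (⇑Q) w u, huw]
  simp

theorem Es_smul_perp (hQ : (QuadraticMap.polarBilin Q).Nondegenerate) {u w : ι → F}
    (hu : Q u = 0) (huw : β u w = 0) {y : ι → F} (hy : β u y = 0) :
    Es hQ u w • y = y - β w y • u := by
  rw [Es_smul hQ hu huw, hy]
  simp

theorem polar_Es_smul (hQ : (QuadraticMap.polarBilin Q).Nondegenerate) {u w : ι → F}
    (hu : Q u = 0) (huw : β u w = 0) (x : ι → F) :
    β u (Es hQ u w • x) = β u x := by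
  have h := polar_smul_smul (Es hQ u w) u x
  rw [Es_smul_self hQ hu huw] at h
  exact h

theorem Es_mul (hQ : (QuadraticMap.polarBilin Q).Nondegenerate) {u w w' : ι → F}
    (hu : Q u = 0) (huw : β u w = 0) (huw' : β u w' = 0) :
    Es hQ u w * Es hQ u w' = Es hQ u (w + w') := by
  have huww' : β u (w + w') = 0 := by rw [QuadraticMap.polar_add_right, huw, huw', add_zero]
  apply ext_smul
  intro x
  rw [mul_smul, Es_smul hQ hu huw, polar_Es_smul hQ hu huw', Es_smul hQ hu huw',
    Es_smul hQ hu huww', QuadraticMap.map_add Q w w']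
  simp only [QuadraticMap.polar_add_right, QuadraticMap.polar_sub_right,
    QuadraticMap.polar_smul_right, QuadraticMap.polar_add_left, smul_eq_mul,
    QuadraticMap.polar_comm (⇑Q) w u, huw, mul_zero, sub_zero]
  module

theorem Es_zero (hQ : (QuadraticMap.polarBilin Q).Nondegenerate) (u : ι → F) :
    Es hQ u 0 = 1 := by
  by_cases hu : Q u = 0
  · apply ext_smul
    intro x
    rw [Es_smul hQ hu (by simp), one_smul]
    simp
  · exact Es_of_not hQ (fun h => hu h.1)

theorem Es_self_smul (hQ : (QuadraticMap.polarBilin Q).Nondegenerate) {u : ι → F}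
    (hu : Q u = 0) (c : F) : Es hQ u (c • u) = 1 := by
  have h0 : β u (c • u) = 0 := by
    rw [QuadraticMap.polar_smul_right, polar_self_sing hu, smul_zero]
  apply ext_smul
  intro x
  rw [Es_smul hQ hu h0, one_smul, QuadraticMap.map_smul, hu, QuadraticMap.polar_smul_left]
  simp only [smul_eq_mul, mul_zero, zero_mul, zero_smul, sub_zero]
  module

theorem Es_inv (hQ : (QuadraticMap.polarBilin Q).Nondegenerate) {u w : ι → F}
    (hu : Q u = 0) (huw : β u w = 0) : (Es hQ u w)⁻¹ = Es hQ u (-w) := by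
  have h' : β u (-w) = 0 := by rw [QuadraticMap.polar_neg_right, huw, neg_zero]
  rw [inv_eq_iff_mul_eq_one, Es_mul hQ hu huw h', add_neg_cancel, Es_zero]

theorem conj_Es (hQ : (QuadraticMap.polarBilin Q).Nondegenerate) (g : OG Q) {u w : ι → F}
    (hu : Q u = 0) (huw : β u w = 0) :
    g * Es hQ u w * g⁻¹ = Es hQ (g • u) (g • w) := by
  have hu' : Q (g • u) = 0 := by rw [Q_smul, hu]
  have huw' : β (g • u) (g • w) = 0 := by rw [polar_smul_smul, huw]
  apply ext_smul
  intro x
  rw [mul_smul, mul_smul, Es_smul hQ hu huw, Es_smul hQ hu' huw', Q_smul,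
    polar_smul_left_inv g u x, polar_smul_left_inv g w x]
  simp only [smul_add, smul_sub, smul_inv_smul, smul_comm g _ _]

theorem Es_smul_left (hQ : (QuadraticMap.polarBilin Q).Nondegenerate) {u w : ι → F}
    (hu : Q u = 0) (huw : β u w = 0) (c : F) : Es hQ (c • u) w = Es hQ u (c • w) := by
  have hu' : Q (c • u) = 0 := by rw [QuadraticMap.map_smul, hu, smul_zero]
  have h1 : β (c • u) w = 0 := by rw [QuadraticMap.polar_smul_left, huw, smul_zero]
  have h2 : β u (c • w) = 0 := by rw [QuadraticMap.polar_smul_right, huw, smul_zero]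
  apply ext_smul
  intro x
  rw [Es_smul hQ hu' h1, Es_smul hQ hu h2, QuadraticMap.map_smul]
  simp only [QuadraticMap.polar_smul_left, smul_eq_mul]
  module

theorem Es_eq_LR (hQ : (QuadraticMap.polarBilin Q).Nondegenerate) {u w : ι → F}
    (hu : Q u = 0) (hw : Q w = 0) (huw : β u w = 0) (c : F) :
    Es hQ u (c • w) = LR hQ u w hu hw huw c := by
  have h2 : β u (c • w) = 0 := by rw [QuadraticMap.polar_smul_right, huw, smul_zero]
  apply ext_smul
  intro x
  rw [Es_smul hQ hu h2, smul_def (LR hQ u w hu hw huw c), LR_mulVec, QuadraticMap.map_smul, hw]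
  simp only [QuadraticMap.polar_smul_left, smul_eq_mul, mul_zero, zero_mul, zero_smul, sub_zero]
  module

theorem Es_mem_T (hQ : (QuadraticMap.polarBilin Q).Nondegenerate) {u w : ι → F}
    (hu : Q u = 0) (hw : Q w = 0) (huw : β u w = 0) : Es hQ u w ∈ T Q := by
  have h := Es_eq_LR hQ hu hw huw 1
  rw [one_smul] at h
  rw [h]
  exact LR_mem_T hQ u w hu hw huw 1

end Cfsg.Agent.Lib.Helper5.OAut
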