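import Mathlib
import Cfsg.Agent.Lib.Helper5.OAut1

set_option autoImplicit false

namespace Cfsg.Agent.Lib.Helper5.OAut

open Matrix Cfsg.Agent.Lib.Helper2 Cfsg.Agent.Lib.Helper2.ReflGen Cfsg.Agent.Lib.Helper2.CDG
open Cfsg.Agent.Lib.Helper2.Siegel Cfsg.Agent.Lib.Helper2.LongRoot

variable {F : Type*} [Field F] {ι : Type} [Fintype ι] [DecidableEq ι]
variable {Q : QuadraticForm F (ι → F)}

set_option quotPrecheck false in
local notation "β" => QuadraticMap.polar (⇑Q)

/-- a non-zero vector has a partner with polar value one -/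
theorem exists_dual (hQ : (QuadraticMap.polarBilin Q).Nondegenerate) {u : ι → F} (hu0 : u ≠ 0) :
    ∃ f : ι → F, β u f = 1 := by
  have h1 : ∃ y, β u y ≠ 0 := by
    by_contra hcon
    push Not at hcon
    exact hu0 (hQ.1 u hcon)
  obtain ⟨y, hy⟩ := h1
  exact ⟨(β u y)⁻¹ • y, by rw [QuadraticMap.polar_smul_right, smul_eq_mul, inv_mul_cancel₀ hy]⟩

/-- a vector orthogonal to the perp of `u` is a multiple of `u` -/
theorem perp_perp (hQ : (QuadraticMap.polarBilin Q).Nondegenerate) {u : ι → F} (hu0 : u ≠ 0)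
    {x : ι → F} (hx : ∀ w, β u w = 0 → β w x = 0) : ∃ c : F, x = c • u := by
  obtain ⟨f, huf⟩ := exists_dual hQ hu0
  refine ⟨β f x, ?_⟩
  have h0 : x - β f x • u = 0 := by
    apply hQ.1
    intro y
    show β (x - β f x • u) y = 0
    have hy : y = β u y • f + (y - β u y • f) := by abel
    have hperp : β u (y - β u y • f) = 0 := by
      rw [QuadraticMap.polar_sub_right, QuadraticMap.polar_smul_right, huf, smul_eq_mul, mul_one,
        sub_self]
    have h1 := hx _ hperp
    rw [QuadraticMap.polar_comm (⇑Q)] at h1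
    rw [hy, QuadraticMap.polar_add_right, QuadraticMap.polar_sub_left,
      QuadraticMap.polar_sub_left, h1, QuadraticMap.polar_smul_left,
      QuadraticMap.polar_smul_left, QuadraticMap.polar_smul_right, hperp,
      QuadraticMap.polar_smul_right, huf, QuadraticMap.polar_comm (⇑Q) x f]
    simp only [smul_eq_mul, mul_one, mul_zero, sub_zero, zero_add]
    ring
  exact sub_eq_zero.1 h0

/-- `E(u, w)` is trivial only when `w` is a multiple of `u` -/
theorem Es_eq_one_iff (hQ : (QuadraticMap.polarBilin Q).Nondegenerate) {u w : ι → F}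
    (hu0 : u ≠ 0) (hu : Q u = 0) (huw : β u w = 0) :
    Es hQ u w = 1 ↔ ∃ c : F, w = c • u := by
  constructor
  · intro h
    obtain ⟨f, huf⟩ := exists_dual hQ hu0
    have h1 : Es hQ u w • f = f := by rw [h, one_smul]
    rw [Es_smul hQ hu huw, huf] at h1
    refine ⟨β w f + Q w, ?_⟩
    have h2 : w - (β w f + Q w) • u = 0 := by
      have : f + (1 : F) • w - β w f • u - (Q w * 1) • u - f = 0 := by rw [h1, sub_self]
      rw [← this]
      module
    exact sub_eq_zero.1 h2
  · rintro ⟨c, rfl⟩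
    exact Es_self_smul hQ hu c

theorem Es_eq_iff (hQ : (QuadraticMap.polarBilin Q).Nondegenerate) {u w w' : ι → F}
    (hu0 : u ≠ 0) (hu : Q u = 0) (huw : β u w = 0) (huw' : β u w' = 0) :
    Es hQ u w = Es hQ u w' ↔ ∃ c : F, w - w' = c • u := by
  have h' : β u (-w') = 0 := by rw [QuadraticMap.polar_neg_right, huw', neg_zero]
  have h'' : β u (w - w') = 0 := by rw [QuadraticMap.polar_sub_right, huw, huw', sub_zero]
  rw [← Es_eq_one_iff hQ hu0 hu h'', sub_eq_add_neg, ← Es_mul hQ hu huw h', ← Es_inv hQ hu huw',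
    mul_inv_eq_one]

/-- the defining property of the elements of the unipotent radical `Q_u` -/
def IsQ (u : ι → F) (g : OG Q) : Prop :=
  g • u = u ∧ ∀ y : ι → F, β u y = 0 → ∃ c : F, g • y = y + c • u

theorem isQ_Es (hQ : (QuadraticMap.polarBilin Q).Nondegenerate) {u w : ι → F}
    (hu : Q u = 0) (huw : β u w = 0) : IsQ u (Es hQ u w) := by
  refine ⟨Es_smul_self hQ hu huw, fun y hy => ⟨-β w y, ?_⟩⟩
  rw [Es_smul_perp hQ hu huw hy, neg_smul, sub_eq_add_neg]

theorem isQ_one (u : ι → F) : IsQ u (1 : OG Q) :=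
  ⟨one_smul _ u, fun y _ => ⟨0, by rw [one_smul, zero_smul, add_zero]⟩⟩

theorem isQ_mul {u : ι → F} {g h : OG Q} (hg : IsQ u g) (hh : IsQ u h) : IsQ u (g * h) := by
  refine ⟨by rw [mul_smul, hh.1, hg.1], fun y hy => ?_⟩
  obtain ⟨c, hc⟩ := hh.2 y hy
  obtain ⟨c', hc'⟩ := hg.2 y hy
  refine ⟨c' + c, ?_⟩
  rw [mul_smul, hc, smul_add, hc', smul_comm g c u, hg.1, add_smul]
  abel

theorem isQ_inv {u : ι → F} {g : OG Q} (hg : IsQ u g) : IsQ u g⁻¹ := by
  have h1 : g⁻¹ • u = u := by
    rw [inv_smul_eq_iff, hg.1]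
  refine ⟨h1, fun y hy => ?_⟩
  obtain ⟨c, hc⟩ := hg.2 y hy
  refine ⟨-c, ?_⟩
  rw [inv_smul_eq_iff, smul_add, hc, smul_comm g (-c) u, hg.1, neg_smul]
  abel

/-- the structure of `Q_u`: its elements are the Siegel transformations `E(u, w)` -/
theorem exists_Es_of_isQ (hQ : (QuadraticMap.polarBilin Q).Nondegenerate) {u : ι → F}
    (hu0 : u ≠ 0) (hu : Q u = 0) {g : OG Q} (hg : IsQ u g) :
    ∃ w : ι → F, β u w = 0 ∧ g = Es hQ u w := by
  obtain ⟨f, huf, hf⟩ := Cfsg.Agent.Lib.Helper5.exists_partner Q hQ hu0 hu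
  obtain ⟨w, hw⟩ : ∃ w, w = g • f - f := ⟨_, rfl⟩
  have hgf : g • f = f + w := by rw [hw]; abel
  have huw : β u w = 0 := by
    have h1 : β u (g • f) = 1 := by
      have := polar_smul_smul g u f
      rw [hg.1, huf] at this
      exact this
    rw [hw, QuadraticMap.polar_sub_right, h1, huf, sub_self]
  have hQw : Q w + β f w = 0 := by
    have h1 : Q (g • f) = 0 := by rw [Q_smul, hf]
    rw [hgf, QuadraticMap.map_add Q f w, hf, zero_add] at h1
    exact h1
  refine ⟨w, huw, ?_⟩
  have hEf : Es hQ u w • f = g • f := by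
    rw [Es_smul hQ hu huw, huf, hgf, QuadraticMap.polar_comm (⇑Q) w f]
    have e : Q w = -β f w := by linear_combination hQw
    rw [e]
    module
  obtain ⟨h, hh⟩ : ∃ h : OG Q, h = (Es hQ u w)⁻¹ * g := ⟨_, rfl⟩
  have hhQ : IsQ u h := by
    rw [hh]
    exact isQ_mul (isQ_inv (isQ_Es hQ hu huw)) hg
  have hhf : h • f = f := by
    rw [hh, mul_smul, ← hEf, inv_smul_smul]
  have hh1 : h = 1 := by
    apply ext_smul
    intro x
    rw [one_smul]
    obtain ⟨y, hy⟩ : ∃ y, y = x - β f x • u - β u x • f := ⟨_, rfl⟩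
    have hx : x = β f x • u + β u x • f + y := by rw [hy]; abel
    have hyu : β u y = 0 := by
      rw [hy, QuadraticMap.polar_sub_right, QuadraticMap.polar_sub_right,
        QuadraticMap.polar_smul_right, QuadraticMap.polar_smul_right, polar_self_sing hu, huf]
      simp
    have hyf : β f y = 0 := by
      rw [hy, QuadraticMap.polar_sub_right, QuadraticMap.polar_sub_right,
        QuadraticMap.polar_smul_right, QuadraticMap.polar_smul_right, polar_self_sing hf,
        QuadraticMap.polar_comm (⇑Q) f u, huf]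
      simp
    obtain ⟨c, hc⟩ := hhQ.2 y hyu
    have hc0 : c = 0 := by
      have h1 := polar_smul_smul h f y
      rw [hhf, hc, QuadraticMap.polar_add_right, QuadraticMap.polar_smul_right,
        QuadraticMap.polar_comm (⇑Q) f u, huf, hyf] at h1
      simpa using h1
    rw [hc0, zero_smul, add_zero] at hc
    rw [hx, smul_add, smul_add, smul_comm h _ u, smul_comm h _ f, hhQ.1, hhf, hc]
  rw [hh, inv_mul_eq_one] at hh1
  exact hh1.symm

end Cfsg.Agent.Lib.Helper5.OAut
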