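import Mathlib
import Cfsg.Agent.Lib.Helper5.OAut2

set_option autoImplicit false

namespace Cfsg.Agent.Lib.Helper5.OAut

open Matrix Cfsg.Agent.Lib.Helper2 Cfsg.Agent.Lib.Helper2.ReflGen Cfsg.Agent.Lib.Helper2.CDG
open Cfsg.Agent.Lib.Helper2.Siegel Cfsg.Agent.Lib.Helper2.LongRoot

variable {F : Type*} [Field F] {ι : Type} [Fintype ι] [DecidableEq ι]
variable {Q : QuadraticForm F (ι → F)}

set_option quotPrecheck false in
local notation "β" => QuadraticMap.polar (⇑Q)

/-- the unipotent radical `Q_u` of the stabiliser of the singular point `⟨u⟩` -/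
def Qs (Q : QuadraticForm F (ι → F)) (u : ι → F) : Subgroup (OG Q) where
  carrier := {g | IsQ u g}
  mul_mem' := fun ha hb => isQ_mul ha hb
  one_mem' := isQ_one u
  inv_mem' := fun ha => isQ_inv ha

theorem mem_Qs (u : ι → F) (g : OG Q) : g ∈ Qs Q u ↔ IsQ u g := Iff.rfl

theorem Es_mem_Qs (hQ : (QuadraticMap.polarBilin Q).Nondegenerate) {u w : ι → F}
    (hu : Q u = 0) (huw : β u w = 0) : Es hQ u w ∈ Qs Q u := isQ_Es hQ hu huw

theorem mem_Qs_iff (hQ : (QuadraticMap.polarBilin Q).Nondegenerate) {u : ι → F}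
    (hu0 : u ≠ 0) (hu : Q u = 0) (g : OG Q) :
    g ∈ Qs Q u ↔ ∃ w : ι → F, β u w = 0 ∧ g = Es hQ u w := by
  constructor
  · exact fun h => exists_Es_of_isQ hQ hu0 hu h
  · rintro ⟨w, hw, rfl⟩
    exact Es_mem_Qs hQ hu hw

theorem Qs_comm (hQ : (QuadraticMap.polarBilin Q).Nondegenerate) {u : ι → F}
    (hu0 : u ≠ 0) (hu : Q u = 0) {g h : OG Q} (hg : g ∈ Qs Q u) (hh : h ∈ Qs Q u) :
    g * h = h * g := by
  obtain ⟨w, hw, rfl⟩ := (mem_Qs_iff hQ hu0 hu g).1 hg
  obtain ⟨w', hw', rfl⟩ := (mem_Qs_iff hQ hu0 hu h).1 hh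
  rw [Es_mul hQ hu hw hw', Es_mul hQ hu hw' hw, add_comm]

theorem Es_pow (hQ : (QuadraticMap.polarBilin Q).Nondegenerate) {u w : ι → F}
    (hu : Q u = 0) (huw : β u w = 0) (k : ℕ) : Es hQ u w ^ k = Es hQ u ((k : F) • w) := by
  induction k with
  | zero => rw [pow_zero, Nat.cast_zero, zero_smul, Es_zero]
  | succ k ih =>
    have h1 : β u ((k : F) • w) = 0 := by rw [QuadraticMap.polar_smul_right, huw, smul_zero]
    rw [pow_succ, ih, Es_mul hQ hu h1 huw, Nat.cast_succ, add_smul, one_smul]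

theorem Qs_pow_char (hQ : (QuadraticMap.polarBilin Q).Nondegenerate) (p : ℕ) [CharP F p]
    {u : ι → F} (hu0 : u ≠ 0) (hu : Q u = 0) {g : OG Q} (hg : g ∈ Qs Q u) : g ^ p = 1 := by
  obtain ⟨w, hw, rfl⟩ := (mem_Qs_iff hQ hu0 hu g).1 hg
  rw [Es_pow hQ hu hw, CharP.cast_eq_zero, zero_smul, Es_zero]

/-- conjugation moves `Q_u` to `Q_{gu}` -/
theorem conj_mem_Qs (g : OG Q) {u : ι → F} {x : OG Q} (hx : x ∈ Qs Q u) :
    g * x * g⁻¹ ∈ Qs Q (g • u) := by
  refine ⟨?_, fun y hy => ?_⟩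
  · rw [mul_smul, mul_smul, inv_smul_smul, hx.1]
  · have hy' : β u (g⁻¹ • y) = 0 := by rw [← polar_smul_left_inv, hy]
    obtain ⟨c, hc⟩ := hx.2 _ hy'
    refine ⟨c, ?_⟩
    rw [mul_smul, mul_smul, hc, smul_add, smul_inv_smul, smul_comm g c u]

theorem Qs_smul (u : ι → F) {a : F} (ha : a ≠ 0) : Qs Q (a • u) = Qs Q u := by
  ext g
  rw [mem_Qs, mem_Qs]
  constructor
  · rintro ⟨h1, h2⟩
    refine ⟨?_, fun y hy => ?_⟩
    · rw [smul_comm g a u] at h1
      exact smul_right_injective _ ha h1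
    · obtain ⟨c, hc⟩ := h2 y (by rw [QuadraticMap.polar_smul_left, hy, smul_zero])
      exact ⟨c * a, by rw [hc, smul_smul]⟩
  · rintro ⟨h1, h2⟩
    refine ⟨by rw [smul_comm g a u, h1], fun y hy => ?_⟩
    have hy' : β u y = 0 := by
      rw [QuadraticMap.polar_smul_left, smul_eq_mul] at hy
      rcases mul_eq_zero.1 hy with h | h
      · exact absurd h ha
      · exact h
    obtain ⟨c, hc⟩ := h2 y hy'
    exact ⟨c * a⁻¹, by rw [hc, smul_smul, mul_assoc, inv_mul_cancel₀ ha, mul_one]⟩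

/-- every Siegel transformation lies in the group generated by the long root elements -/
theorem Es_mem_T_all [Fintype F] (hQ : (QuadraticMap.polarBilin Q).Nondegenerate)
    (hn : 5 ≤ Fintype.card ι) {u w : ι → F} (hu0 : u ≠ 0) (hu : Q u = 0) (huw : β u w = 0) :
    Es hQ u w ∈ T Q := by
  obtain ⟨p, p', hp, hp', hpp', hpu, hp'u⟩ := exists_hyp_perp1 hQ hn u hu0 hu
  have hup : β u p = 0 := by rw [QuadraticMap.polar_comm (⇑Q), hpu]
  have hup' : β u p' = 0 := by rw [QuadraticMap.polar_comm (⇑Q), hp'u]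
  have hpp : β p p = 0 := polar_self_sing hp
  have hp'p' : β p' p' = 0 := polar_self_sing hp'
  have hp'p : β p' p = 1 := by rw [QuadraticMap.polar_comm (⇑Q), hpp']
  -- scalar multiples of singular vectors
  have hsing : ∀ (s : ι → F) (c : F), Q s = 0 → β u s = 0 → Es hQ u (c • s) ∈ T Q := by
    intro s c hs hus
    rw [Es_eq_LR hQ hu hs hus c]
    exact LR_mem_T hQ u s hu hs hus c
  obtain ⟨w₁, hw₁⟩ : ∃ w₁, w₁ = w - β p' w • p - β p w • p' := ⟨_, rfl⟩
  have hw : w = w₁ + β p' w • p + β p w • p' := by rw [hw₁]; abel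
  have hpw₁ : β p w₁ = 0 := by
    rw [hw₁, QuadraticMap.polar_sub_right, QuadraticMap.polar_sub_right,
      QuadraticMap.polar_smul_right, QuadraticMap.polar_smul_right, hpp, hpp']
    simp
  have hp'w₁ : β p' w₁ = 0 := by
    rw [hw₁, QuadraticMap.polar_sub_right, QuadraticMap.polar_sub_right,
      QuadraticMap.polar_smul_right, QuadraticMap.polar_smul_right, hp'p', hp'p]
    simp
  have huw₁ : β u w₁ = 0 := by
    rw [hw₁, QuadraticMap.polar_sub_right, QuadraticMap.polar_sub_right,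
      QuadraticMap.polar_smul_right, QuadraticMap.polar_smul_right, huw, hup, hup']
    simp
  obtain ⟨s₁, hs₁⟩ : ∃ s₁, s₁ = w₁ + p + (-Q w₁) • p' := ⟨_, rfl⟩
  have hQs₁ : Q s₁ = 0 := by
    have e : s₁ = (w₁ + (1 : F) • p) + (-Q w₁) • p' := by rw [hs₁, one_smul]
    rw [e, map_add_smul, map_add_smul, hp, hp', QuadraticMap.polar_add_left,
      QuadraticMap.polar_smul_left, hpp', QuadraticMap.polar_comm (⇑Q) w₁ p', hp'w₁,
      QuadraticMap.polar_comm (⇑Q) w₁ p, hpw₁]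
    simp
  have hus₁ : β u s₁ = 0 := by
    rw [hs₁, QuadraticMap.polar_add_right, QuadraticMap.polar_add_right,
      QuadraticMap.polar_smul_right, huw₁, hup, hup']
    simp
  have hw₁' : w₁ = s₁ + (-1 : F) • p + (Q w₁) • p' := by rw [hs₁]; module
  have h1 : β u ((-1 : F) • p) = 0 := by rw [QuadraticMap.polar_smul_right, hup, smul_zero]
  have h2 : β u (Q w₁ • p') = 0 := by rw [QuadraticMap.polar_smul_right, hup', smul_zero]
  have h3 : β u (s₁ + (-1 : F) • p) = 0 := by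
    rw [QuadraticMap.polar_add_right, hus₁, h1, add_zero]
  have h4 : β u (β p' w • p) = 0 := by rw [QuadraticMap.polar_smul_right, hup, smul_zero]
  have h5 : β u (β p w • p') = 0 := by rw [QuadraticMap.polar_smul_right, hup', smul_zero]
  have h6 : β u (w₁ + β p' w • p) = 0 := by
    rw [QuadraticMap.polar_add_right, huw₁, h4, add_zero]
  have hw₁T : Es hQ u w₁ ∈ T Q := by
    rw [hw₁', ← Es_mul hQ hu h3 h2, ← Es_mul hQ hu hus₁ h1]
    refine (T Q).mul_mem ((T Q).mul_mem ?_ (hsing p (-1) hp hup)) (hsing p' _ hp' hup')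
    have := hsing s₁ 1 hQs₁ hus₁
    rwa [one_smul] at this
  rw [hw, ← Es_mul hQ hu h6 h5, ← Es_mul hQ hu huw₁ h4]
  exact (T Q).mul_mem ((T Q).mul_mem hw₁T (hsing p _ hp hup)) (hsing p' _ hp' hup')

/-- the only vectors fixed by `Q_u` are the multiples of `u` -/
theorem fix_Qs [Fintype F] (hQ : (QuadraticMap.polarBilin Q).Nondegenerate)
    (hn : 5 ≤ Fintype.card ι) {u : ι → F} (hu0 : u ≠ 0) (hu : Q u = 0) {x : ι → F}
    (hx : ∀ w, β u w = 0 → Es hQ u w • x = x) : ∃ c : F, x = c • u := by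
  obtain ⟨p, p', hp, hp', hpp', hpu, hp'u⟩ := exists_hyp_perp1 hQ hn u hu0 hu
  have hup : β u p = 0 := by rw [QuadraticMap.polar_comm (⇑Q), hpu]
  have hux : β u x = 0 := by
    have h1 := hx p hup
    rw [Es_smul hQ hu hup, hp] at h1
    have h2 : β u x • p - β p x • u = 0 := by
      have : x + β u x • p - β p x • u - (0 * β u x) • u - x = 0 := by rw [h1, sub_self]
      rw [← this]
      module
    have h3 := congrArg (fun t => β p' t) h2
    simp only [QuadraticMap.polar_sub_right, QuadraticMap.polar_smul_right, hp'u,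
      QuadraticMap.polar_comm (⇑Q) p' p, hpp', smul_eq_mul, mul_one, mul_zero, sub_zero] at h3
    rw [h3]
    show β p' 0 = 0
    simp
  apply perp_perp hQ hu0
  intro w hw
  have h1 := hx w hw
  rw [Es_smul hQ hu hw, hux] at h1
  have h2 : β w x • u = 0 := by
    have : x + (0 : F) • w - β w x • u - (Q w * 0) • u - x = 0 := by rw [h1, sub_self]
    have h3 : β w x • u = -(x + (0 : F) • w - β w x • u - (Q w * 0) • u - x) := by module
    rw [h3, this, neg_zero]
  rcases smul_eq_zero.1 h2 with h | h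
  · exact h
  · exact absurd h hu0

end Cfsg.Agent.Lib.Helper5.OAut
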