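import Mathlib
import Cfsg.Agent.Lib.Helper5.OAut3

set_option autoImplicit false

namespace Cfsg.Agent.Lib.Helper5.OAut

open Matrix Cfsg.Agent.Lib.Helper2 Cfsg.Agent.Lib.Helper2.ReflGen Cfsg.Agent.Lib.Helper2.CDG
open Cfsg.Agent.Lib.Helper2.Siegel Cfsg.Agent.Lib.Helper2.LongRoot

variable {F : Type*} [Field F] {ι : Type} [Fintype ι] [DecidableEq ι]
variable {Q : QuadraticForm F (ι → F)}

set_option quotPrecheck false in
local notation "β" => QuadraticMap.polar (⇑Q)

/-- `-1` as an isometry -/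
def negO (Q : QuadraticForm F (ι → F)) : OG Q :=
  ⟨-1, fun u _ => by
    show Q (((-1 : Matrix.GeneralLinearGroup ι F) : Matrix ι ι F) *ᵥ u) = Q u
    rw [Units.val_neg, Units.val_one, Matrix.neg_mulVec, Matrix.one_mulVec, QuadraticMap.map_neg]⟩

theorem negO_smul (x : ι → F) : negO Q • x = -x := by
  show ((-1 : Matrix.GeneralLinearGroup ι F) : Matrix ι ι F) *ᵥ x = -x
  rw [Units.val_neg, Units.val_one, Matrix.neg_mulVec, Matrix.one_mulVec]

theorem negO_mul_self : negO Q * negO Q = 1 := by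
  apply ext_smul
  intro x
  rw [mul_smul, negO_smul, negO_smul, neg_neg, one_smul]

theorem negO_comm (g : OG Q) : negO Q * g = g * negO Q := by
  apply ext_smul
  intro x
  rw [mul_smul, mul_smul, negO_smul, negO_smul, smul_neg]

theorem smul_ne_zero_of_ne (g : OG Q) {x : ι → F} (hx : x ≠ 0) : g • x ≠ 0 := by
  intro h
  apply hx
  have := congrArg (fun t => g⁻¹ • t) h
  simpa using this

/-- an isometry centralising `Q_u` is `± E(u, w)` -/
theorem centralizer_Qs [Fintype F] (hQ : (QuadraticMap.polarBilin Q).Nondegenerate)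
    (hn : 5 ≤ Fintype.card ι) {u : ι → F} (hu0 : u ≠ 0) (hu : Q u = 0) (g : OG Q)
    (hg : ∀ w, β u w = 0 → g * Es hQ u w = Es hQ u w * g) :
    ∃ w₀ : ι → F, β u w₀ = 0 ∧ (g = Es hQ u w₀ ∨ g = negO Q * Es hQ u w₀) := by
  -- `g` preserves the line of `u`
  obtain ⟨c, hc⟩ : ∃ c : F, g • u = c • u := by
    apply fix_Qs hQ hn hu0 hu
    intro w hw
    rw [← mul_smul, ← hg w hw, mul_smul, Es_smul_self hQ hu hw]
  have hc0 : c ≠ 0 := by
    intro h
    rw [h, zero_smul] at hc
    exact smul_ne_zero_of_ne g hu0 hc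
  have hperp : ∀ w, β u w = 0 → β u (g • w) = 0 := by
    intro w hw
    have h1 := polar_smul_smul g u w
    rw [hc, QuadraticMap.polar_smul_left, hw, smul_eq_mul] at h1
    rcases mul_eq_zero.1 h1 with h | h
    · exact absurd h hc0
    · exact h
  have hkey : ∀ w, β u w = 0 → ∃ d : F, c • g • w - w = d • u := by
    intro w hw
    have h1 : g * Es hQ u w * g⁻¹ = Es hQ u w := by rw [hg w hw, mul_inv_cancel_right]
    rw [conj_Es hQ g hu hw, hc, Es_smul_left hQ hu (hperp w hw)] at h1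
    have h2 : β u (c • g • w) = 0 := by
      rw [QuadraticMap.polar_smul_right, hperp w hw, smul_zero]
    exact (Es_eq_iff hQ hu0 hu h2 hw).1 h1
  -- `c` is a sign
  have hcc : c * c = 1 := by
    obtain ⟨p, p', hp, hp', hpp', hpu, hp'u⟩ := exists_hyp_perp1 hQ hn u hu0 hu
    have hw₁ : β u (p + p') = 0 := by
      rw [QuadraticMap.polar_add_right, QuadraticMap.polar_comm (⇑Q) u p, hpu,
        QuadraticMap.polar_comm (⇑Q) u p', hp'u, add_zero]
    have hQw₁ : Q (p + p') = 1 := by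
      rw [QuadraticMap.map_add Q p p', hp, hp', hpp', zero_add, zero_add]
    obtain ⟨d, hd⟩ := hkey _ hw₁
    have h1 : c • g • (p + p') = (p + p') + d • u := by rw [← hd]; abel
    have h2 : Q (c • g • (p + p')) = Q ((p + p') + d • u) := by rw [h1]
    rw [QuadraticMap.map_smul, Q_smul, hQw₁, map_add_smul, hu, hQw₁,
      QuadraticMap.polar_comm (⇑Q) _ u, hw₁] at h2
    simpa using h2
  have hsign : c = 1 ∨ c = -1 := by
    have h1 : (c - 1) * (c + 1) = 0 := by linear_combination hcc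
    rcases mul_eq_zero.1 h1 with h | h
    · exact Or.inl (sub_eq_zero.1 h)
    · exact Or.inr (eq_neg_of_add_eq_zero_left h)
  rcases hsign with h1 | h1
  · have hgQ : IsQ u g := by
      refine ⟨by rw [hc, h1, one_smul], fun y hy => ?_⟩
      obtain ⟨d, hd⟩ := hkey y hy
      rw [h1, one_smul] at hd
      exact ⟨d, by rw [← hd]; abel⟩
    obtain ⟨w₀, hw₀, hgw⟩ := exists_Es_of_isQ hQ hu0 hu hgQ
    exact ⟨w₀, hw₀, Or.inl hgw⟩
  · have hgQ : IsQ u (negO Q * g) := by
      refine ⟨by rw [mul_smul, negO_smul, hc, h1]; simp, fun y hy => ?_⟩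
      obtain ⟨d, hd⟩ := hkey y hy
      rw [h1] at hd
      refine ⟨d, ?_⟩
      rw [mul_smul, negO_smul, ← hd]
      simp
    obtain ⟨w₀, hw₀, hgw⟩ := exists_Es_of_isQ hQ hu0 hu hgQ
    refine ⟨w₀, hw₀, Or.inr ?_⟩
    rw [← hgw, ← mul_assoc, negO_mul_self, one_mul]

end Cfsg.Agent.Lib.Helper5.OAut
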