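import Mathlib
import Cfsg.Agent.Lib.Helper5.OAut4

set_option autoImplicit false

namespace Cfsg.Agent.Lib.Helper5.OAut

open Matrix Cfsg.Agent.Lib.Helper2 Cfsg.Agent.Lib.Helper2.ReflGen Cfsg.Agent.Lib.Helper2.CDG
open Cfsg.Agent.Lib.Helper2.Siegel Cfsg.Agent.Lib.Helper2.LongRoot

variable {F : Type*} [Field F] {ι : Type} [Fintype ι] [DecidableEq ι]
variable {Q : QuadraticForm F (ι → F)}

set_option quotPrecheck false in
local notation "β" => QuadraticMap.polar (⇑Q)

/-- projection to the orthogonal complement of a hyperbolic pair -/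
theorem proj_perp {u f : ι → F} (hu : Q u = 0) (hf : Q f = 0) (huf : β u f = 1) (y : ι → F) :
    β u (y - β f y • u - β u y • f) = 0 ∧ β f (y - β f y • u - β u y • f) = 0 := by
  constructor
  · rw [QuadraticMap.polar_sub_right, QuadraticMap.polar_sub_right,
      QuadraticMap.polar_smul_right, QuadraticMap.polar_smul_right, polar_self_sing hu, huf]
    simp
  · rw [QuadraticMap.polar_sub_right, QuadraticMap.polar_sub_right,
      QuadraticMap.polar_smul_right, QuadraticMap.polar_smul_right, polar_self_sing hf,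
      QuadraticMap.polar_comm (⇑Q) f u, huf]
    simp

/-- every vector of `u^⊥` is a sum of three multiples of singular vectors of `u^⊥` -/
theorem exists_sing_decomp [Fintype F] (hQ : (QuadraticMap.polarBilin Q).Nondegenerate)
    (hn : 5 ≤ Fintype.card ι) {u w : ι → F} (hu0 : u ≠ 0) (hu : Q u = 0) (huw : β u w = 0) :
    ∃ (s p p' : ι → F) (c c' : F), Q s = 0 ∧ Q p = 0 ∧ Q p' = 0 ∧ β u s = 0 ∧ β u p = 0 ∧
      β u p' = 0 ∧ w = s + c • p + c' • p' := by
  obtain ⟨p, p', hp, hp', hpp', hpu, hp'u⟩ := exists_hyp_perp1 hQ hn u hu0 hu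
  have hup : β u p = 0 := by rw [QuadraticMap.polar_comm (⇑Q), hpu]
  have hup' : β u p' = 0 := by rw [QuadraticMap.polar_comm (⇑Q), hp'u]
  have hpp : β p p = 0 := polar_self_sing hp
  have hp'p' : β p' p' = 0 := polar_self_sing hp'
  have hp'p : β p' p = 1 := by rw [QuadraticMap.polar_comm (⇑Q), hpp']
  obtain ⟨w₁, hw₁⟩ : ∃ w₁, w₁ = w - β p' w • p - β p w • p' := ⟨_, rfl⟩
  have hpw₁ : β p w₁ = 0 := by
    rw [hw₁, QuadraticMap.polar_sub_right, QuadraticMap.polar_sub_right,
      QuadraticMap.polar_smul_right, QuadraticMap.polar_smul_right, hpp, hpp']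
    simp
  have hp'w₁ : β p' w₁ = 0 := by
    rw [hw₁, QuadraticMap.polar_sub_right, QuadraticMap.polar_sub_right,
      QuadraticMap.polar_smul_right, QuadraticMap.polar_smul_right, hp'p', hp'p]
    simp
  have huw₁ : β u w₁ = 0 := by
    rw [hw₁, QuadraticMap.polar_sub_right, QuadraticMap.polar_sub_right,
      QuadraticMap.polar_smul_right, QuadraticMap.polar_smul_right, huw, hup, hup']
    simp
  obtain ⟨s₁, hs₁⟩ : ∃ s₁, s₁ = w₁ + p + (-Q w₁) • p' := ⟨_, rfl⟩
  have hQs₁ : Q s₁ = 0 := by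
    have e : s₁ = (w₁ + (1 : F) • p) + (-Q w₁) • p' := by rw [hs₁, one_smul]
    rw [e, map_add_smul, map_add_smul, hp, hp', QuadraticMap.polar_add_left,
      QuadraticMap.polar_smul_left, hpp', QuadraticMap.polar_comm (⇑Q) w₁ p', hp'w₁,
      QuadraticMap.polar_comm (⇑Q) w₁ p, hpw₁]
    simp
  have hus₁ : β u s₁ = 0 := by
    rw [hs₁, QuadraticMap.polar_add_right, QuadraticMap.polar_add_right,
      QuadraticMap.polar_smul_right, huw₁, hup, hup']
    simp
  refine ⟨s₁, p, p', β p' w - 1, β p w + Q w₁, hQs₁, hp, hp', hus₁, hup, hup', ?_⟩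
  rw [hs₁, hw₁]
  module

/-- `Q_u` is a minimal normal subgroup of the stabiliser of `u` -/
theorem Qs_minimal [Fintype F] (hQ : (QuadraticMap.polarBilin Q).Nondegenerate)
    (hn : 7 ≤ Fintype.card ι) {u : ι → F} (hu0 : u ≠ 0) (hu : Q u = 0)
    (N : Subgroup (OG Q)) (hN : N ≤ Qs Q u) (hN1 : N ≠ ⊥)
    (hnorm : ∀ t ∈ T Q, t • u = u → ∀ x ∈ N, t * x * t⁻¹ ∈ N) : N = Qs Q u := by
  obtain ⟨f, huf, hf⟩ := Cfsg.Agent.Lib.Helper5.exists_partner Q hQ hu0 hu
  have hfu : β f u = 1 := by rw [QuadraticMap.polar_comm (⇑Q), huf]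
  have huu : β u u = 0 := polar_self_sing hu
  have hff : β f f = 0 := polar_self_sing hf
  obtain ⟨M, hM⟩ : ∃ M : (ι → F) → Prop, M = fun w => β u w = 0 ∧ Es hQ u w ∈ N := ⟨_, rfl⟩
  have hMadd : ∀ w w', M w → M w' → M (w + w') := by
    intro w w' h h'
    rw [hM] at h h' ⊢
    refine ⟨by rw [QuadraticMap.polar_add_right, h.1, h'.1, add_zero], ?_⟩
    rw [← Es_mul hQ hu h.1 h'.1]
    exact N.mul_mem h.2 h'.2
  have hMneg : ∀ w, M w → M (-w) := by
    intro w h
    rw [hM] at h ⊢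
    refine ⟨by rw [QuadraticMap.polar_neg_right, h.1, neg_zero], ?_⟩
    rw [← Es_inv hQ hu h.1]
    exact N.inv_mem h.2
  have hMu : ∀ c : F, M (c • u) := by
    intro c
    rw [hM]
    refine ⟨by rw [QuadraticMap.polar_smul_right, huu, smul_zero], ?_⟩
    rw [Es_self_smul hQ hu]
    exact N.one_mem
  have hMt : ∀ t ∈ T Q, t • u = u → ∀ w, M w → M (t • w) := by
    intro t ht htu w h
    rw [hM] at h ⊢
    have h1 : β u (t • w) = 0 := by
      have := polar_smul_smul t u w
      rw [htu, h.1] at this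
      exact this
    refine ⟨h1, ?_⟩
    have h2 := hnorm t ht htu _ h.2
    rw [conj_Es hQ t hu h.1, htu] at h2
    exact h2
  have hstep : ∀ w a b : ι → F, M w → Q a = 0 → Q b = 0 → β a b = 0 → β u a = 0 → β u b = 0 →
      β b w = 0 → ∀ c : F, M ((c * β a w) • b) := by
    intro w a b hw ha hb hab hua hub hbw c
    have ht := LR_mem_T hQ a b ha hb hab c
    have htu : LR hQ a b ha hb hab c • u = u := by
      rw [smul_def, LR_mulVec, QuadraticMap.polar_comm (⇑Q) a u, hua,
        QuadraticMap.polar_comm (⇑Q) b u, hub]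
      simp
    have htw : LR hQ a b ha hb hab c • w = w + (c * β a w) • b := by
      rw [smul_def, LR_mulVec, hbw]
      module
    have h1 := hMadd _ _ (hMt _ ht htu w hw) (hMneg w hw)
    rw [htw] at h1
    have e : w + (c * β a w) • b + -w = (c * β a w) • b := by abel
    rw [e] at h1
    exact h1
  -- from one singular line to the perpendicular ones
  have hline : ∀ b₀ : ι → F, Q b₀ = 0 → β u b₀ = 0 → β f b₀ = 0 → b₀ ≠ 0 →
      (∀ c : F, M (c • b₀)) → ∀ b : ι → F, Q b = 0 → β u b = 0 → β f b = 0 → β b b₀ = 0 →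
      ∀ c : F, M (c • b) := by
    intro b₀ hb₀ hub₀ hfb₀ hb₀0 hMb₀ b hb hub hfb hbb₀ c
    by_cases hdep : ∃ γ : F, b = γ • b₀
    · obtain ⟨γ, rfl⟩ := hdep
      rw [smul_smul]
      exact hMb₀ _
    · have hb0 : b ≠ 0 := by
        intro h
        exact hdep ⟨0, by rw [h, zero_smul]⟩
      have hex : ∃ w, β b w = 0 ∧ β w b₀ ≠ 0 := by
        by_contra hcon
        push Not at hcon
        obtain ⟨γ, hγ⟩ := perp_perp hQ hb0 hcon
        have hγ0 : γ ≠ 0 := by
          intro h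
          rw [h, zero_smul] at hγ
          exact hb₀0 hγ
        exact hdep ⟨γ⁻¹, by rw [hγ, smul_smul, inv_mul_cancel₀ hγ0, one_smul]⟩
      obtain ⟨w, hbw, hwb₀⟩ := hex
      obtain ⟨y₁, hy₁⟩ : ∃ y₁, y₁ = (β w b₀)⁻¹ • w := ⟨_, rfl⟩
      have hby₁ : β b y₁ = 0 := by rw [hy₁, QuadraticMap.polar_smul_right, hbw, smul_zero]
      have hy₁b₀ : β y₁ b₀ = 1 := by
        rw [hy₁, QuadraticMap.polar_smul_left, smul_eq_mul, inv_mul_cancel₀ hwb₀]
      obtain ⟨y, hy⟩ : ∃ y, y = y₁ - β f y₁ • u - β u y₁ • f := ⟨_, rfl⟩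
      have huy : β u y = 0 := by rw [hy]; exact (proj_perp hu hf huf y₁).1
      have hby : β b y = 0 := by
        rw [hy, QuadraticMap.polar_sub_right, QuadraticMap.polar_sub_right,
          QuadraticMap.polar_smul_right, QuadraticMap.polar_smul_right, hby₁,
          QuadraticMap.polar_comm (⇑Q) b u, hub, QuadraticMap.polar_comm (⇑Q) b f, hfb]
        simp
      have hyb₀ : β y b₀ = 1 := by
        rw [hy, QuadraticMap.polar_sub_left, QuadraticMap.polar_sub_left,
          QuadraticMap.polar_smul_left, QuadraticMap.polar_smul_left, hy₁b₀, hub₀, hfb₀]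
        simp
      obtain ⟨a, ha⟩ : ∃ a, a = y + (-Q y) • b₀ := ⟨_, rfl⟩
      have hQa : Q a = 0 := by
        rw [ha, map_add_smul, hb₀, hyb₀]
        ring
      have hua : β u a = 0 := by
        rw [ha, QuadraticMap.polar_add_right, QuadraticMap.polar_smul_right, huy, hub₀]
        simp
      have hab : β a b = 0 := by
        rw [ha, QuadraticMap.polar_add_left, QuadraticMap.polar_smul_left,
          QuadraticMap.polar_comm (⇑Q) y b, hby, QuadraticMap.polar_comm (⇑Q) b₀ b, hbb₀]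
        simp
      have hab₀ : β a b₀ = 1 := by
        rw [ha, QuadraticMap.polar_add_left, QuadraticMap.polar_smul_left, hyb₀,
          polar_self_sing hb₀]
        simp
      have h1 := hstep b₀ a b (by have := hMb₀ 1; rwa [one_smul] at this) hQa hb hab hua hub
        hbb₀ c
      rw [hab₀, mul_one] at h1
      exact h1
  -- a first singular line inside `M`
  have hfirst : ∃ b₀ : ι → F, Q b₀ = 0 ∧ β u b₀ = 0 ∧ β f b₀ = 0 ∧ b₀ ≠ 0 ∧
      ∀ c : F, M (c • b₀) := by
    -- a non-trivial element of `N`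
    obtain ⟨x, hx1⟩ := (Subgroup.ne_bot_iff_exists_ne_one (H := N)).1 hN1
    have hx1' : (x : OG Q) ≠ 1 := fun h => hx1 (Subtype.ext h)
    obtain ⟨w₀', hw₀', hxw⟩ := (mem_Qs_iff hQ hu0 hu x.1).1 (hN x.2)
    have hMw₀' : M w₀' := by
      rw [hM]
      exact ⟨hw₀', by rw [← hxw]; exact x.2⟩
    obtain ⟨w₀, hw₀⟩ : ∃ w₀, w₀ = w₀' + (-β f w₀') • u := ⟨_, rfl⟩
    have hMw₀ : M w₀ := by rw [hw₀]; exact hMadd _ _ hMw₀' (hMu _)
    have huw₀ : β u w₀ = 0 := by rw [hM] at hMw₀; exact hMw₀.1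
    have hfw₀ : β f w₀ = 0 := by
      rw [hw₀, QuadraticMap.polar_add_right, QuadraticMap.polar_smul_right, hfu]
      simp
    have hw₀0 : w₀ ≠ 0 := by
      intro h
      apply hx1'
      rw [hxw, Es_eq_one_iff hQ hu0 hu hw₀']
      refine ⟨β f w₀', ?_⟩
      have : w₀' + (-β f w₀') • u = 0 := by rw [← hw₀, h]
      linear_combination (norm := module) this
    -- a singular vector of `⟨u, f⟩^⊥` not orthogonal to `w₀`
    obtain ⟨p, p', hp, hp', hpp', hpu, hp'u, hpf, hp'f⟩ :=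
      exists_hyp_perp2 hQ (by omega) u f hu hf huf
    have hup : β u p = 0 := by rw [QuadraticMap.polar_comm (⇑Q), hpu]
    have hup' : β u p' = 0 := by rw [QuadraticMap.polar_comm (⇑Q), hp'u]
    have hfp : β f p = 0 := by rw [QuadraticMap.polar_comm (⇑Q), hpf]
    have hfp' : β f p' = 0 := by rw [QuadraticMap.polar_comm (⇑Q), hp'f]
    have hexa : ∃ a : ι → F, Q a = 0 ∧ β u a = 0 ∧ β f a = 0 ∧ β a w₀ ≠ 0 := by
      by_cases h1 : β p w₀ ≠ 0
      · exact ⟨p, hp, hup, hfp, h1⟩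
      by_cases h2 : β p' w₀ ≠ 0
      · exact ⟨p', hp', hup', hfp', h2⟩
      push Not at h1 h2
      obtain ⟨y₀, hy₀⟩ : ∃ y₀, β w₀ y₀ ≠ 0 := by
        by_contra hcon
        push Not at hcon
        exact hw₀0 (hQ.1 w₀ hcon)
      obtain ⟨y, hy⟩ : ∃ y, y = y₀ - β f y₀ • u - β u y₀ • f := ⟨_, rfl⟩
      have huy : β u y = 0 := by rw [hy]; exact (proj_perp hu hf huf y₀).1
      have hfy : β f y = 0 := by rw [hy]; exact (proj_perp hu hf huf y₀).2
      have hyw₀ : β y w₀ = β w₀ y₀ := by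
        rw [hy, QuadraticMap.polar_sub_left, QuadraticMap.polar_sub_left,
          QuadraticMap.polar_smul_left, QuadraticMap.polar_smul_left, huw₀, hfw₀,
          QuadraticMap.polar_comm (⇑Q) y₀ w₀]
        simp
      obtain ⟨y', hy'⟩ : ∃ y', y' = y - β p' y • p - β p y • p' := ⟨_, rfl⟩
      have hpy' : β p y' = 0 := by rw [hy']; exact (proj_perp hp hp' hpp' y).1
      have hp'y' : β p' y' = 0 := by rw [hy']; exact (proj_perp hp hp' hpp' y).2
      have huy' : β u y' = 0 := by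
        rw [hy', QuadraticMap.polar_sub_right, QuadraticMap.polar_sub_right,
          QuadraticMap.polar_smul_right, QuadraticMap.polar_smul_right, huy, hup, hup']
        simp
      have hfy' : β f y' = 0 := by
        rw [hy', QuadraticMap.polar_sub_right, QuadraticMap.polar_sub_right,
          QuadraticMap.polar_smul_right, QuadraticMap.polar_smul_right, hfy, hfp, hfp']
        simp
      have hy'w₀ : β y' w₀ = β w₀ y₀ := by
        rw [hy', QuadraticMap.polar_sub_left, QuadraticMap.polar_sub_left,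
          QuadraticMap.polar_smul_left, QuadraticMap.polar_smul_left, h1, h2, hyw₀]
        simp
      refine ⟨y' + p + (-Q y') • p', ?_, ?_, ?_, ?_⟩
      · have e : y' + p + (-Q y') • p' = (y' + (1 : F) • p) + (-Q y') • p' := by rw [one_smul]
        rw [e, map_add_smul, map_add_smul, hp, hp', QuadraticMap.polar_add_left,
          QuadraticMap.polar_smul_left, hpp', QuadraticMap.polar_comm (⇑Q) y' p', hp'y',
          QuadraticMap.polar_comm (⇑Q) y' p, hpy']
        simp
      · rw [QuadraticMap.polar_add_right, QuadraticMap.polar_add_right,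
          QuadraticMap.polar_smul_right, huy', hup, hup']
        simp
      · rw [QuadraticMap.polar_add_right, QuadraticMap.polar_add_right,
          QuadraticMap.polar_smul_right, hfy', hfp, hfp']
        simp
      · rw [QuadraticMap.polar_add_left, QuadraticMap.polar_add_left,
          QuadraticMap.polar_smul_left, h1, h2, hy'w₀]
        simpa using hy₀
    obtain ⟨a, hQa, hua, hfa, haw₀⟩ := hexa
    obtain ⟨b₀, hb₀0, hQb₀, hperp⟩ :=
      CentO.exists_singular_perp (Q := Q) (k := 4) ![u, f, a, w₀] (by omega)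
    have hub₀ : β u b₀ = 0 := hperp 0
    have hfb₀ : β f b₀ = 0 := hperp 1
    have hab₀ : β a b₀ = 0 := hperp 2
    have hw₀b₀ : β w₀ b₀ = 0 := hperp 3
    refine ⟨b₀, hQb₀, hub₀, hfb₀, hb₀0, fun c => ?_⟩
    have h1 := hstep w₀ a b₀ hMw₀ hQa hQb₀ hab₀ hua hub₀
      (by rw [QuadraticMap.polar_comm (⇑Q), hw₀b₀]) (c * (β a w₀)⁻¹)
    rw [mul_assoc, inv_mul_cancel₀ haw₀, mul_one] at h1
    exact h1
  obtain ⟨b₀, hQb₀, hub₀, hfb₀, hb₀0, hMb₀⟩ := hfirst
  -- all singular lines of `u^⊥`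
  have hall : ∀ b : ι → F, Q b = 0 → β u b = 0 → ∀ c : F, M (c • b) := by
    intro b hb hub c
    obtain ⟨b', hb'⟩ : ∃ b', b' = b + (-β f b) • u := ⟨_, rfl⟩
    have hQb' : Q b' = 0 := by
      rw [hb', map_add_smul, hb, hu, QuadraticMap.polar_comm (⇑Q) b u, hub]
      ring
    have hub' : β u b' = 0 := by
      rw [hb', QuadraticMap.polar_add_right, QuadraticMap.polar_smul_right, hub, huu]
      simp
    have hfb' : β f b' = 0 := by
      rw [hb', QuadraticMap.polar_add_right, QuadraticMap.polar_smul_right, hfu]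
      simp
    have hMb' : ∀ c : F, M (c • b') := by
      by_cases hbb₀ : β b' b₀ = 0
      · exact hline b₀ hQb₀ hub₀ hfb₀ hb₀0 hMb₀ b' hQb' hub' hfb' hbb₀
      · obtain ⟨b₁, hb₁0, hQb₁, hperp⟩ :=
          CentO.exists_singular_perp (Q := Q) (k := 4) ![u, f, b₀, b'] (by omega)
        have hub₁ : β u b₁ = 0 := hperp 0
        have hfb₁ : β f b₁ = 0 := hperp 1
        have hb₀b₁ : β b₀ b₁ = 0 := hperp 2
        have hb'b₁ : β b' b₁ = 0 := hperp 3
        have hMb₁ := hline b₀ hQb₀ hub₀ hfb₀ hb₀0 hMb₀ b₁ hQb₁ hub₁ hfb₁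
          (by rw [QuadraticMap.polar_comm (⇑Q), hb₀b₁])
        exact hline b₁ hQb₁ hub₁ hfb₁ hb₁0 hMb₁ b' hQb' hub' hfb' hb'b₁
    have e : c • b = c • b' + (c * β f b) • u := by rw [hb']; module
    rw [e]
    exact hMadd _ _ (hMb' c) (hMu _)
  apply le_antisymm hN
  intro g hg
  obtain ⟨w, huw, rfl⟩ := (mem_Qs_iff hQ hu0 hu g).1 hg
  obtain ⟨s, p, p', c, c', hs, hp, hp', hus, hup, hup', hw⟩ :=
    exists_sing_decomp hQ (by omega) hu0 hu huw
  have h1 : M w := by
    rw [hw]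
    refine hMadd _ _ (hMadd _ _ ?_ (hall p hp hup c)) (hall p' hp' hup' c')
    have := hall s hs hus 1
    rwa [one_smul] at this
  rw [hM] at h1
  exact h1.2

end Cfsg.Agent.Lib.Helper5.OAut
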