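import Mathlib
import Cfsg.Agent.Lib.Helper5.OAut5
import Cfsg.Agent.Lib.Helper5.OmegaCrit

set_option autoImplicit false

namespace Cfsg.Agent.Lib.Helper5.OAut

open Matrix Cfsg.Agent.Lib.Helper2 Cfsg.Agent.Lib.Helper2.ReflGen Cfsg.Agent.Lib.Helper2.CDG
open Cfsg.Agent.Lib.Helper2.Siegel Cfsg.Agent.Lib.Helper2.LongRoot

variable {F : Type*} [Field F] {ι : Type} [Fintype ι] [DecidableEq ι]
variable {Q : QuadraticForm F (ι → F)}

set_option quotPrecheck false in
local notation "β" => QuadraticMap.polar (⇑Q)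

set_option synthInstance.maxHeartbeats 400000 in
/-- a `p`-group of isometries fixes a non-zero vector in every non-zero invariant subspace -/
theorem exists_fixed_in [Fintype F] (p : ℕ) [Fact p.Prime] [CharP F p] (A : Subgroup (OG Q))
    (hA : IsPGroup p A) (W : Submodule F (ι → F)) (hW : ∀ a ∈ A, ∀ x ∈ W, a • x ∈ W)
    (hne : W ≠ ⊥) : ∃ x ∈ W, x ≠ 0 ∧ ∀ a ∈ A, a • x = x := by
  haveI : Finite (ι → F) := inferInstance
  let S : SubMulAction ↥A (ι → F) :=
    { carrier := W
      smul_mem' := fun s x hx => hW s.1 s.2 x hx }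
  haveI : Finite ↥S := Finite.of_injective (fun x : ↥S => (x : ι → F)) Subtype.val_injective
  have hcard : p ∣ Nat.card ↥S := by
    have h1 : Nat.card ↥S = Nat.card ↥W := rfl
    rw [h1]
    have hpos : 0 < Module.finrank F ↥W := by
      rw [Module.finrank_pos_iff_exists_ne_zero]
      obtain ⟨x, hx, hx0⟩ := (Submodule.ne_bot_iff W).1 hne
      exact ⟨⟨x, hx⟩, fun h0 => hx0 (congrArg Subtype.val h0)⟩
    rw [Module.natCard_eq_pow_finrank (K := F) (V := ↥W)]
    obtain ⟨n, hn⟩ := FiniteField.card F p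
    rw [Nat.card_eq_fintype_card, hn.2]
    apply dvd_pow _ (by omega)
    exact dvd_pow_self p (PNat.ne_zero n)
  have hfix : (⟨0, W.zero_mem⟩ : ↥S) ∈ MulAction.fixedPoints ↥A ↥S := by
    intro s
    apply Subtype.ext
    show (s : OG Q) • (0 : ι → F) = 0
    exact smul_zero _
  obtain ⟨b, hb, hb0⟩ := hA.exists_fixed_point_of_prime_dvd_card_of_fixed_point ↥S hcard hfix
  refine ⟨b.1, b.2, ?_, fun s hs => ?_⟩
  · intro h0
    apply hb0
    apply Subtype.ext
    exact h0.symm
  · have := hb ⟨s, hs⟩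
    exact congrArg Subtype.val this

/-- the fixed space of a group of isometries -/
def fixS (A : Subgroup (OG Q)) : Submodule F (ι → F) where
  carrier := {x | ∀ a ∈ A, a • x = x}
  add_mem' := fun hx hy a ha => by rw [smul_add, hx a ha, hy a ha]
  zero_mem' := fun a _ => smul_zero a
  smul_mem' := fun c x hx a ha => by rw [smul_comm a c x, hx a ha]

theorem mem_fixS (A : Subgroup (OG Q)) (x : ι → F) : x ∈ fixS A ↔ ∀ a ∈ A, a • x = x := Iff.rfl

/-- the commutator space `[V, A]` -/
def commS (A : Subgroup (OG Q)) : Submodule F (ι → F) :=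
  Submodule.span F {y | ∃ a ∈ A, ∃ x : ι → F, y = a • x - x}

theorem commS_perp_fix (A : Subgroup (OG Q)) {y x : ι → F} (hy : y ∈ commS A)
    (hx : x ∈ fixS A) : β y x = 0 := by
  induction hy using Submodule.span_induction with
  | mem y hy =>
    obtain ⟨a, ha, x', rfl⟩ := hy
    rw [QuadraticMap.polar_sub_left]
    have h1 := polar_smul_smul a x' x
    rw [hx a ha] at h1
    rw [h1, sub_self]
  | zero => simp
  | add y y' _ _ h h' => rw [QuadraticMap.polar_add_left, h, h', add_zero]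
  | smul c y _ h => rw [QuadraticMap.polar_smul_left, h, smul_zero]

theorem commS_invariant (A : Subgroup (OG Q)) {b : OG Q} (hb : b ∈ A) {y : ι → F}
    (hy : y ∈ commS A) : b • y ∈ commS A := by
  induction hy using Submodule.span_induction with
  | mem y hy =>
    obtain ⟨a, ha, x', rfl⟩ := hy
    apply Submodule.subset_span
    refine ⟨b * a * b⁻¹, A.mul_mem (A.mul_mem hb ha) (A.inv_mem hb), b • x', ?_⟩
    rw [smul_sub, mul_smul, mul_smul, inv_smul_smul]
  | zero => rw [smul_zero]; exact Submodule.zero_mem _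
  | add y y' _ _ h h' => rw [smul_add]; exact Submodule.add_mem _ h h'
  | smul c y _ h => rw [smul_comm b c y]; exact Submodule.smul_mem _ c h

theorem commS_ne_bot (A : Subgroup (OG Q)) (hA : A ≠ ⊥) : commS A ≠ ⊥ := by
  obtain ⟨a, ha1⟩ := (Subgroup.ne_bot_iff_exists_ne_one (H := A)).1 hA
  have ha1' : (a : OG Q) ≠ 1 := fun h => ha1 (Subtype.ext h)
  have hex : ∃ x : ι → F, (a : OG Q) • x ≠ x := by
    by_contra hcon
    push Not at hcon
    apply ha1'
    apply ext_smul
    intro x
    rw [hcon x, one_smul]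
  obtain ⟨x, hx⟩ := hex
  intro h
  have h1 : (a : OG Q) • x - x ∈ commS A := Submodule.subset_span ⟨a.1, a.2, x, rfl⟩
  rw [h, Submodule.mem_bot] at h1
  exact hx (sub_eq_zero.1 h1)

/-- a non-trivial `p`-group of isometries in odd characteristic fixes a non-zero singular vector
orthogonal to its fixed space -/
theorem exists_sing_fixed_odd [Fintype F] (h2 : (2 : F) ≠ 0) (p : ℕ) [Fact p.Prime] [CharP F p]
    (A : Subgroup (OG Q)) (hA : IsPGroup p A) (hA1 : A ≠ ⊥) :
    ∃ z : ι → F, z ≠ 0 ∧ Q z = 0 ∧ z ∈ fixS A ∧ ∀ x ∈ fixS A, β z x = 0 := by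
  obtain ⟨z, hzc, hz0, hzfix⟩ := exists_fixed_in p A hA (commS A)
    (fun a ha x hx => commS_invariant A ha hx) (commS_ne_bot A hA1)
  refine ⟨z, hz0, ?_, hzfix, fun x hx => commS_perp_fix A hzc hx⟩
  have h1 := commS_perp_fix A hzc hzfix
  rw [ReflGen.polar_self] at h1
  rcases mul_eq_zero.1 h1 with h | h
  · exact absurd h h2
  · exact h

/-- the span of the singular vectors fixed by `A` -/
def singFix (A : Subgroup (OG Q)) : Submodule F (ι → F) :=
  Submodule.span F {x | Q x = 0 ∧ x ∈ fixS A}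

/-- the singular radical of `singFix A`: a totally singular subspace canonically attached
to `A` -/
def tsOf (A : Subgroup (OG Q)) : Submodule F (ι → F) where
  carrier := {x | x ∈ singFix A ∧ (∀ y ∈ singFix A, β x y = 0) ∧ Q x = 0}
  add_mem' := by
    rintro x x' ⟨h1, h2, h3⟩ ⟨h1', h2', h3'⟩
    refine ⟨Submodule.add_mem _ h1 h1', fun y hy => ?_, ?_⟩
    · rw [QuadraticMap.polar_add_left, h2 y hy, h2' y hy, add_zero]
    · rw [QuadraticMap.map_add Q x x', h3, h3', h2 x' h1']
      simp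
  zero_mem' := ⟨Submodule.zero_mem _, fun y _ => by simp, by simp⟩
  smul_mem' := by
    rintro c x ⟨h1, h2, h3⟩
    refine ⟨Submodule.smul_mem _ c h1, fun y hy => ?_, ?_⟩
    · rw [QuadraticMap.polar_smul_left, h2 y hy, smul_zero]
    · rw [QuadraticMap.map_smul, h3, smul_zero]

theorem tsOf_sing (A : Subgroup (OG Q)) {x : ι → F} (hx : x ∈ tsOf A) : Q x = 0 := hx.2.2

theorem mem_tsOf_of (A : Subgroup (OG Q)) {z : ι → F} (hQz : Q z = 0) (hzfix : z ∈ fixS A)
    (hzperp : ∀ x ∈ fixS A, β z x = 0) : z ∈ tsOf A := by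
  refine ⟨Submodule.subset_span ⟨hQz, hzfix⟩, fun y hy => ?_, hQz⟩
  have hle : singFix A ≤ fixS A := Submodule.span_le.2 (fun x hx => hx.2)
  exact hzperp y (hle hy)

theorem fixS_conj (A : Subgroup (OG Q)) {g : OG Q}
    (hg : g ∈ Subgroup.normalizer (A : Set (OG Q))) {x : ι → F} (hx : x ∈ fixS A) :
    g • x ∈ fixS A := by
  intro a ha
  have h1 : g⁻¹ * a * g⁻¹⁻¹ ∈ A := by
    have hg' := Subgroup.inv_mem _ hg
    rw [Subgroup.mem_normalizer_iff] at hg'
    exact (hg' a).1 ha
  rw [inv_inv] at h1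
  have h2 := hx _ h1
  rw [mul_smul, mul_smul] at h2
  have h3 := congrArg (fun t => g • t) h2
  simp only [smul_inv_smul] at h3
  exact h3

theorem singFix_conj (A : Subgroup (OG Q)) {g : OG Q}
    (hg : g ∈ Subgroup.normalizer (A : Set (OG Q))) {x : ι → F} (hx : x ∈ singFix A) :
    g • x ∈ singFix A := by
  induction hx using Submodule.span_induction with
  | mem y hy =>
    apply Submodule.subset_span
    exact ⟨by rw [Q_smul, hy.1], fixS_conj A hg hy.2⟩
  | zero => rw [smul_zero]; exact Submodule.zero_mem _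
  | add y y' _ _ h h' => rw [smul_add]; exact Submodule.add_mem _ h h'
  | smul c y _ h => rw [smul_comm g c y]; exact Submodule.smul_mem _ c h

/-- the normaliser of `A` stabilises the totally singular subspace `tsOf A` -/
theorem tsOf_conj (A : Subgroup (OG Q)) {g : OG Q}
    (hg : g ∈ Subgroup.normalizer (A : Set (OG Q))) {x : ι → F} (hx : x ∈ tsOf A) :
    g • x ∈ tsOf A := by
  refine ⟨singFix_conj A hg hx.1, fun y hy => ?_, by rw [Q_smul, hx.2.2]⟩
  rw [polar_smul_left_inv]
  exact hx.2.1 _ (singFix_conj A (Subgroup.inv_mem _ hg) hy)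

end Cfsg.Agent.Lib.Helper5.OAut
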