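import Mathlib
import Cfsg.Agent.Lib.Helper5.OAut6

set_option autoImplicit false

namespace Cfsg.Agent.Lib.Helper5.OAut

open Matrix Cfsg.Agent.Lib.Helper2 Cfsg.Agent.Lib.Helper2.ReflGen Cfsg.Agent.Lib.Helper2.CDG
open Cfsg.Agent.Lib.Helper2.Siegel Cfsg.Agent.Lib.Helper2.LongRoot

variable {F : Type*} [Field F] {ι : Type} [Fintype ι] [DecidableEq ι]
variable {Q : QuadraticForm F (ι → F)}

set_option quotPrecheck false in
local notation "β" => QuadraticMap.polar (⇑Q)

/-- the image of `a - 1` -/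
def rangeS (a : OG Q) : Submodule F (ι → F) :=
  LinearMap.range (Matrix.mulVecLin (((a : Matrix.GeneralLinearGroup ι F) : Matrix ι ι F) - 1))

theorem mem_rangeS (a : OG Q) (r : ι → F) : r ∈ rangeS a ↔ ∃ x : ι → F, r = a • x - x := by
  unfold rangeS
  rw [LinearMap.mem_range]
  constructor
  · rintro ⟨x, hx⟩
    refine ⟨x, ?_⟩
    rw [← hx, Matrix.mulVecLin_apply, Matrix.sub_mulVec, Matrix.one_mulVec, smul_def]
  · rintro ⟨x, hx⟩
    refine ⟨x, ?_⟩
    rw [hx, Matrix.mulVecLin_apply, Matrix.sub_mulVec, Matrix.one_mulVec, smul_def]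

theorem finrank_rangeS (a : OG Q) :
    Module.finrank F ↥(rangeS a) =
      (((a : Matrix.GeneralLinearGroup ι F) : Matrix ι ι F) - 1).rank := rfl

theorem rangeS_isotropic (h2 : (2 : F) = 0) {a : OG Q} (haa : a * a = 1) {r r' : ι → F}
    (hr : r ∈ rangeS a) (hr' : r' ∈ rangeS a) : β r r' = 0 := by
  obtain ⟨x, rfl⟩ := (mem_rangeS a r).1 hr
  obtain ⟨y, rfl⟩ := (mem_rangeS a r').1 hr'
  have h1 : β x (a • y) = β (a • x) y := by
    have := polar_smul_smul a x (a • y)
    rw [← mul_smul, haa, one_smul] at this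
    exact this.symm
  rw [QuadraticMap.polar_sub_left, QuadraticMap.polar_sub_right, QuadraticMap.polar_sub_right,
    polar_smul_smul, h1]
  linear_combination (2 * β x y - 2 * β (a • x) y) * h2 - β x y * h2 + β (a • x) y * h2
  
theorem rangeS_perp_fix {a : OG Q} {r x : ι → F} (hr : r ∈ rangeS a) (hx : a • x = x) :
    β r x = 0 := by
  obtain ⟨y, rfl⟩ := (mem_rangeS a r).1 hr
  rw [QuadraticMap.polar_sub_left]
  have h1 := polar_smul_smul a y x
  rw [hx] at h1
  rw [h1, sub_self]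

/-- in characteristic two, a non-trivial `2`-group of isometries inside `Ω` having a central
involution fixes a non-zero singular vector orthogonal to its fixed space -/
theorem exists_sing_fixed_two [Fintype F] [CharP F 2]
    (hQ : (QuadraticMap.polarBilin Q).Nondegenerate) (hn : 5 ≤ Fintype.card ι)
    (A : Subgroup (OG Q)) (hA : IsPGroup 2 A) (a : OG Q) (haA : a ∈ A) (ha1 : a ≠ 1)
    (haa : a * a = 1) (hcent : ∀ b ∈ A, a * b = b * a)
    (haΩ : a ∈ commutator (OG Q)) :
    ∃ z : ι → F, z ≠ 0 ∧ Q z = 0 ∧ z ∈ fixS A ∧ ∀ x ∈ fixS A, β z x = 0 := by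
  have h2 : (2 : F) = 0 := by
    have := CharP.cast_eq_zero F 2
    exact_mod_cast this
  have hsqrt : ∀ x : F, ∃ y : F, y * y = x := by
    intro x
    have hch : ringChar F = 2 := ringChar.eq F 2
    obtain ⟨y, hy⟩ := FiniteField.isSquare_of_char_two hch x
    exact ⟨y, hy.symm⟩
  -- the singular part of the range of `a - 1`
  let R0 : Submodule F (ι → F) :=
    { carrier := {r | r ∈ rangeS a ∧ Q r = 0}
      add_mem' := by
        rintro r r' ⟨h1, h3⟩ ⟨h1', h3'⟩
        refine ⟨Submodule.add_mem _ h1 h1', ?_⟩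
        rw [QuadraticMap.map_add Q r r', h3, h3', rangeS_isotropic h2 haa h1 h1']
        simp
      zero_mem' := ⟨Submodule.zero_mem _, by simp⟩
      smul_mem' := by
        rintro c r ⟨h1, h3⟩
        exact ⟨Submodule.smul_mem _ c h1, by rw [QuadraticMap.map_smul, h3, smul_zero]⟩ }
  have hR0 : ∀ r, r ∈ R0 ↔ r ∈ rangeS a ∧ Q r = 0 := fun r => Iff.rfl
  have hRne : rangeS a ≠ ⊥ := by
    have hex : ∃ x : ι → F, a • x ≠ x := by
      by_contra hcon
      push Not at hcon
      apply ha1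
      apply ext_smul
      intro x
      rw [hcon x, one_smul]
    obtain ⟨x, hx⟩ := hex
    intro h
    have h1 : a • x - x ∈ rangeS a := (mem_rangeS a _).2 ⟨x, rfl⟩
    rw [h, Submodule.mem_bot] at h1
    exact hx (sub_eq_zero.1 h1)
  have hrank : 2 ≤ Module.finrank F ↥(rangeS a) := by
    have heven : Even (Module.finrank F ↥(rangeS a)) := by
      rw [finrank_rangeS]
      exact (OmegaCrit.mem_commutator_iff_rank₂ h2 hQ (Or.inr (by omega)) (by omega) a).1 haΩ
    have hpos : 0 < Module.finrank F ↥(rangeS a) := by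
      rw [Module.finrank_pos_iff_exists_ne_zero]
      obtain ⟨x, hx, hx0⟩ := (Submodule.ne_bot_iff _).1 hRne
      exact ⟨⟨x, hx⟩, fun h0 => hx0 (congrArg Subtype.val h0)⟩
    obtain ⟨k, hk⟩ := heven
    omega
  have hR0ne : R0 ≠ ⊥ := by
    intro hbot
    have hani : ∀ r ∈ rangeS a, Q r = 0 → r = 0 := by
      intro r hr hq
      have : r ∈ R0 := (hR0 r).2 ⟨hr, hq⟩
      rw [hbot, Submodule.mem_bot] at this
      exact this
    obtain ⟨r₁, hr₁, hr₁0⟩ := (Submodule.ne_bot_iff _).1 hRne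
    have hQr₁ : Q r₁ ≠ 0 := fun h => hr₁0 (hani r₁ hr₁ h)
    have hle : rangeS a ≤ Submodule.span F {r₁} := by
      intro r₂ hr₂
      obtain ⟨c, hc⟩ := hsqrt (Q r₂ / Q r₁)
      have h1 : r₂ + c • r₁ ∈ rangeS a := Submodule.add_mem _ hr₂ (Submodule.smul_mem _ c hr₁)
      have h3 : Q (r₂ + c • r₁) = 0 := by
        rw [map_add_smul, hc, rangeS_isotropic h2 haa hr₂ hr₁]
        field_simp
        linear_combination Q r₂ * h2
      have h4 := hani _ h1 h3
      rw [Submodule.mem_span_singleton]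
      refine ⟨-c, ?_⟩
      linear_combination (norm := module) -h4
    have h5 := Submodule.finrank_mono hle
    rw [finrank_span_singleton hr₁0] at h5
    omega
  have hinv : ∀ b ∈ A, ∀ r ∈ R0, b • r ∈ R0 := by
    intro b hb r hr
    rw [hR0] at hr ⊢
    refine ⟨?_, by rw [Q_smul, hr.2]⟩
    obtain ⟨x, hx⟩ := (mem_rangeS a r).1 hr.1
    rw [mem_rangeS]
    refine ⟨b • x, ?_⟩
    rw [hx, smul_sub, ← mul_smul, ← mul_smul, hcent b hb]
  obtain ⟨z, hzR, hz0, hzfix⟩ := exists_fixed_in 2 A hA R0 hinv hR0ne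
  rw [hR0] at hzR
  exact ⟨z, hz0, hzR.2, hzfix, fun x hx => rangeS_perp_fix hzR.1 (hx a haA)⟩

end Cfsg.Agent.Lib.Helper5.OAut
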