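import Mathlib
import Cfsg.Agent.Lib.Helper5.OAut7

set_option autoImplicit false

namespace Cfsg.Agent.Lib.Helper5.OAut

open Matrix Cfsg.Agent.Lib.Helper2 Cfsg.Agent.Lib.Helper2.ReflGen Cfsg.Agent.Lib.Helper2.CDG
open Cfsg.Agent.Lib.Helper2.Siegel Cfsg.Agent.Lib.Helper2.LongRoot

variable {F : Type*} [Field F] {ι : Type} [Fintype ι] [DecidableEq ι]
variable {Q : QuadraticForm F (ι → F)}

set_option quotPrecheck false in
local notation "β" => QuadraticMap.polar (⇑Q)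

variable (Q) in
/-- the stabiliser of a subspace in the isometry group -/
def stabS (T : Submodule F (ι → F)) : Subgroup (OG Q) where
  carrier := {g | ∀ x, g • x ∈ T ↔ x ∈ T}
  mul_mem' := fun {g h} hg hh x => by rw [mul_smul, hg, hh]
  one_mem' := fun x => by rw [one_smul]
  inv_mem' := fun {g} hg x => by
    have := hg (g⁻¹ • x)
    rw [smul_inv_smul] at this
    exact this.symm

theorem mem_stabS (T : Submodule F (ι → F)) (g : OG Q) :
    g ∈ stabS Q T ↔ ∀ x, g • x ∈ T ↔ x ∈ T := Iff.rfl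

theorem mem_stabS_of (T : Submodule F (ι → F)) {g : OG Q} (h1 : ∀ x ∈ T, g • x ∈ T)
    (h2 : ∀ x ∈ T, g⁻¹ • x ∈ T) : g ∈ stabS Q T := by
  intro x
  constructor
  · intro h
    have := h2 _ h
    rwa [inv_smul_smul] at this
  · exact h1 x

theorem perp_of_stabS {T : Submodule F (ι → F)} {g : OG Q} (hg : g ∈ stabS Q T) {y : ι → F}
    (hy : ∀ t ∈ T, β t y = 0) : ∀ t ∈ T, β t (g • y) = 0 := by
  intro t ht
  rw [polar_smul_right_inv]
  exact hy _ (((stabS Q T).inv_mem hg _).2 ht)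

variable (Q) in
/-- the subgroup of isometries acting trivially on `T`, on `T^⊥`, and on `V / T` -/
def ZT (T : Submodule F (ι → F)) : Subgroup (OG Q) where
  carrier := {g | (∀ x, g • x - x ∈ T) ∧ (∀ y, (∀ t ∈ T, β t y = 0) → g • y = y) ∧
    ∀ t ∈ T, g • t = t}
  mul_mem' := by
    rintro g h ⟨hg1, hg2, hg3⟩ ⟨hh1, hh2, hh3⟩
    refine ⟨fun x => ?_, fun y hy => by rw [mul_smul, hh2 y hy, hg2 y hy],
      fun t ht => by rw [mul_smul, hh3 t ht, hg3 t ht]⟩
    have e : (g * h) • x - x = (g • (h • x - x)) + (g • x - x) := by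
      rw [mul_smul, smul_sub]; abel
    rw [e, hg3 _ (hh1 x)]
    exact T.add_mem (hh1 x) (hg1 x)
  one_mem' := ⟨fun x => by rw [one_smul, sub_self]; exact T.zero_mem,
    fun y _ => one_smul _ y, fun t _ => one_smul _ t⟩
  inv_mem' := by
    rintro g ⟨hg1, hg2, hg3⟩
    refine ⟨fun x => ?_, fun y hy => by rw [inv_smul_eq_iff, hg2 y hy],
      fun t ht => by rw [inv_smul_eq_iff, hg3 t ht]⟩
    have h1 := hg1 (g⁻¹ • x)
    rw [smul_inv_smul] at h1
    have e : g⁻¹ • x - x = -(x - g⁻¹ • x) := by abel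
    rw [e]
    exact T.neg_mem h1

theorem mem_ZT (T : Submodule F (ι → F)) (g : OG Q) :
    g ∈ ZT Q T ↔ (∀ x, g • x - x ∈ T) ∧ (∀ y, (∀ t ∈ T, β t y = 0) → g • y = y) ∧
      ∀ t ∈ T, g • t = t := Iff.rfl

theorem ZT_le_stabS (T : Submodule F (ι → F)) : ZT Q T ≤ stabS Q T := by
  rintro g ⟨hg1, -, hg3⟩
  intro x
  constructor
  · intro h
    have h2 := T.sub_mem h (hg1 x)
    rwa [sub_sub_cancel] at h2
  · intro h
    rw [hg3 x h]
    exact h

theorem ZT_comm (T : Submodule F (ι → F)) {g h : OG Q} (hg : g ∈ ZT Q T) (hh : h ∈ ZT Q T) :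
    g * h = h * g := by
  apply ext_smul
  intro x
  have h1 : (g * h) • x = x + (g • x - x) + (h • x - x) := by
    have e : (g * h) • x = g • (h • x - x) + g • x := by rw [mul_smul, smul_sub]; abel
    rw [e, hg.2.2 _ (hh.1 x)]
    abel
  have h2 : (h * g) • x = x + (g • x - x) + (h • x - x) := by
    have e : (h * g) • x = h • (g • x - x) + h • x := by rw [mul_smul, smul_sub]; abel
    rw [e, hh.2.2 _ (hg.1 x)]
    abel
  rw [h1, h2]

theorem ZT_pow_smul (T : Submodule F (ι → F)) {g : OG Q} (hg : g ∈ ZT Q T) (k : ℕ)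
    (x : ι → F) : (g ^ k) • x = x + (k : F) • (g • x - x) := by
  induction k with
  | zero => rw [pow_zero, one_smul, Nat.cast_zero, zero_smul, add_zero]
  | succ k ih =>
    rw [pow_succ', mul_smul, ih, smul_add, smul_comm g _ _, hg.2.2 _ (hg.1 x), Nat.cast_succ,
      add_smul, one_smul]
    abel

theorem ZT_pow_char (T : Submodule F (ι → F)) (p : ℕ) [CharP F p] {g : OG Q}
    (hg : g ∈ ZT Q T) : g ^ p = 1 := by
  apply ext_smul
  intro x
  rw [ZT_pow_smul T hg, CharP.cast_eq_zero, zero_smul, add_zero, one_smul]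

theorem conj_mem_ZT (T : Submodule F (ι → F)) {s g : OG Q} (hs : s ∈ stabS Q T)
    (hg : g ∈ ZT Q T) : s * g * s⁻¹ ∈ ZT Q T := by
  have hs' := (stabS Q T).inv_mem hs
  refine ⟨fun x => ?_, fun y hy => ?_, fun t ht => ?_⟩
  · have e : (s * g * s⁻¹) • x - x = s • (g • (s⁻¹ • x) - s⁻¹ • x) := by
      rw [mul_smul, mul_smul, smul_sub, smul_inv_smul]
    rw [e]
    exact (hs _).2 (hg.1 _)
  · rw [mul_smul, mul_smul, hg.2.1 _ (perp_of_stabS hs' hy), smul_inv_smul]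
  · rw [mul_smul, mul_smul, hg.2.2 _ ((hs' _).2 ht), smul_inv_smul]

/-- long root elements inside `T` lie in `Z_T` -/
theorem LR_mem_ZT (hQ : (QuadraticMap.polarBilin Q).Nondegenerate) (T : Submodule F (ι → F))
    (hT : ∀ t ∈ T, Q t = 0) {t₁ t₂ : ι → F} (h1 : t₁ ∈ T) (h2 : t₂ ∈ T)
    (h12 : β t₁ t₂ = 0) (c : F) : LR hQ t₁ t₂ (hT _ h1) (hT _ h2) h12 c ∈ ZT Q T := by
  have hpol : ∀ t ∈ T, ∀ t' ∈ T, β t t' = 0 := by
    intro t ht t' ht'
    have h := hT _ (T.add_mem ht ht')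
    rw [QuadraticMap.map_add Q t t', hT t ht, hT t' ht'] at h
    simpa using h
  refine ⟨fun x => ?_, fun y hy => ?_, fun t ht => ?_⟩
  · rw [smul_def, LR_mulVec, add_sub_cancel_left]
    exact T.smul_mem _ (T.sub_mem (T.smul_mem _ h2) (T.smul_mem _ h1))
  · rw [smul_def, LR_mulVec, hy _ h1, hy _ h2]
    simp
  · rw [smul_def, LR_mulVec, hpol _ h1 _ ht, hpol _ h2 _ ht]
    simp

theorem Es_comm_ZT (hQ : (QuadraticMap.polarBilin Q).Nondegenerate) (T : Submodule F (ι → F))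
    {t y : ι → F} (ht : t ∈ T) (hQt : Q t = 0) (hy : ∀ t' ∈ T, β t' y = 0) {g : OG Q}
    (hg : g ∈ ZT Q T) : g * Es hQ t y = Es hQ t y * g := by
  have h1 := conj_Es hQ g hQt (hy t ht)
  rw [hg.2.2 t ht, hg.2.1 y hy] at h1
  calc g * Es hQ t y = (g * Es hQ t y * g⁻¹) * g := by group
    _ = Es hQ t y * g := by rw [h1]

theorem mem_of_Es_mem_ZT (hQ : (QuadraticMap.polarBilin Q).Nondegenerate)
    (T : Submodule F (ι → F)) {t y : ι → F} (ht0 : t ≠ 0) (ht : t ∈ T) (hQt : Q t = 0)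
    (hty : β t y = 0) (h : Es hQ t y ∈ ZT Q T) : y ∈ T := by
  obtain ⟨x, hx⟩ := exists_dual hQ ht0
  have h1 := h.1 x
  rw [Es_smul hQ hQt hty, hx] at h1
  have e : y = (x + (1 : F) • y - β y x • t - (Q y * 1) • t - x) + (β y x + Q y) • t := by
    module
  rw [e]
  exact T.add_mem h1 (T.smul_mem _ ht)

end Cfsg.Agent.Lib.Helper5.OAut
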