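import Mathlib
import Cfsg.Agent.Lib.Helper5.OAut9
import Cfsg.Agent.Lib.Helper5.OAut8

set_option autoImplicit false

namespace Cfsg.Agent.Lib.Helper5.OAut

open Matrix Cfsg.Agent.Lib.Helper2 Cfsg.Agent.Lib.Helper2.ReflGen Cfsg.Agent.Lib.Helper2.CDG
open Cfsg.Agent.Lib.Helper2.Siegel Cfsg.Agent.Lib.Helper2.LongRoot

variable {F : Type*} [Field F] [Fintype F] {ι : Type} [Fintype ι] [DecidableEq ι]
variable {Q : QuadraticForm F (ι → F)}

set_option quotPrecheck false in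
local notation "β" => QuadraticMap.polar (⇑Q)

/-- the group generated by the long root elements, as a type -/
abbrev TG (Q : QuadraticForm F (ι → F)) := ↥(T Q)

theorem coe_smul_T (t : TG Q) (x : ι → F) : t • x = (t : OG Q) • x := rfl

/-- Siegel transformations as elements of `T` -/
noncomputable def EsT (hQ : (QuadraticMap.polarBilin Q).Nondegenerate)
    (hn : 5 ≤ Fintype.card ι) (u w : ι → F) : TG Q :=
  open Classical in
  if h : u ≠ 0 ∧ Q u = 0 ∧ β u w = 0 then ⟨Es hQ u w, Es_mem_T_all hQ hn h.1 h.2.1 h.2.2⟩ else 1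

theorem EsT_coe (hQ : (QuadraticMap.polarBilin Q).Nondegenerate)
    (hn : 5 ≤ Fintype.card ι) {u w : ι → F} (hu0 : u ≠ 0) (hu : Q u = 0) (huw : β u w = 0) :
    ((EsT hQ hn u w : TG Q) : OG Q) = Es hQ u w := by
  unfold EsT
  rw [dif_pos ⟨hu0, hu, huw⟩]

/-- central elements of `T` are the scalars `± 1` -/
theorem center_T_scalar (hQ : (QuadraticMap.polarBilin Q).Nondegenerate)
    (hn : 7 ≤ Fintype.card ι) {z : TG Q} (hz : z ∈ Subgroup.center (TG Q)) :
    ∃ t : F, t * t = 1 ∧ ∀ v : ι → F, z • v = t • v := by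
  have hfix : ∀ u : ι → F, u ≠ 0 → Q u = 0 →
      ∃ t : F, (((z : OG Q) : Matrix.GeneralLinearGroup ι F) : Matrix ι ι F) *ᵥ u = t • u := by
    intro u hu0 hu
    have hcomm : ∀ w, β u w = 0 → (z : OG Q) * Es hQ u w = Es hQ u w * (z : OG Q) := by
      intro w hw
      have h1 := (Subgroup.mem_center_iff.1 hz) ⟨Es hQ u w, Es_mem_T_all hQ (by omega) hu0 hu hw⟩
      have h2 := congrArg (fun t : TG Q => (t : OG Q)) h1
      exact h2.symm
    obtain ⟨w₀, hw₀, h | h⟩ := centralizer_Qs hQ (by omega) hu0 hu (z : OG Q) hcomm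
    · refine ⟨1, ?_⟩
      rw [← smul_def, h, Es_smul_self hQ hu hw₀, one_smul]
    · refine ⟨-1, ?_⟩
      rw [← smul_def, h, mul_smul, Es_smul_self hQ hu hw₀, negO_smul]
      simp
  exact scalar_of_fix_points hQ (by omega) (z : OG Q) hfix

theorem center_T_mul_self (hQ : (QuadraticMap.polarBilin Q).Nondegenerate)
    (hn : 7 ≤ Fintype.card ι) {z : TG Q} (hz : z ∈ Subgroup.center (TG Q)) : z * z = 1 := by
  obtain ⟨t, htt, ht⟩ := center_T_scalar hQ hn hz
  apply Subtype.ext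
  apply ext_smul
  intro v
  show (z * z) • v = (1 : TG Q) • v
  rw [mul_smul, ht, ht, smul_smul, htt, one_smul, one_smul]

theorem center_T_eq_bot_of_two (hQ : (QuadraticMap.polarBilin Q).Nondegenerate)
    (hn : 7 ≤ Fintype.card ι) (h2 : (2 : F) = 0) : Subgroup.center (TG Q) = ⊥ := by
  rw [Subgroup.eq_bot_iff_forall]
  intro z hz
  obtain ⟨t, htt, ht⟩ := center_T_scalar hQ hn hz
  have h1 : (t - 1) * (t - 1) = 0 := by linear_combination htt - t * h2 + h2
  have h3 : t = 1 := by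
    rcases mul_eq_zero.1 h1 with h | h <;> exact sub_eq_zero.1 h
  apply Subtype.ext
  apply ext_smul
  intro v
  show z • v = (1 : TG Q) • v
  rw [ht, h3, one_smul, one_smul]

theorem coprime_card_center (hQ : (QuadraticMap.polarBilin Q).Nondegenerate)
    (hn : 7 ≤ Fintype.card ι) (p : ℕ) [hp : Fact p.Prime] [CharP F p] :
    (Nat.card (Subgroup.center (TG Q))).Coprime p := by
  by_cases hp2 : p = 2
  · have h2 : (2 : F) = 0 := by
      have := CharP.cast_eq_zero F p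
      rw [hp2] at this
      exact_mod_cast this
    rw [center_T_eq_bot_of_two hQ hn h2, Subgroup.card_bot]
    exact Nat.coprime_one_left p
  · have hpg : IsPGroup 2 (Subgroup.center (TG Q)) := by
      intro z
      refine ⟨1, ?_⟩
      apply Subtype.ext
      rw [pow_one, pow_two]
      exact center_T_mul_self hQ hn z.2
    obtain ⟨k, hk⟩ := IsPGroup.iff_card.1 hpg
    rw [hk]
    apply Nat.Coprime.pow_left
    exact (Nat.coprime_primes Nat.prime_two hp.out).2 (Ne.symm hp2)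

/-- `-1`, if it lies in `T`, is central -/
theorem negO_central {hneg : negO Q ∈ T Q} : (⟨negO Q, hneg⟩ : TG Q) ∈ Subgroup.center (TG Q) := by
  rw [Subgroup.mem_center_iff]
  intro g
  apply Subtype.ext
  exact (negO_comm (g : OG Q)).symm

/-- `Q_u` inside `T` -/
def QsT (Q : QuadraticForm F (ι → F)) (u : ι → F) : Subgroup (TG Q) := (Qs Q u).subgroupOf (T Q)

theorem mem_QsT (u : ι → F) (t : TG Q) : t ∈ QsT Q u ↔ (t : OG Q) ∈ Qs Q u := Iff.rfl

theorem mem_QsT_iff (hQ : (QuadraticMap.polarBilin Q).Nondegenerate) (hn : 5 ≤ Fintype.card ι)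
    {u : ι → F} (hu0 : u ≠ 0) (hu : Q u = 0) (t : TG Q) :
    t ∈ QsT Q u ↔ ∃ w : ι → F, β u w = 0 ∧ t = EsT hQ hn u w := by
  rw [mem_QsT, mem_Qs_iff hQ hu0 hu]
  constructor
  · rintro ⟨w, hw, h⟩
    exact ⟨w, hw, Subtype.ext (by rw [h, EsT_coe hQ hn hu0 hu hw])⟩
  · rintro ⟨w, hw, rfl⟩
    exact ⟨w, hw, EsT_coe hQ hn hu0 hu hw⟩

theorem QsT_pow_char (hQ : (QuadraticMap.polarBilin Q).Nondegenerate) (p : ℕ) [CharP F p]
    {u : ι → F} (hu0 : u ≠ 0) (hu : Q u = 0) {t : TG Q} (ht : t ∈ QsT Q u) : t ^ p = 1 := by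
  apply Subtype.ext
  rw [Subgroup.coe_pow]
  exact Qs_pow_char hQ p hu0 hu ht

theorem conj_mem_QsT (g : TG Q) {u : ι → F} {x : TG Q} (hx : x ∈ QsT Q u) :
    g * x * g⁻¹ ∈ QsT Q (g • u) := conj_mem_Qs (g : OG Q) hx

theorem QsT_smul (u : ι → F) {a : F} (ha : a ≠ 0) : QsT Q (a • u) = QsT Q u := by
  unfold QsT
  rw [Qs_smul u ha]

end Cfsg.Agent.Lib.Helper5.OAut
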