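import Mathlib
import Cfsg.Agent.Lib.Helper5.OAut10

set_option autoImplicit false

namespace Cfsg.Agent.Lib.Helper5.OAut

open Matrix Cfsg.Agent.Lib.Helper2 Cfsg.Agent.Lib.Helper2.ReflGen Cfsg.Agent.Lib.Helper2.CDG
open Cfsg.Agent.Lib.Helper2.Siegel Cfsg.Agent.Lib.Helper2.LongRoot

variable {F : Type*} [Field F] {ι : Type} [Fintype ι] [DecidableEq ι]
variable {Q : QuadraticForm F (ι → F)}

set_option quotPrecheck false in
local notation "β" => QuadraticMap.polar (⇑Q)

/-- dual vector separating two independent vectors -/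
theorem exists_dual₂ (hQ : (QuadraticMap.polarBilin Q).Nondegenerate) {u u' : ι → F}
    (hu0 : u ≠ 0) (hind : ∀ c : F, u' ≠ c • u) : ∃ f : ι → F, β u f = 0 ∧ β u' f = 1 := by
  have hex : ∃ y, β u y = 0 ∧ β y u' ≠ 0 := by
    by_contra hcon
    push Not at hcon
    obtain ⟨c, hc⟩ := perp_perp hQ hu0 hcon
    exact hind c hc
  obtain ⟨y, hy1, hy2⟩ := hex
  refine ⟨(β y u')⁻¹ • y, by rw [QuadraticMap.polar_smul_right, hy1, smul_zero], ?_⟩
  rw [QuadraticMap.polar_smul_right, QuadraticMap.polar_comm (⇑Q) u' y, smul_eq_mul,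
    inv_mul_cancel₀ hy2]

theorem ind_symm' {u u' : ι → F} (hu0 : u ≠ 0) (hind : ∀ c : F, u' ≠ c • u) :
    ∀ c : F, u ≠ c • u' := by
  intro c h
  have hc0 : c ≠ 0 := by
    intro h0
    rw [h0, zero_smul] at h
    exact hu0 h
  apply hind c⁻¹
  rw [h, smul_smul, inv_mul_cancel₀ hc0, one_smul]

/-- a vector orthogonal to `{u, u'}^⊥` lies in the span of `u, u'` -/
theorem perp_perp₂ (hQ : (QuadraticMap.polarBilin Q).Nondegenerate) {u u' : ι → F}
    (hu0 : u ≠ 0) (hind : ∀ c : F, u' ≠ c • u) {w : ι → F}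
    (hw : ∀ y, β u y = 0 → β u' y = 0 → β w y = 0) : ∃ a c : F, w = a • u + c • u' := by
  have hu'0 : u' ≠ 0 := by
    intro h
    exact hind 0 (by rw [h, zero_smul])
  obtain ⟨f', huf', hu'f'⟩ := exists_dual₂ hQ hu0 hind
  obtain ⟨f, hu'f, huf⟩ := exists_dual₂ hQ hu'0 (ind_symm' hu0 hind)
  refine ⟨β w f, β w f', ?_⟩
  have h0 : w - β w f • u - β w f' • u' = 0 := by
    apply hQ.1
    intro y
    show β (w - β w f • u - β w f' • u') y = 0
    obtain ⟨y₀, hy₀⟩ : ∃ y₀, y₀ = y - β u y • f - β u' y • f' := ⟨_, rfl⟩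
    have h1 : β u y₀ = 0 := by
      rw [hy₀, QuadraticMap.polar_sub_right, QuadraticMap.polar_sub_right,
        QuadraticMap.polar_smul_right, QuadraticMap.polar_smul_right, huf, huf']
      simp
    have h2 : β u' y₀ = 0 := by
      rw [hy₀, QuadraticMap.polar_sub_right, QuadraticMap.polar_sub_right,
        QuadraticMap.polar_smul_right, QuadraticMap.polar_smul_right, hu'f, hu'f']
      simp
    have h3 := hw y₀ h1 h2
    have hy : y = y₀ + β u y • f + β u' y • f' := by rw [hy₀]; abel
    rw [hy]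
    simp only [QuadraticMap.polar_sub_left, QuadraticMap.polar_add_right,
      QuadraticMap.polar_smul_left, QuadraticMap.polar_smul_right, smul_eq_mul, h1, h2, h3,
      huf, huf', hu'f, hu'f']
    ring
  have e : w = (w - β w f • u - β w f' • u') + β w f • u + β w f' • u' := by abel
  rw [h0, zero_add] at e
  exact e

/-- the intersection of two distinct unipotent radicals is a long root group -/
theorem Qs_inter (hQ : (QuadraticMap.polarBilin Q).Nondegenerate) {u u' : ι → F}
    (hu0 : u ≠ 0) (hu : Q u = 0) (hu' : Q u' = 0) (hind : ∀ c : F, u' ≠ c • u) {g : OG Q}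
    (hg : g ∈ Qs Q u) (hg' : g ∈ Qs Q u') :
    ∃ c : F, β u (c • u') = 0 ∧ g = Es hQ u (c • u') := by
  obtain ⟨w, huw, rfl⟩ := (mem_Qs_iff hQ hu0 hu g).1 hg
  have hfix := hg'.1
  rw [Es_smul hQ hu huw] at hfix
  by_cases hb : β u u' = 0
  · have hwu' : β w u' = 0 := by
      rw [hb] at hfix
      have h1 : β w u' • u = 0 := by
        have h2 : u' + (0 : F) • w - β w u' • u - (Q w * 0) • u - u' = 0 := by
          rw [hfix, sub_self]
        have e : β w u' • u = -(u' + (0 : F) • w - β w u' • u - (Q w * 0) • u - u') := by module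
        rw [e, h2, neg_zero]
      rcases smul_eq_zero.1 h1 with h | h
      · exact h
      · exact absurd h hu0
    have hperp : ∀ y, β u y = 0 → β u' y = 0 → β w y = 0 := by
      intro y hy hy'
      obtain ⟨c', hc'⟩ := hg'.2 y hy'
      rw [Es_smul_perp hQ hu huw hy] at hc'
      have h1 : -β w y • u = c' • u' := by
        have h2 : y - β w y • u - y = y + c' • u' - y := by rw [hc']
        have e1 : y - β w y • u - y = -β w y • u := by module
        have e2 : y + c' • u' - y = c' • u' := by abel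
        rw [e1, e2] at h2
        exact h2
      by_contra hne
      by_cases hc0 : c' = 0
      · rw [hc0, zero_smul] at h1
        rcases smul_eq_zero.1 h1 with h | h
        · exact hne (neg_eq_zero.1 h)
        · exact hu0 h
      · apply hind (-β w y / c')
        have e : u' = c'⁻¹ • (c' • u') := by rw [smul_smul, inv_mul_cancel₀ hc0, one_smul]
        rw [e, ← h1, smul_smul]
        congr 1
        field_simp
    obtain ⟨a, c, hac⟩ := perp_perp₂ hQ hu0 hind hperp
    refine ⟨c, by rw [QuadraticMap.polar_smul_right, hb, smul_zero], ?_⟩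
    have h1 : β u (a • u) = 0 := by
      rw [QuadraticMap.polar_smul_right, polar_self_sing hu, smul_zero]
    have h2 : β u (c • u') = 0 := by rw [QuadraticMap.polar_smul_right, hb, smul_zero]
    rw [hac, ← Es_mul hQ hu h1 h2, Es_self_smul hQ hu, one_mul]
  · refine ⟨0, by rw [zero_smul]; simp, ?_⟩
    rw [zero_smul, Es_zero, Es_eq_one_iff hQ hu0 hu huw]
    refine ⟨(β u u')⁻¹ * (β w u' + Q w * β u u'), ?_⟩
    have h2 : u' + β u u' • w - β w u' • u - (Q w * β u u') • u - u' = 0 := by
      rw [hfix, sub_self]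
    have h3 : β u u' • w = (β w u' + Q w * β u u') • u := by
      have e : β u u' • w = (u' + β u u' • w - β w u' • u - (Q w * β u u') • u - u')
          + (β w u' + Q w * β u u') • u := by module
      rw [e, h2, zero_add]
    calc w = (β u u')⁻¹ • (β u u' • w) := by rw [smul_smul, inv_mul_cancel₀ hb, one_smul]
      _ = ((β u u')⁻¹ * (β w u' + Q w * β u u')) • u := by rw [h3, smul_smul]

end Cfsg.Agent.Lib.Helper5.OAut
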