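import Mathlib
import Cfsg.Agent.Lib.Helper5.OAut11

set_option autoImplicit false

namespace Cfsg.Agent.Lib.Helper5.OAut

section generic

variable {G : Type*} [Group G] {𝔊 : Type*} [Group 𝔊] {ρ : G →* 𝔊}

theorem CQ.isCoatom_map (hρ : CQ ρ) {S : Subgroup G} (hS : IsCoatom S)
    (hc : Subgroup.center G ≤ S) : IsCoatom (S.map ρ) := by
  have hcomap : (S.map ρ).comap ρ = S := by
    apply le_antisymm
    · intro g hg
      obtain ⟨s, hs, hsg⟩ := hg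
      have h1 : s⁻¹ * g ∈ Subgroup.center G := by
        rw [← hρ.ker, map_mul, map_inv, hsg, inv_mul_cancel]
      have h2 : g = s * (s⁻¹ * g) := by group
      rw [h2]
      exact S.mul_mem hs (hc h1)
    · exact Subgroup.le_comap_map ρ S
  constructor
  · intro h
    apply hS.1
    rw [← hcomap, h, Subgroup.comap_top]
  · intro K hK
    have h1 : S ≤ K.comap ρ := by
      rw [← hcomap]
      exact Subgroup.comap_mono hK.le
    have h2 : K.comap ρ ≠ S := by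
      intro h
      apply hK.ne
      rw [← Subgroup.map_comap_eq_self_of_surjective hρ.surj K, h]
    have h3 := hS.2 _ (lt_of_le_of_ne h1 (Ne.symm h2))
    rw [← Subgroup.map_comap_eq_self_of_surjective hρ.surj K, h3, Subgroup.map_top_of_surjective ρ hρ.surj]

theorem CQ.isCoatom_comap (hρ : CQ ρ) {ℌ : Subgroup 𝔊} (hS : IsCoatom ℌ) :
    IsCoatom (ℌ.comap ρ) := by
  constructor
  · intro h
    apply hS.1
    rw [← Subgroup.map_comap_eq_self_of_surjective hρ.surj ℌ, h,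
      Subgroup.map_top_of_surjective ρ hρ.surj]
  · intro K hK
    have hker : ρ.ker ≤ K := by
      intro x hx
      apply hK.le
      show ρ x ∈ ℌ
      rw [MonoidHom.mem_ker.1 hx]
      exact ℌ.one_mem
    have h1 : ℌ ≤ K.map ρ := by
      rw [← Subgroup.map_comap_eq_self_of_surjective hρ.surj ℌ]
      exact Subgroup.map_mono hK.le
    have h2 : K.map ρ ≠ ℌ := by
      intro h
      apply hK.ne
      rw [← h, Subgroup.comap_map_eq_self hker]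
    have h3 := hS.2 _ (lt_of_le_of_ne h1 (Ne.symm h2))
    rw [← Subgroup.comap_map_eq_self hker, h3, Subgroup.comap_top]

/-- the abstract properties of the image of a unipotent radical `Q_u` -/
structure PProp (q p : ℕ) (𝔄 ℌ : Subgroup 𝔊) : Prop where
  ne_bot : 𝔄 ≠ ⊥
  exp : ∀ a ∈ 𝔄, a ^ p = 1
  comm : ∀ a ∈ 𝔄, ∀ b ∈ 𝔄, a * b = b * a
  cent : ∀ g : 𝔊, (∀ a ∈ 𝔄, g * a = a * g) → g ∈ 𝔄
  coatom : IsCoatom ℌ
  le : 𝔄 ≤ ℌ
  norm : ∀ h ∈ ℌ, ∀ a ∈ 𝔄, h * a * h⁻¹ ∈ 𝔄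
  minimal : ∀ 𝔑 : Subgroup 𝔊, 𝔑 ≤ 𝔄 → 𝔑 ≠ ⊥ → (∀ h ∈ ℌ, ∀ x ∈ 𝔑, h * x * h⁻¹ ∈ 𝔑) → 𝔑 = 𝔄
  inter : ∀ g : 𝔊, (∀ a ∈ 𝔄, g * a * g⁻¹ ∈ 𝔄) ∨
    Nat.card ↥(𝔄 ⊓ 𝔄.map (MulAut.conj g).toMonoidHom) ≤ q

/-- an abelian subgroup normalised by `ℌ` and contained in it coincides with `𝔄` -/
theorem PProp.eq_of_normal {q p : ℕ} {𝔄 ℌ : Subgroup 𝔊} (hP : PProp q p 𝔄 ℌ) (𝔅 : Subgroup 𝔊)
    (h1 : 𝔅 ≠ ⊥) (hab : ∀ a ∈ 𝔅, ∀ b ∈ 𝔅, a * b = b * a) (hle : 𝔅 ≤ ℌ)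
    (hnorm : ∀ h ∈ ℌ, ∀ b ∈ 𝔅, h * b * h⁻¹ ∈ 𝔅) : 𝔄 = 𝔅 := by
  by_cases hD : 𝔄 ⊓ 𝔅 = ⊥
  · exfalso
    have hB : 𝔅 ≤ 𝔄 := by
      intro b hb
      apply hP.cent
      intro a ha
      have hc : b * a * b⁻¹ * a⁻¹ ∈ 𝔄 ⊓ 𝔅 := by
        constructor
        · exact 𝔄.mul_mem (hP.norm b (hle hb) a ha) (𝔄.inv_mem ha)
        · have h2 := hnorm a (hP.le ha) b⁻¹ (𝔅.inv_mem hb)
          have e : b * a * b⁻¹ * a⁻¹ = b * (a * b⁻¹ * a⁻¹) := by group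
          rw [e]
          exact 𝔅.mul_mem hb h2
      rw [hD, Subgroup.mem_bot] at hc
      calc b * a = (b * a * b⁻¹ * a⁻¹) * (a * b) := by group
        _ = a * b := by rw [hc, one_mul]
    apply h1
    rw [eq_bot_iff, ← hD]
    exact le_inf hB le_rfl
  · have h2 := hP.minimal (𝔄 ⊓ 𝔅) inf_le_left hD (fun h hh x hx =>
      ⟨hP.norm h hh x hx.1, hnorm h hh x hx.2⟩)
    have hA : 𝔄 ≤ 𝔅 := by
      rw [← h2]
      exact inf_le_right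
    apply le_antisymm hA
    intro b hb
    apply hP.cent
    intro a ha
    exact hab b hb a (hA ha)

end generic

end Cfsg.Agent.Lib.Helper5.OAut
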