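import Mathlib
import Cfsg.Agent.Lib.Helper5.OAut12

set_option autoImplicit false

namespace Cfsg.Agent.Lib.Helper5.OAut

open Matrix Cfsg.Agent.Lib.Helper2 Cfsg.Agent.Lib.Helper2.ReflGen Cfsg.Agent.Lib.Helper2.CDG
open Cfsg.Agent.Lib.Helper2.Siegel Cfsg.Agent.Lib.Helper2.LongRoot

variable {F : Type*} [Field F] [Fintype F] {ι : Type} [Fintype ι] [DecidableEq ι]
variable {Q : QuadraticForm F (ι → F)}
variable {𝔊 : Type*} [Group 𝔊]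

set_option quotPrecheck false in
local notation "β" => QuadraticMap.polar (⇑Q)

/-- the image of `Q_u` -/
def Qb (ρ : TG Q →* 𝔊) (u : ι → F) : Subgroup 𝔊 := (QsT Q u).map ρ

/-- the stabiliser in `T` of a singular point -/
abbrev PsT (u : ι → F) (hu0 : u ≠ 0) (hu : Q u = 0) : Subgroup (TG Q) :=
  MulAction.stabilizer (TG Q) (mkPt u hu0 hu)

theorem mem_PsT_iff {u : ι → F} (hu0 : u ≠ 0) (hu : Q u = 0) (t : TG Q) :
    t ∈ PsT u hu0 hu ↔ ∃ c : F, t • u = c • u := by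
  rw [MulAction.mem_stabilizer_iff, T_smul_mkPt, mkPt_eq_iff]
  constructor
  · rintro ⟨a, ha, h⟩
    refine ⟨a⁻¹, ?_⟩
    have h' : u = a • (t • u) := h
    rw [h', smul_smul, inv_mul_cancel₀ ha, one_smul, ← h']
  · rintro ⟨c, hc⟩
    have hc' : (((t : OG Q) : Matrix.GeneralLinearGroup ι F) : Matrix ι ι F) *ᵥ u = c • u := hc
    have hc0 : c ≠ 0 := by
      intro h
      rw [h, zero_smul] at hc'
      exact iso_ne_zero (t : OG Q) u hu0 hc'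
    refine ⟨c⁻¹, inv_ne_zero hc0, ?_⟩
    rw [hc', smul_smul, inv_mul_cancel₀ hc0, one_smul]

theorem center_le_PsT (hQ : (QuadraticMap.polarBilin Q).Nondegenerate)
    (hn : 7 ≤ Fintype.card ι) {u : ι → F} (hu0 : u ≠ 0) (hu : Q u = 0) :
    Subgroup.center (TG Q) ≤ PsT u hu0 hu := by
  intro z hz
  obtain ⟨t, -, ht⟩ := center_T_scalar hQ hn hz
  exact (mem_PsT_iff hu0 hu z).2 ⟨t, ht u⟩

theorem isCoatom_PsT (hQ : (QuadraticMap.polarBilin Q).Nondegenerate)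
    (hn : 7 ≤ Fintype.card ι) {u : ι → F} (hu0 : u ≠ 0) (hu : Q u = 0) :
    IsCoatom (PsT u hu0 hu) := by
  haveI := isPreprimitive hQ hn
  haveI : Nontrivial (Pts Q) := by
    obtain ⟨f, huf, hf⟩ := Cfsg.Agent.Lib.Helper5.exists_partner Q hQ hu0 hu
    have hf0 : f ≠ 0 := by
      intro h
      rw [h] at huf
      simp at huf
    refine ⟨⟨mkPt u hu0 hu, mkPt f hf0 hf, ?_⟩⟩
    intro h
    obtain ⟨a, -, ha⟩ := (mkPt_eq_iff _ _ _ _ _ _).1 h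
    rw [ha, QuadraticMap.polar_smul_right, polar_self_sing hu, smul_zero] at huf
    exact zero_ne_one huf
  exact MulAction.IsPreprimitive.isCoatom_stabilizer_of_isPreprimitive (TG Q) (mkPt u hu0 hu)

variable {ρ : TG Q →* 𝔊}

theorem Qb_ne_bot (p : ℕ) [Fact p.Prime] [CharP F p]
    (hQ : (QuadraticMap.polarBilin Q).Nondegenerate)
    (hn : 7 ≤ Fintype.card ι) (hρ : CQ ρ) {u : ι → F} (hu0 : u ≠ 0) (hu : Q u = 0) :
    Qb ρ u ≠ ⊥ := by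
  have hn5 : 5 ≤ Fintype.card ι := by omega
  obtain ⟨a, a', ha, ha', haa', hau, ha'u⟩ := exists_hyp_perp1 hQ hn5 u hu0 hu
  have hua : β u a = 0 := by rw [QuadraticMap.polar_comm (⇑Q), hau]
  intro hbot
  have hx : EsT hQ hn5 u a ∈ QsT Q u := (mem_QsT_iff hQ hn5 hu0 hu _).2 ⟨a, hua, rfl⟩
  have h1 : ρ (EsT hQ hn5 u a) ∈ Qb ρ u := ⟨_, hx, rfl⟩
  rw [hbot, Subgroup.mem_bot] at h1
  have h2 : EsT hQ hn5 u a = 1 :=
    eq_of_pow p (coprime_card_center hQ hn p) hρ (QsT_pow_char hQ p hu0 hu hx) (one_pow p)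
      (by rw [h1, map_one])
  have h3 : Es hQ u a = 1 := by
    rw [← EsT_coe hQ hn5 hu0 hu hua, h2]
    rfl
  obtain ⟨c, hc⟩ := (Es_eq_one_iff hQ hu0 hu hua).1 h3
  rw [hc, QuadraticMap.polar_smul_left, QuadraticMap.polar_comm (⇑Q) u a', ha'u, smul_zero] at haa'
  exact zero_ne_one haa'

theorem Qb_exp (p : ℕ) [CharP F p] (hQ : (QuadraticMap.polarBilin Q).Nondegenerate)
    {u : ι → F} (hu0 : u ≠ 0) (hu : Q u = 0) : ∀ a ∈ Qb ρ u, a ^ p = 1 := by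
  rintro _ ⟨x, hx, rfl⟩
  rw [← map_pow, QsT_pow_char hQ p hu0 hu hx, map_one]

theorem Qb_comm (hQ : (QuadraticMap.polarBilin Q).Nondegenerate)
    {u : ι → F} (hu0 : u ≠ 0) (hu : Q u = 0) : ∀ a ∈ Qb ρ u, ∀ b ∈ Qb ρ u, a * b = b * a := by
  rintro _ ⟨x, hx, rfl⟩ _ ⟨y, hy, rfl⟩
  rw [← map_mul, ← map_mul]
  congr 1
  apply Subtype.ext
  exact Qs_comm hQ hu0 hu hx hy

theorem Qb_cent (p : ℕ) [Fact p.Prime] [CharP F p]
    (hQ : (QuadraticMap.polarBilin Q).Nondegenerate)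
    (hn : 7 ≤ Fintype.card ι) (hρ : CQ ρ) {u : ι → F} (hu0 : u ≠ 0) (hu : Q u = 0) (g : 𝔊)
    (hg : ∀ a ∈ Qb ρ u, g * a = a * g) : g ∈ Qb ρ u := by
  have hn5 : 5 ≤ Fintype.card ι := by omega
  obtain ⟨t, rfl⟩ := hρ.surj g
  have hcomm : ∀ w, β u w = 0 → (t : OG Q) * Es hQ u w = Es hQ u w * (t : OG Q) := by
    intro w hw
    have hx : EsT hQ hn5 u w ∈ QsT Q u := (mem_QsT_iff hQ hn5 hu0 hu _).2 ⟨w, hw, rfl⟩
    have h1 := comm_of_pow p (coprime_card_center hQ hn p) hρ (x := t)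
      (QsT_pow_char hQ p hu0 hu hx) (hg _ ⟨_, hx, rfl⟩)
    have h2 := congrArg (fun s : TG Q => (s : OG Q)) h1
    simp only [Subgroup.coe_mul] at h2
    rw [EsT_coe hQ hn5 hu0 hu hw] at h2
    exact h2
  obtain ⟨w₀, hw₀, h | h⟩ := centralizer_Qs hQ hn5 hu0 hu (t : OG Q) hcomm
  · refine ⟨t, ?_, rfl⟩
    show (t : OG Q) ∈ Qs Q u
    rw [h]
    exact Es_mem_Qs hQ hu hw₀
  · have hneg : negO Q ∈ T Q := by
      have h1 : negO Q = (t : OG Q) * (Es hQ u w₀)⁻¹ := by rw [h, mul_inv_cancel_right]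
      rw [h1]
      exact (T Q).mul_mem t.2 ((T Q).inv_mem (Es_mem_T_all hQ hn5 hu0 hu hw₀))
    have hz : ρ ⟨negO Q, hneg⟩ = 1 := (hρ.ker _).2 negO_central
    have ht : t = ⟨negO Q, hneg⟩ * EsT hQ hn5 u w₀ := by
      apply Subtype.ext
      rw [Subgroup.coe_mul, EsT_coe hQ hn5 hu0 hu hw₀, h]
    refine ⟨EsT hQ hn5 u w₀, (mem_QsT_iff hQ hn5 hu0 hu _).2 ⟨w₀, hw₀, rfl⟩, ?_⟩
    rw [ht, map_mul, hz, one_mul]

theorem Qb_norm {u : ι → F} (hu0 : u ≠ 0) (hu : Q u = 0) :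
    ∀ h ∈ (PsT u hu0 hu).map ρ, ∀ a ∈ Qb ρ u, h * a * h⁻¹ ∈ Qb ρ u := by
  rintro _ ⟨t, ht, rfl⟩ _ ⟨x, hx, rfl⟩
  obtain ⟨c, hc⟩ := (mem_PsT_iff hu0 hu t).1 ht
  have hc0 : c ≠ 0 := by
    intro h
    rw [h, zero_smul] at hc
    exact iso_ne_zero (t : OG Q) u hu0 hc
  refine ⟨t * x * t⁻¹, ?_, by rw [map_mul, map_mul, map_inv]⟩
  have h1 := conj_mem_QsT t hx
  rw [hc, QsT_smul u hc0] at h1
  exact h1

theorem Qb_minimal (hQ : (QuadraticMap.polarBilin Q).Nondegenerate)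
    (hn : 7 ≤ Fintype.card ι) {u : ι → F} (hu0 : u ≠ 0) (hu : Q u = 0)
    (𝔑 : Subgroup 𝔊) (h𝔑 : 𝔑 ≤ Qb ρ u) (h𝔑1 : 𝔑 ≠ ⊥)
    (hinv : ∀ h ∈ (PsT u hu0 hu).map ρ, ∀ x ∈ 𝔑, h * x * h⁻¹ ∈ 𝔑) : 𝔑 = Qb ρ u := by
  obtain ⟨N, hN⟩ : ∃ N : Subgroup (OG Q), N = ((𝔑.comap ρ) ⊓ QsT Q u).map (T Q).subtype :=
    ⟨_, rfl⟩
  have hmem : ∀ x : OG Q, x ∈ N ↔ ∃ hx : x ∈ T Q, ρ ⟨x, hx⟩ ∈ 𝔑 ∧ x ∈ Qs Q u := by
    intro x
    rw [hN]
    constructor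
    · rintro ⟨y, ⟨hy1, hy2⟩, rfl⟩
      exact ⟨y.2, hy1, hy2⟩
    · rintro ⟨hx, h1, h2⟩
      exact ⟨⟨x, hx⟩, ⟨h1, h2⟩, rfl⟩
  have hNle : N ≤ Qs Q u := by
    intro x hx
    obtain ⟨_, _, h⟩ := (hmem x).1 hx
    exact h
  have hN1 : N ≠ ⊥ := by
    obtain ⟨a, ha1⟩ := (Subgroup.ne_bot_iff_exists_ne_one (H := 𝔑)).1 h𝔑1
    obtain ⟨x, hx, hxa⟩ := h𝔑 a.2
    intro hbot
    have h1 : (x : OG Q) ∈ N := (hmem _).2 ⟨x.2, by
      have : (⟨(x : OG Q), x.2⟩ : TG Q) = x := rfl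
      rw [this, hxa]; exact a.2, hx⟩
    rw [hbot, Subgroup.mem_bot] at h1
    apply ha1
    apply Subtype.ext
    rw [← hxa]
    have : x = 1 := Subtype.ext h1
    rw [this, map_one]
    rfl
  have hnorm : ∀ t ∈ T Q, t • u = u → ∀ x ∈ N, t * x * t⁻¹ ∈ N := by
    intro t ht htu x hx
    obtain ⟨hxT, h1, h2⟩ := (hmem x).1 hx
    rw [hmem]
    have htP : (⟨t, ht⟩ : TG Q) ∈ PsT u hu0 hu :=
      (mem_PsT_iff hu0 hu _).2 ⟨1, by rw [one_smul]; exact htu⟩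
    refine ⟨(T Q).mul_mem ((T Q).mul_mem ht hxT) ((T Q).inv_mem ht), ?_, ?_⟩
    · have h3 := hinv _ ⟨_, htP, rfl⟩ _ h1
      rw [← map_inv, ← map_mul, ← map_mul] at h3
      exact h3
    · have h3 := conj_mem_Qs t h2
      rw [htu] at h3
      exact h3
  have hNeq := Qs_minimal hQ hn hu0 hu N hNle hN1 hnorm
  apply le_antisymm h𝔑
  rintro _ ⟨x, hx, rfl⟩
  have h1 : (x : OG Q) ∈ N := by rw [hNeq]; exact hx
  obtain ⟨_, h2, _⟩ := (hmem _).1 h1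
  exact h2

theorem Qb_inter (p : ℕ) [Fact p.Prime] [CharP F p]
    (hQ : (QuadraticMap.polarBilin Q).Nondegenerate)
    (hn : 7 ≤ Fintype.card ι) (hρ : CQ ρ) {u : ι → F} (hu0 : u ≠ 0) (hu : Q u = 0) (g : 𝔊) :
    (∀ a ∈ Qb ρ u, g * a * g⁻¹ ∈ Qb ρ u) ∨
      Nat.card ↥(Qb ρ u ⊓ (Qb ρ u).map (MulAut.conj g).toMonoidHom) ≤ Fintype.card F := by
  have hn5 : 5 ≤ Fintype.card ι := by omega
  obtain ⟨t, rfl⟩ := hρ.surj g
  have hu'0 : t • u ≠ 0 := iso_ne_zero (t : OG Q) u hu0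
  have hu' : Q (t • u) = 0 := by
    show Q ((t : OG Q) • u) = 0
    rw [Q_smul, hu]
  by_cases hdep : ∃ c : F, t • u = c • u
  · left
    obtain ⟨c, hc⟩ := hdep
    have hc0 : c ≠ 0 := by
      intro h
      rw [h, zero_smul] at hc
      exact hu'0 hc
    rintro _ ⟨x, hx, rfl⟩
    refine ⟨t * x * t⁻¹, ?_, by rw [map_mul, map_mul, map_inv]⟩
    have h1 := conj_mem_QsT t hx
    rw [hc, QsT_smul u hc0] at h1
    exact h1
  · right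
    push Not at hdep
    have hkey : ∀ b ∈ Qb ρ u ⊓ (Qb ρ u).map (MulAut.conj (ρ t)).toMonoidHom,
        ∃ c : F, ρ (EsT hQ hn5 u (c • (t • u))) = b := by
      rintro b ⟨⟨x, hx, rfl⟩, ⟨_, ⟨y, hy, rfl⟩, hb⟩⟩
      have hb' : ρ (t * y * t⁻¹) = ρ x := by
        rw [map_mul, map_mul, map_inv]
        exact hb
      have hy' := conj_mem_QsT t hy
      have hxy : t * y * t⁻¹ = x :=
        eq_of_pow p (coprime_card_center hQ hn p) hρ (QsT_pow_char hQ p hu'0 hu' hy')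
          (QsT_pow_char hQ p hu0 hu hx) hb'
      rw [hxy] at hy'
      obtain ⟨c, hc1, hc2⟩ := Qs_inter hQ hu0 hu hu' hdep hx hy'
      refine ⟨c, ?_⟩
      congr 1
      apply Subtype.ext
      rw [EsT_coe hQ hn5 hu0 hu hc1]
      exact hc2.symm
    obtain ⟨f, hf⟩ : ∃ f : ↥(Qb ρ u ⊓ (Qb ρ u).map (MulAut.conj (ρ t)).toMonoidHom) → F,
        ∀ b, ρ (EsT hQ hn5 u (f b • (t • u))) = b.1 :=
      ⟨fun b => Classical.choose (hkey b.1 b.2), fun b => Classical.choose_spec (hkey b.1 b.2)⟩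
    have hinj : Function.Injective f := by
      intro b b' hbb'
      apply Subtype.ext
      rw [← hf b, ← hf b', hbb']
    have := Nat.card_le_card_of_injective f hinj
    rwa [Nat.card_eq_fintype_card (α := F)] at this

/-- the image of `Q_u` under a central quotient map has the abstract properties -/
theorem pprop_Qb (p : ℕ) [Fact p.Prime] [CharP F p]
    (hQ : (QuadraticMap.polarBilin Q).Nondegenerate)
    (hn : 7 ≤ Fintype.card ι) (hρ : CQ ρ) {u : ι → F} (hu0 : u ≠ 0) (hu : Q u = 0) :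
    PProp (Fintype.card F) p (Qb ρ u) ((PsT u hu0 hu).map ρ) where
  ne_bot := Qb_ne_bot p hQ hn hρ hu0 hu
  exp := Qb_exp p hQ hu0 hu
  comm := Qb_comm hQ hu0 hu
  cent := Qb_cent p hQ hn hρ hu0 hu
  coatom := hρ.isCoatom_map (isCoatom_PsT hQ hn hu0 hu) (center_le_PsT hQ hn hu0 hu)
  norm := Qb_norm hu0 hu
  le := by
    rintro _ ⟨x, hx, rfl⟩
    exact ⟨x, (mem_PsT_iff hu0 hu x).2 ⟨1, by rw [one_smul]; exact hx.1⟩, rfl⟩
  minimal := Qb_minimal hQ hn hu0 hu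
  inter := Qb_inter p hQ hn hρ hu0 hu

end Cfsg.Agent.Lib.Helper5.OAut
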