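import Mathlib
import Cfsg.Agent.Lib.Helper5.OAut13

set_option autoImplicit false

namespace Cfsg.Agent.Lib.Helper5.OAut

open Matrix Cfsg.Agent.Lib.Helper2 Cfsg.Agent.Lib.Helper2.ReflGen Cfsg.Agent.Lib.Helper2.CDG
open Cfsg.Agent.Lib.Helper2.Siegel Cfsg.Agent.Lib.Helper2.LongRoot

variable {F : Type*} [Field F] {ι : Type} [Fintype ι] [DecidableEq ι]
variable {Q : QuadraticForm F (ι → F)}

set_option quotPrecheck false in
local notation "β" => QuadraticMap.polar (⇑Q)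

theorem ts_polar {T : Submodule F (ι → F)} (hT : ∀ t ∈ T, Q t = 0) {t t' : ι → F} (ht : t ∈ T)
    (ht' : t' ∈ T) : β t t' = 0 := by
  have h := hT _ (T.add_mem ht ht')
  rw [QuadraticMap.map_add Q t t', hT t ht, hT t' ht'] at h
  simpa using h

/-- the configuration used to exclude maximal totally singular subspaces of dimension `≥ 5` -/
theorem exists_config (hQ : (QuadraticMap.polarBilin Q).Nondegenerate)
    (T : Submodule F (ι → F)) (hT : ∀ t ∈ T, Q t = 0) (h5 : 5 ≤ Module.finrank F ↥T) :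
    ∃ t₁ t₂ a b b' f₁ f₂ : ι → F, t₁ ∈ T ∧ t₂ ∈ T ∧ a ∈ T ∧ b ∈ T ∧ b' ∈ T ∧
      Q f₁ = 0 ∧ Q f₂ = 0 ∧ β f₁ f₂ = 0 ∧
      β f₁ a = 0 ∧ β f₂ a = 0 ∧ β f₁ b = 0 ∧ β f₂ b = 0 ∧ β f₁ b' = 0 ∧ β f₂ b' = 0 ∧
      a ≠ 0 ∧ (∀ c c' d : F, c • b + c' • b' = d • a → c = 0 ∧ c' = 0) ∧
      β t₁ f₁ = 1 ∧ β t₂ f₁ = 0 ∧ β t₁ f₂ = 0 ∧ β t₂ f₂ = 1 := by
  have h5' : ((5 : ℕ) : Cardinal) ≤ Module.rank F ↥T := by
    rw [← Module.finrank_eq_rank F ↥T]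
    exact_mod_cast h5
  obtain ⟨v, hv⟩ := Module.le_rank_iff.1 h5'
  have hli := Fintype.linearIndependent_iff.1 hv
  -- coordinates
  have hcoef : ∀ c0 c1 c2 c3 c4 : F,
      c0 • (v 0 : ι → F) + c1 • (v 1 : ι → F) + c2 • (v 2 : ι → F) + c3 • (v 3 : ι → F)
        + c4 • (v 4 : ι → F) = 0 → c0 = 0 ∧ c1 = 0 ∧ c2 = 0 ∧ c3 = 0 ∧ c4 = 0 := by
    intro c0 c1 c2 c3 c4 h
    have h1 := hli ![c0, c1, c2, c3, c4] (by
      apply Subtype.ext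
      rw [Fin.sum_univ_five]
      simpa using h)
    exact ⟨h1 0, h1 1, h1 2, h1 3, h1 4⟩
  obtain ⟨t₁, ht₁⟩ : ∃ t₁ : ι → F, t₁ = v 0 := ⟨_, rfl⟩
  obtain ⟨t₂, ht₂⟩ : ∃ t₂ : ι → F, t₂ = v 1 := ⟨_, rfl⟩
  have ht₁T : t₁ ∈ T := by rw [ht₁]; exact (v 0).2
  have ht₂T : t₂ ∈ T := by rw [ht₂]; exact (v 1).2
  rw [← ht₁, ← ht₂] at hcoef
  have ht₁0 : t₁ ≠ 0 := by
    intro h
    have := hcoef 1 0 0 0 0 (by rw [h]; simp)
    exact one_ne_zero this.1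
  have ht₂0 : t₂ ≠ 0 := by
    intro h
    have := hcoef 0 1 0 0 0 (by rw [h]; simp)
    exact one_ne_zero this.2.1
  have hind12 : ∀ c : F, t₂ ≠ c • t₁ := by
    intro c h
    have := hcoef (-c) 1 0 0 0 (by rw [h]; simp)
    exact one_ne_zero this.2.1
  have hind21 : ∀ c : F, t₁ ≠ c • t₂ := ind_symm' ht₁0 hind12
  have h12 : β t₁ t₂ = 0 := ts_polar hT ht₁T ht₂T
  have h21 : β t₂ t₁ = 0 := ts_polar hT ht₂T ht₁T
  have h11 : β t₁ t₁ = 0 := ts_polar hT ht₁T ht₁T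
  have h22 : β t₂ t₂ = 0 := ts_polar hT ht₂T ht₂T
  -- the partner `f₁`
  obtain ⟨y₁, hy₁a, hy₁b⟩ := exists_dual₂ hQ ht₂0 hind21
  obtain ⟨f₁, hf₁⟩ : ∃ f₁, f₁ = y₁ + (-Q y₁) • t₁ := ⟨_, rfl⟩
  have hQf₁ : Q f₁ = 0 := by
    rw [hf₁, map_add_smul, hT t₁ ht₁T, QuadraticMap.polar_comm (⇑Q) y₁ t₁, hy₁b]
    ring
  have ht₁f₁ : β t₁ f₁ = 1 := by
    rw [hf₁, QuadraticMap.polar_add_right, QuadraticMap.polar_smul_right, hy₁b, h11]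
    simp
  have ht₂f₁ : β t₂ f₁ = 0 := by
    rw [hf₁, QuadraticMap.polar_add_right, QuadraticMap.polar_smul_right, hy₁a, h21]
    simp
  -- the partner `f₂`
  obtain ⟨y₂, hy₂a, hy₂b⟩ := exists_dual₂ hQ ht₁0 hind12
  obtain ⟨y₂', hy₂'⟩ : ∃ y₂', y₂' = y₂ + (-β f₁ y₂) • t₁ := ⟨_, rfl⟩
  have h1y₂' : β t₁ y₂' = 0 := by
    rw [hy₂', QuadraticMap.polar_add_right, QuadraticMap.polar_smul_right, hy₂a, h11]
    simp
  have h2y₂' : β t₂ y₂' = 1 := by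
    rw [hy₂', QuadraticMap.polar_add_right, QuadraticMap.polar_smul_right, hy₂b, h21]
    simp
  have hf₁y₂' : β f₁ y₂' = 0 := by
    rw [hy₂', QuadraticMap.polar_add_right, QuadraticMap.polar_smul_right,
      QuadraticMap.polar_comm (⇑Q) f₁ t₁, ht₁f₁]
    simp
  obtain ⟨f₂, hf₂⟩ : ∃ f₂, f₂ = y₂' + (-Q y₂') • t₂ := ⟨_, rfl⟩
  have hQf₂ : Q f₂ = 0 := by
    rw [hf₂, map_add_smul, hT t₂ ht₂T, QuadraticMap.polar_comm (⇑Q) y₂' t₂, h2y₂']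
    ring
  have ht₁f₂ : β t₁ f₂ = 0 := by
    rw [hf₂, QuadraticMap.polar_add_right, QuadraticMap.polar_smul_right, h1y₂', h12]
    simp
  have ht₂f₂ : β t₂ f₂ = 1 := by
    rw [hf₂, QuadraticMap.polar_add_right, QuadraticMap.polar_smul_right, h2y₂', h22]
    simp
  have hf₁f₂ : β f₁ f₂ = 0 := by
    rw [hf₂, QuadraticMap.polar_add_right, QuadraticMap.polar_smul_right, hf₁y₂',
      QuadraticMap.polar_comm (⇑Q) f₁ t₂, ht₂f₁]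
    simp
  -- projections of the remaining basis vectors
  have hproj : ∀ x : ι → F, β f₁ (x + (-β f₁ x) • t₁ + (-β f₂ x) • t₂) = 0 ∧
      β f₂ (x + (-β f₁ x) • t₁ + (-β f₂ x) • t₂) = 0 := by
    intro x
    constructor
    · rw [QuadraticMap.polar_add_right, QuadraticMap.polar_add_right,
        QuadraticMap.polar_smul_right, QuadraticMap.polar_smul_right,
        QuadraticMap.polar_comm (⇑Q) f₁ t₁, ht₁f₁, QuadraticMap.polar_comm (⇑Q) f₁ t₂, ht₂f₁]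
      simp
    · rw [QuadraticMap.polar_add_right, QuadraticMap.polar_add_right,
        QuadraticMap.polar_smul_right, QuadraticMap.polar_smul_right,
        QuadraticMap.polar_comm (⇑Q) f₂ t₁, ht₁f₂, QuadraticMap.polar_comm (⇑Q) f₂ t₂, ht₂f₂]
      simp
  have hmemT : ∀ x ∈ T, x + (-β f₁ x) • t₁ + (-β f₂ x) • t₂ ∈ T := fun x hx =>
    T.add_mem (T.add_mem hx (T.smul_mem _ ht₁T)) (T.smul_mem _ ht₂T)
  refine ⟨t₁, t₂, _, _, _, f₁, f₂, ht₁T, ht₂T, hmemT _ (v 2).2, hmemT _ (v 3).2, hmemT _ (v 4).2,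
    hQf₁, hQf₂, hf₁f₂, (hproj _).1, (hproj _).2, (hproj _).1, (hproj _).2, (hproj _).1,
    (hproj _).2, ?_, ?_, ht₁f₁, ht₂f₁, ht₁f₂, ht₂f₂⟩
  · intro h
    have := hcoef (-β f₁ (v 2 : ι → F)) (-β f₂ (v 2 : ι → F)) 1 0 0 (by
      rw [← h]; module)
    exact one_ne_zero this.2.2.1
  · intro c c' d h
    have := hcoef (-(c * β f₁ (v 3 : ι → F)) - c' * β f₁ (v 4 : ι → F) + d * β f₁ (v 2 : ι → F))
      (-(c * β f₂ (v 3 : ι → F)) - c' * β f₂ (v 4 : ι → F) + d * β f₂ (v 2 : ι → F)) (-d) c c' (by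
      have h' := sub_eq_zero.2 h
      rw [← h']; module)
    exact ⟨this.2.2.2.1, this.2.2.2.2⟩

end Cfsg.Agent.Lib.Helper5.OAut
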