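import Mathlib
import Cfsg.Agent.Lib.Helper5.OAut14

set_option autoImplicit false

namespace Cfsg.Agent.Lib.Helper5.OAut

open Matrix Cfsg.Agent.Lib.Helper2 Cfsg.Agent.Lib.Helper2.ReflGen Cfsg.Agent.Lib.Helper2.CDG
open Cfsg.Agent.Lib.Helper2.Siegel Cfsg.Agent.Lib.Helper2.LongRoot

variable {F : Type*} [Field F] [Fintype F] {ι : Type} [Fintype ι] [DecidableEq ι]
variable {Q : QuadraticForm F (ι → F)}
variable {𝔊 : Type*} [Group 𝔊]

set_option quotPrecheck false in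
local notation "β" => QuadraticMap.polar (⇑Q)

/-- a non-trivial abelian subgroup of exponent `p` of `T` fixes a non-zero singular vector
orthogonal to its fixed space -/
theorem exists_sing_fixed (p : ℕ) [hp : Fact p.Prime] [CharP F p]
    (hQ : (QuadraticMap.polarBilin Q).Nondegenerate) (hn : 7 ≤ Fintype.card ι)
    (A : Subgroup (OG Q)) (hAT : A ≤ T Q) (hexp : ∀ x ∈ A, x ^ p = 1)
    (hab : ∀ x ∈ A, ∀ y ∈ A, x * y = y * x) (hne : A ≠ ⊥) :
    ∃ z : ι → F, z ≠ 0 ∧ Q z = 0 ∧ z ∈ fixS A ∧ ∀ x ∈ fixS A, β z x = 0 := by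
  have hpg : IsPGroup p A := by
    intro x
    refine ⟨1, ?_⟩
    apply Subtype.ext
    rw [pow_one, Subgroup.coe_pow, hexp x.1 x.2]
    rfl
  by_cases h2 : (2 : F) = 0
  · have hp2 : p = 2 := by
      have h1 : ((2 : ℕ) : F) = 0 := by exact_mod_cast h2
      rw [CharP.cast_eq_zero_iff F p] at h1
      exact (Nat.prime_dvd_prime_iff_eq hp.out Nat.prime_two).1 h1
    subst hp2
    obtain ⟨a, ha1⟩ := (Subgroup.ne_bot_iff_exists_ne_one (H := A)).1 hne
    have ha1' : (a : OG Q) ≠ 1 := fun h => ha1 (Subtype.ext h)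
    have haa : (a : OG Q) * a = 1 := by rw [← pow_two]; exact hexp a.1 a.2
    have haΩ : (a : OG Q) ∈ commutator (OG Q) := by
      have h1 : (a : OG Q) ∈ T Q := hAT a.2
      rw [T_eq_Omega hQ hn] at h1
      exact h1
    exact exists_sing_fixed_two hQ (by omega) A hpg a.1 a.2 ha1' haa
      (fun b hb => hab _ a.2 _ hb) haΩ
  · exact exists_sing_fixed_odd h2 p A hpg hne

theorem LR_smul (hQ : (QuadraticMap.polarBilin Q).Nondegenerate) (u v : ι → F)
    (hu : Q u = 0) (hv : Q v = 0) (huv : β u v = 0) (c : F) (x : ι → F) :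
    LR hQ u v hu hv huv c • x = x + c • (β u x • v - β v x • u) := by
  rw [smul_def, LR_mulVec]

theorem coe_mem_normalizer_map {G : Type*} [Group G] (K : Subgroup G) (A : Subgroup K) (h : K)
    (h1 : ∀ x ∈ A, h * x * h⁻¹ ∈ A) (h2 : ∀ x ∈ A, h⁻¹ * x * h ∈ A) :
    (h : G) ∈ Subgroup.normalizer ((A.map K.subtype : Subgroup G) : Set G) := by
  rw [Subgroup.mem_normalizer_iff]
  intro x
  constructor
  · rintro ⟨y, hy, rfl⟩
    exact ⟨h * y * h⁻¹, h1 y hy, by simp⟩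
  · rintro ⟨y, hy, hyx⟩
    refine ⟨h⁻¹ * y * h, h2 y hy, ?_⟩
    have e : (K.subtype y : G) = h * x * (h : G)⁻¹ := hyx
    show ((h⁻¹ * y * h : K) : G) = x
    rw [Subgroup.coe_mul, Subgroup.coe_mul, Subgroup.coe_inv]
    have e' : (y : G) = h * x * (h : G)⁻¹ := e
    rw [e']
    group

set_option maxHeartbeats 1600000 in
/-- a subgroup with the abstract properties of a unipotent radical is the image of some `Q_z` -/
theorem exists_point_of_pprop (p : ℕ) [Fact p.Prime] [CharP F p]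
    (hQ : (QuadraticMap.polarBilin Q).Nondegenerate) (hn : 7 ≤ Fintype.card ι)
    (hLag : ∀ T : Submodule F (ι → F), (∀ x ∈ T, Q x = 0) →
      (∀ y, (∀ x ∈ T, β x y = 0) → y ∈ T) → 5 ≤ Module.finrank F ↥T)
    {ρ : TG Q →* 𝔊} (hρ : CQ ρ) {𝔄 ℌ : Subgroup 𝔊} (hP : PProp (Fintype.card F) p 𝔄 ℌ) :
    ∃ z : ι → F, z ≠ 0 ∧ Q z = 0 ∧ 𝔄 = Qb ρ z := by
  have hcop := coprime_card_center hQ hn p
  have hn5 : 5 ≤ Fintype.card ι := by omega
  -- the lift of `𝔄`
  obtain ⟨A, hA⟩ : ∃ A : Subgroup (TG Q), A = liftP p hcop hρ 𝔄 hP.comm := ⟨_, rfl⟩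
  have hAmap : A.map ρ = 𝔄 := by rw [hA]; exact map_liftP p hcop hρ 𝔄 hP.comm hP.exp
  have hAexp : ∀ x ∈ A, x ^ p = 1 := by
    intro x hx
    rw [hA] at hx
    exact hx.2
  have hAcomm : ∀ x ∈ A, ∀ y ∈ A, x * y = y * x := by
    intro x hx y hy
    rw [hA] at hx hy
    exact liftP_comm p hcop hρ 𝔄 hP.comm hx hy
  have hAconj : ∀ h : TG Q, ρ h ∈ ℌ → ∀ x ∈ A, h * x * h⁻¹ ∈ A := by
    intro h hh x hx
    rw [hA] at hx ⊢
    exact liftP_conj p hcop hρ 𝔄 hP.comm (fun a ha => hP.norm _ hh a ha) hx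
  have hAne : A ≠ ⊥ := by
    intro h
    apply hP.ne_bot
    rw [← hAmap, h, Subgroup.map_bot]
  -- the same group inside the isometry group
  obtain ⟨A', hA'⟩ : ∃ A' : Subgroup (OG Q), A' = A.map (T Q).subtype := ⟨_, rfl⟩
  have hA'mem : ∀ x : OG Q, x ∈ A' ↔ ∃ hx : x ∈ T Q, (⟨x, hx⟩ : TG Q) ∈ A := by
    intro x
    rw [hA']
    constructor
    · rintro ⟨y, hy, rfl⟩
      exact ⟨y.2, hy⟩
    · rintro ⟨hx, h⟩
      exact ⟨⟨x, hx⟩, h, rfl⟩
  have hA'T : A' ≤ T Q := fun x hx => ((hA'mem x).1 hx).1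
  have hA'exp : ∀ x ∈ A', x ^ p = 1 := by
    intro x hx
    obtain ⟨hxT, h⟩ := (hA'mem x).1 hx
    have := congrArg (fun t : TG Q => (t : OG Q)) (hAexp _ h)
    simpa using this
  have hA'comm : ∀ x ∈ A', ∀ y ∈ A', x * y = y * x := by
    intro x hx y hy
    obtain ⟨hxT, h⟩ := (hA'mem x).1 hx
    obtain ⟨hyT, h'⟩ := (hA'mem y).1 hy
    have := congrArg (fun t : TG Q => (t : OG Q)) (hAcomm _ h _ h')
    simpa using this
  have hA'ne : A' ≠ ⊥ := by
    intro h
    apply hAne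
    rw [eq_bot_iff]
    intro x hx
    have h1 : (x : OG Q) ∈ A' := (hA'mem _).2 ⟨x.2, hx⟩
    rw [h, Subgroup.mem_bot] at h1
    rw [Subgroup.mem_bot]
    exact Subtype.ext h1
  obtain ⟨z, hz0, hQz, hzfix, hzperp⟩ := exists_sing_fixed p hQ hn A' hA'T hA'exp hA'comm hA'ne
  obtain ⟨Tz, hTz⟩ : ∃ Tz : Submodule F (ι → F), Tz = tsOf A' := ⟨_, rfl⟩
  have hzT : z ∈ Tz := by rw [hTz]; exact mem_tsOf_of A' hQz hzfix hzperp
  have hTs : ∀ t ∈ Tz, Q t = 0 := by
    intro t ht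
    rw [hTz] at ht
    exact tsOf_sing A' ht
  -- the stabiliser of `Tz`
  obtain ⟨St, hSt⟩ : ∃ St : Subgroup (TG Q), St = (stabS Q Tz).subgroupOf (T Q) := ⟨_, rfl⟩
  have hStmem : ∀ s : TG Q, s ∈ St ↔ (s : OG Q) ∈ stabS Q Tz := by
    intro s
    rw [hSt]
    exact Iff.rfl
  have hHle : ℌ.comap ρ ≤ St := by
    intro h hh
    have hh' : ρ h ∈ ℌ := hh
    have hhinv : ρ h⁻¹ ∈ ℌ := by rw [map_inv]; exact ℌ.inv_mem hh'
    have hnorm : (h : OG Q) ∈ Subgroup.normalizer (A' : Set (OG Q)) := by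
      rw [hA']
      apply coe_mem_normalizer_map
      · intro x hx
        exact hAconj h hh' x hx
      · intro x hx
        have := hAconj h⁻¹ hhinv x hx
        rwa [inv_inv] at this
    rw [hStmem]
    apply mem_stabS_of
    · intro x hx
      rw [hTz] at hx ⊢
      exact tsOf_conj A' hnorm hx
    · intro x hx
      rw [hTz] at hx ⊢
      exact tsOf_conj A' (Subgroup.inv_mem _ hnorm) hx
  have hStne : St ≠ ⊤ := by
    obtain ⟨f, hzf, hf⟩ := Cfsg.Agent.Lib.Helper5.exists_partner Q hQ hz0 hQz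
    have hf0 : f ≠ 0 := by
      intro h
      rw [h] at hzf
      simp at hzf
    obtain ⟨t, ht, htz⟩ := T_trans_sing hQ hn5 z f hz0 hf0 hQz hf
    intro htop
    have h1 : (⟨t, ht⟩ : TG Q) ∈ St := by rw [htop]; exact Subgroup.mem_top _
    rw [hStmem] at h1
    have h2 : f ∈ Tz := by
      have := (h1 z).2 hzT
      rw [smul_def] at this
      rw [← htz]
      exact this
    have h3 := ts_polar hTs hzT h2
    rw [hzf] at h3
    exact one_ne_zero h3
  have hHeq : ℌ.comap ρ = St := by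
    have hco := hρ.isCoatom_comap hP.coatom
    rcases hco.le_iff.1 hHle with h | h
    · exact absurd h hStne
    · exact h.symm
  have hℌ : ℌ = St.map ρ := by
    rw [← hHeq, Subgroup.map_comap_eq_self_of_surjective hρ.surj]
  by_cases hdim : ∀ t ∈ Tz, ∃ c : F, t = c • z
  · -- the point case
    refine ⟨z, hz0, hQz, ?_⟩
    apply hP.eq_of_normal (Qb ρ z) (Qb_ne_bot p hQ hn hρ hz0 hQz) (Qb_comm hQ hz0 hQz)
    · rintro _ ⟨x, hx, rfl⟩
      rw [hℌ]
      refine ⟨x, ?_, rfl⟩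
      refine (hStmem x).2 ?_
      have hx' : x⁻¹ ∈ QsT Q z := (QsT Q z).inv_mem hx
      apply mem_stabS_of
      · intro t ht
        obtain ⟨c, rfl⟩ := hdim t ht
        have hxz : (x : OG Q) • z = z := hx.1
        rw [smul_comm (x : OG Q) c z, hxz]
        exact ht
      · intro t ht
        obtain ⟨c, rfl⟩ := hdim t ht
        rw [smul_comm (x : OG Q)⁻¹ c z]
        have : (x : OG Q)⁻¹ • z = z := hx'.1
        rw [this]
        exact ht
    · rw [hℌ]
      rintro _ ⟨s, hs, rfl⟩ _ ⟨x, hx, rfl⟩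
      replace hs := (hStmem s).1 hs
      obtain ⟨c, hc⟩ := hdim _ ((hs z).2 hzT)
      have hc0 : c ≠ 0 := by
        intro h
        rw [h, zero_smul] at hc
        exact smul_ne_zero_of_ne (s : OG Q) hz0 hc
      refine ⟨s * x * s⁻¹, ?_, by rw [map_mul, map_mul, map_inv]⟩
      have h1 := conj_mem_QsT s hx
      have hc' : s • z = c • z := hc
      rw [hc', QsT_smul z hc0] at h1
      exact h1
  · -- higher dimensional totally singular subspaces are impossible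
    exfalso
    push Not at hdim
    obtain ⟨t₂, ht₂T, ht₂⟩ := hdim
    obtain ⟨B, hB⟩ : ∃ B : Subgroup (TG Q), B = (ZT Q Tz).subgroupOf (T Q) := ⟨_, rfl⟩
    have hBmem : ∀ s : TG Q, s ∈ B ↔ (s : OG Q) ∈ ZT Q Tz := by
      intro s
      rw [hB]
      exact Iff.rfl
    have hBexp : ∀ x ∈ B, x ^ p = 1 := by
      intro x hx
      apply Subtype.ext
      rw [Subgroup.coe_pow]
      exact ZT_pow_char Tz p ((hBmem x).1 hx)
    have hzt₂ : β z t₂ = 0 := ts_polar hTs hzT ht₂T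
    have hAB : 𝔄 = B.map ρ := by
      apply hP.eq_of_normal (B.map ρ)
      · intro hbot
        have hx₀ : (⟨LR hQ z t₂ hQz (hTs _ ht₂T) hzt₂ 1, LR_mem_T hQ _ _ _ _ _ 1⟩ : TG Q) ∈ B :=
          (hBmem _).2 (LR_mem_ZT hQ Tz hTs hzT ht₂T hzt₂ 1)
        have h1 : ρ ⟨LR hQ z t₂ hQz (hTs _ ht₂T) hzt₂ 1, LR_mem_T hQ _ _ _ _ _ 1⟩ ∈ B.map ρ :=
          ⟨_, hx₀, rfl⟩
        rw [hbot, Subgroup.mem_bot] at h1
        have h2 := eq_of_pow p hcop hρ (hBexp _ hx₀) (one_pow p) (by rw [h1, map_one])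
        have h3 : LR hQ z t₂ hQz (hTs _ ht₂T) hzt₂ 1 = 1 := congrArg Subtype.val h2
        rw [← Es_eq_LR hQ hQz (hTs _ ht₂T) hzt₂ 1, one_smul,
          Es_eq_one_iff hQ hz0 hQz hzt₂] at h3
        obtain ⟨c, hc⟩ := h3
        exact ht₂ c hc
      · rintro _ ⟨x, hx, rfl⟩ _ ⟨y, hy, rfl⟩
        rw [← map_mul, ← map_mul]
        congr 1
        apply Subtype.ext
        exact ZT_comm Tz ((hBmem x).1 hx) ((hBmem y).1 hy)
      · rw [hℌ]
        rintro _ ⟨x, hx, rfl⟩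
        exact ⟨x, (hStmem x).2 (ZT_le_stabS Tz ((hBmem x).1 hx)), rfl⟩
      · rw [hℌ]
        rintro _ ⟨s, hs, rfl⟩ _ ⟨x, hx, rfl⟩
        refine ⟨s * x * s⁻¹, ?_, by rw [map_mul, map_mul, map_inv]⟩
        refine (hBmem _).2 ?_
        exact conj_mem_ZT Tz ((hStmem s).1 hs) ((hBmem x).1 hx)
    by_cases hB1 : ∃ y, (∀ t ∈ Tz, β t y = 0) ∧ y ∉ Tz
    · obtain ⟨y, hyperp, hyT⟩ := hB1
      have hzy : β z y = 0 := hyperp z hzT
      have hg : EsT hQ hn5 z y ∈ QsT Q z := (mem_QsT_iff hQ hn5 hz0 hQz _).2 ⟨y, hzy, rfl⟩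
      have h1 : ρ (EsT hQ hn5 z y) ∈ 𝔄 := by
        apply hP.cent
        rw [hAB]
        rintro _ ⟨x, hx, rfl⟩
        rw [← map_mul, ← map_mul]
        congr 1
        apply Subtype.ext
        rw [Subgroup.coe_mul, Subgroup.coe_mul, EsT_coe hQ hn5 hz0 hQz hzy]
        exact (Es_comm_ZT hQ Tz hzT hQz hyperp ((hBmem x).1 hx)).symm
      rw [hAB] at h1
      obtain ⟨x, hx, hxg⟩ := h1
      have h2 := eq_of_pow p hcop hρ (hBexp x hx) (QsT_pow_char hQ p hz0 hQz hg) hxg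
      rw [h2] at hx
      replace hx := (hBmem _).1 hx
      rw [EsT_coe hQ hn5 hz0 hQz hzy] at hx
      exact hyT (mem_of_Es_mem_ZT hQ Tz hz0 hzT hQz hzy hx)
    · push Not at hB1
      have h5 := hLag Tz hTs hB1
      obtain ⟨t₁, t₂', a, b, b', f₁, f₂, ht₁T, ht₂'T, haT, hbT, hb'T, hQf₁, hQf₂, hf₁f₂, hf₁a,
        hf₂a, hf₁b, hf₂b, hf₁b', hf₂b', ha0, hind, ht₁f₁, ht₂f₁, ht₁f₂, ht₂f₂⟩ :=
        exists_config hQ Tz hTs h5
      obtain ⟨g, hg⟩ : ∃ g : TG Q, g = ⟨LR hQ f₁ f₂ hQf₁ hQf₂ hf₁f₂ 1, LR_mem_T hQ _ _ _ _ _ 1⟩ :=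
        ⟨_, rfl⟩
      have hgsmul : ∀ x : ι → F, g • x = x + (1 : F) • (β f₁ x • f₂ - β f₂ x • f₁) := by
        intro x
        rw [hg]
        exact LR_smul hQ f₁ f₂ hQf₁ hQf₂ hf₁f₂ 1 x
      rcases hP.inter (ρ g) with hleft | hright
      · -- `ρ g` cannot normalise `𝔄`
        have h12 : β t₁ t₂' = 0 := ts_polar hTs ht₁T ht₂'T
        obtain ⟨x₁, hx₁⟩ : ∃ x₁ : TG Q, x₁ =
            ⟨LR hQ t₁ t₂' (hTs _ ht₁T) (hTs _ ht₂'T) h12 1, LR_mem_T hQ _ _ _ _ _ 1⟩ := ⟨_, rfl⟩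
        have hx₁B : x₁ ∈ B := by
          rw [hBmem, hx₁]
          exact LR_mem_ZT hQ Tz hTs ht₁T ht₂'T h12 1
        have h1 := hleft (ρ x₁) (by rw [hAB]; exact ⟨x₁, hx₁B, rfl⟩)
        rw [hAB] at h1
        obtain ⟨y, hy, hyx⟩ := h1
        have hyx' : ρ y = ρ (g * x₁ * g⁻¹) := by rw [hyx, map_mul, map_mul, map_inv]
        have hpow : (g * x₁ * g⁻¹) ^ p = 1 := by
          rw [conj_pow, hBexp x₁ hx₁B, mul_one, mul_inv_cancel]
        have h2 := eq_of_pow p hcop hρ (hBexp y hy) hpow hyx'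
        rw [h2] at hy
        replace hy := (hBmem _).1 hy
        have h3 := hy.1 (g • f₁)
        have e : ((g * x₁ * g⁻¹ : TG Q) : OG Q) • (g • f₁) - g • f₁ = g • t₂' := by
          have e1 : ((g * x₁ * g⁻¹ : TG Q) : OG Q) • (g • f₁) = g • (x₁ • f₁) := by
            show (g * x₁ * g⁻¹) • (g • f₁) = g • (x₁ • f₁)
            rw [mul_smul, mul_smul, inv_smul_smul]
          have e2 : x₁ • f₁ = f₁ + t₂' := by
            rw [hx₁]
            show LR hQ t₁ t₂' (hTs _ ht₁T) (hTs _ ht₂'T) h12 1 • f₁ = f₁ + t₂'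
            rw [LR_smul, ht₁f₁, ht₂f₁]
            module
          rw [e1, e2, smul_add]
          abel
        rw [e, hgsmul, QuadraticMap.polar_comm (⇑Q) f₁ t₂', ht₂f₁,
          QuadraticMap.polar_comm (⇑Q) f₂ t₂', ht₂f₂] at h3
        have h4 : f₁ ∈ Tz := by
          have e3 : f₁ = t₂' - (t₂' + (1 : F) • ((0 : F) • f₂ - (1 : F) • f₁)) := by module
          rw [e3]
          exact Tz.sub_mem ht₂'T h3
        have h5' := ts_polar hTs ht₁T h4
        rw [ht₁f₁] at h5'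
        exact one_ne_zero h5'
      · -- too many elements in the intersection
        have hga : g • a = a := by rw [hgsmul, hf₁a, hf₂a]; simp
        have hgb : g • b = b := by rw [hgsmul, hf₁b, hf₂b]; simp
        have hgb' : g • b' = b' := by rw [hgsmul, hf₁b', hf₂b']; simp
        have hQa : Q a = 0 := hTs a haT
        have hab : β a b = 0 := ts_polar hTs haT hbT
        have hab' : β a b' = 0 := ts_polar hTs haT hb'T
        have haw : ∀ c c' : F, β a (c • b + c' • b') = 0 := by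
          intro c c'
          rw [QuadraticMap.polar_add_right, QuadraticMap.polar_smul_right,
            QuadraticMap.polar_smul_right, hab, hab']
          simp
        have hxmem : ∀ c c' : F, ρ (EsT hQ hn5 a (c • b + c' • b')) ∈
            𝔄 ⊓ 𝔄.map (MulAut.conj (ρ g)).toMonoidHom := by
          intro c c'
          have hxB : EsT hQ hn5 a (c • b + c' • b') ∈ B := by
            rw [hBmem, EsT_coe hQ hn5 ha0 hQa (haw c c')]
            have h1 : β a (c • b) = 0 := by rw [QuadraticMap.polar_smul_right, hab, smul_zero]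
            have h2 : β a (c' • b') = 0 := by rw [QuadraticMap.polar_smul_right, hab', smul_zero]
            rw [← Es_mul hQ hQa h1 h2, Es_eq_LR hQ hQa (hTs _ hbT) hab c,
              Es_eq_LR hQ hQa (hTs _ hb'T) hab' c']
            exact (ZT Q Tz).mul_mem (LR_mem_ZT hQ Tz hTs haT hbT hab c)
              (LR_mem_ZT hQ Tz hTs haT hb'T hab' c')
          have hxA : ρ (EsT hQ hn5 a (c • b + c' • b')) ∈ 𝔄 := by
            rw [hAB]
            exact ⟨_, hxB, rfl⟩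
          refine ⟨hxA, ⟨_, hxA, ?_⟩⟩
          show ρ g * ρ (EsT hQ hn5 a (c • b + c' • b')) * (ρ g)⁻¹ = _
          rw [← map_inv, ← map_mul, ← map_mul]
          congr 1
          apply Subtype.ext
          rw [Subgroup.coe_mul, Subgroup.coe_mul, Subgroup.coe_inv,
            EsT_coe hQ hn5 ha0 hQa (haw c c'), conj_Es hQ (g : OG Q) hQa (haw c c')]
          have e1 : (g : OG Q) • a = a := hga
          have e2 : (g : OG Q) • (c • b + c' • b') = c • b + c' • b' := by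
            rw [smul_add, smul_comm (g : OG Q) c b, smul_comm (g : OG Q) c' b']
            have e3 : (g : OG Q) • b = b := hgb
            have e4 : (g : OG Q) • b' = b' := hgb'
            rw [e3, e4]
          rw [e1, e2]
        have hinj : Function.Injective (fun cc : F × F =>
            (⟨ρ (EsT hQ hn5 a (cc.1 • b + cc.2 • b')), hxmem cc.1 cc.2⟩ :
              ↥(𝔄 ⊓ 𝔄.map (MulAut.conj (ρ g)).toMonoidHom))) := by
          rintro ⟨c, c'⟩ ⟨d, d'⟩ h
          have h1 : ρ (EsT hQ hn5 a (c • b + c' • b')) = ρ (EsT hQ hn5 a (d • b + d' • b')) :=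
            congrArg Subtype.val h
          have hq1 : EsT hQ hn5 a (c • b + c' • b') ∈ QsT Q a :=
            (mem_QsT_iff hQ hn5 ha0 hQa _).2 ⟨_, haw c c', rfl⟩
          have hq2 : EsT hQ hn5 a (d • b + d' • b') ∈ QsT Q a :=
            (mem_QsT_iff hQ hn5 ha0 hQa _).2 ⟨_, haw d d', rfl⟩
          have h2 := eq_of_pow p hcop hρ (QsT_pow_char hQ p ha0 hQa hq1)
            (QsT_pow_char hQ p ha0 hQa hq2) h1
          have h3 : Es hQ a (c • b + c' • b') = Es hQ a (d • b + d' • b') := by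
            rw [← EsT_coe hQ hn5 ha0 hQa (haw c c'), ← EsT_coe hQ hn5 ha0 hQa (haw d d'), h2]
          obtain ⟨e, he⟩ := (Es_eq_iff hQ ha0 hQa (haw c c') (haw d d')).1 h3
          have h4 := hind (c - d) (c' - d') e (by rw [← he]; module)
          rw [Prod.mk.injEq]
          exact ⟨sub_eq_zero.1 h4.1, sub_eq_zero.1 h4.2⟩
        haveI : Finite ↥(𝔄 ⊓ 𝔄.map (MulAut.conj (ρ g)).toMonoidHom) := by
          haveI : Finite 𝔊 := Finite.of_surjective ρ hρ.surj
          infer_instance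
        have h6 := Nat.card_le_card_of_injective _ hinj
        rw [Nat.card_prod, Nat.card_eq_fintype_card] at h6
        have h7 : 1 < Fintype.card F := Fintype.one_lt_card
        have h8 : Fintype.card F * Fintype.card F ≤ Fintype.card F := le_trans h6 hright
        nlinarith

end Cfsg.Agent.Lib.Helper5.OAut
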