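import Mathlib
import Cfsg.Agent.Lib.Helper5.OAut15

set_option autoImplicit false

namespace Cfsg.Agent.Lib.Helper5.OAut

open Matrix Cfsg.Agent.Lib.Helper2 Cfsg.Agent.Lib.Helper2.ReflGen Cfsg.Agent.Lib.Helper2.CDG
open Cfsg.Agent.Lib.Helper2.Siegel Cfsg.Agent.Lib.Helper2.LongRoot

variable {F : Type*} [Field F] [Fintype F] {ι : Type} [Fintype ι] [DecidableEq ι]
variable {Q : QuadraticForm F (ι → F)}
variable {𝔊 : Type*} [Group 𝔊]

set_option quotPrecheck false in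
local notation "β" => QuadraticMap.polar (⇑Q)

theorem five_le (hn : 7 ≤ Fintype.card ι) : 5 ≤ Fintype.card ι := by omega

theorem EsT_mem_QsT (hQ : (QuadraticMap.polarBilin Q).Nondegenerate) (hn : 5 ≤ Fintype.card ι)
    {u w : ι → F} (hu0 : u ≠ 0) (hu : Q u = 0) (huw : β u w = 0) :
    EsT hQ hn u w ∈ QsT Q u :=
  (mem_QsT_iff hQ hn hu0 hu _).2 ⟨w, huw, rfl⟩

theorem EsT_mul (hQ : (QuadraticMap.polarBilin Q).Nondegenerate) (hn : 5 ≤ Fintype.card ι)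
    {u w w' : ι → F} (hu0 : u ≠ 0) (hu : Q u = 0) (huw : β u w = 0) (huw' : β u w' = 0) :
    EsT hQ hn u w * EsT hQ hn u w' = EsT hQ hn u (w + w') := by
  have h : β u (w + w') = 0 := by rw [QuadraticMap.polar_add_right, huw, huw', add_zero]
  apply Subtype.ext
  rw [Subgroup.coe_mul, EsT_coe hQ hn hu0 hu huw, EsT_coe hQ hn hu0 hu huw',
    EsT_coe hQ hn hu0 hu h, Es_mul hQ hu huw huw']

theorem EsT_zero (hQ : (QuadraticMap.polarBilin Q).Nondegenerate) (hn : 5 ≤ Fintype.card ι)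
    {u : ι → F} (hu0 : u ≠ 0) (hu : Q u = 0) : EsT hQ hn u 0 = 1 := by
  have h : β u 0 = 0 := by simp
  apply Subtype.ext
  rw [EsT_coe hQ hn hu0 hu h, Es_zero]
  rfl

theorem EsT_smul (hQ : (QuadraticMap.polarBilin Q).Nondegenerate) (hn : 5 ≤ Fintype.card ι)
    {u w : ι → F} (hu0 : u ≠ 0) (hu : Q u = 0) (huw : β u w = 0) (x : ι → F) :
    EsT hQ hn u w • x = x + β u x • w - β w x • u - (Q w * β u x) • u := by
  rw [coe_smul_T, EsT_coe hQ hn hu0 hu huw, Es_smul hQ hu huw]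

theorem mem_Qb_iff (hQ : (QuadraticMap.polarBilin Q).Nondegenerate) (hn : 5 ≤ Fintype.card ι)
    (ρ : TG Q →* 𝔊) {u : ι → F} (hu0 : u ≠ 0) (hu : Q u = 0) (g : 𝔊) :
    g ∈ Qb ρ u ↔ ∃ w : ι → F, β u w = 0 ∧ g = ρ (EsT hQ hn u w) := by
  constructor
  · rintro ⟨x, hx, rfl⟩
    obtain ⟨w, hw, rfl⟩ := (mem_QsT_iff hQ hn hu0 hu x).1 hx
    exact ⟨w, hw, rfl⟩
  · rintro ⟨w, hw, rfl⟩
    exact ⟨_, EsT_mem_QsT hQ hn hu0 hu hw, rfl⟩

theorem Qb_smul (ρ : TG Q →* 𝔊) (u : ι → F) {a : F} (ha : a ≠ 0) : Qb ρ (a • u) = Qb ρ u := by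
  unfold Qb
  rw [QsT_smul u ha]

variable {ρ : TG Q →* 𝔊}

/-- `ρ` is injective on the union of the unipotent radicals -/
theorem rho_eq_of_QsT (p : ℕ) [Fact p.Prime] [CharP F p]
    (hQ : (QuadraticMap.polarBilin Q).Nondegenerate) (hn : 7 ≤ Fintype.card ι) (hρ : CQ ρ)
    {u u' : ι → F} (hu0 : u ≠ 0) (hu : Q u = 0) (hu'0 : u' ≠ 0) (hu' : Q u' = 0) {x y : TG Q}
    (hx : x ∈ QsT Q u) (hy : y ∈ QsT Q u') (h : ρ x = ρ y) : x = y :=
  eq_of_pow p (coprime_card_center hQ hn p) hρ (QsT_pow_char hQ p hu0 hu hx)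
    (QsT_pow_char hQ p hu'0 hu' hy) h

theorem rho_EsT_inj (p : ℕ) [Fact p.Prime] [CharP F p]
    (hQ : (QuadraticMap.polarBilin Q).Nondegenerate) (hn : 7 ≤ Fintype.card ι) (hρ : CQ ρ)
    {u w w' : ι → F} (hu0 : u ≠ 0) (hu : Q u = 0) (huw : β u w = 0) (huw' : β u w' = 0)
    (h : ρ (EsT hQ (five_le hn) u w) = ρ (EsT hQ (five_le hn) u w')) :
    ∃ c : F, w - w' = c • u := by
  have h1 := rho_eq_of_QsT p hQ hn hρ hu0 hu hu0 hu (EsT_mem_QsT hQ (five_le hn) hu0 hu huw)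
    (EsT_mem_QsT hQ (five_le hn) hu0 hu huw') h
  have h2 : Es hQ u w = Es hQ u w' := by
    rw [← EsT_coe hQ (five_le hn) hu0 hu huw, ← EsT_coe hQ (five_le hn) hu0 hu huw', h1]
  exact (Es_eq_iff hQ hu0 hu huw huw').1 h2

theorem rho_EsT_eq_one (p : ℕ) [Fact p.Prime] [CharP F p]
    (hQ : (QuadraticMap.polarBilin Q).Nondegenerate) (hn : 7 ≤ Fintype.card ι) (hρ : CQ ρ)
    {u w : ι → F} (hu0 : u ≠ 0) (hu : Q u = 0) (huw : β u w = 0)
    (h : ρ (EsT hQ (five_le hn) u w) = 1) : ∃ c : F, w = c • u := by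
  have h0 : β u 0 = 0 := by simp
  obtain ⟨c, hc⟩ := rho_EsT_inj p hQ hn hρ hu0 hu huw h0
    (by rw [h, EsT_zero hQ (five_le hn) hu0 hu, map_one])
  exact ⟨c, by rw [← hc, sub_zero]⟩

/-- the intersection of the images of two distinct unipotent radicals -/
theorem Qb_inter_mem (p : ℕ) [Fact p.Prime] [CharP F p]
    (hQ : (QuadraticMap.polarBilin Q).Nondegenerate) (hn : 7 ≤ Fintype.card ι) (hρ : CQ ρ)
    {u u' : ι → F} (hu0 : u ≠ 0) (hu : Q u = 0) (hu'0 : u' ≠ 0) (hu' : Q u' = 0)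
    (hind : ∀ c : F, u' ≠ c • u) {g : 𝔊} (hg : g ∈ Qb ρ u) (hg' : g ∈ Qb ρ u') :
    ∃ c : F, β u (c • u') = 0 ∧ g = ρ (EsT hQ (five_le hn) u (c • u')) := by
  obtain ⟨x, hx, rfl⟩ := hg
  obtain ⟨y, hy, hxy⟩ := hg'
  have h1 := rho_eq_of_QsT p hQ hn hρ hu'0 hu' hu0 hu hy hx hxy
  rw [h1] at hy
  obtain ⟨c, hc, hxc⟩ := Qs_inter hQ hu0 hu hu' hind hx hy
  refine ⟨c, hc, ?_⟩
  congr 1
  apply Subtype.ext
  rw [EsT_coe hQ (five_le hn) hu0 hu hc]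
  exact hxc

theorem Qb_inter_nonperp (p : ℕ) [Fact p.Prime] [CharP F p]
    (hQ : (QuadraticMap.polarBilin Q).Nondegenerate) (hn : 7 ≤ Fintype.card ι) (hρ : CQ ρ)
    {u u' : ι → F} (hu0 : u ≠ 0) (hu : Q u = 0) (hu'0 : u' ≠ 0) (hu' : Q u' = 0)
    (hb : β u u' ≠ 0) {g : 𝔊} (hg : g ∈ Qb ρ u) (hg' : g ∈ Qb ρ u') : g = 1 := by
  have hind : ∀ c : F, u' ≠ c • u := by
    intro c h
    apply hb
    rw [h, QuadraticMap.polar_smul_right, polar_self_sing hu, smul_zero]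
  obtain ⟨c, hc, rfl⟩ := Qb_inter_mem p hQ hn hρ hu0 hu hu'0 hu' hind hg hg'
  rw [QuadraticMap.polar_smul_right, smul_eq_mul] at hc
  rcases mul_eq_zero.1 hc with h | h
  · rw [h, zero_smul, EsT_zero hQ (five_le hn) hu0 hu, map_one]
  · exact absurd h hb

/-- distinct singular points have distinct unipotent radicals, also modulo the centre -/
theorem Qb_eq_imp (p : ℕ) [Fact p.Prime] [CharP F p]
    (hQ : (QuadraticMap.polarBilin Q).Nondegenerate) (hn : 7 ≤ Fintype.card ι) (hρ : CQ ρ)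
    {u u' : ι → F} (hu0 : u ≠ 0) (hu : Q u = 0) (hu'0 : u' ≠ 0) (hu' : Q u' = 0)
    (h : Qb ρ u = Qb ρ u') : ∃ c : F, u' = c • u := by
  by_contra hcon
  push Not at hcon
  have hn5 := five_le hn
  obtain ⟨a, a', ha, ha', haa', hau, ha'u⟩ := exists_hyp_perp1 hQ hn5 u hu0 hu
  have hua : β u a = 0 := by rw [QuadraticMap.polar_comm (⇑Q), hau]
  have hua' : β u a' = 0 := by rw [QuadraticMap.polar_comm (⇑Q), ha'u]
  have key : ∀ w : ι → F, β u w = 0 → ∃ c d : F, w = c • u' + d • u := by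
    intro w hw
    have h1 : ρ (EsT hQ hn5 u w) ∈ Qb ρ u := ⟨_, EsT_mem_QsT hQ hn5 hu0 hu hw, rfl⟩
    have h2 : ρ (EsT hQ hn5 u w) ∈ Qb ρ u' := by rw [← h]; exact h1
    obtain ⟨c, hc, hg⟩ := Qb_inter_mem p hQ hn hρ hu0 hu hu'0 hu' hcon h1 h2
    obtain ⟨d, hd⟩ := rho_EsT_inj p hQ hn hρ hu0 hu hw hc hg
    exact ⟨c, d, by rw [← hd]; abel⟩
  have hb : β u u' = 0 := by
    by_contra hb
    obtain ⟨c, hc⟩ := rho_EsT_eq_one p hQ hn hρ hu0 hu hua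
      (Qb_inter_nonperp p hQ hn hρ hu0 hu hu'0 hu' hb
        ⟨_, EsT_mem_QsT hQ hn5 hu0 hu hua, rfl⟩
        (by rw [← h]; exact ⟨_, EsT_mem_QsT hQ hn5 hu0 hu hua, rfl⟩))
    rw [hc, QuadraticMap.polar_smul_left, hua', smul_zero] at haa'
    exact zero_ne_one haa'
  obtain ⟨c, d, hcd⟩ := key a hua
  obtain ⟨c', d', hcd'⟩ := key a' hua'
  have hb' : β u' u = 0 := by rw [QuadraticMap.polar_comm (⇑Q), hb]
  rw [hcd, hcd'] at haa'
  simp only [QuadraticMap.polar_add_left, QuadraticMap.polar_add_right,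
    QuadraticMap.polar_smul_left, QuadraticMap.polar_smul_right, polar_self_sing hu,
    polar_self_sing hu', hb, hb', smul_zero, add_zero] at haa'
  exact zero_ne_one haa'

/-- conjugation moves the unipotent radicals -/
theorem Qb_conj (ρ : TG Q →* 𝔊) (t : TG Q) (u : ι → F) :
    (Qb ρ u).map (MulAut.conj (ρ t)).toMonoidHom = Qb ρ (t • u) := by
  apply le_antisymm
  · rintro _ ⟨_, ⟨x, hx, rfl⟩, rfl⟩
    refine ⟨t * x * t⁻¹, conj_mem_QsT t hx, ?_⟩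
    show ρ (t * x * t⁻¹) = ρ t * ρ x * (ρ t)⁻¹
    rw [map_mul, map_mul, map_inv]
  · rintro _ ⟨x, hx, rfl⟩
    have h1 := conj_mem_QsT t⁻¹ hx
    rw [inv_smul_smul] at h1
    refine ⟨ρ (t⁻¹ * x * t⁻¹⁻¹), ⟨_, h1, rfl⟩, ?_⟩
    show ρ t * ρ (t⁻¹ * x * t⁻¹⁻¹) * (ρ t)⁻¹ = ρ x
    rw [← map_inv, ← map_mul, ← map_mul]
    congr 1
    group

/-- swapping the two arguments of a long root element -/
theorem Es_swap (hQ : (QuadraticMap.polarBilin Q).Nondegenerate) {u w : ι → F}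
    (hu : Q u = 0) (hw : Q w = 0) (huw : β u w = 0) : Es hQ u w = Es hQ w (-u) := by
  have hwu : β w (-u) = 0 := by
    rw [QuadraticMap.polar_neg_right, QuadraticMap.polar_comm (⇑Q), huw, neg_zero]
  apply ext_smul
  intro x
  rw [Es_smul hQ hu huw, Es_smul hQ hw hwu, hw, QuadraticMap.polar_neg_left, QuadraticMap.map_neg,
    hu]
  module

theorem EsT_mem_QsT_swap (hQ : (QuadraticMap.polarBilin Q).Nondegenerate)
    (hn : 5 ≤ Fintype.card ι) {u w : ι → F} (hu0 : u ≠ 0) (hu : Q u = 0) (hw : Q w = 0)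
    (huw : β u w = 0) : EsT hQ hn u w ∈ QsT Q w := by
  rw [mem_QsT, EsT_coe hQ hn hu0 hu huw, Es_swap hQ hu hw huw]
  apply Es_mem_Qs hQ hw
  rw [QuadraticMap.polar_neg_right, QuadraticMap.polar_comm (⇑Q), huw, neg_zero]

end Cfsg.Agent.Lib.Helper5.OAut
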