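import Mathlib
import Cfsg.Agent.Lib.Helper5.OAut16

set_option autoImplicit false

namespace Cfsg.Agent.Lib.Helper5.OAut

open Matrix Cfsg.Agent.Lib.Helper2 Cfsg.Agent.Lib.Helper2.ReflGen Cfsg.Agent.Lib.Helper2.CDG
open Cfsg.Agent.Lib.Helper2.Siegel Cfsg.Agent.Lib.Helper2.LongRoot

variable {F : Type*} [Field F] [Fintype F] {ι : Type} [Fintype ι] [DecidableEq ι]
variable {Q : QuadraticForm F (ι → F)}
variable {𝔊 : Type*} [Group 𝔊]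

set_option quotPrecheck false in
local notation "β" => QuadraticMap.polar (⇑Q)

/-- two central quotient maps of `T` whose families of unipotent radicals correspond, together
with two corresponding hyperbolic pairs -/
structure HData (ρ ρ' : TG Q →* 𝔊) (u f u' f' : ι → F) : Prop where
  hQ : (QuadraticMap.polarBilin Q).Nondegenerate
  hn : 7 ≤ Fintype.card ι
  hρ : CQ ρ
  hρ' : CQ ρ'
  pt : ∀ z : ι → F, z ≠ 0 → Q z = 0 → ∃ z' : ι → F, z' ≠ 0 ∧ Q z' = 0 ∧ Qb ρ' z = Qb ρ z'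
  hu : Q u = 0
  hf : Q f = 0
  huf : β u f = 1
  hu' : Q u' = 0
  hf' : Q f' = 0
  huf' : β u' f' = 1
  hQu : Qb ρ' u = Qb ρ u'
  hQf : Qb ρ' f = Qb ρ f'

variable {ρ ρ' : TG Q →* 𝔊} {u f u' f' : ι → F}

theorem ne_zero_of_polar_eq_one {x y : ι → F} (h : β x y = 1) : x ≠ 0 := by
  intro h0
  rw [h0] at h
  simp at h

theorem HData.hu0 (d : HData ρ ρ' u f u' f') : u ≠ 0 := ne_zero_of_polar_eq_one d.huf
theorem HData.hu'0 (d : HData ρ ρ' u f u' f') : u' ≠ 0 := ne_zero_of_polar_eq_one d.huf'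
theorem HData.hfu (d : HData ρ ρ' u f u' f') : β f u = 1 := by
  rw [QuadraticMap.polar_comm (⇑Q), d.huf]
theorem HData.hfu' (d : HData ρ ρ' u f u' f') : β f' u' = 1 := by
  rw [QuadraticMap.polar_comm (⇑Q), d.huf']
theorem HData.hf0 (d : HData ρ ρ' u f u' f') : f ≠ 0 := ne_zero_of_polar_eq_one d.hfu
theorem HData.hf'0 (d : HData ρ ρ' u f u' f') : f' ≠ 0 := ne_zero_of_polar_eq_one d.hfu'
theorem HData.hn5 (d : HData ρ ρ' u f u' f') : 5 ≤ Fintype.card ι := five_le d.hn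

theorem HData.swap (d : HData ρ ρ' u f u' f') : HData ρ ρ' f u f' u' where
  hQ := d.hQ
  hn := d.hn
  hρ := d.hρ
  hρ' := d.hρ'
  pt := d.pt
  hu := d.hf
  hf := d.hu
  huf := d.hfu
  hu' := d.hf'
  hf' := d.hu'
  huf' := d.hfu'
  hQu := d.hQf
  hQf := d.hQu

/-- corresponding hyperbolic pairs exist -/
theorem exists_hdata (p : ℕ) [Fact p.Prime] [CharP F p]
    (hQ : (QuadraticMap.polarBilin Q).Nondegenerate) (hn : 7 ≤ Fintype.card ι)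
    (hρ : CQ ρ) (hρ' : CQ ρ')
    (pt : ∀ z : ι → F, z ≠ 0 → Q z = 0 → ∃ z' : ι → F, z' ≠ 0 ∧ Q z' = 0 ∧ Qb ρ' z = Qb ρ z')
    (hu : Q u = 0) (hf : Q f = 0) (huf : β u f = 1) :
    ∃ u' f' : ι → F, HData ρ ρ' u f u' f' := by
  have hn5 := five_le hn
  have hu0 : u ≠ 0 := ne_zero_of_polar_eq_one huf
  have hfu : β f u = 1 := by rw [QuadraticMap.polar_comm (⇑Q), huf]
  have hf0 : f ≠ 0 := ne_zero_of_polar_eq_one hfu
  obtain ⟨u', hu'0, hu', hQu⟩ := pt u hu0 hu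
  obtain ⟨f'', hf''0, hf'', hQf⟩ := pt f hf0 hf
  have hb : β u' f'' ≠ 0 := by
    intro hb
    by_cases hdep : ∃ c : F, f'' = c • u'
    · obtain ⟨c, hc⟩ := hdep
      have hc0 : c ≠ 0 := by
        intro h
        rw [h, zero_smul] at hc
        exact hf''0 hc
      have h1 : Qb ρ' u = Qb ρ' f := by rw [hQu, hQf, hc, Qb_smul ρ u' hc0]
      obtain ⟨e, he⟩ := Qb_eq_imp p hQ hn hρ' hu0 hu hf0 hf h1
      rw [he, QuadraticMap.polar_smul_right, polar_self_sing hu, smul_zero] at huf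
      exact zero_ne_one huf
    · push Not at hdep
      have h1 : ρ (EsT hQ hn5 u' f'') ∈ Qb ρ' u := by
        rw [hQu]
        exact ⟨_, EsT_mem_QsT hQ hn5 hu'0 hu' hb, rfl⟩
      have h2 : ρ (EsT hQ hn5 u' f'') ∈ Qb ρ' f := by
        rw [hQf]
        exact ⟨_, EsT_mem_QsT_swap hQ hn5 hu'0 hu' hf'' hb, rfl⟩
      have h3 := Qb_inter_nonperp p hQ hn hρ' hu0 hu hf0 hf (by rw [huf]; exact one_ne_zero) h1 h2
      obtain ⟨c, hc⟩ := rho_EsT_eq_one p hQ hn hρ hu'0 hu' hb h3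
      exact hdep c hc
  refine ⟨u', (β u' f'')⁻¹ • f'', ⟨hQ, hn, hρ, hρ', pt, hu, hf, huf, hu', ?_, ?_, hQu, ?_⟩⟩
  · rw [QuadraticMap.map_smul, hf'', smul_zero]
  · rw [QuadraticMap.polar_smul_right, smul_eq_mul, inv_mul_cancel₀ hb]
  · rw [hQf, Qb_smul ρ f'' (inv_ne_zero hb)]

theorem EsT_add_smul_self (hQ : (QuadraticMap.polarBilin Q).Nondegenerate)
    (hn : 5 ≤ Fintype.card ι) {u w : ι → F} (hu0 : u ≠ 0) (hu : Q u = 0) (huw : β u w = 0)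
    (c : F) : EsT hQ hn u (w + c • u) = EsT hQ hn u w := by
  have h1 : β u (c • u) = 0 := by
    rw [QuadraticMap.polar_smul_right, polar_self_sing hu, smul_zero]
  have h2 : β u (w + c • u) = 0 := by rw [QuadraticMap.polar_add_right, huw, h1, add_zero]
  apply Subtype.ext
  rw [EsT_coe hQ hn hu0 hu h2, EsT_coe hQ hn hu0 hu huw, ← Es_mul hQ hu huw h1,
    Es_self_smul hQ hu, mul_one]

/-- the map induced on `u^⊥` by the correspondence of `Q_u` with `Q_{u'}` -/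
def IsPhi (d : HData ρ ρ' u f u' f') (Φ : (ι → F) → (ι → F)) : Prop :=
  ∀ w : ι → F, β u w = 0 → β u' (Φ w) = 0 ∧ β f' (Φ w) = 0 ∧
    ρ' (EsT d.hQ (five_le d.hn) u w) = ρ (EsT d.hQ (five_le d.hn) u' (Φ w))

theorem HData.exists_Phi (d : HData ρ ρ' u f u' f') : ∃ Φ, IsPhi d Φ := by
  have hn5 := five_le d.hn
  have h : ∀ w : ι → F, ∃ w' : ι → F, β u w = 0 → β u' w' = 0 ∧ β f' w' = 0 ∧
      ρ' (EsT d.hQ hn5 u w) = ρ (EsT d.hQ hn5 u' w') := by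
    intro w
    by_cases hw : β u w = 0
    · have h1 : ρ' (EsT d.hQ hn5 u w) ∈ Qb ρ u' := by
        rw [← d.hQu]
        exact ⟨_, EsT_mem_QsT d.hQ hn5 d.hu0 d.hu hw, rfl⟩
      obtain ⟨w'', hw'', h2⟩ := (mem_Qb_iff d.hQ hn5 ρ d.hu'0 d.hu' _).1 h1
      refine ⟨w'' + (-β f' w'') • u', fun _ => ⟨?_, ?_, ?_⟩⟩
      · rw [QuadraticMap.polar_add_right, QuadraticMap.polar_smul_right, polar_self_sing d.hu',
          hw'', smul_zero, add_zero]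
      · rw [QuadraticMap.polar_add_right, QuadraticMap.polar_smul_right, d.hfu']
        simp
      · rw [EsT_add_smul_self d.hQ hn5 d.hu'0 d.hu' hw'', h2]
    · exact ⟨0, fun h => absurd h hw⟩
  choose Φ hΦ using h
  exact ⟨Φ, hΦ⟩

variable {Φ Φ' : (ι → F) → (ι → F)}

theorem IsPhi.unique (p : ℕ) [Fact p.Prime] [CharP F p] {d : HData ρ ρ' u f u' f'}
    (hΦ : IsPhi d Φ) {w w' : ι → F} (hw : β u w = 0) (h1 : β u' w' = 0) (h2 : β f' w' = 0)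
    (h : ρ' (EsT d.hQ (five_le d.hn) u w) = ρ (EsT d.hQ (five_le d.hn) u' w')) : Φ w = w' := by
  obtain ⟨h3, h4, h5⟩ := hΦ w hw
  rw [h5] at h
  obtain ⟨c, hc⟩ := rho_EsT_inj p d.hQ d.hn d.hρ d.hu'0 d.hu' h3 h1 h
  have h6 : β f' (Φ w - w') = c := by
    rw [hc, QuadraticMap.polar_smul_right, d.hfu', smul_eq_mul, mul_one]
  rw [QuadraticMap.polar_sub_right, h4, h2, sub_zero] at h6
  rw [← h6, zero_smul] at hc
  exact sub_eq_zero.1 hc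

theorem IsPhi.add (p : ℕ) [Fact p.Prime] [CharP F p] {d : HData ρ ρ' u f u' f'}
    (hΦ : IsPhi d Φ) {w₁ w₂ : ι → F} (hw₁ : β u w₁ = 0) (hw₂ : β u w₂ = 0) :
    Φ (w₁ + w₂) = Φ w₁ + Φ w₂ := by
  obtain ⟨h1, h2, h3⟩ := hΦ w₁ hw₁
  obtain ⟨h1', h2', h3'⟩ := hΦ w₂ hw₂
  apply hΦ.unique p
  · rw [QuadraticMap.polar_add_right, hw₁, hw₂, add_zero]
  · rw [QuadraticMap.polar_add_right, h1, h1', add_zero]
  · rw [QuadraticMap.polar_add_right, h2, h2', add_zero]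
  · rw [← EsT_mul d.hQ (five_le d.hn) d.hu0 d.hu hw₁ hw₂,
      ← EsT_mul d.hQ (five_le d.hn) d.hu'0 d.hu' h1 h1', map_mul, map_mul, h3, h3']

theorem IsPhi.smul_self (p : ℕ) [Fact p.Prime] [CharP F p] {d : HData ρ ρ' u f u' f'}
    (hΦ : IsPhi d Φ) (c : F) : Φ (c • u) = 0 := by
  have h1 : β u (c • u) = 0 := by
    rw [QuadraticMap.polar_smul_right, polar_self_sing d.hu, smul_zero]
  apply hΦ.unique p h1 (by simp) (by simp)
  have e : EsT d.hQ (five_le d.hn) u (c • u) = 1 := by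
    apply Subtype.ext
    rw [EsT_coe d.hQ (five_le d.hn) d.hu0 d.hu h1, Es_self_smul d.hQ d.hu]
    rfl
  rw [e, EsT_zero d.hQ (five_le d.hn) d.hu'0 d.hu', map_one, map_one]

theorem IsPhi.zero (p : ℕ) [Fact p.Prime] [CharP F p] {d : HData ρ ρ' u f u' f'}
    (hΦ : IsPhi d Φ) : Φ 0 = 0 := by
  have := hΦ.smul_self p 0
  rwa [zero_smul] at this

theorem IsPhi.neg (p : ℕ) [Fact p.Prime] [CharP F p] {d : HData ρ ρ' u f u' f'}
    (hΦ : IsPhi d Φ) {w : ι → F} (hw : β u w = 0) : Φ (-w) = -Φ w := by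
  have hw' : β u (-w) = 0 := by rw [QuadraticMap.polar_neg_right, hw, neg_zero]
  have h1 := hΦ.add p hw hw'
  rw [add_neg_cancel, hΦ.zero p] at h1
  exact eq_neg_of_add_eq_zero_right h1.symm

theorem IsPhi.sub (p : ℕ) [Fact p.Prime] [CharP F p] {d : HData ρ ρ' u f u' f'}
    (hΦ : IsPhi d Φ) {w₁ w₂ : ι → F} (hw₁ : β u w₁ = 0) (hw₂ : β u w₂ = 0) :
    Φ (w₁ - w₂) = Φ w₁ - Φ w₂ := by
  have hw' : β u (-w₂) = 0 := by rw [QuadraticMap.polar_neg_right, hw₂, neg_zero]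
  rw [sub_eq_add_neg, hΦ.add p hw₁ hw', hΦ.neg p hw₂, ← sub_eq_add_neg]

theorem IsPhi.ker (p : ℕ) [Fact p.Prime] [CharP F p] {d : HData ρ ρ' u f u' f'}
    (hΦ : IsPhi d Φ) {w : ι → F} (hw : β u w = 0) (h : Φ w = 0) : ∃ c : F, w = c • u := by
  obtain ⟨-, -, h3⟩ := hΦ w hw
  rw [h, EsT_zero d.hQ (five_le d.hn) d.hu'0 d.hu', map_one] at h3
  exact rho_EsT_eq_one p d.hQ d.hn d.hρ' d.hu0 d.hu hw h3

/-- on `W = ⟨u, f⟩^⊥` the map is injective -/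
theorem IsPhi.inj (p : ℕ) [Fact p.Prime] [CharP F p] {d : HData ρ ρ' u f u' f'}
    (hΦ : IsPhi d Φ) {w : ι → F} (hw : β u w = 0) (hfw : β f w = 0) (h : Φ w = 0) : w = 0 := by
  obtain ⟨c, hc⟩ := hΦ.ker p hw h
  rw [hc, QuadraticMap.polar_smul_right, d.hfu, smul_eq_mul, mul_one] at hfw
  rw [hc, hfw, zero_smul]

theorem IsPhi.surj (p : ℕ) [Fact p.Prime] [CharP F p] {d : HData ρ ρ' u f u' f'}
    (hΦ : IsPhi d Φ) {w' : ι → F} (h1 : β u' w' = 0) (h2 : β f' w' = 0) :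
    ∃ w : ι → F, β u w = 0 ∧ β f w = 0 ∧ Φ w = w' := by
  have hn5 := five_le d.hn
  have h3 : ρ (EsT d.hQ hn5 u' w') ∈ Qb ρ' u := by
    rw [d.hQu]
    exact ⟨_, EsT_mem_QsT d.hQ hn5 d.hu'0 d.hu' h1, rfl⟩
  obtain ⟨w₀, hw₀, h4⟩ := (mem_Qb_iff d.hQ hn5 ρ' d.hu0 d.hu _).1 h3
  have h5 : β u (w₀ + (-β f w₀) • u) = 0 := by
    rw [QuadraticMap.polar_add_right, QuadraticMap.polar_smul_right, polar_self_sing d.hu,
      hw₀, smul_zero, add_zero]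
  refine ⟨w₀ + (-β f w₀) • u, h5, ?_, ?_⟩
  · rw [QuadraticMap.polar_add_right, QuadraticMap.polar_smul_right, d.hfu]
    simp
  · apply hΦ.unique p h5 h1 h2
    rw [EsT_add_smul_self d.hQ hn5 d.hu0 d.hu hw₀, h4]

/-- a singular point of `W` corresponds to a point perpendicular to `u'` -/
theorem HData.perp_of_point (p : ℕ) [Fact p.Prime] [CharP F p] (d : HData ρ ρ' u f u' f')
    {w w₁ : ι → F} (hw0 : w ≠ 0) (hw : Q w = 0) (huw : β u w = 0) (hfw : β f w = 0)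
    (hw₁0 : w₁ ≠ 0) (hw₁ : Q w₁ = 0) (hQw : Qb ρ' w = Qb ρ w₁) : β u' w₁ = 0 := by
  have hn5 := five_le d.hn
  by_contra hb
  have h1 : ρ' (EsT d.hQ hn5 u w) ∈ Qb ρ u' := by
    rw [← d.hQu]
    exact ⟨_, EsT_mem_QsT d.hQ hn5 d.hu0 d.hu huw, rfl⟩
  have h2 : ρ' (EsT d.hQ hn5 u w) ∈ Qb ρ w₁ := by
    rw [← hQw]
    exact ⟨_, EsT_mem_QsT_swap d.hQ hn5 d.hu0 d.hu hw huw, rfl⟩
  have h3 := Qb_inter_nonperp p d.hQ d.hn d.hρ d.hu'0 d.hu' hw₁0 hw₁ hb h1 h2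
  obtain ⟨c, hc⟩ := rho_EsT_eq_one p d.hQ d.hn d.hρ' d.hu0 d.hu huw h3
  rw [hc, QuadraticMap.polar_smul_right, d.hfu, smul_eq_mul, mul_one] at hfw
  rw [hfw, zero_smul] at hc
  exact hw0 hc

/-- the point corresponding to a singular point of `W` lies in `W'` -/
theorem HData.exists_point (p : ℕ) [Fact p.Prime] [CharP F p] (d : HData ρ ρ' u f u' f')
    {w : ι → F} (hw0 : w ≠ 0) (hw : Q w = 0) (huw : β u w = 0) (hfw : β f w = 0) :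
    ∃ w₁ : ι → F, w₁ ≠ 0 ∧ Q w₁ = 0 ∧ β u' w₁ = 0 ∧ β f' w₁ = 0 ∧ Qb ρ' w = Qb ρ w₁ := by
  obtain ⟨w₁, hw₁0, hw₁, hQw⟩ := d.pt w hw0 hw
  exact ⟨w₁, hw₁0, hw₁, d.perp_of_point p hw0 hw huw hfw hw₁0 hw₁ hQw,
    d.swap.perp_of_point p hw0 hw hfw huw hw₁0 hw₁ hQw, hQw⟩

theorem IsPhi.sing (p : ℕ) [Fact p.Prime] [CharP F p] {d : HData ρ ρ' u f u' f'}
    (hΦ : IsPhi d Φ) {w w₁ : ι → F} (hw0 : w ≠ 0) (hw : Q w = 0) (huw : β u w = 0)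
    (hfw : β f w = 0) (hw₁0 : w₁ ≠ 0) (hw₁ : Q w₁ = 0) (hu'w₁ : β u' w₁ = 0)
    (hf'w₁ : β f' w₁ = 0) (hQw : Qb ρ' w = Qb ρ w₁) : ∃ c : F, c ≠ 0 ∧ Φ w = c • w₁ := by
  have hn5 := five_le d.hn
  obtain ⟨h1, h2, h3⟩ := hΦ w huw
  have h4 : ρ' (EsT d.hQ hn5 u w) ∈ Qb ρ u' := by
    rw [← d.hQu]
    exact ⟨_, EsT_mem_QsT d.hQ hn5 d.hu0 d.hu huw, rfl⟩
  have h5 : ρ' (EsT d.hQ hn5 u w) ∈ Qb ρ w₁ := by
    rw [← hQw]
    exact ⟨_, EsT_mem_QsT_swap d.hQ hn5 d.hu0 d.hu hw huw, rfl⟩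
  have hind : ∀ c : F, w₁ ≠ c • u' := by
    intro c hc
    rw [hc, QuadraticMap.polar_smul_right, d.hfu', smul_eq_mul, mul_one] at hf'w₁
    rw [hf'w₁, zero_smul] at hc
    exact hw₁0 hc
  obtain ⟨c, hc, hg⟩ := Qb_inter_mem p d.hQ d.hn d.hρ d.hu'0 d.hu' hw₁0 hw₁ hind h4 h5
  have h6 : Φ w = c • w₁ := by
    apply hΦ.unique p huw hc
    · rw [QuadraticMap.polar_smul_right, hf'w₁, smul_zero]
    · exact hg
  refine ⟨c, ?_, h6⟩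
  intro hc0
  rw [hc0, zero_smul] at h6
  exact hw0 (hΦ.inj p huw hfw h6)

/-- the behaviour of the two induced maps on a singular line of `W` -/
theorem IsPhi.line (p : ℕ) [Fact p.Prime] [CharP F p] {d : HData ρ ρ' u f u' f'}
    (hΦ : IsPhi d Φ) (hΦ' : IsPhi d.swap Φ') {w : ι → F} (hw0 : w ≠ 0) (hw : Q w = 0)
    (huw : β u w = 0) (hfw : β f w = 0) :
    Q (Φ w) = 0 ∧ (∀ c : F, ∃ e : F, Φ (c • w) = e • Φ w) ∧ ∃ r : F, r ≠ 0 ∧ Φ' w = r • Φ w := by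
  obtain ⟨w₁, hw₁0, hw₁, hu'w₁, hf'w₁, hQw⟩ := d.exists_point p hw0 hw huw hfw
  obtain ⟨c, hc0, hc⟩ := hΦ.sing p hw0 hw huw hfw hw₁0 hw₁ hu'w₁ hf'w₁ hQw
  obtain ⟨c', hc'0, hc'⟩ := hΦ'.sing p hw0 hw hfw huw hw₁0 hw₁ hf'w₁ hu'w₁ hQw
  refine ⟨?_, ?_, ⟨c' * c⁻¹, mul_ne_zero hc'0 (inv_ne_zero hc0), ?_⟩⟩
  · rw [hc, QuadraticMap.map_smul, hw₁, smul_zero]
  · intro a
    by_cases ha : a = 0
    · exact ⟨0, by rw [ha, zero_smul, zero_smul, hΦ.zero p]⟩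
    · have h1 : Qb ρ' (a • w) = Qb ρ w₁ := by rw [Qb_smul ρ' w ha, hQw]
      obtain ⟨e, -, he⟩ := hΦ.sing p (smul_ne_zero ha hw0)
        (by rw [QuadraticMap.map_smul, hw, smul_zero])
        (by rw [QuadraticMap.polar_smul_right, huw, smul_zero])
        (by rw [QuadraticMap.polar_smul_right, hfw, smul_zero]) hw₁0 hw₁ hu'w₁ hf'w₁ h1
      refine ⟨e * c⁻¹, ?_⟩
      rw [he, hc, smul_smul, mul_assoc, inv_mul_cancel₀ hc0, mul_one]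
  · rw [hc', hc, smul_smul, mul_assoc, inv_mul_cancel₀ hc0, mul_one]

end Cfsg.Agent.Lib.Helper5.OAut
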