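import Mathlib
import Cfsg.Agent.Lib.Helper5.OAut17
import Cfsg.Agent.Lib.Helper2.CentOmega1

set_option autoImplicit false

namespace Cfsg.Agent.Lib.Helper5.OAut

open Matrix Cfsg.Agent.Lib.Helper2 Cfsg.Agent.Lib.Helper2.ReflGen Cfsg.Agent.Lib.Helper2.CDG
open Cfsg.Agent.Lib.Helper2.Siegel Cfsg.Agent.Lib.Helper2.LongRoot

variable {F : Type*} [Field F] [Fintype F] {ι : Type} [Fintype ι] [DecidableEq ι]
variable {Q : QuadraticForm F (ι → F)}

set_option quotPrecheck false in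
local notation "β" => QuadraticMap.polar (⇑Q)

variable (Q) in
/-- the orthogonal complement of the hyperbolic line `⟨u, f⟩` -/
def Wp (u f : ι → F) : Submodule F (ι → F) where
  carrier := {x | β u x = 0 ∧ β f x = 0}
  add_mem' := by
    rintro x y ⟨h1, h2⟩ ⟨h3, h4⟩
    exact ⟨by rw [QuadraticMap.polar_add_right, h1, h3, add_zero],
      by rw [QuadraticMap.polar_add_right, h2, h4, add_zero]⟩
  zero_mem' := by
    constructor <;> simp
  smul_mem' := by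
    rintro c x ⟨h1, h2⟩
    exact ⟨by rw [QuadraticMap.polar_smul_right, h1, smul_zero],
      by rw [QuadraticMap.polar_smul_right, h2, smul_zero]⟩

theorem mem_Wp {u f x : ι → F} : x ∈ Wp Q u f ↔ β u x = 0 ∧ β f x = 0 := Iff.rfl

variable (Q) in
/-- non-zero singular vectors of `W` -/
def SW (u f w : ι → F) : Prop := w ≠ 0 ∧ Q w = 0 ∧ w ∈ Wp Q u f

theorem SW.smul {u f w : ι → F} (h : SW Q u f w) {c : F} (hc : c ≠ 0) : SW Q u f (c • w) :=
  ⟨smul_ne_zero hc h.1, by rw [QuadraticMap.map_smul, h.2.1, smul_zero],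
    (Wp Q u f).smul_mem c h.2.2⟩

theorem SW.add {u f w₁ w₂ : ι → F} (h₁ : SW Q u f w₁) (h₂ : SW Q u f w₂) (hb : β w₁ w₂ = 0)
    (hind : ∀ c : F, w₂ ≠ c • w₁) : SW Q u f (w₁ + w₂) := by
  refine ⟨?_, ?_, (Wp Q u f).add_mem h₁.2.2 h₂.2.2⟩
  · intro h
    apply hind (-1)
    rw [neg_smul, one_smul]
    exact eq_neg_of_add_eq_zero_right h
  · rw [QuadraticMap.map_add Q w₁ w₂, h₁.2.1, h₂.2.1, hb]
    simp

variable {u f : ι → F}

/-- a hyperbolic partner inside `W` -/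
theorem exists_partner_W (hQ : (QuadraticMap.polarBilin Q).Nondegenerate)
    (hu : Q u = 0) (hf : Q f = 0) (huf : β u f = 1) {w : ι → F} (hw : SW Q u f w) :
    ∃ f₁ : ι → F, SW Q u f f₁ ∧ β w f₁ = 1 := by
  obtain ⟨hw0, hQw, huw, hfw⟩ := hw
  obtain ⟨g, hwg, hg⟩ := Cfsg.Agent.Lib.Helper5.exists_partner Q hQ hw0 hQw
  obtain ⟨y, hy⟩ : ∃ y, y = g - β f g • u - β u g • f := ⟨_, rfl⟩
  obtain ⟨h1, h2⟩ := proj_perp hu hf huf g
  rw [← hy] at h1 h2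
  have hwu : β w u = 0 := by rw [QuadraticMap.polar_comm (⇑Q), huw]
  have hwf : β w f = 0 := by rw [QuadraticMap.polar_comm (⇑Q), hfw]
  have h3 : β w y = 1 := by
    rw [hy, QuadraticMap.polar_sub_right, QuadraticMap.polar_sub_right,
      QuadraticMap.polar_smul_right, QuadraticMap.polar_smul_right, hwu, hwf]
    simpa using hwg
  have h4 : β w (y - Q y • w) = 1 := by
    rw [QuadraticMap.polar_sub_right, QuadraticMap.polar_smul_right, polar_self_sing hQw, h3]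
    simp
  refine ⟨y - Q y • w, ⟨?_, ?_, ?_⟩, h4⟩
  · exact ne_zero_of_polar_eq_one (by rw [QuadraticMap.polar_comm (⇑Q), h4])
  · have e : y - Q y • w = y + (-Q y) • w := by module
    rw [e, QuadraticMap.map_add Q y _, QuadraticMap.map_smul, hQw, QuadraticMap.polar_smul_right,
      QuadraticMap.polar_comm (⇑Q) y w, h3]
    simp
  · exact (Wp Q u f).sub_mem ⟨h1, h2⟩ ((Wp Q u f).smul_mem _ ⟨huw, hfw⟩)

/-- a singular vector of `W` orthogonal to two given vectors -/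
theorem exists_SW_perp (hn : 7 ≤ Fintype.card ι) (w₁ w₂ : ι → F) :
    ∃ w₃ : ι → F, SW Q u f w₃ ∧ β w₁ w₃ = 0 ∧ β w₂ w₃ = 0 := by
  obtain ⟨s, hs0, hs, hperp⟩ := CentO.exists_singular_perp (Q := Q) ![u, f, w₁, w₂]
    (by omega)
  exact ⟨s, ⟨hs0, hs, hperp 0, hperp 1⟩, hperp 2, hperp 3⟩

theorem exists_SW (hn : 7 ≤ Fintype.card ι) : ∃ w : ι → F, SW Q u f w := by
  obtain ⟨w, hw, -, -⟩ := exists_SW_perp (Q := Q) (u := u) (f := f) hn 0 0
  exact ⟨w, hw⟩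

/-- a function on the singular vectors of `W` which is constant on perpendicular independent
pairs is constant -/
theorem sing_connected (hQ : (QuadraticMap.polarBilin Q).Nondegenerate)
    (hn : 7 ≤ Fintype.card ι) (hu : Q u = 0) (hf : Q f = 0) (huf : β u f = 1)
    {X : Type*} (R : (ι → F) → X)
    (h : ∀ w₁ w₂ : ι → F, SW Q u f w₁ → SW Q u f w₂ → β w₁ w₂ = 0 → (∀ c : F, w₂ ≠ c • w₁) →
      R w₁ = R w₂) :
    ∀ w₁ w₂ : ι → F, SW Q u f w₁ → SW Q u f w₂ → R w₁ = R w₂ := by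
  intro w₁ w₂ h₁ h₂
  by_cases hb : β w₁ w₂ = 0
  · by_cases hdep : ∃ c : F, w₂ = c • w₁
    · obtain ⟨c, hc⟩ := hdep
      obtain ⟨f₁, hf₁, hwf₁⟩ := exists_partner_W hQ hu hf huf h₁
      obtain ⟨w₃, h₃, h13, hf3⟩ := exists_SW_perp (Q := Q) (u := u) (f := f) hn w₁ f₁
      have hind : ∀ e : F, w₃ ≠ e • w₁ := by
        intro e he
        rw [he, QuadraticMap.polar_smul_right, QuadraticMap.polar_comm (⇑Q), hwf₁, smul_eq_mul,
          mul_one] at hf3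
        rw [hf3, zero_smul] at he
        exact h₃.1 he
      have hc0 : c ≠ 0 := by
        intro h0
        rw [h0, zero_smul] at hc
        exact h₂.1 hc
      have hind2 : ∀ e : F, w₃ ≠ e • w₂ := by
        intro e he
        rw [hc, smul_smul] at he
        exact hind _ he
      have h23 : β w₂ w₃ = 0 := by rw [hc, QuadraticMap.polar_smul_left, h13, smul_zero]
      rw [h w₁ w₃ h₁ h₃ h13 hind, h w₂ w₃ h₂ h₃ h23 hind2]
    · push Not at hdep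
      exact h w₁ w₂ h₁ h₂ hb hdep
  · obtain ⟨w₃, h₃, h13, h23⟩ := exists_SW_perp (Q := Q) (u := u) (f := f) hn w₁ w₂
    have hind : ∀ e : F, w₃ ≠ e • w₁ := by
      intro e he
      rw [he, QuadraticMap.polar_smul_right, QuadraticMap.polar_comm (⇑Q), smul_eq_mul] at h23
      rcases mul_eq_zero.1 h23 with h0 | h0
      · rw [h0, zero_smul] at he
        exact h₃.1 he
      · exact hb h0
    have hind2 : ∀ e : F, w₃ ≠ e • w₂ := by
      intro e he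
      rw [he, QuadraticMap.polar_smul_right, smul_eq_mul] at h13
      rcases mul_eq_zero.1 h13 with h0 | h0
      · rw [h0, zero_smul] at he
        exact h₃.1 he
      · exact hb h0
    rw [h w₁ w₃ h₁ h₃ h13 hind, h w₂ w₃ h₂ h₃ h23 hind2]

/-- every vector of `W` is a sum of three singular vectors of `W` -/
theorem W_sing_decomp (hQ : (QuadraticMap.polarBilin Q).Nondegenerate)
    (hn : 7 ≤ Fintype.card ι) (hu : Q u = 0) (hf : Q f = 0) (huf : β u f = 1) {x : ι → F}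
    (hx : x ∈ Wp Q u f) :
    ∃ s₁ s₂ s₃ : ι → F, (Q s₁ = 0 ∧ s₁ ∈ Wp Q u f) ∧ (Q s₂ = 0 ∧ s₂ ∈ Wp Q u f) ∧
      (Q s₃ = 0 ∧ s₃ ∈ Wp Q u f) ∧ x = s₁ + s₂ + s₃ := by
  obtain ⟨a, a', ha, ha', haa', hau, ha'u, haf, ha'f⟩ :=
    exists_hyp_perp2 hQ (five_le hn) u f hu hf huf
  have haW : a ∈ Wp Q u f :=
    ⟨by rw [QuadraticMap.polar_comm (⇑Q), hau], by rw [QuadraticMap.polar_comm (⇑Q), haf]⟩
  have ha'W : a' ∈ Wp Q u f :=
    ⟨by rw [QuadraticMap.polar_comm (⇑Q), ha'u], by rw [QuadraticMap.polar_comm (⇑Q), ha'f]⟩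
  obtain ⟨y, hy⟩ : ∃ y, y = x - β a' x • a - β a x • a' := ⟨_, rfl⟩
  obtain ⟨hay, ha'y⟩ := proj_perp ha ha' haa' x
  rw [← hy] at hay ha'y
  have hyW : y ∈ Wp Q u f := by
    rw [hy]
    exact (Wp Q u f).sub_mem ((Wp Q u f).sub_mem hx ((Wp Q u f).smul_mem _ haW))
      ((Wp Q u f).smul_mem _ ha'W)
  refine ⟨y + (-Q y) • a + a', (β a' x + Q y) • a, (β a x - 1) • a', ⟨?_, ?_⟩, ⟨?_, ?_⟩, ⟨?_, ?_⟩, ?_⟩
  · have e : y + (-Q y) • a + a' = y + ((-Q y) • a + a') := by abel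
    rw [e, QuadraticMap.map_add Q y _, QuadraticMap.map_add Q _ a', QuadraticMap.map_smul, ha, ha',
      QuadraticMap.polar_smul_left, haa', QuadraticMap.polar_add_right,
      QuadraticMap.polar_smul_right, QuadraticMap.polar_comm (⇑Q) y a, hay,
      QuadraticMap.polar_comm (⇑Q) y a', ha'y]
    simp
  · exact (Wp Q u f).add_mem ((Wp Q u f).add_mem hyW ((Wp Q u f).smul_mem _ haW)) ha'W
  · rw [QuadraticMap.map_smul, ha, smul_zero]
  · exact (Wp Q u f).smul_mem _ haW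
  · rw [QuadraticMap.map_smul, ha', smul_zero]
  · exact (Wp Q u f).smul_mem _ ha'W
  · rw [hy]
    module

/-- an additive injective map on `W` mapping singular lines into lines -/
structure LineMap (Q : QuadraticForm F (ι → F)) (u f : ι → F) (Φ : (ι → F) → (ι → F)) :
    Prop where
  add : ∀ x y : ι → F, x ∈ Wp Q u f → y ∈ Wp Q u f → Φ (x + y) = Φ x + Φ y
  inj : ∀ x : ι → F, x ∈ Wp Q u f → Φ x = 0 → x = 0
  line : ∀ w : ι → F, SW Q u f w → ∀ c : F, ∃ e : F, Φ (c • w) = e • Φ w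

variable {Φ Φ' : (ι → F) → (ι → F)}

theorem LineMap.zero (h : LineMap Q u f Φ) : Φ 0 = 0 := by
  have := h.add 0 0 (Wp Q u f).zero_mem (Wp Q u f).zero_mem
  rw [add_zero] at this
  exact left_eq_add.1 this

theorem LineMap.neg (h : LineMap Q u f Φ) {x : ι → F} (hx : x ∈ Wp Q u f) : Φ (-x) = -Φ x := by
  have := h.add x (-x) hx ((Wp Q u f).neg_mem hx)
  rw [add_neg_cancel, h.zero] at this
  exact eq_neg_of_add_eq_zero_right this.symm

theorem LineMap.sub (h : LineMap Q u f Φ) {x y : ι → F} (hx : x ∈ Wp Q u f)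
    (hy : y ∈ Wp Q u f) : Φ (x - y) = Φ x - Φ y := by
  rw [sub_eq_add_neg, h.add x (-y) hx ((Wp Q u f).neg_mem hy), h.neg hy, ← sub_eq_add_neg]

theorem LineMap.ne_zero (h : LineMap Q u f Φ) {w : ι → F} (hw : SW Q u f w) : Φ w ≠ 0 :=
  fun h0 => hw.1 (h.inj w hw.2.2 h0)

/-- the scalar functions of a line map -/
theorem LineMap.exists_phi (h : LineMap Q u f Φ) :
    ∃ φ : (ι → F) → F → F, ∀ w : ι → F, SW Q u f w → ∀ c : F, Φ (c • w) = φ w c • Φ w := by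
  have h1 : ∀ w : ι → F, ∃ φw : F → F, SW Q u f w → ∀ c : F, Φ (c • w) = φw c • Φ w := by
    intro w
    by_cases hw : SW Q u f w
    · choose φw hφw using h.line w hw
      exact ⟨φw, fun _ => hφw⟩
    · exact ⟨fun _ => 0, fun h' => absurd h' hw⟩
  choose φ hφ using h1
  exact ⟨φ, hφ⟩

theorem LineMap.phi_add (h : LineMap Q u f Φ) {φ : (ι → F) → F → F}
    (hφ : ∀ w : ι → F, SW Q u f w → ∀ c : F, Φ (c • w) = φ w c • Φ w) {w : ι → F}
    (hw : SW Q u f w) (c c' : F) : φ w (c + c') = φ w c + φ w c' := by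
  have h1 : Φ ((c + c') • w) = Φ (c • w) + Φ (c' • w) := by
    rw [add_smul]
    exact h.add _ _ ((Wp Q u f).smul_mem c hw.2.2) ((Wp Q u f).smul_mem c' hw.2.2)
  rw [hφ w hw, hφ w hw, hφ w hw, ← add_smul] at h1
  exact smul_left_injective F (h.ne_zero hw) h1

theorem LineMap.phi_one (h : LineMap Q u f Φ) {φ : (ι → F) → F → F}
    (hφ : ∀ w : ι → F, SW Q u f w → ∀ c : F, Φ (c • w) = φ w c • Φ w) {w : ι → F}
    (hw : SW Q u f w) : φ w 1 = 1 := by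
  have h1 := hφ w hw 1
  rw [one_smul] at h1
  have h2 : (1 : F) • Φ w = φ w 1 • Φ w := by rw [one_smul]; exact h1
  exact (smul_left_injective F (h.ne_zero hw) h2).symm

theorem LineMap.phi_inj (h : LineMap Q u f Φ) {φ : (ι → F) → F → F}
    (hφ : ∀ w : ι → F, SW Q u f w → ∀ c : F, Φ (c • w) = φ w c • Φ w) {w : ι → F}
    (hw : SW Q u f w) : Function.Injective (φ w) := by
  intro c c' hcc
  have h1 : Φ (c • w - c' • w) = 0 := by
    rw [h.sub ((Wp Q u f).smul_mem c hw.2.2) ((Wp Q u f).smul_mem c' hw.2.2), hφ w hw, hφ w hw,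
      hcc, sub_self]
  have h2 := h.inj _ ((Wp Q u f).sub_mem ((Wp Q u f).smul_mem c hw.2.2)
    ((Wp Q u f).smul_mem c' hw.2.2)) h1
  rw [← sub_smul] at h2
  rcases smul_eq_zero.1 h2 with h3 | h3
  · exact sub_eq_zero.1 h3
  · exact absurd h3 hw.1

/-- independent singular vectors have independent images -/
theorem LineMap.indep (h : LineMap Q u f Φ) {w₁ w₂ : ι → F} (h₁ : SW Q u f w₁)
    (h₂ : SW Q u f w₂) (hind : ∀ c : F, w₂ ≠ c • w₁) : ∀ e : F, Φ w₂ ≠ e • Φ w₁ := by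
  intro e he
  obtain ⟨φ, hφ⟩ := h.exists_phi
  obtain ⟨c, hc⟩ := (Finite.injective_iff_surjective.1 (h.phi_inj hφ h₁)) e
  rw [← hc, ← hφ w₁ h₁] at he
  have h3 : Φ (w₂ - c • w₁) = 0 := by
    rw [h.sub h₂.2.2 ((Wp Q u f).smul_mem c h₁.2.2), he, sub_self]
  have h4 := h.inj _ ((Wp Q u f).sub_mem h₂.2.2 ((Wp Q u f).smul_mem c h₁.2.2)) h3
  exact hind c (sub_eq_zero.1 h4)

theorem eq_of_smul_add_smul {M : Type*} [AddCommGroup M] [Module F M] {x y : M}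
    (hx : x ≠ 0) (hind : ∀ e : F, y ≠ e • x) {a b a' b' : F}
    (h : a • x + b • y = a' • x + b' • y) : a = a' ∧ b = b' := by
  have h1 : (b - b') • y = (a' - a) • x := by
    linear_combination (norm := module) h
  have hb : b = b' := by
    by_contra hne
    have hne' : b - b' ≠ 0 := sub_ne_zero.2 hne
    apply hind ((b - b')⁻¹ * (a' - a))
    rw [← smul_smul, ← h1, smul_smul, inv_mul_cancel₀ hne', one_smul]
  refine ⟨?_, hb⟩
  rw [hb, sub_self, zero_smul] at h1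
  rcases smul_eq_zero.1 h1.symm with h2 | h2
  · exact (sub_eq_zero.1 h2).symm
  · exact absurd h2 hx

/-- a line map is semilinear with respect to a field automorphism -/
theorem LineMap.exists_tau (hQ : (QuadraticMap.polarBilin Q).Nondegenerate)
    (hn : 7 ≤ Fintype.card ι) (hu : Q u = 0) (hf : Q f = 0) (huf : β u f = 1)
    (h : LineMap Q u f Φ) :
    ∃ τ : F ≃+* F, ∀ x : ι → F, x ∈ Wp Q u f → ∀ c : F, Φ (c • x) = τ c • Φ x := by
  obtain ⟨φ, hφ⟩ := h.exists_phi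
  have hperp : ∀ w₁ w₂ : ι → F, SW Q u f w₁ → SW Q u f w₂ → β w₁ w₂ = 0 →
      (∀ c : F, w₂ ≠ c • w₁) → φ w₁ = φ w₂ := by
    intro w₁ w₂ h₁ h₂ hb hind
    funext c
    have h12 := h₁.add h₂ hb hind
    have e1 : Φ (c • (w₁ + w₂)) = φ (w₁ + w₂) c • Φ w₁ + φ (w₁ + w₂) c • Φ w₂ := by
      rw [hφ _ h12, h.add _ _ h₁.2.2 h₂.2.2, smul_add]
    have e2 : Φ (c • (w₁ + w₂)) = φ w₁ c • Φ w₁ + φ w₂ c • Φ w₂ := by
      rw [smul_add, h.add _ _ ((Wp Q u f).smul_mem c h₁.2.2) ((Wp Q u f).smul_mem c h₂.2.2),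
        hφ _ h₁, hφ _ h₂]
    rw [e1] at e2
    obtain ⟨h3, h4⟩ := eq_of_smul_add_smul (h.ne_zero h₁) (h.indep h₁ h₂ hind) e2
    rw [← h3, ← h4]
  have hconst := sing_connected hQ hn hu hf huf φ hperp
  obtain ⟨w₀, hw₀⟩ := exists_SW (Q := Q) (u := u) (f := f) hn
  have hmul : ∀ c d : F, φ w₀ (c * d) = φ w₀ c * φ w₀ d := by
    intro c d
    by_cases hd : d = 0
    · have h0 : φ w₀ 0 = 0 := by
        have := h.phi_add hφ hw₀ 0 0
        rw [add_zero] at this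
        exact left_eq_add.1 this
      rw [hd, mul_zero, h0, mul_zero]
    · have h1 : Φ (c • d • w₀) = (φ w₀ c * φ w₀ d) • Φ w₀ := by
        rw [hφ _ (hw₀.smul hd), hφ _ hw₀, smul_smul, hconst _ _ (hw₀.smul hd) hw₀]
      rw [smul_smul, hφ _ hw₀] at h1
      exact smul_left_injective F (h.ne_zero hw₀) h1
  let τh : F →+* F :=
    { toFun := φ w₀
      map_one' := h.phi_one hφ hw₀
      map_mul' := hmul
      map_zero' := by
        have := h.phi_add hφ hw₀ 0 0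
        rw [add_zero] at this
        exact left_eq_add.1 this
      map_add' := h.phi_add hφ hw₀ }
  have hbij : Function.Bijective τh :=
    ⟨h.phi_inj hφ hw₀, Finite.injective_iff_surjective.1 (h.phi_inj hφ hw₀)⟩
  refine ⟨RingEquiv.ofBijective τh hbij, ?_⟩
  have hsing : ∀ s : ι → F, Q s = 0 → s ∈ Wp Q u f → ∀ c : F, Φ (c • s) = φ w₀ c • Φ s := by
    intro s hs hsW c
    by_cases hs0 : s = 0
    · rw [hs0, smul_zero, h.zero, smul_zero]
    · rw [hφ s ⟨hs0, hs, hsW⟩, hconst s w₀ ⟨hs0, hs, hsW⟩ hw₀]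
  intro x hx c
  show Φ (c • x) = φ w₀ c • Φ x
  obtain ⟨s₁, s₂, s₃, ⟨hs₁, hs₁W⟩, ⟨hs₂, hs₂W⟩, ⟨hs₃, hs₃W⟩, rfl⟩ :=
    W_sing_decomp hQ hn hu hf huf hx
  rw [smul_add, smul_add, h.add _ _ ((Wp Q u f).add_mem ((Wp Q u f).smul_mem c hs₁W)
    ((Wp Q u f).smul_mem c hs₂W)) ((Wp Q u f).smul_mem c hs₃W),
    h.add _ _ ((Wp Q u f).smul_mem c hs₁W) ((Wp Q u f).smul_mem c hs₂W),
    h.add _ _ ((Wp Q u f).add_mem hs₁W hs₂W) hs₃W, h.add _ _ hs₁W hs₂W,
    hsing s₁ hs₁ hs₁W, hsing s₂ hs₂ hs₂W, hsing s₃ hs₃ hs₃W, smul_add, smul_add]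

/-- two additive maps on `W` which are proportional on singular vectors are proportional -/
theorem LineMap.exists_kappa (hQ : (QuadraticMap.polarBilin Q).Nondegenerate)
    (hn : 7 ≤ Fintype.card ι) (hu : Q u = 0) (hf : Q f = 0) (huf : β u f = 1)
    (h : LineMap Q u f Φ)
    (hadd' : ∀ x y : ι → F, x ∈ Wp Q u f → y ∈ Wp Q u f → Φ' (x + y) = Φ' x + Φ' y)
    (hr : ∀ w : ι → F, SW Q u f w → ∃ r : F, r ≠ 0 ∧ Φ' w = r • Φ w) :
    ∃ κ : F, κ ≠ 0 ∧ ∀ x : ι → F, x ∈ Wp Q u f → Φ' x = κ • Φ x := by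
  have h1 : ∀ w : ι → F, ∃ r : F, SW Q u f w → r ≠ 0 ∧ Φ' w = r • Φ w := by
    intro w
    by_cases hw : SW Q u f w
    · obtain ⟨r, hr0, hr'⟩ := hr w hw
      exact ⟨r, fun _ => ⟨hr0, hr'⟩⟩
    · exact ⟨0, fun h' => absurd h' hw⟩
  choose r hr' using h1
  have hperp : ∀ w₁ w₂ : ι → F, SW Q u f w₁ → SW Q u f w₂ → β w₁ w₂ = 0 →
      (∀ c : F, w₂ ≠ c • w₁) → r w₁ = r w₂ := by
    intro w₁ w₂ h₁ h₂ hb hind
    have h12 := h₁.add h₂ hb hind
    have e1 : Φ' (w₁ + w₂) = r (w₁ + w₂) • Φ w₁ + r (w₁ + w₂) • Φ w₂ := by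
      rw [(hr' _ h12).2, h.add _ _ h₁.2.2 h₂.2.2, smul_add]
    have e2 : Φ' (w₁ + w₂) = r w₁ • Φ w₁ + r w₂ • Φ w₂ := by
      rw [hadd' _ _ h₁.2.2 h₂.2.2, (hr' _ h₁).2, (hr' _ h₂).2]
    rw [e1] at e2
    obtain ⟨h3, h4⟩ := eq_of_smul_add_smul (h.ne_zero h₁) (h.indep h₁ h₂ hind) e2
    rw [← h3, ← h4]
  have hconst := sing_connected hQ hn hu hf huf r hperp
  obtain ⟨w₀, hw₀⟩ := exists_SW (Q := Q) (u := u) (f := f) hn
  have h0' : Φ' 0 = 0 := by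
    have := hadd' 0 0 (Wp Q u f).zero_mem (Wp Q u f).zero_mem
    rw [add_zero] at this
    exact left_eq_add.1 this
  refine ⟨r w₀, (hr' w₀ hw₀).1, ?_⟩
  have hsing : ∀ s : ι → F, Q s = 0 → s ∈ Wp Q u f → Φ' s = r w₀ • Φ s := by
    intro s hs hsW
    by_cases hs0 : s = 0
    · rw [hs0, h0', h.zero, smul_zero]
    · rw [(hr' s ⟨hs0, hs, hsW⟩).2, hconst s w₀ ⟨hs0, hs, hsW⟩ hw₀]
  intro x hx
  obtain ⟨s₁, s₂, s₃, ⟨hs₁, hs₁W⟩, ⟨hs₂, hs₂W⟩, ⟨hs₃, hs₃W⟩, rfl⟩ :=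
    W_sing_decomp hQ hn hu hf huf hx
  rw [hadd' _ _ ((Wp Q u f).add_mem hs₁W hs₂W) hs₃W, hadd' _ _ hs₁W hs₂W,
    h.add _ _ ((Wp Q u f).add_mem hs₁W hs₂W) hs₃W, h.add _ _ hs₁W hs₂W,
    hsing s₁ hs₁ hs₁W, hsing s₂ hs₂ hs₂W, hsing s₃ hs₃ hs₃W, smul_add, smul_add]

end Cfsg.Agent.Lib.Helper5.OAut
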