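import Mathlib
import Cfsg.Agent.Lib.Helper5.OAut18

set_option autoImplicit false

namespace Cfsg.Agent.Lib.Helper5.OAut

open Matrix Cfsg.Agent.Lib.Helper2 Cfsg.Agent.Lib.Helper2.ReflGen Cfsg.Agent.Lib.Helper2.CDG
open Cfsg.Agent.Lib.Helper2.Siegel Cfsg.Agent.Lib.Helper2.LongRoot

variable {F : Type*} [Field F] [Fintype F] {ι : Type} [Fintype ι] [DecidableEq ι]
variable {Q : QuadraticForm F (ι → F)}
variable {𝔊 : Type*} [Group 𝔊]

set_option quotPrecheck false in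
local notation "β" => QuadraticMap.polar (⇑Q)

variable {ρ ρ' : TG Q →* 𝔊} {u f u' f' : ι → F} {Φ Φ' : (ι → F) → (ι → F)}

theorem IsPhi.lineMap (p : ℕ) [Fact p.Prime] [CharP F p] {d : HData ρ ρ' u f u' f'}
    (hΦ : IsPhi d Φ) (hΦ' : IsPhi d.swap Φ') : LineMap Q u f Φ where
  add := fun x y hx hy => hΦ.add p hx.1 hy.1
  inj := fun x hx h => hΦ.inj p hx.1 hx.2 h
  line := fun w hw => (hΦ.line p hΦ' hw.1 hw.2.1 hw.2.2.1 hw.2.2.2).2.1

theorem IsPhi.mem_Wp {d : HData ρ ρ' u f u' f'} (hΦ : IsPhi d Φ) {x : ι → F}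
    (hx : β u x = 0) : Φ x ∈ Wp Q u' f' := ⟨(hΦ x hx).1, (hΦ x hx).2.1⟩

theorem IsPhi.mem_Wp' {d : HData ρ ρ' u f u' f'} (hΦ' : IsPhi d.swap Φ') {x : ι → F}
    (hx : β f x = 0) : Φ' x ∈ Wp Q u' f' := ⟨(hΦ' x hx).2.1, (hΦ' x hx).1⟩

/-- semilinearity of the induced maps -/
theorem IsPhi.exists_tau_kappa (p : ℕ) [Fact p.Prime] [CharP F p] {d : HData ρ ρ' u f u' f'}
    (hΦ : IsPhi d Φ) (hΦ' : IsPhi d.swap Φ') :
    ∃ (τ : F ≃+* F) (κ : F), κ ≠ 0 ∧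
      (∀ x : ι → F, x ∈ Wp Q u f → ∀ c : F, Φ (c • x) = τ c • Φ x) ∧
      ∀ x : ι → F, x ∈ Wp Q u f → Φ' x = κ • Φ x := by
  have hL := hΦ.lineMap p hΦ'
  obtain ⟨τ, hτ⟩ := hL.exists_tau d.hQ d.hn d.hu d.hf d.huf
  obtain ⟨κ, hκ0, hκ⟩ := hL.exists_kappa (Φ' := Φ') d.hQ d.hn d.hu d.hf d.huf
    (fun x y hx hy => hΦ'.add p hx.2 hy.2)
    (fun w hw => (hΦ.line p hΦ' hw.1 hw.2.1 hw.2.2.1 hw.2.2.2).2.2)
  exact ⟨τ, κ, hκ0, hτ, hκ⟩

/-- the image of `u` under a product of three transvections -/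
theorem weyl_smul' (hQ : (QuadraticMap.polarBilin Q).Nondegenerate)
    (hu : Q u = 0) (hf : Q f = 0) (huf : β u f = 1) {a b : ι → F} (ha : a ∈ Wp Q u f)
    (hb : b ∈ Wp Q u f) :
    (Es hQ u a * Es hQ f b * Es hQ u a) • u =
      (1 - β a b + Q a * Q b) • u + (b - Q b • a) - Q b • f := by
  have hfu : β f u = 1 := by rw [QuadraticMap.polar_comm (⇑Q), huf]
  have hau : β a u = 0 := by rw [QuadraticMap.polar_comm (⇑Q), ha.1]
  have haf : β a f = 0 := by rw [QuadraticMap.polar_comm (⇑Q), ha.2]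
  have hbu : β b u = 0 := by rw [QuadraticMap.polar_comm (⇑Q), hb.1]
  have e1 : Es hQ u a • u = u := Es_smul_self hQ hu ha.1
  have e2 : Es hQ f b • u = u + b - Q b • f := by
    rw [Es_smul hQ hf hb.2, hfu, hbu]
    module
  have e3 : Es hQ u a • b = b - β a b • u := Es_smul_perp hQ hu ha.1 hb.1
  have e4 : Es hQ u a • f = f + a - Q a • u := by
    rw [Es_smul hQ hu ha.1, huf, haf]
    module
  rw [mul_smul, mul_smul, e1, e2, smul_sub, smul_add, e1, e3, smul_comm (Es hQ u a) (Q b) f, e4]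
  module

theorem weyl_smul (hQ : (QuadraticMap.polarBilin Q).Nondegenerate) (hn : 5 ≤ Fintype.card ι)
    (hu : Q u = 0) (hf : Q f = 0) (huf : β u f = 1) {a b : ι → F} (ha : a ∈ Wp Q u f)
    (hb : b ∈ Wp Q u f) :
    (EsT hQ hn u a * EsT hQ hn f b * EsT hQ hn u a) • u =
      (1 - β a b + Q a * Q b) • u + (b - Q b • a) - Q b • f := by
  have hu0 : u ≠ 0 := ne_zero_of_polar_eq_one huf
  have hfu : β f u = 1 := by rw [QuadraticMap.polar_comm (⇑Q), huf]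
  have hf0 : f ≠ 0 := ne_zero_of_polar_eq_one hfu
  rw [coe_smul_T, Subgroup.coe_mul, Subgroup.coe_mul, EsT_coe hQ hn hu0 hu ha.1,
    EsT_coe hQ hn hf0 hf hb.2, weyl_smul' hQ hu hf huf ha hb]

/-- the Weyl relation transported through the correspondence -/
theorem IsPhi.weyl (p : ℕ) [Fact p.Prime] [CharP F p] {d : HData ρ ρ' u f u' f'}
    (hΦ : IsPhi d Φ) (hΦ' : IsPhi d.swap Φ') {a : ι → F} (ha : a ∈ Wp Q u f) (hqa : Q a ≠ 0) :
    Φ' ((Q a)⁻¹ • a) = Q (Φ' ((Q a)⁻¹ • a)) • Φ a := by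
  have hn5 := five_le d.hn
  obtain ⟨b, hb⟩ : ∃ b, b = (Q a)⁻¹ • a := ⟨_, rfl⟩
  rw [← hb]
  have hbW : b ∈ Wp Q u f := by rw [hb]; exact (Wp Q u f).smul_mem _ ha
  have ha'W := hΦ.mem_Wp ha.1
  have hb'W := hΦ'.mem_Wp' (d := d) hbW.2
  obtain ⟨n, hn⟩ : ∃ n, n = EsT d.hQ hn5 u a * EsT d.hQ hn5 f b * EsT d.hQ hn5 u a := ⟨_, rfl⟩
  obtain ⟨n', hn'⟩ : ∃ n', n' =
    EsT d.hQ hn5 u' (Φ a) * EsT d.hQ hn5 f' (Φ' b) * EsT d.hQ hn5 u' (Φ a) := ⟨_, rfl⟩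
  have hnn : ρ' n = ρ n' := by
    rw [hn, hn', map_mul, map_mul, map_mul, map_mul, (hΦ a ha.1).2.2, (hΦ' b hbW.2).2.2]
  have hnu : n • u = (-(Q a)⁻¹) • f := by
    rw [hn, weyl_smul d.hQ hn5 d.hu d.hf d.huf ha hbW, hb]
    have e1 : β a ((Q a)⁻¹ • a) = 2 := by
      rw [QuadraticMap.polar_smul_right, QuadraticMap.polar_self, smul_eq_mul]
      first | rw [two_nsmul] | rw [two_smul]
      field_simp
      ring
    have e2 : Q ((Q a)⁻¹ • a) = (Q a)⁻¹ := by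
      rw [QuadraticMap.map_smul, smul_eq_mul]
      field_simp
    rw [e1, e2, mul_inv_cancel₀ hqa]
    module
  have hQb : Qb ρ (n' • u') = Qb ρ f' := by
    rw [← Qb_conj ρ n' u', ← hnn, ← d.hQu, Qb_conj ρ' n u, hnu,
      Qb_smul ρ' f (neg_ne_zero.2 (inv_ne_zero hqa)), d.hQf]
  have hnu'0 : n' • u' ≠ 0 := smul_ne_zero_of_ne (n' : OG Q) d.hu'0
  have hnu'Q : Q (n' • u') = 0 := by
    have := Q_smul (n' : OG Q) u'
    rw [d.hu'] at this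
    exact this
  obtain ⟨c, hc⟩ := Qb_eq_imp p d.hQ d.hn d.hρ d.hf'0 d.hf' hnu'0 hnu'Q hQb.symm
  rw [hn', weyl_smul d.hQ hn5 d.hu' d.hf' d.huf' ha'W hb'W] at hc
  have h1 := congrArg (fun v => β u' v) hc
  simp only [QuadraticMap.polar_add_right, QuadraticMap.polar_sub_right,
    QuadraticMap.polar_smul_right, polar_self_sing d.hu', d.huf', ha'W.1, hb'W.1] at h1
  have h2 := congrArg (fun v => β f' v) hc
  simp only [QuadraticMap.polar_add_right, QuadraticMap.polar_sub_right,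
    QuadraticMap.polar_smul_right, polar_self_sing d.hf', d.hfu', ha'W.2, hb'W.2] at h2
  have h3 : Φ' b - Q (Φ' b) • Φ a = 0 := by
    have e : Φ' b - Q (Φ' b) • Φ a = ((1 - β (Φ a) (Φ' b) + Q (Φ a) * Q (Φ' b)) • u' +
        (Φ' b - Q (Φ' b) • Φ a) - Q (Φ' b) • f') - (1 - β (Φ a) (Φ' b) + Q (Φ a) * Q (Φ' b)) • u'
        + Q (Φ' b) • f' := by module
    rw [e, hc]
    simp only [smul_eq_mul, mul_zero, mul_one, sub_zero, zero_sub, zero_add, add_zero,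
      smul_zero] at h1 h2
    rw [h2, ← h1]
    module
  exact sub_eq_zero.1 h3

/-- the induced map is a semi-similarity on `W` -/
theorem IsPhi.form (p : ℕ) [Fact p.Prime] [CharP F p] {d : HData ρ ρ' u f u' f'}
    (hΦ : IsPhi d Φ) (hΦ' : IsPhi d.swap Φ') {τ : F ≃+* F} {κ : F} (hκ0 : κ ≠ 0)
    (hτ : ∀ x : ι → F, x ∈ Wp Q u f → ∀ c : F, Φ (c • x) = τ c • Φ x)
    (hκ : ∀ x : ι → F, x ∈ Wp Q u f → Φ' x = κ • Φ x) {x : ι → F} (hx : x ∈ Wp Q u f) :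
    Q (Φ x) = κ⁻¹ * τ (Q x) := by
  by_cases hqx : Q x = 0
  · rw [hqx, map_zero, mul_zero]
    by_cases hx0 : x = 0
    · rw [hx0, hΦ.zero p, map_zero]
    · exact (hΦ.line p hΦ' hx0 hqx hx.1 hx.2).1
  · have h1 := hΦ.weyl p hΦ' hx hqx
    have hxW : (Q x)⁻¹ • x ∈ Wp Q u f := (Wp Q u f).smul_mem _ hx
    rw [hκ _ hxW, hτ x hx, smul_smul, QuadraticMap.map_smul] at h1
    have hx0 : x ≠ 0 := by
      intro h
      rw [h, map_zero] at hqx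
      exact hqx rfl
    have hΦx : Φ x ≠ 0 := fun h => hx0 (hΦ.inj p hx.1 hx.2 h)
    have h2 := smul_left_injective F hΦx h1
    simp only [smul_eq_mul] at h2
    have hm : κ * τ (Q x)⁻¹ ≠ 0 := mul_ne_zero hκ0 (by
      rw [map_inv₀]
      exact inv_ne_zero (fun h => hqx ((map_eq_zero τ).1 h)))
    have h3 : Q (Φ x) = (κ * τ (Q x)⁻¹)⁻¹ := by
      apply eq_inv_of_mul_eq_one_right
      apply mul_left_cancel₀ hm
      rw [mul_one]
      linear_combination -h2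
    rw [h3, mul_inv, map_inv₀, inv_inv]

end Cfsg.Agent.Lib.Helper5.OAut
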