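import Mathlib
import Cfsg.Agent.Lib.Helper5.OAut19

set_option autoImplicit false

namespace Cfsg.Agent.Lib.Helper5.OAut

open Matrix Cfsg.Agent.Lib.Helper2 Cfsg.Agent.Lib.Helper2.ReflGen Cfsg.Agent.Lib.Helper2.CDG
open Cfsg.Agent.Lib.Helper2.Siegel Cfsg.Agent.Lib.Helper2.LongRoot

variable {F : Type*} [Field F] {ι : Type} [Fintype ι] [DecidableEq ι]
variable {Q : QuadraticForm F (ι → F)}

set_option quotPrecheck false in
local notation "β" => QuadraticMap.polar (⇑Q)

/-- semilinear similarities of a quadratic form -/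
structure QSemi (Q : QuadraticForm F (ι → F)) (s : (ι → F) → (ι → F)) (τ : F ≃+* F) (κ : F) :
    Prop where
  add : ∀ x y : ι → F, s (x + y) = s x + s y
  smul : ∀ (c : F) (x : ι → F), s (c • x) = τ c • s x
  form : ∀ x : ι → F, Q (s x) = κ * τ (Q x)
  hκ : κ ≠ 0

variable {s : (ι → F) → (ι → F)} {τ : F ≃+* F} {κ : F}

theorem QSemi.zero (hs : QSemi Q s τ κ) : s 0 = 0 := by
  have := hs.add 0 0
  rw [add_zero] at this
  exact left_eq_add.1 this

theorem QSemi.neg (hs : QSemi Q s τ κ) (x : ι → F) : s (-x) = -s x := by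
  have := hs.add x (-x)
  rw [add_neg_cancel, hs.zero] at this
  exact eq_neg_of_add_eq_zero_right this.symm

theorem QSemi.sub (hs : QSemi Q s τ κ) (x y : ι → F) : s (x - y) = s x - s y := by
  rw [sub_eq_add_neg, hs.add, hs.neg, ← sub_eq_add_neg]

theorem QSemi.polar (hs : QSemi Q s τ κ) (x y : ι → F) : β (s x) (s y) = κ * τ (β x y) := by
  unfold QuadraticMap.polar
  rw [← hs.add, hs.form, hs.form, hs.form, map_sub, map_sub]
  ring

theorem QSemi.injective (hs : QSemi Q s τ κ) (hQ : (QuadraticMap.polarBilin Q).Nondegenerate) :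
    Function.Injective s := by
  intro x y hxy
  have h1 : s (x - y) = 0 := by rw [hs.sub, hxy, sub_self]
  have h2 : ∀ z : ι → F, β (x - y) z = 0 := by
    intro z
    have h3 := hs.polar (x - y) z
    rw [h1] at h3
    simp only [QuadraticMap.polar_zero_left] at h3
    rcases mul_eq_zero.1 h3.symm with h4 | h4
    · exact absurd h4 hs.hκ
    · exact (map_eq_zero τ).1 h4
  exact sub_eq_zero.1 (hQ.1 (x - y) h2)

theorem QSemi.bijective [Finite F] (hs : QSemi Q s τ κ)
    (hQ : (QuadraticMap.polarBilin Q).Nondegenerate) : Function.Bijective s :=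
  ⟨hs.injective hQ, Finite.injective_iff_surjective.1 (hs.injective hQ)⟩

/-- a semilinear similarity conjugates Siegel transformations to Siegel transformations -/
theorem QSemi.map_Es (hs : QSemi Q s τ κ) (hQ : (QuadraticMap.polarBilin Q).Nondegenerate)
    {u w : ι → F} (hu : Q u = 0) (huw : β u w = 0) (x : ι → F) :
    s (Es hQ u w • x) = Es hQ (s u) (κ⁻¹ • s w) • s x := by
  have hsu : Q (s u) = 0 := by rw [hs.form, hu, map_zero, mul_zero]
  have hsuw : β (s u) (κ⁻¹ • s w) = 0 := by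
    rw [QuadraticMap.polar_smul_right, hs.polar, huw, map_zero, mul_zero, smul_zero]
  rw [Es_smul hQ hu huw, Es_smul hQ hsu hsuw, hs.sub, hs.sub, hs.add, hs.smul, hs.smul, hs.smul,
    QuadraticMap.polar_smul_left, hs.polar, hs.polar, QuadraticMap.map_smul, hs.form, map_mul]
  have hκ := hs.hκ
  simp only [smul_eq_mul, smul_smul]
  have e1 : κ * τ (β u x) * κ⁻¹ = τ (β u x) := by field_simp
  have e2 : κ⁻¹ * (κ * τ (β w x)) = τ (β w x) := by field_simp
  have e3 : κ⁻¹ * κ⁻¹ * (κ * τ (Q w)) * (κ * τ (β u x)) = τ (Q w) * τ (β u x) := by field_simp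
  rw [e1, e2, e3]

theorem hyp_decomp {u f : ι → F} (v : ι → F) :
    v = β f v • u + (v - β f v • u - β u v • f) + β u v • f := by abel

theorem Q_hyp {u f : ι → F} (hu : Q u = 0) (hf : Q f = 0) (huf : β u f = 1) {x : ι → F}
    (hx : x ∈ Wp Q u f) (a b : F) : Q (a • u + x + b • f) = a * b + Q x := by
  have e : a • u + x + b • f = x + (a • u + b • f) := by abel
  have hxu : β x u = 0 := by rw [QuadraticMap.polar_comm (⇑Q), hx.1]
  have hxf : β x f = 0 := by rw [QuadraticMap.polar_comm (⇑Q), hx.2]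
  rw [e, QuadraticMap.map_add Q x _, QuadraticMap.map_add Q (a • u) _]
  simp only [QuadraticMap.map_smul, hu, hf, QuadraticMap.polar_add_right,
    QuadraticMap.polar_smul_right, QuadraticMap.polar_smul_left, huf, hxu, hxf, smul_eq_mul,
    mul_zero, mul_one, add_zero, zero_add]
  ring

variable (Q) in
/-- the semilinear map assembled from the map induced on `W` -/
noncomputable def sMap (u f u' f' : ι → F) (Φ : (ι → F) → (ι → F)) (τ : F ≃+* F) (κ : F)
    (v : ι → F) : ι → F :=
  τ (β f v) • u' + κ • Φ (v - β f v • u - β u v • f) + (κ * τ (β u v)) • f'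

variable {u f u' f' : ι → F} {Φ : (ι → F) → (ι → F)}

theorem proj_mem_Wp (hu : Q u = 0) (hf : Q f = 0) (huf : β u f = 1) (v : ι → F) :
    v - β f v • u - β u v • f ∈ Wp Q u f := proj_perp hu hf huf v

theorem sMap_qsemi (hu : Q u = 0) (hf : Q f = 0) (huf : β u f = 1)
    (hu' : Q u' = 0) (hf' : Q f' = 0) (huf' : β u' f' = 1) (hκ0 : κ ≠ 0)
    (hadd : ∀ x y : ι → F, x ∈ Wp Q u f → y ∈ Wp Q u f → Φ (x + y) = Φ x + Φ y)
    (hτ : ∀ x : ι → F, x ∈ Wp Q u f → ∀ c : F, Φ (c • x) = τ c • Φ x)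
    (hW : ∀ x : ι → F, x ∈ Wp Q u f → Φ x ∈ Wp Q u' f')
    (hform : ∀ x : ι → F, x ∈ Wp Q u f → Q (Φ x) = κ⁻¹ * τ (Q x)) :
    QSemi Q (sMap Q u f u' f' Φ τ κ) τ κ where
  add := by
    intro x y
    unfold sMap
    have e : x + y - β f (x + y) • u - β u (x + y) • f =
        (x - β f x • u - β u x • f) + (y - β f y • u - β u y • f) := by
      rw [QuadraticMap.polar_add_right, QuadraticMap.polar_add_right]
      module
    rw [e, hadd _ _ (proj_mem_Wp hu hf huf x) (proj_mem_Wp hu hf huf y),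
      QuadraticMap.polar_add_right, QuadraticMap.polar_add_right, map_add, map_add]
    module
  smul := by
    intro c x
    unfold sMap
    have e : c • x - β f (c • x) • u - β u (c • x) • f = c • (x - β f x • u - β u x • f) := by
      rw [QuadraticMap.polar_smul_right, QuadraticMap.polar_smul_right]
      module
    rw [e, hτ _ (proj_mem_Wp hu hf huf x), QuadraticMap.polar_smul_right,
      QuadraticMap.polar_smul_right, smul_eq_mul, smul_eq_mul, map_mul, map_mul]
    module
  form := by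
    intro v
    have hx := proj_mem_Wp hu hf huf v
    have hx' := hW _ hx
    have h1 : Q v = β f v * β u v + Q (v - β f v • u - β u v • f) := by
      conv_lhs => rw [hyp_decomp (Q := Q) (u := u) (f := f) v]
      exact Q_hyp hu hf huf hx _ _
    unfold sMap
    rw [Q_hyp hu' hf' huf' ((Wp Q u' f').smul_mem κ hx'), QuadraticMap.map_smul, hform _ hx, h1,
      map_add, map_mul]
    simp only [smul_eq_mul]
    field_simp
  hκ := hκ0

theorem sMap_u (hu : Q u = 0) (huf : β u f = 1) (hΦ0 : Φ 0 = 0) :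
    sMap Q u f u' f' Φ τ κ u = u' := by
  unfold sMap
  rw [QuadraticMap.polar_comm (⇑Q) f u, huf, polar_self_sing hu, one_smul, zero_smul, sub_self,
    sub_zero, hΦ0, map_one, map_zero]
  simp

theorem sMap_f (hf : Q f = 0) (huf : β u f = 1) (hΦ0 : Φ 0 = 0) :
    sMap Q u f u' f' Φ τ κ f = κ • f' := by
  unfold sMap
  rw [huf, polar_self_sing hf, one_smul, zero_smul, sub_zero, sub_self, hΦ0, map_one, map_zero]
  simp

theorem sMap_W {x : ι → F} (hx : x ∈ Wp Q u f) : sMap Q u f u' f' Φ τ κ x = κ • Φ x := by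
  unfold sMap
  rw [hx.1, hx.2, map_zero]
  simp

end Cfsg.Agent.Lib.Helper5.OAut
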