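import Mathlib
import Cfsg.Agent.Lib.Helper5.OAut20

set_option autoImplicit false

namespace Cfsg.Agent.Lib.Helper5.OAut

open Matrix Cfsg.Agent.Lib.Helper2 Cfsg.Agent.Lib.Helper2.ReflGen Cfsg.Agent.Lib.Helper2.CDG
open Cfsg.Agent.Lib.Helper2.Siegel Cfsg.Agent.Lib.Helper2.LongRoot

variable {F : Type*} [Field F] [Fintype F] {ι : Type} [Fintype ι] [DecidableEq ι]
variable {Q : QuadraticForm F (ι → F)}
variable {𝔊 : Type*} [Group 𝔊]

set_option quotPrecheck false in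
local notation "β" => QuadraticMap.polar (⇑Q)

theorem QsT_le_of_smul {K : Subgroup (TG Q)} {h : TG Q} (hh : h ∈ K) {u : ι → F}
    (hu : QsT Q u ≤ K) : QsT Q (h • u) ≤ K := by
  intro y hy
  have h1 := conj_mem_QsT h⁻¹ hy
  rw [inv_smul_smul] at h1
  have h2 := K.mul_mem (K.mul_mem hh (hu h1)) (K.inv_mem hh)
  have e : h * (h⁻¹ * y * h⁻¹⁻¹) * h⁻¹ = y := by group
  rwa [e] at h2

/-- a subgroup containing `Q_p` and `Q_q` for a hyperbolic pair `(p, q)` contains `Q_z` for all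
singular `z` not perpendicular to `q` -/
theorem QsT_le_of_nonperp (hQ : (QuadraticMap.polarBilin Q).Nondegenerate)
    (hn : 5 ≤ Fintype.card ι) {K : Subgroup (TG Q)} {a b : ι → F} (ha : Q a = 0) (hb : Q b = 0)
    (hab : β a b = 1) (hKa : QsT Q a ≤ K) (hKb : QsT Q b ≤ K) {z : ι → F} (hz : Q z = 0)
    (hzb : β z b ≠ 0) : QsT Q z ≤ K := by
  have hba : β b a = 1 := by rw [QuadraticMap.polar_comm (⇑Q), hab]
  have hb0 : b ≠ 0 := ne_zero_of_polar_eq_one hba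
  have hbz : β b z ≠ 0 := by rw [QuadraticMap.polar_comm (⇑Q)]; exact hzb
  obtain ⟨z₁, hz₁⟩ : ∃ z₁, z₁ = (β b z)⁻¹ • z := ⟨_, rfl⟩
  have hbz₁ : β b z₁ = 1 := by
    rw [hz₁, QuadraticMap.polar_smul_right, smul_eq_mul, inv_mul_cancel₀ hbz]
  have hQz₁ : Q z₁ = 0 := by rw [hz₁, QuadraticMap.map_smul, hz, smul_zero]
  obtain ⟨x₁, hx₁⟩ : ∃ x₁, x₁ = z₁ - β b z₁ • a - β a z₁ • b := ⟨_, rfl⟩
  have hx₁W : x₁ ∈ Wp Q a b := by rw [hx₁]; exact proj_mem_Wp ha hb hab z₁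
  have hdec : z₁ = β b z₁ • a + x₁ + β a z₁ • b := by rw [hx₁]; abel
  have hq : β a z₁ = -Q x₁ := by
    have h1 := Q_hyp ha hb hab hx₁W (β b z₁) (β a z₁)
    rw [← hdec, hQz₁, hbz₁, one_mul] at h1
    linear_combination -h1
  have hh : EsT hQ hn b x₁ ∈ K := hKb (EsT_mem_QsT hQ hn hb0 hb hx₁W.2)
  have hsm : EsT hQ hn b x₁ • a = z₁ := by
    rw [EsT_smul hQ hn hb0 hb hx₁W.2, hba, QuadraticMap.polar_comm (⇑Q) x₁ a, hx₁W.1]
    conv_rhs => rw [hdec, hbz₁, hq]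
    module
  have h1 := QsT_le_of_smul hh hKa
  rw [hsm, hz₁, QsT_smul z (inv_ne_zero hbz)] at h1
  exact h1

/-- `T` is generated by the unipotent radicals of two opposite points -/
theorem eq_top_of_QsT_le (hQ : (QuadraticMap.polarBilin Q).Nondegenerate)
    (hn : 5 ≤ Fintype.card ι) {K : Subgroup (TG Q)} {u f : ι → F} (hu : Q u = 0) (hf : Q f = 0)
    (huf : β u f = 1) (hKu : QsT Q u ≤ K) (hKf : QsT Q f ≤ K) : K = ⊤ := by
  have hfu : β f u = 1 := by rw [QuadraticMap.polar_comm (⇑Q), huf]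
  have hf0 : f ≠ 0 := ne_zero_of_polar_eq_one hfu
  have hall : ∀ z : ι → F, z ≠ 0 → Q z = 0 → QsT Q z ≤ K := by
    intro z hz0 hz
    by_cases hzf : β z f = 0
    · by_cases hdep : ∃ c : F, z = c • f
      · obtain ⟨c, hc⟩ := hdep
        have hc0 : c ≠ 0 := by
          intro h
          rw [h, zero_smul] at hc
          exact hz0 hc
        rw [hc, QsT_smul f hc0]
        exact hKf
      · push Not at hdep
        obtain ⟨y₁, hfy₁, hzy₁⟩ := exists_dual₂ hQ hf0 hdep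
        obtain ⟨y, hy⟩ : ∃ y, y = u + (1 - β z u) • y₁ := ⟨_, rfl⟩
        have hfy : β f y = 1 := by
          rw [hy, QuadraticMap.polar_add_right, QuadraticMap.polar_smul_right, hfu, hfy₁]
          simp
        have hzy : β z y = 1 := by
          rw [hy, QuadraticMap.polar_add_right, QuadraticMap.polar_smul_right, hzy₁]
          simp
        obtain ⟨y', hy'⟩ : ∃ y', y' = y + (-Q y) • f := ⟨_, rfl⟩
        have hQy' : Q y' = 0 := by
          rw [hy', QuadraticMap.map_add Q y _, QuadraticMap.map_smul, hf,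
            QuadraticMap.polar_smul_right, QuadraticMap.polar_comm (⇑Q) y f, hfy]
          simp
        have hfy' : β f y' = 1 := by
          rw [hy', QuadraticMap.polar_add_right, QuadraticMap.polar_smul_right,
            polar_self_sing hf, hfy]
          simp
        have hzy' : β z y' = 1 := by
          rw [hy', QuadraticMap.polar_add_right, QuadraticMap.polar_smul_right, hzf, hzy]
          simp
        have hKy' : QsT Q y' ≤ K := by
          apply QsT_le_of_nonperp hQ hn hu hf huf hKu hKf hQy'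
          rw [QuadraticMap.polar_comm (⇑Q), hfy']
          exact one_ne_zero
        apply QsT_le_of_nonperp hQ hn hf hQy' hfy' hKf hKy' hz
        rw [hzy']
        exact one_ne_zero
    · exact QsT_le_of_nonperp hQ hn hu hf huf hKu hKf hz hzf
  have hS : S Q ⊆ ((K.map (T Q).subtype : Subgroup (OG Q)) : Set (OG Q)) := by
    rintro g ⟨a, b, c, ha, hb, hab, hg⟩
    have hgLR := eq_LR_of_coe hQ g a b ha hb hab c hg
    by_cases ha0 : a = 0
    · have h1 : g = 1 := by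
        rw [hgLR]
        apply ext_smul
        intro x
        rw [LR_smul, ha0]
        simp
      rw [h1]
      exact Subgroup.one_mem _
    · have hab' : β a (c • b) = 0 := by rw [QuadraticMap.polar_smul_right, hab, smul_zero]
      have h1 : g = Es hQ a (c • b) := by rw [hgLR, Es_eq_LR hQ ha hb hab c]
      refine ⟨EsT hQ hn a (c • b), hall a ha0 ha (EsT_mem_QsT hQ hn ha0 ha hab'), ?_⟩
      rw [h1]
      exact EsT_coe hQ hn ha0 ha hab'
  have hT : T Q ≤ K.map (T Q).subtype := by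
    unfold T
    rw [Subgroup.closure_le]
    exact hS
  rw [eq_top_iff]
  intro t _
  obtain ⟨k, hk, hkt⟩ := hT t.2
  have : k = t := Subtype.ext hkt
  rw [← this]
  exact hk

variable {ρ ρ' : TG Q →* 𝔊} {s : (ι → F) → (ι → F)}

/-- the elements of `T` on which two central quotient maps correspond via a semilinear map -/
def corrSub (ρ ρ' : TG Q →* 𝔊) (s : (ι → F) → (ι → F)) (hs : Function.Bijective s) :
    Subgroup (TG Q) where
  carrier := {t | ∃ t' : TG Q, (∀ x : ι → F, t' • s x = s (t • x)) ∧ ρ' t = ρ t'}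
  one_mem' := ⟨1, fun x => by rw [one_smul, one_smul], by rw [map_one, map_one]⟩
  mul_mem' := by
    rintro t₁ t₂ ⟨t₁', h1, h1'⟩ ⟨t₂', h2, h2'⟩
    refine ⟨t₁' * t₂', fun x => ?_, by rw [map_mul, map_mul, h1', h2']⟩
    rw [mul_smul, mul_smul, h2, h1]
  inv_mem' := by
    rintro t ⟨t', h1, h1'⟩
    refine ⟨t'⁻¹, fun x => ?_, by rw [map_inv, map_inv, h1']⟩
    have h2 := h1 (t⁻¹ • x)
    rw [smul_inv_smul] at h2
    rw [← h2, inv_smul_smul]

theorem mem_corrSub (hs : Function.Bijective s) (t : TG Q) :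
    t ∈ corrSub ρ ρ' s hs ↔ ∃ t' : TG Q, (∀ x : ι → F, t' • s x = s (t • x)) ∧ ρ' t = ρ t' :=
  Iff.rfl

/-- the main correspondence: two central quotient maps with corresponding unipotent radicals
differ by a semilinear similarity -/
theorem HData.exists_semi (p : ℕ) [Fact p.Prime] [CharP F p] {u f u' f' : ι → F}
    (d : HData ρ ρ' u f u' f') :
    ∃ (s : (ι → F) → (ι → F)) (τ : F ≃+* F) (κ : F), QSemi Q s τ κ ∧
      ∀ t : TG Q, ∃ t' : TG Q, (∀ x : ι → F, t' • s x = s (t • x)) ∧ ρ' t = ρ t' := by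
  have hn5 := five_le d.hn
  obtain ⟨Φ, hΦ⟩ := d.exists_Phi
  obtain ⟨Φ', hΦ'⟩ := d.swap.exists_Phi
  obtain ⟨τ, κ, hκ0, hτ, hκ⟩ := hΦ.exists_tau_kappa p hΦ'
  have hform := fun x hx => hΦ.form p hΦ' hκ0 hτ hκ (x := x) hx
  obtain ⟨s, hsdef⟩ : ∃ s, s = sMap Q u f u' f' Φ τ κ := ⟨_, rfl⟩
  have hs : QSemi Q s τ κ := by
    rw [hsdef]
    exact sMap_qsemi d.hu d.hf d.huf d.hu' d.hf' d.huf' hκ0
      (fun x y hx hy => hΦ.add p hx.1 hy.1) hτ (fun x hx => hΦ.mem_Wp hx.1) hform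
  have hsb := hs.bijective d.hQ
  have hsu : s u = u' := by rw [hsdef]; exact sMap_u d.hu d.huf (hΦ.zero p)
  have hsf : s f = κ • f' := by rw [hsdef]; exact sMap_f d.hf d.huf (hΦ.zero p)
  have hsW : ∀ x : ι → F, x ∈ Wp Q u f → s x = κ • Φ x := by
    intro x hx
    rw [hsdef]
    exact sMap_W hx
  refine ⟨s, τ, κ, hs, ?_⟩
  have hKu : QsT Q u ≤ corrSub ρ ρ' s hsb := by
    intro t ht
    obtain ⟨w, hw, rfl⟩ := (mem_QsT_iff d.hQ hn5 d.hu0 d.hu t).1 ht
    obtain ⟨w₀, hw₀⟩ : ∃ w₀, w₀ = w + (-β f w) • u := ⟨_, rfl⟩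
    have hw₀W : w₀ ∈ Wp Q u f := by
      rw [hw₀]
      constructor
      · rw [QuadraticMap.polar_add_right, QuadraticMap.polar_smul_right, polar_self_sing d.hu, hw]
        simp
      · rw [QuadraticMap.polar_add_right, QuadraticMap.polar_smul_right, d.hfu]
        simp
    have e : EsT d.hQ hn5 u w = EsT d.hQ hn5 u w₀ := by
      rw [hw₀, EsT_add_smul_self d.hQ hn5 d.hu0 d.hu hw]
    rw [e]
    obtain ⟨h1, h2, h3⟩ := hΦ w₀ hw₀W.1
    refine ⟨EsT d.hQ hn5 u' (Φ w₀), fun x => ?_, h3⟩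
    rw [coe_smul_T, coe_smul_T, EsT_coe d.hQ hn5 d.hu'0 d.hu' h1,
      EsT_coe d.hQ hn5 d.hu0 d.hu hw₀W.1, hs.map_Es d.hQ d.hu hw₀W.1, hsu, hsW w₀ hw₀W, smul_smul,
      inv_mul_cancel₀ hκ0, one_smul]
  have hKf : QsT Q f ≤ corrSub ρ ρ' s hsb := by
    intro t ht
    obtain ⟨w, hw, rfl⟩ := (mem_QsT_iff d.hQ hn5 d.hf0 d.hf t).1 ht
    obtain ⟨w₀, hw₀⟩ : ∃ w₀, w₀ = w + (-β u w) • f := ⟨_, rfl⟩
    have hw₀W : w₀ ∈ Wp Q u f := by
      rw [hw₀]
      constructor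
      · rw [QuadraticMap.polar_add_right, QuadraticMap.polar_smul_right, d.huf]
        simp
      · rw [QuadraticMap.polar_add_right, QuadraticMap.polar_smul_right, polar_self_sing d.hf, hw]
        simp
    have e : EsT d.hQ hn5 f w = EsT d.hQ hn5 f w₀ := by
      rw [hw₀, EsT_add_smul_self d.hQ hn5 d.hf0 d.hf hw]
    rw [e]
    obtain ⟨h1, h2, h3⟩ := hΦ' w₀ hw₀W.2
    refine ⟨EsT d.hQ hn5 f' (Φ' w₀), fun x => ?_, h3⟩
    have h4 : β f' (κ • Φ w₀) = 0 := by rw [← hκ w₀ hw₀W]; exact h1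
    rw [coe_smul_T, coe_smul_T, EsT_coe d.hQ hn5 d.hf'0 d.hf' h1,
      EsT_coe d.hQ hn5 d.hf0 d.hf hw₀W.2, hs.map_Es d.hQ d.hf hw₀W.2, hsf, hsW w₀ hw₀W, smul_smul,
      inv_mul_cancel₀ hκ0, one_smul, hκ w₀ hw₀W]
    have h5 : β f' (Φ w₀) = 0 := (hΦ.mem_Wp hw₀W.1).2
    rw [Es_smul_left d.hQ d.hf' h5 κ]
  have htop := eq_top_of_QsT_le d.hQ hn5 d.hu d.hf d.huf hKu hKf
  intro t
  have : t ∈ corrSub ρ ρ' s hsb := by rw [htop]; exact Subgroup.mem_top t
  exact this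

end Cfsg.Agent.Lib.Helper5.OAut
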