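import Mathlib
import Cfsg.Agent.Lib.Helper5.OAut21

set_option autoImplicit false

namespace Cfsg.Agent.Lib.Helper5.OAut

open Matrix Cfsg.Agent.Lib.Helper2 Cfsg.Agent.Lib.Helper2.ReflGen Cfsg.Agent.Lib.Helper2.CDG
open Cfsg.Agent.Lib.Helper2.Siegel Cfsg.Agent.Lib.Helper2.LongRoot

section
variable {F : Type*} [Field F] {ι : Type} [Fintype ι] [DecidableEq ι]
variable {Q : QuadraticForm F (ι → F)}
variable {s : (ι → F) → (ι → F)} {τ : F ≃+* F} {κ : F}

/-- the matrix of a semilinear map -/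
def qMat (s : (ι → F) → (ι → F)) : Matrix ι ι F :=
  Matrix.of fun i j => s (Pi.single j 1) i

theorem QSemi.apply_eq (hs : QSemi Q s τ κ) (x : ι → F) :
    s x = qMat s *ᵥ (fun j => τ (x j)) := by
  let sA : (ι → F) →+ (ι → F) := ⟨⟨s, hs.zero⟩, hs.add⟩
  have hx : x = ∑ j, x j • (Pi.single j 1 : ι → F) := by
    ext i
    simp [Finset.sum_apply, Pi.single_apply]
  have h1 : s x = ∑ j, τ (x j) • s (Pi.single j 1) := by
    conv_lhs => rw [hx]
    show sA _ = _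
    rw [map_sum]
    apply Finset.sum_congr rfl
    intro j _
    exact hs.smul _ _
  rw [h1]
  ext i
  simp [qMat, Matrix.mulVec, dotProduct, Finset.sum_apply, mul_comm]

theorem QSemi.isUnit_qMat (hs : QSemi Q s τ κ) (hb : Function.Bijective s) :
    IsUnit (qMat s) := by
  rw [← Matrix.mulVec_injective_iff_isUnit]
  intro y y' hyy
  have h1 : ∀ z : ι → F, z = fun j => τ ((fun i => τ.symm (z i)) j) := by
    intro z
    funext j
    rw [RingEquiv.apply_symm_apply]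
  rw [h1 y, h1 y'] at hyy
  have hyy' : qMat s *ᵥ (fun j => τ ((fun i => τ.symm (y i)) j))
      = qMat s *ᵥ (fun j => τ ((fun i => τ.symm (y' i)) j)) := hyy
  rw [← hs.apply_eq, ← hs.apply_eq] at hyy'
  have h2 := hb.1 hyy'
  funext j
  have h3 := congrFun h2 j
  exact τ.symm.injective h3

theorem map_mulVecI (σ : F ≃+* F) (M : Matrix ι ι F) (x : ι → F) :
    M.map σ *ᵥ (fun i => σ (x i)) = fun i => σ ((M *ᵥ x) i) := by
  funext i
  have := RingHom.map_mulVec (σ : F →+* F) M x i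
  exact this.symm

end

variable {F : Type*} [Field F] [Fintype F] {ι : Type} [Fintype ι] [DecidableEq ι]
variable {Q : QuadraticForm F (ι → F)}
variable {𝔊 : Type*} [Group 𝔊]

set_option quotPrecheck false in
local notation "β" => QuadraticMap.polar (⇑Q)

/-- two central quotient maps of `T` differ by a semilinear similarity -/
theorem aut_semi (p : ℕ) [Fact p.Prime] [CharP F p]
    (hQ : (QuadraticMap.polarBilin Q).Nondegenerate) (hn : 7 ≤ Fintype.card ι)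
    (hLag : ∀ T : Submodule F (ι → F), (∀ x ∈ T, Q x = 0) →
      (∀ y, (∀ x ∈ T, β x y = 0) → y ∈ T) → 5 ≤ Module.finrank F ↥T)
    {ρ ρ' : TG Q →* 𝔊} (hρ : CQ ρ) (hρ' : CQ ρ') :
    ∃ (g : GL ι F) (τ : F ≃+* F), Cfsg.IsSemisimilarityPair (⇑Q) g τ ∧
      ∀ t t' : TG Q,
        (((t' : OG Q) : GL ι F) : Matrix ι ι F) =
          (g : Matrix ι ι F) * ((((t : OG Q) : GL ι F) : Matrix ι ι F)).map τ *
            ((g⁻¹ : GL ι F) : Matrix ι ι F) → ρ' t = ρ t' := by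
  have pt : ∀ z : ι → F, z ≠ 0 → Q z = 0 →
      ∃ z' : ι → F, z' ≠ 0 ∧ Q z' = 0 ∧ Qb ρ' z = Qb ρ z' := by
    intro z hz0 hz
    exact exists_point_of_pprop p hQ hn hLag hρ (pprop_Qb p hQ hn hρ' hz0 hz)
  obtain ⟨u, hu0, hu, -⟩ := CentO.exists_singular_perp (Q := Q) (k := 0) ![] (by omega)
  obtain ⟨f, huf, hf⟩ := Cfsg.Agent.Lib.Helper5.exists_partner Q hQ hu0 hu
  obtain ⟨u', f', d⟩ := exists_hdata p hQ hn hρ hρ' pt hu hf huf
  obtain ⟨s, τ, κ, hs, hmain⟩ := d.exists_semi p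
  have hsb := hs.bijective hQ
  obtain ⟨g, hg⟩ : ∃ g : GL ι F, (g : Matrix ι ι F) = qMat s := ⟨(hs.isUnit_qMat hsb).unit, rfl⟩
  have hgs : ∀ x : ι → F, (g : Matrix ι ι F) *ᵥ (fun i => τ (x i)) = s x := by
    intro x
    rw [hg, ← hs.apply_eq]
  refine ⟨g, τ, ⟨Units.mk0 κ hs.hκ, fun v => ?_⟩, ?_⟩
  · rw [hgs, hs.form]
    rfl
  · intro t t' htt'
    obtain ⟨t'', h1, h2⟩ := hmain t
    rw [h2]
    congr 1
    apply Subtype.ext
    apply ext_smul
    intro y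
    obtain ⟨x, rfl⟩ := hsb.2 y
    have h3 : (t'' : OG Q) • s x = s ((t : OG Q) • x) := h1 x
    rw [h3, smul_def, smul_def, htt', ← hgs x, Matrix.mulVec_mulVec, Matrix.mul_assoc,
      Matrix.mul_assoc, ← Units.val_mul, inv_mul_cancel, Units.val_one, Matrix.mul_one,
      ← Matrix.mulVec_mulVec, map_mulVecI, hgs]

/-- a version for an arbitrary subgroup equal to `T` -/
theorem aut_semi_of_eq (p : ℕ) [Fact p.Prime] [CharP F p]
    (hQ : (QuadraticMap.polarBilin Q).Nondegenerate) (hn : 7 ≤ Fintype.card ι)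
    (hLag : ∀ T : Submodule F (ι → F), (∀ x ∈ T, Q x = 0) →
      (∀ y, (∀ x ∈ T, β x y = 0) → y ∈ T) → 5 ≤ Module.finrank F ↥T)
    (H : Subgroup (OG Q)) (hH : H = T Q) (α : MulAut (↥H ⧸ Subgroup.center ↥H)) :
    ∃ (g : GL ι F) (τ : F ≃+* F), Cfsg.IsSemisimilarityPair (⇑Q) g τ ∧
      ∀ t t' : ↥H,
        (((t' : OG Q) : GL ι F) : Matrix ι ι F) =
          (g : Matrix ι ι F) * ((((t : OG Q) : GL ι F) : Matrix ι ι F)).map τ *
            ((g⁻¹ : GL ι F) : Matrix ι ι F) →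
        α (QuotientGroup.mk t) = QuotientGroup.mk t' := by
  subst hH
  have hρ : CQ (QuotientGroup.mk' (Subgroup.center (TG Q))) := cq_mk'
  have hρ' : CQ (α.toMonoidHom.comp (QuotientGroup.mk' (Subgroup.center (TG Q)))) := by
    refine ⟨α.surjective.comp hρ.surj, fun x => ?_⟩
    rw [← hρ.ker x]
    show α (QuotientGroup.mk' (Subgroup.center (TG Q)) x) = 1 ↔ _
    exact map_eq_one_iff α α.injective
  obtain ⟨g, τ, h1, h2⟩ := aut_semi p hQ hn hLag hρ hρ'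
  exact ⟨g, τ, h1, fun t t' h => h2 t t' h⟩

/-- every automorphism of `PΩ(Q)` is induced by a semilinear similarity -/
theorem gammaPOmega_eq_top (p : ℕ) [Fact p.Prime] [CharP F p]
    (hQ : (QuadraticMap.polarBilin Q).Nondegenerate) (hn : 7 ≤ Fintype.card ι)
    (hLag : ∀ T : Submodule F (ι → F), (∀ x ∈ T, Q x = 0) →
      (∀ y, (∀ x ∈ T, β x y = 0) → y ∈ T) → 5 ≤ Module.finrank F ↥T) :
    Cfsg.gammaPOmega F (⇑Q) = ⊤ := by
  rw [eq_top_iff]
  intro α _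
  obtain ⟨g, τ, h1, h2⟩ := aut_semi_of_eq p hQ hn hLag (Cfsg.Omega F ⇑Q)
    (T_eq_Omega hQ hn).symm α
  exact Subgroup.subset_closure ⟨g, τ, h1, fun s s' h => h2 s s' h⟩

end Cfsg.Agent.Lib.Helper5.OAut
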