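import Mathlib
import Cfsg.Agent.Lib.Helper5.PGO1

set_option autoImplicit false

/-! The action of the similarity group on `PΩ(Q)`. -/

namespace Cfsg.Agent.Lib.Helper5.PGO

open Matrix

variable {F : Type*} [Field F] {ι : Type} [Fintype ι] [DecidableEq ι]
variable (Q : (ι → F) → F)

/-- the similarity group (as a subgroup of `GL`) -/
abbrev GO : Subgroup (GL ι F) := Cfsg.Geo.quadSimilarityGroup (F := F) Q

theorem mem_iso_iff (h : GL ι F) :
    h ∈ Cfsg.isometryGroup F Q ↔ ∀ v, Q ((h : Matrix ι ι F) *ᵥ v) = Q v := by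
  constructor
  · intro hh v
    exact hh v v
  · intro hh u _
    exact hh u

theorem iso_le_GO : Cfsg.isometryGroup F Q ≤ GO Q := by
  intro h hh
  refine ⟨1, fun v => ?_⟩
  rw [(mem_iso_iff Q h).1 hh v, Units.val_one, one_mul]

theorem conj_mem {g : GL ι F} (hg : g ∈ GO Q) {h : GL ι F} (hh : h ∈ Cfsg.isometryGroup F Q) :
    g * h * g⁻¹ ∈ Cfsg.isometryGroup F Q := by
  obtain ⟨c, hc⟩ := hg
  rw [mem_iso_iff] at hh ⊢
  intro v
  have h1 : ((g * h * g⁻¹ : GL ι F) : Matrix ι ι F) *ᵥ v =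
      (g : Matrix ι ι F) *ᵥ ((h : Matrix ι ι F) *ᵥ (((g⁻¹ : GL ι F) : Matrix ι ι F) *ᵥ v)) := by
    rw [Matrix.mulVec_mulVec, Matrix.mulVec_mulVec]
    rfl
  have h2 : (g : Matrix ι ι F) *ᵥ (((g⁻¹ : GL ι F) : Matrix ι ι F) *ᵥ v) = v := by
    rw [Matrix.mulVec_mulVec, ← Units.val_mul, mul_inv_cancel, Units.val_one, Matrix.one_mulVec]
  rw [h1, hc, hh, ← hc, h2]

/-- conjugation by a similarity as an automorphism of the isometry group -/
def conjO (g : ↥(GO Q)) : MulAut ↥(Cfsg.isometryGroup F Q) where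
  toFun h := ⟨(g : GL ι F) * h * (g : GL ι F)⁻¹, conj_mem Q g.2 h.2⟩
  invFun h := ⟨(g : GL ι F)⁻¹ * h * (g : GL ι F), by
    have := conj_mem Q (inv_mem g.2) h.2
    rwa [inv_inv] at this⟩
  left_inv h := by
    apply Subtype.ext
    show (g : GL ι F)⁻¹ * ((g : GL ι F) * h * (g : GL ι F)⁻¹) * (g : GL ι F) = h
    group
  right_inv h := by
    apply Subtype.ext
    show (g : GL ι F) * ((g : GL ι F)⁻¹ * h * (g : GL ι F)) * (g : GL ι F)⁻¹ = h
    group
  map_mul' h k := by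
    apply Subtype.ext
    show (g : GL ι F) * (h * k : GL ι F) * (g : GL ι F)⁻¹ =
      ((g : GL ι F) * h * (g : GL ι F)⁻¹) * ((g : GL ι F) * k * (g : GL ι F)⁻¹)
    group

@[simp] theorem conjO_coe (g : ↥(GO Q)) (h : ↥(Cfsg.isometryGroup F Q)) :
    ((conjO Q g h : ↥(Cfsg.isometryGroup F Q)) : GL ι F) =
      (g : GL ι F) * h * (g : GL ι F)⁻¹ := rfl

/-- conjugation as a homomorphism -/
def conjOHom : ↥(GO Q) →* MulAut ↥(Cfsg.isometryGroup F Q) where
  toFun := conjO Q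
  map_one' := by
    apply MulEquiv.ext
    intro h
    apply Subtype.ext
    show ((1 : ↥(GO Q)) : GL ι F) * h * ((1 : ↥(GO Q)) : GL ι F)⁻¹ = h
    simp
  map_mul' a b := by
    apply MulEquiv.ext
    intro h
    apply Subtype.ext
    show ((a * b : ↥(GO Q)) : GL ι F) * h * ((a * b : ↥(GO Q)) : GL ι F)⁻¹ =
      (a : GL ι F) * ((b : GL ι F) * h * (b : GL ι F)⁻¹) * (a : GL ι F)⁻¹
    rw [Subgroup.coe_mul]
    group

/-- the action of the similarity group on `PΩ(Q)` -/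
noncomputable def Phi : ↥(GO Q) →* MulAut (Cfsg.POmega F Q) :=
  (quotChar (Subgroup.center ↥(Cfsg.Omega F Q))).comp
    ((resChar (commutator ↥(Cfsg.isometryGroup F Q))).comp (conjOHom Q))

theorem Phi_mk (g : ↥(GO Q)) (s : ↥(Cfsg.Omega F Q)) :
    Phi Q g (QuotientGroup.mk s) =
      QuotientGroup.mk (resChar (commutator ↥(Cfsg.isometryGroup F Q)) (conjO Q g) s) := rfl

theorem Phi_mk_coe (g : ↥(GO Q)) (s : ↥(Cfsg.Omega F Q)) :
    (((resChar (commutator ↥(Cfsg.isometryGroup F Q)) (conjO Q g) s : ↥(Cfsg.Omega F Q)) :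
      ↥(Cfsg.isometryGroup F Q)) : GL ι F) =
      (g : GL ι F) * ((s : ↥(Cfsg.isometryGroup F Q)) : GL ι F) * (g : GL ι F)⁻¹ := rfl

end Cfsg.Agent.Lib.Helper5.PGO
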