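import Mathlib
import Cfsg.Agent.Lib.Helper5.PGO2

set_option autoImplicit false

/-! The images of the conformal, orthogonal, special orthogonal groups and of `Ω` in
`Aut(PΩ)` as images under `Phi`. -/

namespace Cfsg.Agent.Lib.Helper5.PGO

open Matrix

variable {F : Type*} [Field F] {ι : Type} [Fintype ι] [DecidableEq ι]
variable (Q : (ι → F) → F)

theorem map_refl (M : Matrix ι ι F) : M.map (RingEquiv.refl F) = M := by
  ext i j
  simp

theorem induced_iff (g : ↥(GO Q)) (β : Cfsg.POmega F Q ≃* Cfsg.POmega F Q) :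
    Cfsg.IsInducedBySemilinearPOmega Q (g : GL ι F) (RingEquiv.refl F) β ↔ β = Phi Q g := by
  constructor
  · intro h
    apply MulEquiv.ext
    intro x
    induction x using QuotientGroup.induction_on with
    | H s =>
      rw [Phi_mk]
      apply h s
      rw [map_refl, Phi_mk_coe]
      rfl
  · rintro rfl s s' hs'
    rw [Phi_mk]
    congr 1
    apply Subtype.ext
    apply Subtype.ext
    apply Units.ext
    rw [hs', map_refl, Phi_mk_coe]
    rfl

theorem pgoAut_eq : Cfsg.pgoAut F Q = (Phi Q).range := by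
  unfold Cfsg.pgoAut Cfsg.autSubgroupOf
  have : {β : MulAut (Cfsg.POmega F Q) | Cfsg.IsSimilarityInducedAutPOmega Q β} =
      ((Phi Q).range : Set (MulAut (Cfsg.POmega F Q))) := by
    ext β
    constructor
    · rintro ⟨g, hg, h⟩
      exact ⟨⟨g, hg⟩, ((induced_iff Q ⟨g, hg⟩ β).1 h).symm⟩
    · rintro ⟨g, rfl⟩
      exact ⟨g, g.2, (induced_iff Q g _).2 rfl⟩
  rw [this, Subgroup.closure_eq]

/-- the isometry group inside the similarity group -/
abbrev Osub : Subgroup ↥(GO Q) := (Cfsg.isometryGroup F Q).subgroupOf (GO Q)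

/-- the special isometry group inside the similarity group -/
abbrev SOsub : Subgroup ↥(GO Q) := (Cfsg.specialIsometryGL F Q).subgroupOf (GO Q)

/-- inclusion of the isometry group in the similarity group -/
def incl : ↥(Cfsg.isometryGroup F Q) →* ↥(GO Q) := Subgroup.inclusion (iso_le_GO Q)

@[simp] theorem incl_coe (h : ↥(Cfsg.isometryGroup F Q)) : ((incl Q h : ↥(GO Q)) : GL ι F) = h := rfl

/-- `Ω` inside the similarity group -/
abbrev Omsub : Subgroup ↥(GO Q) := (Cfsg.Omega F Q).map (incl Q)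

theorem poAut_eq : Cfsg.poAut F Q = (Osub Q).map (Phi Q) := by
  unfold Cfsg.poAut Cfsg.autSubgroupOf
  have : {β : MulAut (Cfsg.POmega F Q) | Cfsg.IsIsometryInducedAutPOmega Q β} =
      (((Osub Q).map (Phi Q) : Subgroup (MulAut (Cfsg.POmega F Q))) :
        Set (MulAut (Cfsg.POmega F Q))) := by
    ext β
    constructor
    · rintro ⟨g, hg, h⟩
      exact ⟨⟨g, iso_le_GO Q hg⟩, hg, ((induced_iff Q ⟨g, iso_le_GO Q hg⟩ β).1 h).symm⟩
    · rintro ⟨g, hg, rfl⟩
      exact ⟨g, hg, (induced_iff Q g _).2 rfl⟩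
  rw [this, Subgroup.closure_eq]

theorem special_le_iso : Cfsg.specialIsometryGL F Q ≤ Cfsg.isometryGroup F Q := inf_le_left

theorem psoAut_eq : Cfsg.psoAut F Q = (SOsub Q).map (Phi Q) := by
  unfold Cfsg.psoAut Cfsg.autSubgroupOf
  have : {β : MulAut (Cfsg.POmega F Q) | Cfsg.IsSpecialIsometryInducedAutPOmega Q β} =
      (((SOsub Q).map (Phi Q) : Subgroup (MulAut (Cfsg.POmega F Q))) :
        Set (MulAut (Cfsg.POmega F Q))) := by
    ext β
    constructor
    · rintro ⟨g, hg, h⟩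
      have hg' : g ∈ GO Q := iso_le_GO Q (special_le_iso Q hg)
      exact ⟨⟨g, hg'⟩, hg, ((induced_iff Q ⟨g, hg'⟩ β).1 h).symm⟩
    · rintro ⟨g, hg, rfl⟩
      exact ⟨g, hg, (induced_iff Q g _).2 rfl⟩
  rw [this, Subgroup.closure_eq]

theorem Phi_incl (s : ↥(Cfsg.Omega F Q)) :
    Phi Q (incl Q (s : ↥(Cfsg.isometryGroup F Q))) = MulAut.conj (QuotientGroup.mk s) := by
  apply MulEquiv.ext
  intro x
  induction x using QuotientGroup.induction_on with
  | H y =>
    rw [Phi_mk, MulAut.conj_apply, ← QuotientGroup.mk_mul, ← QuotientGroup.mk_inv,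
      ← QuotientGroup.mk_mul]
    congr 1

theorem inn_eq : Cfsg.Inn (Cfsg.POmega F Q) = (Omsub Q).map (Phi Q) := by
  ext β
  constructor
  · rintro ⟨x, rfl⟩
    induction x using QuotientGroup.induction_on with
    | H s =>
      exact ⟨incl Q s, ⟨s, s.2, rfl⟩, Phi_incl Q s⟩
  · rintro ⟨g, ⟨s, hs, rfl⟩, rfl⟩
    exact ⟨QuotientGroup.mk ⟨s, hs⟩, (Phi_incl Q ⟨s, hs⟩).symm⟩

end Cfsg.Agent.Lib.Helper5.PGO
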