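import Mathlib
import Cfsg.Agent.Lib.Helper5.PGO3

set_option autoImplicit false

/-! Semilinear similarities acting on `PΩ(Q)`. -/

namespace Cfsg.Agent.Lib.Helper5.OFld

open Matrix Cfsg.Agent.Lib.Helper5.PGO

variable {F : Type*} [Field F] {ι : Type} [Fintype ι] [DecidableEq ι]

/-- a field automorphism applied to the entries of an invertible matrix -/
noncomputable def mapGL (σ : F ≃+* F) : GL ι F ≃* GL ι F :=
  Units.mapEquiv (RingEquiv.mapMatrix σ).toMulEquiv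

@[simp] theorem mapGL_coe (σ : F ≃+* F) (g : GL ι F) :
    ((mapGL σ g : GL ι F) : Matrix ι ι F) = (g : Matrix ι ι F).map σ := rfl

theorem mapGL_mul (σ τ : F ≃+* F) (g : GL ι F) : mapGL (σ * τ) g = mapGL σ (mapGL τ g) := by
  apply Units.ext
  ext i j
  rfl

theorem mapGL_one (g : GL ι F) : mapGL (1 : F ≃+* F) g = g := by
  apply Units.ext
  ext i j
  rfl

theorem mapGL_inv_apply (σ : F ≃+* F) (g : GL ι F) : mapGL σ⁻¹ (mapGL σ g) = g := by
  rw [← mapGL_mul, inv_mul_cancel, mapGL_one]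

theorem mapGL_apply_inv (σ : F ≃+* F) (g : GL ι F) : mapGL σ (mapGL σ⁻¹ g) = g := by
  rw [← mapGL_mul, mul_inv_cancel, mapGL_one]

theorem map_mulVec (σ : F ≃+* F) (M : Matrix ι ι F) (x : ι → F) :
    M.map σ *ᵥ (fun i => σ (x i)) = fun i => σ ((M *ᵥ x) i) := by
  funext i
  have := RingHom.map_mulVec (σ : F →+* F) M x i
  exact this.symm

/-- the semilinear map attached to a pair -/
def semi (g : GL ι F) (σ : F ≃+* F) (v : ι → F) : ι → F := (g : Matrix ι ι F) *ᵥ (fun i => σ (v i))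

theorem semi_mul (g g' : GL ι F) (σ σ' : F ≃+* F) (v : ι → F) :
    semi (g * mapGL σ g') (σ * σ') v = semi g σ (semi g' σ' v) := by
  unfold semi
  rw [Units.val_mul, ← Matrix.mulVec_mulVec, mapGL_coe]
  congr 1
  rw [← map_mulVec]
  rfl

theorem semi_one (v : ι → F) : semi (1 : GL ι F) (1 : F ≃+* F) v = v := by
  unfold semi
  rw [Units.val_one, Matrix.one_mulVec]
  rfl

theorem semi_inv (g : GL ι F) (σ : F ≃+* F) (v : ι → F) :
    semi g σ (semi (mapGL σ⁻¹ g⁻¹) σ⁻¹ v) = v := by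
  rw [← semi_mul, mapGL_apply_inv, mul_inv_cancel, mul_inv_cancel, semi_one]

theorem semi_inv' (g : GL ι F) (σ : F ≃+* F) (v : ι → F) :
    semi (mapGL σ⁻¹ g⁻¹) σ⁻¹ (semi g σ v) = v := by
  rw [← semi_mul, ← map_mul, inv_mul_cancel, map_one, inv_mul_cancel, semi_one]

theorem semi_conj (g h : GL ι F) (σ : F ≃+* F) (v : ι → F) :
    ((g * mapGL σ h * g⁻¹ : GL ι F) : Matrix ι ι F) *ᵥ semi g σ v =
      semi g σ ((h : Matrix ι ι F) *ᵥ v) := by
  unfold semi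
  rw [Matrix.mulVec_mulVec, Units.val_mul, Units.val_mul, Matrix.mul_assoc, Matrix.mul_assoc,
    ← Units.val_mul, inv_mul_cancel, Units.val_one, Matrix.mul_one, ← Matrix.mulVec_mulVec,
    mapGL_coe, map_mulVec]

variable (Q : (ι → F) → F)

theorem pair_iff (g : GL ι F) (σ : F ≃+* F) :
    Cfsg.IsSemisimilarityPair Q g σ ↔ ∃ c : Fˣ, ∀ v, Q (semi g σ v) = (c : F) * σ (Q v) :=
  Iff.rfl

variable {Q}

theorem pair_one : Cfsg.IsSemisimilarityPair Q (1 : GL ι F) (1 : F ≃+* F) :=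
  ⟨1, fun v => by
    have := semi_one v
    unfold semi at this
    rw [this, Units.val_one, one_mul]
    rfl⟩

theorem pair_mul {g g' : GL ι F} {σ σ' : F ≃+* F} (h : Cfsg.IsSemisimilarityPair Q g σ)
    (h' : Cfsg.IsSemisimilarityPair Q g' σ') :
    Cfsg.IsSemisimilarityPair Q (g * mapGL σ g') (σ * σ') := by
  obtain ⟨c, hc⟩ := (pair_iff Q g σ).1 h
  obtain ⟨c', hc'⟩ := (pair_iff Q g' σ').1 h'
  refine (pair_iff Q _ _).2 ⟨c * Units.map (σ : F →* F) c', fun v => ?_⟩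
  rw [semi_mul, hc, hc', map_mul, Units.val_mul, mul_assoc]
  rfl

theorem pair_inv {g : GL ι F} {σ : F ≃+* F} (h : Cfsg.IsSemisimilarityPair Q g σ) :
    Cfsg.IsSemisimilarityPair Q (mapGL σ⁻¹ g⁻¹) σ⁻¹ := by
  obtain ⟨c, hc⟩ := (pair_iff Q g σ).1 h
  refine (pair_iff Q _ _).2 ⟨Units.map (σ⁻¹ : F ≃+* F) c⁻¹, fun v => ?_⟩
  have h1 := hc (semi (mapGL σ⁻¹ g⁻¹) σ⁻¹ v)
  rw [semi_inv] at h1
  have h2 : σ (Q (semi (mapGL σ⁻¹ g⁻¹) σ⁻¹ v)) = (c⁻¹ : Fˣ) * Q v := by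
    rw [h1, ← mul_assoc, ← Units.val_mul, inv_mul_cancel, Units.val_one, one_mul]
  have h3 := congrArg (σ⁻¹ : F ≃+* F) h2
  rw [map_mul] at h3
  have e : (σ⁻¹ : F ≃+* F) (σ (Q (semi (mapGL σ⁻¹ g⁻¹) σ⁻¹ v))) =
      Q (semi (mapGL σ⁻¹ g⁻¹) σ⁻¹ v) := σ.symm_apply_apply _
  rw [e] at h3
  rw [h3]
  rfl

theorem conjS_mem {g : GL ι F} {σ : F ≃+* F} (h : Cfsg.IsSemisimilarityPair Q g σ)
    {x : GL ι F} (hx : x ∈ Cfsg.isometryGroup F Q) :
    g * mapGL σ x * g⁻¹ ∈ Cfsg.isometryGroup F Q := by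
  obtain ⟨c, hc⟩ := (pair_iff Q g σ).1 h
  rw [mem_iso_iff] at hx ⊢
  intro v
  obtain ⟨w, rfl⟩ : ∃ w, v = semi g σ w := ⟨_, (semi_inv g σ v).symm⟩
  rw [semi_conj, hc, hx, ← hc]

/-- conjugation by a semilinear similarity, as an automorphism of the isometry group -/
noncomputable def conjS (g : GL ι F) (σ : F ≃+* F) (h : Cfsg.IsSemisimilarityPair Q g σ) :
    MulAut ↥(Cfsg.isometryGroup F Q) where
  toFun x := ⟨g * mapGL σ x * g⁻¹, conjS_mem h x.2⟩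
  invFun x := ⟨mapGL σ⁻¹ g⁻¹ * mapGL σ⁻¹ x * (mapGL σ⁻¹ g⁻¹)⁻¹, conjS_mem (pair_inv h) x.2⟩
  left_inv x := by
    apply Subtype.ext
    show mapGL σ⁻¹ g⁻¹ * mapGL σ⁻¹ (g * mapGL σ (x : GL ι F) * g⁻¹) * (mapGL σ⁻¹ g⁻¹)⁻¹ = (x : GL ι F)
    rw [map_mul, map_mul, mapGL_inv_apply, map_inv]
    group
  right_inv x := by
    apply Subtype.ext
    show g * mapGL σ (mapGL σ⁻¹ g⁻¹ * mapGL σ⁻¹ (x : GL ι F) * (mapGL σ⁻¹ g⁻¹)⁻¹) * g⁻¹ = (x : GL ι F)
    rw [map_mul, map_mul, mapGL_apply_inv σ g⁻¹, mapGL_apply_inv σ (x : GL ι F),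
      map_inv (mapGL σ) (mapGL σ⁻¹ g⁻¹), mapGL_apply_inv σ g⁻¹]
    group
  map_mul' x y := by
    apply Subtype.ext
    show g * mapGL σ ((x : GL ι F) * (y : GL ι F)) * g⁻¹ =
      (g * mapGL σ (x : GL ι F) * g⁻¹) * (g * mapGL σ (y : GL ι F) * g⁻¹)
    rw [map_mul]
    group

@[simp] theorem conjS_coe (g : GL ι F) (σ : F ≃+* F) (h : Cfsg.IsSemisimilarityPair Q g σ)
    (x : ↥(Cfsg.isometryGroup F Q)) :
    ((conjS g σ h x : ↥(Cfsg.isometryGroup F Q)) : GL ι F) = g * mapGL σ x * g⁻¹ := rfl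

theorem conjS_mul {g g' : GL ι F} {σ σ' : F ≃+* F} (h : Cfsg.IsSemisimilarityPair Q g σ)
    (h' : Cfsg.IsSemisimilarityPair Q g' σ') :
    conjS g σ h * conjS g' σ' h' = conjS (g * mapGL σ g') (σ * σ') (pair_mul h h') := by
  apply MulEquiv.ext
  intro x
  apply Subtype.ext
  show g * mapGL σ (g' * mapGL σ' (x : GL ι F) * g'⁻¹) * g⁻¹ =
    (g * mapGL σ g') * mapGL (σ * σ') (x : GL ι F) * (g * mapGL σ g')⁻¹
  rw [map_mul, map_mul, map_inv, mapGL_mul]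
  group

/-- the automorphism of `PΩ(Q)` induced by a semilinear similarity -/
noncomputable def PhiS (g : GL ι F) (σ : F ≃+* F) (h : Cfsg.IsSemisimilarityPair Q g σ) :
    MulAut (Cfsg.POmega F Q) :=
  quotChar (Subgroup.center ↥(Cfsg.Omega F Q))
    (resChar (commutator ↥(Cfsg.isometryGroup F Q)) (conjS g σ h))

theorem PhiS_mk (g : GL ι F) (σ : F ≃+* F) (h : Cfsg.IsSemisimilarityPair Q g σ)
    (s : ↥(Cfsg.Omega F Q)) :
    PhiS g σ h (QuotientGroup.mk s) =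
      QuotientGroup.mk (resChar (commutator ↥(Cfsg.isometryGroup F Q)) (conjS g σ h) s) := rfl

theorem PhiS_mk_coe (g : GL ι F) (σ : F ≃+* F) (h : Cfsg.IsSemisimilarityPair Q g σ)
    (s : ↥(Cfsg.Omega F Q)) :
    (((resChar (commutator ↥(Cfsg.isometryGroup F Q)) (conjS g σ h) s : ↥(Cfsg.Omega F Q)) :
      ↥(Cfsg.isometryGroup F Q)) : GL ι F) =
      g * mapGL σ ((s : ↥(Cfsg.isometryGroup F Q)) : GL ι F) * g⁻¹ := rfl

theorem PhiS_mul {g g' : GL ι F} {σ σ' : F ≃+* F} (h : Cfsg.IsSemisimilarityPair Q g σ)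
    (h' : Cfsg.IsSemisimilarityPair Q g' σ') :
    PhiS g σ h * PhiS g' σ' h' = PhiS (g * mapGL σ g') (σ * σ') (pair_mul h h') := by
  unfold PhiS
  rw [← map_mul, ← map_mul, conjS_mul]

/-- an automorphism is induced by a pair iff it is the standard one -/
theorem induced_iff (g : GL ι F) (σ : F ≃+* F) (h : Cfsg.IsSemisimilarityPair Q g σ)
    (β : Cfsg.POmega F Q ≃* Cfsg.POmega F Q) :
    Cfsg.IsInducedBySemilinearPOmega Q g σ β ↔ β = PhiS g σ h := by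
  constructor
  · intro hβ
    apply MulEquiv.ext
    intro x
    obtain ⟨s, rfl⟩ := QuotientGroup.mk_surjective x
    rw [PhiS_mk]
    apply hβ
    rw [PhiS_mk_coe, Units.val_mul, Units.val_mul, mapGL_coe]
  · rintro rfl s s' hs
    rw [PhiS_mk]
    congr 1
    apply Subtype.ext
    apply Subtype.ext
    apply Units.ext
    rw [PhiS_mk_coe, Units.val_mul, Units.val_mul, mapGL_coe]
    exact hs.symm

/-- the linear case -/
theorem PhiS_one_eq (g : ↥(GO Q)) (h : Cfsg.IsSemisimilarityPair Q (g : GL ι F) (1 : F ≃+* F)) :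
    PhiS (g : GL ι F) 1 h = Phi Q g := by
  apply MulEquiv.ext
  intro x
  obtain ⟨s, rfl⟩ := QuotientGroup.mk_surjective x
  rw [PhiS_mk, Phi_mk]
  have e : resChar (commutator ↥(Cfsg.isometryGroup F Q)) (conjS (g : GL ι F) 1 h) s =
      resChar (commutator ↥(Cfsg.isometryGroup F Q)) (conjO Q g) s := by
    apply Subtype.ext
    apply Subtype.ext
    rw [PhiS_mk_coe, Phi_mk_coe, mapGL_one]
  rw [e]

theorem pair_of_GO (g : ↥(GO Q)) : Cfsg.IsSemisimilarityPair Q (g : GL ι F) (1 : F ≃+* F) := by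
  obtain ⟨c, hc⟩ := g.2
  exact ⟨c, fun v => hc v⟩

theorem GO_of_pair {g : GL ι F} (h : Cfsg.IsSemisimilarityPair Q g (1 : F ≃+* F)) : g ∈ GO Q := by
  obtain ⟨c, hc⟩ := h
  exact ⟨c, fun v => hc v⟩

end Cfsg.Agent.Lib.Helper5.OFld
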