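import Mathlib
import Cfsg.Agent.Lib.Helper5.OFld1
import Cfsg.Agent.Lib.Helper5.OAut22

set_option autoImplicit false

/-! An automorphism induced by a semilinear similarity determines the field automorphism. -/

namespace Cfsg.Agent.Lib.Helper5.OFld

open Matrix Cfsg.Agent.Lib.Helper5.PGO Cfsg.Agent.Lib.Helper5.OAut
open Cfsg.Agent.Lib.Helper2 Cfsg.Agent.Lib.Helper2.LongRoot

variable {F : Type*} [Field F] [Fintype F] {ι : Type} [Fintype ι] [DecidableEq ι]
variable {Q : QuadraticForm F (ι → F)}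

set_option quotPrecheck false in
local notation "β" => QuadraticMap.polar (⇑Q)

theorem semi_add (g : GL ι F) (σ : F ≃+* F) (x y : ι → F) :
    semi g σ (x + y) = semi g σ x + semi g σ y := by
  unfold semi
  rw [← Matrix.mulVec_add]
  congr 1
  funext i
  exact map_add σ _ _

theorem semi_smul (g : GL ι F) (σ : F ≃+* F) (c : F) (x : ι → F) :
    semi g σ (c • x) = σ c • semi g σ x := by
  unfold semi
  rw [← Matrix.mulVec_smul]
  congr 1
  funext i
  exact map_mul σ _ _

/-- the semilinear map of a semi-similarity pair is a semilinear similarity -/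
theorem qsemi_of_pair {g : GL ι F} {σ : F ≃+* F} (h : Cfsg.IsSemisimilarityPair (⇑Q) g σ) :
    ∃ κ : F, QSemi Q (semi g σ) σ κ := by
  obtain ⟨c, hc⟩ := h
  exact ⟨c, semi_add g σ, semi_smul g σ, fun x => hc x, c.ne_zero⟩

theorem pair_of_qsemi {g : GL ι F} {σ : F ≃+* F} {κ : F} (h : QSemi Q (semi g σ) σ κ) :
    Cfsg.IsSemisimilarityPair (⇑Q) g σ :=
  ⟨Units.mk0 κ h.hκ, fun v => h.form v⟩

theorem finite_omega : Finite ↥(Cfsg.Omega F (⇑Q)) := by
  haveI : Finite (Matrix ι ι F) := inferInstance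
  haveI : Finite (GL ι F) := Finite.of_injective (fun g : GL ι F => (g : Matrix ι ι F))
    (fun a b hab => Units.ext hab)
  infer_instance

/-- if the induced automorphism is trivial, the semilinear conjugation fixes each Siegel
transformation -/
theorem conj_Es_eq_of_PhiS (p : ℕ) [Fact p.Prime] [CharP F p]
    (hQ : (QuadraticMap.polarBilin Q).Nondegenerate) (hn : 7 ≤ Fintype.card ι)
    {g : GL ι F} {σ : F ≃+* F} (h : Cfsg.IsSemisimilarityPair (⇑Q) g σ)
    (h1 : PhiS g σ h = 1) {u w : ι → F} (hu0 : u ≠ 0) (hu : Q u = 0) (huw : β u w = 0) :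
    conjS g σ h (Es hQ u w) = Es hQ u w := by
  haveI := finite_omega (Q := Q)
  have hcop : (Nat.card (Subgroup.center ↥(Cfsg.Omega F (⇑Q)))).Coprime p := by
    have key : ∀ K : Subgroup (OG Q), K = T Q →
        (Nat.card (Subgroup.center ↥K)).Coprime p := by
      intro K hK
      subst hK
      exact coprime_card_center hQ hn p
    exact key _ (T_eq_Omega hQ hn).symm
  have hmem : Es hQ u w ∈ Cfsg.Omega F (⇑Q) := by
    rw [← T_eq_Omega hQ hn]
    exact Es_mem_T_all hQ (five_le hn) hu0 hu huw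
  obtain ⟨s, hs⟩ : ∃ s : ↥(Cfsg.Omega F (⇑Q)), s = ⟨Es hQ u w, hmem⟩ := ⟨_, rfl⟩
  have hρ : CQ (QuotientGroup.mk' (Subgroup.center ↥(Cfsg.Omega F (⇑Q)))) := cq_mk'
  have hsp : s ^ p = 1 := by
    apply Subtype.ext
    rw [Subgroup.coe_pow, hs]
    exact Qs_pow_char hQ p hu0 hu (Es_mem_Qs hQ hu huw)
  have hsp' : (resChar (commutator ↥(Cfsg.isometryGroup F ⇑Q)) (conjS g σ h) s) ^ p = 1 := by
    rw [← map_pow, hsp, map_one]
  have h2 : QuotientGroup.mk' (Subgroup.center ↥(Cfsg.Omega F (⇑Q)))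
      (resChar (commutator ↥(Cfsg.isometryGroup F ⇑Q)) (conjS g σ h) s) =
      QuotientGroup.mk' (Subgroup.center ↥(Cfsg.Omega F (⇑Q))) s := by
    have := congrArg (fun α : MulAut (Cfsg.POmega F (⇑Q)) => α (QuotientGroup.mk s)) h1
    exact this
  have h3 := eq_of_pow p hcop hρ hsp' hsp h2
  have h4 := congrArg (fun t : ↥(Cfsg.Omega F (⇑Q)) => (t : ↥(Cfsg.isometryGroup F ⇑Q))) h3
  rw [hs] at h4
  exact h4

/-- if the induced automorphism is trivial, the semilinear map fixes every singular point -/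
theorem semi_sing_of_PhiS (p : ℕ) [Fact p.Prime] [CharP F p]
    (hQ : (QuadraticMap.polarBilin Q).Nondegenerate) (hn : 7 ≤ Fintype.card ι)
    {g : GL ι F} {σ : F ≃+* F} (h : Cfsg.IsSemisimilarityPair (⇑Q) g σ)
    (h1 : PhiS g σ h = 1) {u : ι → F} (hu0 : u ≠ 0) (hu : Q u = 0) :
    ∃ c : F, semi g σ u = c • u := by
  obtain ⟨κ, hs⟩ := qsemi_of_pair h
  apply fix_Qs hQ (five_le hn) hu0 hu
  intro w huw
  have h2 := conj_Es_eq_of_PhiS p hQ hn h h1 hu0 hu huw
  have h3 := semi_conj g ((Es hQ u w : OG Q) : GL ι F) σ u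
  have h4 : ((conjS g σ h (Es hQ u w) : OG Q) : GL ι F) =
      g * mapGL σ ((Es hQ u w : OG Q) : GL ι F) * g⁻¹ := rfl
  rw [← h4, h2, ← smul_def, ← smul_def, Es_smul_self hQ hu huw] at h3
  exact h3

/-- the field automorphism of a pair inducing the trivial automorphism is trivial -/
theorem sigma_eq_one_of_PhiS (p : ℕ) [Fact p.Prime] [CharP F p]
    (hQ : (QuadraticMap.polarBilin Q).Nondegenerate) (hn : 7 ≤ Fintype.card ι)
    {g : GL ι F} {σ : F ≃+* F} (h : Cfsg.IsSemisimilarityPair (⇑Q) g σ)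
    (h1 : PhiS g σ h = 1) : σ = 1 := by
  obtain ⟨κ, hs⟩ := qsemi_of_pair h
  have hinj := hs.injective hQ
  obtain ⟨u, hu0, hu, -⟩ := CentO.exists_singular_perp (Q := Q) (k := 0) ![] (by omega)
  obtain ⟨w, w', hw, hw', hww', hwu, hw'u⟩ := exists_hyp_perp1 hQ (five_le hn) u hu0 hu
  have hw0 : w ≠ 0 := ne_zero_of_polar_eq_one hww'
  have huw : β u w = 0 := by rw [QuadraticMap.polar_comm (⇑Q), hwu]
  have hind : ∀ c : F, w ≠ c • u := by
    intro c hc
    rw [hc, QuadraticMap.polar_smul_left, QuadraticMap.polar_comm (⇑Q), hw'u, smul_zero] at hww'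
    exact zero_ne_one hww'
  -- the eigenvalue on `u` and on `c • w` agree
  have key : ∀ c : F, c ≠ 0 → ∀ a b : F, semi g σ u = a • u → semi g σ (c • w) = b • (c • w) →
      a = b := by
    intro c hc a b ha hb
    have hcw0 : c • w ≠ 0 := smul_ne_zero hc hw0
    have hQs : Q (u + c • w) = 0 := by
      rw [QuadraticMap.map_add Q u _, hu, QuadraticMap.map_smul, hw,
        QuadraticMap.polar_smul_right, huw]
      simp
    have hs0 : u + c • w ≠ 0 := by
      intro h0
      apply hind (-c⁻¹)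
      have : c • w = -u := eq_neg_of_add_eq_zero_right h0
      calc w = c⁻¹ • (c • w) := by rw [smul_smul, inv_mul_cancel₀ hc, one_smul]
        _ = -c⁻¹ • u := by rw [this]; module
    obtain ⟨e, he⟩ := semi_sing_of_PhiS p hQ hn h h1 hs0 hQs
    rw [semi_add, ha, hb, smul_add] at he
    have hind' : ∀ d : F, c • w ≠ d • u := by
      intro d hd
      apply hind (c⁻¹ * d)
      calc w = c⁻¹ • (c • w) := by rw [smul_smul, inv_mul_cancel₀ hc, one_smul]
        _ = (c⁻¹ * d) • u := by rw [hd, smul_smul]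
    obtain ⟨h5, h6⟩ := eq_of_smul_add_smul hu0 hind' he
    rw [h5, h6]
  obtain ⟨a, ha⟩ := semi_sing_of_PhiS p hQ hn h h1 hu0 hu
  have ha0 : a ≠ 0 := by
    intro h0
    rw [h0, zero_smul] at ha
    have : semi g σ u = semi g σ 0 := by rw [ha, hs.zero]
    exact hu0 (hinj this)
  apply RingEquiv.ext
  intro c
  show σ c = c
  by_cases hc : c = 0
  · rw [hc, map_zero]
  · obtain ⟨b, hb⟩ := semi_sing_of_PhiS p hQ hn h h1 hw0 hw
    have hb' : semi g σ ((1 : F) • w) = b • ((1 : F) • w) := by rw [one_smul]; exact hb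
    have hab := key 1 one_ne_zero a b ha hb'
    have hQcw : Q (c • w) = 0 := by rw [QuadraticMap.map_smul, hw, smul_zero]
    obtain ⟨b', hb'⟩ := semi_sing_of_PhiS p hQ hn h h1 (smul_ne_zero hc hw0) hQcw
    have hab' := key c hc a b' ha hb'
    rw [semi_smul, hb, ← hab, ← hab', smul_smul, smul_smul] at hb'
    have h7 : σ c * a = a * c := smul_left_injective F hw0 hb'
    have h8 : σ c * a = c * a := by rw [h7, mul_comm]
    exact mul_right_cancel₀ ha0 h8

end Cfsg.Agent.Lib.Helper5.OFld
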