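import Mathlib
import Cfsg.Agent.Lib.Helper5.OFld2

set_option autoImplicit false

/-! The homomorphism from `Aut(PΩ(Q))` to the automorphism group of the field. -/

namespace Cfsg.Agent.Lib.Helper5.OFld

open Matrix Cfsg.Agent.Lib.Helper5.PGO Cfsg.Agent.Lib.Helper5.OAut
open Cfsg.Agent.Lib.Helper2 Cfsg.Agent.Lib.Helper2.LongRoot

section
variable {F : Type*} [Field F] {ι : Type} [Fintype ι] [DecidableEq ι] {Q : (ι → F) → F}

theorem PhiS_congr {g g' : GL ι F} {σ σ' : F ≃+* F} (hg : g = g') (hσ : σ = σ')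
    (h : Cfsg.IsSemisimilarityPair Q g σ) (h' : Cfsg.IsSemisimilarityPair Q g' σ') :
    PhiS g σ h = PhiS g' σ' h' := by
  subst hg
  subst hσ
  rfl

theorem PhiS_one (h : Cfsg.IsSemisimilarityPair Q (1 : GL ι F) (1 : F ≃+* F)) :
    PhiS (1 : GL ι F) (1 : F ≃+* F) h = 1 := by
  apply MulEquiv.ext
  intro x
  obtain ⟨s, rfl⟩ := QuotientGroup.mk_surjective x
  rw [PhiS_mk]
  show _ = QuotientGroup.mk s
  congr 1
  apply Subtype.ext
  apply Subtype.ext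
  rw [PhiS_mk_coe, mapGL_one]
  group

theorem PhiS_inv {g : GL ι F} {σ : F ≃+* F} (h : Cfsg.IsSemisimilarityPair Q g σ) :
    (PhiS g σ h)⁻¹ = PhiS (mapGL σ⁻¹ g⁻¹) σ⁻¹ (pair_inv h) := by
  rw [inv_eq_iff_mul_eq_one, PhiS_mul]
  rw [PhiS_congr (g' := 1) (σ' := 1) (by rw [mapGL_apply_inv, mul_inv_cancel]) (mul_inv_cancel σ)
    _ pair_one]
  exact PhiS_one _

end

variable {F : Type*} [Field F] [Fintype F] {ι : Type} [Fintype ι] [DecidableEq ι]
variable {Q : QuadraticForm F (ι → F)}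

set_option quotPrecheck false in
local notation "β" => QuadraticMap.polar (⇑Q)

/-- every automorphism of `PΩ(Q)` is the standard automorphism of a semi-similarity pair -/
theorem exists_pair (p : ℕ) [Fact p.Prime] [CharP F p]
    (hQ : (QuadraticMap.polarBilin Q).Nondegenerate) (hn : 7 ≤ Fintype.card ι)
    (hLag : ∀ T : Submodule F (ι → F), (∀ x ∈ T, Q x = 0) →
      (∀ y, (∀ x ∈ T, β x y = 0) → y ∈ T) → 5 ≤ Module.finrank F ↥T)
    (α : MulAut (Cfsg.POmega F (⇑Q))) :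
    ∃ (σ : F ≃+* F) (g : GL ι F) (h : Cfsg.IsSemisimilarityPair (⇑Q) g σ), α = PhiS g σ h := by
  obtain ⟨g, τ, h1, h2⟩ := aut_semi_of_eq p hQ hn hLag (Cfsg.Omega F ⇑Q)
    (T_eq_Omega hQ hn).symm α
  exact ⟨τ, g, h1, (induced_iff g τ h1 α).1 (fun s s' h => h2 s s' h)⟩

theorem sigma_unique (p : ℕ) [Fact p.Prime] [CharP F p]
    (hQ : (QuadraticMap.polarBilin Q).Nondegenerate) (hn : 7 ≤ Fintype.card ι)
    {g g' : GL ι F} {σ σ' : F ≃+* F} (h : Cfsg.IsSemisimilarityPair (⇑Q) g σ)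
    (h' : Cfsg.IsSemisimilarityPair (⇑Q) g' σ') (he : PhiS g σ h = PhiS g' σ' h') : σ = σ' := by
  have h1 : PhiS g σ h * (PhiS g' σ' h')⁻¹ = 1 := by rw [he, mul_inv_cancel]
  rw [PhiS_inv, PhiS_mul] at h1
  have h2 := sigma_eq_one_of_PhiS p hQ hn _ h1
  exact mul_inv_eq_one.1 h2

/-- the field automorphism of an automorphism of `PΩ(Q)` -/
noncomputable def Theta (p : ℕ) [Fact p.Prime] [CharP F p]
    (hQ : (QuadraticMap.polarBilin Q).Nondegenerate) (hn : 7 ≤ Fintype.card ι)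
    (hLag : ∀ T : Submodule F (ι → F), (∀ x ∈ T, Q x = 0) →
      (∀ y, (∀ x ∈ T, β x y = 0) → y ∈ T) → 5 ≤ Module.finrank F ↥T) :
    MulAut (Cfsg.POmega F (⇑Q)) →* (F ≃+* F) where
  toFun α := Classical.choose (exists_pair p hQ hn hLag α)
  map_one' := by
    obtain ⟨g, h, he⟩ := Classical.choose_spec (exists_pair p hQ hn hLag
      (1 : MulAut (Cfsg.POmega F (⇑Q))))
    exact (sigma_unique p hQ hn pair_one h ((PhiS_one pair_one).trans he)).symm
  map_mul' a b := by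
    obtain ⟨g, h, he⟩ := Classical.choose_spec (exists_pair p hQ hn hLag (a * b))
    obtain ⟨ga, ha, hea⟩ := Classical.choose_spec (exists_pair p hQ hn hLag a)
    obtain ⟨gb, hb, heb⟩ := Classical.choose_spec (exists_pair p hQ hn hLag b)
    have h1 : PhiS g _ h = PhiS _ _ (pair_mul ha hb) := by
      rw [← PhiS_mul ha hb]
      exact he.symm.trans (congrArg₂ (· * ·) hea heb)
    exact sigma_unique p hQ hn h _ h1

theorem Theta_PhiS (p : ℕ) [Fact p.Prime] [CharP F p]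
    (hQ : (QuadraticMap.polarBilin Q).Nondegenerate) (hn : 7 ≤ Fintype.card ι)
    (hLag : ∀ T : Submodule F (ι → F), (∀ x ∈ T, Q x = 0) →
      (∀ y, (∀ x ∈ T, β x y = 0) → y ∈ T) → 5 ≤ Module.finrank F ↥T)
    {g : GL ι F} {σ : F ≃+* F} (h : Cfsg.IsSemisimilarityPair (⇑Q) g σ) :
    Theta p hQ hn hLag (PhiS g σ h) = σ := by
  obtain ⟨g', h', he⟩ := Classical.choose_spec (exists_pair p hQ hn hLag (PhiS g σ h))
  exact (sigma_unique p hQ hn h h' he).symm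

theorem Theta_ker (p : ℕ) [Fact p.Prime] [CharP F p]
    (hQ : (QuadraticMap.polarBilin Q).Nondegenerate) (hn : 7 ≤ Fintype.card ι)
    (hLag : ∀ T : Submodule F (ι → F), (∀ x ∈ T, Q x = 0) →
      (∀ y, (∀ x ∈ T, β x y = 0) → y ∈ T) → 5 ≤ Module.finrank F ↥T) :
    (Theta p hQ hn hLag).ker = Cfsg.pgoAut F (⇑Q) := by
  rw [pgoAut_eq]
  ext α
  rw [MonoidHom.mem_ker]
  constructor
  · intro hα
    obtain ⟨σ, g, h, rfl⟩ := exists_pair p hQ hn hLag α
    rw [Theta_PhiS] at hα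
    subst hα
    exact ⟨⟨g, GO_of_pair h⟩, (PhiS_one_eq ⟨g, GO_of_pair h⟩ h).symm⟩
  · rintro ⟨g, rfl⟩
    rw [← PhiS_one_eq g (pair_of_GO g), Theta_PhiS]

theorem mem_Theta_range (p : ℕ) [Fact p.Prime] [CharP F p]
    (hQ : (QuadraticMap.polarBilin Q).Nondegenerate) (hn : 7 ≤ Fintype.card ι)
    (hLag : ∀ T : Submodule F (ι → F), (∀ x ∈ T, Q x = 0) →
      (∀ y, (∀ x ∈ T, β x y = 0) → y ∈ T) → 5 ≤ Module.finrank F ↥T) (σ : F ≃+* F) :
    σ ∈ (Theta p hQ hn hLag).range ↔ ∃ g : GL ι F, Cfsg.IsSemisimilarityPair (⇑Q) g σ := by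
  constructor
  · rintro ⟨α, rfl⟩
    obtain ⟨σ, g, h, rfl⟩ := exists_pair p hQ hn hLag α
    rw [Theta_PhiS]
    exact ⟨g, h⟩
  · rintro ⟨g, h⟩
    exact ⟨PhiS g σ h, Theta_PhiS p hQ hn hLag h⟩

/-- the order of `Aut(PΩ(Q))` when every field automorphism lifts -/
theorem card_aut (p : ℕ) [Fact p.Prime] [CharP F p]
    (hQ : (QuadraticMap.polarBilin Q).Nondegenerate) (hn : 7 ≤ Fintype.card ι)
    (hLag : ∀ T : Submodule F (ι → F), (∀ x ∈ T, Q x = 0) →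
      (∀ y, (∀ x ∈ T, β x y = 0) → y ∈ T) → 5 ≤ Module.finrank F ↥T)
    (hlift : ∀ σ : F ≃+* F, ∃ g : GL ι F, Cfsg.IsSemisimilarityPair (⇑Q) g σ) :
    Nat.card (MulAut (Cfsg.POmega F (⇑Q))) =
      Nat.card ↥(Cfsg.pgoAut F (⇑Q)) * Nat.card (F ≃+* F) := by
  have hsurj : Function.Surjective (Theta p hQ hn hLag) := by
    intro σ
    exact (mem_Theta_range p hQ hn hLag σ).2 (hlift σ)
  rw [← Theta_ker p hQ hn hLag,
    Subgroup.card_eq_card_quotient_mul_card_subgroup (Theta p hQ hn hLag).ker, mul_comm]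
  congr 1
  exact Nat.card_congr (QuotientGroup.quotientKerEquivOfSurjective _ hsurj).toEquiv

end Cfsg.Agent.Lib.Helper5.OFld
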