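import Mathlib
import Cfsg.Agent.Lib.Helper5.OFld3

set_option autoImplicit false

/-! Standard field automorphisms of `PΩ(Q)` for a form with coefficients in the prime field, and
a splitting lemma for outer automorphism groups. -/

namespace Cfsg.Agent.Lib.Helper5.OFld

open Matrix Cfsg.Agent.Lib.Helper5.PGO

section Std
variable {F : Type*} [Field F] {ι : Type} [Fintype ι] [DecidableEq ι] {Q : (ι → F) → F}

/-- the form commutes with all field automorphisms -/
def GalInv (Q : (ι → F) → F) : Prop := ∀ (σ : F ≃+* F) (v : ι → F), Q (fun i => σ (v i)) = σ (Q v)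

theorem pair_std (hQ : GalInv Q) (σ : F ≃+* F) : Cfsg.IsSemisimilarityPair Q (1 : GL ι F) σ :=
  ⟨1, fun v => by rw [Units.val_one, Matrix.one_mulVec, hQ σ v, Units.val_one, one_mul]⟩

/-- the standard field automorphisms -/
noncomputable def stdField (hQ : GalInv Q) : (F ≃+* F) →* MulAut (Cfsg.POmega F Q) where
  toFun σ := PhiS 1 σ (pair_std hQ σ)
  map_one' := PhiS_one _
  map_mul' σ τ := by
    rw [PhiS_mul]
    exact PhiS_congr (by rw [map_one, mul_one]) rfl _ _

theorem stdField_apply (hQ : GalInv Q) (σ : F ≃+* F) :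
    stdField hQ σ = PhiS 1 σ (pair_std hQ σ) := rfl

/-- an automorphism is the field automorphism attached to `σ` iff it is the standard one -/
theorem isFieldAut_iff (hQ : GalInv Q) (σ : F ≃+* F)
    (β : Cfsg.POmega F Q ≃* Cfsg.POmega F Q) :
    Cfsg.IsFieldAutPOmegaOf Q σ β ↔ β = stdField hQ σ := by
  rw [stdField_apply, ← induced_iff]
  constructor
  · intro h s s' hs
    apply h
    rw [hs, Units.val_one, Matrix.one_mul, inv_one, Units.val_one, Matrix.mul_one]
  · intro h s s' hs
    apply h
    rw [hs, Units.val_one, Matrix.one_mul, inv_one, Units.val_one, Matrix.mul_one]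

end Std

section Split
variable {A C : Type*} [Group A] [Group C]

/-- a group of order two of multiplicative type -/
def signHom2 {G : Type*} [Group G] (δ : G) (hδ : δ * δ = 1) : Multiplicative (ZMod 2) →* G where
  toFun i := if Multiplicative.toAdd i = 0 then 1 else δ
  map_one' := by simp
  map_mul' a b := by
    have key : ∀ x y : ZMod 2, (if x + y = 0 then (1 : G) else δ) =
        (if x = 0 then 1 else δ) * (if y = 0 then 1 else δ) := by
      intro x y
      have h01 : ∀ z : ZMod 2, z = 0 ∨ z = 1 := by decide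
      have h10 : (1 : ZMod 2) ≠ 0 := by decide
      have h11 : (1 : ZMod 2) + 1 = 0 := by decide
      rcases h01 x with rfl | rfl <;> rcases h01 y with rfl | rfl
      · rw [add_zero, if_pos rfl, one_mul]
      · rw [zero_add, if_pos rfl, one_mul]
      · rw [add_zero, if_pos rfl, mul_one]
      · rw [h11, if_pos rfl, if_neg h10, hδ]
    exact key _ _

theorem signHom2_apply {G : Type*} [Group G] (δ : G) (hδ : δ * δ = 1)
    (i : Multiplicative (ZMod 2)) :
    signHom2 δ hδ i = if Multiplicative.toAdd i = 0 then 1 else δ := rfl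

/-- an extension of `C` by a central subgroup of order two which splits is a direct product -/
theorem exists_out_equiv (I P : Subgroup A) [I.Normal] (hIP : I ≤ P) (θ : A →* C)
    (hker : θ.ker = P) (ψ : C →* A) (hθψ : ∀ c, θ (ψ c) = c) (hidx : I.relIndex P = 2) :
    Nonempty (A ⧸ I ≃* Multiplicative (ZMod 2) × C) := by
  haveI : P.Normal := by rw [← hker]; infer_instance
  -- an element of `P` outside `I`
  obtain ⟨a, ha⟩ := Subgroup.index_eq_two_iff.1 hidx
  have ha1 : a ∉ I.subgroupOf P := by
    have := ha 1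
    rw [one_mul] at this
    rcases this with ⟨h1, h2⟩ | ⟨h1, h2⟩
    · exact absurd (Subgroup.one_mem _) h2
    · exact h2
  obtain ⟨δ, hδ⟩ : ∃ δ : A, δ = ((a⁻¹ : P) : A) := ⟨_, rfl⟩
  have hδP : δ ∈ P := by rw [hδ]; exact (a⁻¹).2
  have hδI : δ ∉ I := by
    intro h
    apply ha1
    have : (a⁻¹ : P) ∈ I.subgroupOf P := by
      rw [Subgroup.mem_subgroupOf, ← hδ]
      exact h
    have := Subgroup.inv_mem _ this
    rwa [inv_inv] at this
  have hcase : ∀ x ∈ P, x ∈ I ∨ x * δ⁻¹ ∈ I := by
    intro x hx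
    have := ha ⟨x, hx⟩
    rcases this with ⟨h1, -⟩ | ⟨h1, -⟩
    · right
      rw [Subgroup.mem_subgroupOf] at h1
      rw [hδ]
      simpa using h1
    · left
      exact h1
  have hδθ : θ δ = 1 := by
    have : δ ∈ θ.ker := by rw [hker]; exact hδP
    exact this
  -- the class of `δ`
  obtain ⟨d, hd⟩ : ∃ d : A ⧸ I, d = QuotientGroup.mk δ := ⟨_, rfl⟩
  have hd1 : d ≠ 1 := by
    rw [hd]
    intro h
    exact hδI ((QuotientGroup.eq_one_iff δ).1 h)
  -- in the quotient, the image of `P` is `{1, d}`
  have hcaseq : ∀ x ∈ P, (QuotientGroup.mk x : A ⧸ I) = 1 ∨ (QuotientGroup.mk x : A ⧸ I) = d := by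
    intro x hx
    rcases hcase x hx with h | h
    · left
      exact (QuotientGroup.eq_one_iff x).2 h
    · right
      have := (QuotientGroup.eq_one_iff (N := I) _).2 h
      rw [QuotientGroup.mk_mul, QuotientGroup.mk_inv, ← hd, mul_inv_eq_one] at this
      exact this
  have hdd : d * d = 1 := by
    rcases hcaseq (δ * δ) (P.mul_mem hδP hδP) with h | h
    · rw [QuotientGroup.mk_mul, ← hd] at h
      exact h
    · rw [QuotientGroup.mk_mul, ← hd] at h
      exact absurd (mul_eq_left.1 h) hd1
  have hcent : ∀ x : A ⧸ I, x * d = d * x := by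
    intro x
    obtain ⟨g, rfl⟩ := QuotientGroup.mk_surjective x
    have h1 : g * δ * g⁻¹ ∈ P := Subgroup.Normal.conj_mem inferInstance δ hδP g
    rcases hcaseq _ h1 with h | h
    · exfalso
      rw [QuotientGroup.mk_mul, QuotientGroup.mk_mul, QuotientGroup.mk_inv, ← hd,
        mul_inv_eq_one] at h
      exact hd1 (mul_eq_left.1 h)
    · rw [QuotientGroup.mk_mul, QuotientGroup.mk_mul, QuotientGroup.mk_inv, ← hd,
        mul_inv_eq_iff_eq_mul] at h
      exact h
  -- the two homomorphisms
  let Ψ : Multiplicative (ZMod 2) × C →* A ⧸ I :=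
    MonoidHom.noncommCoprod (signHom2 d hdd) ((QuotientGroup.mk' I).comp ψ) (by
      intro i c
      rw [signHom2_apply]
      split_ifs
      · exact Commute.one_left _
      · exact (hcent _).symm)
  have hΨ : ∀ i c, Ψ (i, c) = signHom2 d hdd i * QuotientGroup.mk (ψ c) := fun i c => rfl
  have hIker : I ≤ θ.ker := by rw [hker]; exact hIP
  let θ' : A ⧸ I →* C := QuotientGroup.lift I θ hIker
  have hθ'd : θ' d = 1 := by
    rw [hd]
    exact hδθ
  have hθ's : ∀ i, θ' (signHom2 d hdd i) = 1 := by
    intro i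
    rw [signHom2_apply]
    split_ifs
    · exact map_one _
    · exact hθ'd
  refine ⟨(MulEquiv.ofBijective Ψ ⟨?_, ?_⟩).symm⟩
  · rw [injective_iff_map_eq_one]
    rintro ⟨i, c⟩ h
    rw [hΨ] at h
    have h1 := congrArg θ' h
    rw [map_mul, hθ's, one_mul, map_one] at h1
    have h2 : θ' (QuotientGroup.mk (ψ c)) = c := hθψ c
    rw [h2] at h1
    subst h1
    rw [map_one, QuotientGroup.mk_one, mul_one, signHom2_apply] at h
    split_ifs at h with h3
    · have : i = 1 := by
        rw [← ofAdd_toAdd i, h3]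
        rfl
      rw [this]
      rfl
    · exact absurd h hd1
  · intro x
    obtain ⟨g, rfl⟩ := QuotientGroup.mk_surjective x
    have h1 : g * (ψ (θ g))⁻¹ ∈ P := by
      rw [← hker, MonoidHom.mem_ker, map_mul, map_inv, hθψ, mul_inv_cancel]
    rcases hcaseq _ h1 with h | h
    · refine ⟨(1, θ g), ?_⟩
      rw [hΨ, map_one, one_mul]
      rw [QuotientGroup.mk_mul, QuotientGroup.mk_inv, mul_inv_eq_one] at h
      exact h.symm
    · refine ⟨(Multiplicative.ofAdd 1, θ g), ?_⟩
      rw [hΨ, signHom2_apply, if_neg (by decide)]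
      rw [QuotientGroup.mk_mul, QuotientGroup.mk_inv, mul_inv_eq_iff_eq_mul] at h
      exact h.symm

end Split

end Cfsg.Agent.Lib.Helper5.OFld
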