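import Mathlib
import Cfsg.Agent.Lib.Helper5.OFld5

set_option autoImplicit false

/-! Abstract extension lemmas used for the outer automorphism groups of the minus type
orthogonal groups. -/

namespace Cfsg.Agent.Lib.Helper5.OFld

open DihedralGroup

section D8

/-- the candidate image of an element under an endomorphism determined by the images of the
generators -/
def fab (a b : DihedralGroup 4) : DihedralGroup 4 → DihedralGroup 4
  | r i => a ^ i.val
  | sr i => b * a ^ i.val

set_option maxRecDepth 100000 in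
theorem fab_four : ∀ a b : DihedralGroup 4, a ^ 2 ≠ 1 → b * a ≠ a * b →
    ∀ x, fab a b (fab a b (fab a b (fab a b x))) = x := by
  decide

/-- every automorphism of the dihedral group of order eight has order dividing four -/
theorem aut_d8_pow_four (α : MulAut (DihedralGroup 4)) : α ^ 4 = 1 := by
  obtain ⟨a, ha⟩ : ∃ a, a = α (r 1) := ⟨_, rfl⟩
  obtain ⟨b, hb⟩ : ∃ b, b = α (sr 0) := ⟨_, rfl⟩
  have h1 : a ^ 2 ≠ 1 := by
    rw [ha, ← map_pow]
    intro h
    have h2 : (r (1 : ZMod 4)) ^ 2 = 1 := by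
      apply α.injective
      rw [h, map_one]
    revert h2
    decide
  have h2 : b * a ≠ a * b := by
    rw [ha, hb, ← map_mul, ← map_mul]
    intro h
    have h3 := α.injective h
    revert h3
    decide
  have h3 : ∀ x, α x = fab a b x := by
    intro x
    cases x with
    | r i =>
      show α (r i) = a ^ i.val
      rw [ha, ← map_pow, r_one_pow, ZMod.natCast_zmod_val]
    | sr i =>
      show α (sr i) = b * a ^ i.val
      rw [ha, hb, ← map_pow, ← map_mul, r_one_pow, ZMod.natCast_zmod_val, sr_mul_r, zero_add]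
  apply MulEquiv.ext
  intro x
  show α (α (α (α x))) = x
  rw [h3 x, h3, h3, h3]
  exact fab_four a b h1 h2 x

/-- the same for any group isomorphic to it -/
theorem aut_pow_four_of_equiv {N : Type*} [Group N] (e : N ≃* DihedralGroup 4) (α : MulAut N) :
    α ^ 4 = 1 := by
  have h := aut_d8_pow_four (MulAut.congr e α)
  rw [← map_pow] at h
  exact (MulEquiv.map_eq_one_iff _).1 h

end D8

section ZHom
variable {G : Type*} [Group G]

/-- the homomorphism from a cyclic group of order `n` given by an element of order dividing `n` -/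
def zmodHom (n : ℕ) [NeZero n] (x : G) (hx : x ^ n = 1) : Multiplicative (ZMod n) →* G where
  toFun j := x ^ (Multiplicative.toAdd j).val
  map_one' := by
    show x ^ (0 : ZMod n).val = 1
    rw [ZMod.val_zero, pow_zero]
  map_mul' a b := by
    show x ^ (Multiplicative.toAdd a + Multiplicative.toAdd b).val =
      x ^ (Multiplicative.toAdd a).val * x ^ (Multiplicative.toAdd b).val
    rw [ZMod.val_add, ← pow_add, ← pow_eq_pow_mod _ hx]

theorem zmodHom_apply (n : ℕ) [NeZero n] (x : G) (hx : x ^ n = 1) (j : Multiplicative (ZMod n)) :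
    zmodHom n x hx j = x ^ (Multiplicative.toAdd j).val := rfl

end ZHom

section Ext
variable {G C : Type*} [Group G] [Group C]

theorem card_of_ext (θ : G →* C) (hθ : Function.Surjective θ) :
    Nat.card θ.ker * Nat.card C = Nat.card G := by
  have h1 := Subgroup.card_mul_index θ.ker
  rw [Subgroup.index_ker, MonoidHom.range_eq_top.2 hθ,
    Nat.card_congr (Subgroup.topEquiv (G := C)).toEquiv] at h1
  exact h1

/-- a group with a normal subgroup of order two and cyclic quotient of order `f` which has an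
element of order `2 f` modulo ... is cyclic -/
theorem cyclic_of_ext {f : ℕ} (hf : 1 ≤ f) (θ : G →* C) (hθ : Function.Surjective θ)
    (hker : Nat.card θ.ker = 2) (hC : Nat.card C = f) (x : G) (hx : orderOf (θ x) = f)
    (hxf : x ^ f ≠ 1) : IsCyclic G ∧ Nat.card G = 2 * f := by
  have hcard : Nat.card G = 2 * f := by
    rw [← card_of_ext θ hθ, hker, hC]
  haveI : Finite G := Nat.finite_of_card_ne_zero (by rw [hcard]; omega)
  refine ⟨?_, hcard⟩
  have h1 : x ^ f ∈ θ.ker := by
    rw [MonoidHom.mem_ker, map_pow, ← hx, pow_orderOf_eq_one]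
  have h2 : x ^ (2 * f) = 1 := by
    have := pow_card_eq_one' (G := θ.ker) (x := ⟨x ^ f, h1⟩)
    rw [hker] at this
    have h3 := congrArg Subtype.val this
    rw [Subgroup.coe_pow, Subgroup.coe_one] at h3
    rw [mul_comm, pow_mul]
    exact h3
  have h3 : orderOf x ∣ 2 * f := orderOf_dvd_of_pow_eq_one h2
  have h4 : f ∣ orderOf x := by
    rw [← hx]
    exact orderOf_map_dvd θ x
  obtain ⟨t, ht⟩ := h4
  have ht2 : t ∣ 2 := by
    rw [ht, mul_comm 2 f] at h3
    exact Nat.dvd_of_mul_dvd_mul_left (by omega) h3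
  have ht1 : t ≠ 1 := by
    rintro rfl
    rw [mul_one] at ht
    apply hxf
    rw [← ht]
    exact pow_orderOf_eq_one x
  have ht' : t = 2 := by
    rcases (Nat.dvd_prime Nat.prime_two).1 ht2 with h | h
    · exact absurd h ht1
    · exact h
  apply isCyclic_of_orderOf_eq_card x
  rw [ht, ht', hcard, mul_comm]

/-- if the kernel is central and the quotient is cyclic, the group is commutative -/
theorem comm_of_ext {f : ℕ} (hf : 1 ≤ f) (θ : G →* C) (hC : Nat.card C = f)
    (hcent : ∀ k ∈ θ.ker, ∀ g : G, g * k = k * g) (x : G) (hx : orderOf (θ x) = f) :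
    ∀ g g' : G, g * g' = g' * g := by
  haveI : Finite C := Nat.finite_of_card_ne_zero (by rw [hC]; omega)
  have hgen : ∀ c : C, c ∈ Subgroup.zpowers (θ x) :=
    fun c => by
      have h := Subgroup.eq_top_of_card_eq (Subgroup.zpowers (θ x))
        (by rw [Nat.card_zpowers, hx, hC])
      rw [h]
      exact Subgroup.mem_top c
  have hdec : ∀ g : G, ∃ (j : ℤ) (k : G), k ∈ θ.ker ∧ g = x ^ j * k := by
    intro g
    obtain ⟨j, hj⟩ := Subgroup.mem_zpowers_iff.1 (hgen (θ g))
    refine ⟨j, (x ^ j)⁻¹ * g, ?_, by group⟩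
    rw [MonoidHom.mem_ker, map_mul, map_inv, map_zpow, hj, inv_mul_cancel]
  intro g g'
  obtain ⟨j, k, hk, rfl⟩ := hdec g
  obtain ⟨j', k', hk', rfl⟩ := hdec g'
  have e1 : k * (x ^ j' * k') = (x ^ j' * k') * k := (hcent k hk _).symm
  have e2 : k' * (x ^ j * k) = (x ^ j * k) * k' := (hcent k' hk' _).symm
  have e3 : x ^ j * x ^ j' = x ^ j' * x ^ j := by rw [← zpow_add, ← zpow_add, add_comm]
  calc x ^ j * k * (x ^ j' * k') = x ^ j * (k * (x ^ j' * k')) := by group
    _ = x ^ j * ((x ^ j' * k') * k) := by rw [e1]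
    _ = (x ^ j * x ^ j') * (k' * k) := by group
    _ = (x ^ j' * x ^ j) * (k * k') := by rw [e3, hcent k hk k']
    _ = x ^ j' * ((x ^ j * k) * k') := by group
    _ = x ^ j' * (k' * (x ^ j * k)) := by rw [e2]
    _ = x ^ j' * k' * (x ^ j * k) := by group

/-- extension of a cyclic group of order `f` by a central Klein four group with an element of
order `2 f` -/
theorem klein_ext {f : ℕ} (hf : 1 ≤ f) (θ : G →* C) (hθ : Function.Surjective θ)
    (hker : Nat.card θ.ker = 4) (hexp : ∀ k ∈ θ.ker, k * k = 1)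
    (hcent : ∀ k ∈ θ.ker, ∀ g : G, g * k = k * g)
    (hC : Nat.card C = f) (x : G) (hx : orderOf (θ x) = f) (hxf : x ^ f ≠ 1) :
    Nonempty (G ≃* Multiplicative (ZMod 2 × ZMod (2 * f))) := by
  have hcard : Nat.card G = 4 * f := by
    rw [← card_of_ext θ hθ, hker, hC]
  haveI : Finite G := Nat.finite_of_card_ne_zero (by rw [hcard]; omega)
  haveI : NeZero (2 * f) := ⟨by omega⟩
  have hcomm := comm_of_ext hf θ hC hcent x hx
  have h1 : x ^ f ∈ θ.ker := by
    rw [MonoidHom.mem_ker, map_pow, ← hx, pow_orderOf_eq_one]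
  have h2 : x ^ (2 * f) = 1 := by
    rw [mul_comm, pow_mul, pow_two]
    exact hexp _ h1
  -- an element of the kernel outside `{1, x ^ f}`
  obtain ⟨κ, hκ, hκ1, hκx⟩ : ∃ κ ∈ θ.ker, κ ≠ 1 ∧ κ ≠ x ^ f := by
    by_contra hcon
    push Not at hcon
    have hsub : (θ.ker : Set G) ⊆ {1, x ^ f} := by
      intro k hk
      by_cases h : k = 1
      · exact Or.inl h
      · exact Or.inr (hcon k hk h)
    have := Set.ncard_le_ncard hsub (Set.toFinite _)
    have h3 : (θ.ker : Set G).ncard = 4 := by
      rw [← hker]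
      exact (Nat.card_coe_set_eq _).symm
    have h4 : ({1, x ^ f} : Set G).ncard ≤ 2 := Set.ncard_insert_le _ _ |>.trans (by simp)
    omega
  have hκκ : κ * κ = 1 := hexp κ hκ
  let Ψ : Multiplicative (ZMod 2) × Multiplicative (ZMod (2 * f)) →* G :=
    MonoidHom.noncommCoprod (signHom2 κ hκκ) (zmodHom (2 * f) x h2) (fun _ _ => hcomm _ _)
  have hΨ : ∀ i j, Ψ (i, j) = signHom2 κ hκκ i * zmodHom (2 * f) x h2 j := fun i j => rfl
  have hinj : Function.Injective Ψ := by
    rw [injective_iff_map_eq_one]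
    rintro ⟨i, j⟩ h
    rw [hΨ, zmodHom_apply, signHom2_apply] at h
    obtain ⟨b, hb⟩ : ∃ b : ℕ, b = (Multiplicative.toAdd j).val := ⟨_, rfl⟩
    rw [← hb] at h
    have hblt : b < 2 * f := by rw [hb]; exact ZMod.val_lt _
    -- apply `θ`
    have h3 : θ x ^ b = 1 := by
      have h4 := congrArg θ h
      rw [map_mul, map_pow, map_one] at h4
      split_ifs at h4 with h5
      · rwa [map_one, one_mul] at h4
      · rwa [MonoidHom.mem_ker.1 hκ, one_mul] at h4
    have h4 : f ∣ b := by
      rw [← hx]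
      exact orderOf_dvd_of_pow_eq_one h3
    obtain ⟨t, ht⟩ := h4
    have ht2 : t = 0 ∨ t = 1 := by
      have : f * t < f * 2 := by rw [← ht, mul_comm f 2]; exact hblt
      have := Nat.lt_of_mul_lt_mul_left this
      omega
    have hb0 : b = 0 := by
      rcases ht2 with rfl | rfl
      · rw [ht, mul_zero]
      · exfalso
        rw [mul_one] at ht
        rw [ht] at h
        split_ifs at h with h5
        · rw [one_mul] at h
          exact hxf h
        · apply hκx
          have : κ = (x ^ f)⁻¹ := eq_inv_of_mul_eq_one_left h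
          rw [this]
          have h6 : x ^ f * x ^ f = 1 := hexp _ h1
          exact inv_eq_of_mul_eq_one_left h6
    rw [hb0, pow_zero, mul_one] at h
    have hi : i = 1 := by
      split_ifs at h with h5
      · rw [← ofAdd_toAdd i, h5]
        rfl
      · exact absurd h hκ1
    have hj : j = 1 := by
      rw [← ofAdd_toAdd j]
      have : Multiplicative.toAdd j = 0 := by
        rw [← ZMod.val_eq_zero, ← hb, hb0]
      rw [this]
      rfl
    rw [hi, hj]
    rfl
  have hbij : Function.Bijective Ψ := by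
    haveI : Finite (Multiplicative (ZMod 2) × Multiplicative (ZMod (2 * f))) := inferInstance
    rw [Nat.bijective_iff_injective_and_card]
    refine ⟨hinj, ?_⟩
    rw [hcard, Nat.card_prod]
    have e1 : Nat.card (Multiplicative (ZMod 2)) = 2 := by
      rw [Nat.card_eq_fintype_card]
      rfl
    have e2 : Nat.card (Multiplicative (ZMod (2 * f))) = 2 * f := by
      rw [Nat.card_eq_fintype_card, Fintype.card_multiplicative]
      exact ZMod.card (2 * f)
    rw [e1, e2]
    ring
  exact ⟨(MulEquiv.ofBijective Ψ hbij).symm.trans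
    (MulEquiv.prodMultiplicative (G := ZMod 2) (H := ZMod (2 * f))).symm⟩

/-- extension of a cyclic group of odd order `f` by a dihedral group of order eight -/
theorem dihedral_ext {f : ℕ} (hf : 1 ≤ f) (hodd : Odd f) (θ : G →* C)
    (hθ : Function.Surjective θ) (e : ↥θ.ker ≃* DihedralGroup 4) (hC : Nat.card C = f)
    (x₀ : G) (hx₀ : orderOf (θ x₀) = f) :
    Nonempty (G ≃* DihedralGroup 4 × Multiplicative (ZMod f)) := by
  have hker : Nat.card θ.ker = 8 := by
    rw [Nat.card_congr e.toEquiv, DihedralGroup.nat_card]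
  have hcard : Nat.card G = 8 * f := by
    rw [← card_of_ext θ hθ, hker, hC]
  haveI : Finite G := Nat.finite_of_card_ne_zero (by rw [hcard]; omega)
  haveI : NeZero f := ⟨by omega⟩
  have hcop : Nat.Coprime f 8 := by
    have : (8 : ℕ) = 2 ^ 3 := by norm_num
    rw [this]
    exact Nat.Coprime.pow_right 3 (Nat.coprime_two_right.2 hodd)
  obtain ⟨h, hh⟩ : ∃ h : G, h = x₀ ^ 8 := ⟨_, rfl⟩
  have hθh : orderOf (θ h) = f := by
    rw [hh, map_pow, orderOf_pow' _ (by norm_num : (8 : ℕ) ≠ 0), hx₀, Nat.Coprime.gcd_eq_one hcop,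
      Nat.div_one]
  have hhf : h ^ f = 1 := by
    have h1 : x₀ ^ f ∈ θ.ker := by
      rw [MonoidHom.mem_ker, map_pow, ← hx₀, pow_orderOf_eq_one]
    have := pow_card_eq_one' (G := θ.ker) (x := ⟨x₀ ^ f, h1⟩)
    rw [hker] at this
    have h3 := congrArg Subtype.val this
    rw [Subgroup.coe_pow, Subgroup.coe_one] at h3
    rw [hh, ← pow_mul, mul_comm, pow_mul]
    exact h3
  -- conjugation by `h` is trivial on the kernel
  have hα : MulAut.conjNormal (H := θ.ker) h = 1 := by
    have h4 := aut_pow_four_of_equiv e (MulAut.conjNormal (H := θ.ker) h)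
    have hf' : (MulAut.conjNormal (H := θ.ker) h) ^ f = 1 := by
      rw [← map_pow, hhf, map_one]
    have h5 := orderOf_dvd_of_pow_eq_one h4
    have h6 := orderOf_dvd_of_pow_eq_one hf'
    have h7 : orderOf (MulAut.conjNormal (H := θ.ker) h) ∣ Nat.gcd 4 f := Nat.dvd_gcd h5 h6
    have h8 : Nat.gcd 4 f = 1 := by
      have : (4 : ℕ) = 2 ^ 2 := by norm_num
      rw [this]
      exact Nat.Coprime.pow_left 2 (Nat.coprime_two_left.2 hodd)
    rw [h8, Nat.dvd_one, orderOf_eq_one_iff] at h7
    exact h7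
  have hcomm : ∀ n : ↥θ.ker, h * (n : G) = (n : G) * h := by
    intro n
    have := DFunLike.congr_fun hα n
    have h9 := congrArg Subtype.val this
    rw [MulAut.conjNormal_apply, MulAut.one_apply] at h9
    calc h * (n : G) = (h * n * h⁻¹) * h := by group
      _ = n * h := by rw [h9]
  let Ψ : DihedralGroup 4 × Multiplicative (ZMod f) →* G :=
    MonoidHom.noncommCoprod ((θ.ker.subtype).comp e.symm.toMonoidHom) (zmodHom f h hhf)
      (fun d j => by
        rw [zmodHom_apply]
        exact Commute.pow_right (hcomm (e.symm d)).symm _)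
  have hΨ : ∀ d j, Ψ (d, j) = ((e.symm d : ↥θ.ker) : G) * zmodHom f h hhf j := fun d j => rfl
  have hinj : Function.Injective Ψ := by
    rw [injective_iff_map_eq_one]
    rintro ⟨d, j⟩ hdj
    rw [hΨ, zmodHom_apply] at hdj
    obtain ⟨b, hb⟩ : ∃ b : ℕ, b = (Multiplicative.toAdd j).val := ⟨_, rfl⟩
    rw [← hb] at hdj
    have hblt : b < f := by rw [hb]; exact ZMod.val_lt _
    have h3 : θ h ^ b = 1 := by
      have h4 := congrArg θ hdj
      rw [map_mul, map_pow, map_one, MonoidHom.mem_ker.1 (e.symm d).2, one_mul] at h4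
      exact h4
    have h4 : f ∣ b := by
      rw [← hθh]
      exact orderOf_dvd_of_pow_eq_one h3
    have hb0 : b = 0 := Nat.eq_zero_of_dvd_of_lt h4 hblt
    rw [hb0, pow_zero, mul_one] at hdj
    have hd : d = 1 := by
      have : e.symm d = 1 := Subtype.ext hdj
      exact (MulEquiv.map_eq_one_iff _).1 this
    have hj : j = 1 := by
      rw [← ofAdd_toAdd j]
      have : Multiplicative.toAdd j = 0 := by
        rw [← ZMod.val_eq_zero, ← hb, hb0]
      rw [this]
      rfl
    rw [hd, hj]
    rfl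
  have hbij : Function.Bijective Ψ := by
    haveI : Finite (DihedralGroup 4 × Multiplicative (ZMod f)) := inferInstance
    rw [Nat.bijective_iff_injective_and_card]
    refine ⟨hinj, ?_⟩
    rw [hcard, Nat.card_prod, DihedralGroup.nat_card]
    have e2 : Nat.card (Multiplicative (ZMod f)) = f := by
      rw [Nat.card_eq_fintype_card, Fintype.card_multiplicative]
      exact ZMod.card f
    rw [e2]
  exact ⟨(MulEquiv.ofBijective Ψ hbij).symm⟩

end Ext

section Quot
variable {A C : Type*} [Group A] [Group C]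

/-- the kernel of the induced map on the quotient, as a quotient of `P` -/
theorem ker_lift_equiv (I P : Subgroup A) [I.Normal] (hIP : I ≤ P) (θ : A →* C)
    (hker : θ.ker = P) {D : Type*} [Group D] (φ : ↥P →* D) (hφ : Function.Surjective φ)
    (hφk : φ.ker = I.subgroupOf P) :
    Nonempty (↥(QuotientGroup.lift I θ (by rw [hker]; exact hIP)).ker ≃* D) := by
  have hI : I ≤ θ.ker := by rw [hker]; exact hIP
  let π : ↥P →* ↥(QuotientGroup.lift I θ hI).ker :=
    { toFun := fun a => ⟨QuotientGroup.mk (a : A), by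
        rw [MonoidHom.mem_ker, QuotientGroup.lift_mk]
        have : (a : A) ∈ θ.ker := by rw [hker]; exact a.2
        exact this⟩
      map_one' := rfl
      map_mul' := fun a b => rfl }
  have hπ : Function.Surjective π := by
    rintro ⟨y, hy⟩
    obtain ⟨a, rfl⟩ := QuotientGroup.mk_surjective y
    rw [MonoidHom.mem_ker, QuotientGroup.lift_mk] at hy
    have ha : a ∈ P := by rw [← hker]; exact hy
    exact ⟨⟨a, ha⟩, rfl⟩
  have hπk : π.ker = I.subgroupOf P := by
    ext a
    rw [MonoidHom.mem_ker, Subgroup.mem_subgroupOf]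
    constructor
    · intro h
      have h1 := congrArg Subtype.val h
      exact (QuotientGroup.eq_one_iff (a : A)).1 h1
    · intro h
      apply Subtype.ext
      exact (QuotientGroup.eq_one_iff (a : A)).2 h
  exact ⟨(QuotientGroup.quotientKerEquivOfSurjective π hπ).symm.trans
    ((QuotientGroup.quotientMulEquivOfEq (hπk.trans hφk.symm)).trans
      (QuotientGroup.quotientKerEquivOfSurjective φ hφ))⟩

theorem lift_surjective (I : Subgroup A) [I.Normal] (θ : A →* C) (hI : I ≤ θ.ker)
    (hθ : Function.Surjective θ) : Function.Surjective (QuotientGroup.lift I θ hI) := by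
  intro c
  obtain ⟨a, rfl⟩ := hθ c
  exact ⟨QuotientGroup.mk a, rfl⟩

/-- the cyclic case -/
theorem out_cyclic {f : ℕ} (hf : 1 ≤ f) (I P : Subgroup A) [I.Normal] (hIP : I ≤ P)
    (θ : A →* C) (hker : θ.ker = P) (hθ : Function.Surjective θ) (hC : Nat.card C = f)
    (hidx : I.relIndex P = 2) (x : A) (hx : orderOf (θ x) = f) (hxf : x ^ f ∉ I) :
    IsCyclic (A ⧸ I) ∧ Nat.card (A ⧸ I) = 2 * f := by
  have hI : I ≤ θ.ker := by rw [hker]; exact hIP
  obtain ⟨e⟩ := ker_lift_equiv I P hIP θ hker (QuotientGroup.mk' (I.subgroupOf P))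
    (QuotientGroup.mk'_surjective _) (QuotientGroup.ker_mk' _)
  have hk : Nat.card ↥(QuotientGroup.lift I θ hI).ker = 2 := by
    rw [Nat.card_congr e.toEquiv]
    exact hidx
  exact cyclic_of_ext hf (QuotientGroup.lift I θ hI) (lift_surjective I θ hI hθ) hk hC
    (QuotientGroup.mk x) hx (by
      rw [← QuotientGroup.mk_pow]
      intro h
      exact hxf ((QuotientGroup.eq_one_iff _).1 h))

/-- the Klein four case -/
theorem out_klein {f : ℕ} (hf : 1 ≤ f) (I P : Subgroup A) [I.Normal] (hIP : I ≤ P)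
    (θ : A →* C) (hker : θ.ker = P) (hθ : Function.Surjective θ) (hC : Nat.card C = f)
    (φ : ↥P →* Multiplicative (ZMod 2 × ZMod 2)) (hφ : Function.Surjective φ)
    (hφk : φ.ker = I.subgroupOf P)
    (hcentral : ∀ a : A, ∀ y ∈ P, a * y * a⁻¹ * y⁻¹ ∈ I)
    (x : A) (hx : orderOf (θ x) = f) (hxf : x ^ f ∉ I) :
    Nonempty (A ⧸ I ≃* Multiplicative (ZMod 2 × ZMod (2 * f))) := by
  have hI : I ≤ θ.ker := by rw [hker]; exact hIP
  obtain ⟨e⟩ := ker_lift_equiv I P hIP θ hker φ hφ hφk
  have hk : Nat.card ↥(QuotientGroup.lift I θ hI).ker = 4 := by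
    rw [Nat.card_congr e.toEquiv]
    exact IsKleinFour.card_four
  have hexp : ∀ k ∈ (QuotientGroup.lift I θ hI).ker, k * k = 1 := by
    intro k hk
    have h1 : e ⟨k, hk⟩ * e ⟨k, hk⟩ = 1 := by
      have : ∀ z : Multiplicative (ZMod 2 × ZMod 2), z * z = 1 := by decide
      exact this _
    rw [← map_mul, MulEquiv.map_eq_one_iff] at h1
    exact congrArg Subtype.val h1
  have hcent : ∀ k ∈ (QuotientGroup.lift I θ hI).ker, ∀ g : A ⧸ I, g * k = k * g := by
    intro k hk g
    obtain ⟨y, rfl⟩ := QuotientGroup.mk_surjective k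
    obtain ⟨a, rfl⟩ := QuotientGroup.mk_surjective g
    rw [MonoidHom.mem_ker, QuotientGroup.lift_mk] at hk
    have hy : y ∈ P := by rw [← hker]; exact hk
    have h1 := (QuotientGroup.eq_one_iff (N := I) _).2 (hcentral a y hy)
    rw [QuotientGroup.mk_mul, QuotientGroup.mk_mul, QuotientGroup.mk_mul, QuotientGroup.mk_inv,
      QuotientGroup.mk_inv, mul_inv_eq_one, mul_inv_eq_iff_eq_mul] at h1
    exact h1
  exact klein_ext hf (QuotientGroup.lift I θ hI) (lift_surjective I θ hI hθ) hk hexp hcent hC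
    (QuotientGroup.mk x) hx (by
      rw [← QuotientGroup.mk_pow]
      intro h
      exact hxf ((QuotientGroup.eq_one_iff _).1 h))

/-- the dihedral case -/
theorem out_dihedral {f : ℕ} (hf : 1 ≤ f) (hodd : Odd f) (I P : Subgroup A) [I.Normal]
    (hIP : I ≤ P) (θ : A →* C) (hker : θ.ker = P) (hθ : Function.Surjective θ)
    (hC : Nat.card C = f) (φ : ↥P →* DihedralGroup 4) (hφ : Function.Surjective φ)
    (hφk : φ.ker = I.subgroupOf P) (x : A) (hx : orderOf (θ x) = f) :
    Nonempty (A ⧸ I ≃* DihedralGroup 4 × Multiplicative (ZMod f)) := by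
  have hI : I ≤ θ.ker := by rw [hker]; exact hIP
  obtain ⟨e⟩ := ker_lift_equiv I P hIP θ hker φ hφ hφk
  exact dihedral_ext hf hodd (QuotientGroup.lift I θ hI) (lift_surjective I θ hI hθ) e hC
    (QuotientGroup.mk x) hx

end Quot

end Cfsg.Agent.Lib.Helper5.OFld
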