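import Mathlib
import Cfsg.Agent.Lib.Helper5.OAut22
import Cfsg.Agent.Lib.Helper5.WittIndex
import Cfsg.Agent.Lib.Helper2.QuadStd
import Cfsg.Agent.Lib.Helper2.OrthCard1

set_option autoImplicit false

namespace Cfsg.Agent.Lib.Helper5.OAut

open Matrix Module

section
variable {F : Type*} [Field F] {ι : Type} [Fintype ι] [DecidableEq ι]
variable {Q : QuadraticForm F (ι → F)}

set_option quotPrecheck false in
local notation "β" => QuadraticMap.polar (⇑Q)

/-- a totally singular subspace containing its orthogonal has half the dimension -/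
theorem two_mul_finrank_of_lagrangian (hQ : (QuadraticMap.polarBilin Q).Nondegenerate)
    (T : Submodule F (ι → F)) (hT : ∀ x ∈ T, Q x = 0)
    (hperp : ∀ y, (∀ x ∈ T, β x y = 0) → y ∈ T) : 2 * finrank F ↥T = Fintype.card ι := by
  have h1 : LinearMap.BilinForm.orthogonal (QuadraticMap.polarBilin Q) T = T := by
    apply le_antisymm
    · intro y hy
      rw [LinearMap.BilinForm.mem_orthogonal_iff] at hy
      exact hperp y (fun x hx => hy x hx)
    · intro y hy
      rw [LinearMap.BilinForm.mem_orthogonal_iff]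
      intro x hx
      exact ts_polar hT hx hy
  have h2 := LinearMap.BilinForm.finrank_orthogonal hQ T
  rw [h1, Module.finrank_fintype_fun_eq_card] at h2
  have h3 : finrank F ↥T ≤ Fintype.card ι := by
    have := Submodule.finrank_le T
    rwa [Module.finrank_fintype_fun_eq_card] at this
  omega

end

section
variable {F : Type*} [Field F]

/-- totally singular subspaces of a minus type form in dimension `2k+2` have dimension at most
`k` -/
theorem finrank_le_of_ts_minus {k : ℕ} (a b : F)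
    (hab : ∀ z₁ z₂ : F, z₁ ^ 2 + a * z₁ * z₂ + b * z₂ ^ 2 = 0 → z₁ = 0 ∧ z₂ = 0)
    (U : Submodule F ((Fin k ⊕ Fin k) ⊕ Fin 2 → F))
    (hU : ∀ u ∈ U, Cfsg.quadFormMinus k F a b u = 0) : finrank F U ≤ k := by
  have hz : ∀ u ∈ U, minusY k F u = 0 → u (Sum.inr 0) = 0 ∧ u (Sum.inr 1) = 0 := by
    intro u hu hy
    have h1 := hU u hu
    have h2 : ∑ i : Fin k, u (Sum.inl (Sum.inl i)) * u (Sum.inl (Sum.inr i)) = 0 := by
      apply Finset.sum_eq_zero
      intro i _
      have := congrFun hy i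
      rw [minusY_apply] at this
      rw [this]; simp
    rw [Cfsg.quadFormMinus, h2, zero_add] at h1
    exact hab _ _ h1
  apply finrank_le_of_isotropic_projections (minusX k F) (minusY k F) U
  · intro u hu hy hx
    obtain ⟨h0, h1⟩ := hz u hu hy
    funext i
    rcases i with (i | i) | i
    · exact congrFun hx i
    · exact congrFun hy i
    · fin_cases i
      · exact h0
      · exact h1
  · intro u hu u' hu' hy'
    obtain ⟨h0, h1⟩ := hz u' hu' hy'
    have e1 := hU _ (U.add_mem hu hu')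
    have e2 := hU _ hu
    have e3 : ∀ i, u' (Sum.inl (Sum.inr i)) = 0 := fun i => congrFun hy' i
    simp only [Cfsg.quadFormMinus, Pi.add_apply, h0, h1, e3, add_zero] at e1 e2
    have e4 : ∑ i : Fin k, (u (Sum.inl (Sum.inl i)) + u' (Sum.inl (Sum.inl i))) *
        u (Sum.inl (Sum.inr i))
        = ∑ i : Fin k, u (Sum.inl (Sum.inl i)) * u (Sum.inl (Sum.inr i))
          + minusX k F u' ⬝ᵥ minusY k F u := by
      simp only [dotProduct, minusX_apply, minusY_apply, ← Finset.sum_add_distrib]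
      apply Finset.sum_congr rfl
      intro i _
      ring
    rw [e4] at e1
    have : minusX k F u' ⬝ᵥ minusY k F u = 0 := by
      have := e1
      rw [add_right_comm, e2, zero_add] at this
      exact this
    exact this

end

section
variable {F : Type*} [Field F] [Fintype F]

theorem exists_char_prime : ∃ p : ℕ, ∃ _ : Fact p.Prime, CharP F p := by
  obtain ⟨p, hp⟩ := CharP.exists F
  haveI := hp
  exact ⟨p, ⟨CharP.char_is_prime F p⟩, hp⟩

/-- `Aut(Ω_{2m+1}(q))` for odd `q` and `m ≥ 3` -/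
theorem gamma_odd (hodd : Odd (Fintype.card F)) {m : ℕ} (hm : 3 ≤ m) :
    Cfsg.gammaPOmega F (Cfsg.quadFormOdd m F) = ⊤ := by
  have h2 : (2 : F) ≠ 0 := by
    intro h
    have hch : ringChar F = 2 :=
      CharP.ringChar_of_prime_eq_zero Nat.prime_two (by exact_mod_cast h)
    have := FiniteField.even_card_of_char_two hch
    rw [Nat.odd_iff] at hodd
    omega
  obtain ⟨p, hp, hcp⟩ := exists_char_prime (F := F)
  have hcoe := Cfsg.Agent.Lib.Helper2.OrthCard.QOd_coe (F := F) m
  rw [← hcoe]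
  have hcard : Fintype.card (Unit ⊕ (Fin m ⊕ Fin m)) = 2 * m + 1 := by
    rw [Fintype.card_sum, Fintype.card_sum, Fintype.card_fin, Fintype.card_unit]; omega
  have hQ := Cfsg.Agent.Lib.Helper2.OrthCard.QOd_nondeg (F := F) h2 m
  apply gammaPOmega_eq_top p hQ (by rw [hcard]; omega)
  intro T hT hperp
  have := two_mul_finrank_of_lagrangian hQ T hT hperp
  rw [hcard] at this
  omega

/-- `Aut(PΩ⁺_{2m}(q))` for `m ≥ 5` -/
theorem gamma_plus {m : ℕ} (hm : 5 ≤ m) :
    Cfsg.gammaPOmega F (Cfsg.quadFormPlus m F) = ⊤ := by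
  obtain ⟨p, hp, hcp⟩ := exists_char_prime (F := F)
  have hcoe := Cfsg.Agent.Lib.Helper2.QuadStd.QP_coe (F := F) m
  rw [← hcoe]
  have hcard : Fintype.card (Fin m ⊕ Fin m) = 2 * m := by
    rw [Fintype.card_sum, Fintype.card_fin]; ring
  have hQ := Cfsg.Agent.Lib.Helper2.QuadStd.QP_nondeg (F := F) m
  apply gammaPOmega_eq_top p hQ (by rw [hcard]; omega)
  intro T hT hperp
  have := two_mul_finrank_of_lagrangian hQ T hT hperp
  rw [hcard] at this
  omega

/-- `Aut(PΩ⁻_{2m+2}(q))` for `m ≥ 3` -/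
theorem gamma_minus {m : ℕ} (hm : 3 ≤ m) (a b : F)
    (hab : ∀ z₁ z₂ : F, z₁ ^ 2 + a * z₁ * z₂ + b * z₂ ^ 2 = 0 → z₁ = 0 ∧ z₂ = 0) :
    Cfsg.gammaPOmega F (Cfsg.quadFormMinus m F a b) = ⊤ := by
  obtain ⟨p, hp, hcp⟩ := exists_char_prime (F := F)
  have hcoe := Cfsg.Agent.Lib.Helper2.OrthCard.QMn_coe (F := F) m a b
  rw [← hcoe]
  have hcard : Fintype.card ((Fin m ⊕ Fin m) ⊕ Fin 2) = 2 * m + 2 := by
    rw [Fintype.card_sum, Fintype.card_sum, Fintype.card_fin, Fintype.card_fin]; omega
  have hQ := Cfsg.Agent.Lib.Helper2.OrthCard.QMn_nondeg (F := F) m a b hab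
  apply gammaPOmega_eq_top p hQ (by rw [hcard]; omega)
  intro T hT hperp
  have h1 := two_mul_finrank_of_lagrangian hQ T hT hperp
  rw [hcard] at h1
  have h2 := finrank_le_of_ts_minus a b hab T (fun u hu => by
    have := hT u hu
    rw [hcoe] at this
    exact this)
  omega

end

end Cfsg.Agent.Lib.Helper5.OAut
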