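import Mathlib
import Cfsg.Agent.Lib.Helper2.CentOmega4

set_option autoImplicit false

/-! A similarity commuting with all products `r_u r_w`, `Q u = Q w`, is a scalar. -/

namespace Cfsg.Agent.Lib.Helper5.PGO

open Matrix Cfsg.Agent.Lib.Helper2 Cfsg.Agent.Lib.Helper2.CDG Cfsg.Agent.Lib.Helper2.CentO
open Cfsg.Agent.Lib.Helper2.ReflGen

variable {F : Type*} [Field F] {ι : Type} [Fintype ι] [DecidableEq ι]
variable {Q : QuadraticForm F (ι → F)}

theorem sim_polar (g : GL ι F) (c : F) (hc : ∀ v, Q ((g : Matrix ι ι F) *ᵥ v) = c * Q v)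
    (a b : ι → F) :
    QuadraticMap.polar (⇑Q) ((g : Matrix ι ι F) *ᵥ a) ((g : Matrix ι ι F) *ᵥ b) =
      c * QuadraticMap.polar (⇑Q) a b := by
  unfold QuadraticMap.polar
  rw [← Matrix.mulVec_add, hc, hc, hc]
  ring

theorem sim_c_ne (hQ : ∃ v, Q v ≠ 0) (g : GL ι F) (c : F)
    (hc : ∀ v, Q ((g : Matrix ι ι F) *ᵥ v) = c * Q v) : c ≠ 0 := by
  rintro rfl
  obtain ⟨v, hv⟩ := hQ
  apply hv
  have h := hc (((g⁻¹ : GL ι F) : Matrix ι ι F) *ᵥ v)
  rw [Matrix.mulVec_mulVec, ← Units.val_mul, mul_inv_cancel, Units.val_one, Matrix.one_mulVec,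
    zero_mul] at h
  exact h

theorem sim_ne (g : GL ι F) (c : F) (hc0 : c ≠ 0)
    (hc : ∀ v, Q ((g : Matrix ι ι F) *ᵥ v) = c * Q v) {u : ι → F} (hu : Q u ≠ 0) :
    Q ((g : Matrix ι ι F) *ᵥ u) ≠ 0 := by
  rw [hc]
  exact mul_ne_zero hc0 hu

theorem conj_refl_sim (g : GL ι F) (c : F) (hc0 : c ≠ 0)
    (hc : ∀ v, Q ((g : Matrix ι ι F) *ᵥ v) = c * Q v) (u : ι → F) (hu : Q u ≠ 0) :
    g * (refl Q u hu : GL ι F) * g⁻¹ =
      (refl Q ((g : Matrix ι ι F) *ᵥ u) (sim_ne g c hc0 hc hu) : GL ι F) := by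
  apply Units.ext
  apply Matrix.mulVec_injective
  funext x
  show ((g : Matrix ι ι F) * ((refl Q u hu : GL ι F) : Matrix ι ι F) *
    ((g⁻¹ : GL ι F) : Matrix ι ι F)) *ᵥ x = _
  rw [← Matrix.mulVec_mulVec, ← Matrix.mulVec_mulVec, refl_mulVec, refl_mulVec, Matrix.mulVec_sub,
    Matrix.mulVec_smul]
  have h1 : (g : Matrix ι ι F) *ᵥ (((g⁻¹ : GL ι F) : Matrix ι ι F) *ᵥ x) = x := by
    rw [Matrix.mulVec_mulVec, ← Units.val_mul, mul_inv_cancel, Units.val_one, Matrix.one_mulVec]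
  have h2 := sim_polar g c hc u (((g⁻¹ : GL ι F) : Matrix ι ι F) *ᵥ x)
  rw [h1] at h2
  rw [h1, h2, hc]
  congr 2
  field_simp

/-- if `g` commutes with `r_u r_w` then `r_u r_{gu} = r_w r_{gw}` -/
theorem key_of_commute (g : GL ι F) (c : F) (hc0 : c ≠ 0)
    (hc : ∀ v, Q ((g : Matrix ι ι F) *ᵥ v) = c * Q v) (u w : ι → F) (hu : Q u ≠ 0) (hw : Q w ≠ 0)
    (hcomm : g * ((refl Q u hu * refl Q w hw : ↥(Cfsg.isometryGroup F ⇑Q)) : GL ι F) =
      ((refl Q u hu * refl Q w hw : ↥(Cfsg.isometryGroup F ⇑Q)) : GL ι F) * g) :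
    refl Q u hu * refl Q ((g : Matrix ι ι F) *ᵥ u) (sim_ne g c hc0 hc hu) =
      refl Q w hw * refl Q ((g : Matrix ι ι F) *ᵥ w) (sim_ne g c hc0 hc hw) := by
  have h2 : refl Q ((g : Matrix ι ι F) *ᵥ u) (sim_ne g c hc0 hc hu) *
      refl Q ((g : Matrix ι ι F) *ᵥ w) (sim_ne g c hc0 hc hw) = refl Q u hu * refl Q w hw := by
    apply Subtype.ext
    rw [Subgroup.coe_mul, ← conj_refl_sim g c hc0 hc u hu, ← conj_refl_sim g c hc0 hc w hw]
    calc g * (refl Q u hu : GL ι F) * g⁻¹ * (g * (refl Q w hw : GL ι F) * g⁻¹)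
        = g * ((refl Q u hu : GL ι F) * (refl Q w hw : GL ι F)) * g⁻¹ := by group
      _ = ((refl Q u hu : GL ι F) * (refl Q w hw : GL ι F)) * g * g⁻¹ := by
          rw [← Subgroup.coe_mul, hcomm]
      _ = _ := by rw [mul_inv_cancel_right]; rfl
  calc refl Q u hu * refl Q ((g : Matrix ι ι F) *ᵥ u) (sim_ne g c hc0 hc hu)
      = refl Q u hu * (refl Q ((g : Matrix ι ι F) *ᵥ u) (sim_ne g c hc0 hc hu) *
          refl Q ((g : Matrix ι ι F) *ᵥ w) (sim_ne g c hc0 hc hw)) *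
          refl Q ((g : Matrix ι ι F) *ᵥ w) (sim_ne g c hc0 hc hw) := by
        rw [mul_assoc, mul_assoc, refl_mul_self, mul_one]
    _ = refl Q u hu * (refl Q u hu * refl Q w hw) *
          refl Q ((g : Matrix ι ι F) *ᵥ w) (sim_ne g c hc0 hc hw) := by rw [h2]
    _ = refl Q w hw * refl Q ((g : Matrix ι ι F) *ᵥ w) (sim_ne g c hc0 hc hw) := by
        rw [← mul_assoc, refl_mul_self, one_mul]

/-- a similarity commuting with all products `r_u r_w`, `Q w = Q u`, stabilises `⟨u⟩` -/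
theorem sim_smul_of_commute [Finite F] (hQ : (QuadraticMap.polarBilin Q).Nondegenerate)
    (hn : 6 ≤ Fintype.card ι) (g : GL ι F) (c : F) (hc0 : c ≠ 0)
    (hc : ∀ v, Q ((g : Matrix ι ι F) *ᵥ v) = c * Q v) (u : ι → F) (hu : Q u ≠ 0)
    (hcomm : ∀ w (hw : Q w ≠ 0), Q w = Q u →
      g * ((refl Q u hu * refl Q w hw : ↥(Cfsg.isometryGroup F ⇑Q)) : GL ι F) =
      ((refl Q u hu * refl Q w hw : ↥(Cfsg.isometryGroup F ⇑Q)) : GL ι F) * g) :
    ∃ t : F, (g : Matrix ι ι F) *ᵥ u = t • u := by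
  by_contra hcon
  push Not at hcon
  have hzu : Q ((g : Matrix ι ι F) *ᵥ u) ≠ 0 := sim_ne g c hc0 hc hu
  have hu0 : u ≠ 0 := by rintro rfl; exact hu (QuadraticMap.map_zero Q)
  have hind : ∀ t : F, u ≠ t • ((g : Matrix ι ι F) *ᵥ u) := ind_symm hu0 hcon
  obtain ⟨w, hwu, hw⟩ := exists_not_mem_plane hQ hn u hu u ((g : Matrix ι ι F) *ᵥ u)
  have hwQ : Q w ≠ 0 := by rw [hwu]; exact hu
  have hw0 : w ≠ 0 := by rintro rfl; exact hwQ (QuadraticMap.map_zero Q)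
  have hk := key_of_commute g c hc0 hc u w hu hwQ (hcomm w hwQ hwu)
  by_cases hzw : ∃ t : F, (g : Matrix ι ι F) *ᵥ w = t • w
  · obtain ⟨t, ht⟩ := hzw
    have ht0 : t ≠ 0 := by
      rintro rfl
      rw [zero_smul] at ht
      have := sim_ne g c hc0 hc hwQ
      rw [ht, QuadraticMap.map_zero] at this
      exact this rfl
    have e2 : refl Q ((g : Matrix ι ι F) *ᵥ w) (sim_ne g c hc0 hc hwQ) = refl Q w hwQ := by
      rw [refl_congr ht _ (by rw [Spinor.map_smul_self]; exact mul_ne_zero (mul_ne_zero ht0 ht0) hwQ)]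
      exact Spinor.refl_smul_eq w hwQ t ht0
    rw [e2, refl_mul_self] at hk
    exact mul_ne_one hQ u _ hu hzu hind hk
  · push Not at hzw
    have hind' : ∀ t : F, w ≠ t • ((g : Matrix ι ι F) *ᵥ w) := ind_symm hw0 hzw
    obtain ⟨α, β, h⟩ := mem_plane hQ w ((g : Matrix ι ι F) *ᵥ w) u ((g : Matrix ι ι F) *ᵥ u)
      hwQ (sim_ne g c hc0 hc hwQ) hu hzu hind' hk.symm
    exact hw α β h

theorem sim_fix_singular (g : GL ι F) (c : F)
    (hc : ∀ v, Q ((g : Matrix ι ι F) *ᵥ v) = c * Q v)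
    (hfix : ∀ u, Q u ≠ 0 → ∃ t : F, (g : Matrix ι ι F) *ᵥ u = t • u)
    (u : ι → F) (t : F) (hu : Q u ≠ 0)
    (ht : (g : Matrix ι ι F) *ᵥ u = t • u)
    (s : ι → F) (hs : Q s = 0) (hus : QuadraticMap.polar (⇑Q) u s = 0) :
    (g : Matrix ι ι F) *ᵥ s = t • s := by
  have hus' : Q (u + s) ≠ 0 := by
    rw [QuadraticMap.map_add (⇑Q), hs, hus, add_zero, add_zero]; exact hu
  obtain ⟨t', ht'⟩ := hfix (u + s) hus'
  rw [Matrix.mulVec_add, ht] at ht'
  have h1 : (g : Matrix ι ι F) *ᵥ s = (t' - t) • u + t' • s := by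
    have : (g : Matrix ι ι F) *ᵥ s =
        (t • u + (g : Matrix ι ι F) *ᵥ s) - t • u := by abel
    rw [this, ht', smul_add, sub_smul]; abel
  have h2 : Q ((g : Matrix ι ι F) *ᵥ s) = 0 := by
    rw [hc, hs, mul_zero]
  rw [h1, Cfsg.Agent.Lib.Helper5.map_lin2, hs, hus] at h2
  have h3 : (t' - t) ^ 2 * Q u = 0 := by linear_combination h2
  have h4 : t' - t = 0 := by
    rcases mul_eq_zero.1 h3 with h | h
    · exact pow_eq_zero_iff (two_ne_zero) |>.1 h
    · exact absurd h hu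
  rw [h1, h4, zero_smul, zero_add, sub_eq_zero.1 h4]

/-- a similarity fixing all nonsingular points is a scalar -/
theorem sim_scalar_of_fix [Finite F] (hQ : (QuadraticMap.polarBilin Q).Nondegenerate)
    (hn : 5 ≤ Fintype.card ι) (g : GL ι F) (c : F)
    (hc : ∀ v, Q ((g : Matrix ι ι F) *ᵥ v) = c * Q v)
    (hfix : ∀ u, Q u ≠ 0 → ∃ t : F, (g : Matrix ι ι F) *ᵥ u = t • u) :
    ∃ t : F, ∀ v, (g : Matrix ι ι F) *ᵥ v = t • v := by
  have hfr : 2 ≤ Module.finrank F (ι → F) := by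
    rw [Module.finrank_fintype_fun_eq_card]; omega
  obtain ⟨u₀, hu₀1⟩ := Cfsg.Agent.Lib.Helper5.exists_represents_one Q hQ hfr
  have hu₀ : Q u₀ ≠ 0 := by rw [hu₀1]; exact one_ne_zero
  obtain ⟨t₀, ht₀⟩ := hfix u₀ hu₀
  have hns : ∀ u, Q u ≠ 0 → (g : Matrix ι ι F) *ᵥ u = t₀ • u := by
    intro u hu
    obtain ⟨t, ht⟩ := hfix u hu
    obtain ⟨s, hs0, hs, hp⟩ := exists_singular_perp (Q := Q) (k := 2) ![u, u₀] (by omega)
    have h1 := sim_fix_singular g c hc hfix u t hu ht s hs (hp 0)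
    have h2 := sim_fix_singular g c hc hfix u₀ t₀ hu₀ ht₀ s hs (hp 1)
    rw [h1] at h2
    have h3 : (t - t₀) • s = 0 := by rw [sub_smul, h2, sub_self]
    rcases smul_eq_zero.1 h3 with h | h
    · rw [ht, sub_eq_zero.1 h]
    · exact absurd h hs0
  refine ⟨t₀, fun v => ?_⟩
  by_cases hv : Q v = 0
  · by_cases hv0 : v = 0
    · rw [hv0, Matrix.mulVec_zero, smul_zero]
    · obtain ⟨y, hy, hyQ⟩ := Cfsg.Agent.Lib.Helper5.exists_partner Q hQ hv0 hv
      obtain ⟨s', hs'0, hs', hp'⟩ := exists_singular_perp (Q := Q) (k := 2) ![v, y] (by omega)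
      have hvs' : QuadraticMap.polar (⇑Q) v s' = 0 := hp' 0
      have hys' : QuadraticMap.polar (⇑Q) y s' = 0 := hp' 1
      obtain ⟨y', hy', hy'Q⟩ := Cfsg.Agent.Lib.Helper5.exists_partner Q hQ hs'0 hs'
      obtain ⟨y'', hy''⟩ : ∃ y'', y'' = y' - QuadraticMap.polar (⇑Q) y y' • v -
          QuadraticMap.polar (⇑Q) v y' • y := ⟨_, rfl⟩
      have hvv : QuadraticMap.polar (⇑Q) v v = 0 :=
        Cfsg.Agent.Lib.Helper5.polar_self_of_singular Q hv
      have hvy'' : QuadraticMap.polar (⇑Q) v y'' = 0 := by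
        rw [hy'', QuadraticMap.polar_sub_right, QuadraticMap.polar_sub_right,
          QuadraticMap.polar_smul_right, QuadraticMap.polar_smul_right, hvv, hy]
        simp
      have hs'y'' : QuadraticMap.polar (⇑Q) s' y'' = 1 := by
        rw [hy'', QuadraticMap.polar_sub_right, QuadraticMap.polar_sub_right,
          QuadraticMap.polar_smul_right, QuadraticMap.polar_smul_right,
          QuadraticMap.polar_comm (⇑Q) s' v, QuadraticMap.polar_comm (⇑Q) s' y, hvs', hys', hy']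
        simp
      by_cases hcc : Q y'' = 0
      · have hne : Q (s' + y'') ≠ 0 := by
          rw [QuadraticMap.map_add (⇑Q), hs', hcc, hs'y'']; simp
        have hperp : QuadraticMap.polar (⇑Q) (s' + y'') v = 0 := by
          rw [QuadraticMap.polar_add_left, QuadraticMap.polar_comm (⇑Q) s' v,
            QuadraticMap.polar_comm (⇑Q) y'' v, hvs', hvy'', add_zero]
        exact sim_fix_singular g c hc hfix _ t₀ hne (hns _ hne) v hv hperp
      · have hperp : QuadraticMap.polar (⇑Q) y'' v = 0 := by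
          rw [QuadraticMap.polar_comm, hvy'']
        exact sim_fix_singular g c hc hfix _ t₀ hcc (hns _ hcc) v hv hperp
  · exact hns v hv

/-- a similarity commuting with all products `r_u r_w` with `Q u = Q w` is a scalar -/
theorem sim_centralizer_scalar [Finite F] (hQ : (QuadraticMap.polarBilin Q).Nondegenerate)
    (hn : 6 ≤ Fintype.card ι) (g : GL ι F) (c : F) (hc0 : c ≠ 0)
    (hc : ∀ v, Q ((g : Matrix ι ι F) *ᵥ v) = c * Q v)
    (hcomm : ∀ u w (hu : Q u ≠ 0) (hw : Q w ≠ 0), Q w = Q u →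
      g * ((refl Q u hu * refl Q w hw : ↥(Cfsg.isometryGroup F ⇑Q)) : GL ι F) =
      ((refl Q u hu * refl Q w hw : ↥(Cfsg.isometryGroup F ⇑Q)) : GL ι F) * g) :
    ∃ t : F, ∀ v, (g : Matrix ι ι F) *ᵥ v = t • v :=
  sim_scalar_of_fix hQ (by omega) g c hc
    (fun u hu => sim_smul_of_commute hQ hn g c hc0 hc u hu (fun w hw hwu => hcomm u w hu hw hwu))

end Cfsg.Agent.Lib.Helper5.PGO
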