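import Mathlib
import Cfsg.Agent.Lib.Helper5.PGO3
import Cfsg.Agent.Lib.Helper5.PGO4
import Cfsg.Agent.Lib.Helper2.CentOmega6

set_option autoImplicit false

/-! The kernel of the action of the similarity group on `PΩ(Q)` is the group of scalars. -/

namespace Cfsg.Agent.Lib.Helper5.PGO

open Matrix Cfsg.Agent.Lib.Helper2 Cfsg.Agent.Lib.Helper2.CDG Cfsg.Agent.Lib.Helper2.CentO
open Cfsg.Agent.Lib.Helper2.ReflGen

variable {F : Type*} [Field F] {ι : Type} [Fintype ι] [DecidableEq ι]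

/-- scalar matrices -/
def scalHom : Fˣ →* GL ι F := Units.map (Matrix.scalar ι).toMonoidHom

theorem scalHom_coe (c : Fˣ) : ((scalHom c : GL ι F) : Matrix ι ι F) = Matrix.scalar ι (c : F) := rfl

theorem scalHom_mulVec (c : Fˣ) (v : ι → F) :
    ((scalHom c : GL ι F) : Matrix ι ι F) *ᵥ v = (c : F) • v := by
  rw [scalHom_coe]
  funext i
  simp [Matrix.mulVec_diagonal]

theorem scalHom_comm (c : Fˣ) (h : GL ι F) : scalHom c * h = h * scalHom c := by
  apply Units.ext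
  apply Matrix.mulVec_injective
  funext x
  show (((scalHom c : GL ι F) : Matrix ι ι F) * (h : Matrix ι ι F)) *ᵥ x =
    ((h : Matrix ι ι F) * ((scalHom c : GL ι F) : Matrix ι ι F)) *ᵥ x
  rw [← Matrix.mulVec_mulVec, ← Matrix.mulVec_mulVec, scalHom_mulVec, scalHom_mulVec,
    Matrix.mulVec_smul]

variable {Q : QuadraticForm F (ι → F)}

theorem scal_mem_GO (c : Fˣ) : (scalHom c : GL ι F) ∈ GO (⇑Q) := by
  refine ⟨c * c, fun v => ?_⟩
  rw [scalHom_mulVec, QuadraticMap.map_smul, smul_eq_mul, Units.val_mul]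

/-- scalars in the similarity group -/
def scalGO (Q : QuadraticForm F (ι → F)) : Fˣ →* ↥(GO (⇑Q)) where
  toFun c := ⟨scalHom c, scal_mem_GO c⟩
  map_one' := by
    apply Subtype.ext
    exact map_one scalHom
  map_mul' a b := by
    apply Subtype.ext
    exact map_mul scalHom a b

@[simp] theorem scalGO_coe (c : Fˣ) : ((scalGO Q c : ↥(GO (⇑Q))) : GL ι F) = scalHom c := rfl

theorem scalGO_comm (c : Fˣ) (g : ↥(GO (⇑Q))) : scalGO Q c * g = g * scalGO Q c := by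
  apply Subtype.ext
  exact scalHom_comm c (g : GL ι F)

theorem scal_le_ker : (scalGO Q).range ≤ (Phi (⇑Q)).ker := by
  rintro _ ⟨c, rfl⟩
  rw [MonoidHom.mem_ker]
  apply MulEquiv.ext
  intro x
  induction x using QuotientGroup.induction_on with
  | H s =>
    rw [Phi_mk]
    congr 1
    apply Subtype.ext
    apply Subtype.ext
    rw [Phi_mk_coe, scalGO_coe, scalHom_comm, mul_inv_cancel_right]

variable [Fintype F]

/-- an element of the kernel commutes with the products `r_u r_w`, `Q u = Q w` -/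
theorem ker_commute (hQ : (QuadraticMap.polarBilin Q).Nondegenerate)
    (hn : 7 ≤ Fintype.card ι) (g : ↥(GO (⇑Q))) (hg : g ∈ (Phi (⇑Q)).ker)
    (c : F) (hc0 : c ≠ 0) (hc : ∀ v, Q (((g : GL ι F) : Matrix ι ι F) *ᵥ v) = c * Q v)
    (u w : ι → F) (hu : Q u ≠ 0) (hw : Q w ≠ 0) (hwu : Q w = Q u) :
    (g : GL ι F) * ((refl Q u hu * refl Q w hw : ↥(Cfsg.isometryGroup F ⇑Q)) : GL ι F) =
      ((refl Q u hu * refl Q w hw : ↥(Cfsg.isometryGroup F ⇑Q)) : GL ι F) * (g : GL ι F) := by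
  have hmem := refl_mul_refl_mem hQ (by omega) u w hu hw hwu.symm
  set s : ↥(Cfsg.Omega F ⇑Q) := ⟨refl Q u hu * refl Q w hw, hmem⟩ with hs
  have h1 : Phi (⇑Q) g (QuotientGroup.mk s) = QuotientGroup.mk s := by
    rw [MonoidHom.mem_ker.1 hg]
    rfl
  rw [Phi_mk] at h1
  have h2 := (QuotientGroup.eq.1 h1.symm)
  set s' : ↥(Cfsg.Omega F ⇑Q) :=
    resChar (commutator ↥(Cfsg.isometryGroup F ⇑Q)) (conjO (⇑Q) g) s with hs'
  obtain ⟨t, htt, ht⟩ := center_scalar hQ (by omega) (s⁻¹ * s') h2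
  -- a nonzero vector orthogonal to `u, w, g u, g w`
  obtain ⟨x, hx0, -, hp⟩ := exists_singular_perp (Q := Q) (k := 4)
    ![u, w, ((g : GL ι F) : Matrix ι ι F) *ᵥ u, ((g : GL ι F) : Matrix ι ι F) *ᵥ w] (by omega)
  have hux : QuadraticMap.polar (⇑Q) u x = 0 := hp 0
  have hwx : QuadraticMap.polar (⇑Q) w x = 0 := hp 1
  have hgux : QuadraticMap.polar (⇑Q) (((g : GL ι F) : Matrix ι ι F) *ᵥ u) x = 0 := hp 2
  have hgwx : QuadraticMap.polar (⇑Q) (((g : GL ι F) : Matrix ι ι F) *ᵥ w) x = 0 := hp 3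
  have hgg : ((g : GL ι F) : Matrix ι ι F) *ᵥ
      ((((g : GL ι F)⁻¹ : GL ι F) : Matrix ι ι F) *ᵥ x) = x := by
    rw [Matrix.mulVec_mulVec, ← Units.val_mul, mul_inv_cancel, Units.val_one, Matrix.one_mulVec]
  have hu' : QuadraticMap.polar (⇑Q) u ((((g : GL ι F)⁻¹ : GL ι F) : Matrix ι ι F) *ᵥ x) = 0 := by
    have h := sim_polar (g : GL ι F) c hc u ((((g : GL ι F)⁻¹ : GL ι F) : Matrix ι ι F) *ᵥ x)
    rw [hgg, hgux] at h
    rcases mul_eq_zero.1 h.symm with h | h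
    · exact absurd h hc0
    · exact h
  have hw' : QuadraticMap.polar (⇑Q) w ((((g : GL ι F)⁻¹ : GL ι F) : Matrix ι ι F) *ᵥ x) = 0 := by
    have h := sim_polar (g : GL ι F) c hc w ((((g : GL ι F)⁻¹ : GL ι F) : Matrix ι ι F) *ᵥ x)
    rw [hgg, hgwx] at h
    rcases mul_eq_zero.1 h.symm with h | h
    · exact absurd h hc0
    · exact h
  -- `s` fixes `x` and `g⁻¹ x`
  have hsx : ∀ y, QuadraticMap.polar (⇑Q) u y = 0 → QuadraticMap.polar (⇑Q) w y = 0 →
      (((s : ↥(Cfsg.isometryGroup F ⇑Q)) : GL ι F) : Matrix ι ι F) *ᵥ y = y := by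
    intro y hy1 hy2
    show (((refl Q u hu * refl Q w hw : ↥(Cfsg.isometryGroup F ⇑Q)) : GL ι F) :
      Matrix ι ι F) *ᵥ y = y
    rw [mul_mulVec, refl_fix w hw y hy2, refl_fix u hu y hy1]
  have hs'x : (((s' : ↥(Cfsg.isometryGroup F ⇑Q)) : GL ι F) : Matrix ι ι F) *ᵥ x = x := by
    have : (((s' : ↥(Cfsg.isometryGroup F ⇑Q)) : GL ι F) : Matrix ι ι F) =
        ((g : GL ι F) : Matrix ι ι F) *
          (((s : ↥(Cfsg.isometryGroup F ⇑Q)) : GL ι F) : Matrix ι ι F) *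
          (((g : GL ι F)⁻¹ : GL ι F) : Matrix ι ι F) := by
      rw [hs', Phi_mk_coe]
      rfl
    rw [this, ← Matrix.mulVec_mulVec, ← Matrix.mulVec_mulVec, hsx _ hu' hw', hgg]
  have hsinv : ((((s⁻¹ : ↥(Cfsg.Omega F ⇑Q)) : ↥(Cfsg.isometryGroup F ⇑Q)) : GL ι F) :
      Matrix ι ι F) *ᵥ x = x := by
    have h := hsx x hux hwx
    have h3 : ((((s⁻¹ : ↥(Cfsg.Omega F ⇑Q)) : ↥(Cfsg.isometryGroup F ⇑Q)) : GL ι F) :
        Matrix ι ι F) *ᵥ ((((s : ↥(Cfsg.isometryGroup F ⇑Q)) : GL ι F) : Matrix ι ι F) *ᵥ x) = x := by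
      rw [Subgroup.coe_inv, ← mul_mulVec, inv_mul_cancel, one_mulVec']
    rw [h] at h3
    exact h3
  have htx := ht x
  rw [Subgroup.coe_mul, mul_mulVec, hs'x, hsinv] at htx
  have ht1 : t = 1 := by
    have h3 : (1 - t) • x = 0 := by rw [sub_smul, one_smul, ← htx, sub_self]
    rcases smul_eq_zero.1 h3 with h | h
    · exact (sub_eq_zero.1 h).symm
    · exact absurd h hx0
  have hz1 : ((s⁻¹ * s' : ↥(Cfsg.Omega F ⇑Q)) : ↥(Cfsg.isometryGroup F ⇑Q)) = 1 := by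
    apply iso_ext
    intro v
    rw [ht v, ht1, one_smul, one_mulVec']
  have hss' : s' = s := by
    have : s⁻¹ * s' = 1 := Subtype.ext hz1
    rw [inv_mul_eq_one] at this
    exact this.symm
  have h5 : (g : GL ι F) * (((s : ↥(Cfsg.isometryGroup F ⇑Q)) : GL ι F)) * (g : GL ι F)⁻¹ =
      ((s : ↥(Cfsg.isometryGroup F ⇑Q)) : GL ι F) := by
    have := congrArg (fun y : ↥(Cfsg.Omega F ⇑Q) => ((y : ↥(Cfsg.isometryGroup F ⇑Q)) : GL ι F)) hss'
    rw [hs', Phi_mk_coe] at this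
    exact this
  exact mul_inv_eq_iff_eq_mul.1 h5

theorem ker_eq (hQ : (QuadraticMap.polarBilin Q).Nondegenerate)
    (hn : 7 ≤ Fintype.card ι) : (Phi (⇑Q)).ker = (scalGO Q).range := by
  apply le_antisymm _ scal_le_ker
  intro g hg
  obtain ⟨c, hc⟩ := g.2
  have hfr : 2 ≤ Module.finrank F (ι → F) := by
    rw [Module.finrank_fintype_fun_eq_card]; omega
  obtain ⟨u₀, hu₀1⟩ := Cfsg.Agent.Lib.Helper5.exists_represents_one Q hQ hfr
  obtain ⟨t, ht⟩ := sim_centralizer_scalar hQ (by omega) (g : GL ι F) (c : F) c.ne_zero hc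
    (fun u w hu hw hwu => ker_commute hQ hn g hg c c.ne_zero hc u w hu hw hwu)
  have ht0 : t ≠ 0 := by
    rintro rfl
    have h := hc u₀
    rw [ht, zero_smul, QuadraticMap.map_zero, hu₀1, mul_one] at h
    exact c.ne_zero h.symm
  refine ⟨Units.mk0 t ht0, ?_⟩
  apply Subtype.ext
  apply Units.ext
  apply Matrix.mulVec_injective
  funext v
  show ((scalHom (Units.mk0 t ht0) : GL ι F) : Matrix ι ι F) *ᵥ v = _
  rw [scalHom_mulVec, ht]
  rfl

end Cfsg.Agent.Lib.Helper5.PGO
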