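import Mathlib
import Cfsg.Agent.Lib.Helper5.PGO5

set_option autoImplicit false

/-! The multiplier and determinant characters of the similarity group; lifting characters to
the image in `Aut(PΩ)`. -/

namespace Cfsg.Agent.Lib.Helper5.PGO

open Matrix

section Lift

variable {G A B : Type*} [Group G] [Group A] [Group B]

/-- a character killing the kernel descends to the range -/
theorem exists_lift_range (Φ : G →* A) (χ : G →* B) (hχ : Function.Surjective χ)
    (hker : Φ.ker ≤ χ.ker) :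
    ∃ φ : ↥Φ.range →* B, Function.Surjective φ ∧ (∀ g, φ ⟨Φ g, ⟨g, rfl⟩⟩ = χ g) ∧
      φ.ker = (χ.ker.map Φ).subgroupOf Φ.range := by
  have hk : Φ.rangeRestrict.ker ≤ χ.ker := by rwa [Φ.ker_rangeRestrict]
  set φ : ↥Φ.range →* B :=
    MonoidHom.liftOfSurjective Φ.rangeRestrict Φ.rangeRestrict_surjective ⟨χ, hk⟩ with hφ
  have hφg : ∀ g, φ ⟨Φ g, ⟨g, rfl⟩⟩ = χ g := by
    intro g
    exact MonoidHom.liftOfRightInverse_comp_apply _ _ _ ⟨χ, hk⟩ g
  refine ⟨φ, ?_, hφg, ?_⟩
  · intro b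
    obtain ⟨g, rfl⟩ := hχ b
    exact ⟨_, hφg g⟩
  · ext ⟨a, g, rfl⟩
    rw [MonoidHom.mem_ker, hφg, Subgroup.mem_subgroupOf]
    constructor
    · intro h
      exact ⟨g, h, rfl⟩
    · rintro ⟨g', hg', h⟩
      have : g'⁻¹ * g ∈ χ.ker := hker (by
        rw [MonoidHom.mem_ker, map_mul, map_inv]
        simp only at h
        rw [h, inv_mul_cancel])
      have hg'' : χ g' = 1 := hg'
      rw [MonoidHom.mem_ker, map_mul, map_inv, hg'', inv_one, one_mul] at this
      exact this

/-- a `±1`-valued character as a homomorphism to the units of the integers -/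
noncomputable def signHom {K : Type*} [Field K] (f : G →* Kˣ) (hf : ∀ g, f g = 1 ∨ f g = -1)
    (h2 : (-1 : Kˣ) ≠ 1) : G →* ℤˣ where
  toFun g := by
    classical
    exact if f g = 1 then 1 else -1
  map_one' := by simp
  map_mul' a b := by
    classical
    simp only [map_mul]
    rcases hf a with ha | ha <;> rcases hf b with hb | hb <;> simp [ha, hb, h2]

theorem signHom_eq_one_iff {K : Type*} [Field K] (f : G →* Kˣ) (hf : ∀ g, f g = 1 ∨ f g = -1)
    (h2 : (-1 : Kˣ) ≠ 1) (g : G) : signHom f hf h2 g = 1 ↔ f g = 1 := by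
  classical
  show (if f g = 1 then (1 : ℤˣ) else -1) = 1 ↔ f g = 1
  by_cases h : f g = 1
  · simp [h]
  · simp [h]

end Lift

variable {F : Type*} [Field F] {ι : Type} [Fintype ι] [DecidableEq ι]

section Mu

variable (Q : (ι → F) → F)

/-- the multiplier of a similarity -/
noncomputable def mu (g : ↥(GO Q)) : Fˣ := Classical.choose g.2

theorem mu_spec (g : ↥(GO Q)) (v : ι → F) :
    Q (((g : GL ι F) : Matrix ι ι F) *ᵥ v) = (mu Q g : F) * Q v := Classical.choose_spec g.2 v

variable {Q}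

theorem mu_unique (hQ : ∃ v, Q v ≠ 0) (g : ↥(GO Q)) (c : F)
    (hc : ∀ v, Q (((g : GL ι F) : Matrix ι ι F) *ᵥ v) = c * Q v) : (mu Q g : F) = c := by
  obtain ⟨v, hv⟩ := hQ
  have h := mu_spec Q g v
  rw [hc] at h
  exact (mul_right_cancel₀ hv h).symm

variable (Q)

/-- the multiplier homomorphism -/
noncomputable def muHom (hQ : ∃ v, Q v ≠ 0) : ↥(GO Q) →* Fˣ where
  toFun := mu Q
  map_one' := by
    apply Units.ext
    rw [mu_unique hQ 1 1 (fun v => by simp)]
    rfl
  map_mul' a b := by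
    apply Units.ext
    rw [mu_unique hQ (a * b) ((mu Q a : F) * (mu Q b : F)) (fun v => by
      rw [Subgroup.coe_mul, Units.val_mul, ← Matrix.mulVec_mulVec, mu_spec Q a, mu_spec Q b,
        mul_assoc])]
    rfl

@[simp] theorem muHom_apply (hQ : ∃ v, Q v ≠ 0) (g : ↥(GO Q)) : muHom Q hQ g = mu Q g := rfl

/-- the determinant on the similarity group -/
noncomputable def detGO : ↥(GO Q) →* Fˣ :=
  (Matrix.GeneralLinearGroup.det : GL ι F →* Fˣ).comp (GO Q).subtype

theorem detGO_coe (g : ↥(GO Q)) : ((detGO Q g : Fˣ) : F) = ((g : GL ι F) : Matrix ι ι F).det := rfl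

end Mu

variable {Q : QuadraticForm F (ι → F)}

theorem det_sq (hQ : (QuadraticMap.polarBilin Q).Nondegenerate) (g : GL ι F) (c : F)
    (hc : ∀ v, Q ((g : Matrix ι ι F) *ᵥ v) = c * Q v) :
    (g : Matrix ι ι F).det ^ 2 = c ^ Fintype.card ι := by
  have hcomp : LinearMap.BilinForm.comp (QuadraticMap.polarBilin Q)
      (Matrix.toLin' (g : Matrix ι ι F)) (Matrix.toLin' (g : Matrix ι ι F)) =
      c • QuadraticMap.polarBilin Q := by
    ext x y
    show QuadraticMap.polar (⇑Q) _ _ = c • QuadraticMap.polar (⇑Q) _ _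
    rw [Matrix.toLin'_apply, Matrix.toLin'_apply, smul_eq_mul]
    exact sim_polar g c hc _ _
  have h1 := congrArg LinearMap.BilinForm.toMatrix' hcomp
  rw [LinearMap.BilinForm.toMatrix'_comp, map_smul, LinearMap.toMatrix'_toLin'] at h1
  have h2 := congrArg Matrix.det h1
  rw [Matrix.det_mul, Matrix.det_mul, Matrix.det_transpose, Matrix.det_smul] at h2
  have hA : (LinearMap.BilinForm.toMatrix' (QuadraticMap.polarBilin Q)).det ≠ 0 := by
    rw [← Matrix.nondegenerate_iff_det_ne_zero]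
    exact LinearMap.BilinForm.nondegenerate_toMatrix'_iff.2 hQ
  apply mul_right_cancel₀ hA
  rw [← h2]
  ring

/-- the discriminant-type character `det / μ^m` in dimension `2m` -/
noncomputable def epsHom (Q : QuadraticForm F (ι → F)) (hQ0 : ∃ v, Q v ≠ 0) (m : ℕ) :
    ↥(GO (⇑Q)) →* Fˣ where
  toFun g := detGO (⇑Q) g * (muHom (⇑Q) hQ0 g ^ m)⁻¹
  map_one' := by rw [map_one, map_one, one_pow, inv_one, mul_one]
  map_mul' a b := by
    rw [map_mul, map_mul, mul_pow, mul_inv]
    exact mul_mul_mul_comm _ _ _ _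

theorem epsHom_apply (hQ0 : ∃ v, Q v ≠ 0) (m : ℕ) (g : ↥(GO (⇑Q))) :
    epsHom Q hQ0 m g = detGO (⇑Q) g * (mu (⇑Q) g ^ m)⁻¹ := rfl

theorem epsHom_sq (hQ : (QuadraticMap.polarBilin Q).Nondegenerate) (hQ0 : ∃ v, Q v ≠ 0)
    {m : ℕ} (hm : Fintype.card ι = 2 * m) (g : ↥(GO (⇑Q))) :
    epsHom Q hQ0 m g = 1 ∨ epsHom Q hQ0 m g = -1 := by
  have h := det_sq hQ (g : GL ι F) (mu (⇑Q) g : F) (mu_spec (⇑Q) g)
  rw [hm] at h
  have h1 : (epsHom Q hQ0 m g) ^ 2 = 1 := by
    apply Units.ext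
    rw [epsHom_apply, mul_pow, Units.val_mul, Units.val_pow_eq_pow_val, detGO_coe, h, inv_pow,
      ← pow_mul, mul_comm m 2, ← Units.val_pow_eq_pow_val, ← Units.val_mul, mul_inv_cancel]
  have h2 : (epsHom Q hQ0 m g - 1 : F) * (epsHom Q hQ0 m g + 1 : F) = 0 := by
    have := congrArg Units.val h1
    rw [Units.val_pow_eq_pow_val, Units.val_one] at this
    linear_combination this
  rcases mul_eq_zero.1 h2 with h3 | h3
  · left
    apply Units.ext
    rw [Units.val_one]
    linear_combination h3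
  · right
    apply Units.ext
    rw [Units.val_neg, Units.val_one]
    linear_combination h3

end Cfsg.Agent.Lib.Helper5.PGO
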