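import Mathlib
import Cfsg.Agent.Lib.Helper5.PGO6

set_option autoImplicit false

/-! The character `(μ mod squares, det / μ^m)` of the similarity group in even dimension,
odd characteristic. -/

namespace Cfsg.Agent.Lib.Helper5.PGO

open Matrix

variable {F : Type*} [Field F] [Fintype F] {ι : Type} [Fintype ι] [DecidableEq ι]
variable {Q : QuadraticForm F (ι → F)}

theorem neg_one_ne_one_units (h2 : (2 : F) ≠ 0) : (-1 : Fˣ) ≠ 1 := by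
  intro h
  apply h2
  have := congrArg Units.val h
  rw [Units.val_neg, Units.val_one] at this
  linear_combination -this

/-- the class of the multiplier modulo squares -/
noncomputable def chi1 (Q : QuadraticForm F (ι → F)) (hQ0 : ∃ v, Q v ≠ 0) : ↥(GO (⇑Q)) →* ℤˣ := by
  classical
  exact (quadraticChar F).toUnitHom.comp (muHom (⇑Q) hQ0)

theorem chi1_eq_one_iff (hQ0 : ∃ v, Q v ≠ 0) (g : ↥(GO (⇑Q))) :
    chi1 Q hQ0 g = 1 ↔ IsSquare (mu (⇑Q) g : F) := by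
  classical
  unfold chi1
  rw [MonoidHom.comp_apply, muHom_apply, ← Units.val_inj, MulChar.coe_toUnitHom, Units.val_one,
    quadraticChar_one_iff_isSquare (Units.ne_zero _)]

/-- the sign `det / μ^m` -/
noncomputable def chi2 (hQ : (QuadraticMap.polarBilin Q).Nondegenerate) (hQ0 : ∃ v, Q v ≠ 0)
    {m : ℕ} (hm : Fintype.card ι = 2 * m) (h2 : (2 : F) ≠ 0) : ↥(GO (⇑Q)) →* ℤˣ :=
  signHom (epsHom Q hQ0 m) (epsHom_sq hQ hQ0 hm) (neg_one_ne_one_units h2)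

theorem chi2_eq_one_iff (hQ : (QuadraticMap.polarBilin Q).Nondegenerate) (hQ0 : ∃ v, Q v ≠ 0)
    {m : ℕ} (hm : Fintype.card ι = 2 * m) (h2 : (2 : F) ≠ 0) (g : ↥(GO (⇑Q))) :
    chi2 hQ hQ0 hm h2 g = 1 ↔ epsHom Q hQ0 m g = 1 :=
  signHom_eq_one_iff _ _ _ g

/-- the character to `ℤˣ × ℤˣ` -/
noncomputable def chi (hQ : (QuadraticMap.polarBilin Q).Nondegenerate) (hQ0 : ∃ v, Q v ≠ 0)
    {m : ℕ} (hm : Fintype.card ι = 2 * m) (h2 : (2 : F) ≠ 0) : ↥(GO (⇑Q)) →* ℤˣ × ℤˣ :=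
  (chi1 Q hQ0).prod (chi2 hQ hQ0 hm h2)

theorem mem_chi_ker (hQ : (QuadraticMap.polarBilin Q).Nondegenerate) (hQ0 : ∃ v, Q v ≠ 0)
    {m : ℕ} (hm : Fintype.card ι = 2 * m) (h2 : (2 : F) ≠ 0) (g : ↥(GO (⇑Q))) :
    g ∈ (chi hQ hQ0 hm h2).ker ↔ IsSquare (mu (⇑Q) g : F) ∧ epsHom Q hQ0 m g = 1 := by
  rw [MonoidHom.mem_ker]
  unfold chi
  rw [MonoidHom.prod_apply, Prod.mk_eq_one, chi1_eq_one_iff, chi2_eq_one_iff]

theorem mu_of_iso (hQ0 : ∃ v, Q v ≠ 0) (g : ↥(GO (⇑Q)))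
    (hg : (g : GL ι F) ∈ Cfsg.isometryGroup F (⇑Q)) : mu (⇑Q) g = 1 := by
  apply Units.ext
  rw [mu_unique hQ0 g 1 (fun v => by rw [(mem_iso_iff (⇑Q) _).1 hg v, one_mul]), Units.val_one]

theorem mu_scal (hQ0 : ∃ v, Q v ≠ 0) (c : Fˣ) : mu (⇑Q) (scalGO Q c) = c * c := by
  apply Units.ext
  rw [mu_unique hQ0 (scalGO Q c) ((c : F) * c) (fun v => by
    rw [scalGO_coe, scalHom_mulVec, QuadraticMap.map_smul, smul_eq_mul]), Units.val_mul]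

theorem det_scalHom (c : Fˣ) :
    ((scalHom c : GL ι F) : Matrix ι ι F).det = (c : F) ^ Fintype.card ι := by
  rw [scalHom_coe, Matrix.scalar_apply, Matrix.det_diagonal, Finset.prod_const, Finset.card_univ]

theorem detGO_scal (c : Fˣ) : detGO (⇑Q) (scalGO Q c) = c ^ Fintype.card ι := by
  apply Units.ext
  rw [detGO_coe, scalGO_coe, det_scalHom, Units.val_pow_eq_pow_val]

theorem eps_scal (hQ0 : ∃ v, Q v ≠ 0) {m : ℕ} (hm : Fintype.card ι = 2 * m) (c : Fˣ) :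
    epsHom Q hQ0 m (scalGO Q c) = 1 := by
  rw [epsHom_apply, detGO_scal, mu_scal hQ0, hm, ← pow_two, ← pow_mul, mul_inv_cancel]

theorem SO_le_chi_ker (hQ : (QuadraticMap.polarBilin Q).Nondegenerate) (hQ0 : ∃ v, Q v ≠ 0)
    {m : ℕ} (hm : Fintype.card ι = 2 * m) (h2 : (2 : F) ≠ 0) :
    SOsub (⇑Q) ≤ (chi hQ hQ0 hm h2).ker := by
  intro g hg
  rw [mem_chi_ker]
  have hg' : (g : GL ι F) ∈ Cfsg.specialIsometryGL F (⇑Q) := hg
  have hmu := mu_of_iso hQ0 g hg'.1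
  refine ⟨by rw [hmu, Units.val_one]; exact ⟨1, by ring⟩, ?_⟩
  rw [epsHom_apply, hmu, one_pow, inv_one, mul_one]
  exact hg'.2

theorem scal_le_chi_ker (hQ : (QuadraticMap.polarBilin Q).Nondegenerate) (hQ0 : ∃ v, Q v ≠ 0)
    {m : ℕ} (hm : Fintype.card ι = 2 * m) (h2 : (2 : F) ≠ 0) :
    (scalGO Q).range ≤ (chi hQ hQ0 hm h2).ker := by
  rintro _ ⟨c, rfl⟩
  rw [mem_chi_ker]
  refine ⟨?_, eps_scal hQ0 hm c⟩
  rw [mu_scal hQ0, Units.val_mul]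
  exact ⟨c, rfl⟩

/-- an element of the kernel of `chi` is a scalar times a special isometry -/
theorem exists_SO_of_chi_ker (hQ : (QuadraticMap.polarBilin Q).Nondegenerate)
    (hQ0 : ∃ v, Q v ≠ 0) {m : ℕ} (hm : Fintype.card ι = 2 * m) (h2 : (2 : F) ≠ 0)
    (g : ↥(GO (⇑Q))) (hg : g ∈ (chi hQ hQ0 hm h2).ker) :
    ∃ (c : Fˣ) (h : ↥(GO (⇑Q))), h ∈ SOsub (⇑Q) ∧ g = scalGO Q c * h := by
  rw [mem_chi_ker] at hg
  obtain ⟨⟨c, hc⟩, heps⟩ := hg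
  have hc0 : c ≠ 0 := by
    rintro rfl
    rw [mul_zero] at hc
    exact Units.ne_zero _ hc
  set c' : Fˣ := Units.mk0 c hc0 with hc'
  have hmu : mu (⇑Q) g = c' * c' := by
    apply Units.ext
    rw [hc, Units.val_mul]
    rfl
  refine ⟨c', (scalGO Q c')⁻¹ * g, ?_, by rw [mul_inv_cancel_left]⟩
  have hmu' : mu (⇑Q) ((scalGO Q c')⁻¹ * g) = 1 := by
    have := map_mul (muHom (⇑Q) hQ0) ((scalGO Q c')⁻¹) g
    rw [map_inv] at this
    simp only [muHom_apply] at this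
    rw [this, mu_scal hQ0, hmu, inv_mul_cancel]
  constructor
  · show (((scalGO Q c')⁻¹ * g : ↥(GO (⇑Q))) : GL ι F) ∈ Cfsg.isometryGroup F (⇑Q)
    rw [mem_iso_iff]
    intro v
    rw [mu_spec (⇑Q) ((scalGO Q c')⁻¹ * g) v, hmu', Units.val_one, one_mul]
  · show Matrix.GeneralLinearGroup.det (((scalGO Q c')⁻¹ * g : ↥(GO (⇑Q))) : GL ι F) = 1
    have h3 : detGO (⇑Q) ((scalGO Q c')⁻¹ * g) = 1 := by
      rw [map_mul, map_inv, detGO_scal, hm]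
      rw [epsHom_apply, hmu, ← pow_two, ← pow_mul] at heps
      rw [mul_comm]
      exact heps
    exact h3

theorem chi_ker_map (hQ : (QuadraticMap.polarBilin Q).Nondegenerate) (hQ0 : ∃ v, Q v ≠ 0)
    {m : ℕ} (hm : Fintype.card ι = 2 * m) (h2 : (2 : F) ≠ 0) :
    (chi hQ hQ0 hm h2).ker.map (Phi (⇑Q)) = (SOsub (⇑Q)).map (Phi (⇑Q)) := by
  apply le_antisymm
  · rintro _ ⟨g, hg, rfl⟩
    obtain ⟨c, h, hh, rfl⟩ := exists_SO_of_chi_ker hQ hQ0 hm h2 g hg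
    refine ⟨h, hh, ?_⟩
    rw [map_mul, MonoidHom.mem_ker.1 (scal_le_ker ⟨c, rfl⟩), one_mul]
  · exact Subgroup.map_mono (SO_le_chi_ker hQ hQ0 hm h2)

theorem ker_le_chi_ker (hQ : (QuadraticMap.polarBilin Q).Nondegenerate) (hQ0 : ∃ v, Q v ≠ 0)
    {m : ℕ} (hm : Fintype.card ι = 2 * m) (h2 : (2 : F) ≠ 0) (hn : 7 ≤ Fintype.card ι) :
    (Phi (⇑Q)).ker ≤ (chi hQ hQ0 hm h2).ker := by
  rw [ker_eq hQ hn]
  exact scal_le_chi_ker hQ hQ0 hm h2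

end Cfsg.Agent.Lib.Helper5.PGO
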