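import Mathlib
import Cfsg.Agent.Lib.Helper5.PGO7

set_option autoImplicit false

/-! `PGO / PSO` is a Klein four group (even dimension, odd characteristic) provided the
character `chi` is onto. -/

namespace Cfsg.Agent.Lib.Helper5.PGO

open Matrix

instance kleinIntUnits : IsKleinFour (ℤˣ × ℤˣ) where
  card_four := by
    rw [Nat.card_prod, Nat.card_eq_fintype_card, Fintype.card_units_int]
  exponent_two := by
    apply Nat.dvd_antisymm
    · apply Monoid.exponent_dvd_of_forall_pow_eq_one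
      rintro ⟨a, b⟩
      rw [Prod.pow_mk, Prod.mk_eq_one]
      exact ⟨Int.units_sq a, Int.units_sq b⟩
    · have h := Monoid.order_dvd_exponent ((-1, 1) : ℤˣ × ℤˣ)
      have h2 : orderOf ((-1, 1) : ℤˣ × ℤˣ) = 2 := by
        rw [orderOf_eq_iff (by norm_num)]
        refine ⟨by decide, ?_⟩
        intro m hm hm0
        have : m = 1 := by omega
        subst this
        decide
      rw [h2] at h
      exact h

/-- transport along an isomorphism of the target -/
theorem exists_hom_congr {G B B' : Type*} [Group G] [Group B] [Group B'] (e : B ≃* B')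
    (K : Subgroup G) (h : ∃ φ : G →* B, Function.Surjective φ ∧ φ.ker = K) :
    ∃ φ : G →* B', Function.Surjective φ ∧ φ.ker = K := by
  obtain ⟨φ, hs, hk⟩ := h
  refine ⟨e.toMonoidHom.comp φ, e.surjective.comp hs, ?_⟩
  rw [← hk]
  ext x
  rw [MonoidHom.mem_ker, MonoidHom.mem_ker, MonoidHom.comp_apply]
  exact e.map_eq_one_iff

variable {F : Type*} [Field F] [Fintype F] {ι : Type} [Fintype ι] [DecidableEq ι]
variable {Q : QuadraticForm F (ι → F)}

theorem klein_of_chi_surj (hQ : (QuadraticMap.polarBilin Q).Nondegenerate) (hQ0 : ∃ v, Q v ≠ 0)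
    {m : ℕ} (hm : Fintype.card ι = 2 * m) (h2 : (2 : F) ≠ 0) (hn : 7 ≤ Fintype.card ι)
    (hsurj : Function.Surjective (chi hQ hQ0 hm h2)) :
    ∃ φ : ↥(Cfsg.pgoAut F (⇑Q)) →* Multiplicative (ZMod 2 × ZMod 2),
      Function.Surjective φ ∧
        φ.ker = (Cfsg.psoAut F (⇑Q)).subgroupOf (Cfsg.pgoAut F (⇑Q)) := by
  rw [pgoAut_eq, psoAut_eq]
  obtain ⟨e⟩ := IsKleinFour.nonempty_mulEquiv (G₁ := ℤˣ × ℤˣ)
    (G₂ := Multiplicative (ZMod 2 × ZMod 2))
  apply exists_hom_congr e
  obtain ⟨φ, hs, -, hk⟩ := exists_lift_range (Phi (⇑Q)) (chi hQ hQ0 hm h2) hsurj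
    (ker_le_chi_ker hQ hQ0 hm h2 hn)
  refine ⟨φ, hs, ?_⟩
  rw [hk, chi_ker_map]

end Cfsg.Agent.Lib.Helper5.PGO
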