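import Mathlib
import Cfsg.Agent.Lib.Helper5.PGO8
import Cfsg.Agent.Lib.Helper2.QuadStd

set_option autoImplicit false

/-! Surjectivity of `chi` for the plus type forms. -/

namespace Cfsg.Agent.Lib.Helper5.PGO

open Matrix Cfsg.Agent.Lib.Helper2 Cfsg.Agent.Lib.Helper2.CDG
open Cfsg.Agent.Lib.Helper5.QuadGlue Cfsg.Agent.Lib.Helper2.QuadStd

section Generic

variable {G : Type*} [Group G]

theorem surj_of_mem (χ : G →* ℤˣ × ℤˣ) (x y : G) (hx : χ x = (-1, 1)) (hy : χ y = (1, -1)) :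
    Function.Surjective χ := by
  rintro ⟨a, b⟩
  rcases Int.units_eq_one_or a with rfl | rfl <;> rcases Int.units_eq_one_or b with rfl | rfl
  · exact ⟨1, map_one χ⟩
  · exact ⟨y, hy⟩
  · exact ⟨x, hx⟩
  · refine ⟨x * y, ?_⟩
    rw [map_mul, hx, hy]
    rfl

end Generic

variable {F : Type*} [Field F] [Fintype F] {ι : Type} [Fintype ι] [DecidableEq ι]
variable {Q : QuadraticForm F (ι → F)}

theorem chi_refl (hQ : (QuadraticMap.polarBilin Q).Nondegenerate) (hQ0 : ∃ v, Q v ≠ 0)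
    {m : ℕ} (hm : Fintype.card ι = 2 * m) (h2 : (2 : F) ≠ 0) (u : ι → F) (hu : Q u ≠ 0) :
    chi hQ hQ0 hm h2 (incl (⇑Q) (refl Q u hu)) = (1, -1) := by
  have hmu : mu (⇑Q) (incl (⇑Q) (refl Q u hu)) = 1 := mu_of_iso hQ0 _ (refl Q u hu).2
  have h1 : chi1 Q hQ0 (incl (⇑Q) (refl Q u hu)) = 1 := by
    rw [chi1_eq_one_iff, hmu, Units.val_one]
    exact ⟨1, by ring⟩
  have h3 : chi2 hQ hQ0 hm h2 (incl (⇑Q) (refl Q u hu)) ≠ 1 := by
    rw [Ne, chi2_eq_one_iff, epsHom_apply, hmu, one_pow, inv_one, mul_one]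
    intro h
    have := congrArg Units.val h
    rw [detGO_coe, incl_coe, det_refl, Units.val_one] at this
    apply h2
    linear_combination -this
  unfold chi
  rw [MonoidHom.prod_apply, h1]
  rcases Int.units_eq_one_or (chi2 hQ hQ0 hm h2 (incl (⇑Q) (refl Q u hu))) with h | h
  · exact absurd h h3
  · rw [h]

/-- a similarity with non-square multiplier and `det = μ^m` gives `(-1, 1)` -/
theorem chi_of_nonsquare (hQ : (QuadraticMap.polarBilin Q).Nondegenerate) (hQ0 : ∃ v, Q v ≠ 0)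
    {m : ℕ} (hm : Fintype.card ι = 2 * m) (h2 : (2 : F) ≠ 0) (g : ↥(GO (⇑Q))) (ν : Fˣ)
    (hν : ¬ IsSquare (ν : F)) (hg : ∀ v, Q (((g : GL ι F) : Matrix ι ι F) *ᵥ v) = (ν : F) * Q v)
    (hdet : ((g : GL ι F) : Matrix ι ι F).det = (ν : F) ^ m) :
    chi hQ hQ0 hm h2 g = (-1, 1) := by
  have hmu : mu (⇑Q) g = ν := Units.ext (mu_unique hQ0 g ν hg)
  have h1 : chi1 Q hQ0 g ≠ 1 := by
    rw [Ne, chi1_eq_one_iff, hmu]
    exact hν
  have h3 : chi2 hQ hQ0 hm h2 g = 1 := by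
    rw [chi2_eq_one_iff, epsHom_apply, hmu]
    apply Units.ext
    rw [Units.val_mul, detGO_coe, hdet, ← Units.val_pow_eq_pow_val, ← Units.val_mul,
      mul_inv_cancel]
  unfold chi
  rw [MonoidHom.prod_apply, h3]
  rcases Int.units_eq_one_or (chi1 Q hQ0 g) with h | h
  · exact absurd h h1
  · rw [h]

/-- the diagonal similarity of the hyperbolic form with multiplier `ν` -/
noncomputable def dnu (m : ℕ) (ν : Fˣ) : GL (Fin m ⊕ Fin m) F :=
  Matrix.GeneralLinearGroup.mkOfDetNeZero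
    (Matrix.diagonal (Sum.elim (fun _ => (ν : F)) (fun _ => 1)))
    (by
      rw [Matrix.det_diagonal, Fintype.prod_sum_type]
      simp)

theorem dnu_coe (m : ℕ) (ν : Fˣ) : ((dnu m ν : GL (Fin m ⊕ Fin m) F) : Matrix (Fin m ⊕ Fin m) (Fin m ⊕ Fin m) F) =
    Matrix.diagonal (Sum.elim (fun _ => (ν : F)) (fun _ => 1)) := rfl

theorem dnu_det (m : ℕ) (ν : Fˣ) :
    ((dnu m ν : GL (Fin m ⊕ Fin m) F) : Matrix (Fin m ⊕ Fin m) (Fin m ⊕ Fin m) F).det = (ν : F) ^ m := by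
  rw [dnu_coe, Matrix.det_diagonal, Fintype.prod_sum_type]
  simp

theorem dnu_sim (m : ℕ) (ν : Fˣ) (v : Fin m ⊕ Fin m → F) :
    QP m F (((dnu m ν : GL (Fin m ⊕ Fin m) F) : Matrix (Fin m ⊕ Fin m) (Fin m ⊕ Fin m) F) *ᵥ v) = (ν : F) * QP m F v := by
  rw [QP_apply, QP_apply, dnu_coe]
  unfold Cfsg.quadFormPlus
  rw [Finset.mul_sum]
  apply Finset.sum_congr rfl
  intro i _
  rw [Matrix.mulVec_diagonal, Matrix.mulVec_diagonal]
  simp only [Sum.elim_inl, Sum.elim_inr]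
  ring

theorem dnu_mem (m : ℕ) (ν : Fˣ) : dnu m ν ∈ GO (⇑(QP m F)) := ⟨ν, dnu_sim m ν⟩

theorem QP_ne_zero {m : ℕ} (hm : 1 ≤ m) : ∃ v, QP m F v ≠ 0 := by
  refine ⟨Pi.single (Sum.inl ⟨0, hm⟩) 1 + Pi.single (Sum.inr ⟨0, hm⟩) 1, ?_⟩
  rw [QP_apply]
  unfold Cfsg.quadFormPlus
  rw [Finset.sum_eq_single (⟨0, hm⟩ : Fin m)]
  · simp
  · intro b _ hb
    simp [hb]
  · intro h
    exact absurd (Finset.mem_univ _) h

theorem card_plus (m : ℕ) : Fintype.card (Fin m ⊕ Fin m) = 2 * m := by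
  rw [Fintype.card_sum, Fintype.card_fin, two_mul]

theorem exists_nonsquare_unit (h2 : (2 : F) ≠ 0) : ∃ ν : Fˣ, ¬ IsSquare (ν : F) := by
  obtain ⟨d, hd⟩ := Spinor.exists_nonsquare' h2
  have hd0 : d ≠ 0 := by
    rintro rfl
    exact hd ⟨0, by ring⟩
  exact ⟨Units.mk0 d hd0, hd⟩

theorem chi_surj_plus {m : ℕ} (hm : 1 ≤ m) (h2 : (2 : F) ≠ 0) :
    Function.Surjective (chi (QP_nondeg (F := F) m) (QP_ne_zero hm) (card_plus m) h2) := by
  obtain ⟨ν, hν⟩ := exists_nonsquare_unit h2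
  obtain ⟨u, hu⟩ := QP_ne_zero (F := F) hm
  exact surj_of_mem _ ⟨dnu m ν, dnu_mem m ν⟩ (incl _ (refl (QP m F) u hu))
    (chi_of_nonsquare _ _ _ h2 ⟨dnu m ν, dnu_mem m ν⟩ ν hν (dnu_sim m ν) (dnu_det m ν))
    (chi_refl _ _ _ h2 u hu)

/-- `PGO⁺ / PSO⁺` is a Klein four group -/
theorem klein_plus {m : ℕ} (hm : 4 ≤ m) (h2 : (2 : F) ≠ 0) :
    ∃ φ : ↥(Cfsg.pgoAut F (⇑(QP m F))) →* Multiplicative (ZMod 2 × ZMod 2),
      Function.Surjective φ ∧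
        φ.ker = (Cfsg.psoAut F (⇑(QP m F))).subgroupOf (Cfsg.pgoAut F (⇑(QP m F))) :=
  klein_of_chi_surj (QP_nondeg m) (QP_ne_zero (by omega)) (card_plus m) h2
    (by rw [card_plus]; omega) (chi_surj_plus (by omega) h2)

theorem two_ne_zero_of_odd_card (hodd : Odd (Fintype.card F)) : (2 : F) ≠ 0 := by
  apply Ring.two_ne_zero
  intro h
  have h5 := (FiniteField.even_card_iff_char_two).1 h
  rw [Nat.odd_iff] at hodd
  omega

end Cfsg.Agent.Lib.Helper5.PGO
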