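import Mathlib
import Cfsg.Agent.Lib.Helper5.PGO9
import Cfsg.Agent.Lib.Helper2.OrthCard1
import Cfsg.Agent.Lib.Helper2.NormClass1

set_option autoImplicit false

/-! Surjectivity of `chi` for the minus type forms. -/

namespace Cfsg.Agent.Lib.Helper5.PGO

open Matrix Cfsg.Agent.Lib.Helper2 Cfsg.Agent.Lib.Helper2.CDG
open Cfsg.Agent.Lib.Helper5.QuadGlue Cfsg.Agent.Lib.Helper2.QuadStd
open Cfsg.Agent.Lib.Helper2.OrthCard

variable {F : Type*} [Field F] [Fintype F]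

/-- the matrix of multiplication by `α + β ω` on the binary norm form -/
def normMat (a b α β : F) : Matrix (Fin 2) (Fin 2) F := !![α, -(b * β); β, α + a * β]

theorem normMat_det (a b α β : F) :
    (normMat a b α β).det = α ^ 2 + a * α * β + b * β ^ 2 := by
  unfold normMat
  rw [Matrix.det_fin_two_of]
  ring

/-- the block diagonal similarity matrix of the minus type form -/
def dnuMinusMat (m : ℕ) (a b ν α β : F) :
    Matrix ((Fin m ⊕ Fin m) ⊕ Fin 2) ((Fin m ⊕ Fin m) ⊕ Fin 2) F :=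
  Matrix.fromBlocks (Matrix.diagonal (Sum.elim (fun _ => ν) (fun _ => 1))) 0 0 (normMat a b α β)

theorem dnuMinusMat_det (m : ℕ) (a b ν α β : F) (h : α ^ 2 + a * α * β + b * β ^ 2 = ν) :
    (dnuMinusMat m a b ν α β).det = ν ^ (m + 1) := by
  unfold dnuMinusMat
  rw [Matrix.det_fromBlocks_zero₂₁, Matrix.det_diagonal, Fintype.prod_sum_type, normMat_det, h]
  simp [pow_succ]

theorem dnuMinusMat_sim (m : ℕ) (a b ν α β : F) (h : α ^ 2 + a * α * β + b * β ^ 2 = ν)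
    (v : (Fin m ⊕ Fin m) ⊕ Fin 2 → F) :
    Cfsg.quadFormMinus m F a b (dnuMinusMat m a b ν α β *ᵥ v) =
      ν * Cfsg.quadFormMinus m F a b v := by
  have hv : v = Sum.elim (v ∘ Sum.inl) (v ∘ Sum.inr) := (Sum.elim_comp_inl_inr v).symm
  have h1 : ∀ i : Fin m ⊕ Fin m, (dnuMinusMat m a b ν α β *ᵥ v) (Sum.inl i) =
      (Sum.elim (fun _ => ν) (fun _ => 1) : Fin m ⊕ Fin m → F) i * v (Sum.inl i) := by
    intro i
    unfold dnuMinusMat
    rw [hv, Matrix.fromBlocks_mulVec]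
    simp [Matrix.mulVec_diagonal]
  have h2 : ∀ k : Fin 2, (dnuMinusMat m a b ν α β *ᵥ v) (Sum.inr k) =
      (normMat a b α β *ᵥ (v ∘ Sum.inr)) k := by
    intro k
    unfold dnuMinusMat
    rw [hv, Matrix.fromBlocks_mulVec]
    simp
  unfold Cfsg.quadFormMinus
  rw [h2 0, h2 1]
  simp only [h1, Sum.elim_inl, Sum.elim_inr]
  unfold normMat
  simp only [Matrix.mulVec, dotProduct, Fin.sum_univ_two, Matrix.of_apply, Matrix.cons_val',
    Matrix.cons_val_zero, Matrix.cons_val_one, Function.comp_apply,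
    Matrix.cons_val_fin_one]
  rw [mul_add ν, Finset.mul_sum]
  congr 1
  · apply Finset.sum_congr rfl
    intro i _
    ring
  · rw [← h]
    ring

theorem card_minus (m : ℕ) : Fintype.card ((Fin m ⊕ Fin m) ⊕ Fin 2) = 2 * (m + 1) := by
  rw [Fintype.card_sum, Fintype.card_sum, Fintype.card_fin, Fintype.card_fin]
  ring

theorem QMn_ne_zero (m : ℕ) (a b : F) : ∃ v, QMn m a b v ≠ 0 := by
  refine ⟨Pi.single (Sum.inr 0) 1, ?_⟩
  rw [QMn_coe]
  unfold Cfsg.quadFormMinus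
  simp

theorem exists_norm (h2 : (2 : F) ≠ 0) (a b : F)
    (hab : ∀ z₁ z₂ : F, z₁ ^ 2 + a * z₁ * z₂ + b * z₂ ^ 2 = 0 → z₁ = 0 ∧ z₂ = 0) (ν : F) :
    ∃ α β : F, α ^ 2 + a * α * β + b * β ^ 2 = ν := by
  have hD := OrthSum.disc_ne_zero a b hab
  obtain ⟨s, t, h⟩ := NormClass.binary_universal h2 (A := 1) (B := a) (C := b) one_ne_zero
    (by rw [mul_one]; exact hD) ν
  exact ⟨s, t, by rw [← h]; ring⟩

theorem chi_surj_minus (m : ℕ) (h2 : (2 : F) ≠ 0) (a b : F)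
    (hab : ∀ z₁ z₂ : F, z₁ ^ 2 + a * z₁ * z₂ + b * z₂ ^ 2 = 0 → z₁ = 0 ∧ z₂ = 0) :
    Function.Surjective (chi (QMn_nondeg m a b hab) (QMn_ne_zero m a b) (card_minus m) h2) := by
  obtain ⟨ν, hν⟩ := exists_nonsquare_unit h2
  obtain ⟨u, hu⟩ := QMn_ne_zero (F := F) m a b
  obtain ⟨α, β, hαβ⟩ := exists_norm h2 a b hab (ν : F)
  have hdet : (dnuMinusMat m a b (ν : F) α β).det ≠ 0 := by
    rw [dnuMinusMat_det m a b ν α β hαβ]
    exact pow_ne_zero _ ν.ne_zero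
  set g : GL ((Fin m ⊕ Fin m) ⊕ Fin 2) F :=
    Matrix.GeneralLinearGroup.mkOfDetNeZero (dnuMinusMat m a b (ν : F) α β) hdet with hg
  have hsim : ∀ v, QMn m a b ((g : Matrix ((Fin m ⊕ Fin m) ⊕ Fin 2) ((Fin m ⊕ Fin m) ⊕ Fin 2) F) *ᵥ v)
      = (ν : F) * QMn m a b v := by
    intro v
    rw [QMn_coe]
    exact dnuMinusMat_sim m a b ν α β hαβ v
  have hmem : g ∈ GO (⇑(QMn m a b)) := ⟨ν, hsim⟩
  exact surj_of_mem _ ⟨g, hmem⟩ (incl _ (refl (QMn m a b) u hu))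
    (chi_of_nonsquare _ _ _ h2 ⟨g, hmem⟩ ν hν hsim (dnuMinusMat_det m a b ν α β hαβ))
    (chi_refl _ _ _ h2 u hu)

/-- `PGO⁻ / PSO⁻` is a Klein four group -/
theorem klein_minus {m : ℕ} (hm : 3 ≤ m) (h2 : (2 : F) ≠ 0) (a b : F)
    (hab : ∀ z₁ z₂ : F, z₁ ^ 2 + a * z₁ * z₂ + b * z₂ ^ 2 = 0 → z₁ = 0 ∧ z₂ = 0) :
    ∃ φ : ↥(Cfsg.pgoAut F (⇑(QMn m a b))) →* Multiplicative (ZMod 2 × ZMod 2),
      Function.Surjective φ ∧
        φ.ker = (Cfsg.psoAut F (⇑(QMn m a b))).subgroupOf (Cfsg.pgoAut F (⇑(QMn m a b))) :=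
  klein_of_chi_surj (QMn_nondeg m a b hab) (QMn_ne_zero m a b) (card_minus m) h2
    (by rw [card_minus]; omega) (chi_surj_minus m h2 a b hab)

end Cfsg.Agent.Lib.Helper5.PGO
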