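import Mathlib
import Cfsg.Agent.Lib.Helper5.PGO9
import Cfsg.Agent.Lib.Helper2.Spinor6

set_option autoImplicit false

/-! The index of `Inn(PΩ)` in the image of the special orthogonal group (even dimension, odd
characteristic): `1` if `-1 ∉ Ω` and `2` if `-1 ∈ Ω`. -/

namespace Cfsg.Agent.Lib.Helper5.PGO

open Matrix Cfsg.Agent.Lib.Helper2 Cfsg.Agent.Lib.Helper2.CDG Cfsg.Agent.Lib.Helper2.Spinor

variable {F : Type*} [Field F] [Fintype F] [DecidableEq F] {ι : Type} [Fintype ι] [DecidableEq ι]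
variable {Q : QuadraticForm F (ι → F)}

theorem incl_negOne : incl (⇑Q) (negOne Q) = scalGO Q (-1) := by
  apply Subtype.ext
  apply Units.ext
  rw [incl_coe, negOne_coe, scalGO_coe, scalHom_coe, Units.val_neg, Units.val_one, map_neg,
    map_one]

theorem Phi_incl_negOne : Phi (⇑Q) (incl (⇑Q) (negOne Q)) = 1 := by
  rw [incl_negOne]
  exact MonoidHom.mem_ker.1 (scal_le_ker ⟨-1, rfl⟩)

/-- an element of `SOsub` as an isometry -/
def toO (Q : QuadraticForm F (ι → F)) : ↥(SOsub (⇑Q)) →* ↥(Cfsg.isometryGroup F ⇑Q) where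
  toFun g := ⟨((g : ↥(GO (⇑Q))) : GL ι F), g.2.1⟩
  map_one' := rfl
  map_mul' _ _ := rfl

theorem incl_toO (g : ↥(SOsub (⇑Q))) : incl (⇑Q) (toO Q g) = (g : ↥(GO (⇑Q))) := rfl

theorem det_toO (g : ↥(SOsub (⇑Q))) :
    Matrix.GeneralLinearGroup.det ((toO Q g : ↥(Cfsg.isometryGroup F ⇑Q)) : GL ι F) = 1 := g.2.2

theorem mem_comm_iff_of_det (h2 : (2 : F) ≠ 0) (hQ : (QuadraticMap.polarBilin Q).Nondegenerate)
    (hn : 2 ≤ Fintype.card ι) (h : ↥(Cfsg.isometryGroup F ⇑Q))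
    (hdet : Matrix.GeneralLinearGroup.det (h : GL ι F) = 1) :
    h ∈ commutator ↥(Cfsg.isometryGroup F ⇑Q) ↔ levSign Q 1 h = 1 := by
  rw [mem_commutator_iff h2 hQ hn]
  unfold Spinor.Phi
  rw [MonoidHom.prod_apply, Prod.mk_eq_one]
  constructor
  · exact fun h => h.2
  · exact fun h => ⟨hdet, h⟩

theorem det_of_mem_comm (h2 : (2 : F) ≠ 0) (hQ : (QuadraticMap.polarBilin Q).Nondegenerate)
    (hn : 2 ≤ Fintype.card ι) (h : ↥(Cfsg.isometryGroup F ⇑Q))
    (hh : h ∈ commutator ↥(Cfsg.isometryGroup F ⇑Q)) :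
    Matrix.GeneralLinearGroup.det (h : GL ι F) = 1 := by
  rw [mem_commutator_iff h2 hQ hn] at hh
  unfold Spinor.Phi at hh
  rw [MonoidHom.prod_apply, Prod.mk_eq_one] at hh
  exact hh.1

theorem Om_le_SO (h2 : (2 : F) ≠ 0) (hQ : (QuadraticMap.polarBilin Q).Nondegenerate)
    (hn : 2 ≤ Fintype.card ι) : Omsub (⇑Q) ≤ SOsub (⇑Q) := by
  rintro _ ⟨s, hs, rfl⟩
  exact ⟨s.2, det_of_mem_comm h2 hQ hn s hs⟩

/-- if `-1 ∉ Ω` then the image of `SO` is `Inn(PΩ)` -/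
theorem relIndex_of_not_mem (h2 : (2 : F) ≠ 0) (hQ : (QuadraticMap.polarBilin Q).Nondegenerate)
    (hn : 2 ≤ Fintype.card ι) (he : Even (Fintype.card ι))
    (hneg : negOne Q ∉ commutator ↥(Cfsg.isometryGroup F ⇑Q)) :
    (Cfsg.Inn (Cfsg.POmega F (⇑Q))).relIndex (Cfsg.psoAut F (⇑Q)) = 1 := by
  rw [Subgroup.relIndex_eq_one, psoAut_eq, inn_eq]
  rintro _ ⟨g, hg, rfl⟩
  have hdet := det_toO ⟨g, hg⟩
  have hnegS : levSign Q 1 (negOne Q) ≠ 1 := by
    intro h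
    exact hneg ((mem_comm_iff_of_det h2 hQ hn _ (det_negOne he)).2 h)
  by_cases hmem : toO Q ⟨g, hg⟩ ∈ commutator ↥(Cfsg.isometryGroup F ⇑Q)
  · exact ⟨incl (⇑Q) (toO Q ⟨g, hg⟩), ⟨_, hmem, rfl⟩, rfl⟩
  · have hS : levSign Q 1 (toO Q ⟨g, hg⟩) ≠ 1 := by
      intro h
      exact hmem ((mem_comm_iff_of_det h2 hQ hn _ hdet).2 h)
    have h1 : levSign Q 1 (negOne Q * toO Q ⟨g, hg⟩) = 1 := by
      rw [map_mul]
      rcases Int.units_eq_one_or (levSign Q 1 (negOne Q)) with h | h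
      · exact absurd h hnegS
      · rcases Int.units_eq_one_or (levSign Q 1 (toO Q ⟨g, hg⟩)) with h' | h'
        · exact absurd h' hS
        · rw [h, h']; rfl
    have h3 : negOne Q * toO Q ⟨g, hg⟩ ∈ commutator ↥(Cfsg.isometryGroup F ⇑Q) := by
      rw [mem_comm_iff_of_det h2 hQ hn]
      · exact h1
      · rw [Subgroup.coe_mul, map_mul, det_negOne he, hdet, one_mul]
    refine ⟨incl (⇑Q) (negOne Q * toO Q ⟨g, hg⟩), ⟨_, h3, rfl⟩, ?_⟩
    rw [map_mul, map_mul, Phi_incl_negOne, one_mul]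
    rfl

/-- an element of `SO` with non-trivial spinor norm -/
theorem exists_SO_levSign (h2 : (2 : F) ≠ 0) (hQ : (QuadraticMap.polarBilin Q).Nondegenerate)
    (hn : 2 ≤ Fintype.card ι) :
    ∃ g : ↥(SOsub (⇑Q)), levSign Q 1 (toO Q g) = -1 := by
  obtain ⟨ν, hν⟩ := exists_nonsquare_unit (F := F) h2
  obtain ⟨u, hu⟩ := exists_value hQ hn 1 one_ne_zero
  obtain ⟨w, hw⟩ := exists_value hQ hn (ν : F) ν.ne_zero
  have hu0 : Q u ≠ 0 := by rw [hu]; exact one_ne_zero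
  have hw0 : Q w ≠ 0 := by rw [hw]; exact ν.ne_zero
  have hmem : incl (⇑Q) (refl Q u hu0 * refl Q w hw0) ∈ SOsub (⇑Q) := by
    refine ⟨(refl Q u hu0 * refl Q w hw0).2, ?_⟩
    show Matrix.GeneralLinearGroup.det
      ((refl Q u hu0 * refl Q w hw0 : ↥(Cfsg.isometryGroup F ⇑Q)) : GL ι F) = 1
    apply Units.ext
    rw [Subgroup.coe_mul, map_mul, Units.val_mul, Matrix.GeneralLinearGroup.val_det_apply,
      Matrix.GeneralLinearGroup.val_det_apply, det_refl, det_refl, Units.val_one]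
    ring
  refine ⟨⟨_, hmem⟩, ?_⟩
  have h1 : toO Q ⟨_, hmem⟩ = refl Q u hu0 * refl Q w hw0 := rfl
  rw [h1, map_mul, levSign_refl h2 one_ne_zero, levSign_refl h2 one_ne_zero,
    if_pos ⟨1, by rw [hu]; ring⟩, if_neg]
  · rfl
  · rintro ⟨t, ht⟩
    rw [hw] at ht
    have ht0 : t ≠ 0 := by
      rintro rfl
      rw [mul_zero, zero_mul] at ht
      exact zero_ne_one ht
    apply hν
    refine ⟨t⁻¹, ?_⟩
    field_simp
    linear_combination ht

/-- if `-1 ∈ Ω` then `Inn(PΩ)` has index two in the image of `SO` -/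
theorem relIndex_of_mem (h2 : (2 : F) ≠ 0) (hQ : (QuadraticMap.polarBilin Q).Nondegenerate)
    (hn : 7 ≤ Fintype.card ι)
    (hneg : negOne Q ∈ commutator ↥(Cfsg.isometryGroup F ⇑Q)) :
    (Cfsg.Inn (Cfsg.POmega F (⇑Q))).relIndex (Cfsg.psoAut F (⇑Q)) = 2 := by
  have hn2 : 2 ≤ Fintype.card ι := by omega
  have hQ0 : ∃ v, Q v ≠ 0 := by
    obtain ⟨u, hu⟩ := exists_value hQ hn2 1 one_ne_zero
    exact ⟨u, by rw [hu]; exact one_ne_zero⟩
  set Φ' : ↥(SOsub (⇑Q)) →* MulAut (Cfsg.POmega F (⇑Q)) :=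
    (Phi (⇑Q)).comp (SOsub (⇑Q)).subtype with hΦ'
  set σ' : ↥(SOsub (⇑Q)) →* ℤˣ := (levSign Q 1).comp (toO Q) with hσ'
  have hsurj : Function.Surjective σ' := by
    obtain ⟨g, hg⟩ := exists_SO_levSign h2 hQ hn2
    intro x
    rcases Int.units_eq_one_or x with rfl | rfl
    · exact ⟨1, map_one _⟩
    · exact ⟨g, hg⟩
  have hker : Φ'.ker ≤ σ'.ker := by
    intro g hg
    rw [MonoidHom.mem_ker] at hg ⊢
    have hg' : (g : ↥(GO (⇑Q))) ∈ (Phi (⇑Q)).ker := hg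
    rw [ker_eq hQ hn] at hg'
    obtain ⟨c, hc⟩ := hg'
    have hmu : mu (⇑Q) (g : ↥(GO (⇑Q))) = 1 := mu_of_iso hQ0 _ g.2.1
    rw [← hc, mu_scal hQ0] at hmu
    have hc2 : ((c : F) - 1) * ((c : F) + 1) = 0 := by
      have := congrArg Units.val hmu
      rw [Units.val_mul, Units.val_one] at this
      linear_combination this
    have hto : toO Q g = 1 ∨ toO Q g = negOne Q := by
      rcases mul_eq_zero.1 hc2 with h | h
      · left
        have hc1 : c = 1 := Units.ext (by rw [Units.val_one]; linear_combination h)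
        apply Subtype.ext
        show ((g : ↥(GO (⇑Q))) : GL ι F) = 1
        rw [← hc, hc1, map_one]
        rfl
      · right
        have hc1 : c = -1 := Units.ext (by rw [Units.val_neg, Units.val_one]; linear_combination h)
        apply Subtype.ext
        show ((g : ↥(GO (⇑Q))) : GL ι F) = (negOne Q : GL ι F)
        rw [← hc, hc1, ← incl_negOne]
        rfl
    show levSign Q 1 (toO Q g) = 1
    rcases hto with h | h
    · rw [h, map_one]
    · rw [h]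
      have := (mem_commutator_iff h2 hQ hn2 _).1 hneg
      unfold Spinor.Phi at this
      rw [MonoidHom.prod_apply, Prod.mk_eq_one] at this
      exact this.2
  obtain ⟨φ, hφs, -, hφk⟩ := exists_lift_range Φ' σ' hsurj hker
  have hrange : Φ'.range = Cfsg.psoAut F (⇑Q) := by
    rw [psoAut_eq, hΦ', MonoidHom.range_comp, Subgroup.range_subtype]
  have hinn : σ'.ker.map Φ' = Cfsg.Inn (Cfsg.POmega F (⇑Q)) := by
    rw [inn_eq]
    apply le_antisymm
    · rintro _ ⟨g, hg, rfl⟩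
      have hg' : levSign Q 1 (toO Q g) = 1 := hg
      have hmem := (mem_comm_iff_of_det h2 hQ hn2 _ (det_toO g)).2 hg'
      exact ⟨incl (⇑Q) (toO Q g), ⟨_, hmem, rfl⟩, rfl⟩
    · rintro _ ⟨_, ⟨s, hs, rfl⟩, rfl⟩
      have hso : incl (⇑Q) s ∈ SOsub (⇑Q) := Om_le_SO h2 hQ hn2 ⟨s, hs, rfl⟩
      refine ⟨⟨incl (⇑Q) s, hso⟩, ?_, rfl⟩
      show levSign Q 1 (toO Q ⟨incl (⇑Q) s, hso⟩) = 1
      have : toO Q ⟨incl (⇑Q) s, hso⟩ = s := rfl
      rw [this]
      exact (mem_comm_iff_of_det h2 hQ hn2 s (det_of_mem_comm h2 hQ hn2 s hs)).1 hs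
  rw [← hrange, ← hinn]
  show ((σ'.ker.map Φ').subgroupOf Φ'.range).index = 2
  rw [← hφk, Subgroup.index_ker, MonoidHom.range_eq_top.2 hφs]
  rw [Nat.card_congr (Subgroup.topEquiv (G := ℤˣ)).toEquiv, Nat.card_eq_fintype_card,
    Fintype.card_units_int]

end Cfsg.Agent.Lib.Helper5.PGO
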