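import Mathlib
import Cfsg.Agent.Lib.Helper5.PGO11
import Cfsg.Agent.Lib.Helper5.PGO10
import Cfsg.Agent.S2610
import Cfsg.Agent.S2620
import Cfsg.Agent.S2621

set_option autoImplicit false

/-! When `-1` lies in `Ω` for the plus and minus type forms. -/

namespace Cfsg.Agent.Lib.Helper5.PGO

open Matrix Cfsg.Agent.Lib.Helper2 Cfsg.Agent.Lib.Helper2.CDG Cfsg.Agent.Lib.Helper2.Spinor
open Cfsg.Agent.Lib.Helper5.SpinorDiag Cfsg.Agent.Lib.Helper2.ReflGen
open Cfsg.Agent.Lib.Helper5.QuadGlue Cfsg.Agent.Lib.Helper2.QuadStd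
open Cfsg.Agent.Lib.Helper2.OrthCard

variable {F : Type*} [Field F] [Fintype F] [DecidableEq F] {ι : Type} [Fintype ι] [DecidableEq ι]
variable {Q : QuadraticForm F (ι → F)}

theorem negOne_mem_iff_disc (h2 : (2 : F) ≠ 0) (hn : 2 ≤ Fintype.card ι)
    (he : Even (Fintype.card ι)) (hQ : (QuadraticMap.polarBilin Q).Nondegenerate) :
    negOne Q ∈ commutator ↥(Cfsg.isometryGroup F ⇑Q) ↔
      IsSquare (Matrix.of (fun i j : ι =>
        QuadraticMap.polar ⇑Q (Pi.single i 1) (Pi.single j 1))).det := by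
  obtain ⟨b, hortho, hani⟩ := exists_orthogonal_basis (Q := Q) h2 hQ
  have hN : Module.finrank F (ι → F) = Fintype.card ι := Module.finrank_fintype_fun_eq_card F
  have hG : (Matrix.of (fun i j : ι => QuadraticMap.polar ⇑Q (Pi.single i 1) (Pi.single j 1))) =
      LinearMap.BilinForm.toMatrix (Pi.basisFun F ι) (QuadraticMap.polarBilin Q) := by
    ext i j
    rw [LinearMap.BilinForm.toMatrix_apply, Pi.basisFun_apply, Pi.basisFun_apply]
    rfl
  have hD : LinearMap.BilinForm.toMatrix b (QuadraticMap.polarBilin Q) =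
      Matrix.diagonal (fun i => 2 * Q (b i)) := by
    ext i j
    rw [LinearMap.BilinForm.toMatrix_apply, Matrix.diagonal_apply]
    by_cases hij : i = j
    · subst hij
      rw [if_pos rfl]
      exact polar_self Q (b i)
    · rw [if_neg hij]
      exact hortho i j hij
  obtain ⟨u, hu, hdet⟩ := PlusType.det_change_basis (QuadraticMap.polarBilin Q) b (Pi.basisFun F ι)
  rw [← hG, hD, Matrix.det_diagonal, Finset.prod_mul_distrib, Finset.prod_const, Finset.card_univ,
    Fintype.card_fin] at hdet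
  obtain ⟨k, hk⟩ := he
  have h2pow : (2 : F) ^ Module.finrank F (ι → F) = (2 ^ k) ^ 2 := by
    rw [hN, hk, ← two_mul, pow_mul']
  have hsq : IsSquare (Matrix.of (fun i j : ι =>
      QuadraticMap.polar ⇑Q (Pi.single i 1) (Pi.single j 1))).det ↔ IsSquare (∏ i, Q (b i)) := by
    rw [hdet, h2pow, ← mul_assoc, ← mul_pow]
    exact Cfsg.Agent.S2610.isSquare_sq_mul (mul_ne_zero hu (pow_ne_zero _ h2))
  rw [hsq]
  have hprod := Cfsg.Agent.S2610.prod_eq_neg_one (Q := Q) b hortho hani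
  have hvs : ∀ v ∈ (List.finRange (Module.finrank F (ι → F))).map (fun i => b i), Q v ≠ 0 := by
    intro v hv
    rw [List.mem_map] at hv
    obtain ⟨i, -, rfl⟩ := hv
    exact hani i
  have hcrit := criterion (Q := Q) h2 hQ hn (negOne Q)
    ((List.finRange (Module.finrank F (ι → F))).map (fun i => b i)) hvs
    (by rw [negOne_coe, hprod])
  have hlen : ((List.finRange (Module.finrank F (ι → F))).map (fun i => b i)).length =
      Module.finrank F (ι → F) := by
    rw [List.length_map, List.length_finRange]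
  have hpr : (((List.finRange (Module.finrank F (ι → F))).map (fun i => b i)).map
      (fun v => Q v)).prod = ∏ i, Q (b i) := by
    rw [List.map_map, Fin.prod_univ_def]
    rfl
  rw [hcrit, hpr, hlen]
  have hev : Even (Module.finrank F (ι → F)) := ⟨k, by rw [hN, hk]⟩
  constructor
  · exact fun h => h.2
  · exact fun h => ⟨hev, h⟩

theorem negOne_plus_iff {q : ℕ} (hF : Fintype.card F = q) (hq : Odd q) {m : ℕ} (hm : 1 ≤ m) :
    negOne (QP m F) ∈ commutator ↥(Cfsg.isometryGroup F ⇑(QP m F)) ↔ Even (m * (q - 1) / 2) := by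
  have h2 : (2 : F) ≠ 0 := two_ne_zero_of_odd_card (by rw [hF]; exact hq)
  rw [negOne_mem_iff_disc h2 (by rw [card_plus]; omega) (by rw [card_plus]; exact even_two_mul m)
    (QP_nondeg m)]
  have h := Cfsg.Agent.S2620.result hF hq hm (Pi.basisFun F (Fin m ⊕ Fin m))
  rw [← h, QP_coe]
  simp only [Pi.basisFun_apply]

theorem negOne_minus_iff {q : ℕ} (hF : Fintype.card F = q) (hq : Odd q) (m : ℕ) (a b : F)
    (hab : ∀ z₁ z₂ : F, z₁ ^ 2 + a * z₁ * z₂ + b * z₂ ^ 2 = 0 → z₁ = 0 ∧ z₂ = 0) :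
    negOne (QMn m a b) ∈ commutator ↥(Cfsg.isometryGroup F ⇑(QMn m a b)) ↔
      ¬ Even ((m + 1) * (q - 1) / 2) := by
  have h2 : (2 : F) ≠ 0 := two_ne_zero_of_odd_card (by rw [hF]; exact hq)
  rw [negOne_mem_iff_disc h2 (by rw [card_minus]; omega)
    (by rw [card_minus]; exact even_two_mul _) (QMn_nondeg m a b hab)]
  have h := Cfsg.Agent.S2621.result hF hq (m := m + 1) (by omega) a b hab
    (Pi.basisFun F ((Fin m ⊕ Fin m) ⊕ Fin 2))
  rw [← h, QMn_coe]
  simp only [Pi.basisFun_apply]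
  rfl

omit [Field F] [Fintype F] [DecidableEq F] in
theorem even_half_iff {q : ℕ} (hq : Odd q) (m : ℕ) :
    Even (m * (q - 1) / 2) ↔ ¬ (Odd m ∧ q % 4 = 3) := by
  obtain ⟨k, rfl⟩ := hq
  have h1 : m * (2 * k + 1 - 1) / 2 = m * k := by
    rw [Nat.add_sub_cancel, mul_left_comm, Nat.mul_div_cancel_left _ (by norm_num : 0 < 2)]
  rw [h1, Nat.even_mul]
  have h2 : (2 * k + 1) % 4 = 3 ↔ Odd k := by
    rw [Nat.odd_iff]
    omega
  rw [h2]
  constructor
  · rintro (h | h) ⟨hm, hk⟩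
    · exact (Nat.not_odd_iff_even.2 h) hm
    · exact (Nat.not_odd_iff_even.2 h) hk
  · intro h
    by_cases hm : Even m
    · exact Or.inl hm
    · right
      rw [← Nat.not_odd_iff_even]
      intro hk
      exact h ⟨Nat.not_even_iff_odd.1 hm, hk⟩

/-- the index of `Inn(PΩ⁺)` in the image of `SO⁺` -/
theorem relIndex_plus {q : ℕ} (hF : Fintype.card F = q) (hq : Odd q) {m : ℕ} (hm : 4 ≤ m) :
    ((Odd m ∧ q % 4 = 3) → (Cfsg.Inn (Cfsg.POmega F (⇑(QP m F)))).relIndex
      (Cfsg.psoAut F (⇑(QP m F))) = 1) ∧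
    (¬ (Odd m ∧ q % 4 = 3) → (Cfsg.Inn (Cfsg.POmega F (⇑(QP m F)))).relIndex
      (Cfsg.psoAut F (⇑(QP m F))) = 2) := by
  have h2 : (2 : F) ≠ 0 := two_ne_zero_of_odd_card (by rw [hF]; exact hq)
  have hiff := (negOne_plus_iff hF hq (by omega : 1 ≤ m)).trans (even_half_iff hq m)
  constructor
  · intro h
    apply relIndex_of_not_mem h2 (QP_nondeg m) (by rw [card_plus]; omega)
      (by rw [card_plus]; exact even_two_mul m)
    rw [hiff]
    exact fun h' => h' h
  · intro h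
    exact relIndex_of_mem h2 (QP_nondeg m) (by rw [card_plus]; omega) (hiff.2 h)

/-- the index of `Inn(PΩ⁻)` in the image of `SO⁻` -/
theorem relIndex_minus {q : ℕ} (hF : Fintype.card F = q) (hq : Odd q) {m : ℕ} (hm : 3 ≤ m)
    (a b : F) (hab : ∀ z₁ z₂ : F, z₁ ^ 2 + a * z₁ * z₂ + b * z₂ ^ 2 = 0 → z₁ = 0 ∧ z₂ = 0) :
    ((Even m ∧ q % 4 = 3) → (Cfsg.Inn (Cfsg.POmega F (⇑(QMn m a b)))).relIndex
      (Cfsg.psoAut F (⇑(QMn m a b))) = 2) ∧
    (¬ (Even m ∧ q % 4 = 3) → (Cfsg.Inn (Cfsg.POmega F (⇑(QMn m a b)))).relIndex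
      (Cfsg.psoAut F (⇑(QMn m a b))) = 1) := by
  have h2 : (2 : F) ≠ 0 := two_ne_zero_of_odd_card (by rw [hF]; exact hq)
  have hiff : negOne (QMn m a b) ∈ commutator ↥(Cfsg.isometryGroup F ⇑(QMn m a b)) ↔
      (Even m ∧ q % 4 = 3) := by
    rw [negOne_minus_iff hF hq m a b hab, even_half_iff hq (m + 1), not_not, Nat.odd_add_one,
      Nat.not_odd_iff_even]
  constructor
  · intro h
    exact relIndex_of_mem h2 (QMn_nondeg m a b hab) (by rw [card_minus]; omega) (hiff.2 h)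
  · intro h
    apply relIndex_of_not_mem h2 (QMn_nondeg m a b hab) (by rw [card_minus]; omega)
      (by rw [card_minus]; exact even_two_mul _)
    rw [hiff]
    exact h

end Cfsg.Agent.Lib.Helper5.PGO
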