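import Mathlib
import Cfsg.Agent.Lib.Helper1.DihedralIso

set_option autoImplicit false

/-! A quotient of order eight generated by two involutions whose product has order four is
dihedral. -/

namespace Cfsg.Agent.Lib.Helper5.PGO

open Cfsg.Agent.Lib.Helper1.DihedralIso

theorem exists_dihedral_hom {G : Type*} [Group G] (N : Subgroup G) [N.Normal]
    (hidx : N.index = 8) (a b : G) (ha : a ∉ N) (ha2 : a * a ∈ N) (hb : b ∉ N)
    (hb2 : b * b ∈ N) (hab2 : (a * b) ^ 2 ∉ N) (hab4 : (a * b) ^ 4 ∈ N) :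
    ∃ φ : G →* DihedralGroup 4, Function.Surjective φ ∧ φ.ker = N := by
  have : N.FiniteIndex := ⟨by rw [hidx]; norm_num⟩
  have : Finite (G ⧸ N) := Subgroup.finite_quotient_of_finiteIndex
  set x : G ⧸ N := QuotientGroup.mk a with hx
  set y : G ⧸ N := QuotientGroup.mk b with hy
  have hx2 : orderOf x = 2 := by
    apply orderOf_eq_prime
    · rw [pow_two, hx, ← QuotientGroup.mk_mul]
      exact (QuotientGroup.eq_one_iff _).2 ha2
    · intro h
      exact ha ((QuotientGroup.eq_one_iff _).1 h)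
  have hy2 : orderOf y = 2 := by
    apply orderOf_eq_prime
    · rw [pow_two, hy, ← QuotientGroup.mk_mul]
      exact (QuotientGroup.eq_one_iff _).2 hb2
    · intro h
      exact hb ((QuotientGroup.eq_one_iff _).1 h)
  have hxy : orderOf (x * y) = 4 := by
    have := orderOf_eq_prime_pow (x := x * y) (p := 2) (n := 1) (by
      rw [pow_one, hx, hy, ← QuotientGroup.mk_mul, ← QuotientGroup.mk_pow]
      intro h
      exact hab2 ((QuotientGroup.eq_one_iff _).1 h)) (by
      rw [hx, hy, ← QuotientGroup.mk_mul, ← QuotientGroup.mk_pow]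
      exact (QuotientGroup.eq_one_iff _).2 hab4)
    rw [this]
    norm_num
  obtain ⟨e⟩ := closure_equiv_dihedral x y hx2 hy2 (by rw [hxy]; norm_num)
  rw [hxy] at e
  have hcard : Nat.card ↥(Subgroup.closure ({x, y} : Set (G ⧸ N))) = Nat.card (G ⧸ N) := by
    rw [Nat.card_congr e.toEquiv, DihedralGroup.nat_card, ← Subgroup.index_eq_card, hidx]
  have htop : Subgroup.closure ({x, y} : Set (G ⧸ N)) = ⊤ :=
    (Subgroup.card_eq_iff_eq_top _).1 hcard
  set e' : (G ⧸ N) ≃* DihedralGroup 4 :=
    (Subgroup.topEquiv.symm.trans (MulEquiv.subgroupCongr htop.symm)).trans e with he'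
  refine ⟨e'.toMonoidHom.comp (QuotientGroup.mk' N), e'.surjective.comp
    (QuotientGroup.mk'_surjective N), ?_⟩
  ext g
  rw [MonoidHom.mem_ker, MonoidHom.comp_apply]
  rw [show e'.toMonoidHom (QuotientGroup.mk' N g) = e' (QuotientGroup.mk' N g) from rfl,
    e'.map_eq_one_iff]
  exact QuotientGroup.eq_one_iff g

end Cfsg.Agent.Lib.Helper5.PGO
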