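import Mathlib
import Cfsg.Agent.Lib.Helper5.PGO12
import Cfsg.Agent.Lib.Helper5.PGO13

set_option autoImplicit false

/-! `PGO / Inn(PΩ)` is dihedral of order eight when `-1 ∈ Ω` (even dimension, odd
characteristic), given a similarity with non-square multiplier whose square is a scalar. -/

namespace Cfsg.Agent.Lib.Helper5.PGO

open Matrix Cfsg.Agent.Lib.Helper2 Cfsg.Agent.Lib.Helper2.CDG Cfsg.Agent.Lib.Helper2.Spinor

variable {F : Type*} [Field F] [Fintype F] [DecidableEq F] {ι : Type} [Fintype ι] [DecidableEq ι]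
variable {Q : QuadraticForm F (ι → F)}

/-- an element of the similarity group inducing an inner automorphism lies in the kernel of
`chi` -/
theorem chi_of_Phi_mem_inn (hQ : (QuadraticMap.polarBilin Q).Nondegenerate) (hQ0 : ∃ v, Q v ≠ 0)
    {m : ℕ} (hm : Fintype.card ι = 2 * m) (h2 : (2 : F) ≠ 0) (hn : 7 ≤ Fintype.card ι)
    (g : ↥(GO (⇑Q))) (hg : Phi (⇑Q) g ∈ Cfsg.Inn (Cfsg.POmega F (⇑Q))) :
    chi hQ hQ0 hm h2 g = 1 := by
  rw [inn_eq] at hg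
  obtain ⟨_, ⟨s, hs, rfl⟩, h⟩ := hg
  have h1 : (incl (⇑Q) s)⁻¹ * g ∈ (Phi (⇑Q)).ker := by
    rw [MonoidHom.mem_ker, map_mul, map_inv, h, inv_mul_cancel]
  have h3 := ker_le_chi_ker hQ hQ0 hm h2 hn h1
  rw [MonoidHom.mem_ker, map_mul, map_inv] at h3
  have h4 : chi hQ hQ0 hm h2 (incl (⇑Q) s) = 1 :=
    SO_le_chi_ker hQ hQ0 hm h2 (Om_le_SO h2 hQ (by omega) ⟨s, hs, rfl⟩)
  rw [h4, inv_one, one_mul] at h3
  exact h3

/-- if `-1 ∈ Ω`, an isometry inducing an inner automorphism lies in `Ω` -/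
theorem mem_of_Phi_incl_mem_inn (hQ : (QuadraticMap.polarBilin Q).Nondegenerate)
    (hQ0 : ∃ v, Q v ≠ 0) (hn : 7 ≤ Fintype.card ι)
    (hneg : negOne Q ∈ commutator ↥(Cfsg.isometryGroup F ⇑Q))
    (h : ↥(Cfsg.isometryGroup F ⇑Q))
    (hh : Phi (⇑Q) (incl (⇑Q) h) ∈ Cfsg.Inn (Cfsg.POmega F (⇑Q))) :
    h ∈ commutator ↥(Cfsg.isometryGroup F ⇑Q) := by
  rw [inn_eq] at hh
  obtain ⟨_, ⟨s, hs, rfl⟩, hs'⟩ := hh
  have h1 : incl (⇑Q) (s⁻¹ * h) ∈ (Phi (⇑Q)).ker := by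
    rw [MonoidHom.mem_ker, map_mul, map_mul, map_inv, map_inv, hs', inv_mul_cancel]
  rw [ker_eq hQ hn] at h1
  obtain ⟨c, hc⟩ := h1
  have hmu : mu (⇑Q) (incl (⇑Q) (s⁻¹ * h)) = 1 := mu_of_iso hQ0 _ (s⁻¹ * h).2
  rw [← hc, mu_scal hQ0] at hmu
  have hc2 : ((c : F) - 1) * ((c : F) + 1) = 0 := by
    have := congrArg Units.val hmu
    rw [Units.val_mul, Units.val_one] at this
    linear_combination this
  have hto : s⁻¹ * h = 1 ∨ s⁻¹ * h = negOne Q := by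
    rcases mul_eq_zero.1 hc2 with h' | h'
    · left
      have hc1 : c = 1 := Units.ext (by rw [Units.val_one]; linear_combination h')
      apply Subtype.ext
      show ((incl (⇑Q) (s⁻¹ * h) : ↥(GO (⇑Q))) : GL ι F) = 1
      rw [← hc, hc1, map_one]
      rfl
    · right
      have hc1 : c = -1 := Units.ext (by rw [Units.val_neg, Units.val_one]; linear_combination h')
      apply Subtype.ext
      show ((incl (⇑Q) (s⁻¹ * h) : ↥(GO (⇑Q))) : GL ι F) = (negOne Q : GL ι F)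
      rw [← hc, hc1, ← incl_negOne]
      rfl
  rcases hto with h' | h'
  · rw [inv_mul_eq_one] at h'
    rw [← h']
    exact hs
  · have : h = s * negOne Q := by rw [← h', mul_inv_cancel_left]
    rw [this]
    exact Subgroup.mul_mem _ hs hneg

theorem index_pso (hQ : (QuadraticMap.polarBilin Q).Nondegenerate) (hQ0 : ∃ v, Q v ≠ 0)
    {m : ℕ} (hm : Fintype.card ι = 2 * m) (h2 : (2 : F) ≠ 0) (hn : 7 ≤ Fintype.card ι)
    (hsurj : Function.Surjective (chi hQ hQ0 hm h2)) :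
    ((Cfsg.psoAut F (⇑Q)).subgroupOf (Cfsg.pgoAut F (⇑Q))).index = 4 := by
  obtain ⟨φ, hs, hk⟩ := klein_of_chi_surj hQ hQ0 hm h2 hn hsurj
  rw [← hk, Subgroup.index_ker, MonoidHom.range_eq_top.2 hs,
    Nat.card_congr (Subgroup.topEquiv (G := Multiplicative (ZMod 2 × ZMod 2))).toEquiv]
  exact IsKleinFour.card_four

theorem inn_le_pso (hQ : (QuadraticMap.polarBilin Q).Nondegenerate) (h2 : (2 : F) ≠ 0)
    (hn : 2 ≤ Fintype.card ι) :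
    Cfsg.Inn (Cfsg.POmega F (⇑Q)) ≤ Cfsg.psoAut F (⇑Q) := by
  rw [inn_eq, psoAut_eq]
  exact Subgroup.map_mono (Om_le_SO h2 hQ hn)

theorem pso_le_pgo : Cfsg.psoAut F (⇑Q) ≤ Cfsg.pgoAut F (⇑Q) := by
  rw [psoAut_eq, pgoAut_eq]
  rintro _ ⟨g, -, rfl⟩
  exact ⟨g, rfl⟩

theorem index_inn (hQ : (QuadraticMap.polarBilin Q).Nondegenerate) (hQ0 : ∃ v, Q v ≠ 0)
    {m : ℕ} (hm : Fintype.card ι = 2 * m) (h2 : (2 : F) ≠ 0) (hn : 7 ≤ Fintype.card ι)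
    (hsurj : Function.Surjective (chi hQ hQ0 hm h2))
    (hneg : negOne Q ∈ commutator ↥(Cfsg.isometryGroup F ⇑Q)) :
    ((Cfsg.Inn (Cfsg.POmega F (⇑Q))).subgroupOf (Cfsg.pgoAut F (⇑Q))).index = 8 := by
  have h1 := Subgroup.relIndex_mul_index
    (H := (Cfsg.Inn (Cfsg.POmega F (⇑Q))).subgroupOf (Cfsg.pgoAut F (⇑Q)))
    (K := (Cfsg.psoAut F (⇑Q)).subgroupOf (Cfsg.pgoAut F (⇑Q)))
    (Subgroup.subgroupOf_mono _ (inn_le_pso hQ h2 (by omega)))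
  rw [Subgroup.relIndex_subgroupOf pso_le_pgo, relIndex_of_mem h2 hQ hn hneg,
    index_pso hQ hQ0 hm h2 hn hsurj] at h1
  rw [← h1]

theorem levSign_refl_one (h2 : (2 : F) ≠ 0) (u : ι → F) (hu : Q u = 1) :
    levSign Q 1 (refl Q u (by rw [hu]; exact one_ne_zero)) = -1 := by
  rw [levSign_refl h2 one_ne_zero, if_pos ⟨1, by rw [hu]; ring⟩]

theorem levSign_refl_nonsquare (h2 : (2 : F) ≠ 0) (w : ι → F) (hw0 : Q w ≠ 0)
    (hw : ¬ IsSquare (Q w)) : levSign Q 1 (refl Q w hw0) = 1 := by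
  rw [levSign_refl h2 one_ne_zero, if_neg]
  rintro ⟨t, ht⟩
  have ht0 : t ≠ 0 := by
    rintro rfl
    rw [mul_zero, zero_mul] at ht
    exact zero_ne_one ht
  apply hw
  refine ⟨t⁻¹, ?_⟩
  field_simp
  linear_combination ht

theorem det_refl_mul_refl (u w : ι → F) (hu : Q u ≠ 0) (hw : Q w ≠ 0) :
    Matrix.GeneralLinearGroup.det
      ((refl Q u hu * refl Q w hw : ↥(Cfsg.isometryGroup F ⇑Q)) : GL ι F) = 1 := by
  apply Units.ext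
  rw [Subgroup.coe_mul, map_mul, Units.val_mul, Matrix.GeneralLinearGroup.val_det_apply,
    Matrix.GeneralLinearGroup.val_det_apply, det_refl, det_refl, Units.val_one]
  ring

/-- `PGO / Inn(PΩ)` is dihedral of order eight when `-1 ∈ Ω` -/
theorem dihedral_of (hQ : (QuadraticMap.polarBilin Q).Nondegenerate) (hQ0 : ∃ v, Q v ≠ 0)
    {m : ℕ} (hm : Fintype.card ι = 2 * m) (h2 : (2 : F) ≠ 0) (hn : 7 ≤ Fintype.card ι)
    (hsurj : Function.Surjective (chi hQ hQ0 hm h2))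
    (hneg : negOne Q ∈ commutator ↥(Cfsg.isometryGroup F ⇑Q))
    (g₀ : ↥(GO (⇑Q))) (ν : Fˣ) (hν : ¬ IsSquare (ν : F))
    (hg₀ : ∀ v, Q (((g₀ : GL ι F) : Matrix ι ι F) *ᵥ v) = (ν : F) * Q v)
    (c₀ : Fˣ) (hsq : g₀ * g₀ = scalGO Q c₀) :
    ∃ φ : ↥(Cfsg.pgoAut F (⇑Q)) →* DihedralGroup 4, Function.Surjective φ ∧
      φ.ker = (Cfsg.Inn (Cfsg.POmega F (⇑Q))).subgroupOf (Cfsg.pgoAut F (⇑Q)) := by
  have hn2 : 2 ≤ Fintype.card ι := by omega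
  obtain ⟨u₁, hu₁⟩ := exists_value hQ hn2 1 one_ne_zero
  have hu₁0 : Q u₁ ≠ 0 := by rw [hu₁]; exact one_ne_zero
  set r₁ := refl Q u₁ hu₁0 with hr₁
  have hw0 : Q (((g₀ : GL ι F) : Matrix ι ι F) *ᵥ u₁) ≠ 0 := by
    rw [hg₀, hu₁, mul_one]; exact ν.ne_zero
  set r' := refl Q (((g₀ : GL ι F) : Matrix ι ι F) *ᵥ u₁) hw0 with hr'
  have hA : Phi (⇑Q) (incl (⇑Q) r₁) ∈ Cfsg.pgoAut F (⇑Q) := by
    rw [pgoAut_eq]; exact ⟨_, rfl⟩
  have hB : Phi (⇑Q) g₀ ∈ Cfsg.pgoAut F (⇑Q) := by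
    rw [pgoAut_eq]; exact ⟨_, rfl⟩
  -- the square of `r₁ g₀`
  have hsqt : (incl (⇑Q) r₁ * g₀) * (incl (⇑Q) r₁ * g₀) = scalGO Q c₀ * incl (⇑Q) (r₁ * r') := by
    apply Subtype.ext
    have hconj := conj_refl_sim (g₀ : GL ι F) (ν : F) ν.ne_zero hg₀ u₁ hu₁0
    have hsq' : (g₀ : GL ι F) * (g₀ : GL ι F) = scalHom c₀ := congrArg Subtype.val hsq
    show (r₁ : GL ι F) * (g₀ : GL ι F) * ((r₁ : GL ι F) * (g₀ : GL ι F)) =
      scalHom c₀ * ((r₁ : GL ι F) * (r' : GL ι F))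
    calc (r₁ : GL ι F) * (g₀ : GL ι F) * ((r₁ : GL ι F) * (g₀ : GL ι F))
        = (r₁ : GL ι F) * ((g₀ : GL ι F) * (r₁ : GL ι F) * (g₀ : GL ι F)⁻¹) *
            ((g₀ : GL ι F) * (g₀ : GL ι F)) := by group
      _ = (r₁ : GL ι F) * (r' : GL ι F) * scalHom c₀ := by rw [hconj, hsq']
      _ = scalHom c₀ * ((r₁ : GL ι F) * (r' : GL ι F)) := (scalHom_comm c₀ _).symm
  have hPhit : Phi (⇑Q) (incl (⇑Q) r₁ * g₀) * Phi (⇑Q) (incl (⇑Q) r₁ * g₀) =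
      Phi (⇑Q) (incl (⇑Q) (r₁ * r')) := by
    rw [← map_mul, hsqt, map_mul, MonoidHom.mem_ker.1 (scal_le_ker ⟨c₀, rfl⟩), one_mul]
  have hlev : levSign Q 1 (r₁ * r') = -1 := by
    rw [map_mul, hr₁, levSign_refl_one h2 u₁ hu₁, hr', levSign_refl_nonsquare h2 _ hw0
      (by rw [hg₀, hu₁, mul_one]; exact hν)]
    rfl
  have hnotmem : r₁ * r' ∉ commutator ↥(Cfsg.isometryGroup F ⇑Q) := by
    intro h
    have := (mem_comm_iff_of_det h2 hQ hn2 _ (det_refl_mul_refl _ _ _ _)).1 h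
    rw [hlev] at this
    exact absurd this (by decide)
  have hsqmem : (r₁ * r') * (r₁ * r') ∈ commutator ↥(Cfsg.isometryGroup F ⇑Q) := by
    rw [mem_comm_iff_of_det h2 hQ hn2]
    · rw [map_mul, hlev]; rfl
    · rw [Subgroup.coe_mul, map_mul, det_refl_mul_refl, one_mul]
  apply exists_dihedral_hom _ (index_inn hQ hQ0 hm h2 hn hsurj hneg)
    ⟨Phi (⇑Q) (incl (⇑Q) r₁), hA⟩ ⟨Phi (⇑Q) g₀, hB⟩
  · rw [Subgroup.mem_subgroupOf]
    intro h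
    have := chi_of_Phi_mem_inn hQ hQ0 hm h2 hn _ h
    rw [chi_refl, Prod.mk_eq_one] at this
    exact absurd this.2 (by decide)
  · rw [Subgroup.mem_subgroupOf]
    show Phi (⇑Q) (incl (⇑Q) r₁) * Phi (⇑Q) (incl (⇑Q) r₁) ∈ _
    rw [← map_mul, ← map_mul, hr₁, refl_mul_self, map_one, map_one]
    exact Subgroup.one_mem _
  · rw [Subgroup.mem_subgroupOf]
    intro h
    have := chi_of_Phi_mem_inn hQ hQ0 hm h2 hn _ h
    unfold chi at this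
    rw [MonoidHom.prod_apply, Prod.mk_eq_one, chi1_eq_one_iff] at this
    apply hν
    rw [← mu_unique hQ0 g₀ ν hg₀]
    exact this.1
  · rw [Subgroup.mem_subgroupOf]
    show Phi (⇑Q) g₀ * Phi (⇑Q) g₀ ∈ _
    rw [← map_mul, hsq, MonoidHom.mem_ker.1 (scal_le_ker ⟨c₀, rfl⟩)]
    exact Subgroup.one_mem _
  · rw [Subgroup.mem_subgroupOf, pow_two]
    show Phi (⇑Q) (incl (⇑Q) r₁) * Phi (⇑Q) g₀ * (Phi (⇑Q) (incl (⇑Q) r₁) * Phi (⇑Q) g₀) ∉ _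
    rw [← map_mul, hPhit]
    intro h
    exact hnotmem (mem_of_Phi_incl_mem_inn hQ hQ0 hn hneg _ h)
  · rw [Subgroup.mem_subgroupOf]
    have e4 : ∀ x : MulAut (Cfsg.POmega F (⇑Q)), x ^ 4 = (x * x) * (x * x) := by
      intro x
      rw [show (4 : ℕ) = 2 + 2 from rfl, pow_add, pow_two]
    show (Phi (⇑Q) (incl (⇑Q) r₁) * Phi (⇑Q) g₀) ^ 4 ∈ _
    rw [e4, ← map_mul, hPhit, ← map_mul, ← map_mul, inn_eq]
    exact ⟨_, ⟨_, hsqmem, rfl⟩, rfl⟩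

end Cfsg.Agent.Lib.Helper5.PGO
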