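import Mathlib
import Cfsg.Agent.Lib.Helper5.PGO14

set_option autoImplicit false

/-! Odd dimensional orthogonal groups: the conformal group induces the same automorphisms as
the special orthogonal group, and `Inn(PΩ)` has index two in them. -/

namespace Cfsg.Agent.Lib.Helper5.OFld

open Matrix Cfsg.Agent.Lib.Helper5.PGO
open Cfsg.Agent.Lib.Helper2 Cfsg.Agent.Lib.Helper2.CDG Cfsg.Agent.Lib.Helper2.Spinor

variable {F : Type*} [Field F] [Fintype F] [DecidableEq F] {ι : Type} [Fintype ι] [DecidableEq ι]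
variable {Q : QuadraticForm F (ι → F)}

/-- in odd dimension every similarity is a scalar times a special isometry -/
theorem exists_SO_of_odd (hQ : (QuadraticMap.polarBilin Q).Nondegenerate)
    {k : ℕ} (hk : Fintype.card ι = 2 * k + 1) (g : ↥(GO (⇑Q))) :
    ∃ t : Fˣ, scalGO Q t * g ∈ SOsub (⇑Q) := by
  obtain ⟨c, hc⟩ := g.2
  have hdet := det_sq hQ (g : GL ι F) (c : F) hc
  rw [hk] at hdet
  have hd0 : ((g : GL ι F) : Matrix ι ι F).det ≠ 0 := by
    have := (Matrix.isUnit_iff_isUnit_det _).1 ((g : GL ι F).isUnit)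
    exact this.ne_zero
  obtain ⟨d, hd⟩ : ∃ d : Fˣ, (d : F) = ((g : GL ι F) : Matrix ι ι F).det := ⟨Units.mk0 _ hd0, rfl⟩
  rw [← hd] at hdet
  refine ⟨d * (c ^ (k + 1))⁻¹, ?_, ?_⟩
  · -- isometry
    show ((scalGO Q (d * (c ^ (k + 1))⁻¹) * g : ↥(GO (⇑Q))) : GL ι F) ∈ Cfsg.isometryGroup F (⇑Q)
    rw [mem_iso_iff]
    intro v
    rw [Subgroup.coe_mul, scalGO_coe, Units.val_mul, ← Matrix.mulVec_mulVec, scalHom_mulVec,
      QuadraticMap.map_smul, hc, smul_eq_mul]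
    have hc0 : (c : F) ≠ 0 := c.ne_zero
    have e : ((d * (c ^ (k + 1))⁻¹ : Fˣ) : F) = (d : F) * ((c : F) ^ (k + 1))⁻¹ := by
      rw [Units.val_mul, Units.val_inv_eq_inv_val, Units.val_pow_eq_pow_val]
    rw [e]
    have h1 : (d : F) * ((c : F) ^ (k + 1))⁻¹ * ((d : F) * ((c : F) ^ (k + 1))⁻¹) * (c : F) = 1 := by
      have : (d : F) * ((c : F) ^ (k + 1))⁻¹ * ((d : F) * ((c : F) ^ (k + 1))⁻¹) * (c : F)
          = (d : F) ^ 2 * (c : F) * (((c : F) ^ (k + 1))⁻¹) ^ 2 := by ring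
      rw [this, hdet]
      field_simp
      ring
    rw [← mul_assoc, h1, one_mul]
  · -- determinant one
    show Matrix.GeneralLinearGroup.det
      ((scalGO Q (d * (c ^ (k + 1))⁻¹) * g : ↥(GO (⇑Q))) : GL ι F) = 1
    apply Units.ext
    rw [Subgroup.coe_mul, map_mul, Units.val_mul, Matrix.GeneralLinearGroup.val_det_apply,
      Matrix.GeneralLinearGroup.val_det_apply, scalGO_coe, det_scalHom, ← hd, hk, Units.val_one]
    have hc0 : (c : F) ≠ 0 := c.ne_zero
    have e : ((d * (c ^ (k + 1))⁻¹ : Fˣ) : F) = (d : F) * ((c : F) ^ (k + 1))⁻¹ := by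
      rw [Units.val_mul, Units.val_inv_eq_inv_val, Units.val_pow_eq_pow_val]
    rw [e]
    have h2 : ((d : F) * ((c : F) ^ (k + 1))⁻¹) ^ (2 * k + 1) * (d : F) =
        ((d : F) ^ 2) ^ (k + 1) * (((c : F) ^ (k + 1))⁻¹) ^ (2 * k + 1) := by ring
    rw [h2, hdet]
    have h3 : ((c : F) ^ (2 * k + 1)) ^ (k + 1) = ((c : F) ^ (k + 1)) ^ (2 * k + 1) := by
      rw [← pow_mul, ← pow_mul, mul_comm]
    rw [h3, inv_pow]
    exact mul_inv_cancel₀ (pow_ne_zero _ (pow_ne_zero _ hc0))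

/-- in odd dimension the conformal group induces the same automorphisms as `SO` -/
theorem pgo_eq_pso_of_odd (hQ : (QuadraticMap.polarBilin Q).Nondegenerate)
    {k : ℕ} (hk : Fintype.card ι = 2 * k + 1) :
    Cfsg.pgoAut F (⇑Q) = Cfsg.psoAut F (⇑Q) := by
  apply le_antisymm _ pso_le_pgo
  rw [pgoAut_eq, psoAut_eq]
  rintro _ ⟨g, rfl⟩
  obtain ⟨t, ht⟩ := exists_SO_of_odd hQ hk g
  refine ⟨scalGO Q t * g, ht, ?_⟩
  rw [map_mul]
  have : Phi (⇑Q) (scalGO Q t) = 1 := scal_le_ker ⟨t, rfl⟩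
  rw [this, one_mul]

theorem det_negOne_odd {k : ℕ} (hk : Fintype.card ι = 2 * k + 1) :
    ((negOne Q : GL ι F) : Matrix ι ι F).det = -1 := by
  rw [negOne_coe, Matrix.det_neg, Matrix.det_one, hk, mul_one]
  rw [pow_succ, pow_mul]
  simp

/-- in odd dimension `Inn(PΩ)` has index two in the image of `SO` -/
theorem relIndex_inn_pso_of_odd (h2 : (2 : F) ≠ 0)
    (hQ : (QuadraticMap.polarBilin Q).Nondegenerate) (hn : 7 ≤ Fintype.card ι)
    {k : ℕ} (hk : Fintype.card ι = 2 * k + 1) :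
    (Cfsg.Inn (Cfsg.POmega F (⇑Q))).relIndex (Cfsg.psoAut F (⇑Q)) = 2 := by
  have hn2 : 2 ≤ Fintype.card ι := by omega
  have hQ0 : ∃ v, Q v ≠ 0 := by
    obtain ⟨u, hu⟩ := exists_value hQ hn2 1 one_ne_zero
    exact ⟨u, by rw [hu]; exact one_ne_zero⟩
  set Φ' : ↥(SOsub (⇑Q)) →* MulAut (Cfsg.POmega F (⇑Q)) :=
    (Phi (⇑Q)).comp (SOsub (⇑Q)).subtype with hΦ'
  set σ' : ↥(SOsub (⇑Q)) →* ℤˣ := (levSign Q 1).comp (toO Q) with hσ'
  have hsurj : Function.Surjective σ' := by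
    obtain ⟨g, hg⟩ := exists_SO_levSign h2 hQ hn2
    intro x
    rcases Int.units_eq_one_or x with rfl | rfl
    · exact ⟨1, map_one _⟩
    · exact ⟨g, hg⟩
  have hker : Φ'.ker ≤ σ'.ker := by
    intro g hg
    rw [MonoidHom.mem_ker] at hg ⊢
    have hg' : (g : ↥(GO (⇑Q))) ∈ (Phi (⇑Q)).ker := hg
    rw [ker_eq hQ hn] at hg'
    obtain ⟨c, hc⟩ := hg'
    have hmu : mu (⇑Q) (g : ↥(GO (⇑Q))) = 1 := mu_of_iso hQ0 _ g.2.1
    rw [← hc, mu_scal hQ0] at hmu
    have hc2 : ((c : F) - 1) * ((c : F) + 1) = 0 := by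
      have := congrArg Units.val hmu
      rw [Units.val_mul, Units.val_one] at this
      linear_combination this
    have hto : toO Q g = 1 := by
      rcases mul_eq_zero.1 hc2 with h | h
      · have hc1 : c = 1 := Units.ext (by rw [Units.val_one]; linear_combination h)
        apply Subtype.ext
        show ((g : ↥(GO (⇑Q))) : GL ι F) = 1
        rw [← hc, hc1, map_one]
        rfl
      · exfalso
        have hc1 : c = -1 := Units.ext (by rw [Units.val_neg, Units.val_one]; linear_combination h)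
        have h3 : toO Q g = negOne Q := by
          apply Subtype.ext
          show ((g : ↥(GO (⇑Q))) : GL ι F) = (negOne Q : GL ι F)
          rw [← hc, hc1, ← incl_negOne]
          rfl
        have h4 := det_toO g
        rw [h3] at h4
        have h5 := congrArg Units.val h4
        rw [Matrix.GeneralLinearGroup.val_det_apply, det_negOne_odd hk, Units.val_one] at h5
        apply h2
        linear_combination -h5
    show levSign Q 1 (toO Q g) = 1
    rw [hto, map_one]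
  obtain ⟨φ, hφs, -, hφk⟩ := exists_lift_range Φ' σ' hsurj hker
  have hrange : Φ'.range = Cfsg.psoAut F (⇑Q) := by
    rw [psoAut_eq, hΦ', MonoidHom.range_comp, Subgroup.range_subtype]
  have hinn : σ'.ker.map Φ' = Cfsg.Inn (Cfsg.POmega F (⇑Q)) := by
    rw [inn_eq]
    apply le_antisymm
    · rintro _ ⟨g, hg, rfl⟩
      have hg' : levSign Q 1 (toO Q g) = 1 := hg
      have hmem := (mem_comm_iff_of_det h2 hQ hn2 _ (det_toO g)).2 hg'
      exact ⟨incl (⇑Q) (toO Q g), ⟨_, hmem, rfl⟩, rfl⟩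
    · rintro _ ⟨_, ⟨s, hs, rfl⟩, rfl⟩
      have hso : incl (⇑Q) s ∈ SOsub (⇑Q) := Om_le_SO h2 hQ hn2 ⟨s, hs, rfl⟩
      refine ⟨⟨incl (⇑Q) s, hso⟩, ?_, rfl⟩
      show levSign Q 1 (toO Q ⟨incl (⇑Q) s, hso⟩) = 1
      have : toO Q ⟨incl (⇑Q) s, hso⟩ = s := rfl
      rw [this]
      exact (mem_comm_iff_of_det h2 hQ hn2 s (det_of_mem_comm h2 hQ hn2 s hs)).1 hs
  rw [← hrange, ← hinn]
  show ((σ'.ker.map Φ').subgroupOf Φ'.range).index = 2
  rw [← hφk, Subgroup.index_ker, MonoidHom.range_eq_top.2 hφs]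
  rw [Nat.card_congr (Subgroup.topEquiv (G := ℤˣ)).toEquiv, Nat.card_eq_fintype_card,
    Fintype.card_units_int]

end Cfsg.Agent.Lib.Helper5.OFld
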