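import Mathlib
import Cfsg.Agent.Lib.Helper5.OFld3
import Cfsg.Agent.Lib.Helper5.OFld4
import Cfsg.Agent.Lib.Helper5.OFld5
import Cfsg.Agent.Lib.Helper5.OAut23
import Cfsg.Agent.Lib.Helper5.PSL2Aut6

set_option autoImplicit false

/-! The automorphism group of `PΩ_{2m+1}(q)`: order and outer automorphism group. -/

namespace Cfsg.Agent.Lib.Helper5.OFld

open Matrix Cfsg.Agent.Lib.Helper5.PGO Cfsg.Agent.Lib.Helper5.OAut
open Cfsg.Agent.Lib.Helper2 Cfsg.Agent.Lib.Helper2.LongRoot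

section General
variable {F : Type*} [Field F] [Fintype F] {ι : Type} [Fintype ι] [DecidableEq ι]
variable {Q : QuadraticForm F (ι → F)}

theorem perfect_Omega (hQ : (QuadraticMap.polarBilin Q).Nondegenerate)
    (hn : 7 ≤ Fintype.card ι) : commutator ↥(Cfsg.Omega F ⇑Q) = ⊤ := by
  have key : ∀ K : Subgroup ↥(Cfsg.isometryGroup F ⇑Q), K = T Q → commutator ↥K = ⊤ := by
    intro K hK
    subst hK
    exact commutator_T hQ hn
  exact key _ (T_eq_Omega hQ hn).symm

theorem center_POmega (hQ : (QuadraticMap.polarBilin Q).Nondegenerate)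
    (hn : 7 ≤ Fintype.card ι) : Subgroup.center (Cfsg.POmega F ⇑Q) = ⊥ := by
  haveI := simple_POmega hQ hn
  rcases (Subgroup.Normal.eq_bot_or_eq_top
    (inferInstance : (Subgroup.center (Cfsg.POmega F ⇑Q)).Normal)) with h | h
  · exact h
  · exfalso
    have hcomm : commutator ↥(Cfsg.Omega F ⇑Q) ≤ Subgroup.center ↥(Cfsg.Omega F ⇑Q) := by
      rw [commutator_def, Subgroup.commutator_le]
      intro a _ b _
      have h1 : (QuotientGroup.mk a : Cfsg.POmega F ⇑Q) ∈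
          Subgroup.center (Cfsg.POmega F ⇑Q) := by rw [h]; exact Subgroup.mem_top _
      have h2 := Subgroup.mem_center_iff.1 h1 (QuotientGroup.mk b)
      rw [← QuotientGroup.eq_one_iff]
      rw [commutatorElement_def, QuotientGroup.mk_mul, QuotientGroup.mk_mul, QuotientGroup.mk_mul,
        QuotientGroup.mk_inv, QuotientGroup.mk_inv, ← h2]
      group
    rw [perfect_Omega hQ hn, top_le_iff] at hcomm
    have hss : Subsingleton (Cfsg.POmega F ⇑Q) := by
      refine ⟨fun x y => ?_⟩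
      obtain ⟨a, rfl⟩ := QuotientGroup.mk_surjective x
      obtain ⟨b, rfl⟩ := QuotientGroup.mk_surjective y
      rw [QuotientGroup.eq, hcomm]
      exact Subgroup.mem_top _
    exact not_subsingleton _ hss

theorem card_inn (hQ : (QuadraticMap.polarBilin Q).Nondegenerate)
    (hn : 7 ≤ Fintype.card ι) :
    Nat.card ↥(Cfsg.Inn (Cfsg.POmega F ⇑Q)) = Nat.card (Cfsg.POmega F ⇑Q) := by
  have hinj : Function.Injective (MulAut.conj : Cfsg.POmega F ⇑Q →* MulAut (Cfsg.POmega F ⇑Q)) := by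
    rw [injective_iff_map_eq_one]
    intro g hg
    have : g ∈ Subgroup.center (Cfsg.POmega F ⇑Q) := by
      rw [Subgroup.mem_center_iff]
      intro x
      have := DFunLike.congr_fun hg x
      rw [MulAut.conj_apply, MulAut.one_apply] at this
      calc x * g = (g * x * g⁻¹) * g := by rw [this]
        _ = g * x := by group
    rwa [center_POmega hQ hn, Subgroup.mem_bot] at this
  exact (Nat.card_congr (MonoidHom.ofInjective hinj).toEquiv).symm

end General

section Inv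
variable {F : Type*} [Field F]

theorem galInv_odd (m : ℕ) : GalInv (Cfsg.quadFormOdd m F) := by
  intro σ v
  unfold Cfsg.quadFormOdd
  rw [map_add, map_pow, map_sum]
  simp only [map_mul]

theorem galInv_plus (m : ℕ) : GalInv (Cfsg.quadFormPlus m F) := by
  intro σ v
  unfold Cfsg.quadFormPlus
  rw [map_sum]
  simp only [map_mul]

end Inv

section Odd
variable {F : Type*} [Field F] [Fintype F]

theorem two_ne_zero_of_odd {p f : ℕ} [Fact p.Prime] (hf : 1 ≤ f)
    (hF : Fintype.card F = p ^ f) (hp : p ≠ 2) : (2 : F) ≠ 0 := by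
  haveI := PSL2Aut.charP_of_card hf hF
  intro h
  have h2 : ((2 : ℕ) : F) = 0 := by exact_mod_cast h
  rw [CharP.cast_eq_zero_iff F p] at h2
  have hp' : p.Prime := Fact.out
  exact hp ((Nat.prime_dvd_prime_iff_eq hp' Nat.prime_two).1 h2)

theorem card_odd_index (m : ℕ) : Fintype.card (Unit ⊕ (Fin m ⊕ Fin m)) = 2 * m + 1 := by
  rw [Fintype.card_sum, Fintype.card_sum, Fintype.card_fin, Fintype.card_unit]; omega

theorem lag_odd (h2 : (2 : F) ≠ 0) {m : ℕ} (hm : 3 ≤ m)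
    (T : Submodule F (Unit ⊕ (Fin m ⊕ Fin m) → F))
    (hT : ∀ x ∈ T, OrthCard.QOd m F x = 0)
    (hperp : ∀ y, (∀ x ∈ T, QuadraticMap.polar (⇑(OrthCard.QOd m F)) x y = 0) → y ∈ T) :
    5 ≤ Module.finrank F ↥T := by
  have := two_mul_finrank_of_lagrangian (OrthCard.QOd_nondeg (F := F) h2 m) T hT hperp
  rw [card_odd_index] at this
  omega

/-- the order of `Aut(PΩ_{2m+1}(q))` -/
theorem card_aut_odd {p f : ℕ} [Fact p.Prime] (hf : 1 ≤ f)
    (hF : Fintype.card F = p ^ f) (hp : p ≠ 2) {m : ℕ} (hm : 3 ≤ m) :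
    Nat.card (MulAut (Cfsg.POmega F (Cfsg.quadFormOdd m F))) =
      2 * f * Nat.card (Cfsg.POmega F (Cfsg.quadFormOdd m F)) := by
  classical
  haveI := PSL2Aut.charP_of_card hf hF
  have h2 := two_ne_zero_of_odd hf hF hp
  have hcoe := OrthCard.QOd_coe (F := F) m
  have hQ := OrthCard.QOd_nondeg (F := F) h2 m
  have hn : 7 ≤ Fintype.card (Unit ⊕ (Fin m ⊕ Fin m)) := by rw [card_odd_index]; omega
  have hinv : GalInv (⇑(OrthCard.QOd m F)) := by rw [hcoe]; exact galInv_odd m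
  have h1 := card_aut p hQ hn (lag_odd h2 hm) (fun σ => ⟨1, pair_std hinv σ⟩)
  rw [pgo_eq_pso_of_odd hQ (card_odd_index m), (PSL2Aut.ringAut_cyclic_card hf hF).2] at h1
  have h3 := relIndex_inn_pso_of_odd h2 hQ hn (card_odd_index m)
  have h4 := Subgroup.card_mul_index
    ((Cfsg.Inn (Cfsg.POmega F ⇑(OrthCard.QOd m F))).subgroupOf
      (Cfsg.psoAut F ⇑(OrthCard.QOd m F)))
  have h5 : Nat.card ↥((Cfsg.Inn (Cfsg.POmega F ⇑(OrthCard.QOd m F))).subgroupOf
      (Cfsg.psoAut F ⇑(OrthCard.QOd m F))) =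
      Nat.card ↥(Cfsg.Inn (Cfsg.POmega F ⇑(OrthCard.QOd m F))) :=
    Nat.card_congr (Subgroup.subgroupOfEquivOfLe (inn_le_pso hQ h2 (by omega))).toEquiv
  rw [Subgroup.relIndex] at h3
  rw [h5, h3, card_inn hQ hn] at h4
  rw [← hcoe, h1, ← h4]
  ring

/-- the outer automorphism group of `PΩ_{2m+1}(q)` -/
theorem out_odd {p f : ℕ} [Fact p.Prime] (hf : 1 ≤ f)
    (hF : Fintype.card F = p ^ f) (hp : p ≠ 2) {m : ℕ} (hm : 3 ≤ m) :
    Nonempty (Cfsg.Out (Cfsg.POmega F (Cfsg.quadFormOdd m F)) ≃*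
      Multiplicative (ZMod 2 × ZMod f)) := by
  classical
  haveI := PSL2Aut.charP_of_card hf hF
  have h2 := two_ne_zero_of_odd hf hF hp
  have hcoe := OrthCard.QOd_coe (F := F) m
  have hQ := OrthCard.QOd_nondeg (F := F) h2 m
  have hn : 7 ≤ Fintype.card (Unit ⊕ (Fin m ⊕ Fin m)) := by rw [card_odd_index]; omega
  have hinv : GalInv (⇑(OrthCard.QOd m F)) := by rw [hcoe]; exact galInv_odd m
  have key : ∀ Q' : (Unit ⊕ (Fin m ⊕ Fin m) → F) → F, ⇑(OrthCard.QOd m F) = Q' →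
      Nonempty (Cfsg.Out (Cfsg.POmega F Q') ≃* Multiplicative (ZMod 2 × ZMod f)) := by
    intro Q' hQ'
    subst hQ'
    have hidx : (Cfsg.Inn (Cfsg.POmega F ⇑(OrthCard.QOd m F))).relIndex
        (Cfsg.pgoAut F ⇑(OrthCard.QOd m F)) = 2 := by
      rw [pgo_eq_pso_of_odd hQ (card_odd_index m)]
      exact relIndex_inn_pso_of_odd h2 hQ hn (card_odd_index m)
    have hle : Cfsg.Inn (Cfsg.POmega F ⇑(OrthCard.QOd m F)) ≤
        Cfsg.pgoAut F ⇑(OrthCard.QOd m F) :=
      (inn_le_pso hQ h2 (by omega)).trans pso_le_pgo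
    obtain ⟨e1⟩ := exists_out_equiv (Cfsg.Inn (Cfsg.POmega F ⇑(OrthCard.QOd m F)))
      (Cfsg.pgoAut F ⇑(OrthCard.QOd m F)) hle (Theta p hQ hn (lag_odd h2 hm))
      (Theta_ker p hQ hn (lag_odd h2 hm)) (stdField hinv)
      (fun σ => by rw [stdField_apply]; exact Theta_PhiS p hQ hn (lag_odd h2 hm) _) hidx
    obtain ⟨e2⟩ := PSL2Aut.exists_ringAut_iso hf hF
    exact ⟨e1.trans ((MulEquiv.prodCongr (MulEquiv.refl _) e2).trans
      (MulEquiv.prodMultiplicative (G := ZMod 2) (H := ZMod f)).symm)⟩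
  exact key _ hcoe

end Odd

end Cfsg.Agent.Lib.Helper5.OFld
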