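import Mathlib
import Cfsg.Agent.Lib.Helper5.OFld5

set_option autoImplicit false

/-! Anisotropic binary forms over a finite field are isometric; consequently every field
automorphism lifts to a semisimilarity of a minus type form. -/

namespace Cfsg.Agent.Lib.Helper5.OFld

open Matrix

section Binary
variable {F : Type*} [Field F] [Fintype F]

/-- the discriminant of an anisotropic binary form is not a square -/
theorem disc_not_isSquare (h2 : (2 : F) ≠ 0) (a b : F)
    (hab : ∀ z₁ z₂ : F, z₁ ^ 2 + a * z₁ * z₂ + b * z₂ ^ 2 = 0 → z₁ = 0 ∧ z₂ = 0) :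
    ¬ IsSquare (a ^ 2 - 4 * b) := by
  rintro ⟨s, hs⟩
  have h := hab ((-a + s) / 2) 1 (by
    field_simp
    linear_combination -hs)
  exact one_ne_zero h.2

/-- in odd characteristic the product of two non-squares is a square -/
theorem isSquare_mul_of_not (h2 : (2 : F) ≠ 0) {x y : F} (hx : ¬ IsSquare x) (hy : ¬ IsSquare y) :
    IsSquare (x * y) := by
  classical
  have hch : ringChar F ≠ 2 := by
    intro h
    apply h2
    have := CharP.cast_eq_zero F (ringChar F)
    rw [h] at this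
    exact_mod_cast this
  have hx0 : x ≠ 0 := by rintro rfl; exact hx ⟨0, by ring⟩
  have hy0 : y ≠ 0 := by rintro rfl; exact hy ⟨0, by ring⟩
  have h1 := (quadraticChar_neg_one_iff_not_isSquare (F := F) (a := x)).2 hx
  have h3 := (quadraticChar_neg_one_iff_not_isSquare (F := F) (a := y)).2 hy
  have h4 : quadraticChar F (x * y) = 1 := by rw [map_mul, h1, h3]; norm_num
  exact (quadraticChar_one_iff_isSquare (mul_ne_zero hx0 hy0)).1 h4

/-- the Artin-Schreier map has an image of index two -/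
theorem exists_AS_add (h2 : (2 : F) = 0) {t t' : F} (ht : ∀ y : F, y ^ 2 + y ≠ t)
    (ht' : ∀ y : F, y ^ 2 + y ≠ t') : ∃ y : F, y ^ 2 + y = t + t' := by
  classical
  have hadd : ∀ x y : F, (x + y) ^ 2 = x ^ 2 + y ^ 2 := by
    intro x y
    linear_combination x * y * h2
  let ℘ : F →+ F :=
    { toFun := fun y => y ^ 2 + y
      map_zero' := by ring
      map_add' := fun x y => by
        show (x + y) ^ 2 + (x + y) = x ^ 2 + x + (y ^ 2 + y)
        rw [hadd]; ring }
  have hneg : (-1 : F) = 1 := by linear_combination -h2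
  have hker : ∀ y : F, y ∈ ℘.ker ↔ y = 0 ∨ y = 1 := by
    intro y
    rw [AddMonoidHom.mem_ker]
    show y ^ 2 + y = 0 ↔ _
    constructor
    · intro h
      have : y * (y + 1) = 0 := by linear_combination h
      rcases mul_eq_zero.1 this with h | h
      · exact Or.inl h
      · right
        linear_combination h + hneg
    · rintro (rfl | rfl)
      · ring
      · linear_combination h2
  have hkc : Nat.card ℘.ker = 2 := by
    have : (℘.ker : Set F) = {0, 1} := by
      ext y
      simp only [SetLike.mem_coe, hker, Set.mem_insert_iff, Set.mem_singleton_iff]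
    have h3 : Nat.card ℘.ker = Nat.card ((℘.ker : Set F)) := rfl
    rw [h3, this, Nat.card_coe_set_eq, Set.ncard_pair zero_ne_one]
  have h4 := AddSubgroup.index_ker ℘
  have h5 := AddSubgroup.card_mul_index ℘.ker
  have h6 := AddSubgroup.card_mul_index ℘.range
  rw [h4, hkc] at h5
  have hr0 : Nat.card ℘.range ≠ 0 := Nat.card_pos.ne'
  have hidx : ℘.range.index = 2 := by
    have : Nat.card ℘.range * ℘.range.index = Nat.card ℘.range * 2 := by
      rw [h6, ← h5]; ring
    exact Nat.eq_of_mul_eq_mul_left (Nat.pos_of_ne_zero hr0) this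
  obtain ⟨c, hc⟩ := AddSubgroup.index_eq_two_iff.1 hidx
  have hnt : t ∉ ℘.range := by
    rintro ⟨y, hy⟩
    exact ht y hy
  have hnt' : t' ∉ ℘.range := by
    rintro ⟨y, hy⟩
    exact ht' y hy
  have h7 : t + c ∈ ℘.range := by
    rcases hc t with ⟨h, -⟩ | ⟨h, -⟩
    · exact h
    · exact absurd h hnt
  have h8 : t' + c ∈ ℘.range := by
    rcases hc t' with ⟨h, -⟩ | ⟨h, -⟩
    · exact h
    · exact absurd h hnt'
  have h9 := ℘.range.add_mem h7 h8
  have h10 : t + c + (t' + c) = t + t' := by linear_combination c * h2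
  rw [h10] at h9
  obtain ⟨y, hy⟩ := h9
  exact ⟨y, hy⟩

/-- two anisotropic binary forms representing one are isometric -/
theorem exists_binary_iso (a b a' b' : F)
    (hab : ∀ z₁ z₂ : F, z₁ ^ 2 + a * z₁ * z₂ + b * z₂ ^ 2 = 0 → z₁ = 0 ∧ z₂ = 0)
    (hab' : ∀ z₁ z₂ : F, z₁ ^ 2 + a' * z₁ * z₂ + b' * z₂ ^ 2 = 0 → z₁ = 0 ∧ z₂ = 0) :
    ∃ α β : F, β ≠ 0 ∧ 2 * α + a * β = a' ∧ α ^ 2 + a * α * β + b * β ^ 2 = b' := by
  by_cases h2 : (2 : F) = 0
  · -- characteristic two
    have hsq : ∀ x : F, ∃ s, s ^ 2 = x := by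
      intro x
      have hch : ringChar F = 2 :=
        CharP.ringChar_of_prime_eq_zero Nat.prime_two (by exact_mod_cast h2)
      obtain ⟨s, hs⟩ := FiniteField.isSquare_of_char_two hch x
      exact ⟨s, by rw [hs]; ring⟩
    have ha0 : ∀ a b : F, (∀ z₁ z₂ : F, z₁ ^ 2 + a * z₁ * z₂ + b * z₂ ^ 2 = 0 → z₁ = 0 ∧ z₂ = 0) →
        a ≠ 0 := by
      rintro a b hab rfl
      obtain ⟨s, hs⟩ := hsq b
      have := hab s 1 (by linear_combination hs + b * h2)
      exact one_ne_zero this.2
    have hAS : ∀ a b : F, (∀ z₁ z₂ : F, z₁ ^ 2 + a * z₁ * z₂ + b * z₂ ^ 2 = 0 → z₁ = 0 ∧ z₂ = 0) →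
        ∀ y : F, y ^ 2 + y ≠ b / a ^ 2 := by
      intro a b hab y hy
      have ha := ha0 a b hab
      have := hab (a * y) 1 (by
        have e : (a * y) ^ 2 + a * (a * y) * 1 + b * 1 ^ 2 = a ^ 2 * (y ^ 2 + y) + b := by ring
        rw [e, hy]
        field_simp
        linear_combination b * h2)
      exact one_ne_zero this.2
    have ha := ha0 a b hab
    have ha' := ha0 a' b' hab'
    obtain ⟨y, hy⟩ := exists_AS_add h2 (hAS a b hab) (hAS a' b' hab')
    refine ⟨a' * y, a' / a, div_ne_zero ha' ha, ?_, ?_⟩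
    · rw [mul_div_cancel₀ _ ha]
      linear_combination a' * y * h2
    · have e : (a' * y) ^ 2 + a * (a' * y) * (a' / a) + b * (a' / a) ^ 2 =
          a' ^ 2 * (y ^ 2 + y) + b * a' ^ 2 / a ^ 2 := by
        field_simp
      rw [e, hy]
      field_simp
      linear_combination a' ^ 2 * b * h2
  · -- odd characteristic
    have hD := disc_not_isSquare h2 a b hab
    have hD' := disc_not_isSquare h2 a' b' hab'
    have hD0 : a ^ 2 - 4 * b ≠ 0 := by
      intro h
      exact hD ⟨0, by rw [h]; ring⟩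
    obtain ⟨s, hs⟩ := isSquare_mul_of_not h2 hD hD'
    have hs0 : s ≠ 0 := by
      rintro rfl
      have hD0' : a' ^ 2 - 4 * b' ≠ 0 := by
        intro h
        exact hD' ⟨0, by rw [h]; ring⟩
      exact mul_ne_zero hD0 hD0' (by rw [hs]; ring)
    -- `β = s / D`
    have h4 : (4 : F) ≠ 0 := by
      have : (4 : F) = 2 * 2 := by norm_num
      rw [this]
      exact mul_ne_zero h2 h2
    obtain ⟨β, hβ⟩ : ∃ β : F, β = s / (a ^ 2 - 4 * b) := ⟨_, rfl⟩
    have hβ0 : β ≠ 0 := by rw [hβ]; exact div_ne_zero hs0 hD0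
    have hβ2 : (a ^ 2 - 4 * b) * β ^ 2 = a' ^ 2 - 4 * b' := by
      rw [hβ]
      field_simp
      linear_combination -hs
    refine ⟨(a' - a * β) / 2, β, hβ0, ?_, ?_⟩
    · field_simp
      ring
    · have e : ((a' - a * β) / 2) ^ 2 + a * ((a' - a * β) / 2) * β + b * β ^ 2 =
          (a' ^ 2 - (a ^ 2 - 4 * b) * β ^ 2) / 4 := by
        field_simp
        ring
      rw [e, hβ2]
      field_simp
      ring

end Binary

section Minus
variable {F : Type*} [Field F]

/-- the matrix of an isometry between two binary forms -/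
def binMat (α β : F) : Matrix (Fin 2) (Fin 2) F := !![1, α; 0, β]

/-- the block matrix which is the identity on the hyperbolic part -/
def twistMat (k : ℕ) (α β : F) :
    Matrix ((Fin k ⊕ Fin k) ⊕ Fin 2) ((Fin k ⊕ Fin k) ⊕ Fin 2) F :=
  Matrix.fromBlocks 1 0 0 (binMat α β)

theorem twistMat_det (k : ℕ) (α β : F) : (twistMat k α β).det = β := by
  unfold twistMat binMat
  rw [Matrix.det_fromBlocks_zero₂₁, Matrix.det_one, Matrix.det_fin_two_of]
  ring

theorem twistMat_form (k : ℕ) (a b a' b' α β : F) (h1 : 2 * α + a * β = a')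
    (h2 : α ^ 2 + a * α * β + b * β ^ 2 = b') (v : (Fin k ⊕ Fin k) ⊕ Fin 2 → F) :
    Cfsg.quadFormMinus k F a b (twistMat k α β *ᵥ v) = Cfsg.quadFormMinus k F a' b' v := by
  have hv : v = Sum.elim (v ∘ Sum.inl) (v ∘ Sum.inr) := (Sum.elim_comp_inl_inr v).symm
  have e1 : ∀ i : Fin k ⊕ Fin k, (twistMat k α β *ᵥ v) (Sum.inl i) = v (Sum.inl i) := by
    intro i
    unfold twistMat
    rw [hv, Matrix.fromBlocks_mulVec]
    simp
  have e2 : ∀ j : Fin 2, (twistMat k α β *ᵥ v) (Sum.inr j) =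
      (binMat α β *ᵥ (v ∘ Sum.inr)) j := by
    intro j
    unfold twistMat
    rw [hv, Matrix.fromBlocks_mulVec]
    simp
  unfold Cfsg.quadFormMinus
  rw [e2 0, e2 1]
  simp only [e1]
  unfold binMat
  simp only [Matrix.mulVec, dotProduct, Fin.sum_univ_two, Matrix.of_apply, Matrix.cons_val',
    Matrix.cons_val_zero, Matrix.cons_val_one, Function.comp_apply,
    Matrix.cons_val_fin_one]
  rw [← h1, ← h2]
  ring

/-- every field automorphism lifts to a semisimilarity of a minus type form -/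
theorem exists_pair_minus [Fintype F] (k : ℕ) (a b : F)
    (hab : ∀ z₁ z₂ : F, z₁ ^ 2 + a * z₁ * z₂ + b * z₂ ^ 2 = 0 → z₁ = 0 ∧ z₂ = 0)
    (σ : F ≃+* F) :
    ∃ g : GL ((Fin k ⊕ Fin k) ⊕ Fin 2) F,
      Cfsg.IsSemisimilarityPair (Cfsg.quadFormMinus k F a b) g σ := by
  have hab' : ∀ z₁ z₂ : F, z₁ ^ 2 + σ a * z₁ * z₂ + σ b * z₂ ^ 2 = 0 → z₁ = 0 ∧ z₂ = 0 := by
    intro z₁ z₂ h
    have h1 := hab (σ.symm z₁) (σ.symm z₂) (by
      apply σ.injective
      rw [map_add, map_add, map_mul, map_mul, map_mul, map_pow, map_pow, map_zero,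
        RingEquiv.apply_symm_apply, RingEquiv.apply_symm_apply]
      exact h)
    constructor
    · have := congrArg σ h1.1
      rwa [RingEquiv.apply_symm_apply, map_zero] at this
    · have := congrArg σ h1.2
      rwa [RingEquiv.apply_symm_apply, map_zero] at this
  obtain ⟨α, β, hβ, h1, h2⟩ := exists_binary_iso a b (σ a) (σ b) hab hab'
  have hdet : IsUnit (twistMat k α β).det := by
    rw [twistMat_det]
    exact isUnit_iff_ne_zero.2 hβ
  refine ⟨Matrix.GeneralLinearGroup.mk'' _ hdet, 1, fun v => ?_⟩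
  have : ((Matrix.GeneralLinearGroup.mk'' _ hdet : GL ((Fin k ⊕ Fin k) ⊕ Fin 2) F) :
      Matrix ((Fin k ⊕ Fin k) ⊕ Fin 2) ((Fin k ⊕ Fin k) ⊕ Fin 2) F) = twistMat k α β := rfl
  rw [this, twistMat_form k a b (σ a) (σ b) α β h1 h2, Units.val_one, one_mul]
  unfold Cfsg.quadFormMinus
  rw [map_add, map_sum, map_add, map_add]
  simp only [map_mul, map_pow]

end Minus

end Cfsg.Agent.Lib.Helper5.OFld
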