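import Mathlib
import Cfsg.Agent.Lib.Helper5.PGO14

set_option autoImplicit false

/-! The structure of `PGO / Inn(PΩ)` for the plus and minus type forms. -/

namespace Cfsg.Agent.Lib.Helper5.PGO

open Matrix Cfsg.Agent.Lib.Helper2 Cfsg.Agent.Lib.Helper2.CDG Cfsg.Agent.Lib.Helper2.Spinor
open Cfsg.Agent.Lib.Helper5.QuadGlue Cfsg.Agent.Lib.Helper2.QuadStd
open Cfsg.Agent.Lib.Helper2.OrthCard

variable {F : Type*} [Field F] [Fintype F] [DecidableEq F] {ι : Type} [Fintype ι] [DecidableEq ι]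
variable {Q : QuadraticForm F (ι → F)}

/-- if `-1 ∉ Ω`, `PGO / Inn(PΩ)` is a Klein four group -/
theorem klein_inn_of_not_mem (hQ : (QuadraticMap.polarBilin Q).Nondegenerate)
    (hQ0 : ∃ v, Q v ≠ 0) {m : ℕ} (hm : Fintype.card ι = 2 * m) (h2 : (2 : F) ≠ 0)
    (hn : 7 ≤ Fintype.card ι) (hsurj : Function.Surjective (chi hQ hQ0 hm h2))
    (hneg : negOne Q ∉ commutator ↥(Cfsg.isometryGroup F ⇑Q)) :
    ∃ φ : ↥(Cfsg.pgoAut F (⇑Q)) →* Multiplicative (ZMod 2 × ZMod 2), Function.Surjective φ ∧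
      φ.ker = (Cfsg.Inn (Cfsg.POmega F (⇑Q))).subgroupOf (Cfsg.pgoAut F (⇑Q)) := by
  have heq : Cfsg.Inn (Cfsg.POmega F (⇑Q)) = Cfsg.psoAut F (⇑Q) := by
    apply le_antisymm (inn_le_pso hQ h2 (by omega))
    have := relIndex_of_not_mem h2 hQ (by omega) (by rw [hm]; exact even_two_mul m) hneg
    exact Subgroup.relIndex_eq_one.1 this
  rw [heq]
  exact klein_of_chi_surj hQ hQ0 hm h2 hn hsurj

/-- a matrix whose square is a non-zero scalar is invertible -/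
noncomputable def glOfSq (M : Matrix ι ι F) (c : Fˣ) (h : M * M = Matrix.scalar ι (c : F)) :
    GL ι F where
  val := M
  inv := (c⁻¹ : Fˣ).val • M
  val_inv := by
    rw [Matrix.mul_smul, h, Matrix.scalar_apply, ← Matrix.diagonal_smul, ← Matrix.diagonal_one]
    congr 1
    funext i
    simp
  inv_val := by
    rw [Matrix.smul_mul, h, Matrix.scalar_apply, ← Matrix.diagonal_smul, ← Matrix.diagonal_one]
    congr 1
    funext i
    simp

theorem glOfSq_sq (M : Matrix ι ι F) (c : Fˣ) (h : M * M = Matrix.scalar ι (c : F)) :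
    glOfSq M c h * glOfSq M c h = scalHom c := by
  apply Units.ext
  exact h

/-- the swap matrix `(x, y) ↦ (ν y, x)` -/
def swapMat (m : ℕ) (ν : F) : Matrix (Fin m ⊕ Fin m) (Fin m ⊕ Fin m) F :=
  Matrix.fromBlocks 0 (Matrix.scalar (Fin m) ν) 1 0

theorem swapMat_sq (m : ℕ) (ν : F) :
    swapMat m ν * swapMat m ν = Matrix.scalar (Fin m ⊕ Fin m) ν := by
  unfold swapMat
  rw [Matrix.fromBlocks_multiply]
  simp only [Matrix.zero_mul, Matrix.mul_zero, Matrix.mul_one, Matrix.one_mul, zero_add, add_zero]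
  rw [Matrix.scalar_apply, Matrix.scalar_apply, Matrix.fromBlocks_diagonal]
  congr 1
  funext i
  rcases i with i | i <;> rfl

theorem swapMat_mulVec_inl (m : ℕ) (ν : F) (v : Fin m ⊕ Fin m → F) (i : Fin m) :
    (swapMat m ν *ᵥ v) (Sum.inl i) = ν * v (Sum.inr i) := by
  have hv : v = Sum.elim (v ∘ Sum.inl) (v ∘ Sum.inr) := (Sum.elim_comp_inl_inr v).symm
  unfold swapMat
  rw [hv, Matrix.fromBlocks_mulVec]
  simp [Matrix.scalar_apply]

theorem swapMat_mulVec_inr (m : ℕ) (ν : F) (v : Fin m ⊕ Fin m → F) (i : Fin m) :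
    (swapMat m ν *ᵥ v) (Sum.inr i) = v (Sum.inl i) := by
  have hv : v = Sum.elim (v ∘ Sum.inl) (v ∘ Sum.inr) := (Sum.elim_comp_inl_inr v).symm
  unfold swapMat
  rw [hv, Matrix.fromBlocks_mulVec]
  simp

theorem swapMat_sim (m : ℕ) (ν : F) (v : Fin m ⊕ Fin m → F) :
    Cfsg.quadFormPlus m F (swapMat m ν *ᵥ v) = ν * Cfsg.quadFormPlus m F v := by
  unfold Cfsg.quadFormPlus
  rw [Finset.mul_sum]
  apply Finset.sum_congr rfl
  intro i _
  rw [swapMat_mulVec_inl, swapMat_mulVec_inr]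
  ring

theorem negOne_plus_iff' {q : ℕ} (hF : Fintype.card F = q) (hq : Odd q) {m : ℕ} (hm : 1 ≤ m) :
    negOne (QP m F) ∈ commutator ↥(Cfsg.isometryGroup F ⇑(QP m F)) ↔
      ¬ (Odd m ∧ q % 4 = 3) :=
  (negOne_plus_iff hF hq hm).trans (even_half_iff hq m)

theorem negOne_minus_iff' {q : ℕ} (hF : Fintype.card F = q) (hq : Odd q) (m : ℕ) (a b : F)
    (hab : ∀ z₁ z₂ : F, z₁ ^ 2 + a * z₁ * z₂ + b * z₂ ^ 2 = 0 → z₁ = 0 ∧ z₂ = 0) :
    negOne (QMn m a b) ∈ commutator ↥(Cfsg.isometryGroup F ⇑(QMn m a b)) ↔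
      (Even m ∧ q % 4 = 3) := by
  rw [negOne_minus_iff hF hq m a b hab, even_half_iff hq (m + 1), not_not, Nat.odd_add_one,
    Nat.not_odd_iff_even]

/-- the structure of `PGO⁺ / Inn(PΩ⁺)` -/
theorem structure_plus {q : ℕ} (hF : Fintype.card F = q) (hq : Odd q) {m : ℕ} (hm : 4 ≤ m) :
    ((Odd m ∧ q % 4 = 3) →
      ∃ φ : ↥(Cfsg.pgoAut F (⇑(QP m F))) →* Multiplicative (ZMod 2 × ZMod 2),
        Function.Surjective φ ∧ φ.ker = (Cfsg.Inn (Cfsg.POmega F (⇑(QP m F)))).subgroupOf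
          (Cfsg.pgoAut F (⇑(QP m F)))) ∧
    (¬ (Odd m ∧ q % 4 = 3) →
      ∃ φ : ↥(Cfsg.pgoAut F (⇑(QP m F))) →* DihedralGroup 4,
        Function.Surjective φ ∧ φ.ker = (Cfsg.Inn (Cfsg.POmega F (⇑(QP m F)))).subgroupOf
          (Cfsg.pgoAut F (⇑(QP m F)))) := by
  have h2 : (2 : F) ≠ 0 := two_ne_zero_of_odd_card (by rw [hF]; exact hq)
  have hiff := negOne_plus_iff' hF hq (by omega : 1 ≤ m)
  have hn : 7 ≤ Fintype.card (Fin m ⊕ Fin m) := by rw [card_plus]; omega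
  constructor
  · intro h
    exact klein_inn_of_not_mem (QP_nondeg m) (QP_ne_zero (by omega)) (card_plus m) h2 hn
      (chi_surj_plus (by omega) h2) (by rw [hiff]; exact fun h' => h' h)
  · intro h
    obtain ⟨ν, hν⟩ := exists_nonsquare_unit (F := F) h2
    have hsim : ∀ v, QP m F (((glOfSq (swapMat m (ν : F)) ν (swapMat_sq m (ν : F)) :
        GL (Fin m ⊕ Fin m) F) : Matrix (Fin m ⊕ Fin m) (Fin m ⊕ Fin m) F) *ᵥ v) =
        (ν : F) * QP m F v := by
      intro v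
      rw [QP_apply, QP_apply]
      exact swapMat_sim m (ν : F) v
    exact dihedral_of (QP_nondeg m) (QP_ne_zero (by omega)) (card_plus m) h2 hn
      (chi_surj_plus (by omega) h2) (hiff.2 h)
      ⟨glOfSq (swapMat m (ν : F)) ν (swapMat_sq m (ν : F)), ⟨ν, hsim⟩⟩ ν hν hsim ν
      (Subtype.ext (glOfSq_sq (swapMat m (ν : F)) ν (swapMat_sq m (ν : F))))

end Cfsg.Agent.Lib.Helper5.PGO
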