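import Mathlib
import Cfsg.Agent.Lib.Helper5.PGO15

set_option autoImplicit false

/-! The structure of `PGO⁻ / Inn(PΩ⁻)`. -/

namespace Cfsg.Agent.Lib.Helper5.PGO

open Matrix Cfsg.Agent.Lib.Helper2 Cfsg.Agent.Lib.Helper2.CDG Cfsg.Agent.Lib.Helper2.Spinor
open Cfsg.Agent.Lib.Helper5.QuadGlue Cfsg.Agent.Lib.Helper2.QuadStd
open Cfsg.Agent.Lib.Helper2.OrthCard

variable {F : Type*} [Field F] [Fintype F] [DecidableEq F]

/-- the matrix of `z ↦ θ z̄` on the binary norm form -/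
def conjMat (a b α β : F) : Matrix (Fin 2) (Fin 2) F := !![α, a * α + b * β; β, -α]

theorem conjMat_sq (a b α β ν : F) (h : α ^ 2 + a * α * β + b * β ^ 2 = ν) :
    conjMat a b α β * conjMat a b α β = Matrix.scalar (Fin 2) ν := by
  unfold conjMat
  rw [← h]
  ext i j
  fin_cases i <;> fin_cases j <;> simp [Matrix.mul_apply, Fin.sum_univ_two] <;> ring

/-- the similarity of the minus type form whose square is a scalar -/
def swapMinusMat (m : ℕ) (a b ν α β : F) :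
    Matrix ((Fin m ⊕ Fin m) ⊕ Fin 2) ((Fin m ⊕ Fin m) ⊕ Fin 2) F :=
  Matrix.fromBlocks (swapMat m ν) 0 0 (conjMat a b α β)

theorem swapMinusMat_sq (m : ℕ) (a b ν α β : F) (h : α ^ 2 + a * α * β + b * β ^ 2 = ν) :
    swapMinusMat m a b ν α β * swapMinusMat m a b ν α β =
      Matrix.scalar ((Fin m ⊕ Fin m) ⊕ Fin 2) ν := by
  unfold swapMinusMat
  rw [Matrix.fromBlocks_multiply]
  simp only [Matrix.zero_mul, Matrix.mul_zero, zero_add, add_zero]
  rw [swapMat_sq, conjMat_sq a b α β ν h, Matrix.scalar_apply, Matrix.scalar_apply,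
    Matrix.scalar_apply, Matrix.fromBlocks_diagonal]
  congr 1
  funext i
  rcases i with i | i <;> rfl

theorem swapMinusMat_sim (m : ℕ) (a b ν α β : F) (h : α ^ 2 + a * α * β + b * β ^ 2 = ν)
    (v : (Fin m ⊕ Fin m) ⊕ Fin 2 → F) :
    Cfsg.quadFormMinus m F a b (swapMinusMat m a b ν α β *ᵥ v) =
      ν * Cfsg.quadFormMinus m F a b v := by
  have hv : v = Sum.elim (v ∘ Sum.inl) (v ∘ Sum.inr) := (Sum.elim_comp_inl_inr v).symm
  have h1 : ∀ i : Fin m ⊕ Fin m, (swapMinusMat m a b ν α β *ᵥ v) (Sum.inl i) =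
      (swapMat m ν *ᵥ (v ∘ Sum.inl)) i := by
    intro i
    unfold swapMinusMat
    rw [hv, Matrix.fromBlocks_mulVec]
    simp
  have h2 : ∀ k : Fin 2, (swapMinusMat m a b ν α β *ᵥ v) (Sum.inr k) =
      (conjMat a b α β *ᵥ (v ∘ Sum.inr)) k := by
    intro k
    unfold swapMinusMat
    rw [hv, Matrix.fromBlocks_mulVec]
    simp
  unfold Cfsg.quadFormMinus
  rw [h2 0, h2 1]
  simp only [h1, swapMat_mulVec_inl, swapMat_mulVec_inr, Function.comp_apply]
  unfold conjMat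
  simp only [Matrix.mulVec, dotProduct, Fin.sum_univ_two, Matrix.of_apply, Matrix.cons_val',
    Matrix.cons_val_zero, Matrix.cons_val_one, Function.comp_apply,
    Matrix.cons_val_fin_one]
  rw [mul_add ν, Finset.mul_sum]
  congr 1
  · apply Finset.sum_congr rfl
    intro i _
    ring
  · rw [← h]
    ring

/-- the structure of `PGO⁻ / Inn(PΩ⁻)` -/
theorem structure_minus {q : ℕ} (hF : Fintype.card F = q) (hq : Odd q) {m : ℕ} (hm : 3 ≤ m)
    (a b : F) (hab : ∀ z₁ z₂ : F, z₁ ^ 2 + a * z₁ * z₂ + b * z₂ ^ 2 = 0 → z₁ = 0 ∧ z₂ = 0) :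
    ((Even m ∧ q % 4 = 3) →
      ∃ φ : ↥(Cfsg.pgoAut F (⇑(QMn m a b))) →* DihedralGroup 4,
        Function.Surjective φ ∧ φ.ker = (Cfsg.Inn (Cfsg.POmega F (⇑(QMn m a b)))).subgroupOf
          (Cfsg.pgoAut F (⇑(QMn m a b)))) ∧
    (¬ (Even m ∧ q % 4 = 3) →
      ∃ φ : ↥(Cfsg.pgoAut F (⇑(QMn m a b))) →* Multiplicative (ZMod 2 × ZMod 2),
        Function.Surjective φ ∧ φ.ker = (Cfsg.Inn (Cfsg.POmega F (⇑(QMn m a b)))).subgroupOf
          (Cfsg.pgoAut F (⇑(QMn m a b)))) := by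
  have h2 : (2 : F) ≠ 0 := two_ne_zero_of_odd_card (by rw [hF]; exact hq)
  have hiff := negOne_minus_iff' hF hq m a b hab
  have hn : 7 ≤ Fintype.card ((Fin m ⊕ Fin m) ⊕ Fin 2) := by rw [card_minus]; omega
  constructor
  · intro h
    obtain ⟨ν, hν⟩ := exists_nonsquare_unit (F := F) h2
    obtain ⟨α, β, hαβ⟩ := exists_norm h2 a b hab (ν : F)
    have hsim : ∀ v, QMn m a b (((glOfSq (swapMinusMat m a b (ν : F) α β) ν
        (swapMinusMat_sq m a b (ν : F) α β hαβ) : GL ((Fin m ⊕ Fin m) ⊕ Fin 2) F) :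
        Matrix ((Fin m ⊕ Fin m) ⊕ Fin 2) ((Fin m ⊕ Fin m) ⊕ Fin 2) F) *ᵥ v) =
        (ν : F) * QMn m a b v := by
      intro v
      rw [QMn_coe]
      exact swapMinusMat_sim m a b (ν : F) α β hαβ v
    exact dihedral_of (QMn_nondeg m a b hab) (QMn_ne_zero m a b) (card_minus m) h2 hn
      (chi_surj_minus m h2 a b hab) (hiff.2 h)
      ⟨glOfSq (swapMinusMat m a b (ν : F) α β) ν (swapMinusMat_sq m a b (ν : F) α β hαβ),
        ⟨ν, hsim⟩⟩ ν hν hsim ν
      (Subtype.ext (glOfSq_sq (swapMinusMat m a b (ν : F) α β) ν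
        (swapMinusMat_sq m a b (ν : F) α β hαβ)))
  · intro h
    exact klein_inn_of_not_mem (QMn_nondeg m a b hab) (QMn_ne_zero m a b) (card_minus m) h2 hn
      (chi_surj_minus m h2 a b hab) (by rw [hiff]; exact h)

end Cfsg.Agent.Lib.Helper5.PGO
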