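import Mathlib
import Cfsg.Agent.Lib.Helper5.OFld6
import Cfsg.Agent.Lib.Helper5.OFld7
import Cfsg.Agent.Lib.Helper5.PGO16
import Cfsg.Agent.Lib.Helper5.OmegaCrit

set_option autoImplicit false

/-! The order of `Aut(PΩ⁻_{2m}(q))`. -/

namespace Cfsg.Agent.Lib.Helper5.OFld

open Matrix Cfsg.Agent.Lib.Helper5.PGO Cfsg.Agent.Lib.Helper5.OAut
open Cfsg.Agent.Lib.Helper2 Cfsg.Agent.Lib.Helper2.LongRoot

section CharTwo
variable {F : Type*} [Field F] [Fintype F] {ι : Type} [Fintype ι] [DecidableEq ι]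
variable {Q : QuadraticForm F (ι → F)}

/-- the orthogonal group acting on `PΩ` -/
noncomputable def PsiO (Q : QuadraticForm F (ι → F)) :
    ↥(Cfsg.isometryGroup F ⇑Q) →* MulAut (Cfsg.POmega F ⇑Q) :=
  (Phi (⇑Q)).comp (incl (⇑Q))

theorem inn_eq_map_PsiO :
    Cfsg.Inn (Cfsg.POmega F ⇑Q) = (Cfsg.Omega F ⇑Q).map (PsiO Q) := by
  rw [inn_eq, PsiO, ← Subgroup.map_map]

theorem exists_value_ne (hQ : (QuadraticMap.polarBilin Q).Nondegenerate)
    (hn : 2 ≤ Fintype.card ι) : ∃ v, Q v ≠ 0 := by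
  have hfr : 2 ≤ Module.finrank F (ι → F) := by
    rw [Module.finrank_fintype_fun_eq_card]; exact hn
  obtain ⟨u, hu⟩ := Cfsg.Agent.Lib.Helper5.exists_represents_one Q hQ hfr
  exact ⟨u, by rw [hu]; exact one_ne_zero⟩

/-- in characteristic two the orthogonal group acts faithfully -/
theorem PsiO_injective (h2 : (2 : F) = 0) (hQ : (QuadraticMap.polarBilin Q).Nondegenerate)
    (hn : 7 ≤ Fintype.card ι) : Function.Injective (PsiO Q) := by
  have hQ0 := exists_value_ne hQ (by omega : 2 ≤ Fintype.card ι)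
  rw [injective_iff_map_eq_one]
  intro h hh
  have h1 : incl (⇑Q) h ∈ (Phi (⇑Q)).ker := hh
  rw [ker_eq hQ hn] at h1
  obtain ⟨c, hc⟩ := h1
  have hmu : mu (⇑Q) (incl (⇑Q) h) = 1 := mu_of_iso hQ0 _ h.2
  rw [← hc, mu_scal hQ0] at hmu
  have hc1 : c = 1 := by
    apply Units.ext
    have := congrArg Units.val hmu
    rw [Units.val_mul, Units.val_one] at this
    have h3 : ((c : F) - 1) ^ 2 = 0 := by linear_combination this - (c : F) * h2 + h2
    have h4 := pow_eq_zero_iff (two_ne_zero) |>.1 h3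
    rw [Units.val_one]
    linear_combination h4
  rw [hc1, map_one] at hc
  apply Subtype.ext
  have := congrArg (fun x : ↥(GO (⇑Q)) => (x : GL ι F)) hc
  exact this.symm

/-- in characteristic two every similarity is a scalar times an isometry -/
theorem range_PsiO (h2 : (2 : F) = 0) (hQ : (QuadraticMap.polarBilin Q).Nondegenerate)
    (hn : 2 ≤ Fintype.card ι) : (PsiO Q).range = Cfsg.pgoAut F ⇑Q := by
  have hQ0 := exists_value_ne hQ hn
  rw [pgoAut_eq]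
  apply le_antisymm
  · rintro _ ⟨h, rfl⟩
    exact ⟨incl (⇑Q) h, rfl⟩
  · rintro _ ⟨g, rfl⟩
    have hch : ringChar F = 2 :=
      CharP.ringChar_of_prime_eq_zero Nat.prime_two (by exact_mod_cast h2)
    obtain ⟨s, hs⟩ := FiniteField.isSquare_of_char_two hch (mu (⇑Q) g : F)
    have hs0 : s ≠ 0 := by
      rintro rfl
      rw [mul_zero] at hs
      exact (mu (⇑Q) g).ne_zero hs
    obtain ⟨t, ht⟩ : ∃ t : Fˣ, (t : F) = s := ⟨Units.mk0 s hs0, rfl⟩
    have hmem : ((scalGO Q t⁻¹ * g : ↥(GO (⇑Q))) : GL ι F) ∈ Cfsg.isometryGroup F ⇑Q := by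
      rw [mem_iso_iff]
      intro v
      rw [Subgroup.coe_mul, Units.val_mul, ← Matrix.mulVec_mulVec, scalGO_coe, scalHom_mulVec,
        QuadraticMap.map_smul, mu_spec (⇑Q) g, hs, ← ht, smul_eq_mul, Units.val_inv_eq_inv_val]
      field_simp
    refine ⟨⟨_, hmem⟩, ?_⟩
    show Phi (⇑Q) (incl (⇑Q) ⟨_, hmem⟩) = Phi (⇑Q) g
    have : incl (⇑Q) ⟨_, hmem⟩ = scalGO Q t⁻¹ * g := rfl
    rw [this, map_mul]
    have : Phi (⇑Q) (scalGO Q t⁻¹) = 1 := scal_le_ker ⟨t⁻¹, rfl⟩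
    rw [this, one_mul]

/-- in characteristic two `Inn(PΩ)` has index two in the image of the similarity group -/
theorem relIndex_inn_pgo_two (h2 : (2 : F) = 0) (hQ : (QuadraticMap.polarBilin Q).Nondegenerate)
    (hn : 7 ≤ Fintype.card ι) :
    (Cfsg.Inn (Cfsg.POmega F ⇑Q)).relIndex (Cfsg.pgoAut F ⇑Q) = 2 := by
  rw [← range_PsiO h2 hQ (by omega), inn_eq_map_PsiO, MonoidHom.range_eq_map,
    Subgroup.relIndex_map_map_of_injective _ _ (PsiO_injective h2 hQ hn),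
    Subgroup.relIndex_top_right]
  have hex : Fintype.card F ≠ 2 ∨ Fintype.card ι ≠ 4 := Or.inr (by omega)
  have := Dickson.card_abelianization₂ h2 hQ hex (by omega)
  exact this

end CharTwo

section General
variable {F : Type*} [Field F] [Fintype F] {ι : Type} [Fintype ι] [DecidableEq ι]
variable {Q : QuadraticForm F (ι → F)}

set_option quotPrecheck false in
local notation "β" => QuadraticMap.polar (⇑Q)

theorem inn_le_pgo : Cfsg.Inn (Cfsg.POmega F ⇑Q) ≤ Cfsg.pgoAut F ⇑Q := by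
  rw [inn_eq, pgoAut_eq]
  exact Subgroup.map_le_range _ _

/-- the order of the automorphism group in terms of the index of `Inn` in `PGO` -/
theorem card_aut_of_relIndex (p : ℕ) [Fact p.Prime] [CharP F p]
    (hQ : (QuadraticMap.polarBilin Q).Nondegenerate) (hn : 7 ≤ Fintype.card ι)
    (hLag : ∀ T : Submodule F (ι → F), (∀ x ∈ T, Q x = 0) →
      (∀ y, (∀ x ∈ T, β x y = 0) → y ∈ T) → 5 ≤ Module.finrank F ↥T)
    (hlift : ∀ σ : F ≃+* F, ∃ g : GL ι F, Cfsg.IsSemisimilarityPair (⇑Q) g σ) :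
    Nat.card (MulAut (Cfsg.POmega F (⇑Q))) =
      (Cfsg.Inn (Cfsg.POmega F ⇑Q)).relIndex (Cfsg.pgoAut F ⇑Q) * Nat.card (F ≃+* F) *
        Nat.card (Cfsg.POmega F (⇑Q)) := by
  rw [card_aut p hQ hn hLag hlift]
  have h4 := Subgroup.card_mul_index
    ((Cfsg.Inn (Cfsg.POmega F ⇑Q)).subgroupOf (Cfsg.pgoAut F ⇑Q))
  have h5 : Nat.card ↥((Cfsg.Inn (Cfsg.POmega F ⇑Q)).subgroupOf (Cfsg.pgoAut F ⇑Q)) =
      Nat.card ↥(Cfsg.Inn (Cfsg.POmega F ⇑Q)) :=
    Nat.card_congr (Subgroup.subgroupOfEquivOfLe inn_le_pgo).toEquiv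
  rw [h5, card_inn hQ hn] at h4
  rw [← h4, Subgroup.relIndex]
  ring

end General

section Minus
variable {F : Type*} [Field F] [Fintype F]

theorem card_minus_index (k : ℕ) : Fintype.card ((Fin k ⊕ Fin k) ⊕ Fin 2) = 2 * k + 2 := by
  rw [Fintype.card_sum, Fintype.card_sum, Fintype.card_fin, Fintype.card_fin]; omega

theorem lag_minus {k : ℕ} (a b : F)
    (hab : ∀ z₁ z₂ : F, z₁ ^ 2 + a * z₁ * z₂ + b * z₂ ^ 2 = 0 → z₁ = 0 ∧ z₂ = 0)
    (T : Submodule F ((Fin k ⊕ Fin k) ⊕ Fin 2 → F))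
    (hT : ∀ x ∈ T, OrthCard.QMn k a b x = 0)
    (hperp : ∀ y, (∀ x ∈ T, QuadraticMap.polar (⇑(OrthCard.QMn k a b)) x y = 0) → y ∈ T) :
    5 ≤ Module.finrank F ↥T := by
  have h1 := two_mul_finrank_of_lagrangian (OrthCard.QMn_nondeg (F := F) k a b hab) T hT hperp
  rw [card_minus_index] at h1
  have h2 := finrank_le_of_ts_minus a b hab T (fun u hu => by
    have := hT u hu
    rw [OrthCard.QMn_coe] at this
    exact this)
  omega

/-- the order of `Aut(PΩ⁻)` in terms of the index of `Inn` in `PGO` -/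
theorem card_aut_minus_aux {p f : ℕ} [Fact p.Prime] (hf : 1 ≤ f)
    (hF : Fintype.card F = p ^ f) {k : ℕ} (hk : 3 ≤ k) (a b : F)
    (hab : ∀ z₁ z₂ : F, z₁ ^ 2 + a * z₁ * z₂ + b * z₂ ^ 2 = 0 → z₁ = 0 ∧ z₂ = 0) :
    Nat.card (MulAut (Cfsg.POmega F (⇑(OrthCard.QMn k a b)))) =
      (Cfsg.Inn (Cfsg.POmega F ⇑(OrthCard.QMn k a b))).relIndex
        (Cfsg.pgoAut F ⇑(OrthCard.QMn k a b)) * f *
        Nat.card (Cfsg.POmega F (⇑(OrthCard.QMn k a b))) := by
  haveI := PSL2Aut.charP_of_card hf hF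
  have hQ := OrthCard.QMn_nondeg (F := F) k a b hab
  have hn : 7 ≤ Fintype.card ((Fin k ⊕ Fin k) ⊕ Fin 2) := by rw [card_minus_index]; omega
  have h1 := card_aut_of_relIndex p hQ hn (lag_minus a b hab) (fun σ => by
    rw [OrthCard.QMn_coe]
    exact exists_pair_minus k a b hab σ)
  rw [(PSL2Aut.ringAut_cyclic_card hf hF).2] at h1
  exact h1

/-- the order of `Aut(PΩ⁻_{2k+2}(q))` -/
theorem card_aut_minus {p f : ℕ} [Fact p.Prime] (hf : 1 ≤ f)
    (hF : Fintype.card F = p ^ f) {k : ℕ} (hk : 3 ≤ k) (a b : F)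
    (hab : ∀ z₁ z₂ : F, z₁ ^ 2 + a * z₁ * z₂ + b * z₂ ^ 2 = 0 → z₁ = 0 ∧ z₂ = 0) :
    Nat.card (MulAut (Cfsg.POmega F (Cfsg.quadFormMinus k F a b))) =
      (if p = 2 then 2 else (if Even ((k + 1) * (p ^ f - 1) / 2) then 4 else 8)) * f *
        Nat.card (Cfsg.POmega F (Cfsg.quadFormMinus k F a b)) := by
  classical
  have hp' : p.Prime := Fact.out
  haveI := PSL2Aut.charP_of_card hf hF
  have hQ := OrthCard.QMn_nondeg (F := F) k a b hab
  have hn : 7 ≤ Fintype.card ((Fin k ⊕ Fin k) ⊕ Fin 2) := by rw [card_minus_index]; omega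
  have h1 := card_aut_minus_aux hf hF hk a b hab
  rw [OrthCard.QMn_coe] at h1
  rw [h1]
  congr 2
  rw [← OrthCard.QMn_coe]
  by_cases hp : p = 2
  · rw [if_pos hp]
    have h2 : (2 : F) = 0 := by
      have := CharP.cast_eq_zero F p
      rw [hp] at this
      exact_mod_cast this
    exact relIndex_inn_pgo_two h2 hQ hn
  · rw [if_neg hp]
    have hodd : Odd (p ^ f) := (hp'.odd_of_ne_two hp).pow
    obtain ⟨hA, hB⟩ := structure_minus hF hodd hk a b hab
    have hiff : Even ((k + 1) * (p ^ f - 1) / 2) ↔ ¬ (Even k ∧ p ^ f % 4 = 3) := by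
      rw [even_half_iff hodd (k + 1), Nat.odd_add_one, Nat.not_odd_iff_even]
    by_cases hc : Even k ∧ p ^ f % 4 = 3
    · rw [if_neg (by rw [hiff]; exact not_not.2 hc)]
      obtain ⟨φ, hφs, hφk⟩ := hA hc
      rw [Subgroup.relIndex, ← hφk, Subgroup.index_ker, MonoidHom.range_eq_top.2 hφs,
        Nat.card_congr (Subgroup.topEquiv (G := DihedralGroup 4)).toEquiv, DihedralGroup.nat_card]
    · rw [if_pos (hiff.2 hc)]
      obtain ⟨φ, hφs, hφk⟩ := hB hc
      rw [Subgroup.relIndex, ← hφk, Subgroup.index_ker, MonoidHom.range_eq_top.2 hφs,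
        Nat.card_congr (Subgroup.topEquiv (G := Multiplicative (ZMod 2 × ZMod 2))).toEquiv]
      exact IsKleinFour.card_four

end Minus

end Cfsg.Agent.Lib.Helper5.OFld
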