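import Mathlib
import Cfsg.Agent.Lib.Helper5.OFld8
import Cfsg.Agent.Lib.Helper5.PSLCoset3

set_option autoImplicit false

/-! Powers of automorphisms induced by semilinear similarities, and the Frobenius automorphism. -/

namespace Cfsg.Agent.Lib.Helper5.OFld

open Matrix Cfsg.Agent.Lib.Helper5.PGO Cfsg.Agent.Lib.Helper5.PSLCoset

section Pow
variable {F : Type*} [Field F] {ι : Type} [Fintype ι] [DecidableEq ι] {Q : (ι → F) → F}

/-- twisted partial products in the general linear group -/
noncomputable def twGL (σ : F ≃+* F) (g : GL ι F) : ℕ → GL ι F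
  | 0 => 1
  | (k + 1) => g * mapGL σ (twGL σ g k)

theorem twGL_coe (σ : F ≃+* F) (g : GL ι F) (k : ℕ) :
    ((twGL σ g k : GL ι F) : Matrix ι ι F) = tw σ (g : Matrix ι ι F) k := by
  induction k with
  | zero => rfl
  | succ k ih =>
    show ((g * mapGL σ (twGL σ g k) : GL ι F) : Matrix ι ι F) = _
    rw [Units.val_mul, mapGL_coe, ih, tw_succ]

theorem pair_twGL {g : GL ι F} {σ : F ≃+* F} (h : Cfsg.IsSemisimilarityPair Q g σ) (k : ℕ) :
    Cfsg.IsSemisimilarityPair Q (twGL σ g k) (σ ^ k) := by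
  induction k with
  | zero => exact pair_one
  | succ k ih =>
    rw [pow_succ']
    exact pair_mul h ih

theorem PhiS_pow {g : GL ι F} {σ : F ≃+* F} (h : Cfsg.IsSemisimilarityPair Q g σ) (k : ℕ) :
    (PhiS g σ h) ^ k = PhiS (twGL σ g k) (σ ^ k) (pair_twGL h k) := by
  induction k with
  | zero =>
    rw [pow_zero]
    exact (PhiS_one _).symm
  | succ k ih =>
    rw [pow_succ', ih, PhiS_mul]
    exact PhiS_congr rfl (pow_succ' σ k).symm _ _

/-- the determinant of a twisted product -/
theorem det_tw (σ : F ≃+* F) (g : Matrix ι ι F) (k : ℕ) :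
    (tw σ g k).det = nrm σ k g.det := by
  induction k with
  | zero => rw [tw_zero, Matrix.det_one, nrm_zero]
  | succ k ih =>
    rw [tw_succ, Matrix.det_mul, nrm_succ, ← ih]
    congr 1
    exact (RingHom.map_det (σ : F →+* F) _).symm

end Pow

section Frob
variable {F : Type*} [Field F] [Fintype F]

/-- the Frobenius automorphism -/
noncomputable def frob (F : Type*) [Field F] [Fintype F] (p : ℕ) [Fact p.Prime] [CharP F p] :
    F ≃+* F :=
  frobeniusEquiv F p

theorem frob_apply (p : ℕ) [Fact p.Prime] [CharP F p] (x : F) : frob F p x = x ^ p := rfl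

theorem frob_pow_apply (p : ℕ) [Fact p.Prime] [CharP F p] (k : ℕ) (x : F) :
    (frob F p ^ k : F ≃+* F) x = x ^ p ^ k := by
  induction k generalizing x with
  | zero => simp
  | succ k ih =>
    rw [pow_succ]
    show (frob F p ^ k : F ≃+* F) (frob F p x) = _
    rw [frob_apply, ih, ← pow_mul, pow_succ, mul_comm]

theorem orderOf_frob {p f : ℕ} [Fact p.Prime] [CharP F p] (hf : 1 ≤ f)
    (hF : Fintype.card F = p ^ f) : orderOf (frob F p) = f := by
  classical
  have hp : p.Prime := Fact.out
  rw [orderOf_eq_iff (by omega)]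
  constructor
  · apply RingEquiv.ext
    intro x
    rw [frob_pow_apply, ← hF, FiniteField.pow_card]
    rfl
  · intro m hm hm0 h
    obtain ⟨ζ, hζ⟩ := IsCyclic.exists_generator (α := Fˣ)
    have h1 : (ζ : F) ^ p ^ m = ζ := by
      have := DFunLike.congr_fun h (ζ : F)
      rw [frob_pow_apply] at this
      exact this
    have h2 : ζ ^ (p ^ m - 1) = 1 := by
      apply Units.ext
      rw [Units.val_pow_eq_pow_val, Units.val_one]
      have h3 : (ζ : F) ^ (p ^ m - 1) * ζ = 1 * ζ := by
        rw [← pow_succ, Nat.sub_add_cancel (Nat.one_le_pow _ _ hp.pos), h1, one_mul]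
      exact mul_right_cancel₀ ζ.ne_zero h3
    have h4 : orderOf ζ = Fintype.card F - 1 := by
      rw [orderOf_eq_card_of_forall_mem_zpowers hζ, Nat.card_eq_fintype_card, Fintype.card_units]
    have h5 := orderOf_dvd_of_pow_eq_one h2
    rw [h4, hF] at h5
    have h6 : p ^ m < p ^ f := Nat.pow_lt_pow_right hp.one_lt hm
    have h7 : 1 < p ^ m := Nat.one_lt_pow hm0.ne' hp.one_lt
    have := Nat.le_of_dvd (by omega) h5
    omega

theorem nrm_frob (p : ℕ) [Fact p.Prime] [CharP F p] (k : ℕ) (x : F) :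
    nrm (frob F p) k x = x ^ (∑ i ∈ Finset.range k, p ^ i) := by
  unfold nrm
  rw [← Finset.prod_pow_eq_pow_sum]
  apply Finset.prod_congr rfl
  intro i _
  exact frob_pow_apply p i x

theorem pred_mul_geom (p f : ℕ) (hp : 1 ≤ p) :
    (p - 1) * (∑ i ∈ Finset.range f, p ^ i) = p ^ f - 1 := by
  rw [mul_comm]
  exact geom_sum_mul_of_one_le hp f

end Frob

end Cfsg.Agent.Lib.Helper5.OFld
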