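import Mathlib
import Cfsg.Agent.Lib.Helper5.OFld9
import Cfsg.Agent.Lib.Helper5.OFld10

set_option autoImplicit false

/-! The explicit semilinear similarity of a minus type form lifting the Frobenius automorphism,
and its `f`-th power. -/

namespace Cfsg.Agent.Lib.Helper5.OFld

open Matrix Cfsg.Agent.Lib.Helper5.PGO Cfsg.Agent.Lib.Helper5.PSLCoset
open Cfsg.Agent.Lib.Helper2

section General
variable {F : Type*} [Field F] {ι : Type} [Fintype ι] [DecidableEq ι] {Q : (ι → F) → F}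

/-- the `f`-th power of the automorphism attached to a pair `(g, σ)` with `σ ^ f = 1` -/
theorem PhiS_pow_of_pow_eq_one {g : GL ι F} {σ : F ≃+* F} (h : Cfsg.IsSemisimilarityPair Q g σ)
    {f : ℕ} (hσ : σ ^ f = 1) :
    ∃ hGO : twGL σ g f ∈ GO Q, (PhiS g σ h) ^ f = Phi Q ⟨twGL σ g f, hGO⟩ := by
  have hp := pair_twGL h f
  have hp' : Cfsg.IsSemisimilarityPair Q (twGL σ g f) (1 : F ≃+* F) := by
    rw [← hσ]; exact hp
  refine ⟨GO_of_pair hp', ?_⟩
  rw [PhiS_pow, PhiS_congr rfl hσ _ hp']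
  exact PhiS_one_eq ⟨twGL σ g f, GO_of_pair hp'⟩ hp'

end General

section Twist
variable {F : Type*} [Field F]

theorem binMat_mul (α β x n : F) : binMat α β * binMat x n = binMat (x + α * n) (β * n) := by
  unfold binMat
  ext i j
  fin_cases i <;> fin_cases j <;> simp [Matrix.mul_apply, Fin.sum_univ_two]

theorem binMat_map (σ : F ≃+* F) (x n : F) : (binMat x n).map σ = binMat (σ x) (σ n) := by
  unfold binMat
  ext i j
  fin_cases i <;> fin_cases j <;> simp

theorem binMat_one : binMat (0 : F) 1 = 1 := by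
  unfold binMat
  ext i j
  fin_cases i <;> fin_cases j <;> simp

theorem twistMat_mul (k : ℕ) (α β x n : F) :
    twistMat k α β * twistMat k x n = twistMat k (x + α * n) (β * n) := by
  unfold twistMat
  rw [Matrix.fromBlocks_multiply, binMat_mul]
  simp

theorem twistMat_map (k : ℕ) (σ : F ≃+* F) (x n : F) :
    (twistMat k x n).map σ = twistMat k (σ x) (σ n) := by
  unfold twistMat
  rw [Matrix.fromBlocks_map, binMat_map]
  congr 1
  · ext i j
    simp [Matrix.one_apply, apply_ite]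
  · ext i j; simp
  · ext i j; simp

theorem twistMat_one (k : ℕ) : twistMat k (0 : F) 1 = 1 := by
  unfold twistMat
  rw [binMat_one, Matrix.fromBlocks_one]

/-- the off-diagonal entry of the twisted powers -/
def xs (σ : F ≃+* F) (α β : F) : ℕ → F
  | 0 => 0
  | (j + 1) => σ (xs σ α β j) + α * σ (nrm σ j β)

theorem tw_twistMat (σ : F ≃+* F) (k : ℕ) (α β : F) (j : ℕ) :
    tw σ (twistMat k α β) j = twistMat k (xs σ α β j) (nrm σ j β) := by
  induction j with
  | zero => rw [tw_zero, nrm_zero, xs, twistMat_one]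
  | succ j ih =>
    rw [tw_succ, ih, twistMat_map, twistMat_mul, nrm_succ, xs]

theorem tw_binMat (σ : F ≃+* F) (α β : F) (j : ℕ) :
    tw σ (binMat α β) j = binMat (xs σ α β j) (nrm σ j β) := by
  induction j with
  | zero => rw [tw_zero, nrm_zero, xs, binMat_one]
  | succ j ih =>
    rw [tw_succ, ih, binMat_map, binMat_mul, nrm_succ, xs]

theorem twistMat_mulVec_inl (k : ℕ) (x n : F) (v : (Fin k ⊕ Fin k) ⊕ Fin 2 → F)
    (i : Fin k ⊕ Fin k) : (twistMat k x n *ᵥ v) (Sum.inl i) = v (Sum.inl i) := by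
  have hv : v = Sum.elim (v ∘ Sum.inl) (v ∘ Sum.inr) := (Sum.elim_comp_inl_inr v).symm
  unfold twistMat
  rw [hv, Matrix.fromBlocks_mulVec]
  simp

theorem twistMat_mulVec_inr (k : ℕ) (x n : F) (v : (Fin k ⊕ Fin k) ⊕ Fin 2 → F)
    (j : Fin 2) : (twistMat k x n *ᵥ v) (Sum.inr j) = (binMat x n *ᵥ (v ∘ Sum.inr)) j := by
  have hv : v = Sum.elim (v ∘ Sum.inl) (v ∘ Sum.inr) := (Sum.elim_comp_inl_inr v).symm
  unfold twistMat
  rw [hv, Matrix.fromBlocks_mulVec]
  simp

theorem twistMat_mulVec_zero (k : ℕ) (x n : F) (v : (Fin k ⊕ Fin k) ⊕ Fin 2 → F) :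
    (twistMat k x n *ᵥ v) (Sum.inr 0) = v (Sum.inr 0) + x * v (Sum.inr 1) := by
  rw [twistMat_mulVec_inr]
  unfold binMat
  simp [Matrix.mulVec, dotProduct, Fin.sum_univ_two]

theorem twistMat_mulVec_one (k : ℕ) (x n : F) (v : (Fin k ⊕ Fin k) ⊕ Fin 2 → F) :
    (twistMat k x n *ᵥ v) (Sum.inr 1) = n * v (Sum.inr 1) := by
  rw [twistMat_mulVec_inr]
  unfold binMat
  simp [Matrix.mulVec, dotProduct, Fin.sum_univ_two]

theorem twistMat_injective (k : ℕ) {x n x' n' : F} (h : twistMat k x n = twistMat k x' n') :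
    x = x' ∧ n = n' := by
  have h1 := congrFun (congrFun h (Sum.inr 0)) (Sum.inr 1)
  have h2 := congrFun (congrFun h (Sum.inr 1)) (Sum.inr 1)
  unfold twistMat binMat at h1 h2
  simp at h1 h2
  exact ⟨h1, h2⟩

/-- the lift to the general linear group -/
noncomputable def twistGL (k : ℕ) (α β : F) (hβ : β ≠ 0) : GL ((Fin k ⊕ Fin k) ⊕ Fin 2) F :=
  Matrix.GeneralLinearGroup.mk'' (twistMat k α β) (by
    rw [twistMat_det]
    exact isUnit_iff_ne_zero.2 hβ)

theorem twistGL_coe (k : ℕ) (α β : F) (hβ : β ≠ 0) :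
    ((twistGL k α β hβ : GL ((Fin k ⊕ Fin k) ⊕ Fin 2) F) :
      Matrix ((Fin k ⊕ Fin k) ⊕ Fin 2) ((Fin k ⊕ Fin k) ⊕ Fin 2) F) = twistMat k α β := rfl

theorem pair_twist (k : ℕ) (a b α β : F) (hβ : β ≠ 0) (σ : F ≃+* F)
    (h1 : 2 * α + a * β = σ a) (h2 : α ^ 2 + a * α * β + b * β ^ 2 = σ b) :
    Cfsg.IsSemisimilarityPair (Cfsg.quadFormMinus k F a b) (twistGL k α β hβ) σ := by
  refine ⟨1, fun v => ?_⟩
  rw [twistGL_coe, twistMat_form k a b (σ a) (σ b) α β h1 h2, Units.val_one, one_mul]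
  unfold Cfsg.quadFormMinus
  rw [map_add, map_sum, map_add, map_add]
  simp only [map_mul, map_pow]

/-- the value of the form at the first vector of the binary part -/
theorem minus_single (k : ℕ) (a b : F) :
    Cfsg.quadFormMinus k F a b (Pi.single (Sum.inr 0) 1) = 1 := by
  unfold Cfsg.quadFormMinus
  simp

theorem twistMat_mulVec_single (k : ℕ) (x n : F) :
    twistMat k x n *ᵥ (Pi.single (Sum.inr 0) 1) = Pi.single (Sum.inr 0) 1 := by
  rw [Matrix.mulVec_single_one]
  funext i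
  unfold twistMat binMat
  rcases i with i | i
  · simp
  · fin_cases i <;> simp

/-- a similarity of the shape `twistMat` is an isometry -/
theorem twist_multiplier (k : ℕ) (a b x n c : F)
    (h : ∀ v, Cfsg.quadFormMinus k F a b (twistMat k x n *ᵥ v) =
      c * Cfsg.quadFormMinus k F a b v) : c = 1 := by
  have := h (Pi.single (Sum.inr 0) 1)
  rw [twistMat_mulVec_single, minus_single, mul_one] at this
  exact this.symm

end Twist

end Cfsg.Agent.Lib.Helper5.OFld
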