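import Mathlib
import Cfsg.Agent.Lib.Helper5.OFld11

set_option autoImplicit false

/-! The outer automorphism group of `PΩ⁻_{2m}(q)` in characteristic two. -/

namespace Cfsg.Agent.Lib.Helper5.OFld

open Matrix Cfsg.Agent.Lib.Helper5.PGO Cfsg.Agent.Lib.Helper5.PSLCoset
open Cfsg.Agent.Lib.Helper5.OAut
open Cfsg.Agent.Lib.Helper2 Cfsg.Agent.Lib.Helper2.Dickson

section CharTwo
variable {F : Type*} [Field F] [Fintype F]

theorem a_ne_zero_of_aniso (h2 : (2 : F) = 0) (a b : F)
    (hab : ∀ z₁ z₂ : F, z₁ ^ 2 + a * z₁ * z₂ + b * z₂ ^ 2 = 0 → z₁ = 0 ∧ z₂ = 0) : a ≠ 0 := by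
  rintro rfl
  have hch : ringChar F = 2 :=
    CharP.ringChar_of_prime_eq_zero Nat.prime_two (by exact_mod_cast h2)
  obtain ⟨s, hs⟩ := FiniteField.isSquare_of_char_two hch b
  have := hab s 1 (by linear_combination -hs + b * h2)
  exact one_ne_zero this.2

/-- the twisted norm of the Frobenius lift is not the identity -/
theorem xs_ne_zero {f : ℕ} [CharP F 2] (hf : 1 ≤ f) (hF : Fintype.card F = 2 ^ f) (a b : F)
    (hab : ∀ z₁ z₂ : F, z₁ ^ 2 + a * z₁ * z₂ + b * z₂ ^ 2 = 0 → z₁ = 0 ∧ z₂ = 0)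
    (hn : nrm (frob F 2) f a = 1) : xs (frob F 2) b a f ≠ 0 := by
  have h2 : (2 : F) = 0 := by
    have := CharP.cast_eq_zero F 2
    exact_mod_cast this
  intro hx
  have htw : tw (frob F 2) (binMat b a) f = 1 := by
    rw [tw_binMat, hx, hn, binMat_one]
  obtain ⟨B, hBu, hB⟩ := hilbert90_matrix (frob F 2) (binMat b a) f (orderOf_frob hf hF)
    (by omega) htw
  have e00 := congrFun (congrFun hB 0) 0
  have e01 := congrFun (congrFun hB 0) 1
  have e10 := congrFun (congrFun hB 1) 0
  have e11 := congrFun (congrFun hB 1) 1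
  simp only [binMat, Matrix.mul_apply, Fin.sum_univ_two, Matrix.map_apply, Matrix.of_apply,
    Matrix.cons_val', Matrix.cons_val_zero, Matrix.cons_val_one, Matrix.cons_val_fin_one,
    frob_apply] at e00 e01 e10 e11
  have key : ∀ p r : F, 1 * p ^ 2 + b * r ^ 2 = p → 0 * p ^ 2 + a * r ^ 2 = r → r = 0 := by
    intro p r hp hr
    by_contra hr0
    have har : a * r = 1 := by
      have : r * (a * r - 1) = 0 := by linear_combination hr
      rcases mul_eq_zero.1 this with h | h
      · exact absurd h hr0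
      · linear_combination h
    have := hab p r (by linear_combination p * har + hp + p * h2)
    exact hr0 this.2
  have hr := key _ _ e00 e10
  have hs := key _ _ e01 e11
  have hdet : B.det = 0 := by
    rw [Matrix.det_fin_two, hr, hs]
    ring
  rw [Matrix.isUnit_iff_isUnit_det, hdet] at hBu
  exact not_isUnit_zero hBu

theorem nrm_frob_two {f : ℕ} [CharP F 2] (hF : Fintype.card F = 2 ^ f) (a : F)
    (ha : a ≠ 0) : nrm (frob F 2) f a = 1 := by
  haveI : Fact (Nat.Prime 2) := ⟨Nat.prime_two⟩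
  rw [nrm_frob]
  have h := pred_mul_geom 2 f (by norm_num)
  rw [show (2 : ℕ) - 1 = 1 from rfl, one_mul] at h
  rw [h, ← hF]
  exact FiniteField.pow_card_sub_one_eq_one a ha

/-- the fixed space of a unipotent `twistMat` is a hyperplane -/
theorem finrank_ker_proj {ι : Type} [Fintype ι] [DecidableEq ι] (j : ι) :
    Module.finrank F ↥(LinearMap.ker (LinearMap.proj (R := F) (φ := fun _ : ι => F) j)) + 1 =
      Fintype.card ι := by
  have h := LinearMap.finrank_range_add_finrank_ker
    (LinearMap.proj (R := F) (φ := fun _ : ι => F) j)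
  rw [Module.finrank_fintype_fun_eq_card] at h
  have hs : LinearMap.range (LinearMap.proj (R := F) (φ := fun _ : ι => F) j) = ⊤ :=
    LinearMap.range_eq_top.2 (LinearMap.proj_surjective j)
  rw [hs, finrank_top, Module.finrank_self] at h
  omega

/-- the outer automorphism group of `PΩ⁻_{2k+2}(2^f)` -/
theorem out_minus_two {f k : ℕ} (hf : 1 ≤ f) (hF : Fintype.card F = 2 ^ f) (hk : 3 ≤ k)
    (a b : F)
    (hab : ∀ z₁ z₂ : F, z₁ ^ 2 + a * z₁ * z₂ + b * z₂ ^ 2 = 0 → z₁ = 0 ∧ z₂ = 0) :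
    IsCyclic (Cfsg.Out (Cfsg.POmega F (Cfsg.quadFormMinus k F a b))) ∧
      Nat.card (Cfsg.Out (Cfsg.POmega F (Cfsg.quadFormMinus k F a b))) = 2 * f := by
  classical
  haveI : Fact (Nat.Prime 2) := ⟨Nat.prime_two⟩
  haveI : CharP F 2 := PSL2Aut.charP_of_card hf hF
  have h2 : (2 : F) = 0 := by
    have := CharP.cast_eq_zero F 2
    exact_mod_cast this
  have hcoe := OrthCard.QMn_coe (F := F) k a b
  have hQ := OrthCard.QMn_nondeg (F := F) k a b hab
  have hn : 7 ≤ Fintype.card ((Fin k ⊕ Fin k) ⊕ Fin 2) := by rw [card_minus_index]; omega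
  have ha := a_ne_zero_of_aniso h2 a b hab
  have key : ∀ Q' : ((Fin k ⊕ Fin k) ⊕ Fin 2 → F) → F, ⇑(OrthCard.QMn k a b) = Q' →
      IsCyclic (Cfsg.Out (Cfsg.POmega F Q')) ∧ Nat.card (Cfsg.Out (Cfsg.POmega F Q')) = 2 * f := by
    intro Q' hQ'
    subst hQ'
    have hθ : Function.Surjective (Theta 2 hQ hn (lag_minus a b hab)) := by
      intro σ
      obtain ⟨g, hg⟩ := exists_pair_minus k a b hab σ
      rw [← hcoe] at hg
      exact ⟨PhiS g σ hg, Theta_PhiS 2 hQ hn (lag_minus a b hab) hg⟩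
    have hpair : Cfsg.IsSemisimilarityPair (⇑(OrthCard.QMn k a b)) (twistGL k b a ha)
        (frob F 2) := by
      rw [hcoe]
      refine pair_twist k a b b a ha (frob F 2) ?_ ?_
      · rw [frob_apply]
        linear_combination b * h2
      · rw [frob_apply]
        linear_combination a ^ 2 * b * h2
    have hord := orderOf_frob (F := F) (p := 2) hf hF
    have hσf : (frob F 2) ^ f = 1 := by
      rw [← hord]
      exact pow_orderOf_eq_one _
    refine out_cyclic hf (Cfsg.Inn (Cfsg.POmega F ⇑(OrthCard.QMn k a b)))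
      (Cfsg.pgoAut F ⇑(OrthCard.QMn k a b)) inn_le_pgo (Theta 2 hQ hn (lag_minus a b hab))
      (Theta_ker 2 hQ hn (lag_minus a b hab)) hθ (PSL2Aut.ringAut_cyclic_card hf hF).2
      (relIndex_inn_pgo_two h2 hQ hn) (PhiS (twistGL k b a ha) (frob F 2) hpair)
      (by rw [Theta_PhiS]; exact hord) ?_
    obtain ⟨hGO, hpow⟩ := PhiS_pow_of_pow_eq_one hpair hσf
    rw [hpow]
    -- the matrix of the power
    have hmat : ((twGL (frob F 2) (twistGL k b a ha) f : GL ((Fin k ⊕ Fin k) ⊕ Fin 2) F) :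
        Matrix ((Fin k ⊕ Fin k) ⊕ Fin 2) ((Fin k ⊕ Fin k) ⊕ Fin 2) F) =
        twistMat k (xs (frob F 2) b a f) 1 := by
      rw [twGL_coe, twistGL_coe, tw_twistMat, nrm_frob_two hF a ha]
    have hx0 := xs_ne_zero hf hF a b hab (nrm_frob_two hF a ha)
    -- it is an isometry
    have hiso : twGL (frob F 2) (twistGL k b a ha) f ∈
        Cfsg.isometryGroup F ⇑(OrthCard.QMn k a b) := by
      obtain ⟨c, hc⟩ := hGO
      rw [mem_iso_iff]
      intro v
      have hc1 : (c : F) = 1 := by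
        apply twist_multiplier k a b (xs (frob F 2) b a f) 1
        intro v
        have := hc v
        rw [hmat, hcoe] at this
        exact this
      rw [hc v, hc1, one_mul]
    intro hmem
    rw [inn_eq_map_PsiO] at hmem
    obtain ⟨ω, hω, hωs⟩ := hmem
    have hωs' : PsiO (OrthCard.QMn k a b) ω =
        PsiO (OrthCard.QMn k a b) ⟨twGL (frob F 2) (twistGL k b a ha) f, hiso⟩ := hωs
    have hωeq := PsiO_injective h2 hQ hn hωs'
    rw [hωeq] at hω
    have hex : Fintype.card F ≠ 2 ∨ Fintype.card ((Fin k ⊕ Fin k) ⊕ Fin 2) ≠ 4 :=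
      Or.inr (by omega)
    have hd := (OmegaCrit.mem_commutator_iff₂ h2 hQ hex (by omega) _).1 hω
    -- the fixed space
    have hFix : Fix (⟨twGL (frob F 2) (twistGL k b a ha) f, hiso⟩ :
        ↥(Cfsg.isometryGroup F ⇑(OrthCard.QMn k a b))) =
        LinearMap.ker (LinearMap.proj (R := F)
          (φ := fun _ : (Fin k ⊕ Fin k) ⊕ Fin 2 => F) (Sum.inr 1)) := by
      ext v
      rw [mem_Fix, LinearMap.mem_ker, LinearMap.proj_apply]
      show ((twGL (frob F 2) (twistGL k b a ha) f : GL ((Fin k ⊕ Fin k) ⊕ Fin 2) F) :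
        Matrix ((Fin k ⊕ Fin k) ⊕ Fin 2) ((Fin k ⊕ Fin k) ⊕ Fin 2) F) *ᵥ v = v ↔ _
      rw [hmat]
      constructor
      · intro h
        have h0 := congrFun h (Sum.inr 0)
        rw [twistMat_mulVec_zero] at h0
        have : xs (frob F 2) b a f * v (Sum.inr 1) = 0 := by linear_combination h0
        rcases mul_eq_zero.1 this with h' | h'
        · exact absurd h' hx0
        · exact h'
      · intro h
        funext i
        rcases i with i | i
        · rw [twistMat_mulVec_inl]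
        · fin_cases i
          · show (twistMat k _ 1 *ᵥ v) (Sum.inr 0) = v (Sum.inr 0)
            rw [twistMat_mulVec_zero, h, mul_zero, add_zero]
          · show (twistMat k _ 1 *ᵥ v) (Sum.inr 1) = v (Sum.inr 1)
            rw [twistMat_mulVec_one, one_mul]
    unfold dfun at hd
    have hfr := finrank_ker_proj (F := F) (ι := (Fin k ⊕ Fin k) ⊕ Fin 2) (Sum.inr 1)
    rw [hFix] at hd
    rw [card_minus_index] at hfr hd
    have hfr' : Module.finrank F ↥(LinearMap.ker (LinearMap.proj (R := F)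
        (φ := fun _ : (Fin k ⊕ Fin k) ⊕ Fin 2 => F) (Sum.inr 1))) = 2 * k + 1 := by omega
    rw [hfr', ← Nat.cast_add, ZMod.natCast_eq_zero_iff_even] at hd
    rw [Nat.even_iff] at hd
    omega
  exact key _ hcoe

end CharTwo

end Cfsg.Agent.Lib.Helper5.OFld
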