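import Mathlib
import Cfsg.Agent.Lib.Helper5.OFld12

set_option autoImplicit false

/-! The outer automorphism group of `PΩ⁻_{2m}(q)` for odd `q`: conjugation by semilinear
similarities preserves the characters of the similarity group. -/

namespace Cfsg.Agent.Lib.Helper5.OFld

open Matrix Cfsg.Agent.Lib.Helper5.PGO Cfsg.Agent.Lib.Helper5.PSLCoset
open Cfsg.Agent.Lib.Helper5.OAut
open Cfsg.Agent.Lib.Helper2

section Conj
variable {F : Type*} [Field F] {ι : Type} [Fintype ι] [DecidableEq ι] {Q : (ι → F) → F}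

/-- conjugating a similarity by a semilinear similarity -/
theorem conj_sim {g : GL ι F} {σ : F ≃+* F} (h : Cfsg.IsSemisimilarityPair Q g σ)
    (d : GL ι F) (μ : F) (hd : ∀ v, Q ((d : Matrix ι ι F) *ᵥ v) = μ * Q v) (v : ι → F) :
    Q (((g * mapGL σ d * g⁻¹ : GL ι F) : Matrix ι ι F) *ᵥ v) = σ μ * Q v := by
  obtain ⟨c, hc⟩ := (pair_iff Q g σ).1 h
  obtain ⟨w, rfl⟩ : ∃ w, v = semi g σ w := ⟨_, (semi_inv g σ v).symm⟩
  rw [semi_conj, hc, hd, map_mul, hc]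
  ring

theorem conj_mem_GO {g : GL ι F} {σ : F ≃+* F} (h : Cfsg.IsSemisimilarityPair Q g σ)
    (d : ↥(GO Q)) : g * mapGL σ (d : GL ι F) * g⁻¹ ∈ GO Q := by
  obtain ⟨μ, hμ⟩ := d.2
  exact ⟨Units.map (σ : F →* F) μ, fun v => conj_sim h (d : GL ι F) (μ : F) hμ v⟩

/-- conjugation of the automorphism induced by a similarity -/
theorem PhiS_conj_Phi {g : GL ι F} {σ : F ≃+* F} (h : Cfsg.IsSemisimilarityPair Q g σ)
    (d : ↥(GO Q)) :
    PhiS g σ h * Phi Q d * (PhiS g σ h)⁻¹ =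
      Phi Q ⟨g * mapGL σ (d : GL ι F) * g⁻¹, conj_mem_GO h d⟩ := by
  rw [← PhiS_one_eq d (pair_of_GO d), PhiS_inv, PhiS_mul, PhiS_mul,
    ← PhiS_one_eq ⟨g * mapGL σ (d : GL ι F) * g⁻¹, conj_mem_GO h d⟩ (pair_of_GO _)]
  apply PhiS_congr
  · rw [mul_one, mapGL_apply_inv]
  · rw [mul_one, mul_inv_cancel]

end Conj

section Chi
variable {F : Type*} [Field F] [Fintype F] {ι : Type} [Fintype ι] [DecidableEq ι]
variable {Q : QuadraticForm F (ι → F)}

theorem mu_conj (hQ0 : ∃ v, Q v ≠ 0) {g : GL ι F} {σ : F ≃+* F}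
    (h : Cfsg.IsSemisimilarityPair (⇑Q) g σ) (d : ↥(GO (⇑Q))) :
    (mu (⇑Q) ⟨g * mapGL σ (d : GL ι F) * g⁻¹, conj_mem_GO h d⟩ : F) = σ (mu (⇑Q) d : F) :=
  mu_unique hQ0 _ _ (fun v => conj_sim h (d : GL ι F) _ (mu_spec (⇑Q) d) v)

theorem det_conj {g : GL ι F} {σ : F ≃+* F}
    (h : Cfsg.IsSemisimilarityPair (⇑Q) g σ) (d : ↥(GO (⇑Q))) :
    ((detGO (⇑Q) ⟨g * mapGL σ (d : GL ι F) * g⁻¹, conj_mem_GO h d⟩ : Fˣ) : F) =
      σ ((detGO (⇑Q) d : Fˣ) : F) := by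
  rw [detGO_coe, detGO_coe]
  show ((g * mapGL σ (d : GL ι F) * g⁻¹ : GL ι F) : Matrix ι ι F).det = _
  rw [Units.val_mul, Units.val_mul, Matrix.det_mul, Matrix.det_mul, mapGL_coe]
  have h1 : ((g : Matrix ι ι F)).det * ((g⁻¹ : GL ι F) : Matrix ι ι F).det = 1 := by
    rw [← Matrix.det_mul, ← Units.val_mul, mul_inv_cancel, Units.val_one, Matrix.det_one]
  have h2 : (((d : GL ι F) : Matrix ι ι F).map σ).det = σ (((d : GL ι F) : Matrix ι ι F).det) :=
    (RingHom.map_det (σ : F →+* F) _).symm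
  rw [h2]
  linear_combination σ (((d : GL ι F) : Matrix ι ι F).det) * h1

/-- conjugation by a semilinear similarity preserves the character `chi` -/
theorem chi_conj (hQ : (QuadraticMap.polarBilin Q).Nondegenerate) (hQ0 : ∃ v, Q v ≠ 0)
    {m : ℕ} (hm : Fintype.card ι = 2 * m) (h2 : (2 : F) ≠ 0) {g : GL ι F} {σ : F ≃+* F}
    (h : Cfsg.IsSemisimilarityPair (⇑Q) g σ) (d : ↥(GO (⇑Q))) :
    chi hQ hQ0 hm h2 ⟨g * mapGL σ (d : GL ι F) * g⁻¹, conj_mem_GO h d⟩ = chi hQ hQ0 hm h2 d := by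
  have hunits : ∀ x y : ℤˣ, (x = 1 ↔ y = 1) → x = y := by decide
  unfold chi
  rw [MonoidHom.prod_apply, MonoidHom.prod_apply]
  refine Prod.ext ?_ ?_
  · apply hunits
    rw [chi1_eq_one_iff, chi1_eq_one_iff, mu_conj hQ0 h d]
    constructor
    · rintro ⟨s, hs⟩
      refine ⟨σ.symm s, ?_⟩
      apply σ.injective
      rw [hs, map_mul, RingEquiv.apply_symm_apply]
    · rintro ⟨s, hs⟩
      exact ⟨σ s, by rw [hs, map_mul]⟩
  · apply hunits
    rw [chi2_eq_one_iff, chi2_eq_one_iff]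
    have key : ((epsHom Q hQ0 m ⟨g * mapGL σ (d : GL ι F) * g⁻¹, conj_mem_GO h d⟩ : Fˣ) : F) =
        σ ((epsHom Q hQ0 m d : Fˣ) : F) := by
      rw [epsHom_apply, epsHom_apply, Units.val_mul, Units.val_mul, det_conj h d, map_mul,
        Units.val_inv_eq_inv_val, Units.val_inv_eq_inv_val, map_inv₀, Units.val_pow_eq_pow_val,
        Units.val_pow_eq_pow_val, map_pow, mu_conj hQ0 h d]
    constructor
    · intro h1
      apply Units.ext
      have := congrArg Units.val h1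
      rw [key, Units.val_one] at this
      rw [Units.val_one]
      apply σ.injective
      rw [this, map_one]
    · intro h1
      apply Units.ext
      rw [key, h1, Units.val_one, map_one]

/-- commutators of automorphisms with the image of the similarity group lie in the image of
the special orthogonal group -/
theorem comm_mem_pso (p : ℕ) [Fact p.Prime] [CharP F p]
    (hQ : (QuadraticMap.polarBilin Q).Nondegenerate) (hQ0 : ∃ v, Q v ≠ 0)
    {m : ℕ} (hm : Fintype.card ι = 2 * m) (h2 : (2 : F) ≠ 0) (hn : 7 ≤ Fintype.card ι)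
    (hLag : ∀ T : Submodule F (ι → F), (∀ x ∈ T, Q x = 0) →
      (∀ y, (∀ x ∈ T, QuadraticMap.polar (⇑Q) x y = 0) → y ∈ T) → 5 ≤ Module.finrank F ↥T)
    (a : MulAut (Cfsg.POmega F ⇑Q)) (y : MulAut (Cfsg.POmega F ⇑Q))
    (hy : y ∈ Cfsg.pgoAut F ⇑Q) : a * y * a⁻¹ * y⁻¹ ∈ Cfsg.psoAut F ⇑Q := by
  obtain ⟨σ, g, h, rfl⟩ := exists_pair p hQ hn hLag a
  rw [pgoAut_eq] at hy
  obtain ⟨d, rfl⟩ := hy
  rw [PhiS_conj_Phi h d, ← map_inv, ← map_mul, psoAut_eq, ← chi_ker_map hQ hQ0 hm h2]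
  refine ⟨_, ?_, rfl⟩
  show _ ∈ (chi hQ hQ0 hm h2).ker
  rw [MonoidHom.mem_ker, map_mul, map_inv, chi_conj hQ hQ0 hm h2 h d, mul_inv_cancel]

end Chi

end Cfsg.Agent.Lib.Helper5.OFld
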