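import Mathlib
import Cfsg.Agent.Lib.Helper5.OFld13

set_option autoImplicit false

/-! The outer automorphism group of `PΩ⁻_{2m}(q)` for odd `q`. -/

namespace Cfsg.Agent.Lib.Helper5.OFld

open Matrix Cfsg.Agent.Lib.Helper5.PGO Cfsg.Agent.Lib.Helper5.PSLCoset
open Cfsg.Agent.Lib.Helper5.OAut
open Cfsg.Agent.Lib.Helper2 Cfsg.Agent.Lib.Helper2.OrthCard

section Odd
variable {F : Type*} [Field F] [Fintype F]

/-- the explicit lift of the Frobenius automorphism in odd characteristic -/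
theorem odd_lift {p : ℕ} [Fact p.Prime] [CharP F p] (hp : p ≠ 2) (h2 : (2 : F) ≠ 0) (a b : F) :
    2 * ((frob F p a - a * (a ^ 2 - 4 * b) ^ ((p - 1) / 2)) / 2) +
        a * (a ^ 2 - 4 * b) ^ ((p - 1) / 2) = frob F p a ∧
    ((frob F p a - a * (a ^ 2 - 4 * b) ^ ((p - 1) / 2)) / 2) ^ 2 +
        a * ((frob F p a - a * (a ^ 2 - 4 * b) ^ ((p - 1) / 2)) / 2) *
          (a ^ 2 - 4 * b) ^ ((p - 1) / 2) + b * ((a ^ 2 - 4 * b) ^ ((p - 1) / 2)) ^ 2 =
      frob F p b := by
  have hpp : p.Prime := Fact.out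
  have hodd : Odd p := hpp.odd_of_ne_two hp
  obtain ⟨D, hD⟩ : ∃ D : F, D = a ^ 2 - 4 * b := ⟨_, rfl⟩
  obtain ⟨β, hβ⟩ : ∃ β : F, β = D ^ ((p - 1) / 2) := ⟨_, rfl⟩
  rw [← hD, ← hβ]
  have h4 : (4 : F) ≠ 0 := by
    have : (4 : F) = 2 * 2 := by norm_num
    rw [this]
    exact mul_ne_zero h2 h2
  have hDβ : D * β ^ 2 = frob F p a ^ 2 - 4 * frob F p b := by
    have e1 : D * β ^ 2 = D ^ p := by
      rw [hβ, ← pow_mul, ← pow_succ']
      congr 1
      obtain ⟨t, ht⟩ := hodd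
      omega
    have e2 : frob F p D = D ^ p := frob_apply p D
    rw [e1, ← e2, hD, map_sub, map_mul, map_pow, map_ofNat]
  constructor
  · field_simp
    ring
  · have e : ((frob F p a - a * β) / 2) ^ 2 + a * ((frob F p a - a * β) / 2) * β + b * β ^ 2 =
        (frob F p a ^ 2 - (a ^ 2 - 4 * b) * β ^ 2) / 4 := by
      field_simp
      ring
    rw [e, ← hD, hDβ]
    field_simp
    ring

theorem half_geom {p f : ℕ} (hp : Odd p) :
    (p - 1) / 2 * (∑ i ∈ Finset.range f, p ^ i) = (p ^ f - 1) / 2 := by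
  have h := pred_mul_geom p f (by obtain ⟨t, ht⟩ := hp; omega)
  obtain ⟨t, ht⟩ := hp
  have e : p - 1 = 2 * t := by omega
  rw [e] at h ⊢
  rw [Nat.mul_div_cancel_left _ (by norm_num : 0 < 2)]
  rw [← h, mul_assoc, Nat.mul_div_cancel_left _ (by norm_num : 0 < 2)]

/-- the norm of the diagonal entry of the lift -/
theorem nrm_odd_lift {p f : ℕ} [Fact p.Prime] [CharP F p] (hp : p ≠ 2) (h2 : (2 : F) ≠ 0)
    (hF : Fintype.card F = p ^ f) (D : F) (hD : ¬ IsSquare D) :
    nrm (frob F p) f (D ^ ((p - 1) / 2)) = -1 := by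
  have hpp : p.Prime := Fact.out
  have hodd : Odd p := hpp.odd_of_ne_two hp
  have hch : ringChar F ≠ 2 := by
    intro h
    apply h2
    have := ringChar.Nat.cast_ringChar (R := F)
    rw [h] at this
    exact_mod_cast this
  have hD0 : D ≠ 0 := by
    rintro rfl
    exact hD ⟨0, by ring⟩
  rw [nrm_frob, ← pow_mul, half_geom hodd]
  have hq : (p ^ f - 1) / 2 = Fintype.card F / 2 := by
    rw [hF]
    have : Odd (p ^ f) := hodd.pow
    obtain ⟨t, ht⟩ := this
    omega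
  rw [hq]
  rcases FiniteField.pow_dichotomy hch hD0 with h | h
  · exact absurd ((FiniteField.isSquare_iff hch hD0).2 h) hD
  · exact h

theorem odd_of_pow_mod_four {p f : ℕ} (h : p ^ f % 4 = 3) : Odd f := by
  by_contra hcon
  rw [Nat.not_odd_iff_even] at hcon
  obtain ⟨t, ht⟩ := hcon
  rw [ht, pow_add, Nat.mul_mod] at h
  have h4 : p ^ t % 4 < 4 := Nat.mod_lt _ (by norm_num)
  interval_cases (p ^ t % 4) <;> omega

/-- the outer automorphism group of `PΩ⁻_{2k+2}(q)` for odd `q` -/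
theorem out_minus_odd {p f k : ℕ} [Fact p.Prime] (hf : 1 ≤ f) (hF : Fintype.card F = p ^ f)
    (hp : p ≠ 2) (hk : 3 ≤ k) (a b : F)
    (hab : ∀ z₁ z₂ : F, z₁ ^ 2 + a * z₁ * z₂ + b * z₂ ^ 2 = 0 → z₁ = 0 ∧ z₂ = 0) :
    if p ^ f % 4 = 3 ∧ Even k then
      Nonempty (Cfsg.Out (Cfsg.POmega F (Cfsg.quadFormMinus k F a b)) ≃*
        DihedralGroup 4 × Multiplicative (ZMod f))
    else
      Nonempty (Cfsg.Out (Cfsg.POmega F (Cfsg.quadFormMinus k F a b)) ≃*
        Multiplicative (ZMod 2 × ZMod (2 * f))) := by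
  classical
  have hpp : p.Prime := Fact.out
  haveI : CharP F p := PSL2Aut.charP_of_card hf hF
  have h2 : (2 : F) ≠ 0 := two_ne_zero_of_odd hf hF hp
  have hoddq : Odd (p ^ f) := (hpp.odd_of_ne_two hp).pow
  have hcoe := QMn_coe (F := F) k a b
  have hQ := QMn_nondeg (F := F) k a b hab
  have hQ0 := QMn_ne_zero (F := F) k a b
  have hcard := card_minus k
  have hn : 7 ≤ Fintype.card ((Fin k ⊕ Fin k) ⊕ Fin 2) := by rw [card_minus_index]; omega
  have hD := disc_not_isSquare h2 a b hab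
  obtain ⟨β, hβ⟩ : ∃ β : F, β = (a ^ 2 - 4 * b) ^ ((p - 1) / 2) := ⟨_, rfl⟩
  have hD0 : a ^ 2 - 4 * b ≠ 0 := by
    intro h
    exact hD ⟨0, by rw [h]; ring⟩
  have hβ0 : β ≠ 0 := by rw [hβ]; exact pow_ne_zero _ hD0
  obtain ⟨h1, h3⟩ := odd_lift (p := p) hp h2 a b
  rw [← hβ] at h1 h3
  have key : ∀ Q' : ((Fin k ⊕ Fin k) ⊕ Fin 2 → F) → F, ⇑(QMn k a b) = Q' →
      if p ^ f % 4 = 3 ∧ Even k then
        Nonempty (Cfsg.Out (Cfsg.POmega F Q') ≃* DihedralGroup 4 × Multiplicative (ZMod f))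
      else
        Nonempty (Cfsg.Out (Cfsg.POmega F Q') ≃* Multiplicative (ZMod 2 × ZMod (2 * f))) := by
    intro Q' hQ'
    subst hQ'
    have hθ : Function.Surjective (Theta p hQ hn (lag_minus a b hab)) := by
      intro σ
      obtain ⟨g, hg⟩ := exists_pair_minus k a b hab σ
      rw [← hcoe] at hg
      exact ⟨PhiS g σ hg, Theta_PhiS p hQ hn (lag_minus a b hab) hg⟩
    have hpair : Cfsg.IsSemisimilarityPair (⇑(QMn k a b))
        (twistGL k ((frob F p a - a * β) / 2) β hβ0) (frob F p) := by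
      rw [hcoe]
      exact pair_twist k a b _ β hβ0 (frob F p) h1 h3
    have hord := orderOf_frob (F := F) (p := p) hf hF
    have hC := (PSL2Aut.ringAut_cyclic_card hf hF).2
    have hx : orderOf (Theta p hQ hn (lag_minus a b hab)
        (PhiS (twistGL k ((frob F p a - a * β) / 2) β hβ0) (frob F p) hpair)) = f := by
      rw [Theta_PhiS]; exact hord
    obtain ⟨hA, hB⟩ := structure_minus hF hoddq hk a b hab
    by_cases hc : p ^ f % 4 = 3 ∧ Even k
    · rw [if_pos hc]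
      obtain ⟨φ, hφ, hφk⟩ := hA ⟨hc.2, hc.1⟩
      exact out_dihedral hf (odd_of_pow_mod_four hc.1)
        (Cfsg.Inn (Cfsg.POmega F ⇑(QMn k a b))) (Cfsg.pgoAut F ⇑(QMn k a b)) inn_le_pgo
        (Theta p hQ hn (lag_minus a b hab)) (Theta_ker p hQ hn (lag_minus a b hab)) hθ hC
        φ hφ hφk _ hx
    · rw [if_neg hc]
      have hc' : ¬ (Even k ∧ p ^ f % 4 = 3) := fun h => hc ⟨h.2, h.1⟩
      obtain ⟨φ, hφ, hφk⟩ := hB hc'
      have hpso : Cfsg.psoAut F ⇑(QMn k a b) ≤ Cfsg.Inn (Cfsg.POmega F ⇑(QMn k a b)) :=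
        Subgroup.relIndex_eq_one.1 ((relIndex_minus hF hoddq hk a b hab).2 hc')
      refine out_klein hf (Cfsg.Inn (Cfsg.POmega F ⇑(QMn k a b)))
        (Cfsg.pgoAut F ⇑(QMn k a b)) inn_le_pgo
        (Theta p hQ hn (lag_minus a b hab)) (Theta_ker p hQ hn (lag_minus a b hab)) hθ hC
        φ hφ hφk
        (fun α y hy => hpso (comm_mem_pso p hQ hQ0 hcard h2 hn (lag_minus a b hab) α y hy))
        _ hx ?_
      -- the `f`-th power is not inner
      have hσf : (frob F p) ^ f = 1 := by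
        rw [← hord]
        exact pow_orderOf_eq_one _
      obtain ⟨hGO, hpow⟩ := PhiS_pow_of_pow_eq_one hpair hσf
      rw [hpow]
      have hmat : ((twGL (frob F p) (twistGL k ((frob F p a - a * β) / 2) β hβ0) f :
          GL ((Fin k ⊕ Fin k) ⊕ Fin 2) F) :
          Matrix ((Fin k ⊕ Fin k) ⊕ Fin 2) ((Fin k ⊕ Fin k) ⊕ Fin 2) F) =
          twistMat k (xs (frob F p) ((frob F p a - a * β) / 2) β f) (-1) := by
        rw [twGL_coe, twistGL_coe, tw_twistMat, hβ, nrm_odd_lift hp h2 hF _ hD]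
      intro hmem
      have hchi := chi_of_Phi_mem_inn hQ hQ0 hcard h2 hn _ hmem
      have hker := (mem_chi_ker hQ hQ0 hcard h2 _).1 (MonoidHom.mem_ker.2 hchi)
      have heps := hker.2
      -- the multiplier is one
      have hmu : (mu (⇑(QMn k a b)) ⟨_, hGO⟩ : F) = 1 := by
        apply twist_multiplier k a b (xs (frob F p) ((frob F p a - a * β) / 2) β f) (-1)
        intro v
        have := mu_spec (⇑(QMn k a b)) ⟨_, hGO⟩ v
        have e1 : ∀ w, (QMn k a b) w = Cfsg.quadFormMinus k F a b w := fun w => congrFun hcoe w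
        rw [e1, e1] at this
        rw [← hmat]
        exact this
      have hmu' : mu (⇑(QMn k a b)) ⟨_, hGO⟩ = 1 := Units.ext hmu
      rw [epsHom_apply, hmu', one_pow, inv_one, mul_one] at heps
      have hdet := congrArg Units.val heps
      rw [detGO_coe, Units.val_one] at hdet
      have hdet' : (twistMat k (xs (frob F p) ((frob F p a - a * β) / 2) β f) (-1)).det = 1 := by
        rw [← hmat]
        exact hdet
      rw [twistMat_det] at hdet'
      apply h2
      linear_combination -hdet'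
  exact key _ hcoe

end Odd

end Cfsg.Agent.Lib.Helper5.OFld
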