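import Mathlib
import Cfsg.Agent.Lib.Helper5.OFld14

set_option autoImplicit false

/-! Descent of quadratic forms to a subfield and extension of identities from the subfield. -/

namespace Cfsg.Agent.Lib.Helper5.OFld

open Matrix QuadraticMap

section Descent
variable {F F₀ : Type*} [Field F] [Field F₀] {ι : Type} [Fintype ι] [DecidableEq ι]

/-- extension of scalars of a vector -/
def extV (ι₀ : F₀ →+* F) (v : ι → F₀) : ι → F := fun i => ι₀ (v i)

theorem extV_apply (ι₀ : F₀ →+* F) (v : ι → F₀) (i : ι) : extV ι₀ v i = ι₀ (v i) := rfl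

theorem extV_add (ι₀ : F₀ →+* F) (v w : ι → F₀) : extV ι₀ (v + w) = extV ι₀ v + extV ι₀ w := by
  funext i
  exact map_add ι₀ _ _

theorem extV_smul (ι₀ : F₀ →+* F) (a : F₀) (v : ι → F₀) :
    extV ι₀ (a • v) = ι₀ a • extV ι₀ v := by
  funext i
  exact map_mul ι₀ _ _

theorem extV_single (ι₀ : F₀ →+* F) (i : ι) :
    extV ι₀ (Pi.single i (1 : F₀)) = Pi.single i (1 : F) := by
  funext j
  rw [extV_apply]
  by_cases h : j = i
  · subst h
    rw [Pi.single_eq_same, Pi.single_eq_same, map_one]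
  · rw [Pi.single_eq_of_ne h, Pi.single_eq_of_ne h, map_zero]

theorem extV_injective (ι₀ : F₀ →+* F) : Function.Injective (extV (ι := ι) ι₀) := by
  intro v w h
  funext i
  exact ι₀.injective (congrFun h i)

theorem extV_mulVec (ι₀ : F₀ →+* F) (M : Matrix ι ι F₀) (v : ι → F₀) :
    (M.map ι₀) *ᵥ extV ι₀ v = extV ι₀ (M *ᵥ v) := by
  funext i
  exact (RingHom.map_mulVec ι₀ M v i).symm

/-- a quadratic form whose values on the small vectors lie in the subfield descends -/
theorem exists_descent (ι₀ : F₀ →+* F) (Q : QuadraticForm F (ι → F))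
    (h : ∀ v : ι → F₀, Q (extV ι₀ v) ∈ Set.range ι₀) :
    ∃ Q₀ : QuadraticForm F₀ (ι → F₀), ∀ v, ι₀ (Q₀ v) = Q (extV ι₀ v) := by
  choose q hq using h
  have hpol : ∀ x y, ι₀ (polar q x y) = polar Q (extV ι₀ x) (extV ι₀ y) := by
    intro x y
    unfold polar
    rw [map_sub, map_sub, hq, hq, hq, extV_add]
  refine ⟨QuadraticMap.ofPolar q ?_ ?_ ?_, hq⟩
  · intro a x
    apply ι₀.injective
    rw [hq, extV_smul, QuadraticMap.map_smul, smul_eq_mul, smul_eq_mul, map_mul, map_mul, hq]
  · intro x x' y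
    apply ι₀.injective
    rw [map_add, hpol, hpol, hpol, extV_add, QuadraticMap.polar_add_left]
  · intro a x y
    apply ι₀.injective
    rw [smul_eq_mul, map_mul, hpol, hpol, extV_smul, QuadraticMap.polar_smul_left, smul_eq_mul]

theorem descent_polar (ι₀ : F₀ →+* F) (Q : QuadraticForm F (ι → F))
    (Q₀ : QuadraticForm F₀ (ι → F₀)) (hc : ∀ v, ι₀ (Q₀ v) = Q (extV ι₀ v)) (x y : ι → F₀) :
    ι₀ (polar Q₀ x y) = polar Q (extV ι₀ x) (extV ι₀ y) := by
  unfold polar
  rw [map_sub, map_sub, hc, hc, hc, extV_add]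

/-- the descended form is nondegenerate -/
theorem descent_nondeg (ι₀ : F₀ →+* F) (Q : QuadraticForm F (ι → F))
    (Q₀ : QuadraticForm F₀ (ι → F₀)) (hc : ∀ v, ι₀ (Q₀ v) = Q (extV ι₀ v))
    (hQ : (polarBilin Q).Nondegenerate) : (polarBilin Q₀).Nondegenerate := by
  have hleft : (polarBilin Q₀).SeparatingLeft := by
    intro x hx
    apply extV_injective ι₀
    have h0 : extV ι₀ (0 : ι → F₀) = 0 := by
      funext i
      exact map_zero ι₀
    rw [h0]
    apply hQ.1
    intro w
    have hlin : polarBilin Q (extV ι₀ x) = 0 := by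
      apply (Pi.basisFun F ι).ext
      intro j
      rw [Pi.basisFun_apply, ← extV_single ι₀ j]
      show polar Q (extV ι₀ x) (extV ι₀ (Pi.single j 1)) = 0
      rw [← descent_polar ι₀ Q Q₀ hc]
      have := hx (Pi.single j 1)
      rw [show polarBilin Q₀ x (Pi.single j 1) = polar Q₀ x (Pi.single j 1) from rfl] at this
      rw [this, map_zero]
    rw [hlin]
    rfl
  refine ⟨hleft, ?_⟩
  intro y hy
  apply hleft
  intro x
  have := hy x
  show polar Q₀ y x = 0
  rw [polar_comm]
  exact this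

/-- an identity between quadratic forms which holds on the small vectors holds everywhere -/
theorem base_change (ι₀ : F₀ →+* F) (Q Q' : QuadraticForm F (ι → F))
    (h : ∀ v : ι → F₀, Q (extV ι₀ v) = Q' (extV ι₀ v)) (v : ι → F) : Q v = Q' v := by
  apply Cfsg.Agent.Lib.Helper5.ext_basis Q Q' (Pi.basisFun F ι)
  · intro i
    rw [Pi.basisFun_apply, ← extV_single ι₀ i]
    exact h _
  · intro i j
    rw [Pi.basisFun_apply, Pi.basisFun_apply, ← extV_single ι₀ i, ← extV_single ι₀ j]
    unfold polar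
    rw [← extV_add, h, h, h]

end Descent

end Cfsg.Agent.Lib.Helper5.OFld
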