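import Mathlib
import Cfsg.Agent.Lib.Helper5.OFld15

set_option autoImplicit false

/-! Hilbert 90 for semilinear similarities of a quadratic form. -/

namespace Cfsg.Agent.Lib.Helper5.OFld

open Matrix Cfsg.Agent.Lib.Helper5.PSLCoset

section Data
variable {F : Type*} [Field F] {ι : Type} [Fintype ι] [DecidableEq ι]

/-- a field automorphism applied to the entries of a vector -/
def sv (σ : F ≃+* F) (v : ι → F) : ι → F := fun i => σ (v i)

theorem sv_apply (σ : F ≃+* F) (v : ι → F) (i : ι) : sv σ v i = σ (v i) := rfl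

theorem map_mulVec_sv (σ : F ≃+* F) (M : Matrix ι ι F) (x : ι → F) :
    M.map σ *ᵥ sv σ x = sv σ (M *ᵥ x) := map_mulVec σ M x

theorem sv_mul (σ τ : F ≃+* F) (v : ι → F) : sv (σ * τ) v = sv σ (sv τ v) := rfl

theorem sv_one (v : ι → F) : sv (1 : F ≃+* F) v = v := rfl

/-- the multiplier of a twisted power -/
theorem tw_multiplier (Q : (ι → F) → F) (σ : F ≃+* F) (g : Matrix ι ι F) (c : F)
    (hg : ∀ v, Q (g *ᵥ sv σ v) = c * σ (Q v)) (k : ℕ) (v : ι → F) :
    Q (tw σ g k *ᵥ sv (σ ^ k) v) = nrm σ k c * (σ ^ k : F ≃+* F) (Q v) := by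
  induction k generalizing v with
  | zero =>
    rw [tw_zero, pow_zero, sv_one, Matrix.one_mulVec, nrm_zero, one_mul]
    rfl
  | succ k ih =>
    rw [tw_succ, pow_succ', sv_mul, ← Matrix.mulVec_mulVec, map_mulVec_sv, hg, ih, nrm_succ,
      map_mul, mul_assoc]
    rfl

variable [Finite F]

/-- Hilbert 90 for a semilinear similarity whose twisted power is a scalar -/
theorem exists_descent_data (Q : QuadraticForm F (ι → F)) (hQ0 : ∃ v, Q v ≠ 0)
    (σ : F ≃+* F) (r : ℕ) (hr : orderOf σ = r) (hr0 : 0 < r)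
    (g : Matrix ι ι F) (hgu : IsUnit g) (c : F)
    (hg : ∀ v, Q (g *ᵥ sv σ v) = c * σ (Q v))
    (z : F) (hz0 : z ≠ 0) (htw : tw σ g r = z • 1) :
    ∃ (B : Matrix ι ι F) (w ν : F), IsUnit B ∧ w ≠ 0 ∧ ν ≠ 0 ∧ (w • g) * B.map σ = B ∧
      ∀ v, ν⁻¹ * Q (B *ᵥ sv σ v) = σ (ν⁻¹ * Q (B *ᵥ v)) := by
  classical
  have hσr : σ ^ r = 1 := by
    rw [← hr]
    exact pow_orderOf_eq_one σ
  -- `z` is fixed by `σ`
  have hzσ : σ z = z := by
    have h1 := tw_succ σ g r
    rw [tw_succ', htw, hσr] at h1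
    have h2 : g.map ((1 : F ≃+* F)) = g := by
      ext i j
      rfl
    have h3 : (z • (1 : Matrix ι ι F)).map σ = σ z • 1 := by
      ext i j
      by_cases hij : i = j
      · simp [Matrix.one_apply, hij]
      · simp [Matrix.one_apply, hij]
    rw [h2, h3, Matrix.smul_mul, Matrix.one_mul, Matrix.mul_smul, Matrix.mul_one] at h1
    obtain ⟨g', hg'⟩ := hgu.exists_left_inv
    have h4 := congrArg (fun M => g' * M) h1
    simp only [Matrix.mul_smul, hg'] at h4
    obtain ⟨v, hv⟩ := hQ0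
    have hne : Nonempty ι := by
      by_contra hcon
      rw [not_nonempty_iff] at hcon
      have : v = 0 := Subsingleton.elim _ _
      rw [this, QuadraticMap.map_zero] at hv
      exact hv rfl
    obtain ⟨i₀⟩ := hne
    have h5 := congrFun (congrFun h4 i₀) i₀
    simpa using h5.symm
  obtain ⟨w, hw0, hw⟩ := exists_nrm_eq σ r hr hr0 z⁻¹ (inv_ne_zero hz0)
    (by rw [map_inv₀, hzσ])
  have htw1 : tw σ (w • g) r = 1 := by
    rw [tw_smul, htw, hw, smul_smul, inv_mul_cancel₀ hz0, one_smul]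
  obtain ⟨B, hBu, hB⟩ := hilbert90_matrix σ (w • g) r hr hr0 htw1
  obtain ⟨c', hc'⟩ : ∃ c' : F, c' = w * w * c := ⟨_, rfl⟩
  have hg1 : ∀ v, Q ((w • g) *ᵥ sv σ v) = c' * σ (Q v) := by
    intro v
    rw [Matrix.smul_mulVec, QuadraticMap.map_smul, hg, hc', smul_eq_mul]
    ring
  -- the norm of the multiplier is one
  have hnrm : nrm σ r c' = 1 := by
    obtain ⟨v, hv⟩ := hQ0
    have := tw_multiplier (⇑Q) σ (w • g) c' hg1 r v
    rw [htw1, hσr, sv_one, Matrix.one_mulVec] at this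
    have h1 : (1 : F) * Q v = nrm σ r c' * Q v := by
      rw [one_mul]
      exact this
    exact (mul_right_cancel₀ hv h1).symm
  obtain ⟨ν, hν0, hν⟩ := hilbert90_scalar σ r hr hr0 c' hnrm
  have hσν0 : σ ν ≠ 0 := (map_ne_zero_iff _ σ.injective).2 hν0
  refine ⟨B, w, ν, hBu, hw0, hν0, hB, fun v => ?_⟩
  have h1 : Q (B *ᵥ sv σ v) = c' * σ (Q (B *ᵥ v)) := by
    conv_lhs => rw [← hB]
    rw [← Matrix.mulVec_mulVec, map_mulVec_sv, hg1]
  rw [h1, map_mul, map_inv₀]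
  have e : ν⁻¹ * c' = (σ ν)⁻¹ := by
    apply eq_inv_of_mul_eq_one_left
    rw [mul_assoc, hν, inv_mul_cancel₀ hν0]
  rw [← mul_assoc, e]

end Data

end Cfsg.Agent.Lib.Helper5.OFld
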