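import Mathlib
import Cfsg.Agent.Lib.Helper5.PGO10
import Cfsg.Agent.Lib.Helper5.GraphInv

set_option autoImplicit false

/-! Determinant images and orders of projective similarity groups. -/

namespace Cfsg.Agent.Lib.Helper5.GraphSplit

open Matrix Cfsg.Agent.Lib.Helper5.PGO Cfsg.Agent.Lib.Helper2 Cfsg.Agent.Lib.Helper2.CDG
open Cfsg.Agent.Lib.Helper5.QuadGlue Cfsg.Agent.Lib.Helper2.QuadStd

section generic
variable {ι : Type} [Fintype ι] [DecidableEq ι] {F : Type*} [Field F]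

theorem card_scalars [Nonempty ι] [Fintype F] :
    Nat.card (Cfsg.Geo.scalars ι F) = Fintype.card F - 1 := by
  unfold Cfsg.Geo.scalars
  have hinj : Function.Injective
      (Units.map (Matrix.scalar ι : F →+* Matrix ι ι F).toMonoidHom) := by
    apply Units.map_injective
    intro a b hab
    have h := congrFun (congrFun hab (Classical.arbitrary ι)) (Classical.arbitrary ι)
    simpa using h
  rw [Nat.card_congr (MonoidHom.ofInjective hinj).symm.toEquiv, Nat.card_units,
    Nat.card_eq_fintype_card]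

theorem card_projQuot_eq [Nonempty ι] [Fintype F] (H : Subgroup (GL ι F))
    (hZ : Cfsg.Geo.scalars ι F ≤ H) (μ : ↥H →* Fˣ) (hμ : Function.Surjective μ) :
    Nat.card (Cfsg.projQuot H) = Nat.card μ.ker := by
  have h1 : Nat.card ↥H = Nat.card (Cfsg.projQuot H)
      * Nat.card ((Cfsg.Geo.scalars ι F).subgroupOf H) :=
    Subgroup.card_eq_card_quotient_mul_card_subgroup _
  have h2 : Nat.card ↥H = Nat.card (↥H ⧸ μ.ker) * Nat.card μ.ker :=
    Subgroup.card_eq_card_quotient_mul_card_subgroup _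
  have h3 : Nat.card (↥H ⧸ μ.ker) = Nat.card Fˣ :=
    Nat.card_congr (QuotientGroup.quotientKerEquivOfSurjective μ hμ).toEquiv
  have h4 : Nat.card ((Cfsg.Geo.scalars ι F).subgroupOf H) = Nat.card (Cfsg.Geo.scalars ι F) :=
    Nat.card_congr (Subgroup.subgroupOfEquivOfLe hZ).toEquiv
  rw [h3, Nat.card_units, Nat.card_eq_fintype_card (α := F)] at h2
  rw [h4, card_scalars, h2, mul_comm] at h1
  have hpos : 0 < Fintype.card F - 1 := by
    have := Fintype.one_lt_card (α := F)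
    omega
  exact (Nat.eq_of_mul_eq_mul_right hpos h1).symm

end generic

section transfer
variable {ι₁ ι₂ : Type} [Fintype ι₁] [DecidableEq ι₁] [Fintype ι₂] [DecidableEq ι₂]
  {F : Type*} [Field F]

theorem map_det_eq (H₁ : Subgroup (GL ι₁ F)) (H₂ : Subgroup (GL ι₂ F))
    (φ : GL ι₁ F → GL ι₂ F) (ψ : GL ι₂ F → GL ι₁ F)
    (h12 : ∀ g, g ∈ H₁ → φ g ∈ H₂) (h21 : ∀ h, h ∈ H₂ → ψ h ∈ H₁)
    (hφ : ∀ g, Matrix.GeneralLinearGroup.det (φ g) = Matrix.GeneralLinearGroup.det g ∨
      Matrix.GeneralLinearGroup.det (φ g) = (Matrix.GeneralLinearGroup.det g)⁻¹)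
    (hψ : ∀ g, Matrix.GeneralLinearGroup.det (ψ g) = Matrix.GeneralLinearGroup.det g ∨
      Matrix.GeneralLinearGroup.det (ψ g) = (Matrix.GeneralLinearGroup.det g)⁻¹) :
    H₁.map Matrix.GeneralLinearGroup.det = H₂.map Matrix.GeneralLinearGroup.det := by
  ext u
  constructor
  · rintro ⟨g, hg, rfl⟩
    rcases hφ g with h | h
    · exact ⟨φ g, h12 g hg, h⟩
    · have h3 : (Matrix.GeneralLinearGroup.det g)⁻¹ ∈ H₂.map Matrix.GeneralLinearGroup.det :=
        ⟨φ g, h12 g hg, h⟩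
      simpa using inv_mem h3
  · rintro ⟨g, hg, rfl⟩
    rcases hψ g with h | h
    · exact ⟨ψ g, h21 g hg, h⟩
    · have h3 : (Matrix.GeneralLinearGroup.det g)⁻¹ ∈ H₁.map Matrix.GeneralLinearGroup.det :=
        ⟨ψ g, h21 g hg, h⟩
      simpa using inv_mem h3

open Cfsg.Agent.S2703 in
theorem det_glCongr (P : Matrix ι₂ ι₁ F) (P' : Matrix ι₁ ι₂ F) (h1 : P * P' = 1)
    (h2 : P' * P = 1) (g : GL ι₁ F) :
    Matrix.GeneralLinearGroup.det (glCongr P P' h1 h2 g) = Matrix.GeneralLinearGroup.det g := by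
  apply Units.ext
  rw [Matrix.GeneralLinearGroup.val_det_apply, Matrix.GeneralLinearGroup.val_det_apply, glCongr_coe]
  exact Matrix.det_conj_of_mul_eq_one h1 h2

open Cfsg.Agent.Lib.Helper5.GraphInv Cfsg.Agent.Lib.Helper5.SLnAut in
theorem det_tauGL (g : GL ι₁ F) :
    Matrix.GeneralLinearGroup.det (tauGL g) = (Matrix.GeneralLinearGroup.det g)⁻¹ := by
  have h : tauGL g = (trGL g)⁻¹ := by
    unfold trGL
    rw [inv_inv]
  rw [h, map_inv]
  congr 1
  apply Units.ext
  rw [Matrix.GeneralLinearGroup.val_det_apply, Matrix.GeneralLinearGroup.val_det_apply, trGL_coe,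
    Matrix.det_transpose]

end transfer

end Cfsg.Agent.Lib.Helper5.GraphSplit
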