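import Mathlib
import Cfsg.Agent.Lib.Helper5.GraphSplit1

set_option autoImplicit false

/-! Determinant image and order for the conformal orthogonal groups. -/

namespace Cfsg.Agent.Lib.Helper5.GraphSplit

open Matrix Cfsg.Agent.Lib.Helper5.PGO Cfsg.Agent.Lib.Helper2 Cfsg.Agent.Lib.Helper2.CDG
open Cfsg.Agent.Lib.Helper5.QuadGlue Cfsg.Agent.Lib.Helper2.QuadStd

section GOdet
variable {F : Type*} [Field F] [Fintype F] {ι : Type} [Fintype ι] [DecidableEq ι]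
variable {Q : QuadraticForm F (ι → F)}

theorem map_det_GO (hQ : (QuadraticMap.polarBilin Q).Nondegenerate) (hQ0 : ∃ v, Q v ≠ 0)
    {m : ℕ} (hm : Fintype.card ι = 2 * m)
    (hsurj : ∀ ν : Fˣ, ∃ g : GL ι F, (∀ v, Q ((g : Matrix ι ι F) *ᵥ v) = (ν : F) * Q v) ∧
      (g : Matrix ι ι F).det = (ν : F) ^ m) :
    (GO (⇑Q)).map Matrix.GeneralLinearGroup.det =
      Subgroup.zpowers (-1 : Fˣ) ⊔ (powMonoidHom m : Fˣ →* Fˣ).range := by
  apply le_antisymm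
  · rintro _ ⟨g, hg, rfl⟩
    have h1 : Matrix.GeneralLinearGroup.det g =
        epsHom Q hQ0 m ⟨g, hg⟩ * (mu (⇑Q) ⟨g, hg⟩) ^ m := by
      rw [epsHom_apply, inv_mul_cancel_right]
      rfl
    rw [h1]
    apply Subgroup.mul_mem_sup
    · rcases epsHom_sq hQ hQ0 hm ⟨g, hg⟩ with h | h
      · rw [h]
        exact one_mem _
      · rw [h]
        exact Subgroup.mem_zpowers _
    · exact ⟨_, rfl⟩
  · apply sup_le
    · rw [Subgroup.zpowers_le]
      obtain ⟨u, hu⟩ := hQ0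
      refine ⟨(refl Q u hu : GL ι F), iso_le_GO _ (refl Q u hu).2, ?_⟩
      apply Units.ext
      rw [Matrix.GeneralLinearGroup.val_det_apply, det_refl]
      rfl
    · rintro _ ⟨ν, rfl⟩
      obtain ⟨g, hg, hdet⟩ := hsurj ν
      refine ⟨g, ⟨ν, hg⟩, ?_⟩
      apply Units.ext
      rw [Matrix.GeneralLinearGroup.val_det_apply, hdet]
      rfl

theorem card_PGO [Nonempty ι] (hQ0 : ∃ v, Q v ≠ 0)
    (hsurj : ∀ ν : Fˣ, ∃ g : GL ι F, ∀ v, Q ((g : Matrix ι ι F) *ᵥ v) = (ν : F) * Q v) :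
    Nat.card (Cfsg.PGO F (⇑Q)) = Nat.card (Cfsg.isometryGroup F (⇑Q)) := by
  have hZ : Cfsg.Geo.scalars ι F ≤ GO (⇑Q) := by
    rintro _ ⟨c, rfl⟩
    exact scal_mem_GO c
  have hμ : Function.Surjective (muHom (⇑Q) hQ0) := by
    intro ν
    obtain ⟨g, hg⟩ := hsurj ν
    refine ⟨⟨g, ⟨ν, hg⟩⟩, ?_⟩
    apply Units.ext
    rw [muHom_apply]
    exact mu_unique hQ0 _ _ hg
  have hker : (muHom (⇑Q) hQ0).ker = (Cfsg.isometryGroup F (⇑Q)).subgroupOf (GO (⇑Q)) := by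
    ext g
    rw [MonoidHom.mem_ker, Subgroup.mem_subgroupOf, muHom_apply]
    constructor
    · intro h
      rw [mem_iso_iff]
      intro v
      rw [mu_spec (⇑Q) g v, h, Units.val_one, one_mul]
    · intro h
      exact mu_of_iso hQ0 g h
  show Nat.card (Cfsg.projQuot (GO (⇑Q))) = _
  rw [card_projQuot_eq (GO (⇑Q)) hZ (muHom (⇑Q) hQ0) hμ, hker]
  exact Nat.card_congr (Subgroup.subgroupOfEquivOfLe (iso_le_GO (⇑Q))).toEquiv

end GOdet

end Cfsg.Agent.Lib.Helper5.GraphSplit
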