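import Mathlib
import Cfsg.Agent.Lib.Helper5.GraphSplit2
import Cfsg.Agent.Lib.Helper9.SpMax1

set_option autoImplicit false

/-! Determinant image and order for the conformal symplectic group. -/

namespace Cfsg.Agent.Lib.Helper5.GraphSplit

open Matrix Cfsg.Agent.Lib.Helper5.PGO Cfsg.Agent.Lib.Helper2.Symp

section GSp
variable {F : Type*} [Field F] [Fintype F] {m : ℕ}

theorem sympForm_expand (u v : Fin m ⊕ Fin m → F) :
    Cfsg.sympForm m F u v =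
      ∑ i, (u (Sum.inr i) * v (Sum.inl i) - u (Sum.inl i) * v (Sum.inr i)) := by
  unfold Cfsg.sympForm
  rw [dotProduct, Fintype.sum_sum_type]
  simp only [J_mulVec_apply_inl, J_mulVec_apply_inr]
  rw [← Finset.sum_add_distrib]
  apply Finset.sum_congr rfl
  intro i _
  ring

theorem dnu_symp (ν : Fˣ) (u v : Fin m ⊕ Fin m → F) :
    Cfsg.sympForm m F
      (((dnu m ν : GL (Fin m ⊕ Fin m) F) : Matrix (Fin m ⊕ Fin m) (Fin m ⊕ Fin m) F) *ᵥ u)
      (((dnu m ν : GL (Fin m ⊕ Fin m) F) : Matrix (Fin m ⊕ Fin m) (Fin m ⊕ Fin m) F) *ᵥ v)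
      = (ν : F) * Cfsg.sympForm m F u v := by
  rw [sympForm_expand, sympForm_expand, dnu_coe, Finset.mul_sum]
  apply Finset.sum_congr rfl
  intro i _
  rw [Matrix.mulVec_diagonal, Matrix.mulVec_diagonal, Matrix.mulVec_diagonal,
    Matrix.mulVec_diagonal]
  simp only [Sum.elim_inl, Sum.elim_inr]
  ring

theorem dnu_mem_GSp (ν : Fˣ) : dnu m ν ∈ Cfsg.GSp m F := ⟨ν, dnu_symp ν⟩

theorem sympForm_ne_zero (hm : 1 ≤ m) : ∃ u v : Fin m ⊕ Fin m → F, Cfsg.sympForm m F u v ≠ 0 := by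
  refine ⟨Pi.single (Sum.inr ⟨0, hm⟩) 1, Pi.single (Sum.inl ⟨0, hm⟩) 1, ?_⟩
  rw [sympForm_expand, Finset.sum_eq_single (⟨0, hm⟩ : Fin m)]
  · simp
  · intro b _ hb
    simp [hb]
  · intro h
    exact absurd (Finset.mem_univ _) h

/-- the multiplier of a conformal symplectic matrix -/
noncomputable def muS (g : ↥(Cfsg.GSp m F)) : Fˣ := Classical.choose g.2

theorem muS_spec (g : ↥(Cfsg.GSp m F)) (u v : Fin m ⊕ Fin m → F) :
    Cfsg.sympForm m F
      (((g : GL (Fin m ⊕ Fin m) F) : Matrix (Fin m ⊕ Fin m) (Fin m ⊕ Fin m) F) *ᵥ u)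
      (((g : GL (Fin m ⊕ Fin m) F) : Matrix (Fin m ⊕ Fin m) (Fin m ⊕ Fin m) F) *ᵥ v)
      = (muS g : F) * Cfsg.sympForm m F u v := Classical.choose_spec g.2 u v

theorem muS_unique (hm : 1 ≤ m) (g : ↥(Cfsg.GSp m F)) (c : F)
    (hc : ∀ u v, Cfsg.sympForm m F
      (((g : GL (Fin m ⊕ Fin m) F) : Matrix (Fin m ⊕ Fin m) (Fin m ⊕ Fin m) F) *ᵥ u)
      (((g : GL (Fin m ⊕ Fin m) F) : Matrix (Fin m ⊕ Fin m) (Fin m ⊕ Fin m) F) *ᵥ v)
      = c * Cfsg.sympForm m F u v) : (muS g : F) = c := by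
  obtain ⟨u, v, huv⟩ := sympForm_ne_zero (F := F) hm
  have h := muS_spec g u v
  rw [hc] at h
  exact (mul_right_cancel₀ huv h).symm

/-- the multiplier homomorphism -/
noncomputable def muSHom (hm : 1 ≤ m) : ↥(Cfsg.GSp m F) →* Fˣ where
  toFun := muS
  map_one' := by
    apply Units.ext
    rw [muS_unique hm 1 1 (fun u v => by simp)]
    rfl
  map_mul' a b := by
    apply Units.ext
    rw [muS_unique hm (a * b) ((muS a : F) * (muS b : F)) (fun u v => by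
      rw [Subgroup.coe_mul, Units.val_mul, ← Matrix.mulVec_mulVec, ← Matrix.mulVec_mulVec,
        muS_spec a, muS_spec b, mul_assoc])]
    rfl

theorem muSHom_apply (hm : 1 ≤ m) (g : ↥(Cfsg.GSp m F)) : muSHom hm g = muS g := rfl

theorem det_of_sim (g : GL (Fin m ⊕ Fin m) F) (c : Fˣ)
    (hc : ∀ u v, Cfsg.sympForm m F ((g : Matrix (Fin m ⊕ Fin m) (Fin m ⊕ Fin m) F) *ᵥ u)
      ((g : Matrix (Fin m ⊕ Fin m) (Fin m ⊕ Fin m) F) *ᵥ v) = (c : F) * Cfsg.sympForm m F u v) :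
    (g : Matrix (Fin m ⊕ Fin m) (Fin m ⊕ Fin m) F).det = (c : F) ^ m := by
  set d : GL (Fin m ⊕ Fin m) F := dnu m c with hd
  have hdd : ∀ x, ((d : Matrix (Fin m ⊕ Fin m) (Fin m ⊕ Fin m) F) *ᵥ
      (((d⁻¹ : GL (Fin m ⊕ Fin m) F) : Matrix (Fin m ⊕ Fin m) (Fin m ⊕ Fin m) F) *ᵥ x)) = x := by
    intro x
    rw [Matrix.mulVec_mulVec, ← Units.val_mul, mul_inv_cancel, Units.val_one, Matrix.one_mulVec]
  have hA : ((g * d⁻¹ : GL (Fin m ⊕ Fin m) F) : Matrix (Fin m ⊕ Fin m) (Fin m ⊕ Fin m) F) ∈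
      Matrix.symplecticGroup (Fin m) F := by
    rw [Cfsg.Agent.Lib.Helper1.SpCard.mem_symplectic_iff_form]
    intro x y
    rw [Units.val_mul, ← Matrix.mulVec_mulVec, ← Matrix.mulVec_mulVec, hc]
    conv_rhs => rw [← hdd x, ← hdd y, hd, dnu_symp]
  have h1 := SymplecticGroup.det_eq_one hA
  rw [Units.val_mul, Matrix.det_mul] at h1
  have h2 : ((d⁻¹ : GL (Fin m ⊕ Fin m) F) : Matrix (Fin m ⊕ Fin m) (Fin m ⊕ Fin m) F).det
      * (d : Matrix (Fin m ⊕ Fin m) (Fin m ⊕ Fin m) F).det = 1 := by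
    rw [← Matrix.det_mul, ← Units.val_mul, inv_mul_cancel, Units.val_one, Matrix.det_one]
  have h3 : (d : Matrix (Fin m ⊕ Fin m) (Fin m ⊕ Fin m) F).det = (c : F) ^ m := dnu_det m c
  calc (g : Matrix (Fin m ⊕ Fin m) (Fin m ⊕ Fin m) F).det
      = (g : Matrix (Fin m ⊕ Fin m) (Fin m ⊕ Fin m) F).det
        * (((d⁻¹ : GL (Fin m ⊕ Fin m) F) : Matrix (Fin m ⊕ Fin m) (Fin m ⊕ Fin m) F).det
        * (d : Matrix (Fin m ⊕ Fin m) (Fin m ⊕ Fin m) F).det) := by rw [h2, mul_one]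
    _ = (c : F) ^ m := by rw [← mul_assoc, h1, one_mul, h3]

theorem map_det_GSp :
    (Cfsg.GSp m F).map Matrix.GeneralLinearGroup.det = (powMonoidHom m : Fˣ →* Fˣ).range := by
  apply le_antisymm
  · rintro _ ⟨g, ⟨c, hc⟩, rfl⟩
    refine ⟨c, ?_⟩
    apply Units.ext
    rw [Matrix.GeneralLinearGroup.val_det_apply, det_of_sim g c hc]
    rfl
  · rintro _ ⟨ν, rfl⟩
    refine ⟨dnu m ν, dnu_mem_GSp ν, ?_⟩
    apply Units.ext
    rw [Matrix.GeneralLinearGroup.val_det_apply, dnu_det]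
    rfl

theorem card_PGSp (hm : 1 ≤ m) :
    Nat.card (Cfsg.PGSp m F) = Nat.card (Matrix.symplecticGroup (Fin m) F) := by
  have : Nonempty (Fin m ⊕ Fin m) := ⟨Sum.inl ⟨0, hm⟩⟩
  have hZ : Cfsg.Geo.scalars (Fin m ⊕ Fin m) F ≤ Cfsg.GSp m F := by
    rintro _ ⟨c, rfl⟩
    refine ⟨c * c, fun u v => ?_⟩
    have h1 : ∀ x : Fin m ⊕ Fin m → F,
        ((Units.map (Matrix.scalar (Fin m ⊕ Fin m) : F →+* _).toMonoidHom c :
          GL (Fin m ⊕ Fin m) F) : Matrix (Fin m ⊕ Fin m) (Fin m ⊕ Fin m) F) *ᵥ x = (c : F) • x := by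
      intro x
      show Matrix.scalar (Fin m ⊕ Fin m) (c : F) *ᵥ x = _
      rw [Matrix.scalar_apply, ← Matrix.smul_one_eq_diagonal, Matrix.smul_mulVec, Matrix.one_mulVec]
    rw [h1, h1]
    unfold Cfsg.sympForm
    rw [Matrix.mulVec_smul, smul_dotProduct, dotProduct_smul, smul_eq_mul, smul_eq_mul,
      Units.val_mul, mul_assoc]
  have hμ : Function.Surjective (muSHom (F := F) hm) := by
    intro ν
    refine ⟨⟨dnu m ν, dnu_mem_GSp ν⟩, ?_⟩
    apply Units.ext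
    rw [muSHom_apply]
    exact muS_unique hm _ _ (dnu_symp ν)
  have hker : (muSHom (F := F) hm).ker = (Cfsg.spGL m F).subgroupOf (Cfsg.GSp m F) := by
    ext g
    rw [MonoidHom.mem_ker, Subgroup.mem_subgroupOf, muSHom_apply]
    constructor
    · intro h u v
      show Cfsg.sympForm m F
        (((g : GL (Fin m ⊕ Fin m) F) : Matrix (Fin m ⊕ Fin m) (Fin m ⊕ Fin m) F) *ᵥ u)
        (((g : GL (Fin m ⊕ Fin m) F) : Matrix (Fin m ⊕ Fin m) (Fin m ⊕ Fin m) F) *ᵥ v) = _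
      rw [muS_spec g u v, h, Units.val_one, one_mul]
    · intro h
      apply Units.ext
      rw [muS_unique hm g 1 (fun u v => by rw [one_mul]; exact h u v), Units.val_one]
  have hle : Cfsg.spGL m F ≤ Cfsg.GSp m F := by
    intro g hg
    exact ⟨1, fun u v => by rw [Units.val_one, one_mul]; exact hg u v⟩
  show Nat.card (Cfsg.projQuot (Cfsg.GSp m F)) = _
  rw [card_projQuot_eq (Cfsg.GSp m F) hZ (muSHom hm) hμ, hker,
    Nat.card_congr (Subgroup.subgroupOfEquivOfLe hle).toEquiv,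
    ← Cfsg.Agent.H9SpMax.toGL_range]
  have hinj : Function.Injective (Cfsg.Agent.H9SpMax.toGL m F) := by
    intro A B hAB
    apply Subtype.ext
    have := congrArg (fun g : GL (Fin m ⊕ Fin m) F =>
      (g : Matrix (Fin m ⊕ Fin m) (Fin m ⊕ Fin m) F)) hAB
    exact this
  exact (Nat.card_congr (MonoidHom.ofInjective hinj).toEquiv).symm

end GSp

end Cfsg.Agent.Lib.Helper5.GraphSplit
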