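import Mathlib
import Cfsg.Agent.Lib.Helper2.IsomDecomp

set_option autoImplicit false

/-! Alternating forms given as functions: transvections and Siegel transformations. -/

namespace Cfsg.Agent.Lib.Helper5.SpAut

open Module Cfsg.Agent.Lib.Helper2.IsomDecomp

section
variable {F : Type*} [Field F] {V : Type*} [AddCommGroup V] [Module F V] {B : V → V → F}

/-- an alternating bilinear form given as a function -/
structure AltF (B : V → V → F) : Prop where
  add_left : ∀ x y z, B (x + y) z = B x z + B y z
  smul_left : ∀ (a : F) x z, B (a • x) z = a * B x z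
  swap : ∀ x y, B x y = -B y x
  self : ∀ x, B x x = 0

namespace AltF

theorem add_right (h : AltF B) (x y z : V) : B x (y + z) = B x y + B x z := by
  rw [h.swap x (y + z), h.add_left, h.swap y x, h.swap z x]
  ring

theorem smul_right (h : AltF B) (a : F) (x z : V) : B x (a • z) = a * B x z := by
  rw [h.swap x (a • z), h.smul_left, h.swap z x]
  ring

theorem zero_left (h : AltF B) (x : V) : B 0 x = 0 := by
  have := h.smul_left 0 0 x
  rwa [zero_smul, zero_mul] at this

theorem zero_right (h : AltF B) (x : V) : B x 0 = 0 := by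
  rw [h.swap, h.zero_left, neg_zero]

theorem neg_left (h : AltF B) (x y : V) : B (-x) y = -B x y := by
  have := h.smul_left (-1) x y
  rwa [neg_one_smul, neg_one_mul] at this

theorem neg_right (h : AltF B) (x y : V) : B x (-y) = -B x y := by
  have := h.smul_right (-1) x y
  rwa [neg_one_smul, neg_one_mul] at this

theorem sub_left (h : AltF B) (x y z : V) : B (x - y) z = B x z - B y z := by
  rw [sub_eq_add_neg, h.add_left, h.neg_left, sub_eq_add_neg]

theorem sub_right (h : AltF B) (x y z : V) : B x (y - z) = B x y - B x z := by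
  rw [sub_eq_add_neg, h.add_right, h.neg_right, sub_eq_add_neg]

/-- the functional `x ↦ B x u` -/
def toDual (h : AltF B) (u : V) : V →ₗ[F] F where
  toFun x := B x u
  map_add' x y := h.add_left x y u
  map_smul' a x := h.smul_left a x u

@[simp] theorem toDual_apply (h : AltF B) (u x : V) : h.toDual u x = B x u := rfl

end AltF

/-- the symplectic transvection `x ↦ x + c B(x,u) u` -/
noncomputable def tv (h : AltF B) (u : V) (c : F) : V ≃ₗ[F] V :=
  LinearEquiv.transvection (f := c • h.toDual u) (v := u)
    (by rw [LinearMap.smul_apply, AltF.toDual_apply, h.self, smul_zero])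

theorem tv_apply (h : AltF B) (u : V) (c : F) (x : V) :
    tv h u c x = x + (c * B x u) • u := by
  unfold tv
  rw [LinearEquiv.transvection.apply, LinearMap.smul_apply, AltF.toDual_apply, smul_eq_mul]

theorem tv_mem_isom (h : AltF B) (u : V) (c : F) : tv h u c ∈ isom B := by
  intro x y
  rw [tv_apply, tv_apply]
  simp only [h.add_left, h.add_right, h.smul_left, h.smul_right, h.self]
  rw [h.swap u y]
  ring

theorem tv_mul_tv (h : AltF B) (u : V) (c c' : F) :
    tv h u c * tv h u c' = tv h u (c + c') := by
  apply LinearEquiv.ext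
  intro x
  rw [LinearEquiv.mul_apply, tv_apply, tv_apply, tv_apply, h.add_left, h.smul_left, h.self]
  module

theorem tv_zero (h : AltF B) (u : V) : tv h u 0 = 1 := by
  apply LinearEquiv.ext
  intro x
  rw [tv_apply, zero_mul, zero_smul, add_zero]
  rfl

theorem tv_zero_left (h : AltF B) (c : F) : tv h 0 c = 1 := by
  apply LinearEquiv.ext
  intro x
  rw [tv_apply, smul_zero, add_zero]
  rfl

theorem tv_inv (h : AltF B) (u : V) (c : F) : (tv h u c)⁻¹ = tv h u (-c) := by
  apply inv_eq_of_mul_eq_one_right
  rw [tv_mul_tv, add_neg_cancel, tv_zero]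

theorem tv_pow (h : AltF B) (u : V) (c : F) (k : ℕ) : tv h u c ^ k = tv h u (k * c) := by
  induction k with
  | zero => rw [pow_zero, Nat.cast_zero, zero_mul, tv_zero]
  | succ k ih =>
    rw [pow_succ, ih, tv_mul_tv]
    congr 1
    push_cast
    ring

theorem conj_tv (h : AltF B) {g : V ≃ₗ[F] V} (hg : g ∈ isom B) (u : V) (c : F) :
    g * tv h u c * g⁻¹ = tv h (g u) c := by
  apply LinearEquiv.ext
  intro x
  have h1 : g (g⁻¹ x) = x := by
    rw [← LinearEquiv.mul_apply, mul_inv_cancel]
    rfl
  have h2 : B (g⁻¹ x) u = B x (g u) := by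
    rw [← hg (g⁻¹ x) u, h1]
  rw [LinearEquiv.mul_apply, LinearEquiv.mul_apply, tv_apply, tv_apply, map_add, map_smul, h1, h2]

theorem tv_smul (h : AltF B) (u : V) (a c : F) : tv h (a • u) c = tv h u (a * a * c) := by
  apply LinearEquiv.ext
  intro x
  rw [tv_apply, tv_apply, h.smul_right, smul_smul]
  congr 2
  ring

theorem tv_comm_of_perp (h : AltF B) {u v : V} (huv : B u v = 0) (c c' : F) :
    tv h u c * tv h v c' = tv h v c' * tv h u c := by
  have hvu : B v u = 0 := by rw [h.swap, huv, neg_zero]
  apply LinearEquiv.ext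
  intro x
  rw [LinearEquiv.mul_apply, LinearEquiv.mul_apply, tv_apply, tv_apply, tv_apply, tv_apply,
    h.add_left, h.add_left, h.smul_left, h.smul_left, huv, hvu]
  module

/-- the Siegel transformation `x ↦ x + B(x,u) w + B(x,w) u + c B(x,u) u` -/
noncomputable def eich (h : AltF B) (u w : V) (c : F) (hw : B w u = 0) : V ≃ₗ[F] V :=
  LinearEquiv.transvection (f := h.toDual u) (v := w + c • u)
      (by rw [AltF.toDual_apply, h.add_left, h.smul_left, hw, h.self, mul_zero, add_zero]) *
    LinearEquiv.transvection (f := h.toDual w) (v := u)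
      (by rw [AltF.toDual_apply, h.swap, hw, neg_zero])

theorem eich_apply (h : AltF B) (u w : V) (c : F) (hw : B w u = 0) (x : V) :
    eich h u w c hw x = x + B x u • w + B x w • u + (c * B x u) • u := by
  unfold eich
  rw [LinearEquiv.mul_apply, LinearEquiv.transvection.apply, LinearEquiv.transvection.apply,
    AltF.toDual_apply, AltF.toDual_apply, h.add_left, h.smul_left, h.self,
    mul_zero, add_zero, smul_add, smul_smul]
  rw [mul_comm c]
  abel

theorem eich_mem_isom (h : AltF B) (u w : V) (c : F) (hw : B w u = 0) :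
    eich h u w c hw ∈ isom B := by
  intro x y
  have huw : B u w = 0 := by rw [h.swap, hw, neg_zero]
  rw [eich_apply, eich_apply]
  simp only [h.add_left, h.add_right, h.smul_left, h.smul_right, h.self, hw, huw]
  rw [h.swap u y, h.swap w y]
  ring

theorem eich_zero (h : AltF B) (u : V) (c : F) :
    eich h u 0 c (h.zero_left u) = tv h u c := by
  apply LinearEquiv.ext
  intro x
  rw [eich_apply, tv_apply, smul_zero, h.zero_right, zero_smul, add_zero, add_zero]

theorem eich_mul (h : AltF B) (u w w' : V) (c c' : F) (hw : B w u = 0) (hw' : B w' u = 0) :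
    eich h u w c hw * eich h u w' c' hw'
      = eich h u (w + w') (c + c' + B w' w) (by rw [h.add_left, hw, hw', add_zero]) := by
  apply LinearEquiv.ext
  intro x
  have huw : B u w = 0 := by rw [h.swap, hw, neg_zero]
  rw [LinearEquiv.mul_apply, eich_apply, eich_apply, eich_apply]
  have e1 : B (x + B x u • w' + B x w' • u + (c' * B x u) • u) u = B x u := by
    simp only [h.add_left, h.smul_left, h.self, hw', mul_zero, add_zero]
  have e2 : B (x + B x u • w' + B x w' • u + (c' * B x u) • u) w = B x w + B x u * B w' w := by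
    simp only [h.add_left, h.smul_left, huw, mul_zero, add_zero]
  rw [e1, e2, h.add_right]
  module

theorem eich_congr (h : AltF B) {u u' w w' : V} {c c' : F} (hw : B w u = 0)
    (eu : u = u') (ew : w = w') (ec : c = c') :
    eich h u w c hw = eich h u' w' c' (by rw [← eu, ← ew]; exact hw) := by
  subst eu ew ec
  rfl

theorem conj_eich (h : AltF B) {g : V ≃ₗ[F] V} (hg : g ∈ isom B) (u w : V) (c : F)
    (hw : B w u = 0) :
    g * eich h u w c hw * g⁻¹ = eich h (g u) (g w) c (by rw [hg, hw]) := by
  apply LinearEquiv.ext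
  intro x
  have h1 : g (g⁻¹ x) = x := by
    rw [← LinearEquiv.mul_apply, mul_inv_cancel]
    rfl
  have h2 : ∀ v, B (g⁻¹ x) v = B x (g v) := by
    intro v
    rw [← hg (g⁻¹ x) v, h1]
  rw [LinearEquiv.mul_apply, LinearEquiv.mul_apply, eich_apply, eich_apply]
  simp only [map_add, map_smul, h1, h2]

theorem eich_add_smul (h : AltF B) (u w : V) (c l : F) (hw : B w u = 0) :
    eich h u (w + l • u) c (by rw [h.add_left, h.smul_left, hw, h.self, mul_zero, add_zero])
      = eich h u w (c + 2 * l) hw := by
  apply LinearEquiv.ext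
  intro x
  rw [eich_apply, eich_apply]
  simp only [h.add_right, h.smul_right, smul_add, smul_smul, add_smul]
  module

theorem eich_pow (h : AltF B) (u w : V) (c : F) (hw : B w u = 0) (k : ℕ) :
    eich h u w c hw ^ k
      = eich h u ((k : F) • w) (k * c) (by rw [h.smul_left, hw, mul_zero]) := by
  induction k with
  | zero =>
    rw [pow_zero]
    apply LinearEquiv.ext
    intro x
    rw [eich_apply]
    simp [h.zero_right]
  | succ k ih =>
    rw [pow_succ, ih, eich_mul]
    apply LinearEquiv.ext
    intro x
    rw [eich_apply, eich_apply]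
    simp only [h.add_right, h.smul_right, h.smul_left, h.self]
    push_cast
    module

end

end Cfsg.Agent.Lib.Helper5.SpAut
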