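import Mathlib
import Cfsg.Agent.Lib.Helper2.UT18

set_option autoImplicit false

/-! Eichler (Siegel) transformations of a Hermitian space. -/

namespace Cfsg.Agent.Lib.Helper5.UAut

open Module Cfsg.Agent.Lib.Helper2 Cfsg.Agent.Lib.Helper2.UT Cfsg.Agent.Lib.Helper2.IsomDecomp
  Cfsg.Agent.Lib.Helper5.PSLCoset

section
variable {F : Type*} [Field F] {σ : F ≃+* F} {V : Type*} [AddCommGroup V] [Module F V]
  {H : V → V → F}

/-- the Eichler transformation `x ↦ x + H(x,u) w - H(x,w) u + c H(x,u) u` -/
noncomputable def eich (h : IsHerm σ H) (u w : V) (c : F) (hu : H u u = 0) (hw : H w u = 0) :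
    V ≃ₗ[F] V :=
  LinearEquiv.transvection (f := h.toDual u) (v := w + c • u)
      (by rw [IsHerm.toDual_apply, h.add_left, h.smul_left, hw, hu, mul_zero, add_zero]) *
    LinearEquiv.transvection (f := -h.toDual w) (v := u)
      (by rw [LinearMap.neg_apply, IsHerm.toDual_apply, h.symm w u, hw, map_zero, neg_zero])

theorem eich_apply (h : IsHerm σ H) (u w : V) (c : F) (hu : H u u = 0) (hw : H w u = 0) (x : V) :
    eich h u w c hu hw x = x + H x u • w - H x w • u + (c * H x u) • u := by
  unfold eich
  rw [LinearEquiv.mul_apply, LinearEquiv.transvection.apply, LinearEquiv.transvection.apply,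
    LinearMap.neg_apply, IsHerm.toDual_apply, IsHerm.toDual_apply, h.add_left, h.smul_left, hu,
    mul_zero, add_zero, smul_add, smul_smul, neg_smul]
  rw [mul_comm c]
  abel

theorem det_eich [FiniteDimensional F V] (h : IsHerm σ H) (u w : V) (c : F) (hu : H u u = 0)
    (hw : H w u = 0) : LinearEquiv.det (eich h u w c hu hw) = 1 := by
  unfold eich
  rw [map_mul, LinearEquiv.transvection.det_eq_one, LinearEquiv.transvection.det_eq_one, one_mul]

theorem eich_mem_isom (h : IsHerm σ H) (u w : V) (c : F) (hu : H u u = 0) (hw : H w u = 0)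
    (hc : c + σ c + H w w = 0) : eich h u w c hu hw ∈ isom H := by
  intro x y
  have huw : H u w = 0 := by rw [h.symm w u, hw, map_zero]
  rw [eich_apply, eich_apply]
  simp only [h.add_left, h.add_right, h.sub_left, h.sub_right, h.smul_left, h.smul_right, hu, hw,
    huw, map_mul]
  rw [h.symm y w, h.symm y u]
  linear_combination (H x u * σ (H y u)) * hc

theorem eich_zero (h : IsHerm σ H) (u : V) (c : F) (hu : H u u = 0) :
    eich h u 0 c hu (h.zero_left u) = tv h u c hu := by
  apply LinearEquiv.ext
  intro x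
  rw [eich_apply, tv_apply, smul_zero, h.zero_right, zero_smul, add_zero, sub_zero]

theorem eich_mul (h : IsHerm σ H) (u w w' : V) (c c' : F) (hu : H u u = 0) (hw : H w u = 0)
    (hw' : H w' u = 0) :
    eich h u w c hu hw * eich h u w' c' hu hw'
      = eich h u (w + w') (c + c' - H w' w) hu (by rw [h.add_left, hw, hw', add_zero]) := by
  apply LinearEquiv.ext
  intro x
  have huw : H u w = 0 := by rw [h.symm w u, hw, map_zero]
  rw [LinearEquiv.mul_apply, eich_apply, eich_apply, eich_apply]
  have e1 : H (x + H x u • w' - H x w' • u + (c' * H x u) • u) u = H x u := by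
    simp only [h.add_left, h.sub_left, h.smul_left, hu, hw', mul_zero, add_zero, sub_zero]
  have e2 : H (x + H x u • w' - H x w' • u + (c' * H x u) • u) w = H x w + H x u * H w' w := by
    simp only [h.add_left, h.sub_left, h.smul_left, huw, mul_zero, add_zero, sub_zero]
  rw [e1, e2, h.add_right]
  module

theorem eich_congr (h : IsHerm σ H) {u u' w w' : V} {c c' : F} (hu : H u u = 0) (hw : H w u = 0)
    (eu : u = u') (ew : w = w') (ec : c = c') :
    eich h u w c hu hw = eich h u' w' c' (by rw [← eu]; exact hu) (by rw [← eu, ← ew]; exact hw) := by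
  subst eu ew ec
  rfl

theorem conj_eich (h : IsHerm σ H) {g : V ≃ₗ[F] V} (hg : g ∈ isom H) (u w : V) (c : F)
    (hu : H u u = 0) (hw : H w u = 0) :
    g * eich h u w c hu hw * g⁻¹
      = eich h (g u) (g w) c (by rw [hg, hu]) (by rw [hg, hw]) := by
  apply LinearEquiv.ext
  intro x
  have h1 : g (g⁻¹ x) = x := by
    rw [← LinearEquiv.mul_apply, mul_inv_cancel]
    rfl
  have h2 : ∀ v, H (g⁻¹ x) v = H x (g v) := by
    intro v
    rw [← hg (g⁻¹ x) v, h1]
  rw [LinearEquiv.mul_apply, LinearEquiv.mul_apply, eich_apply, eich_apply]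
  simp only [map_add, map_sub, map_smul, h1, h2]

theorem eich_smul_left (h : IsHerm σ H) (hσ2 : ∀ a : F, σ (σ a) = a) (u w : V) (c ρ : F)
    (hu : H u u = 0) (hw : H w u = 0) :
    eich h (ρ • u) w c (by rw [h.smul_left, h.smul_right, hu, mul_zero, mul_zero])
        (by rw [h.smul_right, hw, mul_zero])
      = eich h u (σ ρ • w) (ρ * σ ρ * c) hu (by rw [h.smul_left, hw, mul_zero]) := by
  apply LinearEquiv.ext
  intro x
  rw [eich_apply, eich_apply]
  simp only [h.smul_right, smul_smul, hσ2]
  module

theorem eich_add_smul (h : IsHerm σ H) (u w : V) (c l : F) (hu : H u u = 0) (hw : H w u = 0) :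
    eich h u (w + l • u) c hu (by rw [h.add_left, h.smul_left, hw, hu, mul_zero, add_zero])
      = eich h u w (c + l - σ l) hu hw := by
  apply LinearEquiv.ext
  intro x
  rw [eich_apply, eich_apply]
  simp only [h.add_right, h.smul_right, smul_add, smul_smul, add_smul]
  module

theorem eich_eq_one_iff (h : IsHerm σ H) (hnd : ∀ v, (∀ w, H v w = 0) → v = 0) {u f : V}
    (hp : HypPair H u f) (w : V) (c : F) (hw : H w u = 0) (hwf : H w f = 0) :
    eich h u w c hp.uu hw = 1 ↔ w = 0 ∧ c = 0 := by
  constructor
  · intro h1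
    have h2 : eich h u w c hp.uu hw f = f := by rw [h1]; rfl
    rw [eich_apply, hp.vu h, one_smul, mul_one, h.symm w f, hwf, map_zero, zero_smul,
      sub_zero] at h2
    have h3 : w + c • u = 0 := by
      have h5 : f + w + c • u = f + 0 := by rw [add_zero]; exact h2
      rw [add_assoc] at h5
      exact add_left_cancel h5
    have hc : c = 0 := by
      have h4 : H (w + c • u) f = H 0 f := by rw [h3]
      rw [h.add_left, h.smul_left, hwf, hp.uv, h.zero_left, zero_add, mul_one] at h4
      exact h4
    rw [hc, zero_smul, add_zero] at h3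
    exact ⟨h3, hc⟩
  · rintro ⟨rfl, rfl⟩
    apply LinearEquiv.ext
    intro x
    rw [eich_apply, smul_zero, h.zero_right, zero_smul, zero_mul, zero_smul, add_zero, sub_zero,
      add_zero]
    rfl

end

end Cfsg.Agent.Lib.Helper5.UAut
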