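import Mathlib
import Cfsg.Agent.Lib.Helper5.UAut1

set_option autoImplicit false

/-! The unipotent radical of the stabilizer of an isotropic point. -/

namespace Cfsg.Agent.Lib.Helper5.UAut

open Module Cfsg.Agent.Lib.Helper2 Cfsg.Agent.Lib.Helper2.UT Cfsg.Agent.Lib.Helper2.IsomDecomp
  Cfsg.Agent.Lib.Helper5.PSLCoset

section
variable {F : Type*} [Field F] {σ : F ≃+* F} {V : Type*} [AddCommGroup V] [Module F V]
  {H : V → V → F}

/-- `g` is an isometry fixing `u` and acting trivially on `u^⊥ / F u` -/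
def IsQ (H : V → V → F) (u : V) (g : V ≃ₗ[F] V) : Prop :=
  g ∈ isom H ∧ g u = u ∧ ∀ x, H x u = 0 → ∃ a : F, g x = x + a • u

theorem isQ_eich (h : IsHerm σ H) (u w : V) (c : F) (hu : H u u = 0) (hw : H w u = 0)
    (hc : c + σ c + H w w = 0) : IsQ H u (eich h u w c hu hw) := by
  have huw : H u w = 0 := by rw [h.symm w u, hw, map_zero]
  refine ⟨eich_mem_isom h u w c hu hw hc, ?_, fun x hx => ⟨-H x w, ?_⟩⟩
  · rw [eich_apply, hu, huw, zero_smul, zero_smul, mul_zero, zero_smul, add_zero, sub_zero,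
      add_zero]
  · rw [eich_apply, hx, zero_smul, mul_zero, zero_smul, add_zero, add_zero, neg_smul,
      sub_eq_add_neg]

/-- decomposition of a vector along a hyperbolic pair -/
theorem hyp_decomp (h : IsHerm σ H) {u f : V} (hp : HypPair H u f) (x : V) :
    ∃ y : V, H y u = 0 ∧ H y f = 0 ∧ x = H x f • u + H x u • f + y := by
  refine ⟨x - H x f • u - H x u • f, ?_, ?_, ?_⟩
  · rw [h.sub_left, h.sub_left, h.smul_left, h.smul_left, hp.uu, hp.vu h]
    ring
  · rw [h.sub_left, h.sub_left, h.smul_left, h.smul_left, hp.uv, hp.vv]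
    ring
  · abel

theorem exists_eich_of_isQ (h : IsHerm σ H) {u f : V} (hp : HypPair H u f) {g : V ≃ₗ[F] V}
    (hg : IsQ H u g) :
    ∃ (w : V) (c : F) (hw : H w u = 0), H w f = 0 ∧ c + σ c + H w w = 0 ∧
      g = eich h u w c hp.uu hw := by
  obtain ⟨hiso, hgu, hgx⟩ := hg
  obtain ⟨y, hy⟩ : ∃ y, y = g f - f := ⟨_, rfl⟩
  have hyu : H y u = 0 := by
    rw [hy, h.sub_left, hp.vu h]
    have := hiso f u
    rw [hgu, hp.vu h] at this
    rw [this, sub_self]
  obtain ⟨c, hc⟩ : ∃ c, c = H y f := ⟨_, rfl⟩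
  obtain ⟨w, hwdef⟩ : ∃ w, w = y - c • u := ⟨_, rfl⟩
  have hw : H w u = 0 := by
    rw [hwdef, h.sub_left, h.smul_left, hyu, hp.uu]
    ring
  have hwf : H w f = 0 := by
    rw [hwdef, h.sub_left, h.smul_left, hp.uv, ← hc]
    ring
  have huw : H u w = 0 := by rw [h.symm w u, hw, map_zero]
  have hfw : H f w = 0 := by rw [h.symm w f, hwf, map_zero]
  have hgf : g f = f + w + c • u := by
    rw [hwdef]
    have : g f = y + f := by rw [hy]; abel
    rw [this]
    abel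
  have hcc : c + σ c + H w w = 0 := by
    have h1 := hiso f f
    rw [hp.vv, hgf] at h1
    simp only [h.add_left, h.add_right, h.smul_left, h.smul_right, hp.vv, hp.uu, hp.uv, hp.vu h,
      hw, hwf, huw, hfw] at h1
    linear_combination h1
  refine ⟨w, c, hw, hwf, hcc, ?_⟩
  apply LinearEquiv.ext
  intro x
  obtain ⟨z, hzu, hzf, hx⟩ := hyp_decomp h hp x
  have hEu : eich h u w c hp.uu hw u = u := by
    rw [eich_apply, hp.uu, huw, zero_smul, zero_smul, mul_zero, zero_smul, add_zero, sub_zero,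
      add_zero]
  have hEf : eich h u w c hp.uu hw f = f + w + c • u := by
    rw [eich_apply, hp.vu h, hfw, one_smul, zero_smul, mul_one, sub_zero]
  have hEz : eich h u w c hp.uu hw z = z - H z w • u := by
    rw [eich_apply, hzu, zero_smul, mul_zero, zero_smul, add_zero, add_zero]
  have hgz : g z = z - H z w • u := by
    obtain ⟨a, ha⟩ := hgx z hzu
    have h1 := hiso z f
    rw [ha, hgf, hzf] at h1
    simp only [h.add_left, h.add_right, h.smul_left, h.smul_right, hp.vv, hp.uu, hp.uv, hp.vu h,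
      hzu, hzf, huw] at h1
    have ha' : a = -H z w := by linear_combination h1
    rw [ha, ha', neg_smul, sub_eq_add_neg]
  rw [hx, map_add, map_add, map_smul, map_smul, map_add, map_add, map_smul, map_smul, hgu, hgf,
    hgz, hEu, hEf, hEz]

theorem isQ_one (h : IsHerm σ H) (u : V) : IsQ H u 1 :=
  ⟨(isom H).one_mem, rfl, fun x _ => ⟨0, by rw [zero_smul, add_zero]; rfl⟩⟩

theorem isQ_mul (h : IsHerm σ H) {u : V} {g g' : V ≃ₗ[F] V} (hg : IsQ H u g)
    (hg' : IsQ H u g') : IsQ H u (g * g') := by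
  refine ⟨(isom H).mul_mem hg.1 hg'.1, ?_, fun x hx => ?_⟩
  · rw [LinearEquiv.mul_apply, hg'.2.1, hg.2.1]
  · obtain ⟨a', ha'⟩ := hg'.2.2 x hx
    obtain ⟨a, ha⟩ := hg.2.2 x hx
    refine ⟨a + a', ?_⟩
    rw [LinearEquiv.mul_apply, ha', map_add, map_smul, hg.2.1, ha, add_smul]
    abel

theorem isQ_inv (h : IsHerm σ H) {u : V} {g : V ≃ₗ[F] V} (hg : IsQ H u g) : IsQ H u g⁻¹ := by
  have h1 : ∀ x, g⁻¹ (g x) = x := by
    intro x
    rw [← LinearEquiv.mul_apply, inv_mul_cancel]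
    rfl
  have hgu : g⁻¹ u = u := by
    conv_lhs => rw [← hg.2.1, h1]
  refine ⟨(isom H).inv_mem hg.1, hgu, fun x hx => ?_⟩
  obtain ⟨a, ha⟩ := hg.2.2 x hx
  refine ⟨-a, ?_⟩
  have h2 : g⁻¹ (g x) = g⁻¹ (x + a • u) := by rw [ha]
  rw [h1, map_add, map_smul, hgu] at h2
  have h3 : g⁻¹ x = x - a • u := eq_sub_of_add_eq h2.symm
  rw [h3, neg_smul, sub_eq_add_neg]

/-- conjugating by an isometry stabilizing the point -/
theorem isQ_conj (h : IsHerm σ H) (hσ2 : ∀ a : F, σ (σ a) = a) {u : V} {g m : V ≃ₗ[F] V}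
    (hg : IsQ H u g) (hm : m ∈ isom H) {r : F} (hr : r ≠ 0) (hmu : m u = r • u) :
    IsQ H u (m * g * m⁻¹) := by
  have h1 : ∀ x, m (m⁻¹ x) = x := by
    intro x
    rw [← LinearEquiv.mul_apply, mul_inv_cancel]
    rfl
  have h1' : ∀ x, m⁻¹ (m x) = x := by
    intro x
    rw [← LinearEquiv.mul_apply, inv_mul_cancel]
    rfl
  have hmu' : m⁻¹ u = r⁻¹ • u := by
    have : m⁻¹ (m u) = m⁻¹ (r • u) := by rw [hmu]
    rw [h1', map_smul] at this
    calc m⁻¹ u = r⁻¹ • (r • m⁻¹ u) := by rw [smul_smul, inv_mul_cancel₀ hr, one_smul]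
      _ = r⁻¹ • u := by rw [← this]
  refine ⟨(isom H).mul_mem ((isom H).mul_mem hm hg.1) ((isom H).inv_mem hm), ?_, fun x hx => ?_⟩
  · rw [LinearEquiv.mul_apply, LinearEquiv.mul_apply, hmu', map_smul, hg.2.1, map_smul, hmu,
      smul_smul, inv_mul_cancel₀ hr, one_smul]
  · have hx' : H (m⁻¹ x) u = 0 := by
      have := hm (m⁻¹ x) u
      rw [h1, hmu, h.smul_right, hx, mul_zero] at this
      exact this.symm
    obtain ⟨a, ha⟩ := hg.2.2 _ hx'
    refine ⟨a * r, ?_⟩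
    rw [LinearEquiv.mul_apply, LinearEquiv.mul_apply, ha, map_add, map_smul, h1, hmu, smul_smul]

end

end Cfsg.Agent.Lib.Helper5.UAut
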