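import Mathlib
import Cfsg.Agent.Lib.Helper5.UAut2

set_option autoImplicit false

/-! Group theory around the unipotent radical `Q_u`: powers, centralizer, fixed vectors. -/

namespace Cfsg.Agent.Lib.Helper5.UAut

open Module Cfsg.Agent.Lib.Helper2 Cfsg.Agent.Lib.Helper2.UT Cfsg.Agent.Lib.Helper2.IsomDecomp
  Cfsg.Agent.Lib.Helper5.PSLCoset

universe u v

section
variable {F : Type v} [Field F] {σ : F ≃+* F} {V : Type u} [AddCommGroup V] [Module F V]
  {H : V → V → F}

/-- the standing hypotheses -/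
structure UData (σ : F ≃+* F) (H : V → V → F) : Prop where
  hσ : orderOf σ = 2
  h : IsHerm σ H
  hnd : ∀ v, (∀ w, H v w = 0) → v = 0
  hdim : 3 ≤ finrank F V
  hbig : finrank F V = 3 → ∃ c : F, σ c = c ∧ c ≠ 0 ∧ c ≠ 1

theorem UData.hσ2 (d : UData σ H) (a : F) : σ (σ a) = a := WittHerm.sigma_sigma d.hσ a

theorem UData.nd' (d : UData σ H) (v : V) (hv : ∀ w, H w v = 0) : v = 0 := by
  apply d.hnd
  intro w
  rw [d.h.symm w v, hv, map_zero]

theorem mem_T_of (d : UData σ H) [Finite F] [FiniteDimensional F V] (g : V ≃ₗ[F] V)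
    (hg : g ∈ isom H) (hdet : LinearEquiv.det g = 1) : g ∈ T d.h :=
  mem_T_main d.hσ (finrank F V) (by have := d.hdim; omega) V H d.h d.hnd rfl d.hbig g hg hdet

theorem eich_mem_T (d : UData σ H) [Finite F] [FiniteDimensional F V] (u w : V) (c : F)
    (hu : H u u = 0) (hw : H w u = 0) (hc : c + σ c + H w w = 0) :
    eich d.h u w c hu hw ∈ T d.h :=
  mem_T_of d _ (eich_mem_isom d.h u w c hu hw hc) (det_eich d.h u w c hu hw)

theorem exists_skew_c (d : UData σ H) (w : V) : ∃ c : F, c + σ c + H w w = 0 := by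
  obtain ⟨a, ha⟩ := WittHerm.exists_trace d.hσ (-H w w)
    (by rw [map_neg, ← d.h.symm w w])
  exact ⟨a, by rw [ha]; ring⟩

theorem eich_pow (h : IsHerm σ H) (u w : V) (c : F) (hu : H u u = 0) (hw : H w u = 0) (k : ℕ) :
    ∃ c' : F, (eich h u w c hu hw) ^ k
      = eich h u (k • w) c' hu (by rw [← Nat.cast_smul_eq_nsmul F, h.smul_left, hw, mul_zero]) := by
  induction k with
  | zero =>
    refine ⟨0, ?_⟩
    rw [pow_zero]
    apply LinearEquiv.ext
    intro x
    rw [eich_apply]
    simp [h.zero_right]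
  | succ k ih =>
    obtain ⟨c', hc'⟩ := ih
    refine ⟨c' + c - H w (k • w), ?_⟩
    rw [pow_succ, hc', eich_mul]
    apply eich_congr h hu _ rfl _ rfl
    rw [succ_nsmul]

theorem tv_pow (h : IsHerm σ H) (u : V) (c : F) (hu : H u u = 0) (k : ℕ) :
    (tv h u c hu) ^ k = tv h u (k * c) hu := by
  induction k with
  | zero =>
    rw [pow_zero]
    apply LinearEquiv.ext
    intro x
    rw [tv_apply]
    simp
  | succ k ih =>
    rw [pow_succ, ih]
    apply LinearEquiv.ext
    intro x
    rw [LinearEquiv.mul_apply, tv_apply, tv_apply, tv_apply, h.add_left, h.smul_left, hu]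
    push_cast
    module

/-- elements of `Q_u` have order dividing `p ^ 2` -/
theorem isQ_pow (h : IsHerm σ H) (p : ℕ) [CharP F p] {u f : V} (hp : HypPair H u f)
    {g : V ≃ₗ[F] V} (hg : IsQ H u g) : g ^ (p ^ 2) = 1 := by
  obtain ⟨w, c, hw, -, -, rfl⟩ := exists_eich_of_isQ h hp hg
  obtain ⟨c', hc'⟩ := eich_pow h u w c hp.uu hw p
  have h0 : p • w = 0 := by
    rw [← Nat.cast_smul_eq_nsmul F, CharP.cast_eq_zero, zero_smul]
  rw [pow_two, pow_mul, hc']
  have h1 : eich h u (p • w) c' hp.uu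
      (by rw [← Nat.cast_smul_eq_nsmul F, h.smul_left, hw, mul_zero])
      = tv h u c' hp.uu := by
    rw [← eich_zero]
    exact eich_congr h hp.uu _ rfl h0 rfl
  rw [h1, tv_pow, CharP.cast_eq_zero, zero_mul]
  apply LinearEquiv.ext
  intro x
  rw [tv_apply]
  simp

end

section fixed
variable {F : Type v} [Field F] [Fintype F] {σ : F ≃+* F} {V : Type u} [AddCommGroup V]
  [Module F V] [FiniteDimensional F V] {H : V → V → F}

/-- a `p`-group of linear automorphisms fixes a nonzero vector in every nonzero invariant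
subspace -/
theorem exists_fixed_in (p : ℕ) [Fact p.Prime] [CharP F p] (S : Subgroup (V ≃ₗ[F] V))
    (hS : IsPGroup p S) (W : Submodule F V) (hW : ∀ s ∈ S, ∀ x ∈ W, s x ∈ W) (hne : W ≠ ⊥) :
    ∃ x ∈ W, x ≠ 0 ∧ ∀ s ∈ S, s x = x := by
  haveI : Finite V := Module.finite_of_finite F
  let A : SubMulAction ↥S V :=
    { carrier := W
      smul_mem' := fun s x hx => hW s.1 s.2 x hx }
  haveI : Finite ↥A := Finite.of_injective (fun x : ↥A => (x : V)) Subtype.val_injective
  have hcard : p ∣ Nat.card ↥A := by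
    have h1 : Nat.card ↥A = Nat.card ↥W := rfl
    rw [h1]
    have hpos : 0 < finrank F ↥W := by
      rw [Module.finrank_pos_iff_exists_ne_zero]
      obtain ⟨x, hx, hx0⟩ := (Submodule.ne_bot_iff W).1 hne
      exact ⟨⟨x, hx⟩, fun h0 => hx0 (congrArg Subtype.val h0)⟩
    rw [Module.natCard_eq_pow_finrank (K := F) (V := ↥W)]
    obtain ⟨n, hn⟩ := FiniteField.card F p
    rw [Nat.card_eq_fintype_card, hn.2]
    apply dvd_pow _ (by omega)
    exact dvd_pow_self p (PNat.ne_zero n)
  have hfix : (⟨0, W.zero_mem⟩ : ↥A) ∈ MulAction.fixedPoints ↥S ↥A := by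
    intro s
    apply Subtype.ext
    show (s : V ≃ₗ[F] V) (0 : V) = 0
    exact map_zero _
  obtain ⟨b, hb, hb0⟩ := hS.exists_fixed_point_of_prime_dvd_card_of_fixed_point ↥A hcard hfix
  refine ⟨b.1, b.2, ?_, fun s hs => ?_⟩
  · intro h0
    apply hb0
    apply Subtype.ext
    exact h0.symm
  · have := hb ⟨s, hs⟩
    exact congrArg Subtype.val this

/-- a nontrivial `p`-group of isometries fixes a nonzero isotropic vector -/
theorem exists_fixed_isotropic (d : UData σ H) (p : ℕ) [Fact p.Prime] [CharP F p]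
    (S : Subgroup (V ≃ₗ[F] V)) (hS : IsPGroup p S) (hiso : S ≤ isom H) :
    ∃ x : V, x ≠ 0 ∧ H x x = 0 ∧ ∀ s ∈ S, s x = x := by
  have hV : (⊤ : Submodule F V) ≠ ⊥ := by
    intro h0
    have h1 := finrank_top F V
    rw [h0, finrank_bot] at h1
    have := d.hdim
    omega
  obtain ⟨v, -, hv0, hv⟩ := exists_fixed_in p S hS ⊤ (fun _ _ _ _ => Submodule.mem_top) hV
  by_cases hvv : H v v = 0
  · exact ⟨v, hv0, hvv, hv⟩
  -- the orthogonal complement of `v`
  let W : Submodule F V := LinearMap.ker (d.h.toDual v)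
  have hWmem : ∀ x, x ∈ W ↔ H x v = 0 := by
    intro x
    rw [LinearMap.mem_ker, IsHerm.toDual_apply]
  have hWinv : ∀ s ∈ S, ∀ x ∈ W, s x ∈ W := by
    intro s hs x hx
    rw [hWmem] at hx ⊢
    have := hiso hs x v
    rw [hv s hs] at this
    rw [this, hx]
  have hWne : W ≠ ⊥ := by
    -- a vector outside the line of `v`
    obtain ⟨y, hy⟩ : ∃ y : V, ∀ a : F, y ≠ a • v := by
      by_contra hcon
      push Not at hcon
      have hle : finrank F V ≤ 1 := by
        rw [← finrank_top F V]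
        have : (⊤ : Submodule F V) ≤ Submodule.span F {v} := by
          intro y _
          obtain ⟨a, ha⟩ := hcon y
          rw [ha]
          exact Submodule.smul_mem _ _ (Submodule.subset_span rfl)
        exact (Submodule.finrank_mono this).trans (finrank_span_singleton hv0).le
      have := d.hdim
      omega
    intro h0
    have hmem : y - (H y v / H v v) • v ∈ W := by
      rw [hWmem, d.h.sub_left, d.h.smul_left, div_mul_cancel₀ _ hvv, sub_self]
    rw [h0, Submodule.mem_bot, sub_eq_zero] at hmem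
    exact hy _ hmem
  obtain ⟨v', hv'W, hv'0, hv'⟩ := exists_fixed_in p S hS W hWinv hWne
  rw [hWmem] at hv'W
  by_cases hvv' : H v' v' = 0
  · exact ⟨v', hv'0, hvv', hv'⟩
  have hvv'2 : H v v' = 0 := by rw [d.h.symm v' v, hv'W, map_zero]
  have hfix1 : σ (-(H v' v' / H v v)) = -(H v' v' / H v v) := by
    rw [map_neg, map_div₀, ← d.h.symm v' v', ← d.h.symm v v]
  obtain ⟨s, hs0, hs⟩ := exists_norm_eq d.hσ (-(H v' v' / H v v))
    (neg_ne_zero.2 (div_ne_zero hvv' hvv)) hfix1
  refine ⟨s • v + v', ?_, ?_, fun t ht => ?_⟩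
  · intro h0
    have h1 : H (s • v + v') v = 0 := by rw [h0, d.h.zero_left]
    rw [d.h.add_left, d.h.smul_left, hv'W, add_zero] at h1
    exact (mul_ne_zero hs0 hvv) h1
  · simp only [d.h.add_left, d.h.add_right, d.h.smul_left, d.h.smul_right, hv'W, hvv'2, mul_zero,
      add_zero, zero_add]
    have : s * (σ s * H v v) = (s * σ s) * H v v := by ring
    rw [this, hs]
    field_simp
    ring
  · rw [map_add, map_smul, hv t ht, hv' t ht]

end fixed

end Cfsg.Agent.Lib.Helper5.UAut
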