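import Mathlib
import Cfsg.Agent.Lib.Helper5.UAut3

set_option autoImplicit false

/-! The centralizer of `Q_u` and the centre of a Sylow `p`-subgroup. -/

namespace Cfsg.Agent.Lib.Helper5.UAut

open Module Cfsg.Agent.Lib.Helper2 Cfsg.Agent.Lib.Helper2.UT Cfsg.Agent.Lib.Helper2.IsomDecomp
  Cfsg.Agent.Lib.Helper5.PSLCoset

universe u v

section
variable {F : Type v} [Field F] {σ : F ≃+* F} {V : Type u} [AddCommGroup V] [Module F V]
  {H : V → V → F}

theorem eich_apply_f (h : IsHerm σ H) {u f : V} (hp : HypPair H u f) (w : V) (c : F)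
    (hw : H w u = 0) : eich h u w c hp.uu hw f = f + w - H f w • u + c • u := by
  rw [eich_apply, hp.vu h, one_smul, mul_one]

theorem exists_not_fixed (d : UData σ H) : ∃ a : F, σ a ≠ a := by
  by_contra hcon
  push Not at hcon
  have h1 : σ = 1 := by
    ext a
    exact hcon a
  have := d.hσ
  rw [h1, orderOf_one] at this
  omega

theorem hyp_u_ne_zero (h : IsHerm σ H) {u f : V} (hp : HypPair H u f) : u ≠ 0 := by
  intro h0
  have := hp.uv
  rw [h0, h.zero_left] at this
  exact zero_ne_one this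

/-- an isometry commuting with all of `Q_u` is a scalar multiple of a transvection along `u` -/
theorem centralizer_Q (d : UData σ H) {u f : V} (hp : HypPair H u f) (g : V ≃ₗ[F] V)
    (hg : g ∈ isom H)
    (hcomm : ∀ (w : V) (c : F) (hw : H w u = 0), c + σ c + H w w = 0 →
      g * eich d.h u w c hp.uu hw = eich d.h u w c hp.uu hw * g) :
    ∃ r c : F, r * σ r = 1 ∧ σ c = -c ∧ ∀ x, g x = r • tv d.h u c hp.uu x := by
  have h := d.h
  have hu0 : u ≠ 0 := hyp_u_ne_zero h hp
  obtain ⟨c₀, hc₀0, hc₀⟩ := exists_skew d.hσ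
  -- step a: `g u = r u`
  obtain ⟨r, hr⟩ : ∃ r, r = H (g f) u := ⟨_, rfl⟩
  have hgu : g u = r • u := by
    have h1 := hcomm 0 c₀ (h.zero_left u) (by rw [hc₀, h.zero_left]; ring)
    have h2 := LinearEquiv.congr_fun h1 f
    rw [LinearEquiv.mul_apply, LinearEquiv.mul_apply, eich_zero, tv_apply, tv_apply, hp.vu h,
      mul_one, map_add, map_smul, ← hr] at h2
    have h3 : c₀ • g u = (c₀ * r) • u := add_left_cancel h2
    have h4 : c₀⁻¹ • (c₀ • g u) = c₀⁻¹ • ((c₀ * r) • u) := by rw [h3]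
    rw [smul_smul, smul_smul, inv_mul_cancel₀ hc₀0, one_smul, ← mul_assoc, inv_mul_cancel₀ hc₀0,
      one_mul] at h4
    exact h4
  have hr0 : r ≠ 0 := by
    intro h0
    rw [h0, zero_smul] at hgu
    have : g u = g 0 := by rw [hgu, map_zero]
    exact hu0 (g.injective this)
  have hN : r * σ r = 1 := by
    have h1 := hg u f
    rw [hgu, h.smul_left, h.symm (g f) u, ← hr, hp.uv] at h1
    exact h1
  -- step c: on `u^⊥`
  have hperp : ∀ x, H x u = 0 → ∃ a : F, g x = r • x + a • u := by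
    intro x hx
    obtain ⟨c, hc⟩ := exists_skew_c d x
    have h1 := hcomm x c hx hc
    have h2 := LinearEquiv.congr_fun h1 f
    rw [LinearEquiv.mul_apply, LinearEquiv.mul_apply, eich_apply_f h hp, eich_apply, ← hr] at h2
    simp only [map_add, map_sub, map_smul, hgu] at h2
    refine ⟨H f x * r - H (g f) x, ?_⟩
    have h3 : g x = r • x + (H f x * r - H (g f) x) • u := by
      have := congrArg (fun y => y - g f + (H f x * r) • u - (c * r) • u) h2
      simp only [smul_smul] at this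
      rw [sub_smul]
      have e1 : g f + g x - (H f x * r) • u + (c * r) • u - g f + (H f x * r) • u - (c * r) • u
          = g x := by abel
      rw [e1] at this
      rw [this]
      abel
    exact h3
  -- the normalized map
  have hr0' : r⁻¹ ≠ 0 := inv_ne_zero hr0
  obtain ⟨g', hg'⟩ : ∃ g' : V ≃ₗ[F] V, g' = LinearEquiv.smulOfNeZero F V r⁻¹ hr0' * g := ⟨_, rfl⟩
  have hg'x : ∀ x, g' x = r⁻¹ • g x := by
    intro x
    rw [hg', LinearEquiv.mul_apply]
    rfl
  have hN' : r⁻¹ * σ r⁻¹ = 1 := by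
    rw [map_inv₀, ← mul_inv, hN, inv_one]
  have hQ : IsQ H u g' := by
    refine ⟨?_, ?_, fun x hx => ?_⟩
    · intro x y
      rw [hg'x, hg'x, h.smul_left, h.smul_right, hg x y, ← mul_assoc, hN', one_mul]
    · rw [hg'x, hgu, smul_smul, inv_mul_cancel₀ hr0, one_smul]
    · obtain ⟨a, ha⟩ := hperp x hx
      refine ⟨r⁻¹ * a, ?_⟩
      rw [hg'x, ha, smul_add, smul_smul, smul_smul, inv_mul_cancel₀ hr0, one_smul]
  obtain ⟨w₀, c', hw₀, hw₀f, hc', hg'e⟩ := exists_eich_of_isQ h hp hQ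
  -- `g'` commutes with `Q_u`
  have hcomm' : ∀ (w : V) (c : F) (hw : H w u = 0), c + σ c + H w w = 0 →
      g' * eich h u w c hp.uu hw = eich h u w c hp.uu hw * g' := by
    intro w c hw hc
    apply LinearEquiv.ext
    intro x
    have h1 := LinearEquiv.congr_fun (hcomm w c hw hc) x
    rw [LinearEquiv.mul_apply, LinearEquiv.mul_apply] at h1
    rw [LinearEquiv.mul_apply, LinearEquiv.mul_apply, hg'x, hg'x, h1, map_smul]
  have hsym : ∀ w, H w u = 0 → H w w₀ = H w₀ w := by
    intro w hw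
    obtain ⟨c, hc⟩ := exists_skew_c d w
    have h1 := hcomm' w c hw hc
    rw [hg'e, eich_mul, eich_mul] at h1
    have h2 := LinearEquiv.congr_fun h1 f
    rw [eich_apply_f h hp, eich_apply_f h hp, add_comm w w₀] at h2
    have h3 : (c' + c - H w w₀) • u = (c + c' - H w₀ w) • u := add_left_cancel h2
    have h4 : (c' + c - H w w₀ - (c + c' - H w₀ w)) • u = 0 := by
      rw [sub_smul, h3, sub_self]
    rcases smul_eq_zero.1 h4 with h5 | h5
    · linear_combination -h5
    · exact absurd h5 hu0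
  have hw₀0 : w₀ = 0 := by
    apply d.nd'
    intro x
    obtain ⟨a, ha⟩ := exists_not_fixed d
    have hperp0 : ∀ w, H w u = 0 → H w w₀ = 0 := by
      intro w hw
      have h1 := hsym (a • w) (by rw [h.smul_left, hw, mul_zero])
      have h2 := hsym w hw
      rw [h.smul_left, h.smul_right, ← h2] at h1
      have h3 : (a - σ a) * H w w₀ = 0 := by linear_combination h1
      rcases mul_eq_zero.1 h3 with h4 | h4
      · exact absurd (by linear_combination -h4 : σ a = a) ha
      · exact h4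
    obtain ⟨y, hyu, hyf, hx⟩ := hyp_decomp h hp x
    rw [hx, h.add_left, h.add_left, h.smul_left, h.smul_left, hperp0 y hyu,
      h.symm w₀ u, hw₀, map_zero, h.symm w₀ f, hw₀f, map_zero]
    ring
  subst hw₀0
  rw [eich_zero] at hg'e
  refine ⟨r, c', hN, ?_, fun x => ?_⟩
  · rw [h.zero_left, add_zero] at hc'
    linear_combination hc'
  · rw [← hg'e, hg'x, smul_smul, mul_inv_cancel₀ hr0, one_smul]

end

section groups
variable {F : Type v} [Field F] [Fintype F] {σ : F ≃+* F} {V : Type u} [AddCommGroup V]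
  [Module F V] [FiniteDimensional F V] {H : V → V → F}

/-- the unipotent radical of the stabilizer of the point of `u`, inside `T` -/
def Qg (d : UData σ H) (u : V) : Subgroup ↥(T d.h) where
  carrier := {g | IsQ H u g.1}
  mul_mem' := fun ha hb => isQ_mul d.h ha hb
  one_mem' := isQ_one d.h u
  inv_mem' := fun ha => isQ_inv d.h ha

theorem mem_Qg (d : UData σ H) (u : V) (g : ↥(T d.h)) : g ∈ Qg d u ↔ IsQ H u g.1 := Iff.rfl

theorem tv_mul_tv (h : IsHerm σ H) (u : V) (c c' : F) (hu : H u u = 0) :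
    tv h u c hu * tv h u c' hu = tv h u (c + c') hu := by
  apply LinearEquiv.ext
  intro x
  rw [LinearEquiv.mul_apply, tv_apply, tv_apply, tv_apply, h.add_left, h.smul_left, hu]
  module

theorem tv_zero' (h : IsHerm σ H) (u : V) (hu : H u u = 0) : tv h u 0 hu = 1 := by
  apply LinearEquiv.ext
  intro x
  rw [tv_apply, zero_mul, zero_smul, add_zero]
  rfl

theorem tv_inv (h : IsHerm σ H) (u : V) (c : F) (hu : H u u = 0) :
    (tv h u c hu)⁻¹ = tv h u (-c) hu := by
  apply inv_eq_of_mul_eq_one_right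
  rw [tv_mul_tv, add_neg_cancel, tv_zero']

/-- the group of transvections along `u`, inside `T` -/
def Xg (d : UData σ H) (u : V) (hu : H u u = 0) : Subgroup ↥(T d.h) where
  carrier := {g | ∃ c : F, σ c = -c ∧ g.1 = tv d.h u c hu}
  mul_mem' := by
    rintro a b ⟨c, hc, ha⟩ ⟨c', hc', hb⟩
    refine ⟨c + c', by rw [map_add, hc, hc']; ring, ?_⟩
    rw [Subgroup.coe_mul, ha, hb, tv_mul_tv]
  one_mem' := ⟨0, by rw [map_zero, neg_zero], by rw [tv_zero']; rfl⟩
  inv_mem' := by
    rintro a ⟨c, hc, ha⟩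
    refine ⟨-c, by rw [map_neg, hc], ?_⟩
    rw [Subgroup.coe_inv, ha, tv_inv]

theorem mem_Xg (d : UData σ H) (u : V) (hu : H u u = 0) (g : ↥(T d.h)) :
    g ∈ Xg d u hu ↔ ∃ c : F, σ c = -c ∧ g.1 = tv d.h u c hu := Iff.rfl

theorem Xg_le_Qg (d : UData σ H) (u : V) (hu : H u u = 0) : Xg d u hu ≤ Qg d u := by
  rintro g ⟨c, hc, hg⟩
  rw [mem_Qg, hg, ← eich_zero]
  apply isQ_eich
  rw [hc, d.h.zero_left]
  ring

theorem isPGroup_Qg (d : UData σ H) (p : ℕ) [Fact p.Prime] [CharP F p] (u : V) (hu0 : u ≠ 0)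
    (hu : H u u = 0) : IsPGroup p (Qg d u) := by
  obtain ⟨f, hff, huf⟩ := HermFrames.exists_hyp_partner d.hσ d.h d.hnd u hu0 hu
  have hp : HypPair H u f := ⟨hu, hff, huf⟩
  intro g
  refine ⟨2, ?_⟩
  apply Subtype.ext
  apply Subtype.ext
  rw [Subgroup.coe_pow, Subgroup.coe_pow]
  exact isQ_pow d.h p hp g.2

/-- the centre of a Sylow `p`-subgroup of `T` is a transvection group -/
theorem sylow_center (d : UData σ H) (p : ℕ) [Fact p.Prime] [CharP F p] (S : Sylow p ↥(T d.h)) :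
    ∃ (u : V) (hu : H u u = 0), u ≠ 0 ∧ (∀ s ∈ S, (s : V ≃ₗ[F] V) u = u) ∧ Qg d u ≤ S ∧
      ∀ z : ↥(T d.h), (z ∈ S ∧ ∀ s ∈ S, s * z = z * s) ↔ z ∈ Xg d u hu := by
  have hSp : IsPGroup p ((S : Subgroup ↥(T d.h)).map (T d.h).subtype) := S.2.map _
  obtain ⟨u, hu0, hu, hfix⟩ := exists_fixed_isotropic d p _ hSp (by
    rintro _ ⟨s, -, rfl⟩
    exact T_le_isom d.h s.2)
  have hfix' : ∀ s ∈ S, (s : V ≃ₗ[F] V) u = u := fun s hs => hfix _ ⟨s, hs, rfl⟩
  obtain ⟨f, hff, huf⟩ := HermFrames.exists_hyp_partner d.hσ d.h d.hnd u hu0 hu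
  have hp : HypPair H u f := ⟨hu, hff, huf⟩
  have hQS : Qg d u ≤ S := by
    have hnorm : (S : Subgroup ↥(T d.h)) ≤ Subgroup.normalizer (Qg d u : Set ↥(T d.h)) := by
      intro s hs
      rw [Subgroup.mem_normalizer_iff]
      have hconj : ∀ t : ↥(T d.h), (t : V ≃ₗ[F] V) u = u → ∀ g, g ∈ Qg d u →
          t * g * t⁻¹ ∈ Qg d u := by
        intro t ht g hg
        rw [mem_Qg] at hg ⊢
        exact isQ_conj d.h d.hσ2 hg (T_le_isom d.h t.2) one_ne_zero (by rw [one_smul]; exact ht)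
      intro g
      constructor
      · exact hconj s (hfix' s hs) g
      · intro hg
        have hsinv : ((s⁻¹ : ↥(T d.h)) : V ≃ₗ[F] V) u = u := hfix' _ (S.inv_mem hs)
        have := hconj s⁻¹ hsinv _ hg
        have e : s⁻¹ * (s * g * s⁻¹) * s⁻¹⁻¹ = g := by group
        rw [e] at this
        exact this
    have hsup := S.2.to_sup_of_normal_right' (isPGroup_Qg d p u hu0 hu) hnorm
    have := S.is_maximal' hsup le_sup_left
    rw [← this]
    exact le_sup_right
  refine ⟨u, hu, hu0, hfix', hQS, fun z => ⟨?_, ?_⟩⟩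
  · rintro ⟨hzS, hzc⟩
    obtain ⟨r, c, hN, hc, hz⟩ := centralizer_Q d hp (z : V ≃ₗ[F] V) (T_le_isom d.h z.2) (by
      intro w c hw hc
      have hmem : eich d.h u w c hp.uu hw ∈ T d.h := eich_mem_T d u w c hp.uu hw hc
      have hq : (⟨_, hmem⟩ : ↥(T d.h)) ∈ Qg d u := isQ_eich d.h u w c hp.uu hw hc
      have := hzc _ (hQS hq)
      have h2 := congrArg (fun t : ↥(T d.h) => (t : V ≃ₗ[F] V)) this
      exact h2.symm)
    -- `r = 1` since `z` is a `p`-element
    obtain ⟨k, hk⟩ := S.2 ⟨z, hzS⟩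
    have hzk : ((z : V ≃ₗ[F] V) ^ (p ^ k)) u = u := by
      have h1 := congrArg (fun t : ↥(S : Subgroup ↥(T d.h)) => ((t : ↥(T d.h)) : V ≃ₗ[F] V)) hk
      simp only [Subgroup.coe_pow, Subgroup.coe_one] at h1
      rw [h1]
      rfl
    have hzu : ∀ m : ℕ, ((z : V ≃ₗ[F] V) ^ m) u = (r ^ m) • u := by
      intro m
      induction m with
      | zero => rw [pow_zero, pow_zero, one_smul]; rfl
      | succ m ih =>
        rw [pow_succ, LinearEquiv.mul_apply, hz, tv_apply, hu, mul_zero, zero_smul, add_zero,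
          map_smul, ih, smul_smul, pow_succ]
        rw [mul_comm]
    rw [hzu] at hzk
    have hr1 : r ^ (p ^ k) = 1 := by
      have h3 : (r ^ (p ^ k) - 1) • u = 0 := by rw [sub_smul, hzk, one_smul, sub_self]
      rcases smul_eq_zero.1 h3 with h4 | h4
      · linear_combination h4
      · exact absurd h4 hu0
    have hr : r = 1 := by
      haveI : ExpChar F p := ExpChar.prime (Fact.out : p.Prime)
      have := (ExpChar.pow_prime_pow_mul_eq_one_iff p k 1 r).1 (by rw [mul_one]; exact hr1)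
      rw [pow_one] at this
      exact this
    refine ⟨c, hc, ?_⟩
    apply LinearEquiv.ext
    intro x
    rw [hz, hr, one_smul]
  · rintro ⟨c, hc, hz⟩
    have hzX : z ∈ Xg d u hu := ⟨c, hc, hz⟩
    refine ⟨hQS (Xg_le_Qg d u hu hzX), fun s hs => ?_⟩
    apply Subtype.ext
    rw [Subgroup.coe_mul, Subgroup.coe_mul, hz]
    have h1 := conj_tv d.h (T_le_isom d.h s.2) u c hu
    have h2 : tv d.h ((s : V ≃ₗ[F] V) u) c (by rw [T_le_isom d.h s.2, hu]) = tv d.h u c hu := by
      apply LinearEquiv.ext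
      intro x
      rw [tv_apply, tv_apply, hfix' s hs]
    rw [h2] at h1
    calc (s : V ≃ₗ[F] V) * tv d.h u c hu
        = ((s : V ≃ₗ[F] V) * tv d.h u c hu * (s : V ≃ₗ[F] V)⁻¹) * (s : V ≃ₗ[F] V) := by group
      _ = tv d.h u c hu * (s : V ≃ₗ[F] V) := by rw [h1]

end groups

end Cfsg.Agent.Lib.Helper5.UAut
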