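import Mathlib
import Cfsg.Agent.Lib.Helper5.UAut4

set_option autoImplicit false

/-! Basic facts on the groups `X_u` and `Q_u` inside `T`. -/

namespace Cfsg.Agent.Lib.Helper5.UAut

open Module Cfsg.Agent.Lib.Helper2 Cfsg.Agent.Lib.Helper2.UT Cfsg.Agent.Lib.Helper2.IsomDecomp
  Cfsg.Agent.Lib.Helper5.PSLCoset

universe u v

section
variable {F : Type v} [Field F] {σ : F ≃+* F} {V : Type u} [AddCommGroup V] [Module F V]
  {H : V → V → F}

/-- a scalar of `p`-power order is trivial -/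
theorem scalar_eq_one (p : ℕ) [Fact p.Prime] [CharP F p] {a : F} {k : ℕ}
    (ha : a ^ (p ^ k) = 1) : a = 1 := by
  have h1 : (a - 1) ^ (p ^ k) = 0 := by
    rw [sub_pow_char_pow, ha, one_pow, sub_self]
  exact sub_eq_zero.1 (pow_eq_zero_iff (pow_ne_zero k (Fact.out : p.Prime).ne_zero) |>.1 h1)

theorem iso_smul' (h : IsHerm σ H) {u : V} (hu : H u u = 0) (a : F) : H (a • u) (a • u) = 0 := by
  rw [h.smul_left, h.smul_right, hu, mul_zero, mul_zero]

theorem tv_smul (h : IsHerm σ H) (u : V) (a c : F) (hu : H u u = 0) :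
    tv h (a • u) c (iso_smul' h hu a) = tv h u (a * σ a * c) hu := by
  apply LinearEquiv.ext
  intro x
  rw [tv_apply, tv_apply, h.smul_right, smul_smul]
  congr 1
  ring

theorem tv_eq_one_iff (h : IsHerm σ H) (hnd : ∀ v, (∀ w, H v w = 0) → v = 0) (u : V) (c : F)
    (hu : H u u = 0) (hu0 : u ≠ 0) : tv h u c hu = 1 ↔ c = 0 := by
  constructor
  · intro h1
    by_contra hc
    apply hu0
    apply hnd
    intro w
    have h2 : tv h u c hu w = w := by rw [h1]; rfl
    rw [tv_apply, add_eq_left, smul_eq_zero] at h2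
    rcases h2 with h2 | h2
    · rcases mul_eq_zero.1 h2 with h3 | h3
      · exact absurd h3 hc
      · rw [h.symm w u, h3, map_zero]
    · exact absurd h2 hu0
  · rintro rfl
    apply LinearEquiv.ext
    intro x
    rw [tv_apply, zero_mul, zero_smul, add_zero]
    rfl

/-- equal transvections have proportional centres -/
theorem tv_eq_tv (h : IsHerm σ H) (hnd : ∀ v, (∀ w, H v w = 0) → v = 0) {u v : V} {c c' : F}
    (hu : H u u = 0) (hv : H v v = 0) (hu0 : u ≠ 0) (hc : c ≠ 0)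
    (he : tv h u c hu = tv h v c' hv) : ∃ a : F, u = a • v := by
  obtain ⟨w, hw⟩ : ∃ w, H u w ≠ 0 := by
    by_contra hcon
    push Not at hcon
    exact hu0 (hnd u hcon)
  have hwu : H w u ≠ 0 := by
    rw [h.symm u w]
    exact (map_ne_zero_iff _ σ.injective).2 hw
  have h1 : tv h u c hu w = tv h v c' hv w := by rw [he]
  rw [tv_apply, tv_apply, add_right_inj] at h1
  refine ⟨(c * H w u)⁻¹ * (c' * H w v), ?_⟩
  rw [← smul_smul, ← h1, smul_smul, inv_mul_cancel₀ (mul_ne_zero hc hwu), one_smul]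

end

section
variable {F : Type v} [Field F] [Fintype F] {σ : F ≃+* F} {V : Type u} [AddCommGroup V]
  [Module F V] [FiniteDimensional F V] {H : V → V → F}

theorem Xg_smul (d : UData σ H) (u : V) (hu : H u u = 0) (a : F) (ha : a ≠ 0) :
    Xg d (a • u) (iso_smul' d.h hu a) = Xg d u hu := by
  have hσa : σ a ≠ 0 := (map_ne_zero_iff _ σ.injective).2 ha
  ext g
  rw [mem_Xg, mem_Xg]
  constructor
  · rintro ⟨c, hc, hg⟩
    refine ⟨a * σ a * c, ?_, ?_⟩
    · rw [map_mul, map_mul, d.hσ2, hc]; ring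
    · rw [hg, tv_smul]
  · rintro ⟨c, hc, hg⟩
    refine ⟨(a * σ a)⁻¹ * c, ?_, ?_⟩
    · rw [map_mul, map_inv₀, map_mul, d.hσ2, hc, mul_comm (σ a) a]; ring
    · rw [hg, tv_smul, ← mul_assoc, mul_inv_cancel₀ (mul_ne_zero ha hσa), one_mul]

theorem isQ_smul_iff (h : IsHerm σ H) (u : V) (a : F) (ha : a ≠ 0) (g : V ≃ₗ[F] V) :
    IsQ H (a • u) g ↔ IsQ H u g := by
  have hσa : σ a ≠ 0 := (map_ne_zero_iff _ σ.injective).2 ha
  constructor
  · rintro ⟨h1, h2, h3⟩
    refine ⟨h1, ?_, fun x hx => ?_⟩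
    · rw [map_smul] at h2
      exact smul_right_injective V ha h2
    · obtain ⟨b, hb⟩ := h3 x (by rw [h.smul_right, hx, mul_zero])
      exact ⟨b * a, by rw [hb, smul_smul]⟩
  · rintro ⟨h1, h2, h3⟩
    refine ⟨h1, ?_, fun x hx => ?_⟩
    · rw [map_smul, h2]
    · rw [h.smul_right] at hx
      obtain ⟨b, hb⟩ := h3 x ((mul_eq_zero.1 hx).resolve_left hσa)
      exact ⟨b * a⁻¹, by rw [hb, smul_smul, mul_assoc, inv_mul_cancel₀ ha, mul_one]⟩

theorem Qg_smul (d : UData σ H) (u : V) (a : F) (ha : a ≠ 0) : Qg d (a • u) = Qg d u := by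
  ext g
  rw [mem_Qg, mem_Qg, isQ_smul_iff d.h u a ha]

/-- conjugation by an element stabilizing the point preserves `Q_u` -/
theorem Qg_conj (d : UData σ H) {u : V} {m g : ↥(T d.h)} {r : F} (hr : r ≠ 0)
    (hmu : (m : V ≃ₗ[F] V) u = r • u) (hg : g ∈ Qg d u) : m * g * m⁻¹ ∈ Qg d u := by
  rw [mem_Qg] at hg ⊢
  exact isQ_conj d.h d.hσ2 hg (T_le_isom d.h m.2) hr hmu

/-- the vectors fixed by `Q_u` -/
theorem Qg_fix (d : UData σ H) {u f : V} (hp : HypPair H u f) (x : V)
    (hx : ∀ g ∈ Qg d u, (g : V ≃ₗ[F] V) x = x) : x = H x f • u := by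
  have hu0 := hyp_u_ne_zero d.h hp
  obtain ⟨μ, hμ0, hμ⟩ := exists_skew d.hσ
  -- `x` is orthogonal to `u`
  have hxu : H x u = 0 := by
    have h1 := hx ⟨tv d.h u μ hp.uu, tv_mem_T d.h u μ hp.uu hμ⟩
      (Xg_le_Qg d u hp.uu ⟨μ, hμ, rfl⟩)
    change tv d.h u μ hp.uu x = x at h1
    rw [tv_apply, add_eq_left, smul_eq_zero] at h1
    rcases h1 with h1 | h1
    · exact (mul_eq_zero.1 h1).resolve_left hμ0
    · exact absurd h1 hu0
  obtain ⟨y, hyu, hyf, hxy⟩ := hyp_decomp d.h hp x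
  have hy0 : y = 0 := by
    apply d.nd'
    intro w
    obtain ⟨w', hw'u, hw'f, hww'⟩ := hyp_decomp d.h hp w
    obtain ⟨c, hc⟩ := exists_skew_c d w'
    have h1 := hx ⟨eich d.h u w' c hp.uu hw'u, eich_mem_T d u w' c hp.uu hw'u hc⟩
      (isQ_eich d.h u w' c hp.uu hw'u hc)
    change eich d.h u w' c hp.uu hw'u x = x at h1
    rw [eich_apply, hxu, zero_smul, mul_zero, zero_smul, add_zero, add_zero, sub_eq_self,
      smul_eq_zero] at h1
    have h2 : H x w' = 0 := h1.resolve_right hu0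
    have huy : H u y = 0 := by rw [d.h.symm y u, hyu, map_zero]
    have hfy : H f y = 0 := by rw [d.h.symm y f, hyf, map_zero]
    have huw' : H u w' = 0 := by rw [d.h.symm w' u, hw'u, map_zero]
    have hfw' : H f w' = 0 := by rw [d.h.symm w' f, hw'f, map_zero]
    have h3 : H y w' = 0 := by
      rw [hxy, hxu, zero_smul, add_zero, d.h.add_left, d.h.smul_left, huw', mul_zero,
        zero_add] at h2
      exact h2
    have h4 : H w' y = 0 := by rw [d.h.symm y w', h3, map_zero]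
    rw [hww', d.h.add_left, d.h.add_left, d.h.smul_left, d.h.smul_left, huy, hfy, h4]
    ring
  rw [hy0, hxu, zero_smul, add_zero, add_zero] at hxy
  exact hxy

/-- `Q_u` is transitive on the hyperbolic partners of `u` -/
theorem exists_Qg_map (d : UData σ H) {u f f' : V} (hp : HypPair H u f) (hp' : HypPair H u f') :
    ∃ g ∈ Qg d u, (g : V ≃ₗ[F] V) f = f' := by
  obtain ⟨y, hyu, hyf, hy⟩ := hyp_decomp d.h hp f'
  have hf'u : H f' u = 1 := hp'.vu d.h
  obtain ⟨c, hc⟩ : ∃ c, c = H f' f := ⟨_, rfl⟩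
  have hfy : H f y = 0 := by rw [d.h.symm y f, hyf, map_zero]
  have huy : H u y = 0 := by rw [d.h.symm y u, hyu, map_zero]
  have hcc : c + σ c + H y y = 0 := by
    have h1 := hp'.vv
    rw [hy, hf'u, one_smul, ← hc] at h1
    simp only [d.h.add_left, d.h.add_right, d.h.smul_left, d.h.smul_right, hp.uu, hp.vv, hp.uv,
      hp.vu d.h, hyu, hyf, hfy, huy] at h1
    linear_combination h1
  refine ⟨⟨eich d.h u y c hp.uu hyu, eich_mem_T d u y c hp.uu hyu hcc⟩,
    isQ_eich d.h u y c hp.uu hyu hcc, ?_⟩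
  change eich d.h u y c hp.uu hyu f = f'
  rw [eich_apply_f d.h hp, hfy, zero_smul, sub_zero]
  conv_rhs => rw [hy, hf'u, one_smul, ← hc]
  abel

/-- every isotropic point is the centre of a Sylow `p`-subgroup -/
theorem exists_sylow_center (d : UData σ H) (p : ℕ) [Fact p.Prime] [CharP F p] (u : V)
    (hu : H u u = 0) (hu0 : u ≠ 0) :
    ∃ S : Sylow p ↥(T d.h), (∀ s ∈ S, (s : V ≃ₗ[F] V) u = u) ∧ Qg d u ≤ S ∧
      ∀ z : ↥(T d.h), (z ∈ S ∧ ∀ s ∈ S, s * z = z * s) ↔ z ∈ Xg d u hu := by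
  obtain ⟨S, hS⟩ := (isPGroup_Qg d p u hu0 hu).exists_le_sylow
  obtain ⟨u', hu', hu'0, hfix, hQ, hcen⟩ := sylow_center d p S
  obtain ⟨f, hff, huf⟩ := HermFrames.exists_hyp_partner d.hσ d.h d.hnd u hu0 hu
  have hp : HypPair H u f := ⟨hu, hff, huf⟩
  obtain ⟨a, ha⟩ : ∃ a : F, u' = a • u :=
    ⟨_, Qg_fix d hp u' (fun g hg => hfix g (hS hg))⟩
  subst ha
  have ha0 : a ≠ 0 := by
    rintro rfl
    exact hu'0 (zero_smul F u)
  refine ⟨S, fun s hs => ?_, hS, fun z => ?_⟩
  · have := hfix s hs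
    rw [map_smul] at this
    exact smul_right_injective V ha0 this
  · rw [hcen z, Xg_smul d u hu a ha0]

/-- commuting transvections have perpendicular centres -/
theorem perp_of_tv_comm (d : UData σ H) {u v : V} (hu : H u u = 0) (hv : H v v = 0)
    (hv0 : v ≠ 0) {c c' : F} (hc : c ≠ 0) (hc' : c' ≠ 0)
    (hcomm : tv d.h u c hu * tv d.h v c' hv = tv d.h v c' hv * tv d.h u c hu) :
    H u v = 0 := by
  by_contra hne
  have hvu : H v u ≠ 0 := by
    rw [d.h.symm u v]
    exact (map_ne_zero_iff _ σ.injective).2 hne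
  have h1 : tv d.h u c hu (tv d.h v c' hv u) = tv d.h v c' hv (tv d.h u c hu u) := by
    rw [← LinearEquiv.mul_apply, ← LinearEquiv.mul_apply, hcomm]
  rw [tv_apply d.h u c hu u, hu, mul_zero, zero_smul, add_zero, tv_apply d.h v, map_add, map_smul,
    tv_apply d.h u c hu u, hu, mul_zero, zero_smul, add_zero, add_right_inj, tv_apply] at h1
  have h2 : (c' * H u v) • ((c * H v u) • u) = 0 := by
    have := h1
    rw [smul_add, add_eq_left] at this
    exact this
  rw [smul_smul, smul_eq_zero] at h2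
  rcases h2 with h2 | h2
  · exact (mul_ne_zero (mul_ne_zero hc' hne) (mul_ne_zero hc hvu)) h2
  · rw [h2, d.h.zero_left] at hne
    exact hne rfl

theorem tv_comm_of_perp (h : IsHerm σ H) {u v : V} (hu : H u u = 0) (hv : H v v = 0)
    (huv : H u v = 0) (c c' : F) :
    tv h u c hu * tv h v c' hv = tv h v c' hv * tv h u c hu := by
  have hvu : H v u = 0 := by rw [h.symm u v, huv, map_zero]
  apply LinearEquiv.ext
  intro x
  rw [LinearEquiv.mul_apply, LinearEquiv.mul_apply, tv_apply, tv_apply, tv_apply, tv_apply,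
    h.add_left, h.add_left, h.smul_left, h.smul_left, huv, hvu]
  module

end

end Cfsg.Agent.Lib.Helper5.UAut
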