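import Mathlib
import Cfsg.Agent.Lib.Helper5.UAut5

set_option autoImplicit false

/-! Irreducibility and the largest normal `p`-subgroup of a point stabilizer. -/

namespace Cfsg.Agent.Lib.Helper5.UAut

open Module Cfsg.Agent.Lib.Helper2 Cfsg.Agent.Lib.Helper2.UT Cfsg.Agent.Lib.Helper2.IsomDecomp
  Cfsg.Agent.Lib.Helper2.HermDecomp Cfsg.Agent.Lib.Helper5.PSLCoset

universe u v

section
variable {F : Type v} [Field F] [Finite F] {σ : F ≃+* F} {V : Type u} [AddCommGroup V]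
  [Module F V] [FiniteDimensional F V] {H : V → V → F}

/-- an isotropic vector not perpendicular to a given nonzero vector -/
theorem exists_iso_nonperp (hσ : orderOf σ = 2) (h : IsHerm σ H)
    (hnd : ∀ v, (∀ w, H v w = 0) → v = 0) (hdim : 2 ≤ finrank F V) {x : V} (hx : x ≠ 0) :
    ∃ v, H v v = 0 ∧ H v x ≠ 0 := by
  obtain ⟨a, b, hp⟩ := exists_hypPair hσ h hnd hdim
  by_cases hax : H a x = 0
  · obtain ⟨c, hcc, -, hcx⟩ := exists_bridge hσ h hnd hp.uu (hyp_u_ne_zero h hp) hx hax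
    exact ⟨c, hcc, hcx⟩
  · exact ⟨a, hp.uu, hax⟩

/-- the isotropic vectors span the space -/
theorem span_iso (hσ : orderOf σ = 2) (h : IsHerm σ H)
    (hnd : ∀ v, (∀ w, H v w = 0) → v = 0) (hdim : 2 ≤ finrank F V) :
    Submodule.span F {v : V | H v v = 0} = ⊤ := by
  obtain ⟨a, b, hp⟩ := exists_hypPair hσ h hnd hdim
  rw [eq_top_iff]
  intro y _
  obtain ⟨y', hya, hyb, hy⟩ := hyp_decomp h hp y
  obtain ⟨t, ht⟩ := WittHerm.exists_trace hσ (-(H y' y'))
    (by rw [map_neg, WittHerm.self_fixed h])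
  have hay : H a y' = 0 := by rw [h.symm y' a, hya, map_zero]
  have hby : H b y' = 0 := by rw [h.symm y' b, hyb, map_zero]
  have hz : H (y' + t • a + b) (y' + t • a + b) = 0 := by
    simp only [h.add_left, h.add_right, h.smul_left, h.smul_right, hp.uu, hp.vv, hp.uv,
      hp.vu h, hya, hyb, hay, hby]
    linear_combination ht
  have ha : a ∈ Submodule.span F {v : V | H v v = 0} := Submodule.subset_span hp.uu
  have hb : b ∈ Submodule.span F {v : V | H v v = 0} := Submodule.subset_span hp.vv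
  have hz' : y' + t • a + b ∈ Submodule.span F {v : V | H v v = 0} := Submodule.subset_span hz
  have hy' : y' ∈ Submodule.span F {v : V | H v v = 0} := by
    have : y' = (y' + t • a + b) - t • a - b := by abel
    rw [this]
    exact Submodule.sub_mem _ (Submodule.sub_mem _ hz' (Submodule.smul_mem _ _ ha)) hb
  rw [hy]
  exact Submodule.add_mem _ (Submodule.add_mem _ (Submodule.smul_mem _ _ ha)
    (Submodule.smul_mem _ _ hb)) hy'

/-- irreducibility under the transvections -/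
theorem irr_tv (hσ : orderOf σ = 2) (h : IsHerm σ H)
    (hnd : ∀ v, (∀ w, H v w = 0) → v = 0) (hdim : 1 ≤ finrank F V) (U : Submodule F V)
    (hU : U ≠ ⊥)
    (hinv : ∀ (v : V) (c : F) (hv : H v v = 0), σ c = -c → ∀ x ∈ U, tv h v c hv x ∈ U) :
    U = ⊤ := by
  by_cases hd1 : finrank F V = 1
  · apply Submodule.eq_top_of_finrank_eq
    have h1 : finrank F U ≤ finrank F V := Submodule.finrank_le U
    have h2 : 0 < finrank F U := by
      rw [Module.finrank_pos_iff_exists_ne_zero]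
      obtain ⟨x, hx, hx0⟩ := (Submodule.ne_bot_iff U).1 hU
      exact ⟨⟨x, hx⟩, fun h0 => hx0 (congrArg Subtype.val h0)⟩
    omega
  have hdim2 : 2 ≤ finrank F V := by omega
  obtain ⟨x, hxU, hx0⟩ := (Submodule.ne_bot_iff U).1 hU
  obtain ⟨μ, hμ0, hμ⟩ := exists_skew hσ
  -- a vector of `U` not perpendicular to the isotropic `v` forces `v ∈ U`
  have key : ∀ (y v : V), y ∈ U → H v v = 0 → H y v ≠ 0 → v ∈ U := by
    intro y v hy hv hyv
    have h1 := hinv v μ hv hμ y hy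
    rw [tv_apply] at h1
    have h2 : (μ * H y v) • v ∈ U := by
      have := U.sub_mem h1 hy
      rwa [add_sub_cancel_left] at this
    have h3 := U.smul_mem (μ * H y v)⁻¹ h2
    rwa [smul_smul, inv_mul_cancel₀ (mul_ne_zero hμ0 hyv), one_smul] at h3
  obtain ⟨v, hvv, hvx⟩ := exists_iso_nonperp hσ h hnd hdim2 hx0
  have hxv : H x v ≠ 0 := by
    rw [h.symm v x]
    exact (map_ne_zero_iff _ σ.injective).2 hvx
  have hvU : v ∈ U := key x v hxU hvv hxv
  have hv0 : v ≠ 0 := by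
    rintro rfl
    exact hvx (h.zero_left x)
  rw [eq_top_iff, ← span_iso hσ h hnd hdim2, Submodule.span_le]
  intro v' hv'
  have hv'v' : H v' v' = 0 := hv'
  by_cases hv'0 : v' = 0
  · rw [hv'0]; exact U.zero_mem
  by_cases hvv' : H v v' = 0
  · obtain ⟨c, hcc, hvc, hcv'⟩ := exists_bridge hσ h hnd hvv hv0 hv'0 hvv'
    exact key c v' (key v c hvU hcc hvc) hv'v' hcv'
  · exact key v v' hvU hv'v' hvv'

/-- the orthogonal complement of a hyperbolic pair -/
def Wsub (h : IsHerm σ H) (u f : V) : Submodule F V :=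
  orthoCompl h (Submodule.span F (Set.range ![u, f]))

omit [Finite F] [FiniteDimensional F V] in
theorem mem_Wsub (h : IsHerm σ H) (u f x : V) : x ∈ Wsub h u f ↔ H x u = 0 ∧ H x f = 0 := by
  unfold Wsub
  rw [mem_orthoCompl]
  constructor
  · intro hx
    have h1 := hx u (Submodule.subset_span ⟨0, rfl⟩)
    have h2 := hx f (Submodule.subset_span ⟨1, rfl⟩)
    rw [h.symm u x, h1, map_zero, h.symm f x, h2, map_zero]
    exact ⟨rfl, rfl⟩
  · rintro ⟨h1, h2⟩ w hw
    have key : ∀ i, H (![u, f] i) x = 0 := by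
      intro i
      fin_cases i
      · show H u x = 0
        rw [h.symm x u, h1, map_zero]
      · show H f x = 0
        rw [h.symm x f, h2, map_zero]
    exact HermFrames.ortho_span h ![u, f] _ key w hw

omit [Finite F] [FiniteDimensional F V] in
theorem span_pair_nondeg (h : IsHerm σ H) {u f : V} (hp : HypPair H u f) :
    ∀ x ∈ Submodule.span F (Set.range ![u, f]),
      (∀ y ∈ Submodule.span F (Set.range ![u, f]), H x y = 0) → x = 0 := by
  intro x hx hxy
  have h1 := hxy u (Submodule.subset_span ⟨0, rfl⟩)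
  have h2 := hxy f (Submodule.subset_span ⟨1, rfl⟩)
  have hr : Set.range ![u, f] = {u, f} := by
    ext z
    simp only [Set.mem_range, Set.mem_insert_iff, Set.mem_singleton_iff]
    constructor
    · rintro ⟨i, rfl⟩
      fin_cases i
      · left; rfl
      · right; rfl
    · rintro (rfl | rfl)
      · exact ⟨0, rfl⟩
      · exact ⟨1, rfl⟩
  rw [hr] at hx
  obtain ⟨a, b, rfl⟩ := Submodule.mem_span_pair.1 hx
  rw [h.add_left, h.smul_left, h.smul_left, hp.uu, hp.vu h, mul_zero, zero_add, mul_one] at h1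
  rw [h.add_left, h.smul_left, h.smul_left, hp.uv, hp.vv, mul_zero, add_zero, mul_one] at h2
  rw [h1, h2, zero_smul, zero_smul, add_zero]

theorem Wsub_decomp (hσ : orderOf σ = 2) (h : IsHerm σ H)
    (hnd : ∀ v, (∀ w, H v w = 0) → v = 0) {u f : V} (hp : HypPair H u f) :
    OrthoDecomp H (Wsub h u f) (Submodule.span F (Set.range ![u, f])) :=
  orthoDecomp_swap hσ h hnd _ (orthoDecomp hσ h _ (span_pair_nondeg h hp))

theorem Wsub_nondeg (hσ : orderOf σ = 2) (h : IsHerm σ H)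
    (hnd : ∀ v, (∀ w, H v w = 0) → v = 0) {u f : V} (hp : HypPair H u f) :
    ∀ v : ↥(Wsub h u f), (∀ w : ↥(Wsub h u f), res H (Wsub h u f) v w = 0) → v = 0 :=
  nondeg_res (nondeg_orthoCompl h _ (orthoDecomp hσ h _ (span_pair_nondeg h hp)) hnd)

theorem finrank_Wsub (hσ : orderOf σ = 2) (h : IsHerm σ H)
    (hnd : ∀ v, (∀ w, H v w = 0) → v = 0) {u f : V} (hp : HypPair H u f) :
    finrank F ↥(Wsub h u f) + 2 = finrank F V := by
  have h1 := HermFrames.finrank_orthoCompl hσ h hnd (Submodule.span F (Set.range ![u, f]))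
  have h2 : finrank F ↥(Submodule.span F (Set.range ![u, f])) = 2 := by
    rw [finrank_span_eq_card (hp.linearIndependent h), Fintype.card_fin]
  unfold Wsub
  omega

end

section
variable {F : Type v} [Field F] [Fintype F] {σ : F ≃+* F} {V : Type u} [AddCommGroup V]
  [Module F V] [FiniteDimensional F V] {H : V → V → F}

/-- the pointwise stabilizer of a hyperbolic pair in `T` -/
def L1 (d : UData σ H) (u f : V) : Subgroup ↥(T d.h) where
  carrier := {m | (m : V ≃ₗ[F] V) u = u ∧ (m : V ≃ₗ[F] V) f = f}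
  mul_mem' := by
    rintro a b ⟨ha1, ha2⟩ ⟨hb1, hb2⟩
    refine ⟨?_, ?_⟩
    · rw [Subgroup.coe_mul, LinearEquiv.mul_apply, hb1, ha1]
    · rw [Subgroup.coe_mul, LinearEquiv.mul_apply, hb2, ha2]
  one_mem' := ⟨rfl, rfl⟩
  inv_mem' := by
    rintro a ⟨ha1, ha2⟩
    refine ⟨?_, ?_⟩
    · rw [Subgroup.coe_inv]
      nth_rewrite 1 [← ha1]
      rw [← LinearEquiv.mul_apply, inv_mul_cancel]
      rfl
    · rw [Subgroup.coe_inv]
      nth_rewrite 1 [← ha2]
      rw [← LinearEquiv.mul_apply, inv_mul_cancel]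
      rfl

theorem mem_L1 (d : UData σ H) (u f : V) (m : ↥(T d.h)) :
    m ∈ L1 d u f ↔ (m : V ≃ₗ[F] V) u = u ∧ (m : V ≃ₗ[F] V) f = f := Iff.rfl

/-- elements of `L1` preserve the complement `W` -/
theorem L1_map_W (d : UData σ H) {u f : V} {m : ↥(T d.h)} (hm : m ∈ L1 d u f) {x : V}
    (hx : x ∈ Wsub d.h u f) : (m : V ≃ₗ[F] V) x ∈ Wsub d.h u f := by
  rw [mem_Wsub] at hx ⊢
  have hiso := T_le_isom d.h m.2
  constructor
  · calc H ((m : V ≃ₗ[F] V) x) u = H ((m : V ≃ₗ[F] V) x) ((m : V ≃ₗ[F] V) u) := by rw [hm.1]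
      _ = 0 := by rw [hiso, hx.1]
  · calc H ((m : V ≃ₗ[F] V) x) f = H ((m : V ≃ₗ[F] V) x) ((m : V ≃ₗ[F] V) f) := by rw [hm.2]
      _ = 0 := by rw [hiso, hx.2]

/-- an element fixing `u`, `f` and their complement is trivial -/
theorem eq_one_of_fix (d : UData σ H) {u f : V} (hp : HypPair H u f) {l : V ≃ₗ[F] V}
    (hu : l u = u) (hf : l f = f) (hW : ∀ x ∈ Wsub d.h u f, l x = x) : l = 1 := by
  apply LinearEquiv.ext
  intro x
  obtain ⟨y, hyu, hyf, hy⟩ := hyp_decomp d.h hp x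
  have hyW : y ∈ Wsub d.h u f := (mem_Wsub d.h u f y).2 ⟨hyu, hyf⟩
  conv_lhs => rw [hy]
  rw [map_add, map_add, map_smul, map_smul, hu, hf, hW y hyW]
  exact hy.symm

/-- a normal `p`-subgroup of the stabilizer of an isotropic point lies in `Q_u` -/
theorem Op_le (d : UData σ H) (p : ℕ) [Fact p.Prime] [CharP F p] {u f : V} (hp : HypPair H u f)
    (R : Subgroup ↥(T d.h)) (hR : IsPGroup p R) (hQR : Qg d u ≤ R)
    (hfix : ∀ r ∈ R, (r : V ≃ₗ[F] V) u = u)
    (hnorm : ∀ m ∈ L1 d u f, ∀ r ∈ R, m * r * m⁻¹ ∈ R) : R ≤ Qg d u := by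
  -- the `p`-group acting on `W`
  let R₁ : Subgroup ↥(T d.h) := R ⊓ L1 d u f
  let S : Subgroup (V ≃ₗ[F] V) := R₁.map (T d.h).subtype
  have hS : IsPGroup p S := (hR.to_le inf_le_left).map _
  have hSmem : ∀ l : ↥(T d.h), l ∈ R₁ → (l : V ≃ₗ[F] V) ∈ S := fun l hl => ⟨l, hl, rfl⟩
  have hW : ∀ s ∈ S, ∀ x ∈ Wsub d.h u f, s x ∈ Wsub d.h u f := by
    rintro _ ⟨m, hm, rfl⟩ x hx
    exact L1_map_W d hm.2 hx
  have hfr := finrank_Wsub d.hσ d.h d.hnd hp
  have hdim := d.hdim
  have hne : Wsub d.h u f ≠ ⊥ := by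
    intro h0
    rw [h0, finrank_bot] at hfr
    omega
  obtain ⟨x₀, hx₀W, hx₀0, hx₀⟩ := exists_fixed_in p S hS (Wsub d.h u f) hW hne
  let U : Submodule F V :=
    { carrier := {x | x ∈ Wsub d.h u f ∧ ∀ s ∈ S, s x = x}
      add_mem' := by
        rintro a b ⟨ha, ha'⟩ ⟨hb, hb'⟩
        exact ⟨Submodule.add_mem _ ha hb, fun s hs => by rw [map_add, ha' s hs, hb' s hs]⟩
      zero_mem' := ⟨Submodule.zero_mem _, fun s _ => map_zero s⟩
      smul_mem' := by
        rintro c a ⟨ha, ha'⟩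
        exact ⟨Submodule.smul_mem _ c ha, fun s hs => by rw [map_smul, ha' s hs]⟩ }
  have hUtop : U.comap (Wsub d.h u f).subtype = ⊤ := by
    apply irr_tv d.hσ (isHerm_restrict d.h (Wsub d.h u f)) (Wsub_nondeg d.hσ d.h d.hnd hp)
      (by omega)
    · intro h0
      have h1 : (⟨x₀, hx₀W⟩ : ↥(Wsub d.h u f)) ∈ U.comap (Wsub d.h u f).subtype :=
        ⟨hx₀W, hx₀⟩
      rw [h0, Submodule.mem_bot] at h1
      exact hx₀0 (congrArg Subtype.val h1)
    · intro w c hw hc x hx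
      have hw' : H (w : V) (w : V) = 0 := hw
      have hwW := (mem_Wsub d.h u f _).1 w.2
      have huw : H u (w : V) = 0 := by rw [d.h.symm _ u, hwW.1, map_zero]
      have hfw : H f (w : V) = 0 := by rw [d.h.symm _ f, hwW.2, map_zero]
      let m : ↥(T d.h) := ⟨tv d.h (w : V) c hw', tv_mem_T d.h _ c hw' hc⟩
      have hm : m ∈ L1 d u f := by
        constructor
        · show tv d.h (w : V) c hw' u = u
          rw [tv_apply, huw, mul_zero, zero_smul, add_zero]
        · show tv d.h (w : V) c hw' f = f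
          rw [tv_apply, hfw, mul_zero, zero_smul, add_zero]
      have hcoe : ((tv (isHerm_restrict d.h (Wsub d.h u f)) w c hw x : ↥(Wsub d.h u f)) : V)
          = (m : V ≃ₗ[F] V) (x : V) := by
        show _ = tv d.h (w : V) c hw' (x : V)
        rw [tv_apply, tv_apply]
        rfl
      show ((tv (isHerm_restrict d.h (Wsub d.h u f)) w c hw x : ↥(Wsub d.h u f)) : V) ∈ U
      rw [hcoe]
      have hxU : (x : V) ∈ U := hx
      refine ⟨L1_map_W d hm hxU.1, ?_⟩
      rintro _ ⟨s, hs, rfl⟩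
      have h1 : m⁻¹ * s * m ∈ R₁ := by
        constructor
        · have := hnorm m⁻¹ ((L1 d u f).inv_mem hm) s hs.1
          rwa [inv_inv] at this
        · exact (L1 d u f).mul_mem ((L1 d u f).mul_mem ((L1 d u f).inv_mem hm) hs.2) hm
      have h2 := hxU.2 _ (hSmem _ h1)
      have h3 : (s : V ≃ₗ[F] V) ((m : V ≃ₗ[F] V) (x : V))
          = (m : V ≃ₗ[F] V) (((m⁻¹ * s * m : ↥(T d.h)) : V ≃ₗ[F] V) (x : V)) := by
        rw [← LinearEquiv.mul_apply, ← LinearEquiv.mul_apply,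
          ← Subgroup.coe_mul, ← Subgroup.coe_mul]
        congr 2
        group
      show (s : V ≃ₗ[F] V) ((m : V ≃ₗ[F] V) (x : V)) = (m : V ≃ₗ[F] V) (x : V)
      rw [h3, h2]
  intro r hr
  have hru := hfix r hr
  have hiso := T_le_isom d.h r.2
  have hp' : HypPair H u ((r : V ≃ₗ[F] V) f) := by
    refine ⟨hp.uu, by rw [hiso, hp.vv], ?_⟩
    calc H u ((r : V ≃ₗ[F] V) f) = H ((r : V ≃ₗ[F] V) u) ((r : V ≃ₗ[F] V) f) := by rw [hru]
      _ = 1 := by rw [hiso, hp.uv]
  obtain ⟨q, hq, hqf⟩ := exists_Qg_map d hp hp'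
  have hqu : (q : V ≃ₗ[F] V) u = u := hq.2.1
  have hl : q⁻¹ * r ∈ R₁ := by
    refine ⟨R.mul_mem (R.inv_mem (hQR hq)) hr, ?_, ?_⟩
    · rw [Subgroup.coe_mul, LinearEquiv.mul_apply, hru, Subgroup.coe_inv]
      nth_rewrite 1 [← hqu]
      rw [← LinearEquiv.mul_apply, inv_mul_cancel]
      rfl
    · rw [Subgroup.coe_mul, LinearEquiv.mul_apply, ← hqf, Subgroup.coe_inv,
        ← LinearEquiv.mul_apply, inv_mul_cancel]
      rfl
  have h1 : ((q⁻¹ * r : ↥(T d.h)) : V ≃ₗ[F] V) = 1 := by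
    apply eq_one_of_fix d hp hl.2.1 hl.2.2
    intro x hx
    have hxU : (⟨x, hx⟩ : ↥(Wsub d.h u f)) ∈ U.comap (Wsub d.h u f).subtype := by
      rw [hUtop]; trivial
    exact hxU.2 _ (hSmem _ hl)
  have h2 : q⁻¹ * r = 1 := Subtype.ext h1
  have h3 : r = q := by
    have := congrArg (fun z => q * z) h2
    simpa using this
  rw [h3]
  exact hq

end

end Cfsg.Agent.Lib.Helper5.UAut
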