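import Mathlib
import Cfsg.Agent.Lib.Helper5.UAut6

set_option autoImplicit false

/-! The quotient of `T` by its scalars: transvection groups as centres of Sylow subgroups. -/

namespace Cfsg.Agent.Lib.Helper5.UAut

open Module Cfsg.Agent.Lib.Helper2 Cfsg.Agent.Lib.Helper2.UT Cfsg.Agent.Lib.Helper2.IsomDecomp
  Cfsg.Agent.Lib.Helper2.HermDecomp Cfsg.Agent.Lib.Helper5.PSLCoset

universe u v w

section
variable {F : Type v} [Field F] [Fintype F] {σ : F ≃+* F} {V : Type u} [AddCommGroup V]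
  [Module F V] [FiniteDimensional F V] {H : V → V → F} {𝔗 : Type w} [Group 𝔗]

/-- a surjection from `T` whose kernel consists of the scalars -/
structure QMap (d : UData σ H) (ρ : ↥(T d.h) →* 𝔗) : Prop where
  surj : Function.Surjective ρ
  ker : ∀ g : ↥(T d.h), ρ g = 1 ↔ ∃ a : F, ∀ x, (g : V ≃ₗ[F] V) x = a • x

variable {d : UData σ H} {ρ : ↥(T d.h) →* 𝔗}

theorem QMap.eq_iff (q : QMap d ρ) (g g' : ↥(T d.h)) :
    ρ g = ρ g' ↔ ∃ a : F, ∀ x, (g : V ≃ₗ[F] V) x = a • (g' : V ≃ₗ[F] V) x := by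
  have h1 : ρ g = ρ g' ↔ ρ (g'⁻¹ * g) = 1 := by
    rw [map_mul, map_inv, inv_mul_eq_one, eq_comm]
  rw [h1, q.ker]
  constructor
  · rintro ⟨a, ha⟩
    refine ⟨a, fun x => ?_⟩
    have := ha x
    rw [Subgroup.coe_mul, LinearEquiv.mul_apply, Subgroup.coe_inv] at this
    have h2 := congrArg (g' : V ≃ₗ[F] V) this
    rw [← LinearEquiv.mul_apply, mul_inv_cancel, map_smul] at h2
    exact h2
  · rintro ⟨a, ha⟩
    refine ⟨a, fun x => ?_⟩
    rw [Subgroup.coe_mul, LinearEquiv.mul_apply, Subgroup.coe_inv, ha x, map_smul,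
      ← LinearEquiv.mul_apply, inv_mul_cancel]
    rfl

/-- the vector space is nontrivial -/
theorem UData.exists_ne (d : UData σ H) : ∃ x : V, x ≠ 0 := by
  have : 0 < finrank F V := by have := d.hdim; omega
  exact Module.finrank_pos_iff_exists_ne_zero.1 this

/-- `ρ` is injective on `p`-elements -/
theorem QMap.inj_p (q : QMap d ρ) (p : ℕ) [Fact p.Prime] [CharP F p] {x y : ↥(T d.h)} {k l : ℕ}
    (hx : x ^ (p ^ k) = 1) (hy : y ^ (p ^ l) = 1) (hxy : ρ x = ρ y) : x = y := by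
  obtain ⟨a, ha⟩ := (q.eq_iff x y).1 hxy
  obtain ⟨v, hv0⟩ := d.exists_ne
  -- powers
  have hpow : ∀ n : ℕ, ∀ z, ((x ^ n : ↥(T d.h)) : V ≃ₗ[F] V) z
      = a ^ n • ((y ^ n : ↥(T d.h)) : V ≃ₗ[F] V) z := by
    intro n
    induction n with
    | zero => intro z; simp
    | succ n ih =>
      intro z
      have e1 : ((x ^ (n + 1) : ↥(T d.h)) : V ≃ₗ[F] V) z
          = ((x ^ n : ↥(T d.h)) : V ≃ₗ[F] V) ((x : V ≃ₗ[F] V) z) := by
        rw [pow_succ, Subgroup.coe_mul, LinearEquiv.mul_apply]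
      have e2 : ((y ^ (n + 1) : ↥(T d.h)) : V ≃ₗ[F] V) z
          = ((y ^ n : ↥(T d.h)) : V ≃ₗ[F] V) ((y : V ≃ₗ[F] V) z) := by
        rw [pow_succ, Subgroup.coe_mul, LinearEquiv.mul_apply]
      rw [e1, e2, ih, ha, map_smul, smul_smul, pow_succ]
  have hx' : x ^ (p ^ (k + l)) = 1 := by rw [pow_add, pow_mul, hx, one_pow]
  have hy' : y ^ (p ^ (k + l)) = 1 := by rw [pow_add, mul_comm, pow_mul, hy, one_pow]
  have h1 := hpow (p ^ (k + l)) v
  rw [hx', hy'] at h1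
  have h2 : a ^ (p ^ (k + l)) = 1 := by
    have h3 : (1 : F) • v = a ^ (p ^ (k + l)) • v := by
      rw [one_smul]
      exact h1
    exact (smul_left_injective F hv0 h3).symm
  have ha1 : a = 1 := scalar_eq_one p h2
  apply Subtype.ext
  apply LinearEquiv.ext
  intro z
  rw [ha z, ha1, one_smul]

theorem QMap.inj_on (q : QMap d ρ) (p : ℕ) [Fact p.Prime] [CharP F p] {P P' : Subgroup ↥(T d.h)}
    (hP : IsPGroup p P) (hP' : IsPGroup p P') {x y : ↥(T d.h)} (hx : x ∈ P) (hy : y ∈ P')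
    (hxy : ρ x = ρ y) : x = y := by
  obtain ⟨k, hk⟩ := hP ⟨x, hx⟩
  obtain ⟨l, hl⟩ := hP' ⟨y, hy⟩
  have hk' : x ^ (p ^ k) = 1 := by
    have := congrArg Subtype.val hk
    simpa using this
  have hl' : y ^ (p ^ l) = 1 := by
    have := congrArg Subtype.val hl
    simpa using this
  exact q.inj_p p hk' hl' hxy

end

section
variable {G : Type*} [Group G] {G' : Type*} [Group G']

/-- `X` is the centre of `P` -/
def IsCen (P X : Subgroup G) : Prop := ∀ z, (z ∈ P ∧ ∀ s ∈ P, s * z = z * s) ↔ z ∈ X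

theorem IsCen.unique {P X X' : Subgroup G} (h : IsCen P X) (h' : IsCen P X') : X = X' := by
  ext z
  rw [← h z, ← h' z]

theorem IsCen.map_equiv {P X : Subgroup G} (h : IsCen P X) (α : G ≃* G') :
    IsCen (P.map α.toMonoidHom) (X.map α.toMonoidHom) := by
  intro z
  constructor
  · rintro ⟨⟨z₀, hz₀, rfl⟩, hz⟩
    refine ⟨z₀, (h z₀).1 ⟨hz₀, fun s hs => ?_⟩, rfl⟩
    have := hz (α s) ⟨s, hs, rfl⟩
    apply α.injective
    rw [map_mul, map_mul]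
    exact this
  · rintro ⟨z₀, hz₀, rfl⟩
    obtain ⟨h1, h2⟩ := (h z₀).2 hz₀
    refine ⟨⟨z₀, h1, rfl⟩, ?_⟩
    rintro _ ⟨s, hs, rfl⟩
    show α s * α z₀ = α z₀ * α s
    rw [← map_mul, ← map_mul, h2 s hs]

end

section
variable {F : Type v} [Field F] [Fintype F] {σ : F ≃+* F} {V : Type u} [AddCommGroup V]
  [Module F V] [FiniteDimensional F V] {H : V → V → F} {𝔗 : Type w} [Group 𝔗]

theorem finite_T (d : UData σ H) : Finite ↥(T d.h) := by
  haveI : Finite V := Module.finite_of_finite F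
  haveI : Finite (V ≃ₗ[F] V) :=
    Finite.of_injective (fun e : V ≃ₗ[F] V => (e : V → V)) DFunLike.coe_injective
  infer_instance

variable {d : UData σ H} {ρ : ↥(T d.h) →* 𝔗}

theorem QMap.finite (q : QMap d ρ) : Finite 𝔗 := by
  haveI := finite_T d
  exact Finite.of_surjective ρ q.surj

/-- the image of a transvection group -/
def Xb (d : UData σ H) (ρ : ↥(T d.h) →* 𝔗) (u : V) (hu : H u u = 0) : Subgroup 𝔗 :=
  (Xg d u hu).map ρ

/-- the image of the unipotent radical -/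
def Qb (d : UData σ H) (ρ : ↥(T d.h) →* 𝔗) (u : V) : Subgroup 𝔗 := (Qg d u).map ρ

theorem Xb_le_Qb (d : UData σ H) (ρ : ↥(T d.h) →* 𝔗) (u : V) (hu : H u u = 0) :
    Xb d ρ u hu ≤ Qb d ρ u := Subgroup.map_mono (Xg_le_Qg d u hu)

theorem Xb_smul (d : UData σ H) (ρ : ↥(T d.h) →* 𝔗) (u : V) (hu : H u u = 0) (a : F)
    (ha : a ≠ 0) : Xb d ρ (a • u) (iso_smul' d.h hu a) = Xb d ρ u hu := by
  unfold Xb
  rw [Xg_smul d u hu a ha]

/-- centres pass to the quotient -/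
theorem QMap.isCen_map (q : QMap d ρ) (p : ℕ) [Fact p.Prime] [CharP F p]
    {S : Subgroup ↥(T d.h)} (hS : IsPGroup p S) {X : Subgroup ↥(T d.h)} (h : IsCen S X) :
    IsCen (S.map ρ) (X.map ρ) := by
  intro z
  constructor
  · rintro ⟨⟨z₀, hz₀, rfl⟩, hz⟩
    refine ⟨z₀, (h z₀).1 ⟨hz₀, fun s hs => ?_⟩, rfl⟩
    have h1 := hz (ρ s) ⟨s, hs, rfl⟩
    rw [← map_mul, ← map_mul] at h1
    exact q.inj_on p hS hS (S.mul_mem hs hz₀) (S.mul_mem hz₀ hs) h1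
  · rintro ⟨z₀, hz₀, rfl⟩
    obtain ⟨h1, h2⟩ := (h z₀).2 hz₀
    refine ⟨⟨z₀, h1, rfl⟩, ?_⟩
    rintro _ ⟨s, hs, rfl⟩
    rw [← map_mul, ← map_mul, h2 s hs]

/-- the Sylow subgroups of the quotient and their centres -/
theorem QMap.exists_of_sylow (q : QMap d ρ) (p : ℕ) [Fact p.Prime] [CharP F p]
    (P : Sylow p 𝔗) :
    ∃ (S : Sylow p ↥(T d.h)) (u : V) (hu : H u u = 0), u ≠ 0 ∧
      (S : Subgroup ↥(T d.h)).map ρ = P ∧ IsCen (S : Subgroup ↥(T d.h)) (Xg d u hu) ∧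
      Qg d u ≤ S ∧ (∀ s ∈ S, (s : V ≃ₗ[F] V) u = u) ∧ IsCen (P : Subgroup 𝔗) (Xb d ρ u hu) := by
  haveI := finite_T d
  obtain ⟨S, hS⟩ := Sylow.mapSurjective_surjective q.surj p P
  obtain ⟨u, hu, hu0, hfix, hQ, hcen⟩ := sylow_center d p S
  have hSP : (S : Subgroup ↥(T d.h)).map ρ = P := by
    rw [← hS]
    rfl
  refine ⟨S, u, hu, hu0, hSP, hcen, hQ, hfix, ?_⟩
  rw [← hSP]
  exact q.isCen_map p S.2 hcen

theorem QMap.exists_sylow (q : QMap d ρ) (p : ℕ) [Fact p.Prime] [CharP F p] (u : V)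
    (hu : H u u = 0) (hu0 : u ≠ 0) :
    ∃ P : Sylow p 𝔗, IsCen (P : Subgroup 𝔗) (Xb d ρ u hu) := by
  haveI := finite_T d
  obtain ⟨S, -, -, hcen⟩ := exists_sylow_center d p u hu hu0
  refine ⟨S.mapSurjective q.surj, ?_⟩
  exact q.isCen_map p S.2 hcen

/-- automorphisms permute the images of the transvection groups -/
theorem QMap.map_Xb (q : QMap d ρ) (p : ℕ) [Fact p.Prime] [CharP F p] (α : 𝔗 ≃* 𝔗) (u : V)
    (hu : H u u = 0) (hu0 : u ≠ 0) :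
    ∃ (v : V) (hv : H v v = 0), v ≠ 0 ∧ (Xb d ρ u hu).map α.toMonoidHom = Xb d ρ v hv := by
  haveI := q.finite
  obtain ⟨P, hP⟩ := q.exists_sylow p u hu hu0
  have h1 := hP.map_equiv α
  have hsurj : Function.Surjective α.toMonoidHom := α.surjective
  obtain ⟨S, v, hv, hv0, -, -, -, -, h2⟩ := q.exists_of_sylow p (P.mapSurjective hsurj)
  exact ⟨v, hv, hv0, h1.unique h2⟩

end

section
variable {F : Type v} [Field F] [Fintype F] {σ : F ≃+* F} {V : Type u} [AddCommGroup V]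
  [Module F V] [FiniteDimensional F V] {H : V → V → F} {𝔗 : Type w} [Group 𝔗]

theorem T_iso' (d : UData σ H) (m : ↥(T d.h)) {u : V} (hu : H u u = 0) :
    H ((m : V ≃ₗ[F] V) u) ((m : V ≃ₗ[F] V) u) = 0 := by
  rw [T_le_isom d.h m.2, hu]

theorem conj_mem_Xg (d : UData σ H) (m : ↥(T d.h)) (u : V) (hu : H u u = 0) {x : ↥(T d.h)}
    (hx : x ∈ Xg d u hu) : m * x * m⁻¹ ∈ Xg d ((m : V ≃ₗ[F] V) u) (T_iso' d m hu) := by
  obtain ⟨c, hc, hxc⟩ := hx
  refine ⟨c, hc, ?_⟩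
  rw [Subgroup.coe_mul, Subgroup.coe_mul, Subgroup.coe_inv, hxc, conj_tv d.h (T_le_isom d.h m.2)]

theorem inv_apply_of_smul {m : V ≃ₗ[F] V} {u : V} {a : F} (ha : a ≠ 0) (hmu : m u = a • u) :
    m⁻¹ u = a⁻¹ • u := by
  have h1 : m⁻¹ (m u) = u := by
    rw [← LinearEquiv.mul_apply, inv_mul_cancel]
    rfl
  rw [hmu, map_smul] at h1
  calc m⁻¹ u = a⁻¹ • (a • m⁻¹ u) := by rw [smul_smul, inv_mul_cancel₀ ha, one_smul]
    _ = a⁻¹ • u := by rw [h1]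

/-- conjugation by an element stabilizing the point preserves `X_u` -/
theorem conj_mem_Xg' (d : UData σ H) {m : ↥(T d.h)} {u : V} (hu : H u u = 0) {a : F}
    (ha : a ≠ 0) (hmu : (m : V ≃ₗ[F] V) u = a • u) {x : ↥(T d.h)} (hx : x ∈ Xg d u hu) :
    m * x * m⁻¹ ∈ Xg d u hu := by
  obtain ⟨c, hc, hxc⟩ := conj_mem_Xg d m u hu hx
  rw [← Xg_smul d u hu a ha]
  refine ⟨c, hc, ?_⟩
  rw [hxc]
  congr 1
  all_goals exact hmu

theorem Xg_map_conj (d : UData σ H) {m : ↥(T d.h)} {u : V} (hu : H u u = 0) {a : F}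
    (ha : a ≠ 0) (hmu : (m : V ≃ₗ[F] V) u = a • u) :
    (Xg d u hu).map (MulAut.conj m).toMonoidHom = Xg d u hu := by
  apply le_antisymm
  · rintro _ ⟨x, hx, rfl⟩
    exact conj_mem_Xg' d hu ha hmu hx
  · intro z hz
    have hm' : ((m⁻¹ : ↥(T d.h)) : V ≃ₗ[F] V) u = a⁻¹ • u := by
      rw [Subgroup.coe_inv]
      exact inv_apply_of_smul ha hmu
    refine ⟨m⁻¹ * z * m, ?_, ?_⟩
    · have := conj_mem_Xg' d hu (inv_ne_zero ha) hm' hz
      rwa [inv_inv] at this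
    · show m * (m⁻¹ * z * m) * m⁻¹ = z
      group

/-- facts on a Sylow subgroup with centre `X_u` -/
theorem isCen_facts (d : UData σ H) (p : ℕ) [Fact p.Prime] [CharP F p] (S : Sylow p ↥(T d.h))
    {u : V} (hu : H u u = 0) (hu0 : u ≠ 0) (hS : IsCen (S : Subgroup ↥(T d.h)) (Xg d u hu)) :
    Qg d u ≤ S ∧ ∀ s ∈ S, (s : V ≃ₗ[F] V) u = u := by
  obtain ⟨u', hu', hu'0, hfix, hQ, hcen⟩ := sylow_center d p S
  have h1 : Xg d u' hu' = Xg d u hu := IsCen.unique hcen hS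
  obtain ⟨μ, hμ0, hμ⟩ := exists_skew d.hσ
  have h2 : (⟨tv d.h u' μ hu', tv_mem_T d.h u' μ hu' hμ⟩ : ↥(T d.h)) ∈ Xg d u hu := by
    rw [← h1]
    exact ⟨μ, hμ, rfl⟩
  obtain ⟨c, hc, h3⟩ := h2
  obtain ⟨a, ha⟩ := tv_eq_tv d.h d.hnd hu' hu hu'0 hμ0 h3
  subst ha
  have ha0 : a ≠ 0 := by
    rintro rfl
    exact hu'0 (zero_smul F u)
  rw [Qg_smul d u a ha0] at hQ
  refine ⟨hQ, fun s hs => ?_⟩
  have := hfix s hs
  rw [map_smul] at this
  exact smul_right_injective V ha0 this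

/-- the intersection of the Sylow subgroups with centre `X_u` is `Q_u` -/
theorem iInf_sylow_eq (d : UData σ H) (p : ℕ) [Fact p.Prime] [CharP F p] {u : V}
    (hu : H u u = 0) (hu0 : u ≠ 0) :
    (⨅ (S : Sylow p ↥(T d.h)) (_ : IsCen (S : Subgroup ↥(T d.h)) (Xg d u hu)),
      (S : Subgroup ↥(T d.h))) = Qg d u := by
  haveI := finite_T d
  obtain ⟨f, hff, huf⟩ := HermFrames.exists_hyp_partner d.hσ d.h d.hnd u hu0 hu
  have hp : HypPair H u f := ⟨hu, hff, huf⟩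
  obtain ⟨S₀, -, -, hS₀⟩ := exists_sylow_center d p u hu hu0
  have hRle : ∀ S : Sylow p ↥(T d.h), IsCen (S : Subgroup ↥(T d.h)) (Xg d u hu) →
      (⨅ (S : Sylow p ↥(T d.h)) (_ : IsCen (S : Subgroup ↥(T d.h)) (Xg d u hu)),
        (S : Subgroup ↥(T d.h))) ≤ S := fun S hS => iInf₂_le S hS
  apply le_antisymm
  · apply Op_le d p hp
    · exact S₀.2.to_le (hRle S₀ hS₀)
    · rw [le_iInf₂_iff]
      intro S hS
      exact (isCen_facts d p S hu hu0 hS).1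
    · intro r hr
      exact (isCen_facts d p S₀ hu hu0 hS₀).2 r (hRle S₀ hS₀ hr)
    · intro m hm r hr
      simp only [Subgroup.mem_iInf] at hr ⊢
      intro S hS
      have hsurj : Function.Surjective (MulAut.conj m⁻¹).toMonoidHom := (MulAut.conj m⁻¹).surjective
      have hmu : ((m⁻¹ : ↥(T d.h)) : V ≃ₗ[F] V) u = (1 : F) • u := by
        rw [one_smul]
        exact ((L1 d u f).inv_mem hm).1
      have h1 := hS.map_equiv (MulAut.conj m⁻¹)
      rw [Xg_map_conj d hu one_ne_zero hmu] at h1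
      obtain ⟨s, hs, hsr⟩ := hr (S.mapSurjective hsurj) h1
      have h2 : m⁻¹ * s * m⁻¹⁻¹ = r := hsr
      have h3 : m * r * m⁻¹ = s := by
        rw [← h2]
        group
      rw [h3]
      exact hs
  · rw [le_iInf₂_iff]
    intro S hS
    exact (isCen_facts d p S hu hu0 hS).1

end

section
variable {F : Type v} [Field F] [Fintype F] {σ : F ≃+* F} {V : Type u} [AddCommGroup V]
  [Module F V] [FiniteDimensional F V] {H : V → V → F} {𝔗 : Type w} [Group 𝔗]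
  {d : UData σ H} {ρ : ↥(T d.h) →* 𝔗}

theorem isPGroup_Xg (d : UData σ H) (p : ℕ) [Fact p.Prime] [CharP F p] (u : V) (hu0 : u ≠ 0)
    (hu : H u u = 0) : IsPGroup p (Xg d u hu) :=
  (isPGroup_Qg d p u hu0 hu).to_le (Xg_le_Qg d u hu)

/-- equal images of transvection groups belong to the same point -/
theorem QMap.Xb_le (q : QMap d ρ) (p : ℕ) [Fact p.Prime] [CharP F p] {u v : V} (hu : H u u = 0)
    (hv : H v v = 0) (hu0 : u ≠ 0) (hv0 : v ≠ 0) (hle : Xb d ρ u hu ≤ Xb d ρ v hv) :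
    ∃ a : F, u = a • v := by
  obtain ⟨μ, hμ0, hμ⟩ := exists_skew d.hσ
  have h1 : (⟨tv d.h u μ hu, tv_mem_T d.h u μ hu hμ⟩ : ↥(T d.h)) ∈ Xg d u hu := ⟨μ, hμ, rfl⟩
  obtain ⟨y, hy, hye⟩ := hle ⟨_, h1, rfl⟩
  have h2 := q.inj_on p (isPGroup_Xg d p v hv0 hv) (isPGroup_Xg d p u hu0 hu) hy h1 hye
  rw [h2] at hy
  obtain ⟨c, hc, h3⟩ := hy
  exact tv_eq_tv d.h d.hnd hu hv hu0 hμ0 h3

/-- commuting images of transvection groups belong to perpendicular points -/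
theorem QMap.Xb_comm_iff (q : QMap d ρ) (p : ℕ) [Fact p.Prime] [CharP F p] {u v : V}
    (hu : H u u = 0) (hv : H v v = 0) (hu0 : u ≠ 0) (hv0 : v ≠ 0) :
    (∀ x ∈ Xb d ρ u hu, ∀ y ∈ Xb d ρ v hv, x * y = y * x) ↔ H u v = 0 := by
  constructor
  · intro hcomm
    obtain ⟨μ, hμ0, hμ⟩ := exists_skew d.hσ
    let a : ↥(T d.h) := ⟨tv d.h u μ hu, tv_mem_T d.h u μ hu hμ⟩
    let b : ↥(T d.h) := ⟨tv d.h v μ hv, tv_mem_T d.h v μ hv hμ⟩
    have ha : a ∈ Xg d u hu := ⟨μ, hμ, rfl⟩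
    have hb : b ∈ Xg d v hv := ⟨μ, hμ, rfl⟩
    have h1 := hcomm (ρ a) ⟨a, ha, rfl⟩ (ρ b) ⟨b, hb, rfl⟩
    have h2 : ρ (a * b * a⁻¹) = ρ b := by
      rw [map_mul, map_mul, h1, map_inv, mul_inv_cancel_right]
    have h3 := conj_mem_Xg d a v hv hb
    have h4 := q.inj_on p (isPGroup_Xg d p _ (equiv_ne_zero _ hv0) (T_iso' d a hv))
      (isPGroup_Xg d p v hv0 hv) h3 hb h2
    have h5 : a * b = b * a := by
      have := congrArg (fun z => z * a) h4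
      simpa using this
    have h6 : tv d.h u μ hu * tv d.h v μ hv = tv d.h v μ hv * tv d.h u μ hu := by
      have := congrArg Subtype.val h5
      exact this
    exact perp_of_tv_comm d hu hv hv0 hμ0 hμ0 h6
  · rintro huv _ ⟨x, ⟨c, hc, hx⟩, rfl⟩ _ ⟨y, ⟨c', hc', hy⟩, rfl⟩
    rw [← map_mul, ← map_mul]
    congr 1
    apply Subtype.ext
    rw [Subgroup.coe_mul, Subgroup.coe_mul, hx, hy]
    exact tv_comm_of_perp d.h hu hv huv c c'

/-- conjugation moves the images of the transvection groups -/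
theorem conj_Xb (d : UData σ H) (ρ : ↥(T d.h) →* 𝔗) (m : ↥(T d.h)) (u : V) (hu : H u u = 0) :
    (Xb d ρ u hu).map (MulAut.conj (ρ m)).toMonoidHom
      = Xb d ρ ((m : V ≃ₗ[F] V) u) (T_iso' d m hu) := by
  apply le_antisymm
  · rintro _ ⟨_, ⟨x, hx, rfl⟩, rfl⟩
    refine ⟨m * x * m⁻¹, conj_mem_Xg d m u hu hx, ?_⟩
    rw [map_mul, map_mul, map_inv]
    rfl
  · rintro _ ⟨y, hy, rfl⟩
    have h1 := conj_mem_Xg d m⁻¹ _ (T_iso' d m hu) hy
    have h2 : ((m⁻¹ : ↥(T d.h)) : V ≃ₗ[F] V) ((m : V ≃ₗ[F] V) u) = u := by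
      rw [Subgroup.coe_inv, ← LinearEquiv.mul_apply, inv_mul_cancel]
      rfl
    have h3 : m⁻¹ * y * m⁻¹⁻¹ ∈ Xg d u hu := by
      obtain ⟨c, hc, h4⟩ := h1
      refine ⟨c, hc, ?_⟩
      rw [h4]
      congr 1
    refine ⟨ρ (m⁻¹ * y * m⁻¹⁻¹), ⟨_, h3, rfl⟩, ?_⟩
    show ρ m * ρ (m⁻¹ * y * m⁻¹⁻¹) * (ρ m)⁻¹ = ρ y
    rw [← map_inv, ← map_mul, ← map_mul]
    congr 1
    group

/-- `Q̄_u` is the intersection of the Sylow subgroups with centre `X̄_u` -/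
theorem QMap.Qb_eq_iInf (q : QMap d ρ) (p : ℕ) [Fact p.Prime] [CharP F p] {u : V}
    (hu : H u u = 0) (hu0 : u ≠ 0) :
    Qb d ρ u = ⨅ (P : Sylow p 𝔗) (_ : IsCen (P : Subgroup 𝔗) (Xb d ρ u hu)), (P : Subgroup 𝔗) := by
  haveI := finite_T d
  apply le_antisymm
  · rw [le_iInf₂_iff]
    intro P hP
    obtain ⟨S, u', hu', hu'0, hSP, -, hQ, -, hP'⟩ := q.exists_of_sylow p P
    have h1 : Xb d ρ u hu = Xb d ρ u' hu' := hP.unique hP'
    obtain ⟨a, ha⟩ := q.Xb_le p hu' hu hu'0 hu0 h1.ge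
    subst ha
    have ha0 : a ≠ 0 := by
      rintro rfl
      exact hu'0 (zero_smul F u)
    rw [Qg_smul d u a ha0] at hQ
    rw [← hSP]
    exact Subgroup.map_mono hQ
  · intro g hg
    simp only [Subgroup.mem_iInf] at hg
    obtain ⟨S₀, -, -, hS₀⟩ := exists_sylow_center d p u hu hu0
    obtain ⟨s₀, hs₀, rfl⟩ := hg (S₀.mapSurjective q.surj) (q.isCen_map p S₀.2 hS₀)
    refine ⟨s₀, ?_, rfl⟩
    show s₀ ∈ Qg d u
    rw [← iInf_sylow_eq d p hu hu0]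
    simp only [Subgroup.mem_iInf]
    intro S hS
    obtain ⟨s, hs, hss⟩ := hg (S.mapSurjective q.surj) (q.isCen_map p S.2 hS)
    have := q.inj_on p S.2 S₀.2 hs hs₀ hss
    rw [← this]
    exact hs

theorem QMap.map_Qb_le (q : QMap d ρ) (p : ℕ) [Fact p.Prime] [CharP F p] (α : 𝔗 ≃* 𝔗) {u v : V}
    (hu : H u u = 0) (hu0 : u ≠ 0) (hv : H v v = 0) (hv0 : v ≠ 0)
    (hX : (Xb d ρ u hu).map α.toMonoidHom = Xb d ρ v hv) :
    (Qb d ρ u).map α.toMonoidHom ≤ Qb d ρ v := by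
  haveI := q.finite
  rw [q.Qb_eq_iInf p hu hu0, q.Qb_eq_iInf p hv hv0]
  intro x hx
  obtain ⟨g, hg, rfl⟩ := Subgroup.mem_map.1 hx
  simp only [Subgroup.mem_iInf] at hg ⊢
  intro P hP
  have hsurj : Function.Surjective α.symm.toMonoidHom := α.symm.surjective
  have h1 := hP.map_equiv α.symm
  have h2 : (Xb d ρ v hv).map α.symm.toMonoidHom = Xb d ρ u hu := by
    rw [← hX, Subgroup.map_map]
    have : α.symm.toMonoidHom.comp α.toMonoidHom = MonoidHom.id 𝔗 := by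
      ext x
      simp
    rw [this, Subgroup.map_id]
  rw [h2] at h1
  obtain ⟨y, hy, hyg⟩ := hg (P.mapSurjective hsurj) h1
  have h3 : α.symm y = g := hyg
  have h4 : α g = y := by rw [← h3, MulEquiv.apply_symm_apply]
  show α g ∈ P
  rw [h4]
  exact hy

/-- automorphisms respect the unipotent radicals -/
theorem QMap.map_Qb (q : QMap d ρ) (p : ℕ) [Fact p.Prime] [CharP F p] (α : 𝔗 ≃* 𝔗) {u v : V}
    (hu : H u u = 0) (hu0 : u ≠ 0) (hv : H v v = 0) (hv0 : v ≠ 0)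
    (hX : (Xb d ρ u hu).map α.toMonoidHom = Xb d ρ v hv) :
    (Qb d ρ u).map α.toMonoidHom = Qb d ρ v := by
  apply le_antisymm (q.map_Qb_le p α hu hu0 hv hv0 hX)
  have h2 : (Xb d ρ v hv).map α.symm.toMonoidHom = Xb d ρ u hu := by
    rw [← hX, Subgroup.map_map]
    have : α.symm.toMonoidHom.comp α.toMonoidHom = MonoidHom.id 𝔗 := by
      ext x
      simp
    rw [this, Subgroup.map_id]
  have h3 := q.map_Qb_le p α.symm hv hv0 hu hu0 h2
  intro g hg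
  refine ⟨α.symm g, h3 ⟨g, hg, rfl⟩, ?_⟩
  show α (α.symm g) = g
  rw [MulEquiv.apply_symm_apply]

end

end Cfsg.Agent.Lib.Helper5.UAut
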