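import Mathlib
import Cfsg.Agent.Lib.Helper5.SpAut1
import Cfsg.Agent.Lib.Helper5.UAut7

set_option autoImplicit false

/-! The unipotent radical of a point stabilizer in a symplectic group; centres of Sylow subgroups
in odd characteristic. -/

namespace Cfsg.Agent.Lib.Helper5.SpAut

open Module Cfsg.Agent.Lib.Helper2.IsomDecomp

universe u v

section
variable {F : Type*} [Field F] {V : Type*} [AddCommGroup V] [Module F V] {B : V → V → F}

/-- `g` is an isometry fixing `u` and acting trivially on `u^⊥ / F u` -/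
def IsQ (B : V → V → F) (u : V) (g : V ≃ₗ[F] V) : Prop :=
  g ∈ isom B ∧ g u = u ∧ ∀ x, B x u = 0 → ∃ a : F, g x = x + a • u

theorem isQ_eich (h : AltF B) (u w : V) (c : F) (hw : B w u = 0) : IsQ B u (eich h u w c hw) := by
  have huw : B u w = 0 := by rw [h.swap, hw, neg_zero]
  refine ⟨eich_mem_isom h u w c hw, ?_, fun x hx => ⟨B x w, ?_⟩⟩
  · rw [eich_apply, h.self, huw, zero_smul, zero_smul, mul_zero, zero_smul, add_zero, add_zero,
      add_zero]
  · rw [eich_apply, hx, zero_smul, mul_zero, zero_smul, add_zero, add_zero]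

/-- decomposition of a vector along a hyperbolic pair -/
theorem hyp_decomp (h : AltF B) {u f : V} (huf : B u f = 1) (x : V) :
    ∃ y : V, B y u = 0 ∧ B y f = 0 ∧ x = B x f • u - B x u • f + y := by
  have hfu : B f u = -1 := by rw [h.swap, huf]
  refine ⟨x - B x f • u + B x u • f, ?_, ?_, ?_⟩
  · rw [h.add_left, h.sub_left, h.smul_left, h.smul_left, h.self, hfu]
    ring
  · rw [h.add_left, h.sub_left, h.smul_left, h.smul_left, h.self, huf]
    ring
  · abel

theorem eich_apply_f (h : AltF B) {u f : V} (huf : B u f = 1) (w : V) (c : F) (hw : B w u = 0) :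
    eich h u w c hw f = f - w + B f w • u - c • u := by
  have hfu : B f u = -1 := by rw [h.swap, huf]
  rw [eich_apply, hfu]
  module

theorem exists_eich_of_isQ (h : AltF B) {u f : V} (huf : B u f = 1) {g : V ≃ₗ[F] V}
    (hg : IsQ B u g) :
    ∃ (w : V) (c : F) (hw : B w u = 0), B w f = 0 ∧ g = eich h u w c hw := by
  obtain ⟨hiso, hgu, hgx⟩ := hg
  have hfu : B f u = -1 := by rw [h.swap, huf]
  obtain ⟨y, hy⟩ : ∃ y, y = f - g f := ⟨_, rfl⟩
  have hyu : B y u = 0 := by
    rw [hy, h.sub_left, hfu]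
    have := hiso f u
    rw [hgu, hfu] at this
    rw [this, sub_self]
  obtain ⟨c, hc⟩ : ∃ c, c = B y f := ⟨_, rfl⟩
  obtain ⟨w, hwdef⟩ : ∃ w, w = y - c • u := ⟨_, rfl⟩
  have hw : B w u = 0 := by
    rw [hwdef, h.sub_left, h.smul_left, hyu, h.self]
    ring
  have hwf : B w f = 0 := by
    rw [hwdef, h.sub_left, h.smul_left, huf, ← hc]
    ring
  have huw : B u w = 0 := by rw [h.swap, hw, neg_zero]
  have hfw : B f w = 0 := by rw [h.swap, hwf, neg_zero]
  have hgf : g f = f - w - c • u := by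
    rw [hwdef, hy]
    abel
  refine ⟨w, c, hw, hwf, ?_⟩
  apply LinearEquiv.ext
  intro x
  obtain ⟨z, hzu, hzf, hx⟩ := hyp_decomp h huf x
  have hEu : eich h u w c hw u = u := (isQ_eich h u w c hw).2.1
  have hEf : eich h u w c hw f = f - w - c • u := by
    rw [eich_apply_f h huf, hfw, zero_smul, add_zero]
  have hEz : eich h u w c hw z = z + B z w • u := by
    rw [eich_apply, hzu, zero_smul, mul_zero, zero_smul, add_zero, add_zero]
  have hgz : g z = z + B z w • u := by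
    obtain ⟨a, ha⟩ := hgx z hzu
    have h1 := hiso z f
    rw [ha, hgf, hzf] at h1
    simp only [h.add_left, h.sub_right, h.smul_left, h.smul_right, h.self, huf, hzu, hzf,
      huw] at h1
    have ha' : a = B z w := by linear_combination h1
    rw [ha, ha']
  rw [hx, map_add, map_sub, map_smul, map_smul, map_add, map_sub, map_smul, map_smul, hgu, hgf,
    hgz, hEu, hEf, hEz]

theorem isQ_one (B : V → V → F) (u : V) : IsQ B u 1 :=
  ⟨(isom B).one_mem, rfl, fun x _ => ⟨0, by rw [zero_smul, add_zero]; rfl⟩⟩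

theorem isQ_mul {u : V} {g g' : V ≃ₗ[F] V} (hg : IsQ B u g) (hg' : IsQ B u g') :
    IsQ B u (g * g') := by
  refine ⟨(isom B).mul_mem hg.1 hg'.1, ?_, fun x hx => ?_⟩
  · rw [LinearEquiv.mul_apply, hg'.2.1, hg.2.1]
  · obtain ⟨a', ha'⟩ := hg'.2.2 x hx
    obtain ⟨a, ha⟩ := hg.2.2 x hx
    refine ⟨a + a', ?_⟩
    rw [LinearEquiv.mul_apply, ha', map_add, map_smul, hg.2.1, ha, add_smul]
    abel

theorem isQ_inv {u : V} {g : V ≃ₗ[F] V} (hg : IsQ B u g) : IsQ B u g⁻¹ := by
  have h1 : ∀ x, g⁻¹ (g x) = x := by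
    intro x
    rw [← LinearEquiv.mul_apply, inv_mul_cancel]
    rfl
  have hgu : g⁻¹ u = u := by
    conv_lhs => rw [← hg.2.1, h1]
  refine ⟨(isom B).inv_mem hg.1, hgu, fun x hx => ?_⟩
  obtain ⟨a, ha⟩ := hg.2.2 x hx
  refine ⟨-a, ?_⟩
  have h2 : g⁻¹ (g x) = g⁻¹ (x + a • u) := by rw [ha]
  rw [h1, map_add, map_smul, hgu] at h2
  have h3 : g⁻¹ x = x - a • u := eq_sub_of_add_eq h2.symm
  rw [h3, neg_smul, sub_eq_add_neg]

/-- conjugating by an isometry stabilizing the point -/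
theorem isQ_conj (h : AltF B) {u : V} {g m : V ≃ₗ[F] V}
    (hg : IsQ B u g) (hm : m ∈ isom B) {r : F} (hr : r ≠ 0) (hmu : m u = r • u) :
    IsQ B u (m * g * m⁻¹) := by
  have h1 : ∀ x, m (m⁻¹ x) = x := by
    intro x
    rw [← LinearEquiv.mul_apply, mul_inv_cancel]
    rfl
  have h1' : ∀ x, m⁻¹ (m x) = x := by
    intro x
    rw [← LinearEquiv.mul_apply, inv_mul_cancel]
    rfl
  have hmu' : m⁻¹ u = r⁻¹ • u := by
    have : m⁻¹ (m u) = m⁻¹ (r • u) := by rw [hmu]
    rw [h1', map_smul] at this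
    calc m⁻¹ u = r⁻¹ • (r • m⁻¹ u) := by rw [smul_smul, inv_mul_cancel₀ hr, one_smul]
      _ = r⁻¹ • u := by rw [← this]
  refine ⟨(isom B).mul_mem ((isom B).mul_mem hm hg.1) ((isom B).inv_mem hm), ?_, fun x hx => ?_⟩
  · rw [LinearEquiv.mul_apply, LinearEquiv.mul_apply, hmu', map_smul, hg.2.1, map_smul, hmu,
      smul_smul, inv_mul_cancel₀ hr, one_smul]
  · have hx' : B (m⁻¹ x) u = 0 := by
      have := hm (m⁻¹ x) u
      rw [h1, hmu, h.smul_right, hx, mul_zero] at this
      exact this.symm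
    obtain ⟨a, ha⟩ := hg.2.2 _ hx'
    refine ⟨a * r, ?_⟩
    rw [LinearEquiv.mul_apply, LinearEquiv.mul_apply, ha, map_add, map_smul, h1, hmu, smul_smul]

theorem isQ_pow (h : AltF B) (p : ℕ) [CharP F p] {u f : V} (huf : B u f = 1)
    {g : V ≃ₗ[F] V} (hg : IsQ B u g) : g ^ p = 1 := by
  obtain ⟨w, c, hw, -, rfl⟩ := exists_eich_of_isQ h huf hg
  rw [eich_pow]
  apply LinearEquiv.ext
  intro x
  rw [eich_apply]
  simp [CharP.cast_eq_zero F p, h.zero_right]

/-- nondegenerate alternating form -/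
structure SData (B : V → V → F) : Prop where
  alt : AltF B
  nd : ∀ v, (∀ w, B v w = 0) → v = 0

theorem SData.exists_partner (d : SData B) {u : V} (hu : u ≠ 0) : ∃ f : V, B u f = 1 := by
  have : ∃ w, B u w ≠ 0 := by
    by_contra hcon
    push Not at hcon
    exact hu (d.nd u hcon)
  obtain ⟨w, hw⟩ := this
  refine ⟨(B u w)⁻¹ • w, ?_⟩
  rw [d.alt.smul_right, inv_mul_cancel₀ hw]

/-- a vector perpendicular to `u^⊥` is a multiple of `u` -/
theorem SData.perp_perp (d : SData B) {u f : V} (huf : B u f = 1) {x : V}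
    (hx : ∀ w, B w u = 0 → B x w = 0) : x = B x f • u := by
  have h := d.alt
  have h0 : x - B x f • u = 0 := by
    apply d.nd
    intro y
    obtain ⟨y₀, hy₀u, hy₀f, hy⟩ := hyp_decomp h huf y
    have e1 : B x u = 0 := hx u (h.self u)
    rw [hy]
    simp only [h.sub_left, h.add_right, h.sub_right, h.smul_left, h.smul_right, h.self, huf, e1,
      hx y₀ hy₀u]
    have : B u y₀ = 0 := by rw [h.swap, hy₀u, neg_zero]
    rw [this]
    ring
  exact sub_eq_zero.1 h0

theorem hyp_u_ne_zero (h : AltF B) {u f : V} (huf : B u f = 1) : u ≠ 0 := by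
  intro h0
  rw [h0, h.zero_left] at huf
  exact zero_ne_one huf

/-- an isometry fixing `u` and commuting with `Q_u` is a transvection along `u` -/
theorem centralizer_Q (d : SData B) (h2 : (2 : F) ≠ 0) {u f : V} (huf : B u f = 1)
    (g : V ≃ₗ[F] V) (hg : g ∈ isom B) (hgu : g u = u)
    (hcomm : ∀ (w : V) (hw : B w u = 0), g * eich d.alt u w 0 hw = eich d.alt u w 0 hw * g) :
    ∃ c : F, g = tv d.alt u c := by
  have h := d.alt
  have hu0 : u ≠ 0 := hyp_u_ne_zero h huf
  have hQ : IsQ B u g := by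
    refine ⟨hg, hgu, fun w hw => ?_⟩
    have h1 : g * eich h u w 0 hw * g⁻¹ = eich h u w 0 hw := by
      rw [hcomm w hw, mul_inv_cancel_right]
    rw [conj_eich h hg] at h1
    have h3 := LinearEquiv.congr_fun h1 f
    have hgw : B (g w) (g u) = 0 := by rw [hg, hw]
    rw [eich_apply_f h huf, zero_smul, sub_zero] at h3
    have h4 : eich h (g u) (g w) 0 hgw f = f - g w + B f (g w) • u := by
      have := eich_congr h (c := 0) (c' := 0) hgw hgu rfl rfl
      rw [this, eich_apply_f h huf, zero_smul, sub_zero]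
    rw [h4] at h3
    refine ⟨B f (g w) - B f w, ?_⟩
    obtain ⟨b, hb⟩ : ∃ b, b = B f (g w) := ⟨_, rfl⟩
    rw [← hb] at h3 ⊢
    have h5 : g w = f + b • u - (f - w + B f w • u) := by
      rw [← h3]
      abel
    rw [h5, sub_smul]
    abel
  obtain ⟨w₀, c₀, hw₀, hw₀f, rfl⟩ := exists_eich_of_isQ h huf hQ
  have hperp : ∀ w, B w u = 0 → B w₀ w = 0 := by
    intro w hw
    have h1 := hcomm w hw
    rw [eich_mul, eich_mul] at h1
    have h3 := LinearEquiv.congr_fun h1 f
    rw [eich_apply_f h huf, eich_apply_f h huf, add_comm w w₀] at h3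
    have h4 : (c₀ + 0 + B w w₀) • u = (0 + c₀ + B w₀ w) • u := by
      have := congrArg (fun t => f - (w₀ + w) + B f (w₀ + w) • u - t) h3
      simpa using this
    have h5 : (c₀ + 0 + B w w₀ - (0 + c₀ + B w₀ w)) • u = 0 := by
      rw [sub_smul, h4, sub_self]
    rcases smul_eq_zero.1 h5 with h6 | h6
    · have h7 : 2 * B w₀ w = 0 := by
        rw [h.swap w w₀] at h6
        linear_combination -h6
      rcases mul_eq_zero.1 h7 with h8 | h8
      · exact absurd h8 h2
      · exact h8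
    · exact absurd h6 hu0
  have hw₀0 : w₀ = 0 := by
    have := d.perp_perp huf hperp
    rw [hw₀f, zero_smul] at this
    exact this
  subst hw₀0
  exact ⟨c₀, eich_zero h u c₀⟩

end

section groups
variable {F : Type v} [Field F] [Fintype F] {V : Type u} [AddCommGroup V]
  [Module F V] [FiniteDimensional F V] {B : V → V → F}

/-- the unipotent radical of the stabilizer of the point of `u` -/
def Qg (B : V → V → F) (u : V) : Subgroup ↥(isom B) where
  carrier := {g | IsQ B u g.1}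
  mul_mem' := fun ha hb => isQ_mul ha hb
  one_mem' := isQ_one B u
  inv_mem' := fun ha => isQ_inv ha

theorem mem_Qg (u : V) (g : ↥(isom B)) : g ∈ Qg B u ↔ IsQ B u g.1 := Iff.rfl

/-- the group of transvections along `u` -/
def Xg (h : AltF B) (u : V) : Subgroup ↥(isom B) where
  carrier := {g | ∃ c : F, g.1 = tv h u c}
  mul_mem' := by
    rintro a b ⟨c, ha⟩ ⟨c', hb⟩
    refine ⟨c + c', ?_⟩
    rw [Subgroup.coe_mul, ha, hb, tv_mul_tv]
  one_mem' := ⟨0, by rw [tv_zero]; rfl⟩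
  inv_mem' := by
    rintro a ⟨c, ha⟩
    refine ⟨-c, ?_⟩
    rw [Subgroup.coe_inv, ha, tv_inv]

theorem mem_Xg (h : AltF B) (u : V) (g : ↥(isom B)) :
    g ∈ Xg h u ↔ ∃ c : F, g.1 = tv h u c := Iff.rfl

/-- transvections as elements of the isometry group -/
noncomputable def tvT (h : AltF B) (u : V) (c : F) : ↥(isom B) := ⟨tv h u c, tv_mem_isom h u c⟩

theorem tvT_mem (h : AltF B) (u : V) (c : F) : tvT h u c ∈ Xg h u := ⟨c, rfl⟩

theorem Xg_le_Qg (h : AltF B) (u : V) : Xg h u ≤ Qg B u := by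
  rintro g ⟨c, hg⟩
  rw [mem_Qg, hg, ← eich_zero]
  apply isQ_eich

theorem isPGroup_Qg (d : SData B) (p : ℕ) [Fact p.Prime] [CharP F p] (u : V) (hu0 : u ≠ 0) :
    IsPGroup p (Qg B u) := by
  obtain ⟨f, huf⟩ := d.exists_partner hu0
  intro g
  refine ⟨1, ?_⟩
  apply Subtype.ext
  apply Subtype.ext
  rw [Subgroup.coe_pow, Subgroup.coe_pow, pow_one]
  exact isQ_pow d.alt p huf g.2

theorem isPGroup_Xg (d : SData B) (p : ℕ) [Fact p.Prime] [CharP F p] (u : V) (hu0 : u ≠ 0) :
    IsPGroup p (Xg d.alt u) :=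
  (isPGroup_Qg d p u hu0).to_le (Xg_le_Qg d.alt u)

/-- the centre of a Sylow `p`-subgroup of the symplectic group is a transvection group
(`p` odd) -/
theorem sylow_center (d : SData B) (hV : ∃ x : V, x ≠ 0) (p : ℕ) [Fact p.Prime] [CharP F p]
    (hp2 : p ≠ 2) (S : Sylow p ↥(isom B)) :
    ∃ u : V, u ≠ 0 ∧ (∀ s ∈ S, (s : V ≃ₗ[F] V) u = u) ∧ Qg B u ≤ S ∧
      UAut.IsCen (S : Subgroup ↥(isom B)) (Xg d.alt u) := by
  have h := d.alt
  have h2F : (2 : F) ≠ 0 := by
    intro h0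
    have h1 : ((2 : ℕ) : F) = 0 := by exact_mod_cast h0
    rw [CharP.cast_eq_zero_iff F p] at h1
    have := (Nat.prime_dvd_prime_iff_eq (Fact.out : p.Prime) Nat.prime_two).1 h1
    exact hp2 this
  have hSp : IsPGroup p ((S : Subgroup ↥(isom B)).map (isom B).subtype) := S.2.map _
  have hVne : (⊤ : Submodule F V) ≠ ⊥ := by
    obtain ⟨x, hx⟩ := hV
    intro h0
    have : x ∈ (⊤ : Submodule F V) := Submodule.mem_top
    rw [h0, Submodule.mem_bot] at this
    exact hx this
  obtain ⟨u, -, hu0, hfix⟩ := UAut.exists_fixed_in p _ hSp ⊤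
    (fun _ _ _ _ => Submodule.mem_top) hVne
  have hfix' : ∀ s ∈ S, (s : V ≃ₗ[F] V) u = u := fun s hs => hfix _ ⟨s, hs, rfl⟩
  obtain ⟨f, huf⟩ := d.exists_partner hu0
  have hQS : Qg B u ≤ S := by
    have hnorm : (S : Subgroup ↥(isom B)) ≤ Subgroup.normalizer (Qg B u : Set ↥(isom B)) := by
      intro s hs
      rw [Subgroup.mem_normalizer_iff]
      have hconj : ∀ t : ↥(isom B), (t : V ≃ₗ[F] V) u = u → ∀ g, g ∈ Qg B u →
          t * g * t⁻¹ ∈ Qg B u := by
        intro t ht g hg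
        rw [mem_Qg] at hg ⊢
        exact isQ_conj h hg t.2 one_ne_zero (by rw [one_smul]; exact ht)
      intro g
      constructor
      · exact hconj s (hfix' s hs) g
      · intro hg
        have hsinv : ((s⁻¹ : ↥(isom B)) : V ≃ₗ[F] V) u = u := hfix' _ (S.inv_mem hs)
        have := hconj s⁻¹ hsinv _ hg
        have e : s⁻¹ * (s * g * s⁻¹) * s⁻¹⁻¹ = g := by group
        rw [e] at this
        exact this
    have hsup := S.2.to_sup_of_normal_right' (isPGroup_Qg d p u hu0) hnorm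
    have := S.is_maximal' hsup le_sup_left
    rw [← this]
    exact le_sup_right
  refine ⟨u, hu0, hfix', hQS, fun z => ⟨?_, ?_⟩⟩
  · rintro ⟨hzS, hzc⟩
    obtain ⟨c, hz⟩ := centralizer_Q d h2F huf (z : V ≃ₗ[F] V) z.2 (hfix' z hzS) (by
      intro w hw
      have hq : (⟨_, eich_mem_isom h u w 0 hw⟩ : ↥(isom B)) ∈ Qg B u := isQ_eich h u w 0 hw
      have := hzc _ (hQS hq)
      have h2 := congrArg (fun t : ↥(isom B) => (t : V ≃ₗ[F] V)) this
      exact h2.symm)
    exact ⟨c, hz⟩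
  · rintro ⟨c, hz⟩
    have hzX : z ∈ Xg h u := ⟨c, hz⟩
    refine ⟨hQS (Xg_le_Qg h u hzX), fun s hs => ?_⟩
    apply Subtype.ext
    rw [Subgroup.coe_mul, Subgroup.coe_mul, hz]
    have h1 := conj_tv h s.2 u c
    rw [hfix' s hs] at h1
    calc (s : V ≃ₗ[F] V) * tv h u c
        = ((s : V ≃ₗ[F] V) * tv h u c * (s : V ≃ₗ[F] V)⁻¹) * (s : V ≃ₗ[F] V) := by group
      _ = tv h u c * (s : V ≃ₗ[F] V) := by rw [h1]

end groups

end Cfsg.Agent.Lib.Helper5.SpAut
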