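import Mathlib
import Cfsg.Agent.Lib.Helper5.SpAut2

set_option autoImplicit false

/-! Transvection groups in the quotient of the symplectic group by its scalars. -/

namespace Cfsg.Agent.Lib.Helper5.SpAut

open Module Cfsg.Agent.Lib.Helper2.IsomDecomp

universe u v w

section
variable {F : Type*} [Field F] {V : Type*} [AddCommGroup V] [Module F V] {B : V → V → F}

theorem SData.exists_nonperp (d : SData B) {u : V} (hu : u ≠ 0) : ∃ w, B w u ≠ 0 := by
  obtain ⟨f, hf⟩ := d.exists_partner hu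
  refine ⟨f, ?_⟩
  rw [d.alt.swap, hf]
  exact neg_ne_zero.2 one_ne_zero

/-- equal transvections have proportional centres -/
theorem tv_eq_tv (d : SData B) {u v : V} {c c' : F} (hu0 : u ≠ 0) (hc : c ≠ 0)
    (he : tv d.alt u c = tv d.alt v c') : ∃ a : F, u = a • v := by
  obtain ⟨w, hwu⟩ := d.exists_nonperp hu0
  have h1 : tv d.alt u c w = tv d.alt v c' w := by rw [he]
  rw [tv_apply, tv_apply, add_right_inj] at h1
  refine ⟨(c * B w u)⁻¹ * (c' * B w v), ?_⟩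
  rw [← smul_smul, ← h1, smul_smul, inv_mul_cancel₀ (mul_ne_zero hc hwu), one_smul]

theorem tv_ne_one (d : SData B) {u : V} {c : F} (hu0 : u ≠ 0) (hc : c ≠ 0) :
    tv d.alt u c ≠ 1 := by
  intro h1
  obtain ⟨w, hwu⟩ := d.exists_nonperp hu0
  have h2 : tv d.alt u c w = w := by rw [h1]; rfl
  rw [tv_apply, add_eq_left, smul_eq_zero] at h2
  rcases h2 with h2 | h2
  · rcases mul_eq_zero.1 h2 with h3 | h3
    · exact hc h3
    · exact hwu h3
  · exact hu0 h2

/-- commuting transvections have perpendicular centres -/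
theorem perp_of_tv_comm (d : SData B) {u v : V} (hv0 : v ≠ 0) {c c' : F}
    (hc : c ≠ 0) (hc' : c' ≠ 0)
    (hcomm : tv d.alt u c * tv d.alt v c' = tv d.alt v c' * tv d.alt u c) : B u v = 0 := by
  have h := d.alt
  by_contra huv
  have hvu : B v u ≠ 0 := by
    rw [h.swap]
    exact neg_ne_zero.2 huv
  have h1 : tv h u c * tv h v c' * (tv h u c)⁻¹ = tv h v c' := by
    rw [hcomm, mul_inv_cancel_right]
  rw [conj_tv h (tv_mem_isom h u c)] at h1
  have h2 := LinearEquiv.congr_fun h1 v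
  rw [tv_apply, tv_apply, tv_apply (c := c'), h.self v, mul_zero, zero_smul, add_zero, add_eq_left,
    h.add_right, h.smul_right, h.self, zero_add, smul_eq_zero] at h2
  rcases h2 with h2 | h2
  · have : c' * (c * B v u * B v u) ≠ 0 := mul_ne_zero hc' (mul_ne_zero (mul_ne_zero hc hvu) hvu)
    exact this h2
  · have h3 : B (v + (c * B v u) • u) v = 0 := by rw [h2, h.zero_left]
    rw [h.add_left, h.smul_left, h.self, zero_add] at h3
    exact (mul_ne_zero (mul_ne_zero hc hvu) huv) h3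

/-- a linear automorphism fixing every point is a scalar -/
theorem scalar_of_fix_points [Nontrivial V] (g : V ≃ₗ[F] V) (hg : ∀ x : V, ∃ a : F, g x = a • x) :
    ∃ a : F, ∀ x, g x = a • x := by
  obtain ⟨x₀, hx₀⟩ := exists_ne (0 : V)
  obtain ⟨a, ha⟩ := hg x₀
  refine ⟨a, fun x => ?_⟩
  by_cases hx : x = 0
  · rw [hx, map_zero, smul_zero]
  obtain ⟨b, hb⟩ := hg x
  by_cases hdep : ∃ t : F, x = t • x₀
  · obtain ⟨t, rfl⟩ := hdep
    rw [map_smul, ha, smul_comm]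
  · push Not at hdep
    obtain ⟨c, hc⟩ := hg (x₀ + x)
    rw [map_add, ha, hb, smul_add] at hc
    have h1 : (a - c) • x₀ = (c - b) • x := by
      rw [sub_smul, sub_smul]
      rw [sub_eq_sub_iff_add_eq_add]
      rw [add_comm (c • x)]
      exact hc
    have hcb : c - b = 0 := by
      by_contra hne
      apply hdep ((c - b)⁻¹ * (a - c))
      rw [← smul_smul, h1, smul_smul, inv_mul_cancel₀ hne, one_smul]
    rw [hcb, zero_smul, smul_eq_zero] at h1
    rcases h1 with h1 | h1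
    · have : a = b := by
        have e1 : a = c := sub_eq_zero.1 h1
        have e2 : c = b := sub_eq_zero.1 hcb
        rw [e1, e2]
      rw [hb, this]
    · exact absurd h1 hx₀

end

section
variable {F : Type v} [Field F] [Fintype F] {V : Type u} [AddCommGroup V]
  [Module F V] [FiniteDimensional F V] {B : V → V → F}

theorem Xg_smul (h : AltF B) (u : V) (a : F) (ha : a ≠ 0) : Xg h (a • u) = Xg h u := by
  ext g
  rw [mem_Xg, mem_Xg]
  constructor
  · rintro ⟨c, hg⟩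
    exact ⟨a * a * c, by rw [hg, tv_smul]⟩
  · rintro ⟨c, hg⟩
    refine ⟨(a * a)⁻¹ * c, ?_⟩
    rw [hg, tv_smul, ← mul_assoc, mul_inv_cancel₀ (mul_ne_zero ha ha), one_mul]

/-- the fixed vectors of `Q_u` are the multiples of `u` -/
theorem Qg_fix (d : SData B) (h2 : (2 : F) ≠ 0) {u : V} (hu0 : u ≠ 0) (x : V)
    (hx : ∀ g ∈ Qg B u, (g : V ≃ₗ[F] V) x = x) : ∃ a : F, x = a • u := by
  have h := d.alt
  obtain ⟨f, huf⟩ := d.exists_partner hu0
  have key : ∀ w (hw : B w u = 0), B x u • w + B x w • u = 0 := by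
    intro w hw
    have hq : (⟨_, eich_mem_isom h u w 0 hw⟩ : ↥(isom B)) ∈ Qg B u := isQ_eich h u w 0 hw
    have h1 := hx _ hq
    have h3 : eich h u w 0 hw x = x := h1
    rw [eich_apply, zero_mul, zero_smul, add_zero, add_assoc, add_eq_left] at h3
    exact h3
  have hxu : B x u = 0 := by
    have h1 := key u (h.self u)
    rw [← add_smul, smul_eq_zero] at h1
    rcases h1 with h1 | h1
    · have : 2 * B x u = 0 := by linear_combination h1
      rcases mul_eq_zero.1 this with h3 | h3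
      · exact absurd h3 h2
      · exact h3
    · exact absurd h1 hu0
  refine ⟨B x f, d.perp_perp huf fun w hw => ?_⟩
  have h1 := key w hw
  rw [hxu, zero_smul, zero_add, smul_eq_zero] at h1
  rcases h1 with h1 | h1
  · exact h1
  · exact absurd h1 hu0

theorem finite_T (B : V → V → F) : Finite ↥(isom B) := by
  haveI : Finite V := Module.finite_of_finite F
  haveI : Finite (V ≃ₗ[F] V) :=
    Finite.of_injective (fun e : V ≃ₗ[F] V => (e : V → V)) DFunLike.coe_injective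
  infer_instance

/-- every transvection group is the centre of a Sylow subgroup (`p` odd) -/
theorem exists_sylow_center (d : SData B) (p : ℕ) [Fact p.Prime] [CharP F p] (hp2 : p ≠ 2)
    (u : V) (hu0 : u ≠ 0) :
    ∃ S : Sylow p ↥(isom B), Qg B u ≤ S ∧ UAut.IsCen (S : Subgroup ↥(isom B)) (Xg d.alt u) := by
  haveI := finite_T B
  have h2F : (2 : F) ≠ 0 := by
    intro h0
    have h1 : ((2 : ℕ) : F) = 0 := by exact_mod_cast h0
    rw [CharP.cast_eq_zero_iff F p] at h1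
    have := (Nat.prime_dvd_prime_iff_eq (Fact.out : p.Prime) Nat.prime_two).1 h1
    exact hp2 this
  obtain ⟨S, hS⟩ := (isPGroup_Qg d p u hu0).exists_le_sylow
  obtain ⟨u', hu'0, hfix, -, hcen⟩ := sylow_center d ⟨u, hu0⟩ p hp2 S
  obtain ⟨a, ha⟩ := Qg_fix d h2F hu0 u' (fun g hg => hfix g (hS hg))
  have ha0 : a ≠ 0 := by
    rintro rfl
    rw [zero_smul] at ha
    exact hu'0 ha
  refine ⟨S, hS, ?_⟩
  rw [ha, Xg_smul d.alt u a ha0] at hcen
  exact hcen

end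

section
variable {F : Type v} [Field F] [Fintype F] {V : Type u} [AddCommGroup V]
  [Module F V] [FiniteDimensional F V] {B : V → V → F} {𝔗 : Type w} [Group 𝔗]

/-- a surjection from the isometry group whose kernel consists of the scalars -/
structure SQMap (B : V → V → F) (ρ : ↥(isom B) →* 𝔗) : Prop where
  surj : Function.Surjective ρ
  ker : ∀ g : ↥(isom B), ρ g = 1 ↔ ∃ a : F, ∀ x, (g : V ≃ₗ[F] V) x = a • x

variable {ρ : ↥(isom B) →* 𝔗}

theorem SQMap.eq_iff (q : SQMap B ρ) (g g' : ↥(isom B)) :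
    ρ g = ρ g' ↔ ∃ a : F, ∀ x, (g : V ≃ₗ[F] V) x = a • (g' : V ≃ₗ[F] V) x := by
  have h1 : ρ g = ρ g' ↔ ρ (g'⁻¹ * g) = 1 := by
    rw [map_mul, map_inv, inv_mul_eq_one, eq_comm]
  rw [h1, q.ker]
  constructor
  · rintro ⟨a, ha⟩
    refine ⟨a, fun x => ?_⟩
    have := ha x
    rw [Subgroup.coe_mul, LinearEquiv.mul_apply, Subgroup.coe_inv] at this
    have h2 := congrArg (g' : V ≃ₗ[F] V) this
    rw [← LinearEquiv.mul_apply, mul_inv_cancel, map_smul] at h2
    exact h2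
  · rintro ⟨a, ha⟩
    refine ⟨a, fun x => ?_⟩
    rw [Subgroup.coe_mul, LinearEquiv.mul_apply, Subgroup.coe_inv, ha x, map_smul,
      ← LinearEquiv.mul_apply, inv_mul_cancel]
    rfl

/-- `ρ` is injective on `p`-elements -/
theorem SQMap.inj_p (q : SQMap B ρ) (hV : ∃ x : V, x ≠ 0) (p : ℕ) [Fact p.Prime] [CharP F p]
    {x y : ↥(isom B)} {k l : ℕ}
    (hx : x ^ (p ^ k) = 1) (hy : y ^ (p ^ l) = 1) (hxy : ρ x = ρ y) : x = y := by
  obtain ⟨a, ha⟩ := (q.eq_iff x y).1 hxy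
  obtain ⟨v, hv0⟩ := hV
  have hpow : ∀ n : ℕ, ∀ z, ((x ^ n : ↥(isom B)) : V ≃ₗ[F] V) z
      = a ^ n • ((y ^ n : ↥(isom B)) : V ≃ₗ[F] V) z := by
    intro n
    induction n with
    | zero => intro z; simp
    | succ n ih =>
      intro z
      have e1 : ((x ^ (n + 1) : ↥(isom B)) : V ≃ₗ[F] V) z
          = ((x ^ n : ↥(isom B)) : V ≃ₗ[F] V) ((x : V ≃ₗ[F] V) z) := by
        rw [pow_succ, Subgroup.coe_mul, LinearEquiv.mul_apply]
      have e2 : ((y ^ (n + 1) : ↥(isom B)) : V ≃ₗ[F] V) z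
          = ((y ^ n : ↥(isom B)) : V ≃ₗ[F] V) ((y : V ≃ₗ[F] V) z) := by
        rw [pow_succ, Subgroup.coe_mul, LinearEquiv.mul_apply]
      rw [e1, e2, ih, ha, map_smul, smul_smul, pow_succ]
  have hx' : x ^ (p ^ (k + l)) = 1 := by rw [pow_add, pow_mul, hx, one_pow]
  have hy' : y ^ (p ^ (k + l)) = 1 := by rw [pow_add, mul_comm, pow_mul, hy, one_pow]
  have h1 := hpow (p ^ (k + l)) v
  rw [hx', hy'] at h1
  have h2 : a ^ (p ^ (k + l)) = 1 := by
    have h3 : (1 : F) • v = a ^ (p ^ (k + l)) • v := by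
      rw [one_smul]
      exact h1
    exact (smul_left_injective F hv0 h3).symm
  have ha1 : a = 1 := UAut.scalar_eq_one p h2
  apply Subtype.ext
  apply LinearEquiv.ext
  intro z
  rw [ha z, ha1, one_smul]

theorem SQMap.inj_on (q : SQMap B ρ) (hV : ∃ x : V, x ≠ 0) (p : ℕ) [Fact p.Prime] [CharP F p]
    {P P' : Subgroup ↥(isom B)}
    (hP : IsPGroup p P) (hP' : IsPGroup p P') {x y : ↥(isom B)} (hx : x ∈ P) (hy : y ∈ P')
    (hxy : ρ x = ρ y) : x = y := by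
  obtain ⟨k, hk⟩ := hP ⟨x, hx⟩
  obtain ⟨l, hl⟩ := hP' ⟨y, hy⟩
  have hk' : x ^ (p ^ k) = 1 := by
    have := congrArg Subtype.val hk
    simpa using this
  have hl' : y ^ (p ^ l) = 1 := by
    have := congrArg Subtype.val hl
    simpa using this
  exact q.inj_p hV p hk' hl' hxy

theorem SQMap.finite (q : SQMap B ρ) : Finite 𝔗 := by
  haveI := finite_T B
  exact Finite.of_surjective ρ q.surj

/-- the image of a transvection group -/
def Xb (h : AltF B) (ρ : ↥(isom B) →* 𝔗) (u : V) : Subgroup 𝔗 := (Xg h u).map ρ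

theorem Xb_smul (h : AltF B) (ρ : ↥(isom B) →* 𝔗) (u : V) (a : F) (ha : a ≠ 0) :
    Xb h ρ (a • u) = Xb h ρ u := by
  unfold Xb
  rw [Xg_smul h u a ha]

/-- centres pass to the quotient -/
theorem SQMap.isCen_map (q : SQMap B ρ) (hV : ∃ x : V, x ≠ 0) (p : ℕ) [Fact p.Prime] [CharP F p]
    {S : Subgroup ↥(isom B)} (hS : IsPGroup p S) {X : Subgroup ↥(isom B)} (h : UAut.IsCen S X) :
    UAut.IsCen (S.map ρ) (X.map ρ) := by
  intro z
  constructor
  · rintro ⟨⟨z₀, hz₀, rfl⟩, hz⟩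
    refine ⟨z₀, (h z₀).1 ⟨hz₀, fun s hs => ?_⟩, rfl⟩
    have h1 := hz (ρ s) ⟨s, hs, rfl⟩
    rw [← map_mul, ← map_mul] at h1
    exact q.inj_on hV p hS hS (S.mul_mem hs hz₀) (S.mul_mem hz₀ hs) h1
  · rintro ⟨z₀, hz₀, rfl⟩
    obtain ⟨h1, h2⟩ := (h z₀).2 hz₀
    refine ⟨⟨z₀, h1, rfl⟩, ?_⟩
    rintro _ ⟨s, hs, rfl⟩
    rw [← map_mul, ← map_mul, h2 s hs]

/-- the centres of the Sylow subgroups of the quotient -/
theorem SQMap.exists_of_sylow (q : SQMap B ρ) (d : SData B) (hV : ∃ x : V, x ≠ 0) (p : ℕ)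
    [Fact p.Prime] [CharP F p] (hp2 : p ≠ 2) (P : Sylow p 𝔗) :
    ∃ u : V, u ≠ 0 ∧ UAut.IsCen (P : Subgroup 𝔗) (Xb d.alt ρ u) := by
  haveI := finite_T B
  obtain ⟨S, hS⟩ := Sylow.mapSurjective_surjective q.surj p P
  obtain ⟨u, hu0, -, -, hcen⟩ := sylow_center d hV p hp2 S
  have hSP : (S : Subgroup ↥(isom B)).map ρ = P := by
    rw [← hS]
    rfl
  refine ⟨u, hu0, ?_⟩
  rw [← hSP]
  exact q.isCen_map hV p S.2 hcen

theorem SQMap.exists_sylow (q : SQMap B ρ) (d : SData B) (p : ℕ) [Fact p.Prime] [CharP F p]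
    (hp2 : p ≠ 2) (u : V) (hu0 : u ≠ 0) :
    ∃ P : Sylow p 𝔗, UAut.IsCen (P : Subgroup 𝔗) (Xb d.alt ρ u) := by
  haveI := finite_T B
  obtain ⟨S, -, hcen⟩ := exists_sylow_center d p hp2 u hu0
  refine ⟨S.mapSurjective q.surj, ?_⟩
  exact q.isCen_map ⟨u, hu0⟩ p S.2 hcen

/-- automorphisms permute the images of the transvection groups (`p` odd) -/
theorem SQMap.map_Xb (q : SQMap B ρ) (d : SData B) (p : ℕ) [Fact p.Prime] [CharP F p]
    (hp2 : p ≠ 2) (α : 𝔗 ≃* 𝔗) (u : V) (hu0 : u ≠ 0) :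
    ∃ v : V, v ≠ 0 ∧ (Xb d.alt ρ u).map α.toMonoidHom = Xb d.alt ρ v := by
  haveI := q.finite
  obtain ⟨P, hP⟩ := q.exists_sylow d p hp2 u hu0
  have h1 := hP.map_equiv α
  have hsurj : Function.Surjective α.toMonoidHom := α.surjective
  obtain ⟨v, hv0, h2⟩ := q.exists_of_sylow d ⟨u, hu0⟩ p hp2 (P.mapSurjective hsurj)
  exact ⟨v, hv0, h1.unique h2⟩

theorem conj_mem_Xg (h : AltF B) (m : ↥(isom B)) (u : V) {x : ↥(isom B)}
    (hx : x ∈ Xg h u) : m * x * m⁻¹ ∈ Xg h ((m : V ≃ₗ[F] V) u) := by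
  obtain ⟨c, hxc⟩ := hx
  refine ⟨c, ?_⟩
  rw [Subgroup.coe_mul, Subgroup.coe_mul, Subgroup.coe_inv, hxc, conj_tv h m.2]

/-- conjugation moves the images of the transvection groups -/
theorem conj_Xb (h : AltF B) (ρ : ↥(isom B) →* 𝔗) (m : ↥(isom B)) (u : V) :
    (Xb h ρ u).map (MulAut.conj (ρ m)).toMonoidHom = Xb h ρ ((m : V ≃ₗ[F] V) u) := by
  apply le_antisymm
  · rintro _ ⟨_, ⟨x, hx, rfl⟩, rfl⟩
    refine ⟨m * x * m⁻¹, conj_mem_Xg h m u hx, ?_⟩
    rw [map_mul, map_mul, map_inv]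
    rfl
  · rintro _ ⟨y, hy, rfl⟩
    have h1 := conj_mem_Xg h m⁻¹ _ hy
    have h2 : ((m⁻¹ : ↥(isom B)) : V ≃ₗ[F] V) ((m : V ≃ₗ[F] V) u) = u := by
      rw [Subgroup.coe_inv, ← LinearEquiv.mul_apply, inv_mul_cancel]
      rfl
    rw [h2] at h1
    refine ⟨ρ (m⁻¹ * y * m⁻¹⁻¹), ⟨_, h1, rfl⟩, ?_⟩
    show ρ m * ρ (m⁻¹ * y * m⁻¹⁻¹) * (ρ m)⁻¹ = ρ y
    rw [← map_inv, ← map_mul, ← map_mul]
    congr 1
    group

/-- equal images of transvection groups belong to the same point -/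
theorem SQMap.Xb_le (q : SQMap B ρ) (d : SData B) (p : ℕ) [Fact p.Prime] [CharP F p] {u v : V}
    (hu0 : u ≠ 0) (hv0 : v ≠ 0) (hle : Xb d.alt ρ u ≤ Xb d.alt ρ v) :
    ∃ a : F, u = a • v := by
  have h1 : tvT d.alt u 1 ∈ Xg d.alt u := tvT_mem d.alt u 1
  obtain ⟨y, hy, hye⟩ := hle ⟨_, h1, rfl⟩
  have h2 := q.inj_on ⟨u, hu0⟩ p (isPGroup_Xg d p v hv0) (isPGroup_Xg d p u hu0) hy h1 hye
  rw [h2] at hy
  obtain ⟨c, h3⟩ := hy
  exact tv_eq_tv d hu0 one_ne_zero h3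

/-- commuting images of transvection groups belong to perpendicular points -/
theorem SQMap.Xb_comm_iff (q : SQMap B ρ) (d : SData B) (p : ℕ) [Fact p.Prime] [CharP F p]
    {u v : V} (hu0 : u ≠ 0) (hv0 : v ≠ 0) :
    (∀ x ∈ Xb d.alt ρ u, ∀ y ∈ Xb d.alt ρ v, x * y = y * x) ↔ B u v = 0 := by
  constructor
  · intro hcomm
    let a : ↥(isom B) := tvT d.alt u 1
    let b : ↥(isom B) := tvT d.alt v 1
    have ha : a ∈ Xg d.alt u := tvT_mem d.alt u 1
    have hb : b ∈ Xg d.alt v := tvT_mem d.alt v 1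
    have h1 := hcomm (ρ a) ⟨a, ha, rfl⟩ (ρ b) ⟨b, hb, rfl⟩
    have h2 : ρ (a * b * a⁻¹) = ρ b := by
      rw [map_mul, map_mul, h1, map_inv, mul_inv_cancel_right]
    have h3 := conj_mem_Xg d.alt a v hb
    have hav0 : (a : V ≃ₗ[F] V) v ≠ 0 := by
      intro h0
      apply hv0
      have : (a : V ≃ₗ[F] V) v = (a : V ≃ₗ[F] V) 0 := by rw [h0, map_zero]
      exact (a : V ≃ₗ[F] V).injective this
    have h4 := q.inj_on ⟨u, hu0⟩ p (isPGroup_Xg d p _ hav0) (isPGroup_Xg d p v hv0) h3 hb h2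
    have h5 : a * b = b * a := by
      have := congrArg (fun z => z * a) h4
      simpa using this
    have h6 : tv d.alt u 1 * tv d.alt v 1 = tv d.alt v 1 * tv d.alt u 1 := by
      have := congrArg Subtype.val h5
      exact this
    exact perp_of_tv_comm d hv0 one_ne_zero one_ne_zero h6
  · rintro huv _ ⟨x, ⟨c, hx⟩, rfl⟩ _ ⟨y, ⟨c', hy⟩, rfl⟩
    rw [← map_mul, ← map_mul]
    congr 1
    apply Subtype.ext
    rw [Subgroup.coe_mul, Subgroup.coe_mul, hx, hy]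
    exact tv_comm_of_perp d.alt huv c c'

end

end Cfsg.Agent.Lib.Helper5.SpAut
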