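import Mathlib
import Cfsg.Agent.Lib.Helper5.SpAut3
import Cfsg.Agent.Lib.Helper5.FTPG4

set_option autoImplicit false

/-! From a permutation of the transvection groups to a semilinear similitude. -/

namespace Cfsg.Agent.Lib.Helper5.SpAut

open Module Cfsg.Agent.Lib.Helper2.IsomDecomp Cfsg.Agent.Lib.Helper5.FTPG

universe u v w

section
variable {F : Type*} [Field F] {V : Type*} [AddCommGroup V] [Module F V] {B : V → V → F}

/-- double orthogonal of a pair of vectors -/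
theorem SData.mem_span_pair_iff (d : SData B) (x y z : V) :
    (∃ a b : F, z = a • x + b • y) ↔ ∀ w, B w x = 0 → B w y = 0 → B w z = 0 := by
  have h := d.alt
  constructor
  · rintro ⟨a, b, rfl⟩ w hx hy
    rw [h.add_right, h.smul_right, h.smul_right, hx, hy, mul_zero, mul_zero, add_zero]
  · intro hz
    let L : Fin 2 → V →ₗ[F] F := ![h.toDual x, h.toDual y]
    have hle : ⨅ i, LinearMap.ker (L i) ≤ LinearMap.ker (h.toDual z) := by
      intro w hw
      rw [Submodule.mem_iInf] at hw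
      have h0 := hw 0
      have h1 := hw 1
      rw [LinearMap.mem_ker] at h0 h1 ⊢
      exact hz w h0 h1
    obtain ⟨c, hc⟩ := (Submodule.mem_span_range_iff_exists_fun F).1
      (mem_span_of_iInf_ker_le_ker hle)
    rw [Fin.sum_univ_two] at hc
    refine ⟨c 0, c 1, ?_⟩
    have h0 : z - (c 0 • x + c 1 • y) = 0 := by
      apply d.nd
      intro w
      rw [h.swap, neg_eq_zero, h.sub_right, h.add_right, h.smul_right, h.smul_right]
      have := LinearMap.congr_fun hc w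
      simp only [LinearMap.add_apply, LinearMap.smul_apply, smul_eq_mul, L] at this
      have e0 : (![h.toDual x, h.toDual y] 0) w = B w x := rfl
      have e1 : (![h.toDual x, h.toDual y] 1) w = B w y := rfl
      rw [e0, e1, AltF.toDual_apply] at this
      rw [this, sub_self]
    exact sub_eq_zero.1 h0

end

section
variable {F : Type v} [Field F] [Fintype F] {V : Type u} [AddCommGroup V]
  [Module F V] [FiniteDimensional F V] {B : V → V → F} {𝔗 : Type w} [Group 𝔗]
  {ρ : ↥(isom B) →* 𝔗}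

/-- the automorphism `α` permutes the images of the transvection groups -/
def Perm (d : SData B) (ρ : ↥(isom B) →* 𝔗) (α : 𝔗 ≃* 𝔗) : Prop :=
  ∀ u : V, u ≠ 0 → ∃ v : V, v ≠ 0 ∧ (Xb d.alt ρ u).map α.toMonoidHom = Xb d.alt ρ v

open Classical in
/-- the point map of an automorphism permuting the transvection groups -/
noncomputable def ptMap (d : SData B) (ρ : ↥(isom B) →* 𝔗) (α : 𝔗 ≃* 𝔗)
    (hα : Perm d ρ α) (u : V) : V :=
  if h : u ≠ 0 then Classical.choose (hα u h) else 0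

theorem ptMap_spec (d : SData B) {α : 𝔗 ≃* 𝔗} (hα : Perm d ρ α) {u : V} (hu : u ≠ 0) :
    ptMap d ρ α hα u ≠ 0 ∧
      (Xb d.alt ρ u).map α.toMonoidHom = Xb d.alt ρ (ptMap d ρ α hα u) := by
  unfold ptMap
  rw [dif_pos hu]
  exact Classical.choose_spec (hα u hu)

/-- the point map preserves perpendicularity -/
theorem ptMap_perp (q : SQMap B ρ) (d : SData B) (p : ℕ) [Fact p.Prime] [CharP F p]
    {α : 𝔗 ≃* 𝔗} (hα : Perm d ρ α) {u v : V} (hu : u ≠ 0) (hv : v ≠ 0) :
    B (ptMap d ρ α hα u) (ptMap d ρ α hα v) = 0 ↔ B u v = 0 := by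
  obtain ⟨hu', hXu⟩ := ptMap_spec d hα hu
  obtain ⟨hv', hXv⟩ := ptMap_spec d hα hv
  rw [← q.Xb_comm_iff d p hu' hv', ← q.Xb_comm_iff d p hu hv, ← hXu, ← hXv]
  constructor
  · intro h x hx y hy
    have := h (α x) ⟨x, hx, rfl⟩ (α y) ⟨y, hy, rfl⟩
    rw [← map_mul, ← map_mul] at this
    exact α.injective this
  · rintro h _ ⟨x, hx, rfl⟩ _ ⟨y, hy, rfl⟩
    show α x * α y = α y * α x
    rw [← map_mul, ← map_mul, h x hx y hy]

theorem perm_surj (q : SQMap B ρ) (d : SData B) (p : ℕ) [Fact p.Prime] [CharP F p]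
    {α : 𝔗 ≃* 𝔗} (hα : Perm d ρ α) (hα' : Perm d ρ α.symm) {w : V} (hw : w ≠ 0) :
    ∃ w' : V, w' ≠ 0 ∧ ∃ a : F, a ≠ 0 ∧ ptMap d ρ α hα w' = a • w := by
  obtain ⟨w', hw'0, hw'⟩ := hα' w hw
  obtain ⟨h1, h2⟩ := ptMap_spec d hα hw'0
  have h3 : (Xb d.alt ρ w').map α.toMonoidHom = Xb d.alt ρ w := by
    rw [← hw', Subgroup.map_map]
    have : α.toMonoidHom.comp α.symm.toMonoidHom = MonoidHom.id 𝔗 := by
      ext x
      simp
    rw [this, Subgroup.map_id]
  rw [h3] at h2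
  obtain ⟨a, ha⟩ := q.Xb_le d p h1 hw h2.ge
  refine ⟨w', hw'0, a, ?_, ha⟩
  rintro rfl
  rw [zero_smul] at ha
  exact h1 ha

/-- the point map is a collineation -/
theorem ptMap_coll (q : SQMap B ρ) (d : SData B) (p : ℕ) [Fact p.Prime] [CharP F p]
    {α : 𝔗 ≃* 𝔗} (hα : Perm d ρ α) (hα' : Perm d ρ α.symm) :
    Coll (F := F) (ptMap d ρ α hα) where
  ne := fun x hx => (ptMap_spec d hα hx).1
  col := by
    intro x y z hx hy hz
    rw [d.mem_span_pair_iff, d.mem_span_pair_iff]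
    constructor
    · intro h w hwx hwy
      by_cases hw : w = 0
      · rw [hw, d.alt.zero_left]
      obtain ⟨w', hw'0, a, ha, hw'⟩ := perm_surj q d p hα hα' hw
      have hwe : w = a⁻¹ • ptMap d ρ α hα w' := by
        rw [hw', smul_smul, inv_mul_cancel₀ ha, one_smul]
      rw [hwe, d.alt.smul_left] at hwx hwy ⊢
      have hwx' := (mul_eq_zero.1 hwx).resolve_left (inv_ne_zero ha)
      have hwy' := (mul_eq_zero.1 hwy).resolve_left (inv_ne_zero ha)
      rw [ptMap_perp q d p hα hw'0 hx] at hwx'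
      rw [ptMap_perp q d p hα hw'0 hy] at hwy'
      rw [(ptMap_perp q d p hα hw'0 hz).2 (h w' hwx' hwy'), mul_zero]
    · intro h w hwx hwy
      by_cases hw : w = 0
      · rw [hw, d.alt.zero_left]
      rw [← ptMap_perp q d p hα hw hz]
      apply h
      · rw [ptMap_perp q d p hα hw hx]
        exact hwx
      · rw [ptMap_perp q d p hα hw hy]
        exact hwy

/-- an additive semilinear map preserving perpendicularity is a similitude -/
theorem semi_of_perp (d : SData B) (hV : ∃ x : V, x ≠ 0) (s : V → V) (τ : F ≃+* F)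
    (hadd : ∀ x y, s (x + y) = s x + s y) (hsmul : ∀ (a : F) x, s (a • x) = τ a • s x)
    (hperp : ∀ x y, B (s x) (s y) = 0 ↔ B x y = 0) :
    ∃ κ : F, κ ≠ 0 ∧ ∀ x y, B (s x) (s y) = κ * τ (B x y) := by
  have h := d.alt
  have hs0 : s 0 = 0 := by
    have := hsmul 0 0
    rwa [zero_smul, map_zero, zero_smul] at this
  have hsub : ∀ x y, s (x - y) = s x - s y := by
    intro x y
    have h1 := hadd (x - y) y
    rw [sub_add_cancel] at h1
    exact eq_sub_of_add_eq h1.symm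
  -- the multiplier at a nonzero vector
  have hmult : ∀ x : V, x ≠ 0 → ∃ l : F, l ≠ 0 ∧ ∀ y, B (s x) (s y) = l * τ (B x y) := by
    intro x hx
    obtain ⟨y₀, hy₀⟩ := d.exists_partner hx
    refine ⟨B (s x) (s y₀), ?_, fun y => ?_⟩
    · intro h0
      rw [hperp, hy₀] at h0
      exact one_ne_zero h0
    · have h1 : B x (y - B x y • y₀) = 0 := by
        rw [h.sub_right, h.smul_right, hy₀, mul_one, sub_self]
      rw [← hperp, hsub, hsmul, h.sub_right, h.smul_right] at h1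
      rw [mul_comm]
      exact sub_eq_zero.1 h1
  have hmult_eq : ∀ x y : V, x ≠ 0 → y ≠ 0 → B x y ≠ 0 → ∀ l l' : F,
      (∀ z, B (s x) (s z) = l * τ (B x z)) → (∀ z, B (s y) (s z) = l' * τ (B y z)) → l = l' := by
    intro x y hx hy hxy l l' hl hl'
    have h1 := hl y
    rw [h.swap, hl' x, h.swap y x, map_neg, mul_neg, neg_neg] at h1
    have hτ : τ (B x y) ≠ 0 := (map_ne_zero_iff _ τ.injective).2 hxy
    exact (mul_right_cancel₀ hτ h1).symm
  obtain ⟨x₀, hx₀⟩ := hV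
  obtain ⟨κ, hκ0, hκ⟩ := hmult x₀ hx₀
  refine ⟨κ, hκ0, fun x y => ?_⟩
  by_cases hx : x = 0
  · rw [hx, hs0, h.zero_left, h.zero_left, map_zero, mul_zero]
  obtain ⟨l, hl0, hl⟩ := hmult x hx
  suffices hlk : l = κ by rw [hl, hlk]
  -- a common non-perpendicular vector
  obtain ⟨z₁, hz₁⟩ := d.exists_partner hx
  obtain ⟨z₂, hz₂⟩ := d.exists_partner hx₀
  have hz₁' : B x z₁ ≠ 0 := by rw [hz₁]; exact one_ne_zero
  have hz₂' : B x₀ z₂ ≠ 0 := by rw [hz₂]; exact one_ne_zero
  obtain ⟨z, hxz, hx₀z⟩ : ∃ z, B x z ≠ 0 ∧ B x₀ z ≠ 0 := by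
    by_cases h1 : B x₀ z₁ = 0
    · by_cases h2 : B x z₂ = 0
      · refine ⟨z₁ + z₂, ?_, ?_⟩
        · rw [h.add_right, h2, add_zero]
          exact hz₁'
        · rw [h.add_right, h1, zero_add]
          exact hz₂'
      · exact ⟨z₂, h2, hz₂'⟩
    · exact ⟨z₁, hz₁', h1⟩
  have hz0 : z ≠ 0 := by
    rintro rfl
    exact hxz (h.zero_right x)
  obtain ⟨lz, -, hlz⟩ := hmult z hz0
  rw [hmult_eq x z hx hz0 hxz l lz hl hlz, hmult_eq x₀ z hx₀ hz0 hx₀z κ lz hκ hlz]

end

end Cfsg.Agent.Lib.Helper5.SpAut
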