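import Mathlib
import Cfsg.Agent.Lib.Helper5.UAut7

set_option autoImplicit false

/-! The map induced on `Q_u / X_u` by an automorphism fixing two opposite points. -/

namespace Cfsg.Agent.Lib.Helper5.UAut

open Module Cfsg.Agent.Lib.Helper2 Cfsg.Agent.Lib.Helper2.UT Cfsg.Agent.Lib.Helper2.IsomDecomp
  Cfsg.Agent.Lib.Helper2.HermDecomp Cfsg.Agent.Lib.Helper5.PSLCoset

universe u v w

section
variable {F : Type v} [Field F] [Fintype F] {σ : F ≃+* F} {V : Type u} [AddCommGroup V]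
  [Module F V] [FiniteDimensional F V] {H : V → V → F} {𝔗 : Type w} [Group 𝔗]

/-- the Eichler transformation as an element of `T` -/
noncomputable def eT (d : UData σ H) {u : V} (hu : H u u = 0) (w : V) (c : F) (hwu : H w u = 0)
    (hc : c + σ c + H w w = 0) : ↥(T d.h) :=
  ⟨eich d.h u w c hu hwu, eich_mem_T d u w c hu hwu hc⟩

/-- the transvection as an element of `T` -/
noncomputable def tT (d : UData σ H) {u : V} (hu : H u u = 0) (e : F) (he : σ e = -e) :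
    ↥(T d.h) :=
  ⟨tv d.h u e hu, tv_mem_T d.h u e hu he⟩

theorem eT_mem (d : UData σ H) {u : V} (hu : H u u = 0) (w : V) (c : F) (hwu : H w u = 0)
    (hc : c + σ c + H w w = 0) : eT d hu w c hwu hc ∈ Qg d u :=
  isQ_eich d.h u w c hu hwu hc

theorem tT_mem (d : UData σ H) {u : V} (hu : H u u = 0) (e : F) (he : σ e = -e) :
    tT d hu e he ∈ Xg d u hu := ⟨e, he, rfl⟩

theorem exists_eT (d : UData σ H) {u f : V} (hp : HypPair H u f) {g : ↥(T d.h)}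
    (hg : g ∈ Qg d u) :
    ∃ (w : V) (c : F) (hwu : H w u = 0) (_ : H w f = 0) (hc : c + σ c + H w w = 0),
      g = eT d hp.uu w c hwu hc := by
  obtain ⟨w, c, hw, hwf, hc, hgw⟩ := exists_eich_of_isQ d.h hp hg
  exact ⟨w, c, hw, hwf, hc, Subtype.ext hgw⟩

theorem eT_apply_f (d : UData σ H) {u f : V} (hp : HypPair H u f) (w : V) (c : F)
    (hwu : H w u = 0) (hwf : H w f = 0) (hc : c + σ c + H w w = 0) :
    ((eT d hp.uu w c hwu hc : ↥(T d.h)) : V ≃ₗ[F] V) f = f + w + c • u := by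
  show eich d.h u w c hp.uu hwu f = _
  rw [eich_apply_f d.h hp, d.h.symm w f, hwf, map_zero, zero_smul, sub_zero]

theorem eT_inj (d : UData σ H) {u f : V} (hp : HypPair H u f) {w w' : V} {c c' : F}
    (hwu : H w u = 0) (hwf : H w f = 0) (hc : c + σ c + H w w = 0)
    (hwu' : H w' u = 0) (hwf' : H w' f = 0) (hc' : c' + σ c' + H w' w' = 0)
    (he : eT d hp.uu w c hwu hc = eT d hp.uu w' c' hwu' hc') : w = w' ∧ c = c' := by
  have h1 : ((eT d hp.uu w c hwu hc : ↥(T d.h)) : V ≃ₗ[F] V) f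
      = ((eT d hp.uu w' c' hwu' hc' : ↥(T d.h)) : V ≃ₗ[F] V) f := by rw [he]
  rw [eT_apply_f d hp w c hwu hwf hc, eT_apply_f d hp w' c' hwu' hwf' hc', add_assoc, add_assoc,
    add_right_inj] at h1
  have h2 : H (w + c • u) f = H (w' + c' • u) f := by rw [h1]
  rw [d.h.add_left, d.h.add_left, d.h.smul_left, d.h.smul_left, hwf, hwf', hp.uv] at h2
  have hcc : c = c' := by simpa using h2
  rw [hcc] at h1
  exact ⟨add_right_cancel h1, hcc⟩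

theorem eT_mul (d : UData σ H) {u : V} (hu : H u u = 0) (w w' : V) (c c' : F)
    (hwu : H w u = 0) (hc : c + σ c + H w w = 0) (hwu' : H w' u = 0)
    (hc' : c' + σ c' + H w' w' = 0) :
    ∃ hc'' : (c + c' - H w' w) + σ (c + c' - H w' w) + H (w + w') (w + w') = 0,
      eT d hu w c hwu hc * eT d hu w' c' hwu' hc'
        = eT d hu (w + w') (c + c' - H w' w) (by rw [d.h.add_left, hwu, hwu', add_zero]) hc'' := by
  have hc'' : (c + c' - H w' w) + σ (c + c' - H w' w) + H (w + w') (w + w') = 0 := by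
    simp only [d.h.add_left, d.h.add_right, map_add, map_sub]
    rw [← d.h.symm w' w]
    linear_combination hc + hc'
  refine ⟨hc'', ?_⟩
  apply Subtype.ext
  show eich d.h u w c hu hwu * eich d.h u w' c' hu hwu' = _
  rw [eich_mul]
  rfl

theorem eT_mul_tT (d : UData σ H) {u : V} (hu : H u u = 0) (w : V) (c e : F)
    (hwu : H w u = 0) (hc : c + σ c + H w w = 0) (he : σ e = -e) :
    ∃ hc' : (c + e) + σ (c + e) + H w w = 0,
      eT d hu w c hwu hc * tT d hu e he = eT d hu w (c + e) hwu hc' := by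
  have hc' : (c + e) + σ (c + e) + H w w = 0 := by
    rw [map_add, he]
    linear_combination hc
  refine ⟨hc', ?_⟩
  apply Subtype.ext
  show eich d.h u w c hu hwu * tv d.h u e hu = eich d.h u w (c + e) hu hwu
  rw [← eich_zero, eich_mul]
  apply eich_congr d.h hu _ rfl (add_zero w)
  rw [d.h.zero_left, sub_zero]

end

section
variable {F : Type v} [Field F] [Fintype F] {σ : F ≃+* F} {V : Type u} [AddCommGroup V]
  [Module F V] [FiniteDimensional F V] {H : V → V → F} {𝔗 : Type w} [Group 𝔗]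

/-- an automorphism fixing the two points of a hyperbolic pair -/
structure NData (d : UData σ H) (ρ : ↥(T d.h) →* 𝔗) (α : 𝔗 ≃* 𝔗) (u f : V) : Prop where
  q : QMap d ρ
  hp : HypPair H u f
  hXu : (Xb d ρ u hp.uu).map α.toMonoidHom = Xb d ρ u hp.uu
  hXf : (Xb d ρ f hp.vv).map α.toMonoidHom = Xb d ρ f hp.vv

variable {d : UData σ H} {ρ : ↥(T d.h) →* 𝔗} {α : 𝔗 ≃* 𝔗} {u f : V}

theorem hyp_f_ne_zero (h : IsHerm σ H) {u f : V} (hp : HypPair H u f) : f ≠ 0 := by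
  rintro rfl
  have := hp.uv
  rw [h.zero_right] at this
  exact zero_ne_one this

theorem NData.hQu (n : NData d ρ α u f) (p : ℕ) [Fact p.Prime] [CharP F p] :
    (Qb d ρ u).map α.toMonoidHom = Qb d ρ u :=
  n.q.map_Qb p α n.hp.uu (hyp_u_ne_zero d.h n.hp) n.hp.uu (hyp_u_ne_zero d.h n.hp) n.hXu

theorem NData.lift_Q (n : NData d ρ α u f) (p : ℕ) [Fact p.Prime] [CharP F p] {g : ↥(T d.h)}
    (hg : g ∈ Qg d u) : ∃ g' ∈ Qg d u, α (ρ g) = ρ g' := by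
  have h1 : α (ρ g) ∈ (Qb d ρ u).map α.toMonoidHom := ⟨ρ g, ⟨g, hg, rfl⟩, rfl⟩
  rw [n.hQu p] at h1
  obtain ⟨g', hg', h2⟩ := h1
  exact ⟨g', hg', h2.symm⟩

theorem NData.lift_X (n : NData d ρ α u f) {g : ↥(T d.h)}
    (hg : g ∈ Xg d u n.hp.uu) : ∃ g' ∈ Xg d u n.hp.uu, α (ρ g) = ρ g' := by
  have h1 : α (ρ g) ∈ (Xb d ρ u n.hp.uu).map α.toMonoidHom := ⟨ρ g, ⟨g, hg, rfl⟩, rfl⟩
  rw [n.hXu] at h1
  obtain ⟨g', hg', h2⟩ := h1
  exact ⟨g', hg', h2.symm⟩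

theorem NData.inj_Q (n : NData d ρ α u f) (p : ℕ) [Fact p.Prime] [CharP F p] {g g' : ↥(T d.h)}
    (hg : g ∈ Qg d u) (hg' : g' ∈ Qg d u) (h : ρ g = ρ g') : g = g' :=
  n.q.inj_on p (isPGroup_Qg d p u (hyp_u_ne_zero d.h n.hp) n.hp.uu)
    (isPGroup_Qg d p u (hyp_u_ne_zero d.h n.hp) n.hp.uu) hg hg' h

/-- the action on the transvection group -/
theorem NData.exists_psi (n : NData d ρ α u f) :
    ∃ ψ : F → F, ∀ (e : F) (he : σ e = -e), ∃ he' : σ (ψ e) = -(ψ e),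
      α (ρ (tT d n.hp.uu e he)) = ρ (tT d n.hp.uu (ψ e) he') := by
  have h1 : ∀ e : F, ∃ e' : F, ∀ (he : σ e = -e), ∃ he' : σ e' = -e',
      α (ρ (tT d n.hp.uu e he)) = ρ (tT d n.hp.uu e' he') := by
    intro e
    by_cases he : σ e = -e
    · obtain ⟨g', ⟨e', he', hg'⟩, h2⟩ := n.lift_X (tT_mem d n.hp.uu e he)
      refine ⟨e', fun _ => ⟨he', ?_⟩⟩
      rw [h2]
      congr 1
      exact Subtype.ext hg'
    · exact ⟨0, fun h => absurd h he⟩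
  choose ψ hψ using h1
  exact ⟨ψ, hψ⟩

/-- the action on `Q_u`, pointwise -/
theorem NData.lift_eT (n : NData d ρ α u f) (p : ℕ) [Fact p.Prime] [CharP F p] (w : V) (c : F)
    (hwu : H w u = 0) (hc : c + σ c + H w w = 0) :
    ∃ (w' : V) (c' : F) (hwu' : H w' u = 0) (_ : H w' f = 0) (hc' : c' + σ c' + H w' w' = 0),
      α (ρ (eT d n.hp.uu w c hwu hc)) = ρ (eT d n.hp.uu w' c' hwu' hc') := by
  obtain ⟨g', hg', h1⟩ := n.lift_Q p (eT_mem d n.hp.uu w c hwu hc)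
  obtain ⟨w', c', hwu', hwf', hc', rfl⟩ := exists_eT d n.hp hg'
  exact ⟨w', c', hwu', hwf', hc', h1⟩

/-- the induced map on `W`, with its defining property -/
theorem NData.exists_Phi (n : NData d ρ α u f) (p : ℕ) [Fact p.Prime] [CharP F p] :
    ∃ Φ : V → V, ∀ (w : V) (c : F) (hwu : H w u = 0) (_ : H w f = 0)
      (hc : c + σ c + H w w = 0),
      ∃ (c' : F) (hwu' : H (Φ w) u = 0) (_ : H (Φ w) f = 0)
        (hc' : c' + σ c' + H (Φ w) (Φ w) = 0),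
        α (ρ (eT d n.hp.uu w c hwu hc)) = ρ (eT d n.hp.uu (Φ w) c' hwu' hc') := by
  have h1 : ∀ w : V, ∃ w' : V, ∀ (c : F) (hwu : H w u = 0) (_ : H w f = 0)
      (hc : c + σ c + H w w = 0),
      ∃ (c' : F) (hwu' : H w' u = 0) (_ : H w' f = 0) (hc' : c' + σ c' + H w' w' = 0),
        α (ρ (eT d n.hp.uu w c hwu hc)) = ρ (eT d n.hp.uu w' c' hwu' hc') := by
    intro w
    by_cases hw : H w u = 0 ∧ H w f = 0
    · obtain ⟨c₀, hc₀⟩ := exists_skew_c d w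
      obtain ⟨w', c₀', hwu', hwf', hc₀', h2⟩ := n.lift_eT p w c₀ hw.1 hc₀
      refine ⟨w', fun c hwu hwf hc => ?_⟩
      -- compare with the chosen parameter
      have he : σ (c - c₀) = -(c - c₀) := by
        rw [map_sub]
        linear_combination hc - hc₀
      obtain ⟨hc1, h3⟩ := eT_mul_tT d n.hp.uu w c₀ (c - c₀) hwu hc₀ he
      obtain ⟨g', ⟨e', he', hg'⟩, h4⟩ := n.lift_X (tT_mem d n.hp.uu (c - c₀) he)
      have hg'' : g' = tT d n.hp.uu e' he' := Subtype.ext hg'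
      obtain ⟨hc2, h5⟩ := eT_mul_tT d n.hp.uu w' c₀' e' hwu' hc₀' he'
      refine ⟨c₀' + e', hwu', hwf', hc2, ?_⟩
      have h6 : eT d n.hp.uu w c hwu hc = eT d n.hp.uu w c₀ hwu hc₀ * tT d n.hp.uu (c - c₀) he := by
        rw [h3]
        apply Subtype.ext
        show eich d.h u w c n.hp.uu hwu = eich d.h u w (c₀ + (c - c₀)) n.hp.uu hwu
        apply eich_congr d.h n.hp.uu hwu rfl rfl
        ring
      rw [h6, map_mul, map_mul, h2, h4, hg'', ← map_mul, h5]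
    · exact ⟨0, fun c hwu hwf _ => absurd ⟨hwu, hwf⟩ hw⟩
  choose Φ hΦ using h1
  exact ⟨Φ, hΦ⟩

end

section
variable {F : Type v} [Field F] [Fintype F] {σ : F ≃+* F} {V : Type u} [AddCommGroup V]
  [Module F V] [FiniteDimensional F V] {H : V → V → F} {𝔗 : Type w} [Group 𝔗]

/-- the defining property of the induced map on `W` -/
def PhiSpec (d : UData σ H) (ρ : ↥(T d.h) →* 𝔗) (α : 𝔗 ≃* 𝔗) {u f : V} (hp : HypPair H u f)
    (Φ : V → V) : Prop :=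
  ∀ (w : V) (c : F) (hwu : H w u = 0) (_ : H w f = 0) (hc : c + σ c + H w w = 0),
    ∃ (c' : F) (hwu' : H (Φ w) u = 0) (_ : H (Φ w) f = 0)
      (hc' : c' + σ c' + H (Φ w) (Φ w) = 0),
      α (ρ (eT d hp.uu w c hwu hc)) = ρ (eT d hp.uu (Φ w) c' hwu' hc')

/-- the defining property of the induced map on the transvection group -/
def PsiSpec (d : UData σ H) (ρ : ↥(T d.h) →* 𝔗) (α : 𝔗 ≃* 𝔗) {u : V} (hu : H u u = 0)
    (ψ : F → F) : Prop :=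
  ∀ (e : F) (he : σ e = -e), ∃ he' : σ (ψ e) = -(ψ e),
    α (ρ (tT d hu e he)) = ρ (tT d hu (ψ e) he')

variable {d : UData σ H} {ρ : ↥(T d.h) →* 𝔗} {α : 𝔗 ≃* 𝔗} {u f : V}

theorem PhiSpec.mem (n : NData d ρ α u f) {Φ : V → V} (hΦ : PhiSpec d ρ α n.hp Φ) {w : V}
    (hwu : H w u = 0) (hwf : H w f = 0) : H (Φ w) u = 0 ∧ H (Φ w) f = 0 := by
  obtain ⟨c, hc⟩ := exists_skew_c d w
  obtain ⟨c', h1, h2, -, -⟩ := hΦ w c hwu hwf hc
  exact ⟨h1, h2⟩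

theorem PhiSpec.add (n : NData d ρ α u f) (p : ℕ) [Fact p.Prime] [CharP F p] {Φ : V → V}
    (hΦ : PhiSpec d ρ α n.hp Φ) {w₁ w₂ : V} (h1u : H w₁ u = 0) (h1f : H w₁ f = 0)
    (h2u : H w₂ u = 0) (h2f : H w₂ f = 0) : Φ (w₁ + w₂) = Φ w₁ + Φ w₂ := by
  obtain ⟨c₁, hc₁⟩ := exists_skew_c d w₁
  obtain ⟨c₂, hc₂⟩ := exists_skew_c d w₂
  obtain ⟨c₁', h1u', h1f', hc₁', e1⟩ := hΦ w₁ c₁ h1u h1f hc₁
  obtain ⟨c₂', h2u', h2f', hc₂', e2⟩ := hΦ w₂ c₂ h2u h2f hc₂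
  obtain ⟨hc₃, e3⟩ := eT_mul d n.hp.uu w₁ w₂ c₁ c₂ h1u hc₁ h2u hc₂
  have h3u : H (w₁ + w₂) u = 0 := by rw [d.h.add_left, h1u, h2u, add_zero]
  have h3f : H (w₁ + w₂) f = 0 := by rw [d.h.add_left, h1f, h2f, add_zero]
  obtain ⟨c₃', h3u', h3f', hc₃', e4⟩ := hΦ (w₁ + w₂) _ h3u h3f hc₃
  obtain ⟨hc₄, e5⟩ := eT_mul d n.hp.uu (Φ w₁) (Φ w₂) c₁' c₂' h1u' hc₁' h2u' hc₂'
  have h4u : H (Φ w₁ + Φ w₂) u = 0 := by rw [d.h.add_left, h1u', h2u', add_zero]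
  have h4f : H (Φ w₁ + Φ w₂) f = 0 := by rw [d.h.add_left, h1f', h2f', add_zero]
  have e6 : ρ (eT d n.hp.uu (Φ (w₁ + w₂)) c₃' h3u' hc₃')
      = ρ (eT d n.hp.uu (Φ w₁ + Φ w₂) _ h4u hc₄) := by
    rw [← e4, ← e3, map_mul, map_mul, e1, e2, ← map_mul, e5]
  have e7 := n.inj_Q p (eT_mem d n.hp.uu _ _ h3u' hc₃') (eT_mem d n.hp.uu _ _ h4u hc₄) e6
  exact (eT_inj d n.hp h3u' h3f' hc₃' h4u h4f hc₄ e7).1

theorem eT_comm (d : UData σ H) {u : V} (hu : H u u = 0) (w₁ w₂ : V) (c₁ c₂ : F)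
    (h1u : H w₁ u = 0) (hc₁ : c₁ + σ c₁ + H w₁ w₁ = 0) (h2u : H w₂ u = 0)
    (hc₂ : c₂ + σ c₂ + H w₂ w₂ = 0) :
    ∃ he : σ (H w₁ w₂ - H w₂ w₁) = -(H w₁ w₂ - H w₂ w₁),
      eT d hu w₁ c₁ h1u hc₁ * eT d hu w₂ c₂ h2u hc₂
        = eT d hu w₂ c₂ h2u hc₂ * eT d hu w₁ c₁ h1u hc₁ * tT d hu (H w₁ w₂ - H w₂ w₁) he := by
  have he : σ (H w₁ w₂ - H w₂ w₁) = -(H w₁ w₂ - H w₂ w₁) := by
    rw [map_sub, ← d.h.symm w₁ w₂, ← d.h.symm w₂ w₁]
    ring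
  refine ⟨he, ?_⟩
  apply Subtype.ext
  show eich d.h u w₁ c₁ hu h1u * eich d.h u w₂ c₂ hu h2u
    = eich d.h u w₂ c₂ hu h2u * eich d.h u w₁ c₁ hu h1u * tv d.h u (H w₁ w₂ - H w₂ w₁) hu
  rw [← eich_zero, eich_mul, eich_mul, eich_mul]
  apply eich_congr d.h hu _ rfl
  · rw [add_zero, add_comm]
  · rw [d.h.zero_left]
    ring

theorem tT_inj (d : UData σ H) {u f : V} (hp : HypPair H u f) {e e' : F} (he : σ e = -e)
    (he' : σ e' = -e') (h : tT d hp.uu e he = tT d hp.uu e' he') : e = e' := by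
  have h1 : tv d.h u e hp.uu f = tv d.h u e' hp.uu f := by
    have := congrArg (fun g : ↥(T d.h) => (g : V ≃ₗ[F] V) f) h
    exact this
  rw [tv_apply, tv_apply, hp.vu d.h, mul_one, mul_one, add_right_inj] at h1
  have h2 : H (e • u) f = H (e' • u) f := by rw [h1]
  rw [d.h.smul_left, d.h.smul_left, hp.uv, mul_one, mul_one] at h2
  exact h2

/-- the induced maps respect the commutator pairing -/
theorem PhiSpec.pairing (n : NData d ρ α u f) (p : ℕ) [Fact p.Prime] [CharP F p] {Φ : V → V}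
    (hΦ : PhiSpec d ρ α n.hp Φ) {ψ : F → F} (hψ : PsiSpec d ρ α n.hp.uu ψ) {w₁ w₂ : V}
    (h1u : H w₁ u = 0) (h1f : H w₁ f = 0) (h2u : H w₂ u = 0) (h2f : H w₂ f = 0) :
    ψ (H w₁ w₂ - H w₂ w₁) = H (Φ w₁) (Φ w₂) - H (Φ w₂) (Φ w₁) := by
  obtain ⟨c₁, hc₁⟩ := exists_skew_c d w₁
  obtain ⟨c₂, hc₂⟩ := exists_skew_c d w₂
  obtain ⟨c₁', h1u', h1f', hc₁', e1⟩ := hΦ w₁ c₁ h1u h1f hc₁
  obtain ⟨c₂', h2u', h2f', hc₂', e2⟩ := hΦ w₂ c₂ h2u h2f hc₂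
  obtain ⟨he, e3⟩ := eT_comm d n.hp.uu w₁ w₂ c₁ c₂ h1u hc₁ h2u hc₂
  obtain ⟨he', e4⟩ := eT_comm d n.hp.uu (Φ w₁) (Φ w₂) c₁' c₂' h1u' hc₁' h2u' hc₂'
  obtain ⟨hψe, e5⟩ := hψ _ he
  have e6 := congrArg (fun g => α (ρ g)) e3
  simp only [map_mul] at e6
  rw [e1, e2, e5, ← map_mul, ← map_mul, ← map_mul, e4] at e6
  have hQ : ∀ g ∈ Qg d u, ∀ g' ∈ Qg d u, g * g' ∈ Qg d u := fun g hg g' hg' =>
    (Qg d u).mul_mem hg hg'
  have hm1 := eT_mem d n.hp.uu (Φ w₁) c₁' h1u' hc₁'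
  have hm2 := eT_mem d n.hp.uu (Φ w₂) c₂' h2u' hc₂'
  have e7 := n.inj_Q p
    (hQ _ (hQ _ hm2 _ hm1) _ (Xg_le_Qg d u n.hp.uu (tT_mem d n.hp.uu _ he')))
    (hQ _ (hQ _ hm2 _ hm1) _ (Xg_le_Qg d u n.hp.uu (tT_mem d n.hp.uu _ hψe))) e6
  have e8 := mul_left_cancel e7
  exact (tT_inj d n.hp he' hψe e8).symm

end

section
variable {F : Type v} [Field F] [Fintype F] {σ : F ≃+* F} {V : Type u} [AddCommGroup V]
  [Module F V] [FiniteDimensional F V] {H : V → V → F} {𝔗 : Type w} [Group 𝔗]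
  {d : UData σ H} {ρ : ↥(T d.h) →* 𝔗} {α : 𝔗 ≃* 𝔗} {u f : V}

theorem map_symm_eq {G : Type*} [Group G] (α : G ≃* G) {X : Subgroup G}
    (h : X.map α.toMonoidHom = X) : X.map α.symm.toMonoidHom = X := by
  conv_lhs => rw [← h]
  rw [Subgroup.map_map]
  have : α.symm.toMonoidHom.comp α.toMonoidHom = MonoidHom.id G := by
    ext x
    simp
  rw [this, Subgroup.map_id]

theorem NData.symm (n : NData d ρ α u f) : NData d ρ α.symm u f where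
  q := n.q
  hp := n.hp
  hXu := map_symm_eq α n.hXu
  hXf := map_symm_eq α n.hXf

/-- perpendicularity to a vector scaled by the isometry -/
theorem perp_of_scale (d : UData σ H) {l : ↥(T d.h)} {v : V} {a : F} (ha : a ≠ 0)
    (hlv : (l : V ≃ₗ[F] V) v = a • v) {w : V} (hw : H w v = 0) :
    H ((l : V ≃ₗ[F] V) w) v = 0 := by
  have h1 := T_le_isom d.h l.2 w v
  rw [hlv, d.h.smul_right, hw] at h1
  have hσa : σ a ≠ 0 := (map_ne_zero_iff _ σ.injective).2 ha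
  exact (mul_eq_zero.1 h1).resolve_left hσa

/-- if `l` stabilizes a point fixed by `α`, so does any lift of the image of `l` -/
theorem QMap.lift_stab (q : QMap d ρ) (p : ℕ) [Fact p.Prime] [CharP F p] {v : V} (hv : H v v = 0)
    (hv0 : v ≠ 0) (hXv : (Xb d ρ v hv).map α.toMonoidHom = Xb d ρ v hv) {l l' : ↥(T d.h)} {a : F}
    (ha : a ≠ 0) (hlv : (l : V ≃ₗ[F] V) v = a • v) (hρ : α (ρ l) = ρ l') :
    ∃ a' : F, a' ≠ 0 ∧ (l' : V ≃ₗ[F] V) v = a' • v := by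
  have h1 : Xb d ρ ((l' : V ≃ₗ[F] V) v) (T_iso' d l' hv) ≤ Xb d ρ v hv := by
    rw [← conj_Xb d ρ l' v hv]
    rintro _ ⟨x, hx, rfl⟩
    rw [← hXv] at hx
    obtain ⟨y, hy, rfl⟩ := hx
    have h2 : ρ l * y * (ρ l)⁻¹ ∈ Xb d ρ v hv := by
      have h3 : ρ l * y * (ρ l)⁻¹ ∈ (Xb d ρ v hv).map (MulAut.conj (ρ l)).toMonoidHom :=
        ⟨y, hy, rfl⟩
      rw [conj_Xb d ρ l v hv] at h3
      have h4 := Xb_smul d ρ v hv a ha
      have h5 : Xb d ρ ((l : V ≃ₗ[F] V) v) (T_iso' d l hv) = Xb d ρ (a • v) (iso_smul' d.h hv a) := by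
        congr 1
      rw [h5, h4] at h3
      exact h3
    have h6 : α (ρ l * y * (ρ l)⁻¹) ∈ Xb d ρ v hv := by
      rw [← hXv]
      exact ⟨_, h2, rfl⟩
    rw [map_mul, map_mul, map_inv, hρ] at h6
    exact h6
  have hl'v0 : (l' : V ≃ₗ[F] V) v ≠ 0 := equiv_ne_zero _ hv0
  obtain ⟨a', ha'⟩ := q.Xb_le p (T_iso' d l' hv) hv hl'v0 hv0 h1
  refine ⟨a', ?_, ha'⟩
  rintro rfl
  rw [zero_smul] at ha'
  exact hl'v0 ha'

theorem conj_eT (d : UData σ H) {u : V} (hu : H u u = 0) {l : ↥(T d.h)} {a : F} (ha : a ≠ 0)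
    (hlu : (l : V ≃ₗ[F] V) u = a • u) (w : V) (c : F) (hwu : H w u = 0)
    (hc : c + σ c + H w w = 0) :
    ∃ (hwu' : H (σ a • (l : V ≃ₗ[F] V) w) u = 0)
      (hc' : a * σ a * c + σ (a * σ a * c)
        + H (σ a • (l : V ≃ₗ[F] V) w) (σ a • (l : V ≃ₗ[F] V) w) = 0),
      l * eT d hu w c hwu hc * l⁻¹ = eT d hu (σ a • (l : V ≃ₗ[F] V) w) (a * σ a * c) hwu' hc' := by
  have hiso := T_le_isom d.h l.2
  have hlw : H ((l : V ≃ₗ[F] V) w) u = 0 := perp_of_scale d ha hlu hwu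
  have hwu' : H (σ a • (l : V ≃ₗ[F] V) w) u = 0 := by rw [d.h.smul_left, hlw, mul_zero]
  have hc' : a * σ a * c + σ (a * σ a * c)
      + H (σ a • (l : V ≃ₗ[F] V) w) (σ a • (l : V ≃ₗ[F] V) w) = 0 := by
    rw [d.h.smul_left, d.h.smul_right, hiso, map_mul, map_mul, d.hσ2]
    linear_combination (a * σ a) * hc
  refine ⟨hwu', hc', ?_⟩
  apply Subtype.ext
  show (l : V ≃ₗ[F] V) * eich d.h u w c hu hwu * (l : V ≃ₗ[F] V)⁻¹ = eich d.h u _ _ hu hwu'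
  rw [conj_eich d.h hiso]
  exact (eich_congr d.h _ _ hlu rfl rfl).trans (eich_smul_left d.h d.hσ2 u _ c a hu hlw)

/-- equivariance of the induced map under the Levi complement -/
theorem PhiSpec.equivariant (n : NData d ρ α u f) (p : ℕ) [Fact p.Prime] [CharP F p]
    {Φ : V → V} (hΦ : PhiSpec d ρ α n.hp Φ) {l l' : ↥(T d.h)} {a b a' b' : F} (ha : a ≠ 0)
    (hb : b ≠ 0) (ha' : a' ≠ 0) (hb' : b' ≠ 0) (hlu : (l : V ≃ₗ[F] V) u = a • u)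
    (hlf : (l : V ≃ₗ[F] V) f = b • f) (hl'u : (l' : V ≃ₗ[F] V) u = a' • u)
    (hl'f : (l' : V ≃ₗ[F] V) f = b' • f) (hρ : α (ρ l) = ρ l') {w : V} (hwu : H w u = 0)
    (hwf : H w f = 0) :
    Φ (σ a • (l : V ≃ₗ[F] V) w) = σ a' • (l' : V ≃ₗ[F] V) (Φ w) := by
  obtain ⟨c, hc⟩ := exists_skew_c d w
  obtain ⟨c', hwu', hwf', hc', e1⟩ := hΦ w c hwu hwf hc
  obtain ⟨h2u, hc₂, e2⟩ := conj_eT d n.hp.uu ha hlu w c hwu hc
  obtain ⟨h3u, hc₃, e3⟩ := conj_eT d n.hp.uu ha' hl'u (Φ w) c' hwu' hc'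
  have h2f : H (σ a • (l : V ≃ₗ[F] V) w) f = 0 := by
    rw [d.h.smul_left, perp_of_scale d hb hlf hwf, mul_zero]
  have h3f : H (σ a' • (l' : V ≃ₗ[F] V) (Φ w)) f = 0 := by
    rw [d.h.smul_left, perp_of_scale d hb' hl'f hwf', mul_zero]
  obtain ⟨c₄, h4u, h4f, hc₄, e4⟩ := hΦ _ _ h2u h2f hc₂
  have e5 : ρ (eT d n.hp.uu _ c₄ h4u hc₄) = ρ (eT d n.hp.uu _ _ h3u hc₃) := by
    rw [← e4, ← e2, map_mul, map_mul, map_mul, map_mul, map_inv, map_inv, hρ, e1, ← e3,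
      map_mul, map_mul, map_inv]
  have e6 := n.inj_Q p (eT_mem d n.hp.uu _ _ h4u hc₄) (eT_mem d n.hp.uu _ _ h3u hc₃) e5
  exact (eT_inj d n.hp h4u h4f hc₄ h3u h3f hc₃ e6).1

/-- the induced maps of `α` and of its inverse are mutually inverse -/
theorem PhiSpec.left_inv (n : NData d ρ α u f) (p : ℕ) [Fact p.Prime] [CharP F p]
    {Φ Φ' : V → V} (hΦ : PhiSpec d ρ α n.hp Φ) (hΦ' : PhiSpec d ρ α.symm n.hp Φ') {w : V}
    (hwu : H w u = 0) (hwf : H w f = 0) : Φ' (Φ w) = w := by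
  obtain ⟨c, hc⟩ := exists_skew_c d w
  obtain ⟨c', hwu', hwf', hc', e1⟩ := hΦ w c hwu hwf hc
  obtain ⟨c'', hwu'', hwf'', hc'', e2⟩ := hΦ' (Φ w) c' hwu' hwf' hc'
  rw [← e1, MulEquiv.symm_apply_apply] at e2
  have e3 := n.inj_Q p (eT_mem d n.hp.uu _ _ hwu hc) (eT_mem d n.hp.uu _ _ hwu'' hc'') e2
  exact (eT_inj d n.hp hwu hwf hc hwu'' hwf'' hc'' e3).1.symm

end

end Cfsg.Agent.Lib.Helper5.UAut
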