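import Mathlib
import Cfsg.Agent.Lib.Helper5.UAut8

set_option autoImplicit false

/-! Hyperbolic rotations and a semilinearity criterion. -/

namespace Cfsg.Agent.Lib.Helper5.UAut

open Module Cfsg.Agent.Lib.Helper2 Cfsg.Agent.Lib.Helper2.UT Cfsg.Agent.Lib.Helper2.IsomDecomp
  Cfsg.Agent.Lib.Helper2.HermDecomp Cfsg.Agent.Lib.Helper5.PSLCoset

universe u v w

section
variable {F : Type v} [Field F] {σ : F ≃+* F} {V : Type u} [AddCommGroup V] [Module F V]
  {H : V → V → F}

theorem hrot_unit1 (h : IsHerm σ H) {u f : V} (hp : HypPair H u f) (a : F) (ha : a ≠ 0) :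
    IsUnit (1 + ((a - 1) • h.toDual f) u) := by
  rw [LinearMap.smul_apply, IsHerm.toDual_apply, hp.uv, smul_eq_mul, mul_one, add_sub_cancel]
  exact IsUnit.mk0 a ha

theorem hrot_unit2 (h : IsHerm σ H) {u f : V} (hp : HypPair H u f) (a : F) (ha : a ≠ 0) :
    IsUnit (1 + (((σ a)⁻¹ - 1) • h.toDual u) f) := by
  rw [LinearMap.smul_apply, IsHerm.toDual_apply, hp.vu h, smul_eq_mul, mul_one, add_sub_cancel]
  exact IsUnit.mk0 _ (inv_ne_zero ((map_ne_zero_iff _ σ.injective).2 ha))

/-- the hyperbolic rotation `u ↦ a u`, `f ↦ σ(a)⁻¹ f` -/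
noncomputable def hrot (h : IsHerm σ H) {u f : V} (hp : HypPair H u f) (a : F) (ha : a ≠ 0) :
    V ≃ₗ[F] V :=
  LinearEquiv.dilatransvection (hrot_unit1 h hp a ha) *
    LinearEquiv.dilatransvection (hrot_unit2 h hp a ha)

theorem hrot_apply (h : IsHerm σ H) {u f : V} (hp : HypPair H u f) (a : F) (ha : a ≠ 0) (x : V) :
    hrot h hp a ha x = x + ((a - 1) * H x f) • u + (((σ a)⁻¹ - 1) * H x u) • f := by
  unfold hrot
  rw [LinearEquiv.mul_apply, LinearEquiv.dilatransvection.apply,
    LinearEquiv.dilatransvection.apply]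
  simp only [LinearMap.smul_apply, IsHerm.toDual_apply, smul_eq_mul, h.add_left, h.smul_left,
    hp.vv, mul_zero, add_zero]
  abel

theorem hrot_u (h : IsHerm σ H) {u f : V} (hp : HypPair H u f) (a : F) (ha : a ≠ 0) :
    hrot h hp a ha u = a • u := by
  rw [hrot_apply, hp.uv, hp.uu, mul_one, mul_zero, zero_smul, add_zero]
  module

theorem hrot_f (h : IsHerm σ H) {u f : V} (hp : HypPair H u f) (a : F) (ha : a ≠ 0) :
    hrot h hp a ha f = (σ a)⁻¹ • f := by
  rw [hrot_apply, hp.vv, hp.vu h, mul_one, mul_zero, zero_smul, add_zero]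
  module

theorem hrot_perp (h : IsHerm σ H) {u f : V} (hp : HypPair H u f) (a : F) (ha : a ≠ 0) {x : V}
    (hxu : H x u = 0) (hxf : H x f = 0) : hrot h hp a ha x = x := by
  rw [hrot_apply, hxu, hxf, mul_zero, mul_zero, zero_smul, zero_smul, add_zero, add_zero]

theorem hrot_mem_isom (h : IsHerm σ H) (hσ2 : ∀ a : F, σ (σ a) = a) {u f : V}
    (hp : HypPair H u f) (a : F) (ha : a ≠ 0) : hrot h hp a ha ∈ isom H := by
  intro x y
  have hσa : σ a ≠ 0 := (map_ne_zero_iff _ σ.injective).2 ha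
  rw [hrot_apply, hrot_apply]
  simp only [h.add_left, h.add_right, h.smul_left, h.smul_right, hp.uu, hp.vv, hp.uv, hp.vu h,
    map_mul, map_sub, map_one, map_inv₀, hσ2]
  rw [h.symm y f, h.symm y u]
  field_simp
  ring

theorem det_hrot [FiniteDimensional F V] (h : IsHerm σ H) {u f : V} (hp : HypPair H u f) (a : F)
    (ha : a ≠ 0) : (LinearEquiv.det (hrot h hp a ha) : F) = a * (σ a)⁻¹ := by
  unfold hrot
  rw [map_mul, Units.val_mul, LinearEquiv.coe_det, LinearEquiv.coe_det,
    LinearEquiv.dilatransvection.coe_toLinearMap, LinearEquiv.dilatransvection.coe_toLinearMap,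
    LinearMap.transvection.det, LinearMap.transvection.det]
  rw [LinearMap.smul_apply, IsHerm.toDual_apply, hp.uv, smul_eq_mul, mul_one, add_sub_cancel,
    LinearMap.smul_apply, IsHerm.toDual_apply, hp.vu h, smul_eq_mul, mul_one, add_sub_cancel]

end

section
variable {F : Type v} [Field F] {M : Type u} [AddCommGroup M] [Module F M]

/-- the scalars with respect to which an additive map is semilinear -/
def semiRing (φ : F → M) (hadd : ∀ s t, φ (s + t) = φ s + φ t) : Subring F where
  carrier := {a | ∃ a' : F, ∀ t, φ (a * t) = a' • φ t}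
  mul_mem' := by
    rintro a b ⟨a', ha⟩ ⟨b', hb⟩
    refine ⟨a' * b', fun t => ?_⟩
    rw [mul_assoc, ha, hb, smul_smul]
  one_mem' := ⟨1, fun t => by rw [one_mul, one_smul]⟩
  add_mem' := by
    rintro a b ⟨a', ha⟩ ⟨b', hb⟩
    refine ⟨a' + b', fun t => ?_⟩
    rw [add_mul, hadd, ha, hb, add_smul]
  zero_mem' := by
    refine ⟨0, fun t => ?_⟩
    have h0 : φ 0 = 0 := by
      have := hadd 0 0
      rw [add_zero] at this
      exact left_eq_add.1 this
    rw [zero_mul, zero_smul, h0]
  neg_mem' := by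
    rintro a ⟨a', ha⟩
    refine ⟨-a', fun t => ?_⟩
    have h0 : φ 0 = 0 := by
      have := hadd 0 0
      rw [add_zero] at this
      exact left_eq_add.1 this
    have h1 := hadd (a * t) (-a * t)
    rw [neg_mul, add_neg_cancel, h0, ha] at h1
    rw [neg_mul, neg_smul]
    exact (neg_eq_of_add_eq_zero_right h1.symm).symm

theorem mem_semiRing (φ : F → M) (hadd : ∀ s t, φ (s + t) = φ s + φ t) (a : F) :
    a ∈ semiRing φ hadd ↔ ∃ a' : F, ∀ t, φ (a * t) = a' • φ t := Iff.rfl

/-- an additive map on a finite field which is semilinear for all scalars comes with a field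
automorphism -/
theorem exists_ringEquiv_of_semiRing [Finite F] (φ : F → M)
    (hadd : ∀ s t, φ (s + t) = φ s + φ t) (h1 : φ 1 ≠ 0) (htop : semiRing φ hadd = ⊤) :
    ∃ τ : F ≃+* F, ∀ a t, φ (a * t) = τ a • φ t := by
  have hall : ∀ a : F, ∃ a' : F, ∀ t, φ (a * t) = a' • φ t := by
    intro a
    have : a ∈ semiRing φ hadd := by rw [htop]; trivial
    exact this
  choose τ hτ using hall
  have hinj : ∀ a b : F, a • φ 1 = b • φ 1 → a = b := fun a b hab =>
    smul_left_injective F h1 hab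
  have hτ1 : ∀ a, φ a = τ a • φ 1 := by
    intro a
    have := hτ a 1
    rwa [mul_one] at this
  let τr : F →+* F :=
    { toFun := τ
      map_one' := by
        apply hinj
        rw [← hτ1, one_smul]
      map_mul' := by
        intro a b
        apply hinj
        rw [← hτ1, hτ a b, hτ1 b, smul_smul]
      map_zero' := by
        apply hinj
        have h0 : φ 0 = 0 := by
          have := hadd 0 0
          rw [add_zero] at this
          exact left_eq_add.1 this
        rw [← hτ1, zero_smul, h0]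
      map_add' := by
        intro a b
        apply hinj
        rw [← hτ1, hadd, hτ1 a, hτ1 b, add_smul] }
  have hbij : Function.Bijective τr := by
    rw [← Finite.injective_iff_bijective]
    exact τr.injective
  exact ⟨RingEquiv.ofBijective τr hbij, hτ⟩

/-- a subring containing the fixed field of `σ` and a non-fixed element is everything -/
theorem subring_eq_top_of_fixed {σ : F ≃+* F} (hσ2 : ∀ a : F, σ (σ a) = a) (K : Subring F)
    (hfix : ∀ a : F, σ a = a → a ∈ K) {θ : F} (hθ : θ ∈ K) (hθσ : σ θ ≠ θ) : K = ⊤ := by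
  rw [eq_top_iff]
  intro a _
  have hne : θ - σ θ ≠ 0 := sub_ne_zero.2 (Ne.symm hθσ)
  obtain ⟨t, ht⟩ : ∃ t, t = (a - σ a) / (θ - σ θ) := ⟨_, rfl⟩
  have htσ : σ t = t := by
    rw [ht, map_div₀, map_sub, map_sub, hσ2, hσ2]
    rw [div_eq_div_iff (by rw [← neg_sub]; exact neg_ne_zero.2 hne) hne]
    ring
  have hs : σ (a - t * θ) = a - t * θ := by
    rw [map_sub, map_mul, htσ]
    have : t * (θ - σ θ) = a - σ a := by rw [ht, div_mul_cancel₀ _ hne]
    linear_combination this
  have : a = (a - t * θ) + t * θ := by ring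
  rw [this]
  exact K.add_mem (hfix _ hs) (K.mul_mem (hfix _ htσ) hθ)

/-- a subring containing all squares is everything -/
theorem subring_eq_top_of_squares [Finite F] (K : Subring F) (hsq : ∀ a : F, a * a ∈ K) :
    K = ⊤ := by
  rw [eq_top_iff]
  intro a _
  by_cases h2 : (2 : F) = 0
  · haveI : Fintype F := Fintype.ofFinite F
    have hchar : ringChar F = 2 := by
      have hp := CharP.ringChar_of_prime_eq_zero Nat.prime_two (R := F) (by exact_mod_cast h2)
      exact hp
    obtain ⟨b, hb⟩ := FiniteField.isSquare_of_char_two hchar a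
    rw [hb]
    exact hsq b
  · have : a = ((a + 1) / 2) * ((a + 1) / 2) - ((a - 1) / 2) * ((a - 1) / 2) := by
      field_simp
      ring
    rw [this]
    exact K.sub_mem (hsq _) (hsq _)

end

section
variable {F : Type v} [Field F] [Fintype F] {σ : F ≃+* F} {V : Type u} [AddCommGroup V]
  [Module F V] [FiniteDimensional F V] {H : V → V → F}

/-- a hyperbolic partner inside `W` -/
theorem exists_partner_W (d : UData σ H) {u f : V} (hp : HypPair H u f) {x : V}
    (hxu : H x u = 0) (hxf : H x f = 0) (hxx : H x x = 0) (hx0 : x ≠ 0) :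
    ∃ x', H x' u = 0 ∧ H x' f = 0 ∧ HypPair H x x' := by
  obtain ⟨y, -, hxy⟩ := HermFrames.exists_hyp_partner d.hσ d.h d.hnd x hx0 hxx
  obtain ⟨w, hw⟩ : ∃ w, w = y - H y f • u - H y u • f := ⟨_, rfl⟩
  have hux : H u x = 0 := by rw [d.h.symm x u, hxu, map_zero]
  have hfx : H f x = 0 := by rw [d.h.symm x f, hxf, map_zero]
  have hwu : H w u = 0 := by
    rw [hw, d.h.sub_left, d.h.sub_left, d.h.smul_left, d.h.smul_left, hp.uu, hp.vu d.h]
    ring
  have hwf : H w f = 0 := by
    rw [hw, d.h.sub_left, d.h.sub_left, d.h.smul_left, d.h.smul_left, hp.uv, hp.vv]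
    ring
  have hxw : H x w = 1 := by
    rw [hw, d.h.sub_right, d.h.sub_right, d.h.smul_right, d.h.smul_right, hxu, hxf, hxy]
    ring
  have hwx : H w x = 1 := by rw [d.h.symm x w, hxw, map_one]
  obtain ⟨t, ht⟩ := exists_skew_c d w
  refine ⟨w + t • x, ?_, ?_, hxx, ?_, ?_⟩
  · rw [d.h.add_left, d.h.smul_left, hwu, hxu, mul_zero, add_zero]
  · rw [d.h.add_left, d.h.smul_left, hwf, hxf, mul_zero, add_zero]
  · simp only [d.h.add_left, d.h.add_right, d.h.smul_left, d.h.smul_right, hxx, hxw, hwx]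
    linear_combination ht
  · rw [d.h.add_right, d.h.smul_right, hxx, hxw, mul_zero, add_zero]

/-- bridging inside `W` -/
theorem W_bridge (d : UData σ H) {u f : V} (hp : HypPair H u f) {a b : V}
    (ha : a ∈ Wsub d.h u f) (hb : b ∈ Wsub d.h u f) (haa : H a a = 0) (ha0 : a ≠ 0)
    (hb0 : b ≠ 0) (hab : H a b = 0) :
    ∃ c ∈ Wsub d.h u f, H c c = 0 ∧ H a c ≠ 0 ∧ H c b ≠ 0 := by
  haveI : Finite F := Finite.of_fintype F
  obtain ⟨c, hcc, hac, hcb⟩ := exists_bridge d.hσ (isHerm_restrict d.h (Wsub d.h u f))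
    (Wsub_nondeg d.hσ d.h d.hnd hp) (a := ⟨a, ha⟩) (b := ⟨b, hb⟩) haa
    (fun h0 => ha0 (congrArg Subtype.val h0)) (fun h0 => hb0 (congrArg Subtype.val h0)) hab
  exact ⟨c.1, c.2, hcc, hac, hcb⟩

/-- `W` is spanned by its isotropic vectors -/
theorem W_span_iso (d : UData σ H) {u f : V} (hp : HypPair H u f) (hdim : 4 ≤ finrank F V) :
    Wsub d.h u f ≤ Submodule.span F {v : V | v ∈ Wsub d.h u f ∧ H v v = 0} := by
  haveI : Finite F := Finite.of_fintype F
  have hfr := finrank_Wsub d.hσ d.h d.hnd hp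
  have h1 := span_iso d.hσ (isHerm_restrict d.h (Wsub d.h u f)) (Wsub_nondeg d.hσ d.h d.hnd hp)
    (by omega)
  intro x hx
  have h2 : (⟨x, hx⟩ : ↥(Wsub d.h u f)) ∈ Submodule.span F
      {v : ↥(Wsub d.h u f) | H (v : V) (v : V) = 0} := by
    rw [h1]; trivial
  have h3 : x ∈ (Submodule.span F {v : ↥(Wsub d.h u f) | H (v : V) (v : V) = 0}).map
      (Wsub d.h u f).subtype := ⟨_, h2, rfl⟩
  rw [Submodule.map_span] at h3
  refine Submodule.span_mono ?_ h3
  rintro _ ⟨v, hv, rfl⟩
  exact ⟨v.2, hv⟩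

end

end Cfsg.Agent.Lib.Helper5.UAut
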