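import Mathlib
import Cfsg.Agent.Lib.Helper5.UAut9

set_option autoImplicit false

/-! Semilinearity of the map induced on `W`. -/

namespace Cfsg.Agent.Lib.Helper5.UAut

open Module Cfsg.Agent.Lib.Helper2 Cfsg.Agent.Lib.Helper2.UT Cfsg.Agent.Lib.Helper2.IsomDecomp
  Cfsg.Agent.Lib.Helper2.HermDecomp Cfsg.Agent.Lib.Helper5.PSLCoset

universe u w

section
variable {F : Type u} [Field F] [Fintype F] {σ : F ≃+* F} {V : Type u} [AddCommGroup V]
  [Module F V] [FiniteDimensional F V] {H : V → V → F} {𝔗 : Type w} [Group 𝔗]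

/-- the maps induced by `α` and its inverse on `W`, and by `α` on the transvection group -/
structure PhiData (d : UData σ H) (ρ : ↥(T d.h) →* 𝔗) (α : 𝔗 ≃* 𝔗) {u f : V}
    (hp : HypPair H u f) (Φ Φ' : V → V) (ψ : F → F) : Prop where
  spec : PhiSpec d ρ α hp Φ
  spec' : PhiSpec d ρ α.symm hp Φ'
  psi : PsiSpec d ρ α hp.uu ψ

variable {d : UData σ H} {ρ : ↥(T d.h) →* 𝔗} {α : 𝔗 ≃* 𝔗} {u f : V}

theorem NData.exists_phiData (n : NData d ρ α u f) (p : ℕ) [Fact p.Prime] [CharP F p] :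
    ∃ (Φ Φ' : V → V) (ψ : F → F), PhiData d ρ α n.hp Φ Φ' ψ := by
  obtain ⟨Φ, hΦ⟩ := n.exists_Phi p
  obtain ⟨Φ', hΦ'⟩ := n.symm.exists_Phi p
  obtain ⟨ψ, hψ⟩ := n.exists_psi
  exact ⟨Φ, Φ', ψ, hΦ, hΦ', hψ⟩

variable {Φ Φ' : V → V} {ψ : F → F}

theorem PhiData.zero (n : NData d ρ α u f) (p : ℕ) [Fact p.Prime] [CharP F p]
    (D : PhiData d ρ α n.hp Φ Φ' ψ) : Φ 0 = 0 := by
  have h0u : H (0 : V) u = 0 := d.h.zero_left u
  have h0f : H (0 : V) f = 0 := d.h.zero_left f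
  have := D.spec.add n p h0u h0f h0u h0f
  rw [add_zero] at this
  exact left_eq_add.1 this

theorem PhiData.zero' (n : NData d ρ α u f) (p : ℕ) [Fact p.Prime] [CharP F p]
    (D : PhiData d ρ α n.hp Φ Φ' ψ) : Φ' 0 = 0 := by
  have h0u : H (0 : V) u = 0 := d.h.zero_left u
  have h0f : H (0 : V) f = 0 := d.h.zero_left f
  have := D.spec'.add n.symm p h0u h0f h0u h0f
  rw [add_zero] at this
  exact left_eq_add.1 this

theorem PhiData.inj (n : NData d ρ α u f) (p : ℕ) [Fact p.Prime] [CharP F p]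
    (D : PhiData d ρ α n.hp Φ Φ' ψ) {w : V} (hwu : H w u = 0) (hwf : H w f = 0)
    (h0 : Φ w = 0) : w = 0 := by
  have := D.spec.left_inv n p D.spec' hwu hwf
  rw [h0, D.zero' n p] at this
  exact this.symm

theorem smul_perp (h : IsHerm σ H) {x v : V} (hx : H x v = 0) (t : F) : H (t • x) v = 0 := by
  rw [h.smul_left, hx, mul_zero]

/-- additivity along a line of `W` -/
theorem PhiData.add_line (n : NData d ρ α u f) (p : ℕ) [Fact p.Prime] [CharP F p]
    (D : PhiData d ρ α n.hp Φ Φ' ψ) {x : V} (hxu : H x u = 0) (hxf : H x f = 0) (s t : F) :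
    Φ ((s + t) • x) = Φ (s • x) + Φ (t • x) := by
  rw [add_smul]
  exact D.spec.add n p (smul_perp d.h hxu s) (smul_perp d.h hxf s) (smul_perp d.h hxu t)
    (smul_perp d.h hxf t)

/-- a torus element scaling the line of `x` yields a scalar for which `Φ` is semilinear -/
theorem PhiData.line_scalar (n : NData d ρ α u f) (p : ℕ) [Fact p.Prime] [CharP F p]
    (D : PhiData d ρ α n.hp Φ Φ' ψ) {x x₁ : V} (hxu : H x u = 0) (hxf : H x f = 0)
    (hx0 : x ≠ 0) (hline : ∀ t : F, ∃ s : F, Φ (t • x) = s • x₁)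
    {l : ↥(T d.h)} {a b e : F} (ha : a ≠ 0) (hb : b ≠ 0) (hlu : (l : V ≃ₗ[F] V) u = a • u)
    (hlf : (l : V ≃ₗ[F] V) f = b • f) (hlx : σ a • (l : V ≃ₗ[F] V) x = e • x) :
    ∃ e' : F, ∀ t : F, Φ ((e * t) • x) = e' • Φ (t • x) := by
  obtain ⟨l', hl'⟩ := n.q.surj (α (ρ l))
  obtain ⟨a', ha', hl'u⟩ := n.q.lift_stab p n.hp.uu (hyp_u_ne_zero d.h n.hp) n.hXu ha hlu hl'.symm
  obtain ⟨b', hb', hl'f⟩ := n.q.lift_stab p n.hp.vv (hyp_f_ne_zero d.h n.hp) n.hXf hb hlf hl'.symm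
  have hequiv : ∀ w : V, H w u = 0 → H w f = 0 →
      Φ (σ a • (l : V ≃ₗ[F] V) w) = σ a' • (l' : V ≃ₗ[F] V) (Φ w) := fun w hwu hwf =>
    D.spec.equivariant n p ha hb ha' hb' hlu hlf hl'u hl'f hl'.symm hwu hwf
  obtain ⟨s₁, hs₁⟩ := hline 1
  rw [one_smul] at hs₁
  have hs₁0 : s₁ ≠ 0 := by
    rintro rfl
    rw [zero_smul] at hs₁
    exact hx0 (D.inj n p hxu hxf hs₁)
  obtain ⟨se, hse⟩ := hline e
  have h1 := hequiv x hxu hxf
  rw [hlx, hse, hs₁, map_smul, smul_comm] at h1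
  have h2 : σ a' • (l' : V ≃ₗ[F] V) x₁ = (s₁⁻¹ * se) • x₁ := by
    rw [← smul_smul, h1, smul_smul, inv_mul_cancel₀ hs₁0, one_smul]
  refine ⟨s₁⁻¹ * se, fun t => ?_⟩
  obtain ⟨st, hst⟩ := hline t
  have h3 := hequiv (t • x) (smul_perp d.h hxu t) (smul_perp d.h hxf t)
  have h4 : σ a • (l : V ≃ₗ[F] V) (t • x) = (e * t) • x := by
    rw [map_smul, smul_comm, hlx, smul_smul, mul_comm]
  rw [h4, hst, map_smul, smul_comm, h2, smul_comm] at h3
  rw [hst]
  exact h3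

end

section
variable {F : Type u} [Field F] [Fintype F] {σ : F ≃+* F} {V : Type u} [AddCommGroup V]
  [Module F V] [FiniteDimensional F V] {H : V → V → F}

/-- a torus element attached to two orthogonal hyperbolic pairs -/
theorem exists_torus_hyp (d : UData σ H) {u f x x' : V} (hp : HypPair H u f)
    (hp₂ : HypPair H x x') (hxu : H x u = 0) (hxf : H x f = 0) (hx'u : H x' u = 0)
    (hx'f : H x' f = 0) (a : F) (ha : a ≠ 0) :
    ∃ l : ↥(T d.h), (l : V ≃ₗ[F] V) u = a • u ∧ (l : V ≃ₗ[F] V) f = (σ a)⁻¹ • f ∧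
      (l : V ≃ₗ[F] V) x = σ a • x := by
  have hσa : σ a ≠ 0 := (map_ne_zero_iff _ σ.injective).2 ha
  have hux : H u x = 0 := by rw [d.h.symm x u, hxu, map_zero]
  have hfx : H f x = 0 := by rw [d.h.symm x f, hxf, map_zero]
  have hux' : H u x' = 0 := by rw [d.h.symm x' u, hx'u, map_zero]
  have hfx' : H f x' = 0 := by rw [d.h.symm x' f, hx'f, map_zero]
  have hiso : hrot d.h hp a ha * hrot d.h hp₂ (σ a) hσa ∈ isom H :=
    (isom H).mul_mem (hrot_mem_isom d.h d.hσ2 hp a ha) (hrot_mem_isom d.h d.hσ2 hp₂ (σ a) hσa)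
  have hdet : LinearEquiv.det (hrot d.h hp a ha * hrot d.h hp₂ (σ a) hσa) = 1 := by
    apply Units.ext
    rw [map_mul, Units.val_mul, det_hrot, det_hrot, d.hσ2, Units.val_one]
    field_simp
  refine ⟨⟨_, mem_T_of d _ hiso hdet⟩, ?_, ?_, ?_⟩
  · show (hrot d.h hp a ha * hrot d.h hp₂ (σ a) hσa) u = a • u
    rw [LinearEquiv.mul_apply, hrot_perp d.h hp₂ (σ a) hσa hux hux', hrot_u]
  · show (hrot d.h hp a ha * hrot d.h hp₂ (σ a) hσa) f = (σ a)⁻¹ • f
    rw [LinearEquiv.mul_apply, hrot_perp d.h hp₂ (σ a) hσa hfx hfx', hrot_f]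
  · show (hrot d.h hp a ha * hrot d.h hp₂ (σ a) hσa) x = σ a • x
    rw [LinearEquiv.mul_apply, hrot_u, map_smul, hrot_perp d.h hp a ha hxu hxf]

/-- a torus element attached to a hyperbolic pair and an orthogonal unit vector -/
theorem exists_torus_unit (d : UData σ H) {u f z : V} (hp : HypPair H u f)
    (hzz : H z z = 1) (hzu : H z u = 0) (hzf : H z f = 0) (a : F) (ha : a ≠ 0) :
    ∃ l : ↥(T d.h), (l : V ≃ₗ[F] V) u = a • u ∧ (l : V ≃ₗ[F] V) f = (σ a)⁻¹ • f ∧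
      (l : V ≃ₗ[F] V) z = (σ a / a) • z := by
  have hσa : σ a ≠ 0 := (map_ne_zero_iff _ σ.injective).2 ha
  have huz : H u z = 0 := by rw [d.h.symm z u, hzu, map_zero]
  have hfz : H f z = 0 := by rw [d.h.symm z f, hzf, map_zero]
  have hb : σ a / a ≠ 0 := div_ne_zero hσa ha
  have hbn : σ a / a * σ (σ a / a) = 1 := by
    rw [map_div₀, d.hσ2]
    field_simp
  have hiso : hrot d.h hp a ha * qr d.h z (σ a / a) hzz hb ∈ isom H :=
    (isom H).mul_mem (hrot_mem_isom d.h d.hσ2 hp a ha) (qr_mem_isom d.h z _ hzz hb hbn)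
  have hdet : LinearEquiv.det (hrot d.h hp a ha * qr d.h z (σ a / a) hzz hb) = 1 := by
    apply Units.ext
    rw [map_mul, Units.val_mul, det_hrot, det_qr, Units.val_one]
    field_simp
  refine ⟨⟨_, mem_T_of d _ hiso hdet⟩, ?_, ?_, ?_⟩
  · show (hrot d.h hp a ha * qr d.h z (σ a / a) hzz hb) u = a • u
    rw [LinearEquiv.mul_apply, qr_apply, huz, mul_zero, zero_smul, add_zero, hrot_u]
  · show (hrot d.h hp a ha * qr d.h z (σ a / a) hzz hb) f = (σ a)⁻¹ • f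
    rw [LinearEquiv.mul_apply, qr_apply, hfz, mul_zero, zero_smul, add_zero, hrot_f]
  · show (hrot d.h hp a ha * qr d.h z (σ a / a) hzz hb) z = (σ a / a) • z
    rw [LinearEquiv.mul_apply, qr_apply, hzz, mul_one, map_add, map_smul,
      hrot_perp d.h hp a ha hzu hzf]
    module

/-- when the fixed field has more than two elements, some cube is not fixed -/
theorem exists_cube_ne (d : UData σ H) (hbig : ∃ c : F, σ c = c ∧ c ≠ 0 ∧ c ≠ 1) :
    ∃ a : F, a ^ 3 ≠ σ a ^ 3 := by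
  obtain ⟨θ, hθ⟩ := exists_not_fixed d
  obtain ⟨c, hc, hc0, hc1⟩ := hbig
  by_contra hcon
  push Not at hcon
  by_cases h3 : (3 : F) = 0
  · have h1 := hcon θ
    have h2 : (θ - σ θ) ^ 3 = 0 := by
      have : (θ - σ θ) ^ 3 = θ ^ 3 - σ θ ^ 3 - 3 * (θ ^ 2 * σ θ - θ * σ θ ^ 2) := by ring
      rw [this, h1, h3]
      ring
    have h4 : θ - σ θ = 0 := by
      rcases pow_eq_zero_iff (n := 3) (by norm_num) |>.1 h2 with h
      exact h
    exact hθ (sub_eq_zero.1 h4).symm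
  · have ha := hcon θ
    have hb := hcon (θ + 1)
    have hcc := hcon (θ + c)
    rw [map_add, map_one] at hb
    rw [map_add, hc] at hcc
    have h5 : 3 * c * (c - 1) * (σ θ - θ) = 0 := by
      linear_combination (-1 : F) * hcc + c * hb - (c - 1) * ha
    have h6 : 3 * c * (c - 1) ≠ 0 :=
      mul_ne_zero (mul_ne_zero h3 hc0) (sub_ne_zero.2 hc1)
    exact hθ (sub_eq_zero.1 ((mul_eq_zero.1 h5).resolve_left h6))

end

section
variable {F : Type u} [Field F] [Fintype F] {σ : F ≃+* F} {V : Type u} [AddCommGroup V]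
  [Module F V] [FiniteDimensional F V] {H : V → V → F} {𝔗 : Type w} [Group 𝔗]
  {d : UData σ H} {ρ : ↥(T d.h) →* 𝔗} {α : 𝔗 ≃* 𝔗} {u f : V} {Φ Φ' : V → V} {ψ : F → F}

/-- the image of a point perpendicular to a fixed point is perpendicular to it -/
theorem QMap.map_perp (q : QMap d ρ) (p : ℕ) [Fact p.Prime] [CharP F p] {x x₁ v : V}
    (hx : H x x = 0) (hx0 : x ≠ 0) (hx₁ : H x₁ x₁ = 0) (hx₁0 : x₁ ≠ 0) (hv : H v v = 0)
    (hv0 : v ≠ 0) (hXx : (Xb d ρ x hx).map α.toMonoidHom = Xb d ρ x₁ hx₁)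
    (hXv : (Xb d ρ v hv).map α.toMonoidHom = Xb d ρ v hv) (hxv : H x v = 0) : H x₁ v = 0 := by
  rw [← q.Xb_comm_iff p hx₁ hv hx₁0 hv0]
  have h1 := (q.Xb_comm_iff p hx hv hx0 hv0).2 hxv
  intro a ha b hb
  rw [← hXx] at ha
  rw [← hXv] at hb
  obtain ⟨a₀, ha₀, rfl⟩ := ha
  obtain ⟨b₀, hb₀, rfl⟩ := hb
  show α a₀ * α b₀ = α b₀ * α a₀
  rw [← map_mul, ← map_mul, h1 a₀ ha₀ b₀ hb₀]

/-- the image of an isotropic line of `W` lies in a line -/
theorem PhiData.iso_line (n : NData d ρ α u f) (p : ℕ) [Fact p.Prime] [CharP F p]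
    (D : PhiData d ρ α n.hp Φ Φ' ψ) {x : V} (hxu : H x u = 0) (hxf : H x f = 0)
    (hxx : H x x = 0) (hx0 : x ≠ 0) : ∃ x₁ : V, ∀ t : F, ∃ s : F, Φ (t • x) = s • x₁ := by
  obtain ⟨x₁, hx₁, hx₁0, hXx⟩ := n.q.map_Xb p α x hxx hx0
  have hx₁u : H x₁ u = 0 := n.q.map_perp p hxx hx0 hx₁ hx₁0 n.hp.uu (hyp_u_ne_zero d.h n.hp)
    hXx n.hXu hxu
  have hx₁f : H x₁ f = 0 := n.q.map_perp p hxx hx0 hx₁ hx₁0 n.hp.vv (hyp_f_ne_zero d.h n.hp)
    hXx n.hXf hxf
  have hux : H u x = 0 := by rw [d.h.symm x u, hxu, map_zero]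
  have hfx : H f x = 0 := by rw [d.h.symm x f, hxf, map_zero]
  have hux₁ : H u x₁ = 0 := by rw [d.h.symm x₁ u, hx₁u, map_zero]
  have hfx₁ : H f x₁ = 0 := by rw [d.h.symm x₁ f, hx₁f, map_zero]
  obtain ⟨μ, hμ0, hμ⟩ := exists_skew d.hσ
  obtain ⟨x', hx'u, hx'f, hp₂⟩ := exists_partner_W d n.hp hxu hxf hxx hx0
  have h1 : α (ρ (tT d hxx μ hμ)) ∈ Xb d ρ x₁ hx₁ := by
    rw [← hXx]
    exact ⟨_, ⟨_, tT_mem d hxx μ hμ, rfl⟩, rfl⟩
  obtain ⟨l', ⟨c₁, hc₁, hl'⟩, h2⟩ := h1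
  have hlu : ((tT d hxx μ hμ : ↥(T d.h)) : V ≃ₗ[F] V) u = (1 : F) • u := by
    show tv d.h x μ hxx u = (1 : F) • u
    rw [tv_apply, hux, mul_zero, zero_smul, add_zero, one_smul]
  have hlf : ((tT d hxx μ hμ : ↥(T d.h)) : V ≃ₗ[F] V) f = (1 : F) • f := by
    show tv d.h x μ hxx f = (1 : F) • f
    rw [tv_apply, hfx, mul_zero, zero_smul, add_zero, one_smul]
  have hl'u : (l' : V ≃ₗ[F] V) u = (1 : F) • u := by
    rw [hl', tv_apply, hux₁, mul_zero, zero_smul, add_zero, one_smul]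
  have hl'f : (l' : V ≃ₗ[F] V) f = (1 : F) • f := by
    rw [hl', tv_apply, hfx₁, mul_zero, zero_smul, add_zero, one_smul]
  refine ⟨x₁, fun t => ?_⟩
  have hwu : H ((t / μ) • x') u = 0 := smul_perp d.h hx'u _
  have hwf : H ((t / μ) • x') f = 0 := smul_perp d.h hx'f _
  have h3 := D.spec.equivariant n p one_ne_zero one_ne_zero one_ne_zero one_ne_zero hlu hlf hl'u
    hl'f h2.symm hwu hwf
  rw [map_one, one_smul, one_smul, hl', tv_apply] at h3
  have h4 : ((tT d hxx μ hμ : ↥(T d.h)) : V ≃ₗ[F] V) ((t / μ) • x')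
      = (t / μ) • x' + t • x := by
    show tv d.h x μ hxx ((t / μ) • x') = _
    rw [tv_apply, d.h.smul_left, hp₂.vu d.h, mul_one, mul_div_cancel₀ _ hμ0]
  rw [h4, D.spec.add n p hwu hwf (smul_perp d.h hxu t) (smul_perp d.h hxf t), add_right_inj] at h3
  exact ⟨_, h3⟩

end

section
variable {F : Type u} [Field F] [Fintype F] {σ : F ≃+* F} {V : Type u} [AddCommGroup V]
  [Module F V] [FiniteDimensional F V] {H : V → V → F} {𝔗 : Type w} [Group 𝔗]
  {d : UData σ H} {ρ : ↥(T d.h) →* 𝔗} {α : 𝔗 ≃* 𝔗} {u f : V} {Φ Φ' : V → V} {ψ : F → F}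

/-- semilinearity along the line of `x` -/
def SemiAt (Φ : V → V) (τ : F ≃+* F) (x : V) : Prop :=
  ∀ a t : F, Φ ((a * t) • x) = τ a • Φ (t • x)

theorem SemiAt.smul {τ : F ≃+* F} {x : V} (h : SemiAt Φ τ x) (a : F) :
    Φ (a • x) = τ a • Φ x := by
  have := h a 1
  rwa [mul_one, one_smul] at this

/-- semilinearity along an isotropic line of `W` -/
theorem PhiData.semi_iso (n : NData d ρ α u f) (p : ℕ) [Fact p.Prime] [CharP F p]
    (D : PhiData d ρ α n.hp Φ Φ' ψ) {x : V} (hxu : H x u = 0) (hxf : H x f = 0)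
    (hxx : H x x = 0) (hx0 : x ≠ 0) : ∃ τ : F ≃+* F, SemiAt Φ τ x := by
  haveI : Finite F := Finite.of_fintype F
  obtain ⟨x₁, hline⟩ := D.iso_line n p hxu hxf hxx hx0
  obtain ⟨x', hx'u, hx'f, hp₂⟩ := exists_partner_W d n.hp hxu hxf hxx hx0
  have hadd : ∀ s t : F, (fun t : F => Φ (t • x)) (s + t)
      = (fun t : F => Φ (t • x)) s + (fun t : F => Φ (t • x)) t :=
    fun s t => D.add_line n p hxu hxf s t
  have h1 : (fun t : F => Φ (t • x)) 1 ≠ 0 := by
    show Φ ((1 : F) • x) ≠ 0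
    rw [one_smul]
    exact fun h0 => hx0 (D.inj n p hxu hxf h0)
  have htop : semiRing (fun t : F => Φ (t • x)) hadd = ⊤ := by
    apply subring_eq_top_of_squares
    intro b
    by_cases hb : b = 0
    · rw [hb, mul_zero]
      exact Subring.zero_mem _
    · have ha : σ b ≠ 0 := (map_ne_zero_iff _ σ.injective).2 hb
      obtain ⟨l, hlu, hlf, hlx⟩ := exists_torus_hyp d n.hp hp₂ hxu hxf hx'u hx'f (σ b) ha
      rw [d.hσ2] at hlf hlx
      have hlx' : σ (σ b) • (l : V ≃ₗ[F] V) x = (b * b) • x := by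
        rw [d.hσ2, hlx, smul_smul]
      exact D.line_scalar n p hxu hxf hx0 hline ha (inv_ne_zero hb) hlu hlf hlx'
  exact exists_ringEquiv_of_semiRing _ hadd h1 htop

/-- the automorphisms attached to two non-perpendicular isotropic lines coincide -/
theorem PhiData.link_nonperp (n : NData d ρ α u f) (p : ℕ) [Fact p.Prime] [CharP F p]
    (D : PhiData d ρ α n.hp Φ Φ' ψ) {x y : V} (hxu : H x u = 0) (hxf : H x f = 0)
    (hxx : H x x = 0) (hyu : H y u = 0) (hyf : H y f = 0) (hyy : H y y = 0)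
    (hxy : H x y ≠ 0) {τx τy : F ≃+* F} (hτx : SemiAt Φ τx x) (hτy : SemiAt Φ τy y) :
    τx = τy := by
  obtain ⟨μ, hμ0, hμ⟩ := exists_skew d.hσ
  have hyx : H y x ≠ 0 := by
    rw [d.h.symm x y]
    exact (map_ne_zero_iff _ σ.injective).2 hxy
  have hx0 : x ≠ 0 := by
    rintro rfl
    exact hxy (d.h.zero_left y)
  have hy0 : y ≠ 0 := by
    rintro rfl
    exact hxy (d.h.zero_right x)
  obtain ⟨s, hs⟩ : ∃ s, s = μ / H y x := ⟨_, rfl⟩
  have hs0 : s ≠ 0 := by rw [hs]; exact div_ne_zero hμ0 hyx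
  have hsy : s * H y x = μ := by rw [hs, div_mul_cancel₀ _ hyx]
  have hzz : H (x + s • y) (x + s • y) = 0 := by
    simp only [d.h.add_left, d.h.add_right, d.h.smul_left, d.h.smul_right, hxx, hyy]
    have : σ s * H x y = -μ := by
      rw [d.h.symm y x, ← map_mul, hsy, hμ]
    rw [this, hsy]
    ring
  have hzu : H (x + s • y) u = 0 := by
    rw [d.h.add_left, d.h.smul_left, hxu, hyu, mul_zero, add_zero]
  have hzf : H (x + s • y) f = 0 := by
    rw [d.h.add_left, d.h.smul_left, hxf, hyf, mul_zero, add_zero]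
  -- independence of `x` and `y`
  have hind : ∀ c : F, s • y ≠ c • x := by
    intro c hc
    have h1 : H (s • y) x = H (c • x) x := by rw [hc]
    rw [d.h.smul_left, d.h.smul_left, hxx, mul_zero] at h1
    exact (mul_ne_zero hs0 hyx) h1
  have hz0 : x + s • y ≠ 0 := by
    intro h0
    apply hind (-1)
    rw [neg_smul, one_smul]
    exact eq_neg_of_add_eq_zero_right h0
  obtain ⟨τz, hτz⟩ := D.semi_iso n p hzu hzf hzz hz0
  have hsyu : H (s • y) u = 0 := smul_perp d.h hyu s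
  have hsyf : H (s • y) f = 0 := smul_perp d.h hyf s
  have hP0 : Φ x ≠ 0 := fun h0 => hx0 (D.inj n p hxu hxf h0)
  -- the images are independent
  have hindΦ : ∀ c : F, Φ (s • y) ≠ c • Φ x := by
    intro c hc
    obtain ⟨c', rfl⟩ := τx.surjective c
    rw [← hτx.smul c'] at hc
    have h2 : Φ (s • y + (-c') • x) = 0 := by
      rw [D.spec.add n p hsyu hsyf (smul_perp d.h hxu _) (smul_perp d.h hxf _), hc,
        ← D.spec.add n p (smul_perp d.h hxu _) (smul_perp d.h hxf _) (smul_perp d.h hxu _)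
          (smul_perp d.h hxf _), ← add_smul, add_neg_cancel, zero_smul, D.zero n p]
    have h3 := D.inj n p (by rw [d.h.add_left, hsyu, smul_perp d.h hxu, add_zero])
      (by rw [d.h.add_left, hsyf, smul_perp d.h hxf, add_zero]) h2
    apply hind c'
    rw [neg_smul] at h3
    exact eq_of_sub_eq_zero (by rw [sub_eq_add_neg]; exact h3)
  ext a
  have h4 : Φ (a • (x + s • y)) = τz a • (Φ x + Φ (s • y)) := by
    rw [hτz.smul a, D.spec.add n p hxu hxf hsyu hsyf]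
  have h5 : Φ (a • (x + s • y)) = τx a • Φ x + τy a • Φ (s • y) := by
    rw [smul_add, D.spec.add n p (smul_perp d.h hxu a) (smul_perp d.h hxf a)
      (smul_perp d.h hsyu a) (smul_perp d.h hsyf a), hτx.smul a, smul_smul, hτy a s]
  rw [h4, smul_add] at h5
  have h6 : (τz a - τx a) • Φ x + (τz a - τy a) • Φ (s • y) = 0 := by
    rw [sub_smul, sub_smul]
    have := sub_eq_zero.2 h5
    rw [← this]
    abel
  have h7 : τz a - τy a = 0 := by
    by_contra hne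
    apply hindΦ (-(τz a - τy a)⁻¹ * (τz a - τx a))
    have h8 : (τz a - τy a) • Φ (s • y) = -((τz a - τx a) • Φ x) :=
      eq_neg_of_add_eq_zero_right h6
    calc Φ (s • y) = (τz a - τy a)⁻¹ • ((τz a - τy a) • Φ (s • y)) := by
          rw [smul_smul, inv_mul_cancel₀ hne, one_smul]
      _ = (-(τz a - τy a)⁻¹ * (τz a - τx a)) • Φ x := by
          rw [h8, smul_neg, smul_smul, neg_mul, neg_smul]
  rw [h7, zero_smul, add_zero, smul_eq_zero] at h6
  have h9 : τz a - τx a = 0 := h6.resolve_right hP0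
  rw [sub_eq_zero] at h7 h9
  rw [← h9, h7]

end

section
variable {F : Type u} [Field F] [Fintype F] {σ : F ≃+* F} {V : Type u} [AddCommGroup V]
  [Module F V] [FiniteDimensional F V] {H : V → V → F} {𝔗 : Type w} [Group 𝔗]
  {d : UData σ H} {ρ : ↥(T d.h) →* 𝔗} {α : 𝔗 ≃* 𝔗} {u f : V} {Φ Φ' : V → V} {ψ : F → F}

/-- the automorphisms attached to any two isotropic lines of `W` coincide -/
theorem PhiData.link (n : NData d ρ α u f) (p : ℕ) [Fact p.Prime] [CharP F p]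
    (D : PhiData d ρ α n.hp Φ Φ' ψ) {x y : V} (hxu : H x u = 0) (hxf : H x f = 0)
    (hxx : H x x = 0) (hx0 : x ≠ 0) (hyu : H y u = 0) (hyf : H y f = 0) (hyy : H y y = 0)
    (hy0 : y ≠ 0) {τx τy : F ≃+* F} (hτx : SemiAt Φ τx x) (hτy : SemiAt Φ τy y) :
    τx = τy := by
  by_cases hxy : H x y = 0
  · obtain ⟨c, hcW, hcc, hxc, hcy⟩ := W_bridge d n.hp ((mem_Wsub d.h u f x).2 ⟨hxu, hxf⟩)
      ((mem_Wsub d.h u f y).2 ⟨hyu, hyf⟩) hxx hx0 hy0 hxy
    obtain ⟨hcu, hcf⟩ := (mem_Wsub d.h u f c).1 hcW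
    have hc0 : c ≠ 0 := by
      rintro rfl
      exact hxc (d.h.zero_right x)
    obtain ⟨τc, hτc⟩ := D.semi_iso n p hcu hcf hcc hc0
    rw [D.link_nonperp n p hxu hxf hxx hcu hcf hcc hxc hτx hτc,
      D.link_nonperp n p hcu hcf hcc hyu hyf hyy hcy hτc hτy]
  · exact D.link_nonperp n p hxu hxf hxx hyu hyf hyy hxy hτx hτy

/-- the induced map on `W` is semilinear, in dimension at least four -/
theorem PhiData.exists_tau_four (n : NData d ρ α u f) (p : ℕ) [Fact p.Prime] [CharP F p]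
    (D : PhiData d ρ α n.hp Φ Φ' ψ) (hdim : 4 ≤ finrank F V) :
    ∃ τ : F ≃+* F, ∀ (a : F) (w : V), H w u = 0 → H w f = 0 → Φ (a • w) = τ a • Φ w := by
  haveI : Finite F := Finite.of_fintype F
  have hfr := finrank_Wsub d.hσ d.h d.hnd n.hp
  obtain ⟨x₀', y₀', hp₀⟩ := exists_hypPair d.hσ (isHerm_restrict d.h (Wsub d.h u f))
    (Wsub_nondeg d.hσ d.h d.hnd n.hp) (by omega)
  obtain ⟨hx₀u, hx₀f⟩ := (mem_Wsub d.h u f _).1 x₀'.2
  have hx₀x₀ : H (x₀' : V) (x₀' : V) = 0 := hp₀.uu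
  have hx₀0 : (x₀' : V) ≠ 0 := by
    intro h0
    have := hp₀.uv
    change H (x₀' : V) (y₀' : V) = 1 at this
    rw [h0, d.h.zero_left] at this
    exact zero_ne_one this
  obtain ⟨τ, hτ⟩ := D.semi_iso n p hx₀u hx₀f hx₀x₀ hx₀0
  refine ⟨τ, ?_⟩
  let S : Submodule F V :=
    { carrier := {w | (H w u = 0 ∧ H w f = 0) ∧ ∀ a : F, Φ (a • w) = τ a • Φ w}
      add_mem' := by
        rintro x y ⟨⟨hxu, hxf⟩, hx⟩ ⟨⟨hyu, hyf⟩, hy⟩
        refine ⟨⟨by rw [d.h.add_left, hxu, hyu, add_zero],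
          by rw [d.h.add_left, hxf, hyf, add_zero]⟩, fun a => ?_⟩
        rw [smul_add, D.spec.add n p (smul_perp d.h hxu a) (smul_perp d.h hxf a)
          (smul_perp d.h hyu a) (smul_perp d.h hyf a), hx, hy,
          D.spec.add n p hxu hxf hyu hyf, smul_add]
      zero_mem' := by
        refine ⟨⟨d.h.zero_left u, d.h.zero_left f⟩, fun a => ?_⟩
        rw [smul_zero, D.zero n p, smul_zero]
      smul_mem' := by
        rintro c x ⟨⟨hxu, hxf⟩, hx⟩
        refine ⟨⟨smul_perp d.h hxu c, smul_perp d.h hxf c⟩, fun a => ?_⟩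
        rw [smul_smul, hx, hx, map_mul, smul_smul] }
  have hS : Wsub d.h u f ≤ S := by
    refine (W_span_iso d n.hp hdim).trans ?_
    rw [Submodule.span_le]
    rintro x ⟨hxW, hxx⟩
    obtain ⟨hxu, hxf⟩ := (mem_Wsub d.h u f x).1 hxW
    refine ⟨⟨hxu, hxf⟩, fun a => ?_⟩
    by_cases hx0 : x = 0
    · rw [hx0, smul_zero, D.zero n p, smul_zero]
    · obtain ⟨τx, hτx⟩ := D.semi_iso n p hxu hxf hxx hx0
      rw [D.link n p hx₀u hx₀f hx₀x₀ hx₀0 hxu hxf hxx hx0 hτ hτx]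
      exact hτx.smul a
  intro a w hwu hwf
  exact (hS ((mem_Wsub d.h u f w).2 ⟨hwu, hwf⟩)).2 a

/-- the induced map on `W` is semilinear, in dimension three -/
theorem PhiData.exists_tau_three (n : NData d ρ α u f) (p : ℕ) [Fact p.Prime] [CharP F p]
    (D : PhiData d ρ α n.hp Φ Φ' ψ) (hdim : finrank F V = 3) :
    ∃ τ : F ≃+* F, ∀ (a : F) (w : V), H w u = 0 → H w f = 0 → Φ (a • w) = τ a • Φ w := by
  haveI : Finite F := Finite.of_fintype F
  have hfr := finrank_Wsub d.hσ d.h d.hnd n.hp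
  have hfr1 : finrank F ↥(Wsub d.h u f) = 1 := by omega
  obtain ⟨b, hb⟩ := exists_onb d.hσ (isHerm_restrict d.h (Wsub d.h u f))
    (Wsub_nondeg d.hσ d.h d.hnd n.hp) hfr1
  obtain ⟨z', hz'⟩ : ∃ z' : ↥(Wsub d.h u f), z' = b 0 := ⟨_, rfl⟩
  have hzz : H (z' : V) (z' : V) = 1 := by
    have := hb 0 0
    rw [if_pos rfl, ← hz'] at this
    exact this
  obtain ⟨hzu, hzf⟩ := (mem_Wsub d.h u f _).1 z'.2
  have hz0 : (z' : V) ≠ 0 := by
    intro h0
    rw [h0, d.h.zero_left] at hzz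
    exact zero_ne_one hzz
  have hz'0 : z' ≠ 0 := fun h0 => hz0 (by rw [h0]; rfl)
  -- every vector of `W` is a multiple of `z`
  have hall : ∀ w : V, H w u = 0 → H w f = 0 → ∃ t : F, w = t • (z' : V) := by
    intro w hwu hwf
    obtain ⟨t, ht⟩ := (finrank_eq_one_iff_of_nonzero' z' hz'0).1 hfr1
      ⟨w, (mem_Wsub d.h u f w).2 ⟨hwu, hwf⟩⟩
    refine ⟨t, ?_⟩
    have := congrArg Subtype.val ht
    exact this.symm
  have hline : ∀ t : F, ∃ s : F, Φ (t • (z' : V)) = s • (z' : V) := by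
    intro t
    obtain ⟨h1, h2⟩ := D.spec.mem n (smul_perp d.h hzu t) (smul_perp d.h hzf t)
    exact hall _ h1 h2
  have hadd : ∀ s t : F, (fun t : F => Φ (t • (z' : V))) (s + t)
      = (fun t : F => Φ (t • (z' : V))) s + (fun t : F => Φ (t • (z' : V))) t :=
    fun s t => D.add_line n p hzu hzf s t
  have h1 : (fun t : F => Φ (t • (z' : V))) 1 ≠ 0 := by
    show Φ ((1 : F) • (z' : V)) ≠ 0
    rw [one_smul]
    exact fun h0 => hz0 (D.inj n p hzu hzf h0)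
  -- the scalars coming from the torus
  have hmem : ∀ a : F, a ≠ 0 → σ a * (σ a / a) ∈ semiRing (fun t : F => Φ (t • (z' : V))) hadd := by
    intro a ha
    have hσa : σ a ≠ 0 := (map_ne_zero_iff _ σ.injective).2 ha
    obtain ⟨l, hlu, hlf, hlz⟩ := exists_torus_unit d n.hp hzz hzu hzf a ha
    have hlz' : σ a • (l : V ≃ₗ[F] V) (z' : V) = (σ a * (σ a / a)) • (z' : V) := by
      rw [hlz, smul_smul]
    exact D.line_scalar n p hzu hzf hz0 hline ha (inv_ne_zero hσa) hlu hlf hlz'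
  obtain ⟨a₀, ha₀⟩ := exists_cube_ne d (d.hbig hdim)
  have ha₀0 : a₀ ≠ 0 := by
    rintro rfl
    rw [map_zero] at ha₀
    exact ha₀ rfl
  have hσa₀ : σ a₀ ≠ 0 := (map_ne_zero_iff _ σ.injective).2 ha₀0
  have htop : semiRing (fun t : F => Φ (t • (z' : V))) hadd = ⊤ := by
    apply subring_eq_top_of_fixed d.hσ2 _ _ (hmem a₀ ha₀0)
    · rw [map_mul, map_div₀, d.hσ2]
      intro he
      apply ha₀
      field_simp at he
      linear_combination he
    · intro a ha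
      by_cases ha0 : a = 0
      · rw [ha0]
        exact Subring.zero_mem _
      · have := hmem a ha0
        rw [ha, mul_div_cancel₀ _ ha0] at this
        exact this
  obtain ⟨τ, hτ⟩ := exists_ringEquiv_of_semiRing _ hadd h1 htop
  refine ⟨τ, fun a w hwu hwf => ?_⟩
  obtain ⟨t, rfl⟩ := hall w hwu hwf
  rw [smul_smul]
  exact hτ a t

/-- the induced map on `W` is semilinear -/
theorem PhiData.exists_tau (n : NData d ρ α u f) (p : ℕ) [Fact p.Prime] [CharP F p]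
    (D : PhiData d ρ α n.hp Φ Φ' ψ) :
    ∃ τ : F ≃+* F, ∀ (a : F) (w : V), H w u = 0 → H w f = 0 → Φ (a • w) = τ a • Φ w := by
  by_cases h3 : finrank F V = 3
  · exact D.exists_tau_three n p h3
  · exact D.exists_tau_four n p (by have := d.hdim; omega)

end

end Cfsg.Agent.Lib.Helper5.UAut
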