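import Mathlib
import Cfsg.Agent.Lib.Helper5.UAut10

set_option autoImplicit false

/-! The induced map on `W` is a semi-similitude. -/

namespace Cfsg.Agent.Lib.Helper5.UAut

open Module Cfsg.Agent.Lib.Helper2 Cfsg.Agent.Lib.Helper2.UT Cfsg.Agent.Lib.Helper2.IsomDecomp
  Cfsg.Agent.Lib.Helper2.HermDecomp Cfsg.Agent.Lib.Helper5.PSLCoset

universe u w

section
variable {F : Type u} [Field F] [Fintype F] {σ : F ≃+* F} {V : Type u} [AddCommGroup V]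
  [Module F V] [FiniteDimensional F V] {H : V → V → F} {𝔗 : Type w} [Group 𝔗]
  {d : UData σ H} {ρ : ↥(T d.h) →* 𝔗} {α : 𝔗 ≃* 𝔗} {u f : V} {Φ Φ' : V → V} {ψ : F → F}

/-- a pair of vectors of `W` with product one -/
theorem exists_pair_W (d : UData σ H) {u f : V} (hp : HypPair H u f) :
    ∃ x y : V, H x u = 0 ∧ H x f = 0 ∧ H y u = 0 ∧ H y f = 0 ∧ H x y = 1 := by
  haveI : Finite F := Finite.of_fintype F
  have hfr := finrank_Wsub d.hσ d.h d.hnd hp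
  have hdim := d.hdim
  have hpos : 0 < finrank F ↥(Wsub d.h u f) := by omega
  obtain ⟨x, hx0⟩ := Module.finrank_pos_iff_exists_ne_zero.1 hpos
  obtain ⟨y, hy⟩ : ∃ y : ↥(Wsub d.h u f), H (x : V) (y : V) ≠ 0 := by
    by_contra hcon
    push Not at hcon
    exact hx0 (Wsub_nondeg d.hσ d.h d.hnd hp x hcon)
  obtain ⟨hxu, hxf⟩ := (mem_Wsub d.h u f _).1 x.2
  obtain ⟨hyu, hyf⟩ := (mem_Wsub d.h u f _).1 y.2
  refine ⟨x, (σ (H (x : V) (y : V)))⁻¹ • (y : V), hxu, hxf, smul_perp d.h hyu _,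
    smul_perp d.h hyf _, ?_⟩
  rw [d.h.smul_right, map_inv₀, d.hσ2, inv_mul_cancel₀ hy]

/-- a vector of `W` perpendicular to `W` vanishes -/
theorem W_nondeg (d : UData σ H) {u f : V} (hp : HypPair H u f) {x : V} (hxu : H x u = 0)
    (hxf : H x f = 0) (hx : ∀ w : V, H w u = 0 → H w f = 0 → H x w = 0) : x = 0 := by
  apply d.hnd
  intro v
  obtain ⟨y, hyu, hyf, hy⟩ := hyp_decomp d.h hp v
  rw [hy, d.h.add_right, d.h.add_right, d.h.smul_right, d.h.smul_right, hxu, hxf, hx y hyu hyf]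
  ring

/-- the induced map on `W` is a semi-similitude -/
theorem PhiData.form (n : NData d ρ α u f) (p : ℕ) [Fact p.Prime] [CharP F p]
    (D : PhiData d ρ α n.hp Φ Φ' ψ) {τ : F ≃+* F}
    (hτ : ∀ (a : F) (w : V), H w u = 0 → H w f = 0 → Φ (a • w) = τ a • Φ w) :
    ∃ κ : F, κ ≠ 0 ∧ σ κ = κ ∧ (∀ a : F, σ (τ a) = τ (σ a)) ∧
      ∀ w₁ w₂ : V, H w₁ u = 0 → H w₁ f = 0 → H w₂ u = 0 → H w₂ f = 0 →
        H (Φ w₁) (Φ w₂) = κ * τ (H w₁ w₂) := by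
  obtain ⟨x₀, y₀, hx₀u, hx₀f, hy₀u, hy₀f, hxy₀⟩ := exists_pair_W d n.hp
  obtain ⟨θ, hθ⟩ := exists_not_fixed d
  obtain ⟨κ, hκ⟩ : ∃ κ, κ = H (Φ x₀) (Φ y₀) := ⟨_, rfl⟩
  -- the basic identity
  have hpair : ∀ (a : F) (w₁ w₂ : V), H w₁ u = 0 → H w₁ f = 0 → H w₂ u = 0 → H w₂ f = 0 →
      ψ (a * H w₁ w₂ - σ (a * H w₁ w₂))
        = τ a * H (Φ w₁) (Φ w₂) - σ (τ a * H (Φ w₁) (Φ w₂)) := by
    intro a w₁ w₂ h1u h1f h2u h2f
    have := D.spec.pairing n p D.psi (smul_perp d.h h1u a) (smul_perp d.h h1f a) h2u h2f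
    rw [hτ a w₁ h1u h1f, d.h.smul_left, d.h.smul_left, d.h.smul_right, d.h.smul_right,
      d.h.symm w₁ w₂, d.h.symm (Φ w₁) (Φ w₂)] at this
    rw [map_mul, map_mul]
    exact this
  have hstar : ∀ a : F, ψ (a - σ a) = τ a * κ - σ (τ a * κ) := by
    intro a
    have := hpair a x₀ y₀ hx₀u hx₀f hy₀u hy₀f
    rw [hxy₀, mul_one, ← hκ] at this
    exact this
  have hmain : ∀ w₁ w₂ : V, H w₁ u = 0 → H w₁ f = 0 → H w₂ u = 0 → H w₂ f = 0 →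
      H (Φ w₁) (Φ w₂) = κ * τ (H w₁ w₂) := by
    intro w₁ w₂ h1u h1f h2u h2f
    obtain ⟨δ, hδ⟩ : ∃ δ, δ = H (Φ w₁) (Φ w₂) - κ * τ (H w₁ w₂) := ⟨_, rfl⟩
    have h1 : ∀ b : F, σ (b * δ) = b * δ := by
      intro b
      obtain ⟨a, rfl⟩ := τ.surjective b
      have e1 := hpair a w₁ w₂ h1u h1f h2u h2f
      have e2 := hstar (a * H w₁ w₂)
      rw [e2, map_mul τ] at e1
      have e3 : τ a * (κ * τ (H w₁ w₂)) = τ a * τ (H w₁ w₂) * κ := by ring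
      rw [hδ, mul_sub, map_sub, e3]
      linear_combination e1
    have h2 := h1 1
    rw [one_mul] at h2
    have h3 := h1 θ
    rw [map_mul, h2] at h3
    have h4 : δ = 0 := by
      by_contra hne
      exact hθ (mul_right_cancel₀ hne h3)
    rw [h4] at hδ
    exact sub_eq_zero.1 hδ.symm
  have hyx₀ : H y₀ x₀ = 1 := by rw [d.h.symm x₀ y₀, hxy₀, map_one]
  have hκσ : σ κ = κ := by
    have h1 := hmain y₀ x₀ hy₀u hy₀f hx₀u hx₀f
    rw [hyx₀, map_one, mul_one, d.h.symm (Φ x₀) (Φ y₀), ← hκ] at h1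
    exact h1
  have hκ0 : κ ≠ 0 := by
    intro h0
    obtain ⟨hΦxu, hΦxf⟩ := D.spec.mem n hx₀u hx₀f
    have h1 : Φ x₀ = 0 := by
      apply W_nondeg d n.hp hΦxu hΦxf
      intro w hwu hwf
      obtain ⟨h1u, h1f⟩ := D.spec'.mem n.symm hwu hwf
      have h2 : Φ (Φ' w) = w := D.spec'.left_inv n.symm p D.spec hwu hwf
      have h3 := hmain x₀ (Φ' w) hx₀u hx₀f h1u h1f
      rw [h2, h0, zero_mul] at h3
      exact h3
    have h4 := D.inj n p hx₀u hx₀f h1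
    rw [h4, d.h.zero_left] at hxy₀
    exact zero_ne_one hxy₀
  refine ⟨κ, hκ0, hκσ, ?_, hmain⟩
  intro a
  have h1 := hmain (a • x₀) y₀ (smul_perp d.h hx₀u a) (smul_perp d.h hx₀f a) hy₀u hy₀f
  have h2 := hmain y₀ (a • x₀) hy₀u hy₀f (smul_perp d.h hx₀u a) (smul_perp d.h hx₀f a)
  rw [d.h.smul_left, hxy₀, mul_one] at h1
  rw [d.h.smul_right, hyx₀, mul_one, d.h.symm (Φ (a • x₀)) (Φ y₀), h1, map_mul, hκσ] at h2
  exact mul_left_cancel₀ hκ0 h2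

end

end Cfsg.Agent.Lib.Helper5.UAut
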