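import Mathlib
import Cfsg.Agent.Lib.Helper5.UAut11

set_option autoImplicit false

/-! Semilinear similitudes and the automorphisms of `T` they induce. -/

namespace Cfsg.Agent.Lib.Helper5.UAut

open Module Cfsg.Agent.Lib.Helper2 Cfsg.Agent.Lib.Helper2.UT Cfsg.Agent.Lib.Helper2.IsomDecomp
  Cfsg.Agent.Lib.Helper2.HermDecomp Cfsg.Agent.Lib.Helper5.PSLCoset

universe u w

section
variable {F : Type u} [Field F] {σ : F ≃+* F} {V : Type u} [AddCommGroup V] [Module F V]
  {H : V → V → F}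

/-- a semilinear similitude -/
structure SemiSim (σ : F ≃+* F) (H : V → V → F) (s : V → V) (τ : F ≃+* F) (κ : F) : Prop where
  add : ∀ x y, s (x + y) = s x + s y
  smul : ∀ a x, s (a • x) = τ a • s x
  form : ∀ x y, H (s x) (s y) = κ * τ (H x y)
  hκ0 : κ ≠ 0
  hκσ : σ κ = κ
  comm : ∀ a, σ (τ a) = τ (σ a)

variable {s : V → V} {τ : F ≃+* F} {κ : F}

theorem SemiSim.zero (hs : SemiSim σ H s τ κ) : s 0 = 0 := by
  have := hs.smul 0 0
  rwa [zero_smul, map_zero, zero_smul] at this

theorem SemiSim.sub (hs : SemiSim σ H s τ κ) (x y : V) : s (x - y) = s x - s y := by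
  have h1 := hs.add (x - y) y
  rw [sub_add_cancel] at h1
  exact eq_sub_of_add_eq h1.symm

theorem SemiSim.injective (hs : SemiSim σ H s τ κ) (h : IsHerm σ H)
    (hnd : ∀ v, (∀ w, H v w = 0) → v = 0) : Function.Injective s := by
  intro x y hxy
  have h1 : s (x - y) = 0 := by rw [hs.sub, hxy, sub_self]
  have h2 : x - y = 0 := by
    apply hnd
    intro z
    have h3 := hs.form (x - y) z
    rw [h1, h.zero_left] at h3
    have h4 := (mul_eq_zero.1 h3.symm).resolve_left hs.hκ0
    exact (map_eq_zero_iff _ τ.injective).1 h4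
  exact sub_eq_zero.1 h2

theorem SemiSim.bijective [Finite V] (hs : SemiSim σ H s τ κ) (h : IsHerm σ H)
    (hnd : ∀ v, (∀ w, H v w = 0) → v = 0) : Function.Bijective s :=
  Finite.injective_iff_bijective.1 (hs.injective h hnd)

/-- the inverse of a bijective semilinear similitude -/
noncomputable def sinv (s : V → V) (hb : Function.Bijective s) : V → V :=
  (Equiv.ofBijective s hb).symm

theorem s_sinv (hb : Function.Bijective s) (x : V) : s (sinv s hb x) = x :=
  (Equiv.ofBijective s hb).apply_symm_apply x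

theorem sinv_s (hb : Function.Bijective s) (x : V) : sinv s hb (s x) = x :=
  (Equiv.ofBijective s hb).symm_apply_apply x

theorem SemiSim.sinv_add (hs : SemiSim σ H s τ κ) (hb : Function.Bijective s) (x y : V) :
    sinv s hb (x + y) = sinv s hb x + sinv s hb y := by
  apply hb.1
  rw [s_sinv hb, hs.add, s_sinv hb, s_sinv hb]

theorem SemiSim.sinv_smul (hs : SemiSim σ H s τ κ) (hb : Function.Bijective s) (a : F) (x : V) :
    sinv s hb (a • x) = τ.symm a • sinv s hb x := by
  apply hb.1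
  rw [s_sinv hb, hs.smul, s_sinv hb, RingEquiv.apply_symm_apply]

theorem SemiSim.form_sinv (hs : SemiSim σ H s τ κ) (hb : Function.Bijective s) (x y : V) :
    τ (H (sinv s hb x) y) = κ⁻¹ * H x (s y) := by
  have := hs.form (sinv s hb x) y
  rw [s_sinv hb] at this
  rw [this, ← mul_assoc, inv_mul_cancel₀ hs.hκ0, one_mul]

/-- conjugation of a linear automorphism by a semilinear similitude -/
noncomputable def SemiSim.conjL (hs : SemiSim σ H s τ κ) (hb : Function.Bijective s)
    (g : V ≃ₗ[F] V) : V ≃ₗ[F] V :=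
  LinearEquiv.ofBijective
    { toFun := fun x => s (g (sinv s hb x))
      map_add' := fun x y => by rw [hs.sinv_add, map_add, hs.add]
      map_smul' := fun a x => by
        rw [hs.sinv_smul, map_smul, hs.smul, RingEquiv.apply_symm_apply]
        rfl }
    (by
      constructor
      · intro x y hxy
        have h1 : s (g (sinv s hb x)) = s (g (sinv s hb y)) := hxy
        have h2 := g.injective (hb.1 h1)
        have h3 := congrArg s h2
        rwa [s_sinv hb, s_sinv hb] at h3
      · intro y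
        refine ⟨s (g.symm (sinv s hb y)), ?_⟩
        show s (g (sinv s hb (s (g.symm (sinv s hb y))))) = y
        rw [sinv_s hb, LinearEquiv.apply_symm_apply, s_sinv hb])

theorem SemiSim.conjL_apply (hs : SemiSim σ H s τ κ) (hb : Function.Bijective s)
    (g : V ≃ₗ[F] V) (x : V) : hs.conjL hb g x = s (g (sinv s hb x)) := rfl

theorem SemiSim.conjL_apply_s (hs : SemiSim σ H s τ κ) (hb : Function.Bijective s)
    (g : V ≃ₗ[F] V) (x : V) : hs.conjL hb g (s x) = s (g x) := by
  rw [hs.conjL_apply, sinv_s hb]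

/-- conjugation as a group homomorphism -/
noncomputable def SemiSim.conjHom (hs : SemiSim σ H s τ κ) (hb : Function.Bijective s) :
    (V ≃ₗ[F] V) →* (V ≃ₗ[F] V) where
  toFun := hs.conjL hb
  map_one' := by
    apply LinearEquiv.ext
    intro x
    rw [hs.conjL_apply]
    show s (sinv s hb x) = x
    exact s_sinv hb x
  map_mul' := by
    intro g g'
    apply LinearEquiv.ext
    intro x
    rw [LinearEquiv.mul_apply, hs.conjL_apply, hs.conjL_apply, hs.conjL_apply, sinv_s hb]
    rfl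

theorem SemiSim.conjHom_apply (hs : SemiSim σ H s τ κ) (hb : Function.Bijective s)
    (g : V ≃ₗ[F] V) : hs.conjHom hb g = hs.conjL hb g := rfl

theorem SemiSim.conjHom_injective (hs : SemiSim σ H s τ κ) (hb : Function.Bijective s) :
    Function.Injective (hs.conjHom hb) := by
  intro g g' hgg
  apply LinearEquiv.ext
  intro x
  have h1 : hs.conjL hb g (s x) = hs.conjL hb g' (s x) := by
    rw [← hs.conjHom_apply, ← hs.conjHom_apply, hgg]
  rw [hs.conjL_apply_s, hs.conjL_apply_s] at h1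
  exact hb.1 h1

theorem SemiSim.iso (hs : SemiSim σ H s τ κ) {v : V} (hv : H v v = 0) : H (s v) (s v) = 0 := by
  rw [hs.form, hv, map_zero, mul_zero]

/-- the conjugate of a transvection -/
theorem SemiSim.conjL_tv (hs : SemiSim σ H s τ κ) (hb : Function.Bijective s) (h : IsHerm σ H)
    (v : V) (c : F) (hv : H v v = 0) :
    hs.conjL hb (tv h v c hv) = tv h (s v) (κ⁻¹ * τ c) (hs.iso hv) := by
  apply LinearEquiv.ext
  intro x
  rw [hs.conjL_apply, tv_apply, tv_apply, hs.add, s_sinv hb, hs.smul, map_mul, hs.form_sinv hb]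
  congr 2
  ring

/-- the conjugate of an Eichler transformation -/
theorem SemiSim.conjL_eich (hs : SemiSim σ H s τ κ) (hb : Function.Bijective s)
    (h : IsHerm σ H) (u w : V) (c : F) (hu : H u u = 0) (hw : H w u = 0) :
    hs.conjL hb (eich h u w c hu hw)
      = eich h (s u) (κ⁻¹ • s w) (κ⁻¹ * τ c) (hs.iso hu)
          (by rw [h.smul_left, hs.form, hw, map_zero, mul_zero, mul_zero]) := by
  have hκi : σ κ⁻¹ = κ⁻¹ := by rw [map_inv₀, hs.hκσ]
  apply LinearEquiv.ext
  intro x
  rw [hs.conjL_apply, eich_apply, eich_apply, hs.add, hs.sub, hs.add, s_sinv hb, hs.smul, hs.smul,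
    hs.smul, map_mul, hs.form_sinv hb, hs.form_sinv hb, h.smul_right, hκi]
  simp only [smul_smul]
  module

end

section general
variable {G : Type*} [Group G] {𝔗 : Type*} [Group 𝔗]

theorem map_eq_self_of_mem (β : G ≃* G) (K : Subgroup G) [Finite K]
    (h : ∀ x ∈ K, β x ∈ K) : K.map β.toMonoidHom = K := by
  apply Subgroup.eq_of_le_of_card_ge
  · rintro _ ⟨x, hx, rfl⟩
    exact h x hx
  · rw [Subgroup.card_map_of_injective β.injective]

/-- an automorphism preserving the kernel of a surjection descends -/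
theorem exists_descend (ρ : G →* 𝔗) (hρ : Function.Surjective ρ) (c : G ≃* G)
    (hc : ∀ g, ρ g = 1 ↔ ρ (c g) = 1) : ∃ c' : 𝔗 ≃* 𝔗, ∀ g, c' (ρ g) = ρ (c g) := by
  have hk1 : ρ.ker ≤ (ρ.comp c.toMonoidHom).ker := by
    intro g hg
    rw [MonoidHom.mem_ker] at hg ⊢
    exact (hc g).1 hg
  have hk2 : ρ.ker ≤ (ρ.comp c.symm.toMonoidHom).ker := by
    intro g hg
    rw [MonoidHom.mem_ker] at hg ⊢
    show ρ (c.symm g) = 1
    rw [hc (c.symm g), MulEquiv.apply_symm_apply]
    exact hg
  let φ : 𝔗 →* 𝔗 := ρ.liftOfSurjective hρ ⟨ρ.comp c.toMonoidHom, hk1⟩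
  let φ' : 𝔗 →* 𝔗 := ρ.liftOfSurjective hρ ⟨ρ.comp c.symm.toMonoidHom, hk2⟩
  have hφ : ∀ g, φ (ρ g) = ρ (c g) := fun g =>
    ρ.liftOfRightInverse_comp_apply _ _ ⟨ρ.comp c.toMonoidHom, hk1⟩ g
  have hφ' : ∀ g, φ' (ρ g) = ρ (c.symm g) := fun g =>
    ρ.liftOfRightInverse_comp_apply _ _ ⟨ρ.comp c.symm.toMonoidHom, hk2⟩ g
  refine ⟨MonoidHom.toMulEquiv φ φ' ?_ ?_, hφ⟩
  · ext x
    obtain ⟨g, rfl⟩ := hρ x
    show φ' (φ (ρ g)) = ρ g
    rw [hφ, hφ', MulEquiv.symm_apply_apply]
  · ext x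
    obtain ⟨g, rfl⟩ := hρ x
    show φ (φ' (ρ g)) = ρ g
    rw [hφ', hφ, MulEquiv.apply_symm_apply]

end general

section
variable {F : Type u} [Field F] [Fintype F] {σ : F ≃+* F} {V : Type u} [AddCommGroup V]
  [Module F V] [FiniteDimensional F V] {H : V → V → F} {s : V → V} {τ : F ≃+* F} {κ : F}

theorem SemiSim.skew (hs : SemiSim σ H s τ κ) {c : F} (hc : σ c = -c) :
    σ (κ⁻¹ * τ c) = -(κ⁻¹ * τ c) := by
  rw [map_mul, map_inv₀, hs.hκσ, hs.comm, hc, map_neg, mul_neg]

/-- conjugation by a semilinear similitude preserves `T` -/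
theorem SemiSim.conj_mem_T (hs : SemiSim σ H s τ κ) (hb : Function.Bijective s)
    (h : IsHerm σ H) {g : V ≃ₗ[F] V} (hg : g ∈ T h) : hs.conjL hb g ∈ T h := by
  have hle : T h ≤ (T h).comap (hs.conjHom hb) := by
    conv_lhs => unfold T
    rw [Subgroup.closure_le]
    rintro t ⟨v, c, hv, hc, rfl⟩
    show hs.conjL hb (tv h v c hv) ∈ T h
    rw [hs.conjL_tv hb h]
    exact tv_mem_T h _ _ _ (hs.skew hc)
  exact hle hg

/-- the endomorphism of `T` induced by a semilinear similitude -/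
noncomputable def SemiSim.cT (hs : SemiSim σ H s τ κ) (hb : Function.Bijective s)
    (d : UData σ H) : ↥(T d.h) →* ↥(T d.h) where
  toFun g := ⟨hs.conjL hb g, hs.conj_mem_T hb d.h g.2⟩
  map_one' := Subtype.ext (map_one (hs.conjHom hb))
  map_mul' a b := Subtype.ext (map_mul (hs.conjHom hb) (a : V ≃ₗ[F] V) (b : V ≃ₗ[F] V))

theorem SemiSim.cT_coe (hs : SemiSim σ H s τ κ) (hb : Function.Bijective s) (d : UData σ H)
    (g : ↥(T d.h)) : ((hs.cT hb d g : ↥(T d.h)) : V ≃ₗ[F] V) = hs.conjL hb g := rfl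

theorem SemiSim.cT_bijective (hs : SemiSim σ H s τ κ) (hb : Function.Bijective s)
    (d : UData σ H) : Function.Bijective (hs.cT hb d) := by
  haveI := finite_T d
  rw [← Finite.injective_iff_bijective]
  intro g g' hgg
  apply Subtype.ext
  apply hs.conjHom_injective hb
  have := congrArg (fun z : ↥(T d.h) => (z : V ≃ₗ[F] V)) hgg
  exact this

/-- the automorphism of `T` induced by a semilinear similitude -/
noncomputable def SemiSim.cE (hs : SemiSim σ H s τ κ) (hb : Function.Bijective s)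
    (d : UData σ H) : ↥(T d.h) ≃* ↥(T d.h) :=
  MulEquiv.ofBijective (hs.cT hb d) (hs.cT_bijective hb d)

theorem SemiSim.cE_coe (hs : SemiSim σ H s τ κ) (hb : Function.Bijective s) (d : UData σ H)
    (g : ↥(T d.h)) : ((hs.cE hb d g : ↥(T d.h)) : V ≃ₗ[F] V) = hs.conjL hb g := rfl

variable {𝔗 : Type w} [Group 𝔗] {d : UData σ H} {ρ : ↥(T d.h) →* 𝔗}

/-- the automorphism of the quotient induced by a semilinear similitude -/
theorem SemiSim.exists_bar (hs : SemiSim σ H s τ κ) (hb : Function.Bijective s)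
    (q : QMap d ρ) : ∃ c' : 𝔗 ≃* 𝔗, ∀ g, c' (ρ g) = ρ (hs.cE hb d g) := by
  apply exists_descend ρ q.surj
  intro g
  rw [q.ker, q.ker]
  constructor
  · rintro ⟨a, ha⟩
    refine ⟨τ a, fun x => ?_⟩
    rw [hs.cE_coe, hs.conjL_apply, ha, hs.smul, s_sinv hb]
  · rintro ⟨a, ha⟩
    refine ⟨τ.symm a, fun x => ?_⟩
    have h1 := ha (s x)
    rw [hs.cE_coe, hs.conjL_apply_s] at h1
    apply hb.1
    rw [h1, hs.smul, RingEquiv.apply_symm_apply]

end

end Cfsg.Agent.Lib.Helper5.UAut
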