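import Mathlib
import Cfsg.Agent.Lib.Helper5.SpAut4
import Cfsg.Agent.Lib.Helper5.UAut12

set_option autoImplicit false

/-! Automorphisms of the projective symplectic group permuting the transvection groups are
induced by semilinear similitudes. -/

namespace Cfsg.Agent.Lib.Helper5.SpAut

open Module Cfsg.Agent.Lib.Helper2.IsomDecomp Cfsg.Agent.Lib.Helper5.FTPG
  Cfsg.Agent.Lib.Helper5.UAut

universe u w

section
variable {F : Type u} [Field F] {V : Type u} [AddCommGroup V] [Module F V] {B : V → V → F}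
  {s : V → V} {τ : F ≃+* F} {κ : F}

/-- semilinear similitudes of an alternating form -/
abbrev SSim (B : V → V → F) (s : V → V) (τ : F ≃+* F) (κ : F) : Prop :=
  SemiSim (RingEquiv.refl F) B s τ κ

theorem SSim.conj_mem (hs : SSim B s τ κ) (hb : Function.Bijective s) {g : V ≃ₗ[F] V}
    (hg : g ∈ isom B) : hs.conjL hb g ∈ isom B := by
  intro x y
  rw [hs.conjL_apply, hs.conjL_apply, hs.form, hg]
  have := hs.form (sinv s hb x) (sinv s hb y)
  rw [s_sinv hb, s_sinv hb] at this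
  exact this.symm

/-- the conjugate of a transvection -/
theorem SSim.conjL_tv (hs : SSim B s τ κ) (hb : Function.Bijective s) (h : AltF B)
    (v : V) (c : F) : hs.conjL hb (tv h v c) = tv h (s v) (κ⁻¹ * τ c) := by
  apply LinearEquiv.ext
  intro x
  rw [hs.conjL_apply, tv_apply, tv_apply, hs.add, s_sinv hb, hs.smul, map_mul, hs.form_sinv hb]
  congr 2
  ring

end

section
variable {F : Type u} [Field F] [Fintype F] {V : Type u} [AddCommGroup V]
  [Module F V] [FiniteDimensional F V] {B : V → V → F} {s : V → V} {τ : F ≃+* F} {κ : F}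

/-- the endomorphism of the isometry group induced by a semilinear similitude -/
noncomputable def SSim.cT (hs : SSim B s τ κ) (hb : Function.Bijective s) :
    ↥(isom B) →* ↥(isom B) where
  toFun g := ⟨hs.conjL hb g, hs.conj_mem hb g.2⟩
  map_one' := Subtype.ext (map_one (hs.conjHom hb))
  map_mul' a b := Subtype.ext (map_mul (hs.conjHom hb) (a : V ≃ₗ[F] V) (b : V ≃ₗ[F] V))

theorem SSim.cT_bijective (hs : SSim B s τ κ) (hb : Function.Bijective s) :
    Function.Bijective (hs.cT hb) := by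
  haveI := finite_T B
  rw [← Finite.injective_iff_bijective]
  intro g g' hgg
  apply Subtype.ext
  apply hs.conjHom_injective hb
  have := congrArg (fun z : ↥(isom B) => (z : V ≃ₗ[F] V)) hgg
  exact this

/-- the automorphism of the isometry group induced by a semilinear similitude -/
noncomputable def SSim.cE (hs : SSim B s τ κ) (hb : Function.Bijective s) :
    ↥(isom B) ≃* ↥(isom B) :=
  MulEquiv.ofBijective (hs.cT hb) (hs.cT_bijective hb)

theorem SSim.cE_coe (hs : SSim B s τ κ) (hb : Function.Bijective s) (g : ↥(isom B)) :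
    ((hs.cE hb g : ↥(isom B)) : V ≃ₗ[F] V) = hs.conjL hb g := rfl

variable {𝔗 : Type w} [Group 𝔗] {ρ : ↥(isom B) →* 𝔗}

/-- the automorphism of the quotient induced by a semilinear similitude -/
theorem SSim.exists_bar (hs : SSim B s τ κ) (hb : Function.Bijective s)
    (q : SQMap B ρ) : ∃ c' : 𝔗 ≃* 𝔗, ∀ g, c' (ρ g) = ρ (hs.cE hb g) := by
  apply exists_descend ρ q.surj
  intro g
  rw [q.ker, q.ker]
  constructor
  · rintro ⟨a, ha⟩
    refine ⟨τ a, fun x => ?_⟩
    rw [hs.cE_coe, hs.conjL_apply, ha, hs.smul, s_sinv hb]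
  · rintro ⟨a, ha⟩
    refine ⟨τ.symm a, fun x => ?_⟩
    have h1 := ha (s x)
    rw [hs.cE_coe, hs.conjL_apply_s] at h1
    apply hb.1
    rw [h1, hs.smul, RingEquiv.apply_symm_apply]

/-- the induced automorphism moves the transvection groups along `s` -/
theorem SSim.map_Xg (hs : SSim B s τ κ) (hb : Function.Bijective s) (h : AltF B) (u : V) :
    (Xg h u).map (hs.cE hb).toMonoidHom = Xg h (s u) := by
  apply le_antisymm
  · rintro _ ⟨g, ⟨c, hg⟩, rfl⟩
    refine ⟨κ⁻¹ * τ c, ?_⟩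
    show ((hs.cE hb g : ↥(isom B)) : V ≃ₗ[F] V) = _
    rw [hs.cE_coe, hg, hs.conjL_tv hb h]
  · rintro g ⟨c, hg⟩
    refine ⟨tvT h u (τ.symm (κ * c)), tvT_mem h u _, ?_⟩
    apply Subtype.ext
    show ((hs.cE hb (tvT h u (τ.symm (κ * c))) : ↥(isom B)) : V ≃ₗ[F] V) = _
    rw [hs.cE_coe, hg]
    show hs.conjL hb (tv h u (τ.symm (κ * c))) = _
    rw [hs.conjL_tv hb h, RingEquiv.apply_symm_apply, ← mul_assoc, inv_mul_cancel₀ hs.hκ0,
      one_mul]

theorem map_conj_comm (β : 𝔗 ≃* 𝔗) (x : 𝔗) (X : Subgroup 𝔗) :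
    (X.map (MulAut.conj x).toMonoidHom).map β.toMonoidHom
      = (X.map β.toMonoidHom).map (MulAut.conj (β x)).toMonoidHom := by
  apply le_antisymm
  · rintro _ ⟨_, ⟨y, hy, rfl⟩, rfl⟩
    refine ⟨β y, ⟨y, hy, rfl⟩, ?_⟩
    show β x * β y * (β x)⁻¹ = β (x * y * x⁻¹)
    rw [map_mul, map_mul, map_inv]
  · rintro _ ⟨_, ⟨y, hy, rfl⟩, rfl⟩
    refine ⟨x * y * x⁻¹, ⟨y, hy, rfl⟩, ?_⟩
    show β (x * y * x⁻¹) = β x * β y * (β x)⁻¹
    rw [map_mul, map_mul, map_inv]

/-- an automorphism fixing every transvection group is trivial -/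
theorem rigid (q : SQMap B ρ) (d : SData B) [Nontrivial V] (p : ℕ) [Fact p.Prime] [CharP F p]
    (β : 𝔗 ≃* 𝔗) (hβ : ∀ u : V, u ≠ 0 → (Xb d.alt ρ u).map β.toMonoidHom = Xb d.alt ρ u)
    (x : 𝔗) : β x = x := by
  obtain ⟨g, rfl⟩ := q.surj x
  obtain ⟨g', hg'⟩ := q.surj (β (ρ g))
  rw [← hg']
  have hpt : ∀ u : V, ∃ a : F, ((g⁻¹ * g' : ↥(isom B)) : V ≃ₗ[F] V) u = a • u := by
    intro u
    by_cases hu : u = 0
    · exact ⟨1, by rw [hu, map_zero, smul_zero]⟩
    have hgu : (g : V ≃ₗ[F] V) u ≠ 0 := by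
      intro h0
      apply hu
      have : (g : V ≃ₗ[F] V) u = (g : V ≃ₗ[F] V) 0 := by rw [h0, map_zero]
      exact (g : V ≃ₗ[F] V).injective this
    have hg'u : (g' : V ≃ₗ[F] V) u ≠ 0 := by
      intro h0
      apply hu
      have : (g' : V ≃ₗ[F] V) u = (g' : V ≃ₗ[F] V) 0 := by rw [h0, map_zero]
      exact (g' : V ≃ₗ[F] V).injective this
    have h1 : Xb d.alt ρ ((g' : V ≃ₗ[F] V) u) = Xb d.alt ρ ((g : V ≃ₗ[F] V) u) := by
      rw [← conj_Xb, hg', ← hβ u hu, ← map_conj_comm, conj_Xb, hβ _ hgu]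
    obtain ⟨a, ha⟩ := q.Xb_le d p hg'u hgu h1.le
    refine ⟨a, ?_⟩
    rw [Subgroup.coe_mul, Subgroup.coe_inv, LinearEquiv.mul_apply, ha, map_smul,
      ← LinearEquiv.mul_apply, inv_mul_cancel]
    rfl
  obtain ⟨a, ha⟩ := scalar_of_fix_points _ hpt
  have h2 : ρ (g⁻¹ * g') = 1 := (q.ker _).2 ⟨a, ha⟩
  rw [map_mul, map_inv, inv_mul_eq_one] at h2
  exact h2.symm

/-- **Automorphisms permuting the transvection groups are induced by semilinear
similitudes.** -/
theorem aut_eq_semi (q : SQMap B ρ) (d : SData B) (hdim : ∃ x y z : V, Indep3 (F := F) x y z)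
    (p : ℕ) [Fact p.Prime] [CharP F p] (α : 𝔗 ≃* 𝔗) (hα : Perm d ρ α)
    (hα' : Perm d ρ α.symm) :
    ∃ (s : V → V) (τ : F ≃+* F) (κ : F) (hs : SSim B s τ κ) (hb : Function.Bijective s),
      ∀ g : ↥(isom B), α (ρ g) = ρ (hs.cE hb g) := by
  haveI : Finite V := Module.finite_of_finite F
  obtain ⟨x₀, x₁, x₂, hI⟩ := hdim
  have hx₀ : x₀ ≠ 0 := hI.indep12.left_ne
  haveI : Nontrivial V := ⟨⟨x₀, 0, hx₀⟩⟩
  have hcoll := ptMap_coll q d p hα hα'
  obtain ⟨τ, s, hadd, hsmul, hprop⟩ := ftpg hcoll ⟨x₀, x₁, x₂, hI⟩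
  have hs0 : s 0 = 0 := by
    have := hsmul 0 0
    rwa [zero_smul, map_zero, zero_smul] at this
  have hsne : ∀ x, x ≠ 0 → s x ≠ 0 := by
    intro x hx
    obtain ⟨a, ha, hsx⟩ := hprop x hx
    rw [hsx]
    exact smul_ne_zero ha (ptMap_spec d hα hx).1
  have hperp : ∀ x y, B (s x) (s y) = 0 ↔ B x y = 0 := by
    intro x y
    by_cases hx : x = 0
    · rw [hx, hs0, d.alt.zero_left, d.alt.zero_left]
    by_cases hy : y = 0
    · rw [hy, hs0, d.alt.zero_right, d.alt.zero_right]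
    obtain ⟨a, ha, hsx⟩ := hprop x hx
    obtain ⟨b, hb, hsy⟩ := hprop y hy
    rw [hsx, hsy, d.alt.smul_left, d.alt.smul_right, ← ptMap_perp q d p hα hx hy]
    constructor
    · intro h0
      exact (mul_eq_zero.1 ((mul_eq_zero.1 h0).resolve_left ha)).resolve_left hb
    · intro h0
      rw [h0, mul_zero, mul_zero]
  obtain ⟨κ, hκ0, hκ⟩ := semi_of_perp d ⟨x₀, hx₀⟩ s τ hadd hsmul hperp
  have hs : SSim B s τ κ := ⟨hadd, hsmul, hκ, hκ0, rfl, fun _ => rfl⟩
  have hinj : Function.Injective s := by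
    intro x y hxy
    have h1 : s (x - y) = 0 := by rw [hs.sub, hxy, sub_self]
    by_contra hne
    exact hsne (x - y) (sub_ne_zero.2 hne) h1
  have hb : Function.Bijective s := Finite.injective_iff_bijective.1 hinj
  obtain ⟨c', hc'⟩ := hs.exists_bar hb q
  refine ⟨s, τ, κ, hs, hb, fun g => ?_⟩
  rw [← hc']
  -- the automorphism `c'⁻¹ α` fixes every transvection group
  have hXs : ∀ u : V, u ≠ 0 → (Xb d.alt ρ u).map α.toMonoidHom = Xb d.alt ρ (s u) := by
    intro u hu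
    obtain ⟨a, ha, hsu⟩ := hprop u hu
    rw [hsu, Xb_smul d.alt ρ _ a ha]
    exact (ptMap_spec d hα hu).2
  have hXc : ∀ u : V, (Xb d.alt ρ u).map c'.toMonoidHom = Xb d.alt ρ (s u) := by
    intro u
    unfold Xb
    rw [← hs.map_Xg hb d.alt u, Subgroup.map_map, Subgroup.map_map]
    congr 1
    ext g
    exact hc' g
  have hβ : ∀ u : V, u ≠ 0 →
      (Xb d.alt ρ u).map (α.trans c'.symm).toMonoidHom = Xb d.alt ρ u := by
    intro u hu
    have h1 : (α.trans c'.symm).toMonoidHom = c'.symm.toMonoidHom.comp α.toMonoidHom := rfl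
    rw [h1, ← Subgroup.map_map, hXs u hu, ← hXc u, Subgroup.map_map]
    have : c'.symm.toMonoidHom.comp c'.toMonoidHom = MonoidHom.id 𝔗 := by
      ext x
      simp
    rw [this, Subgroup.map_id]
  have h2 := rigid q d p (α.trans c'.symm) hβ (ρ g)
  have h3 : c'.symm (α (ρ g)) = ρ g := h2
  have h4 := congrArg c' h3
  rw [MulEquiv.apply_symm_apply] at h4
  exact h4

end

end Cfsg.Agent.Lib.Helper5.SpAut
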