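import Mathlib
import Cfsg.Agent.Lib.Helper5.SpAut5
import Cfsg.Agent.Lib.Helper2.SpFrames
import Cfsg.Agent.Lib.Helper5.PGO1
import Cfsg.Agent.S0246

set_option autoImplicit false

/-! Automorphisms of `PSp_{2m}(F)` induced by conformal symplectic matrices and by field
automorphisms. -/

namespace Cfsg.Agent.Lib.Helper5.PSpAut

open Matrix Cfsg.Agent.Lib.Helper5.PGO Cfsg.Agent.Lib.Helper2.Symp
  Cfsg.Agent.Lib.Helper1.SpCard

section
variable {F : Type*} [Field F] {m : ℕ}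

theorem sympForm_eq_sum (u v : Fin m ⊕ Fin m → F) :
    Cfsg.sympForm m F u v
      = ∑ i : Fin m, (u (Sum.inr i) * v (Sum.inl i) - u (Sum.inl i) * v (Sum.inr i)) := by
  unfold Cfsg.sympForm
  unfold dotProduct
  rw [Fintype.sum_sum_type, Finset.sum_sub_distrib]
  simp only [J_mulVec_apply_inl, J_mulVec_apply_inr]
  rw [add_comm, sub_eq_add_neg, ← Finset.sum_neg_distrib]
  congr 1
  apply Finset.sum_congr rfl
  intro i _
  ring

theorem symp_map (σ : F ≃+* F) (x y : Fin m ⊕ Fin m → F) :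
    Cfsg.sympForm m F (fun i => σ (x i)) (fun i => σ (y i)) = σ (Cfsg.sympForm m F x y) := by
  rw [sympForm_eq_sum, sympForm_eq_sum, map_sum]
  apply Finset.sum_congr rfl
  intro i _
  rw [map_sub, map_mul, map_mul]

theorem map_mulVec' (σ : F ≃+* F) (M : Matrix (Fin m ⊕ Fin m) (Fin m ⊕ Fin m) F)
    (x : Fin m ⊕ Fin m → F) :
    M.map σ *ᵥ (fun i => σ (x i)) = fun i => σ ((M *ᵥ x) i) := by
  funext i
  have := RingHom.map_mulVec (σ : F →+* F) M x i
  exact this.symm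

theorem conj_mem (g : GL (Fin m ⊕ Fin m) F) (hg : g ∈ Cfsg.GSp m F)
    (A : Matrix (Fin m ⊕ Fin m) (Fin m ⊕ Fin m) F) (hA : A ∈ Matrix.symplecticGroup (Fin m) F) :
    (g : Matrix (Fin m ⊕ Fin m) (Fin m ⊕ Fin m) F) * A
      * ((g⁻¹ : GL (Fin m ⊕ Fin m) F) : Matrix (Fin m ⊕ Fin m) (Fin m ⊕ Fin m) F)
      ∈ Matrix.symplecticGroup (Fin m) F := by
  obtain ⟨c, hc⟩ := hg
  rw [mem_symplectic_iff_form] at hA ⊢
  intro u v
  have hinv : ∀ x : Fin m ⊕ Fin m → F, (g : Matrix (Fin m ⊕ Fin m) (Fin m ⊕ Fin m) F) *ᵥ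
      (((g⁻¹ : GL (Fin m ⊕ Fin m) F) : Matrix (Fin m ⊕ Fin m) (Fin m ⊕ Fin m) F) *ᵥ x) = x := by
    intro x
    rw [Matrix.mulVec_mulVec, ← Units.val_mul, mul_inv_cancel, Units.val_one, Matrix.one_mulVec]
  rw [← Matrix.mulVec_mulVec, ← Matrix.mulVec_mulVec, ← Matrix.mulVec_mulVec,
    ← Matrix.mulVec_mulVec, hc, hA, ← hc, hinv, hinv]

theorem map_mem (σ : F ≃+* F) (A : Matrix (Fin m ⊕ Fin m) (Fin m ⊕ Fin m) F)
    (hA : A ∈ Matrix.symplecticGroup (Fin m) F) : A.map σ ∈ Matrix.symplecticGroup (Fin m) F := by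
  rw [mem_symplectic_iff_form] at hA ⊢
  intro u v
  obtain ⟨u, rfl⟩ : ∃ u' : Fin m ⊕ Fin m → F, u = fun i => σ (u' i) :=
    ⟨fun i => σ.symm (u i), by funext i; rw [RingEquiv.apply_symm_apply]⟩
  obtain ⟨v, rfl⟩ : ∃ v' : Fin m ⊕ Fin m → F, v = fun i => σ (v' i) :=
    ⟨fun i => σ.symm (v i), by funext i; rw [RingEquiv.apply_symm_apply]⟩
  rw [map_mulVec', map_mulVec', symp_map, hA, symp_map]

/-- conjugation by a conformal symplectic matrix, on the symplectic group -/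
def spConj : ↥(Cfsg.GSp m F) →* MulAut ↥(Matrix.symplecticGroup (Fin m) F) where
  toFun g :=
    { toFun := fun A => ⟨_, conj_mem (g : GL (Fin m ⊕ Fin m) F) g.2 A.1 A.2⟩
      invFun := fun A => ⟨_, conj_mem ((g⁻¹ : ↥(Cfsg.GSp m F)) : GL (Fin m ⊕ Fin m) F)
        (g⁻¹).2 A.1 A.2⟩
      left_inv := fun A => by
        apply Subtype.ext
        show ((g⁻¹ : ↥(Cfsg.GSp m F)) : GL (Fin m ⊕ Fin m) F).1 * (g.1.1 * A.1 * (g.1⁻¹).1)
          * ((((g⁻¹ : ↥(Cfsg.GSp m F)) : GL (Fin m ⊕ Fin m) F))⁻¹).1 = A.1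
        rw [Subgroup.coe_inv, inv_inv]
        have h1 : (g.1⁻¹).1 * g.1.1 = (1 : Matrix (Fin m ⊕ Fin m) (Fin m ⊕ Fin m) F) := by
          rw [← Units.val_mul, inv_mul_cancel, Units.val_one]
        calc (g.1⁻¹).1 * (g.1.1 * A.1 * (g.1⁻¹).1) * g.1.1
            = ((g.1⁻¹).1 * g.1.1) * A.1 * ((g.1⁻¹).1 * g.1.1) := by
              simp only [Matrix.mul_assoc]
          _ = A.1 := by rw [h1, Matrix.one_mul, Matrix.mul_one]
      right_inv := fun A => by
        apply Subtype.ext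
        show g.1.1 * (((g⁻¹ : ↥(Cfsg.GSp m F)) : GL (Fin m ⊕ Fin m) F).1 * A.1
          * ((((g⁻¹ : ↥(Cfsg.GSp m F)) : GL (Fin m ⊕ Fin m) F))⁻¹).1) * (g.1⁻¹).1 = A.1
        rw [Subgroup.coe_inv, inv_inv]
        have h1 : g.1.1 * (g.1⁻¹).1 = (1 : Matrix (Fin m ⊕ Fin m) (Fin m ⊕ Fin m) F) := by
          rw [← Units.val_mul, mul_inv_cancel, Units.val_one]
        calc g.1.1 * ((g.1⁻¹).1 * A.1 * g.1.1) * (g.1⁻¹).1
            = (g.1.1 * (g.1⁻¹).1) * A.1 * (g.1.1 * (g.1⁻¹).1) := by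
              simp only [Matrix.mul_assoc]
          _ = A.1 := by rw [h1, Matrix.one_mul, Matrix.mul_one]
      map_mul' := fun A A' => by
        apply Subtype.ext
        show g.1.1 * (A.1 * A'.1) * (g.1⁻¹).1 = (g.1.1 * A.1 * (g.1⁻¹).1) * (g.1.1 * A'.1 * (g.1⁻¹).1)
        have h1 : (g.1⁻¹).1 * g.1.1 = (1 : Matrix (Fin m ⊕ Fin m) (Fin m ⊕ Fin m) F) := by
          rw [← Units.val_mul, inv_mul_cancel, Units.val_one]
        calc g.1.1 * (A.1 * A'.1) * (g.1⁻¹).1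
            = g.1.1 * A.1 * 1 * A'.1 * (g.1⁻¹).1 := by
              rw [Matrix.mul_one]; simp only [Matrix.mul_assoc]
          _ = (g.1.1 * A.1 * (g.1⁻¹).1) * (g.1.1 * A'.1 * (g.1⁻¹).1) := by
              rw [← h1]; simp only [Matrix.mul_assoc] }
  map_one' := by
    apply MulEquiv.ext
    intro A
    apply Subtype.ext
    show (1 : GL (Fin m ⊕ Fin m) F).1 * A.1 * ((1 : GL (Fin m ⊕ Fin m) F)⁻¹).1 = A.1
    rw [inv_one, Units.val_one, Matrix.one_mul, Matrix.mul_one]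
  map_mul' g h := by
    apply MulEquiv.ext
    intro A
    apply Subtype.ext
    show (g.1 * h.1).1 * A.1 * ((g.1 * h.1)⁻¹).1 = g.1.1 * (h.1.1 * A.1 * (h.1⁻¹).1) * (g.1⁻¹).1
    rw [_root_.mul_inv_rev, Units.val_mul, Units.val_mul]
    simp only [Matrix.mul_assoc]

theorem spConj_coe (g : ↥(Cfsg.GSp m F)) (A : ↥(Matrix.symplecticGroup (Fin m) F)) :
    ((spConj g A : ↥(Matrix.symplecticGroup (Fin m) F)) :
      Matrix (Fin m ⊕ Fin m) (Fin m ⊕ Fin m) F)
      = ((g : GL (Fin m ⊕ Fin m) F) : Matrix (Fin m ⊕ Fin m) (Fin m ⊕ Fin m) F) * A.1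
        * (((g : GL (Fin m ⊕ Fin m) F)⁻¹ : GL (Fin m ⊕ Fin m) F) :
          Matrix (Fin m ⊕ Fin m) (Fin m ⊕ Fin m) F) := rfl

/-- a field automorphism, on the symplectic group -/
def spField : (F ≃+* F) →* MulAut ↥(Matrix.symplecticGroup (Fin m) F) where
  toFun σ :=
    { toFun := fun A => ⟨A.1.map σ, map_mem σ A.1 A.2⟩
      invFun := fun A => ⟨A.1.map σ.symm, map_mem σ.symm A.1 A.2⟩
      left_inv := fun A => by
        apply Subtype.ext
        ext i j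
        show σ.symm (σ (A.1 i j)) = A.1 i j
        rw [RingEquiv.symm_apply_apply]
      right_inv := fun A => by
        apply Subtype.ext
        ext i j
        show σ (σ.symm (A.1 i j)) = A.1 i j
        rw [RingEquiv.apply_symm_apply]
      map_mul' := fun A A' => by
        apply Subtype.ext
        show (A.1 * A'.1).map σ = A.1.map σ * A'.1.map σ
        exact Matrix.map_mul (f := (σ : F →+* F)) }
  map_one' := by
    ext A i j
    rfl
  map_mul' σ τ := by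
    ext A i j
    rfl

theorem spField_coe (σ : F ≃+* F) (A : ↥(Matrix.symplecticGroup (Fin m) F)) :
    ((spField σ A : ↥(Matrix.symplecticGroup (Fin m) F)) :
      Matrix (Fin m ⊕ Fin m) (Fin m ⊕ Fin m) F) = A.1.map σ := rfl

/-- conjugation by a conformal symplectic matrix, on `PSp` -/
noncomputable def cjC : ↥(Cfsg.GSp m F) →* MulAut (Cfsg.PSp m F) :=
  (quotChar (Subgroup.center ↥(Matrix.symplecticGroup (Fin m) F))).comp spConj

/-- a field automorphism, on `PSp` -/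
noncomputable def fa : (F ≃+* F) →* MulAut (Cfsg.PSp m F) :=
  (quotChar (Subgroup.center ↥(Matrix.symplecticGroup (Fin m) F))).comp spField

theorem cjC_mk (g : ↥(Cfsg.GSp m F)) (A : ↥(Matrix.symplecticGroup (Fin m) F)) :
    cjC g (QuotientGroup.mk A) = (QuotientGroup.mk (spConj g A) : Cfsg.PSp m F) := rfl

theorem fa_mk (σ : F ≃+* F) (A : ↥(Matrix.symplecticGroup (Fin m) F)) :
    (fa σ : MulAut (Cfsg.PSp m F)) (QuotientGroup.mk A)
      = (QuotientGroup.mk (spField σ A) : Cfsg.PSp m F) := rfl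

end

end Cfsg.Agent.Lib.Helper5.PSpAut
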