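import Mathlib
import Cfsg.Agent.Lib.Helper5.PSpAut1

set_option autoImplicit false

/-! Transport of the abstract automorphism theorem to `PSp_{2m}(F)`. -/

namespace Cfsg.Agent.Lib.Helper5.PSpAut

open Matrix Module Cfsg.Agent.Lib.Helper5.PGO Cfsg.Agent.Lib.Helper2.Symp
  Cfsg.Agent.Lib.Helper1.SpCard Cfsg.Agent.Lib.Helper2.IsomDecomp Cfsg.Agent.Lib.Helper5.SpAut
  Cfsg.Agent.Lib.Helper5.FTPG Cfsg.Agent.Lib.Helper5.UAut Cfsg.Agent.Lib.Helper2.SpIsom
  Cfsg.Agent.Lib.Helper2.SpFrames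

universe u

section
variable {F : Type u} [Field F] {m : ℕ}

theorem altF_symp : AltF (Cfsg.sympForm m F) where
  add_left := sympForm_add_left
  smul_left := sympForm_smul_left
  swap := sympForm_swap
  self := sympForm_self

theorem sData_symp : SData (Cfsg.sympForm m F) where
  alt := altF_symp
  nd := sympForm_nondeg

/-- the symplectic group as the isometry group of the form -/
noncomputable def eSp : ↥(Matrix.symplecticGroup (Fin m) F) ≃* ↥(isom (Cfsg.sympForm m F)) :=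
  MulEquiv.ofBijective
    ((spHom m F).codRestrict (isom (Cfsg.sympForm m F)) spHom_mem_isom)
    ⟨fun A A' h => spHom_injective (congrArg Subtype.val h),
      fun g => by
        obtain ⟨A, hA⟩ := exists_sp_of_isom g.2
        exact ⟨A, Subtype.ext hA⟩⟩

theorem eSp_coe (A : ↥(Matrix.symplecticGroup (Fin m) F)) :
    ((eSp A : ↥(isom (Cfsg.sympForm m F))) : (Fin m ⊕ Fin m → F) ≃ₗ[F] (Fin m ⊕ Fin m → F))
      = spHom m F A := rfl

theorem eSp_apply (A : ↥(Matrix.symplecticGroup (Fin m) F)) (x : Fin m ⊕ Fin m → F) :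
    ((eSp A : ↥(isom (Cfsg.sympForm m F))) : (Fin m ⊕ Fin m → F) ≃ₗ[F] (Fin m ⊕ Fin m → F)) x
      = (A : Matrix (Fin m ⊕ Fin m) (Fin m ⊕ Fin m) F) *ᵥ x := rfl

/-- the projection onto `PSp` -/
noncomputable def rhoSp : ↥(isom (Cfsg.sympForm m F)) →* Cfsg.PSp m F :=
  (QuotientGroup.mk' (Subgroup.center ↥(Matrix.symplecticGroup (Fin m) F))).comp
    (eSp (m := m) (F := F)).symm.toMonoidHom

theorem rhoSp_e (A : ↥(Matrix.symplecticGroup (Fin m) F)) :
    rhoSp (eSp A) = (QuotientGroup.mk A : Cfsg.PSp m F) := by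
  show (QuotientGroup.mk (eSp.symm (eSp A)) : Cfsg.PSp m F) = _
  rw [MulEquiv.symm_apply_apply]

theorem sqMap_rhoSp [Fintype F] : SQMap (Cfsg.sympForm m F) (rhoSp (m := m) (F := F)) where
  surj := by
    intro x
    obtain ⟨A, rfl⟩ := QuotientGroup.mk_surjective x
    exact ⟨eSp A, rhoSp_e A⟩
  ker := by
    intro g
    obtain ⟨A, rfl⟩ := (eSp (m := m) (F := F)).surjective g
    rw [rhoSp_e, QuotientGroup.eq_one_iff]
    constructor
    · intro hA
      obtain ⟨a, ha⟩ := Cfsg.Agent.S0246.central_scalar A hA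
      refine ⟨a, fun x => ?_⟩
      rw [eSp_apply, ha, Matrix.smul_mulVec, Matrix.one_mulVec]
    · rintro ⟨a, ha⟩
      have h1 : (A : Matrix (Fin m ⊕ Fin m) (Fin m ⊕ Fin m) F)
          = a • (1 : Matrix (Fin m ⊕ Fin m) (Fin m ⊕ Fin m) F) := by
        apply Matrix.toLin'.injective
        apply LinearMap.ext
        intro x
        rw [Matrix.toLin'_apply, Matrix.toLin'_apply, ← eSp_apply, ha, Matrix.smul_mulVec,
          Matrix.one_mulVec]
      rw [Subgroup.mem_center_iff]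
      intro B
      apply Subtype.ext
      rw [Submonoid.coe_mul, Submonoid.coe_mul, h1, Matrix.mul_smul, Matrix.smul_mul,
        Matrix.mul_one, Matrix.one_mul]

theorem exists_indep3 (hm : 2 ≤ m) : ∃ x y z : Fin m ⊕ Fin m → F, Indep3 (F := F) x y z := by
  let i0 : Fin m ⊕ Fin m := Sum.inl ⟨0, by omega⟩
  let i1 : Fin m ⊕ Fin m := Sum.inl ⟨1, by omega⟩
  let i2 : Fin m ⊕ Fin m := Sum.inr ⟨0, by omega⟩
  have h01 : i0 ≠ i1 := by
    intro h
    have := Sum.inl.inj h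
    simp [Fin.ext_iff] at this
  have h02 : i0 ≠ i2 := Sum.inl_ne_inr
  have h12 : i1 ≠ i2 := Sum.inl_ne_inr
  refine ⟨Pi.single i0 1, Pi.single i1 1, Pi.single i2 1, ?_⟩
  intro a b c habc
  have e0 := congrFun habc i0
  have e1 := congrFun habc i1
  have e2 := congrFun habc i2
  simp only [Pi.add_apply, Pi.smul_apply, Pi.single_apply, smul_eq_mul, Pi.zero_apply] at e0 e1 e2
  rw [if_pos trivial, if_neg h01, if_neg h02] at e0
  rw [if_neg h01.symm, if_pos trivial, if_neg h12] at e1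
  rw [if_neg h02.symm, if_neg h12.symm, if_pos trivial] at e2
  refine ⟨?_, ?_, ?_⟩
  · simpa using e0
  · simpa using e1
  · simpa using e2

end

section
variable {F : Type u} [Field F] {ι : Type} [Fintype ι] [DecidableEq ι]
  {H : (ι → F) → (ι → F) → F} {σ : F ≃+* F}
  {s : (ι → F) → (ι → F)} {τ : F ≃+* F} {κ : F}

/-- the matrix of a semilinear map -/
def sMatI (s : (ι → F) → (ι → F)) : Matrix ι ι F :=
  Matrix.of fun i j => s (Pi.single j 1) i

theorem apply_eq_sMatI (hs : SemiSim σ H s τ κ) (x : ι → F) :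
    s x = sMatI s *ᵥ (fun j => τ (x j)) := by
  let sA : (ι → F) →+ (ι → F) := ⟨⟨s, hs.zero⟩, hs.add⟩
  have hx : x = ∑ j, x j • (Pi.single j 1 : ι → F) := by
    ext i
    simp [Finset.sum_apply, Pi.single_apply]
  have h1 : s x = ∑ j, τ (x j) • s (Pi.single j 1) := by
    conv_lhs => rw [hx]
    show sA _ = _
    rw [map_sum]
    apply Finset.sum_congr rfl
    intro j _
    exact hs.smul _ _
  rw [h1]
  ext i
  simp [sMatI, Matrix.mulVec, dotProduct, Finset.sum_apply, mul_comm]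

theorem isUnit_sMatI (hs : SemiSim σ H s τ κ) (hb : Function.Bijective s) :
    IsUnit (sMatI s) := by
  rw [← Matrix.mulVec_injective_iff_isUnit]
  intro y y' hyy
  have h1 : ∀ z : ι → F, z = fun j => τ ((fun i => τ.symm (z i)) j) := by
    intro z
    funext j
    rw [RingEquiv.apply_symm_apply]
  rw [h1 y, h1 y'] at hyy
  have hyy' : sMatI s *ᵥ (fun j => τ ((fun i => τ.symm (y i)) j))
      = sMatI s *ᵥ (fun j => τ ((fun i => τ.symm (y' i)) j)) := hyy
  rw [← apply_eq_sMatI hs, ← apply_eq_sMatI hs] at hyy'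
  have h2 := hb.1 hyy'
  funext j
  have h3 := congrFun h2 j
  exact τ.symm.injective h3

end

section
variable {F : Type u} [Field F] [Fintype F] {m : ℕ}

/-- an automorphism of `PSp` permuting the transvection groups is induced by a semilinear
similitude -/
theorem aut_PSp_of_perm (hm : 2 ≤ m) (p : ℕ) [Fact p.Prime] [CharP F p]
    (α : MulAut (Cfsg.PSp m F))
    (hα : Perm (sData_symp (m := m) (F := F)) rhoSp α)
    (hα' : Perm (sData_symp (m := m) (F := F)) rhoSp (MulEquiv.symm α)) :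
    ∃ (g : ↥(Cfsg.GSp m F)) (τ : F ≃+* F), α = cjC g * fa τ := by
  classical
  have d := sData_symp (m := m) (F := F)
  have qm := sqMap_rhoSp (m := m) (F := F)
  obtain ⟨s, τ, κ, hs, hb, hmain⟩ := aut_eq_semi qm d (exists_indep3 hm) p α hα hα'
  have hP := isUnit_sMatI hs hb
  obtain ⟨P, hPe⟩ : ∃ P : GL (Fin m ⊕ Fin m) F,
      (P : Matrix (Fin m ⊕ Fin m) (Fin m ⊕ Fin m) F) = sMatI s := ⟨hP.unit, rfl⟩
  have hPG : P ∈ Cfsg.GSp m F := by
    refine ⟨Units.mk0 κ hs.hκ0, fun u v => ?_⟩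
    obtain ⟨u', rfl⟩ : ∃ u' : Fin m ⊕ Fin m → F, u = fun j => τ (u' j) :=
      ⟨fun i => τ.symm (u i), by funext j; rw [RingEquiv.apply_symm_apply]⟩
    obtain ⟨v', rfl⟩ : ∃ v' : Fin m ⊕ Fin m → F, v = fun j => τ (v' j) :=
      ⟨fun i => τ.symm (v i), by funext j; rw [RingEquiv.apply_symm_apply]⟩
    rw [hPe, ← apply_eq_sMatI hs, ← apply_eq_sMatI hs, hs.form, symp_map]
    rfl
  refine ⟨⟨P, hPG⟩, τ, ?_⟩
  apply MulEquiv.ext
  intro x
  obtain ⟨A, rfl⟩ := QuotientGroup.mk_surjective x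
  rw [MulAut.mul_apply, fa_mk, cjC_mk]
  have h1 := hmain (eSp A)
  rw [rhoSp_e] at h1
  rw [h1, ← rhoSp_e]
  congr 1
  apply Subtype.ext
  apply LinearEquiv.ext
  intro y
  obtain ⟨x, rfl⟩ := hb.2 y
  rw [hs.cE_coe, hs.conjL_apply_s, eSp_apply, eSp_apply, spConj_coe, spField_coe,
    apply_eq_sMatI hs, apply_eq_sMatI hs x, ← hPe, Matrix.mulVec_mulVec]
  show _ = ((P : Matrix (Fin m ⊕ Fin m) (Fin m ⊕ Fin m) F) * (A.1.map τ)
    * ((P⁻¹ : GL (Fin m ⊕ Fin m) F) : Matrix (Fin m ⊕ Fin m) (Fin m ⊕ Fin m) F)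
    * (P : Matrix (Fin m ⊕ Fin m) (Fin m ⊕ Fin m) F)) *ᵥ fun j => τ (x j)
  rw [Matrix.mul_assoc, ← Units.val_mul, inv_mul_cancel, Units.val_one, Matrix.mul_one,
    ← Matrix.mulVec_mulVec, map_mulVec']

/-- every automorphism of `PSp_{2m}(F)`, `F` of odd characteristic, is induced by a semilinear
similitude -/
theorem aut_PSp (hm : 2 ≤ m) (p : ℕ) [Fact p.Prime] [CharP F p] (hp2 : p ≠ 2)
    (α : MulAut (Cfsg.PSp m F)) :
    ∃ (g : ↥(Cfsg.GSp m F)) (τ : F ≃+* F), α = cjC g * fa τ := by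
  have d := sData_symp (m := m) (F := F)
  have qm := sqMap_rhoSp (m := m) (F := F)
  exact aut_PSp_of_perm hm p α (fun u hu => qm.map_Xb d p hp2 α u hu)
    (fun u hu => qm.map_Xb d p hp2 (MulEquiv.symm α) u hu)

end

end Cfsg.Agent.Lib.Helper5.PSpAut
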