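import Mathlib
import Cfsg.Agent.Lib.Helper5.PSpAut2
import Cfsg.Agent.Lib.Helper5.GraphSplit3

set_option autoImplicit false

/-! Faithfulness of the action of the conformal semilinear symplectic group on `PSp`. -/

namespace Cfsg.Agent.Lib.Helper5.PSpAut

open Matrix Module Cfsg.Agent.Lib.Helper5.PGO Cfsg.Agent.Lib.Helper2.Symp
  Cfsg.Agent.Lib.Helper1.SpCard Cfsg.Agent.Lib.Helper2.IsomDecomp Cfsg.Agent.Lib.Helper5.SpAut
  Cfsg.Agent.Lib.Helper5.FTPG Cfsg.Agent.Lib.Helper5.UAut Cfsg.Agent.Lib.Helper2.SpIsom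
  Cfsg.Agent.Lib.Helper2.SpFrames Cfsg.Agent.Lib.Helper1.SpBasic
  Cfsg.Agent.Lib.Helper5.GraphSplit

universe u

section
variable {F : Type*} [Field F] {V : Type*} [AddCommGroup V] [Module F V]

/-- a linear map fixing every point is a scalar -/
theorem scalar_of_fix_points_lin [Nontrivial V] (g : V →ₗ[F] V)
    (hg : ∀ x : V, ∃ a : F, g x = a • x) : ∃ a : F, ∀ x, g x = a • x := by
  obtain ⟨x₀, hx₀⟩ := exists_ne (0 : V)
  obtain ⟨a, ha⟩ := hg x₀
  refine ⟨a, fun x => ?_⟩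
  by_cases hx : x = 0
  · rw [hx, map_zero, smul_zero]
  obtain ⟨b, hb⟩ := hg x
  by_cases hdep : ∃ t : F, x = t • x₀
  · obtain ⟨t, rfl⟩ := hdep
    rw [map_smul, ha, smul_comm]
  · push Not at hdep
    obtain ⟨c, hc⟩ := hg (x₀ + x)
    rw [map_add, ha, hb, smul_add] at hc
    have h1 : (a - c) • x₀ = (c - b) • x := by
      rw [sub_smul, sub_smul]
      rw [sub_eq_sub_iff_add_eq_add]
      rw [add_comm (c • x)]
      exact hc
    have hcb : c - b = 0 := by
      by_contra hne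
      apply hdep ((c - b)⁻¹ * (a - c))
      rw [← smul_smul, h1, smul_smul, inv_mul_cancel₀ hne, one_smul]
    rw [hcb, zero_smul, smul_eq_zero] at h1
    rcases h1 with h1 | h1
    · have : a = b := by
        have e1 : a = c := sub_eq_zero.1 h1
        have e2 : c = b := sub_eq_zero.1 hcb
        rw [e1, e2]
      rw [hb, this]
    · exact absurd h1 hx₀

end

section
variable {F : Type u} [Field F] [Fintype F] {m : ℕ}

theorem eSp_T (v : Fin m ⊕ Fin m → F) (c : F) :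
    eSp (T v c) = tvT (altF_symp (m := m) (F := F)) v c := by
  apply Subtype.ext
  apply LinearEquiv.ext
  intro x
  rw [eSp_apply, T_mulVec]
  show _ = tv altF_symp v c x
  rw [tv_apply]

theorem rhoSp_tv (v : Fin m ⊕ Fin m → F) (c : F) :
    rhoSp (tvT (altF_symp (m := m) (F := F)) v c) = (QuotientGroup.mk (T v c) : Cfsg.PSp m F) := by
  rw [← eSp_T, rhoSp_e]

theorem GSp_inv_mulVec (g : ↥(Cfsg.GSp m F)) (x : Fin m ⊕ Fin m → F) :
    ((g : GL (Fin m ⊕ Fin m) F) : Matrix (Fin m ⊕ Fin m) (Fin m ⊕ Fin m) F) *ᵥ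
      ((((g : GL (Fin m ⊕ Fin m) F)⁻¹ : GL (Fin m ⊕ Fin m) F) :
        Matrix (Fin m ⊕ Fin m) (Fin m ⊕ Fin m) F) *ᵥ x) = x := by
  rw [Matrix.mulVec_mulVec, ← Units.val_mul, mul_inv_cancel, Units.val_one, Matrix.one_mulVec]

/-- the conjugate of a transvection by a conformal symplectic matrix -/
theorem spConj_T (g : ↥(Cfsg.GSp m F)) (v : Fin m ⊕ Fin m → F) (c : F) :
    spConj g (T v c)
      = T (((g : GL (Fin m ⊕ Fin m) F) : Matrix (Fin m ⊕ Fin m) (Fin m ⊕ Fin m) F) *ᵥ v)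
        (c * ((muS g : Fˣ) : F)⁻¹) := by
  apply ext_mulVec
  intro x
  rw [spConj_coe, T_mulVec, ← Matrix.mulVec_mulVec, ← Matrix.mulVec_mulVec, T_mulVec,
    Matrix.mulVec_add, Matrix.mulVec_smul, GSp_inv_mulVec]
  congr 2
  have h1 := muS_spec g ((((g : GL (Fin m ⊕ Fin m) F)⁻¹ : GL (Fin m ⊕ Fin m) F) :
        Matrix (Fin m ⊕ Fin m) (Fin m ⊕ Fin m) F) *ᵥ x) v
  rw [GSp_inv_mulVec] at h1
  rw [h1]
  have hμ : ((muS g : Fˣ) : F) ≠ 0 := (muS g).ne_zero
  field_simp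

theorem spField_T (σ : F ≃+* F) (v : Fin m ⊕ Fin m → F) (c : F) :
    spField σ (T v c) = T (fun i => σ (v i)) (σ c) := by
  apply ext_mulVec
  intro x
  obtain ⟨x, rfl⟩ : ∃ x' : Fin m ⊕ Fin m → F, x = fun i => σ (x' i) :=
    ⟨fun i => σ.symm (x i), by funext i; rw [RingEquiv.apply_symm_apply]⟩
  rw [spField_coe, map_mulVec', T_mulVec, T_mulVec, symp_map]
  funext i
  simp only [Pi.add_apply, Pi.smul_apply, smul_eq_mul, map_add, map_mul]

/-- injectivity of the projection on transvections -/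
theorem mk_T_inj (p : ℕ) [Fact p.Prime] [CharP F p] (hm : 1 ≤ m) {u v : Fin m ⊕ Fin m → F}
    {c c' : F} (hu : u ≠ 0) (hv : v ≠ 0)
    (h : (QuotientGroup.mk (T u c) : Cfsg.PSp m F) = QuotientGroup.mk (T v c')) :
    tv (altF_symp (m := m) (F := F)) u c = tv altF_symp v c' := by
  have d := sData_symp (m := m) (F := F)
  have qm := sqMap_rhoSp (m := m) (F := F)
  rw [← rhoSp_tv, ← rhoSp_tv] at h
  have := qm.inj_on ⟨u, hu⟩ p (isPGroup_Xg d p u hu) (isPGroup_Xg d p v hv)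
    (tvT_mem d.alt u c) (tvT_mem d.alt v c') h
  exact congrArg Subtype.val this

theorem exists_ne_vec (hm : 1 ≤ m) : ∃ x : Fin m ⊕ Fin m → F, x ≠ 0 := by
  refine ⟨Pi.single (Sum.inl ⟨0, hm⟩) 1, ?_⟩
  intro h
  have := congrFun h (Sum.inl ⟨0, hm⟩)
  simp at this

theorem mulVec_ne_zero (g : ↥(Cfsg.GSp m F)) {x : Fin m ⊕ Fin m → F} (hx : x ≠ 0) :
    ((g : GL (Fin m ⊕ Fin m) F) : Matrix (Fin m ⊕ Fin m) (Fin m ⊕ Fin m) F) *ᵥ x ≠ 0 := by
  intro h0
  apply hx
  have h1 : ((((g : GL (Fin m ⊕ Fin m) F)⁻¹ : GL (Fin m ⊕ Fin m) F) :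
        Matrix (Fin m ⊕ Fin m) (Fin m ⊕ Fin m) F) *ᵥ
      (((g : GL (Fin m ⊕ Fin m) F) : Matrix (Fin m ⊕ Fin m) (Fin m ⊕ Fin m) F) *ᵥ x)) = x := by
    rw [Matrix.mulVec_mulVec, ← Units.val_mul, inv_mul_cancel, Units.val_one, Matrix.one_mulVec]
  rw [← h1, h0, Matrix.mulVec_zero]

/-- the conformal semilinear group acts faithfully modulo scalars -/
theorem cjC_fa_inj (p : ℕ) [Fact p.Prime] [CharP F p] (hm : 1 ≤ m) (g : ↥(Cfsg.GSp m F))
    (σ : F ≃+* F) (h : cjC g * fa σ = (1 : MulAut (Cfsg.PSp m F))) :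
    σ = 1 ∧ ∃ z : F, z ≠ 0 ∧
      ((g : GL (Fin m ⊕ Fin m) F) : Matrix (Fin m ⊕ Fin m) (Fin m ⊕ Fin m) F)
        = z • (1 : Matrix (Fin m ⊕ Fin m) (Fin m ⊕ Fin m) F) := by
  have d := sData_symp (m := m) (F := F)
  obtain ⟨x₀, hx₀⟩ := exists_ne_vec (F := F) hm
  haveI : Nontrivial (Fin m ⊕ Fin m → F) := ⟨⟨x₀, 0, hx₀⟩⟩
  have hμ : ((muS g : Fˣ) : F) ≠ 0 := (muS g).ne_zero
  -- action on transvections
  have key : ∀ (u : Fin m ⊕ Fin m → F) (c : F), u ≠ 0 →
      tv (altF_symp (m := m) (F := F))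
        (((g : GL (Fin m ⊕ Fin m) F) : Matrix (Fin m ⊕ Fin m) (Fin m ⊕ Fin m) F) *ᵥ
          (fun i => σ (u i))) (σ c * ((muS g : Fˣ) : F)⁻¹) = tv altF_symp u c := by
    intro u c hu
    have h1 := congrArg (fun θ : MulAut (Cfsg.PSp m F) => θ (QuotientGroup.mk (T u c))) h
    simp only [MulAut.mul_apply, MulAut.one_apply] at h1
    rw [fa_mk, cjC_mk, spField_T, spConj_T] at h1
    have hσu : (fun i => σ (u i)) ≠ 0 := by
      intro h0
      apply hu
      funext i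
      have := congrFun h0 i
      exact (map_eq_zero_iff _ σ.injective).1 this
    exact mk_T_inj p hm (mulVec_ne_zero g hσu) hu h1
  -- the semilinear map fixes every point
  have hpt : ∀ u : Fin m ⊕ Fin m → F, u ≠ 0 → ∃ a : F,
      ((g : GL (Fin m ⊕ Fin m) F) : Matrix (Fin m ⊕ Fin m) (Fin m ⊕ Fin m) F) *ᵥ
          (fun i => σ (u i)) = a • u := by
    intro u hu
    have h1 := key u 1 hu
    have hσu : (fun i => σ (u i)) ≠ 0 := by
      intro h0
      apply hu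
      funext i
      have := congrFun h0 i
      exact (map_eq_zero_iff _ σ.injective).1 this
    rw [map_one, one_mul] at h1
    exact tv_eq_tv d (mulVec_ne_zero g hσu) (inv_ne_zero hμ) h1
  -- `σ` is trivial
  have hσ : σ = 1 := by
    ext c
    obtain ⟨a, ha⟩ := hpt x₀ hx₀
    have ha0 : a ≠ 0 := by
      rintro rfl
      rw [zero_smul] at ha
      have hσu : (fun i => σ (x₀ i)) ≠ 0 := by
        intro h0
        apply hx₀
        funext i
        have := congrFun h0 i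
        exact (map_eq_zero_iff _ σ.injective).1 this
      exact mulVec_ne_zero g hσu ha
    have h1 := key x₀ 1 hx₀
    have h2 := key x₀ c hx₀
    rw [ha, SpAut.tv_smul] at h1 h2
    rw [map_one, one_mul] at h1
    -- compare the parameters
    obtain ⟨w, hw⟩ := d.exists_nonperp hx₀
    have e1 := LinearEquiv.congr_fun h1 w
    have e2 := LinearEquiv.congr_fun h2 w
    rw [tv_apply, tv_apply, add_right_inj] at e1 e2
    have hinj : ∀ s t : F, (s * Cfsg.sympForm m F w x₀) • x₀ = (t * Cfsg.sympForm m F w x₀) • x₀ →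
        s = t := by
      intro s t hst
      have := smul_left_injective F hx₀ hst
      exact mul_right_cancel₀ hw this
    have f1 := hinj _ _ e1
    have f2 := hinj _ _ e2
    have f3 : a * a * (σ c * ((muS g : Fˣ) : F)⁻¹) = (a * a * ((muS g : Fˣ) : F)⁻¹) * σ c := by ring
    rw [f3, f1, one_mul] at f2
    exact f2
  refine ⟨hσ, ?_⟩
  subst hσ
  have hpt' : ∀ u : Fin m ⊕ Fin m → F, ∃ a : F,
      (Matrix.toLin' ((g : GL (Fin m ⊕ Fin m) F) : Matrix (Fin m ⊕ Fin m) (Fin m ⊕ Fin m) F)) u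
        = a • u := by
    intro u
    by_cases hu : u = 0
    · exact ⟨1, by rw [hu, map_zero, smul_zero]⟩
    obtain ⟨a, ha⟩ := hpt u hu
    exact ⟨a, by rw [Matrix.toLin'_apply]; exact ha⟩
  obtain ⟨z, hz'⟩ := scalar_of_fix_points_lin _ hpt'
  have hz : ∀ u, ((g : GL (Fin m ⊕ Fin m) F) :
      Matrix (Fin m ⊕ Fin m) (Fin m ⊕ Fin m) F) *ᵥ u = z • u := by
    intro u
    rw [← Matrix.toLin'_apply]
    exact hz' u
  refine ⟨z, ?_, ?_⟩
  · rintro rfl
    have := hz x₀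
    rw [zero_smul] at this
    exact mulVec_ne_zero g hx₀ this
  · apply Matrix.toLin'.injective
    apply LinearMap.ext
    intro u
    rw [Matrix.toLin'_apply, hz, Matrix.toLin'_apply, Matrix.smul_mulVec,
      Matrix.one_mulVec]

end

end Cfsg.Agent.Lib.Helper5.PSpAut
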