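import Mathlib
import Cfsg.Agent.Lib.Helper5.PSpAut3
import Cfsg.Agent.Lib.Helper5.PSLCoset3

set_option autoImplicit false

/-! The semidirect structure of the conformal semilinear symplectic group acting on `PSp`. -/

namespace Cfsg.Agent.Lib.Helper5.PSpAut

open Matrix Cfsg.Agent.Lib.Helper5.PGO Cfsg.Agent.Lib.Helper2.Symp
  Cfsg.Agent.Lib.Helper1.SpCard Cfsg.Agent.Lib.Helper5.PSLCoset
  Cfsg.Agent.Lib.Helper5.GraphSplit

section
variable {F : Type*} [Field F] {m : ℕ}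

/-- the image of a conformal symplectic matrix under a field automorphism -/
theorem map_mem_GSp (σ : F ≃+* F) (g : GL (Fin m ⊕ Fin m) F) (hg : g ∈ Cfsg.GSp m F) :
    Matrix.GeneralLinearGroup.map (σ : F →+* F) g ∈ Cfsg.GSp m F := by
  obtain ⟨c, hc⟩ := hg
  refine ⟨Units.map (σ : F →* F) c, fun u v => ?_⟩
  obtain ⟨u, rfl⟩ : ∃ u' : Fin m ⊕ Fin m → F, u = fun i => σ (u' i) :=
    ⟨fun i => σ.symm (u i), by funext i; rw [RingEquiv.apply_symm_apply]⟩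
  obtain ⟨v, rfl⟩ : ∃ v' : Fin m ⊕ Fin m → F, v = fun i => σ (v' i) :=
    ⟨fun i => σ.symm (v i), by funext i; rw [RingEquiv.apply_symm_apply]⟩
  have hcoe : ((Matrix.GeneralLinearGroup.map (σ : F →+* F) g : GL (Fin m ⊕ Fin m) F) :
      Matrix (Fin m ⊕ Fin m) (Fin m ⊕ Fin m) F)
      = (g : Matrix (Fin m ⊕ Fin m) (Fin m ⊕ Fin m) F).map σ := rfl
  rw [hcoe, map_mulVec', map_mulVec', symp_map, hc, symp_map, map_mul]
  rfl

/-- the action of field automorphisms on the conformal symplectic group -/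
def mapG (σ : F ≃+* F) (g : ↥(Cfsg.GSp m F)) : ↥(Cfsg.GSp m F) :=
  ⟨Matrix.GeneralLinearGroup.map (σ : F →+* F) (g : GL (Fin m ⊕ Fin m) F), map_mem_GSp σ _ g.2⟩

/-- the action of a field automorphism on the conformal symplectic group, as a homomorphism -/
def mapGHom (σ : F ≃+* F) : ↥(Cfsg.GSp m F) →* ↥(Cfsg.GSp m F) where
  toFun := mapG σ
  map_one' := Subtype.ext (map_one _)
  map_mul' g h := Subtype.ext (map_mul _ _ _)

theorem mapGHom_apply (σ : F ≃+* F) (g : ↥(Cfsg.GSp m F)) : mapGHom σ g = mapG σ g := rfl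

theorem mapG_coe (σ : F ≃+* F) (g : ↥(Cfsg.GSp m F)) :
    (((mapG σ g : ↥(Cfsg.GSp m F)) : GL (Fin m ⊕ Fin m) F) :
      Matrix (Fin m ⊕ Fin m) (Fin m ⊕ Fin m) F)
      = ((g : GL (Fin m ⊕ Fin m) F) : Matrix (Fin m ⊕ Fin m) (Fin m ⊕ Fin m) F).map σ := rfl

theorem spField_spConj (σ : F ≃+* F) (g : ↥(Cfsg.GSp m F))
    (A : ↥(Matrix.symplecticGroup (Fin m) F)) :
    spField σ (spConj g A) = spConj (mapG σ g) (spField σ A) := by
  apply Subtype.ext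
  rw [spField_coe, spConj_coe, spConj_coe, spField_coe, mapG_coe]
  have h1 : (((mapG σ g : ↥(Cfsg.GSp m F)) : GL (Fin m ⊕ Fin m) F)⁻¹ : GL (Fin m ⊕ Fin m) F)
      = Matrix.GeneralLinearGroup.map (σ : F →+* F) ((g : GL (Fin m ⊕ Fin m) F)⁻¹) := by
    show (Matrix.GeneralLinearGroup.map (σ : F →+* F) (g : GL (Fin m ⊕ Fin m) F))⁻¹ = _
    rw [map_inv]
  rw [h1]
  show (g.1.1 * A.1 * (g.1⁻¹).1).map (σ : F →+* F)
    = g.1.1.map (σ : F →+* F) * A.1.map (σ : F →+* F) * ((g.1⁻¹).1).map (σ : F →+* F)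
  rw [Matrix.map_mul, Matrix.map_mul]

theorem fa_mul_cjC (σ : F ≃+* F) (g : ↥(Cfsg.GSp m F)) :
    (fa σ : MulAut (Cfsg.PSp m F)) * cjC g = cjC (mapG σ g) * fa σ := by
  apply MulEquiv.ext
  intro x
  obtain ⟨s, rfl⟩ := QuotientGroup.mk_surjective x
  rw [MulAut.mul_apply, MulAut.mul_apply, cjC_mk, fa_mk, fa_mk, cjC_mk, spField_spConj]

theorem spConj_eq_of_smul (g g' : ↥(Cfsg.GSp m F)) (z : F) (hz : z ≠ 0)
    (h : ((g : GL (Fin m ⊕ Fin m) F) : Matrix (Fin m ⊕ Fin m) (Fin m ⊕ Fin m) F)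
      = z • ((g' : GL (Fin m ⊕ Fin m) F) : Matrix (Fin m ⊕ Fin m) (Fin m ⊕ Fin m) F)) :
    spConj g = spConj g' := by
  apply MulEquiv.ext
  intro A
  apply Subtype.ext
  rw [spConj_coe, spConj_coe]
  have hinv : (((g : GL (Fin m ⊕ Fin m) F)⁻¹ : GL (Fin m ⊕ Fin m) F) :
      Matrix (Fin m ⊕ Fin m) (Fin m ⊕ Fin m) F)
      = z⁻¹ • (((g' : GL (Fin m ⊕ Fin m) F)⁻¹ : GL (Fin m ⊕ Fin m) F) :
        Matrix (Fin m ⊕ Fin m) (Fin m ⊕ Fin m) F) := by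
    rw [Matrix.coe_units_inv, Matrix.coe_units_inv, h]
    apply Matrix.inv_eq_right_inv
    rw [Matrix.smul_mul, Matrix.mul_smul, smul_smul, mul_inv_cancel₀ hz, one_smul,
      ← Matrix.coe_units_inv, ← Units.val_mul, mul_inv_cancel, Units.val_one]
  rw [hinv, h, Matrix.smul_mul, Matrix.smul_mul, Matrix.mul_smul, smul_smul,
    mul_inv_cancel₀ hz, one_smul]

theorem cjC_eq_of_smul (g g' : ↥(Cfsg.GSp m F)) (z : F) (hz : z ≠ 0)
    (h : ((g : GL (Fin m ⊕ Fin m) F) : Matrix (Fin m ⊕ Fin m) (Fin m ⊕ Fin m) F)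
      = z • ((g' : GL (Fin m ⊕ Fin m) F) : Matrix (Fin m ⊕ Fin m) (Fin m ⊕ Fin m) F)) :
    cjC g = cjC g' := by
  unfold cjC
  rw [MonoidHom.comp_apply, MonoidHom.comp_apply, spConj_eq_of_smul g g' z hz h]

theorem cjC_eq_one_of_scalar (g : ↥(Cfsg.GSp m F)) (z : F) (hz : z ≠ 0)
    (h : ((g : GL (Fin m ⊕ Fin m) F) : Matrix (Fin m ⊕ Fin m) (Fin m ⊕ Fin m) F)
      = z • (1 : Matrix (Fin m ⊕ Fin m) (Fin m ⊕ Fin m) F)) :
    cjC g = 1 := by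
  rw [← map_one (cjC (m := m) (F := F))]
  apply cjC_eq_of_smul g 1 z hz
  rw [h]
  rfl

/-- the automorphism attached to a conformal symplectic matrix and a field automorphism -/
noncomputable def gam (σ : F ≃+* F) (a : ↥(Cfsg.GSp m F)) : MulAut (Cfsg.PSp m F) :=
  cjC a * fa σ

theorem cjC_mul_gam (σ : F ≃+* F) (h a : ↥(Cfsg.GSp m F)) :
    cjC h * gam σ a = gam σ (h * a) := by
  unfold gam
  rw [map_mul, mul_assoc]

theorem gam_mul_cjC (σ : F ≃+* F) (a h : ↥(Cfsg.GSp m F)) :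
    gam σ a * cjC h = gam σ (a * mapG σ h) := by
  unfold gam
  rw [mul_assoc, fa_mul_cjC, map_mul, mul_assoc]

theorem cjC_conj_gam (σ : F ≃+* F) (h a : ↥(Cfsg.GSp m F)) :
    cjC h * gam σ a * (cjC h)⁻¹ = gam σ (h * a * (mapG σ h)⁻¹) := by
  rw [← map_inv, cjC_mul_gam, gam_mul_cjC, ← mapGHom_apply, map_inv, mapGHom_apply]

/-- twisted partial products in the conformal symplectic group -/
def twG (σ : F ≃+* F) (g : ↥(Cfsg.GSp m F)) : ℕ → ↥(Cfsg.GSp m F)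
  | 0 => 1
  | (k + 1) => g * mapG σ (twG σ g k)

theorem coe_twG (σ : F ≃+* F) (g : ↥(Cfsg.GSp m F)) (k : ℕ) :
    (((twG σ g k : ↥(Cfsg.GSp m F)) : GL (Fin m ⊕ Fin m) F) :
      Matrix (Fin m ⊕ Fin m) (Fin m ⊕ Fin m) F)
      = tw σ ((g : GL (Fin m ⊕ Fin m) F) : Matrix (Fin m ⊕ Fin m) (Fin m ⊕ Fin m) F) k := by
  induction k with
  | zero => rfl
  | succ k ih =>
    show (((g * mapG σ (twG σ g k) : ↥(Cfsg.GSp m F)) : GL (Fin m ⊕ Fin m) F) :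
      Matrix (Fin m ⊕ Fin m) (Fin m ⊕ Fin m) F) = _
    rw [Subgroup.coe_mul, Units.val_mul, mapG_coe, ih, tw_succ]

theorem gam_pow (σ : F ≃+* F) (g : ↥(Cfsg.GSp m F)) (k : ℕ) :
    (gam σ g) ^ k = cjC (twG σ g k) * fa (σ ^ k) := by
  induction k with
  | zero =>
    rw [pow_zero, pow_zero, map_one]
    show 1 = cjC (1 : ↥(Cfsg.GSp m F)) * 1
    rw [map_one, mul_one]
  | succ k ih =>
    rw [pow_succ', ih]
    unfold gam
    show cjC g * fa σ * (cjC (twG σ g k) * fa (σ ^ k)) = cjC (g * mapG σ (twG σ g k)) * _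
    rw [map_mul, pow_succ', map_mul, mul_assoc, ← mul_assoc (fa σ), fa_mul_cjC]
    simp only [mul_assoc]

end

section
variable {F : Type*} [Field F] [Fintype F] {m : ℕ}

theorem cjC_eq_one_iff (p : ℕ) [Fact p.Prime] [CharP F p] (hm : 1 ≤ m) (g : ↥(Cfsg.GSp m F)) :
    cjC g = 1 ↔ ∃ z : F, z ≠ 0 ∧
      ((g : GL (Fin m ⊕ Fin m) F) : Matrix (Fin m ⊕ Fin m) (Fin m ⊕ Fin m) F)
        = z • (1 : Matrix (Fin m ⊕ Fin m) (Fin m ⊕ Fin m) F) := by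
  constructor
  · intro h
    have h1 : cjC g * (fa (1 : F ≃+* F) : MulAut (Cfsg.PSp m F)) = 1 := by
      rw [map_one, mul_one, h]
    exact (cjC_fa_inj p hm g 1 h1).2
  · rintro ⟨z, hz, h⟩
    exact cjC_eq_one_of_scalar g z hz h

theorem gam_eq_iff (p : ℕ) [Fact p.Prime] [CharP F p] (hm : 1 ≤ m) (σ : F ≃+* F)
    (a a' : ↥(Cfsg.GSp m F)) : gam σ a = gam σ a' ↔ ∃ l : F, l ≠ 0 ∧
      ((a : GL (Fin m ⊕ Fin m) F) : Matrix (Fin m ⊕ Fin m) (Fin m ⊕ Fin m) F)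
        = l • ((a' : GL (Fin m ⊕ Fin m) F) : Matrix (Fin m ⊕ Fin m) (Fin m ⊕ Fin m) F) := by
  constructor
  · intro h
    unfold gam at h
    have h1 : cjC (a'⁻¹ * a) = (1 : MulAut (Cfsg.PSp m F)) := by
      rw [map_mul, map_inv]
      have := mul_right_cancel h
      rw [this, inv_mul_cancel]
    obtain ⟨z, hz, hz'⟩ := (cjC_eq_one_iff p hm _).1 h1
    refine ⟨z, hz, ?_⟩
    have h2 : ((a : GL (Fin m ⊕ Fin m) F) : Matrix (Fin m ⊕ Fin m) (Fin m ⊕ Fin m) F)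
        = ((a' : GL (Fin m ⊕ Fin m) F) : Matrix (Fin m ⊕ Fin m) (Fin m ⊕ Fin m) F)
          * (((a'⁻¹ * a : ↥(Cfsg.GSp m F)) : GL (Fin m ⊕ Fin m) F) :
            Matrix (Fin m ⊕ Fin m) (Fin m ⊕ Fin m) F) := by
      rw [← Units.val_mul, ← Subgroup.coe_mul, mul_inv_cancel_left]
    rw [h2, hz', Matrix.mul_smul, Matrix.mul_one]
  · rintro ⟨l, hl0, hl⟩
    unfold gam
    rw [cjC_eq_of_smul a a' l hl0 hl]

theorem fa_injective (p : ℕ) [Fact p.Prime] [CharP F p] (hm : 1 ≤ m) :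
    Function.Injective (fa : (F ≃+* F) →* MulAut (Cfsg.PSp m F)) := by
  rw [injective_iff_map_eq_one]
  intro τ hτ
  have h1 : cjC (1 : ↥(Cfsg.GSp m F)) * (fa τ : MulAut (Cfsg.PSp m F)) = 1 := by
    rw [map_one, one_mul, hτ]
  exact (cjC_fa_inj p hm 1 τ h1).1

theorem orderOf_fa (p : ℕ) [Fact p.Prime] [CharP F p] (hm : 1 ≤ m) (τ : F ≃+* F) :
    orderOf (fa τ : MulAut (Cfsg.PSp m F)) = orderOf τ :=
  orderOf_injective _ (fa_injective p hm) τ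

end

section
variable {F : Type*} [Field F] {m : ℕ}

theorem isInnerDiagonal_cjC (g : ↥(Cfsg.GSp m F)) :
    Cfsg.IsInnerDiagonalAutPSp (cjC g) := by
  refine ⟨g.1, g.2, fun s s' hs => ?_⟩
  rw [cjC_mk]
  congr 1
  apply Subtype.ext
  rw [hs, spConj_coe]
  rfl

theorem eq_cjC_of_isInnerDiagonal {δ : MulAut (Cfsg.PSp m F)}
    (h : Cfsg.IsInnerDiagonalAutPSp δ) : ∃ g : ↥(Cfsg.GSp m F), δ = cjC g := by
  obtain ⟨g, hg, h⟩ := h
  refine ⟨⟨g, hg⟩, ?_⟩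
  apply MulEquiv.ext
  intro x
  obtain ⟨s, rfl⟩ := QuotientGroup.mk_surjective x
  rw [cjC_mk]
  apply h
  rw [spConj_coe]
  rfl

theorem inndiagPSp_eq :
    Cfsg.inndiagPSp m F = (cjC (m := m) (F := F)).range := by
  unfold Cfsg.inndiagPSp Cfsg.autSubgroupOf
  apply le_antisymm
  · rw [Subgroup.closure_le]
    intro δ hδ
    obtain ⟨g, rfl⟩ := eq_cjC_of_isInnerDiagonal hδ
    exact ⟨g, rfl⟩
  · rintro _ ⟨g, rfl⟩
    exact Subgroup.subset_closure (isInnerDiagonal_cjC g)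

theorem isStdField_fa (σ : F ≃+* F) :
    Cfsg.IsStdFieldAutPSp σ (fa σ : MulAut (Cfsg.PSp m F)) := by
  intro s s' hs
  rw [fa_mk]
  congr 1
  apply Subtype.ext
  rw [hs]
  rfl

theorem eq_fa_of_isStdField {σ : F ≃+* F} {φ : MulAut (Cfsg.PSp m F)}
    (h : Cfsg.IsStdFieldAutPSp σ φ) : φ = fa σ := by
  apply MulEquiv.ext
  intro x
  obtain ⟨s, rfl⟩ := QuotientGroup.mk_surjective x
  rw [fa_mk]
  apply h
  rfl

theorem isInduced_gam (σ : F ≃+* F) (g : ↥(Cfsg.GSp m F)) :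
    Cfsg.IsInducedBySemilinearPSp g.1 σ (gam σ g) := by
  intro s s' hs
  unfold gam
  rw [MulAut.mul_apply, fa_mk, cjC_mk]
  congr 1
  apply Subtype.ext
  rw [hs, spConj_coe, spField_coe]

end

end Cfsg.Agent.Lib.Helper5.PSpAut
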