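import Mathlib
import Cfsg.Agent.Lib.Helper5.PSpAut4

set_option autoImplicit false

/-! The inner-diagonal group of `PSp` is normal in the automorphism group; standard form of
field automorphisms. -/

namespace Cfsg.Agent.Lib.Helper5.PSpAut

open Matrix Cfsg.Agent.Lib.Helper5.PGO Cfsg.Agent.Lib.Helper2.Symp
  Cfsg.Agent.Lib.Helper1.SpCard Cfsg.Agent.Lib.Helper5.PSLCoset
  Cfsg.Agent.Lib.Helper5.GraphSplit

section
variable {F : Type*} [Field F] {m : ℕ}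

/-- the inclusion of the symplectic group in the conformal symplectic group -/
def spIncl : ↥(Matrix.symplecticGroup (Fin m) F) →* ↥(Cfsg.GSp m F) :=
  (Cfsg.Agent.H9SpMax.toGL m F).codRestrict (Cfsg.GSp m F) (fun A => by
    refine ⟨1, fun u v => ?_⟩
    rw [Units.val_one, one_mul]
    exact (mem_symplectic_iff_form A.1).1 A.2 u v)

theorem spIncl_coe (A : ↥(Matrix.symplecticGroup (Fin m) F)) :
    (((spIncl A : ↥(Cfsg.GSp m F)) : GL (Fin m ⊕ Fin m) F) :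
      Matrix (Fin m ⊕ Fin m) (Fin m ⊕ Fin m) F) = A.1 := rfl

theorem spIncl_inv_coe (A : ↥(Matrix.symplecticGroup (Fin m) F)) :
    ((((spIncl A : ↥(Cfsg.GSp m F)) : GL (Fin m ⊕ Fin m) F)⁻¹ : GL (Fin m ⊕ Fin m) F) :
      Matrix (Fin m ⊕ Fin m) (Fin m ⊕ Fin m) F) = (A⁻¹).1 := rfl

theorem spConj_spIncl (s A : ↥(Matrix.symplecticGroup (Fin m) F)) :
    spConj (spIncl s) A = s * A * s⁻¹ := by
  apply Subtype.ext
  rw [spConj_coe, spIncl_coe, spIncl_inv_coe]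
  rfl

theorem cjC_spIncl (s : ↥(Matrix.symplecticGroup (Fin m) F)) :
    cjC (spIncl s) = MulAut.conj (QuotientGroup.mk s : Cfsg.PSp m F) := by
  apply MulEquiv.ext
  intro x
  obtain ⟨A, rfl⟩ := QuotientGroup.mk_surjective x
  rw [cjC_mk, spConj_spIncl, MulAut.conj_apply]
  rfl

theorem inn_le_range : Cfsg.Inn (Cfsg.PSp m F) ≤ (cjC (m := m) (F := F)).range := by
  rintro _ ⟨x, rfl⟩
  obtain ⟨s, rfl⟩ := QuotientGroup.mk_surjective x
  exact ⟨spIncl s, cjC_spIncl s⟩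

/-- a conformal symplectic matrix whose multiplier is a square is a scalar multiple of a
symplectic matrix -/
theorem exists_smul_sp (g : ↥(Cfsg.GSp m F)) (c : Fˣ)
    (hc : ∀ u v, Cfsg.sympForm m F
      (((g : GL (Fin m ⊕ Fin m) F) : Matrix (Fin m ⊕ Fin m) (Fin m ⊕ Fin m) F) *ᵥ u)
      (((g : GL (Fin m ⊕ Fin m) F) : Matrix (Fin m ⊕ Fin m) (Fin m ⊕ Fin m) F) *ᵥ v)
        = (c : F) * Cfsg.sympForm m F u v) (z : F) (hz : z * z = (c : F)) :
    ∃ s : ↥(Matrix.symplecticGroup (Fin m) F), z ≠ 0 ∧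
      ((g : GL (Fin m ⊕ Fin m) F) : Matrix (Fin m ⊕ Fin m) (Fin m ⊕ Fin m) F) = z • s.1 := by
  have hz0 : z ≠ 0 := by
    intro h0
    rw [h0, mul_zero] at hz
    exact c.ne_zero hz.symm
  have hs : z⁻¹ • ((g : GL (Fin m ⊕ Fin m) F) : Matrix (Fin m ⊕ Fin m) (Fin m ⊕ Fin m) F)
      ∈ Matrix.symplecticGroup (Fin m) F := by
    rw [mem_symplectic_iff_form]
    intro u v
    rw [Matrix.smul_mulVec, Matrix.smul_mulVec]
    unfold Cfsg.sympForm at hc ⊢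
    rw [Matrix.mulVec_smul, smul_dotProduct, dotProduct_smul, hc, smul_eq_mul, smul_eq_mul, ← hz]
    field_simp
  refine ⟨⟨_, hs⟩, hz0, ?_⟩
  rw [smul_smul, mul_inv_cancel₀ hz0, one_smul]

theorem range_le_inn_of_sq (hsq : ∀ a : F, ∃ z : F, z * z = a) :
    (cjC (m := m) (F := F)).range ≤ Cfsg.Inn (Cfsg.PSp m F) := by
  rintro _ ⟨g, rfl⟩
  obtain ⟨c, hc⟩ := g.2
  obtain ⟨z, hz⟩ := hsq (c : F)
  obtain ⟨s, hz0, hs⟩ := exists_smul_sp g c hc z hz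
  have h1 : cjC g = cjC (spIncl s) := cjC_eq_of_smul g (spIncl s) z hz0 hs
  rw [h1, cjC_spIncl]
  exact ⟨_, rfl⟩

theorem conj_cjC (g : ↥(Cfsg.GSp m F)) (τ : F ≃+* F) (b : ↥(Cfsg.GSp m F)) :
    (cjC g * fa τ) * cjC b * (cjC g * fa τ)⁻¹ = cjC (g * mapG τ b * g⁻¹) := by
  rw [map_mul, map_mul, map_inv, _root_.mul_inv_rev]
  have h1 := fa_mul_cjC τ b
  calc cjC g * fa τ * cjC b * ((fa τ)⁻¹ * (cjC g)⁻¹)
      = cjC g * (fa τ * cjC b) * (fa τ)⁻¹ * (cjC g)⁻¹ := by group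
    _ = cjC g * cjC (mapG τ b) * (cjC g)⁻¹ := by
        rw [h1]
        group

end

section
variable {F : Type*} [Field F] [Fintype F] {m : ℕ}

theorem conj_mem_inndiagPSp (hm : 2 ≤ m) (p : ℕ) [Fact p.Prime] [CharP F p]
    (α : MulAut (Cfsg.PSp m F)) {β : MulAut (Cfsg.PSp m F)}
    (hβ : β ∈ Cfsg.inndiagPSp m F) : α * β * α⁻¹ ∈ Cfsg.inndiagPSp m F := by
  rw [inndiagPSp_eq] at hβ ⊢
  by_cases hp2 : p = 2
  · have hsq : ∀ a : F, ∃ z : F, z * z = a := by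
      intro a
      have hc : ringChar F = 2 := by
        rw [← hp2]
        exact ringChar.eq F p
      obtain ⟨z, hz⟩ := FiniteField.isSquare_of_char_two hc a
      exact ⟨z, hz.symm⟩
    obtain ⟨x, rfl⟩ := range_le_inn_of_sq hsq hβ
    apply inn_le_range
    refine ⟨α x, ?_⟩
    apply MulEquiv.ext
    intro y
    simp only [MulAut.mul_apply, MulAut.conj_apply, map_mul, map_inv]
    rw [MulAut.inv_apply, MulEquiv.apply_symm_apply]
  · obtain ⟨b, rfl⟩ := hβ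
    obtain ⟨g, τ, rfl⟩ := aut_PSp hm p hp2 α
    exact ⟨g * mapG τ b * g⁻¹, (conj_cjC g τ b).symm⟩

theorem conj_mem_inndiagPSp' (hm : 2 ≤ m) (p : ℕ) [Fact p.Prime] [CharP F p]
    (α : MulAut (Cfsg.PSp m F)) {β : MulAut (Cfsg.PSp m F)}
    (hβ : β ∈ Cfsg.inndiagPSp m F) : α⁻¹ * β * α ∈ Cfsg.inndiagPSp m F := by
  have := conj_mem_inndiagPSp hm p α⁻¹ hβ
  rwa [inv_inv] at this

/-- the standard form of a field automorphism of given order -/
theorem field_stdform_PSp (p : ℕ) [Fact p.Prime] [CharP F p] (hm : 1 ≤ m)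
    {x : MulAut (Cfsg.PSp m F)} (hx : Cfsg.IsFieldAutClassPSp x) {r : ℕ}
    (hxr : orderOf x = r) :
    ∃ (α : MulAut (Cfsg.PSp m F)) (σ : F ≃+* F), orderOf σ = r ∧ α * x * α⁻¹ = gam σ 1 := by
  obtain ⟨α, σ, -, hαx⟩ := hx
  have hαx := eq_fa_of_isStdField hαx
  have h1 : orderOf σ = r := by
    rw [← orderOf_fa p hm σ, ← hαx, ← hxr, ← MulAut.conj_apply]
    exact MulEquiv.orderOf_eq _ x
  refine ⟨α, σ, h1, ?_⟩
  unfold gam
  rw [hαx, map_one, one_mul]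

end

end Cfsg.Agent.Lib.Helper5.PSpAut
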