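import Mathlib
import Cfsg.Agent.Lib.Helper5.PSpAut5
import Cfsg.Agent.Lib.Helper5.AltForm

set_option autoImplicit false

/-! Descent for conformal symplectic matrices: a conformal symplectic matrix with scalar twisted
norm is a twisted coboundary of a conformal symplectic matrix. -/

namespace Cfsg.Agent.Lib.Helper5.PSpField

open Matrix Cfsg.Agent.Lib.Helper5.PSLCoset Cfsg.Agent.Lib.Helper2.Symp

section
variable {F : Type*} [Field F] {m : ℕ}

/-- conformal symplectic matrices, in matrix form -/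
def IsGS (g : Matrix (Fin m ⊕ Fin m) (Fin m ⊕ Fin m) F) (c : F) : Prop :=
  gᵀ * Matrix.J (Fin m) F * g = c • Matrix.J (Fin m) F

theorem dot_mulVec_mulVec {k : Type*} [Fintype k] (g N : Matrix k k F) (u v : k → F) :
    (g *ᵥ u) ⬝ᵥ (N *ᵥ (g *ᵥ v)) = u ⬝ᵥ ((gᵀ * N * g) *ᵥ v) := by
  rw [Matrix.mul_assoc, ← Matrix.mulVec_mulVec, ← Matrix.mulVec_mulVec,
    Matrix.dotProduct_mulVec u gᵀ, Matrix.vecMul_transpose]

theorem sympForm_mulVec_eq (g : Matrix (Fin m ⊕ Fin m) (Fin m ⊕ Fin m) F)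
    (u v : Fin m ⊕ Fin m → F) :
    Cfsg.sympForm m F (g *ᵥ u) (g *ᵥ v) = u ⬝ᵥ ((gᵀ * Matrix.J (Fin m) F * g) *ᵥ v) :=
  dot_mulVec_mulVec g _ u v

theorem bilin_ext {k : Type*} [Fintype k] [DecidableEq k] {M N : Matrix k k F}
    (h : ∀ u v : k → F, u ⬝ᵥ (M *ᵥ v) = u ⬝ᵥ (N *ᵥ v)) : M = N := by
  ext i j
  have := h (Pi.single i 1) (Pi.single j 1)
  simpa using this

theorem isGS_iff (g : Matrix (Fin m ⊕ Fin m) (Fin m ⊕ Fin m) F) (c : F) :
    IsGS g c ↔ ∀ u v, Cfsg.sympForm m F (g *ᵥ u) (g *ᵥ v) = c * Cfsg.sympForm m F u v := by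
  constructor
  · intro h u v
    rw [sympForm_mulVec_eq, h]
    unfold Cfsg.sympForm
    rw [Matrix.smul_mulVec, dotProduct_smul, smul_eq_mul]
  · intro h
    apply bilin_ext
    intro u v
    rw [← sympForm_mulVec_eq, h]
    unfold Cfsg.sympForm
    rw [Matrix.smul_mulVec, dotProduct_smul, smul_eq_mul]

theorem J_map {F' : Type*} [Field F'] (ι : F →+* F') :
    (Matrix.J (Fin m) F).map ι = Matrix.J (Fin m) F' := by
  ext (i | i) (j | j) <;> simp [Matrix.J, Matrix.one_apply, apply_ite]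

theorem map_smul'' {k l : Type*} {F' : Type*} [Field F'] (ι : F →+* F') (z : F)
    (g : Matrix k l F) : (z • g).map ι = ι z • g.map ι := by
  ext i j
  simp

theorem IsGS.map {F' : Type*} [Field F'] (ι : F →+* F')
    {g : Matrix (Fin m ⊕ Fin m) (Fin m ⊕ Fin m) F} {c : F} (h : IsGS g c) :
    IsGS (g.map ι) (ι c) := by
  unfold IsGS at h ⊢
  have := congrArg (fun M => M.map ι) h
  rw [Matrix.map_mul, Matrix.map_mul, map_smul'', J_map, Matrix.transpose_map] at this
  exact this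

theorem IsGS.mul {g h : Matrix (Fin m ⊕ Fin m) (Fin m ⊕ Fin m) F} {c d : F} (hg : IsGS g c)
    (hh : IsGS h d) : IsGS (g * h) (c * d) := by
  unfold IsGS at hg hh ⊢
  calc (g * h)ᵀ * Matrix.J (Fin m) F * (g * h)
      = hᵀ * (gᵀ * Matrix.J (Fin m) F * g) * h := by
        rw [Matrix.transpose_mul]
        simp only [Matrix.mul_assoc]
    _ = (c * d) • Matrix.J (Fin m) F := by
        rw [hg, Matrix.mul_smul, Matrix.smul_mul, hh, smul_smul]

theorem IsGS.smul {g : Matrix (Fin m ⊕ Fin m) (Fin m ⊕ Fin m) F} {c : F} (hg : IsGS g c)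
    (w : F) : IsGS (w • g) (w * w * c) := by
  unfold IsGS at hg ⊢
  rw [Matrix.transpose_smul, Matrix.smul_mul, Matrix.smul_mul, Matrix.mul_smul, hg, smul_smul,
    smul_smul, mul_assoc]

theorem IsGS.one : IsGS (1 : Matrix (Fin m ⊕ Fin m) (Fin m ⊕ Fin m) F) 1 := by
  unfold IsGS
  rw [Matrix.transpose_one, Matrix.one_mul, Matrix.mul_one, one_smul]

theorem IsGS.tw (σ : F ≃+* F) {g : Matrix (Fin m ⊕ Fin m) (Fin m ⊕ Fin m) F} {c : F}
    (hg : IsGS g c) (k : ℕ) : IsGS (tw σ g k) (nrm σ k c) := by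
  induction k with
  | zero =>
    rw [tw_zero, nrm_zero]
    exact IsGS.one
  | succ k ih =>
    rw [tw_succ, nrm_succ]
    exact hg.mul (ih.map (σ : F →+* F))

theorem J_ne_zero (hm : 1 ≤ m) : Matrix.J (Fin m) F ≠ 0 := by
  intro h
  have := congrFun (congrFun h (Sum.inr ⟨0, hm⟩)) (Sum.inl ⟨0, hm⟩)
  simp [Matrix.J] at this

theorem IsGS.unique (hm : 1 ≤ m) {g : Matrix (Fin m ⊕ Fin m) (Fin m ⊕ Fin m) F} {c d : F}
    (hc : IsGS g c) (hd : IsGS g d) : c = d := by
  unfold IsGS at hc hd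
  rw [hc] at hd
  by_contra hne
  apply J_ne_zero (F := F) hm
  have h1 : (c - d) • Matrix.J (Fin m) F = 0 := by rw [sub_smul, hd, sub_self]
  rcases smul_eq_zero.1 h1 with h | h
  · exact absurd (sub_eq_zero.1 h) hne
  · exact h

theorem IsGS.isUnit {g : Matrix (Fin m ⊕ Fin m) (Fin m ⊕ Fin m) F} {c : F} (hg : IsGS g c)
    (hc : c ≠ 0) : IsUnit g := by
  unfold IsGS at hg
  rw [Matrix.isUnit_iff_isUnit_det, isUnit_iff_ne_zero]
  intro h0
  have h1 := congrArg Matrix.det hg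
  rw [Matrix.det_mul, Matrix.det_mul, h0, mul_zero, Matrix.det_smul] at h1
  have h2 : (Matrix.J (Fin m) F).det ≠ 0 := by
    intro h
    have := Matrix.J_det_mul_J_det (Fin m) F
    rw [h, mul_zero] at this
    exact zero_ne_one this
  exact mul_ne_zero (pow_ne_zero _ hc) h2 h1.symm

theorem sympForm_self (u : Fin m ⊕ Fin m → F) : Cfsg.sympForm m F u u = 0 := dot_J_self u

/-- an alternating invertible matrix is congruent to the standard one -/
theorem exists_congr_J (N : Matrix (Fin m ⊕ Fin m) (Fin m ⊕ Fin m) F)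
    (hN : ∀ x : Fin m ⊕ Fin m → F, x ⬝ᵥ (N *ᵥ x) = 0) (hu : N.det ≠ 0) :
    ∃ E : Matrix (Fin m ⊕ Fin m) (Fin m ⊕ Fin m) F, Eᵀ * N * E = Matrix.J (Fin m) F := by
  have hB : (Matrix.toBilin' N).IsAlt := by
    intro x
    rw [Matrix.toBilin'_apply']
    exact hN x
  have hnd : ∀ x, (∀ y, Matrix.toBilin' N x y = 0) → x = 0 := by
    intro x hx
    apply Matrix.eq_zero_of_vecMul_eq_zero hu
    apply dotProduct_eq_zero
    intro y
    have := hx y
    rw [Matrix.toBilin'_apply', Matrix.dotProduct_mulVec] at this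
    exact this
  obtain ⟨m', b, hm', hb⟩ := Cfsg.Agent.Lib.Helper5.AltForm.exists_symplectic_basis hB hnd
  have hmm : m' = m := by
    rw [Module.finrank_fintype_fun_eq_card, Fintype.card_sum, Fintype.card_fin] at hm'
    omega
  subst hmm
  refine ⟨Matrix.of fun i j => b j i, ?_⟩
  ext x y
  have h1 : ∀ z : Fin m' ⊕ Fin m', (Matrix.of fun i j => b j i) *ᵥ Pi.single z (1 : F) = b z := by
    intro z
    funext i
    simp [Matrix.mulVec_single_one]
  have h2 := dot_mulVec_mulVec (Matrix.of fun i j => b j i) N (Pi.single x 1) (Pi.single y 1)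
  rw [h1, h1] at h2
  have h3 := hb x y
  rw [Matrix.toBilin'_apply', h2] at h3
  simpa using h3

end

end Cfsg.Agent.Lib.Helper5.PSpField
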