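import Mathlib
import Cfsg.Agent.Lib.Helper5.PSpField1

set_option autoImplicit false

/-! Descent for conformal symplectic matrices: the main step. -/

namespace Cfsg.Agent.Lib.Helper5.PSpField

open Matrix Cfsg.Agent.Lib.Helper5.PSLCoset Cfsg.Agent.Lib.Helper2.Symp

section
variable {F : Type*} [Field F] {m : ℕ}

/-- a matrix fixed by `σ` comes from the fixed field -/
theorem exists_map_fixed {k l : Type*} (σ : F ≃+* F) (E : Subfield F)
    (hE : ∀ a, σ a = a → a ∈ E) (M : Matrix k l F) (h : M.map σ = M) :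
    ∃ N : Matrix k l ↥E, N.map E.subtype = M := by
  refine ⟨Matrix.of fun i j => ⟨M i j, ?_⟩, ?_⟩
  · apply hE
    have := congrFun (congrFun h i) j
    exact this
  · ext i j
    rfl

theorem map_subtype_fixed {k l : Type*} (σ : F ≃+* F) (E : Subfield F)
    (hE : ∀ a ∈ E, σ a = a) (N : Matrix k l ↥E) :
    (N.map E.subtype).map σ = N.map E.subtype := by
  ext i j
  exact hE _ (N i j).2

theorem map_smul_equiv {k l : Type*} (σ : F ≃+* F) (z : F) (g : Matrix k l F) :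
    (z • g).map σ = σ z • g.map σ := by
  ext i j
  simp

theorem map_mul_equiv {k l n : Type*} [Fintype l] (σ : F ≃+* F) (A : Matrix k l F)
    (B : Matrix l n F) : (A * B).map σ = A.map σ * B.map σ :=
  Matrix.map_mul (f := (σ : F →+* F))

theorem J_map_equiv (σ : F ≃+* F) : (Matrix.J (Fin m) F).map σ = Matrix.J (Fin m) F :=
  J_map (σ : F →+* F)

theorem dot_subtype {k : Type*} [Fintype k] (E : Subfield F) (N : Matrix k k ↥E)
    (x y : k → ↥E) :
    ((x ⬝ᵥ (N *ᵥ y) : ↥E) : F)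
      = (fun i => (x i : F)) ⬝ᵥ ((N.map E.subtype) *ᵥ fun i => (y i : F)) := by
  simp [dotProduct, Matrix.mulVec]

/-- the conjugacy theorem in matrix form -/
theorem field_conj_matrix [Finite F] (hm : 1 ≤ m) (σ : F ≃+* F) (r : ℕ) (hr : orderOf σ = r)
    (hr0 : 0 < r) (g : Matrix (Fin m ⊕ Fin m) (Fin m ⊕ Fin m) F) (c : F) (hc0 : c ≠ 0)
    (hg : IsGS g c) (z : F) (hz0 : z ≠ 0) (htw : tw σ g r = z • 1) :
    ∃ (h : Matrix (Fin m ⊕ Fin m) (Fin m ⊕ Fin m) F) (ν w : F), w ≠ 0 ∧ ν ≠ 0 ∧ IsGS h ν ∧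
      (w • g) * h.map σ = h := by
  classical
  have hσr : σ ^ r = 1 := by
    rw [← hr]
    exact pow_orderOf_eq_one σ
  have hgu : IsUnit g := hg.isUnit hc0
  -- `z` is fixed by `σ`
  have hzσ : σ z = z := by
    have h1 := tw_succ σ g r
    rw [tw_succ', htw, hσr] at h1
    have h2 : g.map ((1 : F ≃+* F)) = g := by
      ext i j
      rfl
    have h3 : (z • (1 : Matrix (Fin m ⊕ Fin m) (Fin m ⊕ Fin m) F)).map σ = σ z • 1 := by
      ext i j
      by_cases hij : i = j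
      · simp [Matrix.one_apply, hij]
      · simp [Matrix.one_apply, hij]
    rw [h2, h3, Matrix.smul_mul, Matrix.one_mul, Matrix.mul_smul, Matrix.mul_one] at h1
    obtain ⟨g', hg'⟩ := hgu.exists_left_inv
    have h4 := congrArg (fun M => g' * M) h1
    simp only [Matrix.mul_smul, hg'] at h4
    have h5 := congrFun (congrFun h4 (Sum.inl ⟨0, hm⟩)) (Sum.inl ⟨0, hm⟩)
    simpa using h5.symm
  obtain ⟨w, hw0, hw⟩ := exists_nrm_eq σ r hr hr0 z⁻¹ (inv_ne_zero hz0)
    (by rw [map_inv₀, hzσ])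
  have htw1 : tw σ (w • g) r = 1 := by
    rw [tw_smul, htw, hw, smul_smul, inv_mul_cancel₀ hz0, one_smul]
  obtain ⟨B, hBu, hB⟩ := hilbert90_matrix σ (w • g) r hr hr0 htw1
  obtain ⟨c', hc'⟩ : ∃ c' : F, c' = w * w * c := ⟨_, rfl⟩
  have hc'0 : c' ≠ 0 := by
    rw [hc']
    exact mul_ne_zero (mul_ne_zero hw0 hw0) hc0
  have hg1 : IsGS (w • g) c' := by
    rw [hc']
    exact hg.smul w
  -- the norm of the multiplier is one
  have hnrm : nrm σ r c' = 1 := by
    have h1 := hg1.tw σ r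
    rw [htw1] at h1
    exact (IsGS.unique hm h1 IsGS.one)
  obtain ⟨ν, hν0, hν⟩ := hilbert90_scalar σ r hr hr0 c' hnrm
  have hσν0 : σ ν ≠ 0 := (map_ne_zero_iff _ σ.injective).2 hν0
  obtain ⟨M, hM⟩ : ∃ M : Matrix (Fin m ⊕ Fin m) (Fin m ⊕ Fin m) F,
      M = Bᵀ * Matrix.J (Fin m) F * B := ⟨_, rfl⟩
  have hMσ' : M.map σ = (B.map σ)ᵀ * Matrix.J (Fin m) F * (B.map σ) := by
    rw [hM, map_mul_equiv, map_mul_equiv, J_map_equiv, Matrix.transpose_map]
  have hMσ : M = c' • M.map σ := by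
    have h1 : M = (B.map σ)ᵀ * ((w • g)ᵀ * Matrix.J (Fin m) F * (w • g)) * (B.map σ) := by
      rw [hM]
      conv_lhs => rw [← hB]
      rw [Matrix.transpose_mul]
      simp only [Matrix.mul_assoc]
    rw [hg1, Matrix.mul_smul, Matrix.smul_mul] at h1
    rw [hMσ']
    exact h1
  obtain ⟨M₀, hM₀⟩ : ∃ M₀ : Matrix (Fin m ⊕ Fin m) (Fin m ⊕ Fin m) F, M₀ = ν⁻¹ • M := ⟨_, rfl⟩
  have hM₀σ : M₀.map σ = M₀ := by
    rw [hM₀]
    conv_rhs => rw [hMσ]
    rw [map_smul_equiv, smul_smul]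
    congr 1
    rw [map_inv₀]
    field_simp
    rw [mul_comm]
    exact hν.symm
  have hMM₀ : M = ν • M₀ := by
    rw [hM₀, smul_smul, mul_inv_cancel₀ hν0, one_smul]
  obtain ⟨E, hE⟩ : ∃ E : Subfield F, ∀ a, a ∈ E ↔ σ a = a :=
    ⟨RingHom.eqLocusField (σ : F →+* F) (RingHom.id F), fun a => Iff.rfl⟩
  obtain ⟨N, hN⟩ := exists_map_fixed σ E (fun a ha => (hE a).2 ha) M₀ hM₀σ
  have hNalt : ∀ x : Fin m ⊕ Fin m → ↥E, x ⬝ᵥ (N *ᵥ x) = 0 := by
    intro x
    apply Subtype.ext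
    rw [dot_subtype, hN, hM₀, hM, Matrix.smul_mulVec, dotProduct_smul, ← sympForm_mulVec_eq,
      sympForm_self, smul_zero]
    rfl
  have hNdet : N.det ≠ 0 := by
    intro h0
    have h1 : (N.map E.subtype).det = E.subtype N.det := (RingHom.map_det E.subtype N).symm
    rw [h0, map_zero, hN, hM₀, hM, Matrix.det_smul, Matrix.det_mul, Matrix.det_mul,
      Matrix.det_transpose] at h1
    have hBdet : B.det ≠ 0 := by
      rw [Matrix.isUnit_iff_isUnit_det, isUnit_iff_ne_zero] at hBu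
      exact hBu
    have h2 : (Matrix.J (Fin m) F).det ≠ 0 := by
      intro h
      have := Matrix.J_det_mul_J_det (Fin m) F
      rw [h, mul_zero] at this
      exact zero_ne_one this
    exact mul_ne_zero (pow_ne_zero _ (inv_ne_zero hν0)) (mul_ne_zero (mul_ne_zero hBdet h2) hBdet) h1
  obtain ⟨E₁, hE₁⟩ := exists_congr_J N hNalt hNdet
  have hE₂ : (E₁.map E.subtype)ᵀ * M₀ * (E₁.map E.subtype) = Matrix.J (Fin m) F := by
    have h1 := congrArg (fun X => X.map E.subtype) hE₁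
    rw [Matrix.map_mul, Matrix.map_mul, J_map, hN, Matrix.transpose_map] at h1
    exact h1
  refine ⟨B * E₁.map E.subtype, ν, w, hw0, hν0, ?_, ?_⟩
  · unfold IsGS
    rw [Matrix.transpose_mul]
    calc (E₁.map E.subtype)ᵀ * Bᵀ * Matrix.J (Fin m) F * (B * E₁.map E.subtype)
        = (E₁.map E.subtype)ᵀ * (Bᵀ * Matrix.J (Fin m) F * B) * E₁.map E.subtype := by
          simp only [Matrix.mul_assoc]
      _ = ν • Matrix.J (Fin m) F := by
          rw [← hM, hMM₀, Matrix.mul_smul, Matrix.smul_mul, hE₂]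
  · rw [map_mul_equiv, map_subtype_fixed σ E (fun a ha => (hE a).1 ha), ← Matrix.mul_assoc, hB]

end

end Cfsg.Agent.Lib.Helper5.PSpField
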