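import Mathlib
import Cfsg.Agent.Lib.Helper5.PSpField2

set_option autoImplicit false

/-! Conjugacy of field automorphisms of `PSp` under the inner-diagonal group. -/

namespace Cfsg.Agent.Lib.Helper5.PSpField

open Matrix Cfsg.Agent.Lib.Helper5.PSLCoset Cfsg.Agent.Lib.Helper2.Symp
  Cfsg.Agent.Lib.Helper5.PSpAut

section
variable {F : Type*} [Field F] {m : ℕ}

theorem mem_GSp_iff (g : GL (Fin m ⊕ Fin m) F) :
    g ∈ Cfsg.GSp m F ↔ ∃ c : F, c ≠ 0 ∧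
      IsGS (g : Matrix (Fin m ⊕ Fin m) (Fin m ⊕ Fin m) F) c := by
  constructor
  · rintro ⟨c, hc⟩
    exact ⟨c, c.ne_zero, (isGS_iff _ _).2 hc⟩
  · rintro ⟨c, hc0, hc⟩
    exact ⟨Units.mk0 c hc0, (isGS_iff _ _).1 hc⟩

end

section
variable {F : Type*} [Field F] [Fintype F] {m : ℕ}

/-- elements of order dividing `r` in the coset of a field automorphism of order `r` are
conjugate to it under the inner-diagonal group -/
theorem field_conj_PSp (p : ℕ) [Fact p.Prime] [CharP F p] (hm : 1 ≤ m) (σ : F ≃+* F) (r : ℕ)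
    (hr : orderOf σ = r) (hr0 : 0 < r) (g : ↥(Cfsg.GSp m F)) (hpow : (gam σ g) ^ r = 1) :
    ∃ h : ↥(Cfsg.GSp m F), gam σ g = cjC h * gam σ 1 * (cjC h)⁻¹ := by
  classical
  have hσr : σ ^ r = 1 := by
    rw [← hr]
    exact pow_orderOf_eq_one σ
  rw [gam_pow, hσr] at hpow
  obtain ⟨-, l, hl0, hl⟩ := cjC_fa_inj p hm _ _ hpow
  rw [coe_twG] at hl
  obtain ⟨c, hc0, hc⟩ := (mem_GSp_iff g.1).1 g.2
  obtain ⟨h, ν, w, hw0, hν0, hh, hwh⟩ := field_conj_matrix hm σ r hr hr0 _ c hc0 hc l hl0 hl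
  obtain ⟨h', hh'⟩ : ∃ h' : GL (Fin m ⊕ Fin m) F,
      (h' : Matrix (Fin m ⊕ Fin m) (Fin m ⊕ Fin m) F) = h := ⟨(hh.isUnit hν0).unit, rfl⟩
  have hh'G : h' ∈ Cfsg.GSp m F := by
    rw [mem_GSp_iff, hh']
    exact ⟨ν, hν0, hh⟩
  refine ⟨⟨h', hh'G⟩, ?_⟩
  rw [cjC_conj_gam, gam_eq_iff p hm]
  refine ⟨w⁻¹, inv_ne_zero hw0, ?_⟩
  show ((g : GL (Fin m ⊕ Fin m) F) : Matrix (Fin m ⊕ Fin m) (Fin m ⊕ Fin m) F)
    = w⁻¹ • (((⟨h', hh'G⟩ * 1 * (mapG σ ⟨h', hh'G⟩)⁻¹ : ↥(Cfsg.GSp m F)) :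
      GL (Fin m ⊕ Fin m) F) : Matrix (Fin m ⊕ Fin m) (Fin m ⊕ Fin m) F)
  rw [mul_one]
  have h2 : (((⟨h', hh'G⟩ * (mapG σ ⟨h', hh'G⟩)⁻¹ : ↥(Cfsg.GSp m F)) :
      GL (Fin m ⊕ Fin m) F) : Matrix (Fin m ⊕ Fin m) (Fin m ⊕ Fin m) F) * (h.map σ) = h := by
    have h3 : h.map σ = (((mapG σ ⟨h', hh'G⟩ : ↥(Cfsg.GSp m F)) : GL (Fin m ⊕ Fin m) F) :
        Matrix (Fin m ⊕ Fin m) (Fin m ⊕ Fin m) F) := by
      rw [mapG_coe]
      show h.map σ = (h' : Matrix (Fin m ⊕ Fin m) (Fin m ⊕ Fin m) F).map σ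
      rw [hh']
    rw [h3, ← Units.val_mul, ← Subgroup.coe_mul, inv_mul_cancel_right]
    exact hh'
  have hσu : IsUnit (h.map σ) := by
    rw [Matrix.isUnit_iff_isUnit_det]
    have h2 : (h.map σ).det = σ h.det := (RingHom.map_det (σ : F →+* F) h).symm
    rw [h2]
    have h1 : IsUnit h.det := (Matrix.isUnit_iff_isUnit_det _).1 (hh.isUnit hν0)
    exact isUnit_iff_ne_zero.2 ((map_ne_zero_iff _ σ.injective).2 (isUnit_iff_ne_zero.1 h1))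
  obtain ⟨hi, hhi⟩ := hσu.exists_right_inv
  have h4 : (w • ((g : GL (Fin m ⊕ Fin m) F) : Matrix (Fin m ⊕ Fin m) (Fin m ⊕ Fin m) F))
      = (((⟨h', hh'G⟩ * (mapG σ ⟨h', hh'G⟩)⁻¹ : ↥(Cfsg.GSp m F)) : GL (Fin m ⊕ Fin m) F) :
        Matrix (Fin m ⊕ Fin m) (Fin m ⊕ Fin m) F) := by
    have h5 := congrArg (fun M => M * hi) (hwh.trans h2.symm)
    simp only [Matrix.mul_assoc, hhi, Matrix.mul_one] at h5
    exact h5
  rw [← h4, smul_smul, inv_mul_cancel₀ hw0, one_smul]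

end

end Cfsg.Agent.Lib.Helper5.PSpField
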