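import Mathlib
import Cfsg.Agent.Lib.Helper5.PSpField3
import Cfsg.Agent.Lib.Helper5.PSLCoset12

set_option autoImplicit false

/-! The centralizer of a field automorphism in the inner-diagonal group of `PSp_{2m}(F)` is
`PGSp_{2m}(F₀)`. -/

namespace Cfsg.Agent.Lib.Helper5.PSpField

open Matrix Cfsg.Agent.Lib.Helper5.PSLCoset Cfsg.Agent.Lib.Helper2.Symp
  Cfsg.Agent.Lib.Helper5.PSpAut

section
variable {F : Type*} [Field F] {m : ℕ}

theorem eq_nrm_smul' {k l : Type*} (σ : F ≃+* F) (c : Matrix k l F) (a : F)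
    (h : c = a • c.map σ) (j : ℕ) : c = nrm σ j a • c.map (σ ^ j : F ≃+* F) := by
  induction j with
  | zero =>
    rw [nrm_zero, one_smul, pow_zero]
    ext i j
    rfl
  | succ j ih =>
    rw [nrm_succ]
    have h0 : c.map (σ ^ (j + 1) : F ≃+* F) = (c.map (σ ^ j : F ≃+* F)).map σ := by
      ext i i'
      simp only [Matrix.map_apply]
      rw [pow_succ']
      rfl
    rw [h0]
    conv_lhs => rw [h]
    have h1 : c.map σ = (nrm σ j a • c.map (σ ^ j : F ≃+* F)).map σ := by rw [← ih]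
    rw [h1, map_smul_equiv, smul_smul]

end

section
variable {F : Type*} [Field F] {F₀ : Type*} [Field F₀] {m : ℕ}

theorem isGS_map_iff (ι : F₀ →+* F) (g₀ : Matrix (Fin m ⊕ Fin m) (Fin m ⊕ Fin m) F₀) (c : F₀) :
    IsGS (g₀.map ι) (ι c) ↔ IsGS g₀ c := by
  constructor
  · intro h
    unfold IsGS at h ⊢
    apply Matrix.map_injective ι.injective
    show (g₀ᵀ * Matrix.J (Fin m) F₀ * g₀).map ι = (c • Matrix.J (Fin m) F₀).map ι
    rw [Matrix.map_mul, Matrix.map_mul, map_smul'', J_map, Matrix.transpose_map]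
    exact h
  · intro h
    exact h.map ι

theorem map_mem_GSp' (ι : F₀ →+* F) (g₀ : GL (Fin m ⊕ Fin m) F₀) (hg₀ : g₀ ∈ Cfsg.GSp m F₀) :
    Matrix.GeneralLinearGroup.map ι g₀ ∈ Cfsg.GSp m F := by
  rw [mem_GSp_iff] at hg₀ ⊢
  obtain ⟨c, hc0, hc⟩ := hg₀
  exact ⟨ι c, (map_ne_zero_iff _ ι.injective).2 hc0, hc.map ι⟩

/-- the embedding of the small conformal symplectic group -/
def emb (ι : F₀ →+* F) : ↥(Cfsg.GSp m F₀) →* ↥(Cfsg.GSp m F) where
  toFun g₀ := ⟨Matrix.GeneralLinearGroup.map ι g₀.1, map_mem_GSp' ι g₀.1 g₀.2⟩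
  map_one' := by
    apply Subtype.ext
    exact map_one _
  map_mul' a b := by
    apply Subtype.ext
    exact map_mul _ _ _

theorem emb_coe (ι : F₀ →+* F) (g₀ : ↥(Cfsg.GSp m F₀)) :
    (((emb ι g₀ : ↥(Cfsg.GSp m F)) : GL (Fin m ⊕ Fin m) F) :
      Matrix (Fin m ⊕ Fin m) (Fin m ⊕ Fin m) F)
      = ((g₀ : GL (Fin m ⊕ Fin m) F₀) : Matrix (Fin m ⊕ Fin m) (Fin m ⊕ Fin m) F₀).map ι := rfl

variable {ι : F₀ →+* F} {σ : F ≃+* F}

theorem map_iota {k l : Type*} (hι : ∀ a, σ a = a ↔ a ∈ Set.range ι) (M₀ : Matrix k l F₀) :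
    (M₀.map ι).map σ = M₀.map ι := by
  ext i j
  exact (hι _).2 ⟨_, rfl⟩

theorem exists_map {k l : Type*} (hι : ∀ a, σ a = a ↔ a ∈ Set.range ι) (M : Matrix k l F)
    (h : M.map σ = M) : ∃ M₀ : Matrix k l F₀, M = M₀.map ι := by
  have h1 : ∀ i j, ∃ a : F₀, ι a = M i j := by
    intro i j
    have := congrFun (congrFun h i) j
    exact (hι _).1 this
  choose f hf using h1
  refine ⟨Matrix.of f, ?_⟩
  ext i j
  simp [hf]

theorem mapG_emb (hι : ∀ a, σ a = a ↔ a ∈ Set.range ι) (g₀ : ↥(Cfsg.GSp m F₀)) :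
    mapG σ (emb ι g₀ : ↥(Cfsg.GSp m F)) = emb ι g₀ := by
  apply Subtype.ext
  apply Units.ext
  rw [mapG_coe, emb_coe]
  exact map_iota hι _

theorem emb_mem (hι : ∀ a, σ a = a ↔ a ∈ Set.range ι) (g₀ : ↥(Cfsg.GSp m F₀)) :
    cjC (emb ι g₀ : ↥(Cfsg.GSp m F)) ∈ Cfsg.inndiagPSp m F ⊓
      Subgroup.centralizer {gam σ (1 : ↥(Cfsg.GSp m F))} := by
  refine Subgroup.mem_inf.2 ⟨?_, ?_⟩
  · rw [inndiagPSp_eq]
    exact ⟨_, rfl⟩
  · rw [mem_centralizer_singleton, cjC_mul_gam, gam_mul_cjC, mapG_emb hι, mul_one, one_mul]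

/-- a conformal symplectic matrix commuting projectively with `σ` is a scalar multiple of a
fixed conformal symplectic matrix -/
theorem exists_fixed_smul (hι : ∀ a, σ a = a ↔ a ∈ Set.range ι) (hm : 1 ≤ m) (r : ℕ)
    (hr : orderOf σ = r) (hr0 : 0 < r) (c : Matrix (Fin m ⊕ Fin m) (Fin m ⊕ Fin m) F) (μ : F)
    (hμ : μ ≠ 0) (hc : IsGS c μ) (l : F) (hl : c = l • c.map σ) :
    ∃ (b : F) (c₀ : Matrix (Fin m ⊕ Fin m) (Fin m ⊕ Fin m) F₀) (ν₀ : F₀), b ≠ 0 ∧ ν₀ ≠ 0 ∧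
      IsGS c₀ ν₀ ∧ b • c = c₀.map ι ∧ ι ν₀ = b * b * μ := by
  classical
  have hσr : σ ^ r = 1 := by
    rw [← hr]
    exact pow_orderOf_eq_one σ
  obtain ⟨i, j, hij⟩ : ∃ i j, c i j ≠ 0 := by
    by_contra hcon
    push Not at hcon
    have h0 : c = 0 := by
      ext i j
      exact hcon i j
    have h1 := hc.isUnit hμ
    rw [h0] at h1
    have h2 := (Matrix.isUnit_iff_isUnit_det _).1 h1
    haveI : Nonempty (Fin m ⊕ Fin m) := ⟨Sum.inl ⟨0, hm⟩⟩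
    rw [Matrix.det_zero] at h2
    exact not_isUnit_zero h2
  have hl0 : l ≠ 0 := by
    intro h0
    rw [h0, zero_smul] at hl
    rw [hl] at hij
    exact hij rfl
  have hlN : nrm σ r l = 1 := by
    have h1 := eq_nrm_smul' σ c l hl r
    rw [hσr] at h1
    have h2 := congrFun (congrFun h1 i) j
    simp only [Matrix.smul_apply, Matrix.map_apply, smul_eq_mul] at h2
    have h3 : (1 : F ≃+* F) (c i j) = c i j := rfl
    rw [h3] at h2
    have h4 : 1 * c i j = nrm σ r l * c i j := by rw [one_mul]; exact h2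
    exact (mul_right_cancel₀ hij h4).symm
  have hlN' : nrm σ r l⁻¹ = 1 := by
    have h1 := nrm_mul σ r l l⁻¹
    rw [mul_inv_cancel₀ hl0, nrm_one, hlN, one_mul] at h1
    exact h1.symm
  obtain ⟨b, hb0, hb⟩ := hilbert90_scalar σ r hr hr0 l⁻¹ hlN'
  have hfix : (b • c).map σ = b • c := by
    rw [map_smul_equiv]
    conv_rhs => rw [hl, smul_smul]
    congr 1
    have : σ b = l * b := by
      calc σ b = l * (l⁻¹ * σ b) := by field_simp
        _ = l * b := by rw [hb]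
    rw [this, mul_comm]
  obtain ⟨c₀, hc₀⟩ := exists_map hι _ hfix
  have hbc : IsGS (b • c) (b * b * μ) := hc.smul b
  have hνfix : σ (b * b * μ) = b * b * μ := by
    have h1 : IsGS ((b • c).map σ) (σ (b * b * μ)) := hbc.map (σ : F →+* F)
    rw [hfix] at h1
    exact IsGS.unique hm h1 hbc
  obtain ⟨ν₀, hν₀⟩ := (hι _).1 hνfix
  have hν₀0 : ν₀ ≠ 0 := by
    intro h0
    rw [h0, map_zero] at hν₀
    exact mul_ne_zero (mul_ne_zero hb0 hb0) hμ hν₀.symm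
  refine ⟨b, c₀, ν₀, hb0, hν₀0, ?_, hc₀, hν₀⟩
  rw [← isGS_map_iff ι, ← hc₀, hν₀]
  exact hbc

end

section
variable {F : Type*} [Field F] [Fintype F] {F₀ : Type*} [Field F₀] {m : ℕ}
  {ι : F₀ →+* F} {σ : F ≃+* F}

/-- the centralizer of a standard field automorphism -/
theorem centralizer_equiv (p : ℕ) [Fact p.Prime] [CharP F p]
    (hι : ∀ a, σ a = a ↔ a ∈ Set.range ι) (hm : 1 ≤ m) (r : ℕ)
    (hr : orderOf σ = r) (hr0 : 0 < r) :
    Nonempty (↥(Cfsg.inndiagPSp m F ⊓ Subgroup.centralizer {gam σ (1 : ↥(Cfsg.GSp m F))})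
      ≃* Cfsg.PGSp m F₀) := by
  classical
  let φ : ↥(Cfsg.GSp m F₀) →* ↥(Cfsg.inndiagPSp m F ⊓
      Subgroup.centralizer {gam σ (1 : ↥(Cfsg.GSp m F))}) :=
    MonoidHom.codRestrict ((cjC (m := m) (F := F)).comp (emb ι)) _
      (fun g₀ => emb_mem hι g₀)
  have hφ : ∀ g₀, (φ g₀ : MulAut (Cfsg.PSp m F)) = cjC (emb ι g₀) := fun g₀ => rfl
  have hsurj : Function.Surjective φ := by
    rintro ⟨a, ha⟩
    obtain ⟨ha1, ha2⟩ := Subgroup.mem_inf.1 ha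
    rw [inndiagPSp_eq] at ha1
    obtain ⟨c, rfl⟩ := ha1
    rw [mem_centralizer_singleton, cjC_mul_gam, gam_mul_cjC, gam_eq_iff p hm, mul_one,
      one_mul] at ha2
    obtain ⟨l, hl0, hl⟩ := ha2
    have hl' : ((c : GL (Fin m ⊕ Fin m) F) : Matrix (Fin m ⊕ Fin m) (Fin m ⊕ Fin m) F)
        = l • ((c : GL (Fin m ⊕ Fin m) F) : Matrix (Fin m ⊕ Fin m) (Fin m ⊕ Fin m) F).map σ := hl
    obtain ⟨μ, hμ0, hμ⟩ := (mem_GSp_iff c.1).1 c.2
    obtain ⟨b, c₀, ν₀, hb0, hν₀0, hc₀G, hc₀, -⟩ :=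
      exists_fixed_smul hι hm r hr hr0 _ μ hμ0 hμ l hl'
    obtain ⟨g₀, hg₀⟩ : ∃ g₀ : GL (Fin m ⊕ Fin m) F₀,
        (g₀ : Matrix (Fin m ⊕ Fin m) (Fin m ⊕ Fin m) F₀) = c₀ :=
      ⟨(hc₀G.isUnit hν₀0).unit, rfl⟩
    have hg₀G : g₀ ∈ Cfsg.GSp m F₀ := by
      rw [mem_GSp_iff, hg₀]
      exact ⟨ν₀, hν₀0, hc₀G⟩
    refine ⟨⟨g₀, hg₀G⟩, ?_⟩
    apply Subtype.ext
    rw [hφ]
    show cjC (emb ι ⟨g₀, hg₀G⟩) = cjC c
    apply cjC_eq_of_smul _ _ b hb0
    rw [emb_coe]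
    show (g₀ : Matrix (Fin m ⊕ Fin m) (Fin m ⊕ Fin m) F₀).map ι = b • _
    rw [hg₀, hc₀]
  have hker : φ.ker = (Cfsg.Geo.scalars (Fin m ⊕ Fin m) F₀).subgroupOf (Cfsg.GSp m F₀) := by
    ext g₀
    rw [MonoidHom.mem_ker, Subgroup.mem_subgroupOf, Cfsg.Geo.mem_scalars_iff]
    have h1 : φ g₀ = 1 ↔ cjC (emb ι g₀) = (1 : MulAut (Cfsg.PSp m F)) := by
      constructor
      · intro h
        rw [← hφ, h]
        rfl
      · intro h
        apply Subtype.ext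
        rw [hφ, h]
        rfl
    rw [h1, cjC_eq_one_iff p hm, emb_coe]
    constructor
    · rintro ⟨l, hl0, hl⟩
      have h00 : ι (((g₀ : GL (Fin m ⊕ Fin m) F₀) :
          Matrix (Fin m ⊕ Fin m) (Fin m ⊕ Fin m) F₀) (Sum.inl ⟨0, hm⟩) (Sum.inl ⟨0, hm⟩)) = l := by
        have := congrFun (congrFun hl (Sum.inl ⟨0, hm⟩)) (Sum.inl ⟨0, hm⟩)
        simpa using this
      have hc0 : ((g₀ : GL (Fin m ⊕ Fin m) F₀) :
          Matrix (Fin m ⊕ Fin m) (Fin m ⊕ Fin m) F₀) (Sum.inl ⟨0, hm⟩) (Sum.inl ⟨0, hm⟩) ≠ 0 := by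
        intro h0
        rw [h0, map_zero] at h00
        exact hl0 h00.symm
      refine ⟨Units.mk0 _ hc0, ?_⟩
      ext i j
      apply ι.injective
      have hij := congrFun (congrFun hl i) j
      simp only [Matrix.map_apply] at hij
      rw [hij, Units.val_mk0, Matrix.smul_apply, Matrix.smul_apply, smul_eq_mul, smul_eq_mul,
        map_mul, h00]
      by_cases h : i = j
      · subst h
        rw [Matrix.one_apply_eq, Matrix.one_apply_eq, map_one]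
      · rw [Matrix.one_apply_ne h, Matrix.one_apply_ne h, map_zero]
    · rintro ⟨c, hc⟩
      refine ⟨ι (c : F₀), (map_ne_zero_iff _ ι.injective).2 c.ne_zero, ?_⟩
      rw [hc]
      ext i j
      by_cases h : i = j
      · subst h
        simp
      · simp [Matrix.one_apply_ne h]
  exact ⟨((QuotientGroup.quotientMulEquivOfEq hker).symm.trans
    (QuotientGroup.quotientKerEquivOfSurjective φ hsurj)).symm⟩

end

end Cfsg.Agent.Lib.Helper5.PSpField
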