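import Mathlib
import Cfsg.Agent.Lib.Helper5.OFld16
import Cfsg.Agent.Lib.Helper5.PSpField4

set_option autoImplicit false

/-! Conjugacy of field automorphisms of `PΩ(Q)` in their coset of the projective similarity
group: the general reduction to the classification of forms over the fixed field. -/

namespace Cfsg.Agent.Lib.Helper5.OFld

open Matrix Cfsg.Agent.Lib.Helper5.PGO Cfsg.Agent.Lib.Helper5.PSLCoset
open Cfsg.Agent.Lib.Helper5.OAut Cfsg.Agent.Lib.Helper5.PSpField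

section Scal
variable {F : Type*} [Field F] {ι : Type} [Fintype ι] [DecidableEq ι]
variable {Q : QuadraticForm F (ι → F)}

/-- multiplying by a scalar does not change the induced automorphism -/
theorem PhiS_scal (t : Fˣ) {g : GL ι F} {σ : F ≃+* F}
    (h : Cfsg.IsSemisimilarityPair (⇑Q) g σ)
    (h' : Cfsg.IsSemisimilarityPair (⇑Q) (scalHom t * g) σ) :
    PhiS (scalHom t * g) σ h' = PhiS g σ h := by
  have h1 : PhiS ((scalGO Q t : ↥(GO (⇑Q))) : GL ι F) 1 (pair_of_GO (scalGO Q t)) = 1 := by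
    rw [PhiS_one_eq (scalGO Q t)]
    exact scal_le_ker ⟨t, rfl⟩
  have h2 := PhiS_mul (pair_of_GO (scalGO Q t)) h
  rw [h1, one_mul] at h2
  rw [h2]
  exact PhiS_congr (by rw [mapGL_one]; rfl) (one_mul σ).symm _ _

/-- conjugating the automorphism of `(1, σ)` by a similarity -/
theorem Phi_conj_std (d : ↥(GO (⇑Q))) {σ : F ≃+* F}
    (hstd : Cfsg.IsSemisimilarityPair (⇑Q) (1 : GL ι F) σ)
    (h' : Cfsg.IsSemisimilarityPair (⇑Q) ((d : GL ι F) * mapGL σ (d : GL ι F)⁻¹) σ) :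
    Phi (⇑Q) d * PhiS 1 σ hstd * (Phi (⇑Q) d)⁻¹ =
      PhiS ((d : GL ι F) * mapGL σ (d : GL ι F)⁻¹) σ h' := by
  rw [← map_inv, ← PhiS_one_eq d (pair_of_GO d), ← PhiS_one_eq d⁻¹ (pair_of_GO d⁻¹), PhiS_mul,
    PhiS_mul]
  apply PhiS_congr
  · rw [mapGL_one, mul_one, one_mul]
    rfl
  · rw [one_mul, mul_one]

end Scal

section Main
variable {F : Type*} [Field F] {ι : Type} [Fintype ι] [DecidableEq ι]
variable {Q : QuadraticForm F (ι → F)}

/-- the form `ν⁻¹ Q ∘ B` -/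
noncomputable def twForm (Q : QuadraticForm F (ι → F)) (B : Matrix ι ι F) (ν : F) :
    QuadraticForm F (ι → F) :=
  ν⁻¹ • Q.comp (Matrix.toLin' B)

theorem twForm_apply (B : Matrix ι ι F) (ν : F) (v : ι → F) :
    twForm Q B ν v = ν⁻¹ * Q (B *ᵥ v) := rfl

theorem twForm_polar (B : Matrix ι ι F) (ν : F) (x y : ι → F) :
    QuadraticMap.polar (⇑(twForm Q B ν)) x y = ν⁻¹ * QuadraticMap.polar (⇑Q) (B *ᵥ x) (B *ᵥ y) := by
  unfold QuadraticMap.polar
  rw [twForm_apply, twForm_apply, twForm_apply, Matrix.mulVec_add]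
  ring

theorem twForm_nondeg (hQ : (QuadraticMap.polarBilin Q).Nondegenerate) (B : Matrix ι ι F)
    (hB : IsUnit B) (ν : F) (hν : ν ≠ 0) :
    (QuadraticMap.polarBilin (twForm Q B ν)).Nondegenerate := by
  have hdet : IsUnit B.det := (Matrix.isUnit_iff_isUnit_det B).1 hB
  have hleft : (QuadraticMap.polarBilin (twForm Q B ν)).SeparatingLeft := by
    intro x hx
    have h1 : B *ᵥ x = 0 := by
      apply hQ.1
      intro y'
      have := hx (B⁻¹ *ᵥ y')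
      rw [show QuadraticMap.polarBilin (twForm Q B ν) x (B⁻¹ *ᵥ y') =
        QuadraticMap.polar (⇑(twForm Q B ν)) x (B⁻¹ *ᵥ y') from rfl, twForm_polar,
        Matrix.mulVec_mulVec, Matrix.mul_nonsing_inv B hdet, Matrix.one_mulVec] at this
      rcases mul_eq_zero.1 this with h | h
      · exact absurd h (inv_ne_zero hν)
      · exact h
    have h2 := congrArg (fun v => B⁻¹ *ᵥ v) h1
    simp only [Matrix.mulVec_mulVec, Matrix.nonsing_inv_mul B hdet, Matrix.one_mulVec,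
      Matrix.mulVec_zero] at h2
    exact h2
  refine ⟨hleft, ?_⟩
  intro y hy
  apply hleft
  intro x
  have := hy x
  show QuadraticMap.polar (⇑(twForm Q B ν)) y x = 0
  rw [QuadraticMap.polar_comm]
  exact this

variable [Fintype F] {F₀ : Type*} [Field F₀]

/-- The general conjugacy theorem: if the forms over the fixed field which become similar to
`Q` are similar to the standard one, then every element of order dividing `r` in the coset of
the standard field automorphism of order `r` is conjugate to it under the similarity group. -/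
theorem field_conj_general (hQ : (QuadraticMap.polarBilin Q).Nondegenerate)
    (hn : 7 ≤ Fintype.card ι) (ι₀ : F₀ →+* F) (σ : F ≃+* F)
    (hι : ∀ a, σ a = a ↔ a ∈ Set.range ι₀) (r : ℕ) (hr : orderOf σ = r) (hr0 : 0 < r)
    (QE : QuadraticForm F₀ (ι → F₀)) (hcompat : ∀ v, Q (extV ι₀ v) = ι₀ (QE v))
    (hcls : ∀ Q₀ : QuadraticForm F₀ (ι → F₀), (QuadraticMap.polarBilin Q₀).Nondegenerate →
      (∃ (B : Matrix ι ι F) (ν : F), IsUnit B ∧ ν ≠ 0 ∧
        ∀ v, ι₀ (Q₀ v) = ν⁻¹ * Q (B *ᵥ extV ι₀ v)) →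
      ∃ (μ : F₀) (E₁ : (ι → F₀) ≃ₗ[F₀] (ι → F₀)), μ ≠ 0 ∧ ∀ v, Q₀ (E₁ v) = μ * QE v)
    (hstd : Cfsg.IsSemisimilarityPair (⇑Q) (1 : GL ι F) σ)
    (g : GL ι F) (hg : Cfsg.IsSemisimilarityPair (⇑Q) g σ) (hpow : (PhiS g σ hg) ^ r = 1) :
    ∃ h : ↥(GO (⇑Q)), PhiS g σ hg = Phi (⇑Q) h * PhiS 1 σ hstd * (Phi (⇑Q) h)⁻¹ := by
  classical
  have hσr : σ ^ r = 1 := by
    rw [← hr]
    exact pow_orderOf_eq_one σ
  have hQ0 : ∃ v, Q v ≠ 0 := exists_value_ne hQ (by omega)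
  -- the twisted power is a scalar
  obtain ⟨hGO, hpw⟩ := PhiS_pow_of_pow_eq_one hg hσr
  rw [hpow] at hpw
  have hker : (⟨twGL σ g r, hGO⟩ : ↥(GO (⇑Q))) ∈ (Phi (⇑Q)).ker := hpw.symm
  rw [ker_eq hQ hn] at hker
  obtain ⟨z, hz⟩ := hker
  have htw : tw σ (g : Matrix ι ι F) r = (z : F) • 1 := by
    rw [← twGL_coe]
    have := congrArg (fun x : ↥(GO (⇑Q)) => ((x : GL ι F) : Matrix ι ι F)) hz
    simp only [scalGO_coe, scalHom_coe] at this
    rw [← this, Matrix.scalar_apply, ← Matrix.smul_one_eq_diagonal]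
  obtain ⟨c, hc⟩ := hg
  obtain ⟨B, w, ν, hBu, hw0, hν0, hB, hBσ⟩ := exists_descent_data Q hQ0 σ r hr hr0
    (g : Matrix ι ι F) g.isUnit (c : F) (fun v => hc v) (z : F) z.ne_zero htw
  -- descent of the form
  have hfix : ∀ v₀ : ι → F₀, sv σ (extV ι₀ v₀) = extV ι₀ v₀ := by
    intro v₀
    funext i
    exact (hι _).2 ⟨_, rfl⟩
  obtain ⟨Q₀, hQ₀⟩ := exists_descent ι₀ (twForm Q B ν) (by
    intro v₀
    apply (hι _).1
    rw [twForm_apply, ← hBσ, hfix])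
  have hQ₀nd := descent_nondeg ι₀ (twForm Q B ν) Q₀ hQ₀ (twForm_nondeg hQ B hBu ν hν0)
  obtain ⟨μ, E₁, hμ0, hE₁⟩ := hcls Q₀ hQ₀nd ⟨B, ν, hBu, hν0, fun v => by
    rw [hQ₀, twForm_apply]⟩
  -- the conjugating matrix
  obtain ⟨M₁, hM₁⟩ : ∃ M₁ : Matrix ι ι F₀, M₁ = LinearMap.toMatrix' E₁.toLinearMap := ⟨_, rfl⟩
  have hM₁v : ∀ v₀, M₁ *ᵥ v₀ = E₁ v₀ := by
    intro v₀
    rw [hM₁, LinearMap.toMatrix'_mulVec]
    rfl
  have hM₁u : IsUnit M₁ := by
    rw [hM₁]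
    have h1 : LinearMap.toMatrix' E₁.toLinearMap * LinearMap.toMatrix' E₁.symm.toLinearMap = 1 := by
      rw [← LinearMap.toMatrix'_comp]
      have : E₁.toLinearMap.comp E₁.symm.toLinearMap = LinearMap.id := by
        ext v
        simp
      rw [this, LinearMap.toMatrix'_id]
    exact IsUnit.of_mul_eq_one _ h1
  have hMu : IsUnit (B * M₁.map ι₀) := by
    apply IsUnit.mul hBu
    rw [Matrix.isUnit_iff_isUnit_det] at hM₁u ⊢
    have : (M₁.map ι₀).det = ι₀ M₁.det := (RingHom.map_det ι₀ M₁).symm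
    rw [this]
    exact hM₁u.map ι₀
  have hsim : ∀ v, Q ((B * M₁.map ι₀) *ᵥ v) = (ν * ι₀ μ) * Q v := by
    intro v
    have := base_change ι₀ (Q.comp (Matrix.toLin' (B * M₁.map ι₀))) ((ν * ι₀ μ) • Q) (by
      intro v₀
      show Q ((B * M₁.map ι₀) *ᵥ extV ι₀ v₀) = (ν * ι₀ μ) * Q (extV ι₀ v₀)
      rw [← Matrix.mulVec_mulVec, extV_mulVec, hM₁v, hcompat]
      have h1 := hQ₀ (E₁ v₀)
      rw [twForm_apply, hE₁, map_mul] at h1
      rw [mul_assoc, h1]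
      field_simp) v
    exact this
  obtain ⟨hU, hhU⟩ : ∃ hU : GL ι F, (hU : Matrix ι ι F) = B * M₁.map ι₀ := ⟨hMu.unit, rfl⟩
  have hμν : ν * ι₀ μ ≠ 0 := mul_ne_zero hν0 ((map_ne_zero_iff _ ι₀.injective).2 hμ0)
  have hhGO : hU ∈ GO (⇑Q) := ⟨Units.mk0 _ hμν, fun v => by rw [hhU]; exact hsim v⟩
  refine ⟨⟨hU, hhGO⟩, ?_⟩
  -- the key identity
  have hkey : scalHom (Units.mk0 w hw0) * g * mapGL σ hU = hU := by
    apply Units.ext
    rw [Units.val_mul, Units.val_mul, mapGL_coe, hhU, scalHom_coe, Matrix.map_mul,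
      map_iota hι, Matrix.scalar_apply, ← Matrix.smul_eq_diagonal_mul, ← Matrix.mul_assoc,
      Units.val_mk0, hB]
  have hgeq : g = scalHom (Units.mk0 w hw0)⁻¹ * (hU * mapGL σ hU⁻¹) := by
    rw [map_inv, map_inv]
    calc g = (scalHom (Units.mk0 w hw0))⁻¹ *
          ((scalHom (Units.mk0 w hw0) * g * mapGL σ hU) * (mapGL σ hU)⁻¹) := by group
      _ = (scalHom (Units.mk0 w hw0))⁻¹ * (hU * (mapGL σ hU)⁻¹) := by rw [hkey]
  have hpair' : Cfsg.IsSemisimilarityPair (⇑Q) (hU * mapGL σ hU⁻¹) σ := by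
    have h1 := pair_mul (pair_of_GO (⟨hU, hhGO⟩ : ↥(GO (⇑Q)))) hstd
    have h2 := pair_mul h1 (pair_of_GO (⟨hU, hhGO⟩⁻¹ : ↥(GO (⇑Q))))
    rw [mapGL_one, mul_one, one_mul, mul_one] at h2
    exact h2
  rw [Phi_conj_std ⟨hU, hhGO⟩ hstd hpair']
  have hpair'' : Cfsg.IsSemisimilarityPair (⇑Q)
      (scalHom (Units.mk0 w hw0)⁻¹ * (hU * mapGL σ hU⁻¹)) σ := by
    rw [← hgeq]
    exact ⟨c, hc⟩
  rw [← PhiS_scal (Units.mk0 w hw0)⁻¹ hpair' hpair'']
  exact PhiS_congr hgeq rfl _ _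

end Main

end Cfsg.Agent.Lib.Helper5.OFld
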