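import Mathlib
import Cfsg.Agent.Lib.Helper5.OFld17
import Cfsg.Agent.Lib.Helper5.OrthCls12

set_option autoImplicit false

/-! Field automorphisms of `PΩ(Q)`: standard form, the fixed field, and the conjugacy theorem
for the odd dimensional groups. -/

namespace Cfsg.Agent.Lib.Helper5.OFld

open Matrix Cfsg.Agent.Lib.Helper5.PGO Cfsg.Agent.Lib.Helper5.PSLCoset
open Cfsg.Agent.Lib.Helper5.OAut Cfsg.Agent.Lib.Helper5.PSpField
open Cfsg.Agent.Lib.Helper2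

section FixedField
variable {F : Type*} [Field F]

/-- the fixed field of an automorphism -/
def fixF (σ : F ≃+* F) : Subfield F := RingHom.eqLocusField (σ : F →+* F) (RingHom.id F)

theorem mem_fixF (σ : F ≃+* F) (a : F) : a ∈ fixF σ ↔ σ a = a := Iff.rfl

theorem fixF_range (σ : F ≃+* F) (a : F) : σ a = a ↔ a ∈ Set.range (fixF σ).subtype := by
  constructor
  · intro h
    exact ⟨⟨a, h⟩, rfl⟩
  · rintro ⟨b, rfl⟩
    exact b.2

end FixedField

section Generic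
variable {F : Type*} [Field F] [Fintype F] {ι : Type} [Fintype ι] [DecidableEq ι]
variable {Q : QuadraticForm F (ι → F)}

theorem orderOf_conj_eq {G : Type*} [Group G] (α x : G) : orderOf (α * x * α⁻¹) = orderOf x := by
  rw [← MulAut.conj_apply]
  exact MulEquiv.orderOf_eq _ x

theorem conj_transfer {G : Type*} [Group G] (N : Subgroup G) (α x δ H : G)
    (hN : α⁻¹ * H * α ∈ N)
    (h : α * (δ * x) * α⁻¹ = H * (α * x * α⁻¹) * H⁻¹) : Cfsg.IsConjUnder N x (δ * x) := by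
  refine ⟨α⁻¹ * H * α, hN, ?_⟩
  have h1 : δ * x = α⁻¹ * (α * (δ * x) * α⁻¹) * α := by group
  rw [h1, h]
  group

theorem stdField_injective (p : ℕ) [Fact p.Prime] [CharP F p]
    (hQ : (QuadraticMap.polarBilin Q).Nondegenerate) (hn : 7 ≤ Fintype.card ι)
    (hLag : ∀ T : Submodule F (ι → F), (∀ x ∈ T, Q x = 0) →
      (∀ y, (∀ x ∈ T, QuadraticMap.polar (⇑Q) x y = 0) → y ∈ T) → 5 ≤ Module.finrank F ↥T)
    (hinv : GalInv (⇑Q)) : Function.Injective (stdField hinv) := by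
  intro σ τ h
  have := congrArg (Theta p hQ hn hLag) h
  rw [stdField_apply, stdField_apply, Theta_PhiS, Theta_PhiS] at this
  exact this

/-- a field automorphism of order `r` is conjugate to a standard one of order `r` -/
theorem field_stdform (p : ℕ) [Fact p.Prime] [CharP F p]
    (hQ : (QuadraticMap.polarBilin Q).Nondegenerate) (hn : 7 ≤ Fintype.card ι)
    (hLag : ∀ T : Submodule F (ι → F), (∀ x ∈ T, Q x = 0) →
      (∀ y, (∀ x ∈ T, QuadraticMap.polar (⇑Q) x y = 0) → y ∈ T) → 5 ≤ Module.finrank F ↥T)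
    (hinv : GalInv (⇑Q)) {x : MulAut (Cfsg.POmega F (⇑Q))}
    (hx : Cfsg.IsFieldAutClassPOmega (⇑Q) x) {r : ℕ} (hxr : orderOf x = r) :
    ∃ (α : MulAut (Cfsg.POmega F (⇑Q))) (σ : F ≃+* F), orderOf σ = r ∧ σ ≠ 1 ∧
      α * x * α⁻¹ = stdField hinv σ := by
  obtain ⟨α, φ, σ, hσ, hφ, hα⟩ := hx
  have h1 := (isFieldAut_iff hinv σ φ).1 hφ
  refine ⟨α, σ, ?_, hσ, hα.trans h1⟩
  rw [← hxr, ← orderOf_conj_eq α x, hα, h1]
  exact (orderOf_injective (stdField hinv) (stdField_injective p hQ hn hLag hinv) σ).symm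

theorem pgoAut_normal (p : ℕ) [Fact p.Prime] [CharP F p]
    (hQ : (QuadraticMap.polarBilin Q).Nondegenerate) (hn : 7 ≤ Fintype.card ι)
    (hLag : ∀ T : Submodule F (ι → F), (∀ x ∈ T, Q x = 0) →
      (∀ y, (∀ x ∈ T, QuadraticMap.polar (⇑Q) x y = 0) → y ∈ T) → 5 ≤ Module.finrank F ↥T) :
    (Cfsg.pgoAut F (⇑Q)).Normal := by
  rw [← Theta_ker p hQ hn hLag]
  infer_instance

/-- the coset conjugacy statement, given the conjugacy theorem for pairs -/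
theorem coset_conj_generic (p : ℕ) [Fact p.Prime] [CharP F p]
    (hQ : (QuadraticMap.polarBilin Q).Nondegenerate) (hn : 7 ≤ Fintype.card ι)
    (hLag : ∀ T : Submodule F (ι → F), (∀ x ∈ T, Q x = 0) →
      (∀ y, (∀ x ∈ T, QuadraticMap.polar (⇑Q) x y = 0) → y ∈ T) → 5 ≤ Module.finrank F ↥T)
    (hinv : GalInv (⇑Q))
    (hconj : ∀ (σ : F ≃+* F) (r : ℕ), orderOf σ = r → 0 < r → ∀ (g : GL ι F)
      (hg : Cfsg.IsSemisimilarityPair (⇑Q) g σ), (PhiS g σ hg) ^ r = 1 →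
      ∃ h : ↥(GO (⇑Q)), PhiS g σ hg =
        Phi (⇑Q) h * PhiS 1 σ (pair_std hinv σ) * (Phi (⇑Q) h)⁻¹)
    (x δ : MulAut (Cfsg.POmega F (⇑Q))) (hx : Cfsg.IsFieldAutClassPOmega (⇑Q) x) {r : ℕ}
    (hr : r.Prime) (hxr : orderOf x = r) (hδ : δ ∈ Cfsg.pgoAut F (⇑Q)) :
    orderOf (δ * x) = r ↔ Cfsg.IsConjUnder (Cfsg.pgoAut F (⇑Q)) x (δ * x) := by
  constructor
  swap
  · rintro ⟨h, -, hh⟩
    rw [hh, orderOf_conj_eq, hxr]
  intro hy
  haveI := pgoAut_normal p hQ hn hLag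
  obtain ⟨α, σ, hσr, -, hx₀⟩ := field_stdform p hQ hn hLag hinv hx hxr
  have hδ' : α * δ * α⁻¹ ∈ Cfsg.pgoAut F (⇑Q) := Subgroup.Normal.conj_mem inferInstance δ hδ α
  rw [pgoAut_eq] at hδ'
  obtain ⟨g, hg⟩ := hδ'
  have hpair : Cfsg.IsSemisimilarityPair (⇑Q) (g : GL ι F) σ := by
    have := pair_mul (pair_of_GO g) (pair_std hinv σ)
    rw [map_one, mul_one, one_mul] at this
    exact this
  have hy₀ : α * (δ * x) * α⁻¹ = PhiS (g : GL ι F) σ hpair := by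
    have : α * (δ * x) * α⁻¹ = (α * δ * α⁻¹) * (α * x * α⁻¹) := by group
    rw [this, ← hg, hx₀, stdField_apply, ← PhiS_one_eq g (pair_of_GO g), PhiS_mul]
    exact PhiS_congr (by rw [map_one, mul_one]) (one_mul σ) _ _
  have hpow : (PhiS (g : GL ι F) σ hpair) ^ r = 1 := by
    rw [← hy₀, ← hy, ← orderOf_conj_eq α (δ * x)]
    exact pow_orderOf_eq_one _
  obtain ⟨h, hh⟩ := hconj σ r hσr hr.pos g hpair hpow
  apply conj_transfer (Cfsg.pgoAut F (⇑Q)) α x δ (Phi (⇑Q) h)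
  · have h1 : Phi (⇑Q) h ∈ Cfsg.pgoAut F (⇑Q) := by
      rw [pgoAut_eq]
      exact ⟨h, rfl⟩
    have := Subgroup.Normal.conj_mem (inferInstance : (Cfsg.pgoAut F (⇑Q)).Normal) _ h1 α⁻¹
    rwa [inv_inv] at this
  · rw [hy₀, hx₀, hh, stdField_apply]

end Generic

section Odd
variable {F : Type*} [Field F] [Fintype F]

theorem QOd_extV {F₀ : Type*} [Field F₀] (ι₀ : F₀ →+* F) (m : ℕ)
    (v : Unit ⊕ (Fin m ⊕ Fin m) → F₀) :
    OrthCard.QOd m F (extV ι₀ v) = ι₀ (OrthCard.QOd m F₀ v) := by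
  have e1 : ∀ w, OrthCard.QOd m F w = Cfsg.quadFormOdd m F w :=
    fun w => congrFun (OrthCard.QOd_coe m) w
  have e2 : ∀ w, OrthCard.QOd m F₀ w = Cfsg.quadFormOdd m F₀ w :=
    fun w => congrFun (OrthCard.QOd_coe m) w
  rw [e1, e2]
  unfold Cfsg.quadFormOdd
  rw [map_add, map_pow, map_sum]
  simp only [map_mul, extV_apply]

/-- the conjugacy theorem for the odd dimensional orthogonal groups -/
theorem field_conj_odd (h2 : (2 : F) ≠ 0) {m : ℕ} (hm : 3 ≤ m)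
    (hinv : GalInv (⇑(OrthCard.QOd m F))) (σ : F ≃+* F) (r : ℕ)
    (hr : orderOf σ = r) (hr0 : 0 < r) (g : GL (Unit ⊕ (Fin m ⊕ Fin m)) F)
    (hg : Cfsg.IsSemisimilarityPair (⇑(OrthCard.QOd m F)) g σ) (hpow : (PhiS g σ hg) ^ r = 1) :
    ∃ h : ↥(GO (⇑(OrthCard.QOd m F))), PhiS g σ hg =
      Phi (⇑(OrthCard.QOd m F)) h * PhiS 1 σ (pair_std hinv σ) *
        (Phi (⇑(OrthCard.QOd m F)) h)⁻¹ := by
  classical
  have hQ := OrthCard.QOd_nondeg (F := F) h2 m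
  have hn : 7 ≤ Fintype.card (Unit ⊕ (Fin m ⊕ Fin m)) := by rw [card_odd_index]; omega
  have h2E : (2 : ↥(fixF σ)) ≠ 0 := by
    intro h
    apply h2
    have := congrArg (fixF σ).subtype h
    rwa [map_ofNat, map_zero] at this
  have hfr : Module.finrank ↥(fixF σ) (Unit ⊕ (Fin m ⊕ Fin m) → ↥(fixF σ)) = 2 * m + 1 := by
    rw [Module.finrank_fintype_fun_eq_card, card_odd_index]
  exact field_conj_general hQ hn (fixF σ).subtype σ (fixF_range σ) r hr hr0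
    (OrthCard.QOd m ↥(fixF σ)) (QOd_extV _ m)
    (by
      intro Q₀ hQ₀ _
      obtain ⟨c, e, hc, he⟩ := OrthCls.exists_similarity_odd hfr hfr (OrthCard.QOd m ↥(fixF σ)) Q₀
        (OrthCard.QOd_nondeg h2E m) hQ₀
      exact ⟨c, e, hc, he⟩)
    (pair_std hinv σ) g hg hpow

end Odd

end Cfsg.Agent.Lib.Helper5.OFld
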