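import Mathlib
import Cfsg.Agent.Lib.Helper5.OFld18
import Cfsg.Agent.Lib.Helper5.PSLCoset7

set_option autoImplicit false

/-! The centralizer of a standard field automorphism of `PΩ(Q)` in the image of the similarity
group: it is the image of the similarity group of the form over the fixed field. -/

namespace Cfsg.Agent.Lib.Helper5.OFld

open Matrix Cfsg.Agent.Lib.Helper5.PGO Cfsg.Agent.Lib.Helper5.PSLCoset
open Cfsg.Agent.Lib.Helper5.OAut Cfsg.Agent.Lib.Helper5.PSpField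

section EqIff
variable {F : Type*} [Field F] [Fintype F] {ι : Type} [Fintype ι] [DecidableEq ι]
variable {Q : QuadraticForm F (ι → F)}

/-- two pairs with the same field automorphism induce the same automorphism iff the matrices
differ by a scalar -/
theorem PhiS_eq_iff (hQ : (QuadraticMap.polarBilin Q).Nondegenerate) (hn : 7 ≤ Fintype.card ι)
    {g g' : GL ι F} {σ : F ≃+* F} (h : Cfsg.IsSemisimilarityPair (⇑Q) g σ)
    (h' : Cfsg.IsSemisimilarityPair (⇑Q) g' σ) :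
    PhiS g σ h = PhiS g' σ h' ↔ ∃ l : Fˣ, g = scalHom l * g' := by
  constructor
  · intro he
    have h1 : PhiS g σ h * (PhiS g' σ h')⁻¹ = 1 := by rw [he, mul_inv_cancel]
    rw [PhiS_inv, PhiS_mul] at h1
    have hp : Cfsg.IsSemisimilarityPair (⇑Q) (g * g'⁻¹) (1 : F ≃+* F) := by
      have := pair_mul h (pair_inv h')
      rw [mapGL_apply_inv, mul_inv_cancel] at this
      exact this
    have h2 : PhiS (g * g'⁻¹) 1 hp = 1 := by
      rw [← h1]
      exact PhiS_congr (by rw [mapGL_apply_inv]) (mul_inv_cancel σ).symm _ _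
    rw [PhiS_one_eq ⟨g * g'⁻¹, GO_of_pair hp⟩ hp] at h2
    have h3 : (⟨g * g'⁻¹, GO_of_pair hp⟩ : ↥(GO (⇑Q))) ∈ (Phi (⇑Q)).ker := h2
    rw [ker_eq hQ hn] at h3
    obtain ⟨l, hl⟩ := h3
    refine ⟨l, ?_⟩
    have h4 := congrArg (fun x : ↥(GO (⇑Q)) => (x : GL ι F)) hl
    simp only [scalGO_coe] at h4
    rw [h4]
    group
  · rintro ⟨l, rfl⟩
    exact PhiS_scal l h' h

end EqIff

section Emb
variable {F F₀ : Type*} [Field F] [Field F₀] {ι : Type} [Fintype ι] [DecidableEq ι]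
variable {Q : QuadraticForm F (ι → F)} {Q₀ : QuadraticForm F₀ (ι → F₀)}

theorem map_mem_GO (ι₀ : F₀ →+* F) (hcompat : ∀ v, Q (extV ι₀ v) = ι₀ (Q₀ v))
    (g₀ : GL ι F₀) (hg₀ : g₀ ∈ GO (⇑Q₀)) :
    Matrix.GeneralLinearGroup.map ι₀ g₀ ∈ GO (⇑Q) := by
  obtain ⟨c, hc⟩ := hg₀
  refine ⟨Units.map (ι₀ : F₀ →* F) c, fun v => ?_⟩
  have := base_change ι₀ (Q.comp (Matrix.toLin' ((g₀ : Matrix ι ι F₀).map ι₀)))
    ((ι₀ (c : F₀)) • Q) (by
      intro v₀
      show Q (((g₀ : Matrix ι ι F₀).map ι₀) *ᵥ extV ι₀ v₀) = ι₀ (c : F₀) * Q (extV ι₀ v₀)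
      rw [extV_mulVec, hcompat, hcompat, hc, map_mul]) v
  exact this

/-- base change of similarities -/
noncomputable def embGO (ι₀ : F₀ →+* F) (hcompat : ∀ v, Q (extV ι₀ v) = ι₀ (Q₀ v)) :
    ↥(GO (⇑Q₀)) →* ↥(GO (⇑Q)) where
  toFun g₀ := ⟨Matrix.GeneralLinearGroup.map ι₀ (g₀ : GL ι F₀),
    map_mem_GO ι₀ hcompat (g₀ : GL ι F₀) g₀.2⟩
  map_one' := Subtype.ext (map_one _)
  map_mul' a b := Subtype.ext (map_mul _ _ _)

theorem embGO_coe (ι₀ : F₀ →+* F) (hcompat : ∀ v, Q (extV ι₀ v) = ι₀ (Q₀ v))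
    (g₀ : ↥(GO (⇑Q₀))) :
    (((embGO ι₀ hcompat g₀ : ↥(GO (⇑Q))) : GL ι F) : Matrix ι ι F) =
      ((g₀ : GL ι F₀) : Matrix ι ι F₀).map ι₀ := rfl

theorem embGO_scal (ι₀ : F₀ →+* F) (hcompat : ∀ v, Q (extV ι₀ v) = ι₀ (Q₀ v)) (t : F₀ˣ) :
    embGO ι₀ hcompat (scalGO Q₀ t) = scalGO Q (Units.map (ι₀ : F₀ →* F) t) := by
  apply Subtype.ext
  apply Units.ext
  rw [embGO_coe, scalGO_coe, scalGO_coe, scalHom_coe, scalHom_coe]
  ext i j
  by_cases h : i = j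
  · subst h
    simp
  · simp [h]

end Emb

section Fixed
variable {F F₀ : Type*} [Field F] [Field F₀] {ι : Type} [Fintype ι] [DecidableEq ι]
variable {ι₀ : F₀ →+* F} {σ : F ≃+* F}

/-- a matrix projectively fixed by `σ` is a scalar multiple of a fixed matrix -/
theorem exists_fixed_smul_matrix {k l : Type*} (hι : ∀ a, σ a = a ↔ a ∈ Set.range ι₀) (r : ℕ)
    (hr : orderOf σ = r) (hr0 : 0 < r) (c : Matrix k l F) (hc0 : c ≠ 0) (z : F)
    (hz : c = z • c.map σ) :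
    ∃ (b : F) (c₀ : Matrix k l F₀), b ≠ 0 ∧ b • c = c₀.map ι₀ := by
  classical
  have hσr : σ ^ r = 1 := by
    rw [← hr]
    exact pow_orderOf_eq_one σ
  obtain ⟨i, j, hij⟩ : ∃ i j, c i j ≠ 0 := by
    by_contra hcon
    push Not at hcon
    apply hc0
    ext i j
    exact hcon i j
  have hz0 : z ≠ 0 := by
    intro h0
    rw [h0, zero_smul] at hz
    rw [hz] at hij
    exact hij rfl
  have hzN : nrm σ r z = 1 := by
    have h1 := eq_nrm_smul' σ c z hz r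
    rw [hσr] at h1
    have h2 := congrFun (congrFun h1 i) j
    simp only [Matrix.smul_apply, Matrix.map_apply, smul_eq_mul] at h2
    have h3 : (1 : F ≃+* F) (c i j) = c i j := rfl
    rw [h3] at h2
    have h4 : 1 * c i j = nrm σ r z * c i j := by rw [one_mul]; exact h2
    exact (mul_right_cancel₀ hij h4).symm
  have hzN' : nrm σ r z⁻¹ = 1 := by
    have h1 := nrm_mul σ r z z⁻¹
    rw [mul_inv_cancel₀ hz0, nrm_one, hzN, one_mul] at h1
    exact h1.symm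
  obtain ⟨b, hb0, hb⟩ := hilbert90_scalar σ r hr hr0 z⁻¹ hzN'
  have hfix : (b • c).map σ = b • c := by
    rw [map_smul_equiv]
    conv_rhs => rw [hz, smul_smul]
    congr 1
    have : σ b = z * b := by
      calc σ b = z * (z⁻¹ * σ b) := by field_simp
        _ = z * b := by rw [hb]
    rw [this, mul_comm]
  obtain ⟨c₀, hc₀⟩ := exists_map hι _ hfix
  exact ⟨b, c₀, hb0, hc₀⟩

end Fixed

section Cent
variable {F F₀ : Type*} [Field F] [Fintype F] [Field F₀] [Fintype F₀]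
variable {ι : Type} [Fintype ι] [DecidableEq ι]
variable {Q : QuadraticForm F (ι → F)} {Q₀ : QuadraticForm F₀ (ι → F₀)}
variable {ι₀ : F₀ →+* F} {σ : F ≃+* F}

/-- membership in the commuting subgroup of a standard field automorphism -/
theorem mem_commSub_std (hQ : (QuadraticMap.polarBilin Q).Nondegenerate)
    (hn : 7 ≤ Fintype.card ι) (hstd : Cfsg.IsSemisimilarityPair (⇑Q) (1 : GL ι F) σ)
    (c : ↥(GO (⇑Q))) :
    c ∈ commSub (Phi (⇑Q)) (PhiS 1 σ hstd) ↔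
      ∃ l : Fˣ, (c : GL ι F) = scalHom l * mapGL σ (c : GL ι F) := by
  rw [mem_commSub, ← PhiS_one_eq c (pair_of_GO c), PhiS_mul, PhiS_mul]
  have hp1 : Cfsg.IsSemisimilarityPair (⇑Q) (c : GL ι F) σ := by
    have := pair_mul (pair_of_GO c) hstd
    rw [map_one, mul_one, one_mul] at this
    exact this
  have hp2 : Cfsg.IsSemisimilarityPair (⇑Q) (mapGL σ (c : GL ι F)) σ := by
    have := pair_mul hstd (pair_of_GO c)
    rw [one_mul, mul_one] at this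
    exact this
  rw [PhiS_congr (g' := (c : GL ι F)) (σ' := σ) (by rw [map_one, mul_one]) (one_mul σ) _ hp1,
    PhiS_congr (g' := mapGL σ (c : GL ι F)) (σ' := σ) (one_mul _) (mul_one σ) _ hp2]
  exact PhiS_eq_iff hQ hn hp1 hp2

/-- an element commuting with the standard field automorphism comes from the fixed field -/
theorem exists_emb_of_commSub (hQ : (QuadraticMap.polarBilin Q).Nondegenerate)
    (hn : 7 ≤ Fintype.card ι) (hι : ∀ a, σ a = a ↔ a ∈ Set.range ι₀) (r : ℕ)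
    (hr : orderOf σ = r) (hr0 : 0 < r) (hcompat : ∀ v, Q (extV ι₀ v) = ι₀ (Q₀ v))
    (hstd : Cfsg.IsSemisimilarityPair (⇑Q) (1 : GL ι F) σ)
    (c : ↥(GO (⇑Q))) (hc : c ∈ commSub (Phi (⇑Q)) (PhiS 1 σ hstd)) :
    ∃ (b : Fˣ) (c₀ : ↥(GO (⇑Q₀))), scalGO Q b * c = embGO ι₀ hcompat c₀ := by
  classical
  rw [mem_commSub_std hQ hn] at hc
  obtain ⟨l, hl⟩ := hc
  have hl' : ((c : GL ι F) : Matrix ι ι F) = (l : F) • ((c : GL ι F) : Matrix ι ι F).map σ := by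
    have := congrArg (fun x : GL ι F => (x : Matrix ι ι F)) hl
    simp only [Units.val_mul, scalHom_coe, mapGL_coe] at this
    rw [Matrix.scalar_apply, ← Matrix.smul_eq_diagonal_mul] at this
    exact this
  have hcne : ((c : GL ι F) : Matrix ι ι F) ≠ 0 := by
    intro h0
    have h1 := (c : GL ι F).isUnit
    rw [h0] at h1
    have h2 := (Matrix.isUnit_iff_isUnit_det _).1 h1
    haveI : Nonempty ι := by
      apply Fintype.card_pos_iff.1
      omega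
    rw [Matrix.det_zero] at h2
    exact not_isUnit_zero h2
  obtain ⟨b, M₀, hb0, hM₀⟩ := exists_fixed_smul_matrix hι r hr hr0 _ hcne (l : F) hl'
  -- the multiplier
  obtain ⟨μ, hμ⟩ := c.2
  have hsim : ∀ v, Q ((M₀.map ι₀) *ᵥ v) = (b * b * (μ : F)) * Q v := by
    intro v
    rw [← hM₀, Matrix.smul_mulVec, QuadraticMap.map_smul, hμ, smul_eq_mul]
    ring
  have hQ0 : ∃ v, Q v ≠ 0 := exists_value_ne hQ (by omega)
  obtain ⟨v₀, hv₀⟩ : ∃ v₀, Q₀ v₀ ≠ 0 := by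
    by_contra hcon
    push Not at hcon
    obtain ⟨v, hv⟩ := hQ0
    apply hv
    have := base_change ι₀ Q 0 (by
      intro w
      rw [hcompat, hcon, map_zero]
      rfl) v
    exact this
  obtain ⟨ν₀, hν₀⟩ : ∃ ν₀ : F₀, ι₀ ν₀ = b * b * (μ : F) := by
    refine ⟨Q₀ (M₀ *ᵥ v₀) / Q₀ v₀, ?_⟩
    have h1 := hsim (extV ι₀ v₀)
    rw [extV_mulVec, hcompat, hcompat] at h1
    rw [map_div₀, h1]
    have : ι₀ (Q₀ v₀) ≠ 0 := (map_ne_zero_iff _ ι₀.injective).2 hv₀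
    field_simp
  have hν₀0 : ν₀ ≠ 0 := by
    intro h0
    rw [h0, map_zero] at hν₀
    exact mul_ne_zero (mul_ne_zero hb0 hb0) μ.ne_zero hν₀.symm
  have hsim₀ : ∀ v, Q₀ (M₀ *ᵥ v) = ν₀ * Q₀ v := by
    intro v
    apply ι₀.injective
    rw [map_mul, hν₀, ← hcompat, ← hcompat, ← extV_mulVec]
    exact hsim _
  have hM₀u : IsUnit M₀ := by
    rw [Matrix.isUnit_iff_isUnit_det]
    have h1 : IsUnit (M₀.map ι₀) := by
      rw [← hM₀]
      exact ((c : GL ι F).isUnit).smul (Units.mk0 b hb0)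
    rw [Matrix.isUnit_iff_isUnit_det] at h1
    have h2 : (M₀.map ι₀).det = ι₀ M₀.det := (RingHom.map_det ι₀ M₀).symm
    rw [h2] at h1
    rw [isUnit_iff_ne_zero] at h1 ⊢
    intro h0
    apply h1
    rw [h0, map_zero]
  obtain ⟨g₀, hg₀⟩ : ∃ g₀ : GL ι F₀, (g₀ : Matrix ι ι F₀) = M₀ := ⟨hM₀u.unit, rfl⟩
  have hg₀G : g₀ ∈ GO (⇑Q₀) := ⟨Units.mk0 ν₀ hν₀0, fun v => by rw [hg₀]; exact hsim₀ v⟩
  refine ⟨Units.mk0 b hb0, ⟨g₀, hg₀G⟩, ?_⟩
  apply Subtype.ext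
  apply Units.ext
  rw [embGO_coe, Subgroup.coe_mul, Units.val_mul, scalGO_coe, scalHom_coe, Units.val_mk0,
    Matrix.scalar_apply, ← Matrix.smul_eq_diagonal_mul]
  show b • ((c : GL ι F) : Matrix ι ι F) = (g₀ : Matrix ι ι F₀).map ι₀
  rw [hg₀, hM₀]

theorem embGO_mem_commSub (hQ : (QuadraticMap.polarBilin Q).Nondegenerate)
    (hn : 7 ≤ Fintype.card ι) (hι : ∀ a, σ a = a ↔ a ∈ Set.range ι₀)
    (hcompat : ∀ v, Q (extV ι₀ v) = ι₀ (Q₀ v))
    (hstd : Cfsg.IsSemisimilarityPair (⇑Q) (1 : GL ι F) σ) (g₀ : ↥(GO (⇑Q₀))) :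
    embGO ι₀ hcompat g₀ ∈ commSub (Phi (⇑Q)) (PhiS 1 σ hstd) := by
  rw [mem_commSub_std hQ hn]
  refine ⟨1, ?_⟩
  rw [map_one, one_mul]
  apply Units.ext
  rw [mapGL_coe, embGO_coe, map_iota hι]

/-- the centralizer of a standard field automorphism in the image of the similarity group -/
theorem centralizer_equiv_GO (hQ : (QuadraticMap.polarBilin Q).Nondegenerate)
    (hQ₀ : (QuadraticMap.polarBilin Q₀).Nondegenerate)
    (hn : 7 ≤ Fintype.card ι) (hι : ∀ a, σ a = a ↔ a ∈ Set.range ι₀) (r : ℕ)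
    (hr : orderOf σ = r) (hr0 : 0 < r) (hcompat : ∀ v, Q (extV ι₀ v) = ι₀ (Q₀ v))
    (hstd : Cfsg.IsSemisimilarityPair (⇑Q) (1 : GL ι F) σ) :
    Nonempty (↥(Cfsg.pgoAut F (⇑Q) ⊓ Subgroup.centralizer {PhiS 1 σ hstd})
      ≃* ↥(Cfsg.pgoAut F₀ (⇑Q₀))) := by
  classical
  have hmem : ∀ g₀ : ↥(GO (⇑Q₀)), Phi (⇑Q) (embGO ι₀ hcompat g₀) ∈
      Cfsg.pgoAut F (⇑Q) ⊓ Subgroup.centralizer {PhiS 1 σ hstd} := by
    intro g₀
    refine Subgroup.mem_inf.2 ⟨?_, ?_⟩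
    · rw [pgoAut_eq]
      exact ⟨_, rfl⟩
    · have := embGO_mem_commSub hQ hn hι hcompat hstd g₀
      exact this
  let φ : ↥(GO (⇑Q₀)) →* ↥(Cfsg.pgoAut F (⇑Q) ⊓ Subgroup.centralizer {PhiS 1 σ hstd}) :=
    MonoidHom.codRestrict ((Phi (⇑Q)).comp (embGO ι₀ hcompat)) _ hmem
  have hφ : ∀ g₀, (φ g₀ : MulAut (Cfsg.POmega F (⇑Q))) = Phi (⇑Q) (embGO ι₀ hcompat g₀) :=
    fun g₀ => rfl
  have hsurj : Function.Surjective φ := by
    rintro ⟨a, ha⟩
    obtain ⟨ha1, ha2⟩ := Subgroup.mem_inf.1 ha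
    rw [pgoAut_eq] at ha1
    obtain ⟨c, rfl⟩ := ha1
    have hc : c ∈ commSub (Phi (⇑Q)) (PhiS 1 σ hstd) := ha2
    obtain ⟨b, c₀, hbc⟩ := exists_emb_of_commSub hQ hn hι r hr hr0 hcompat hstd c hc
    refine ⟨c₀, ?_⟩
    apply Subtype.ext
    rw [hφ, ← hbc, map_mul]
    have : Phi (⇑Q) (scalGO Q b) = 1 := scal_le_ker ⟨b, rfl⟩
    rw [this, one_mul]
  have hker : φ.ker = (Phi (⇑Q₀)).ker := by
    ext g₀
    rw [MonoidHom.mem_ker, MonoidHom.mem_ker]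
    have h1 : φ g₀ = 1 ↔ embGO ι₀ hcompat g₀ ∈ (Phi (⇑Q)).ker := by
      rw [MonoidHom.mem_ker]
      constructor
      · intro h
        rw [← hφ, h]
        rfl
      · intro h
        apply Subtype.ext
        rw [hφ, h]
        rfl
    rw [h1, ker_eq hQ hn, ← MonoidHom.mem_ker, ker_eq hQ₀ hn]
    constructor
    · rintro ⟨l, hl⟩
      have hl' := congrArg (fun x : ↥(GO (⇑Q)) => ((x : GL ι F) : Matrix ι ι F)) hl
      simp only [scalGO_coe, scalHom_coe, embGO_coe] at hl'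
      haveI : Nonempty ι := by
        apply Fintype.card_pos_iff.1
        omega
      obtain ⟨i₀⟩ := ‹Nonempty ι›
      have h00 : ι₀ (((g₀ : GL ι F₀) : Matrix ι ι F₀) i₀ i₀) = (l : F) := by
        have := congrFun (congrFun hl' i₀) i₀
        simp only [Matrix.map_apply, Matrix.scalar_apply, Matrix.diagonal_apply_eq] at this
        exact this.symm
      have hc0 : ((g₀ : GL ι F₀) : Matrix ι ι F₀) i₀ i₀ ≠ 0 := by
        intro h0
        rw [h0, map_zero] at h00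
        exact l.ne_zero h00.symm
      refine ⟨Units.mk0 _ hc0, ?_⟩
      apply Subtype.ext
      apply Units.ext
      rw [scalGO_coe, scalHom_coe, Units.val_mk0]
      ext i j
      apply ι₀.injective
      have hij := congrFun (congrFun hl' i) j
      simp only [Matrix.map_apply] at hij
      rw [← hij, Matrix.scalar_apply, Matrix.scalar_apply]
      by_cases h : i = j
      · subst h
        rw [Matrix.diagonal_apply_eq, Matrix.diagonal_apply_eq, h00]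
      · rw [Matrix.diagonal_apply_ne _ h, Matrix.diagonal_apply_ne _ h, map_zero]
    · rintro ⟨t, rfl⟩
      exact ⟨Units.map (ι₀ : F₀ →* F) t, (embGO_scal ι₀ hcompat t).symm⟩
  have e1 : ↥(GO (⇑Q₀)) ⧸ φ.ker ≃* ↥(Cfsg.pgoAut F (⇑Q) ⊓
      Subgroup.centralizer {PhiS 1 σ hstd}) :=
    QuotientGroup.quotientKerEquivOfSurjective φ hsurj
  have e2 : ↥(GO (⇑Q₀)) ⧸ (Phi (⇑Q₀)).ker ≃* ↥(Phi (⇑Q₀)).range :=
    QuotientGroup.quotientKerEquivRange (Phi (⇑Q₀))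
  have e3 : ↥(Phi (⇑Q₀)).range ≃* ↥(Cfsg.pgoAut F₀ (⇑Q₀)) :=
    MulEquiv.subgroupCongr (pgoAut_eq (Q := ⇑Q₀)).symm
  exact ⟨(e1.symm.trans (QuotientGroup.quotientMulEquivOfEq hker)).trans (e2.trans e3)⟩

end Cent

end Cfsg.Agent.Lib.Helper5.OFld
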