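import Mathlib
import Cfsg.Agent.Lib.Helper5.OFld19

set_option autoImplicit false

/-! Base change of isometries to an extension field and the sign character. -/

namespace Cfsg.Agent.Lib.Helper5.OFld

open Matrix Cfsg.Agent.Lib.Helper5.PGO Cfsg.Agent.Lib.Helper5.PSLCoset
open Cfsg.Agent.Lib.Helper5.OAut Cfsg.Agent.Lib.Helper5.PSpField
open Cfsg.Agent.Lib.Helper2 Cfsg.Agent.Lib.Helper2.CDG Cfsg.Agent.Lib.Helper2.Spinor

section EmbO
variable {F F₀ : Type*} [Field F] [Field F₀] {ι : Type} [Fintype ι] [DecidableEq ι]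
variable {Q : QuadraticForm F (ι → F)} {Q₀ : QuadraticForm F₀ (ι → F₀)}

theorem map_mem_iso (ι₀ : F₀ →+* F) (hcompat : ∀ v, Q (extV ι₀ v) = ι₀ (Q₀ v))
    (g₀ : GL ι F₀) (hg₀ : g₀ ∈ Cfsg.isometryGroup F₀ (⇑Q₀)) :
    Matrix.GeneralLinearGroup.map ι₀ g₀ ∈ Cfsg.isometryGroup F (⇑Q) := by
  rw [mem_iso_iff] at hg₀ ⊢
  intro v
  have := base_change ι₀ (Q.comp (Matrix.toLin' ((g₀ : Matrix ι ι F₀).map ι₀))) Q (by
      intro v₀
      show Q (((g₀ : Matrix ι ι F₀).map ι₀) *ᵥ extV ι₀ v₀) = Q (extV ι₀ v₀)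
      rw [extV_mulVec, hcompat, hcompat, hg₀]) v
  exact this

/-- base change of isometries -/
noncomputable def embO (ι₀ : F₀ →+* F) (hcompat : ∀ v, Q (extV ι₀ v) = ι₀ (Q₀ v)) :
    ↥(Cfsg.isometryGroup F₀ (⇑Q₀)) →* ↥(Cfsg.isometryGroup F (⇑Q)) where
  toFun g₀ := ⟨Matrix.GeneralLinearGroup.map ι₀ (g₀ : GL ι F₀),
    map_mem_iso ι₀ hcompat (g₀ : GL ι F₀) g₀.2⟩
  map_one' := Subtype.ext (map_one _)
  map_mul' a b := Subtype.ext (map_mul _ _ _)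

theorem embO_coe (ι₀ : F₀ →+* F) (hcompat : ∀ v, Q (extV ι₀ v) = ι₀ (Q₀ v))
    (g₀ : ↥(Cfsg.isometryGroup F₀ (⇑Q₀))) :
    (((embO ι₀ hcompat g₀ : ↥(Cfsg.isometryGroup F (⇑Q))) : GL ι F) : Matrix ι ι F) =
      ((g₀ : GL ι F₀) : Matrix ι ι F₀).map ι₀ := rfl

theorem incl_embO (ι₀ : F₀ →+* F) (hcompat : ∀ v, Q (extV ι₀ v) = ι₀ (Q₀ v))
    (g₀ : ↥(Cfsg.isometryGroup F₀ (⇑Q₀))) :
    incl (⇑Q) (embO ι₀ hcompat g₀) = embGO ι₀ hcompat (incl (⇑Q₀) g₀) := rfl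

theorem det_embO (ι₀ : F₀ →+* F) (hcompat : ∀ v, Q (extV ι₀ v) = ι₀ (Q₀ v))
    (g₀ : ↥(Cfsg.isometryGroup F₀ (⇑Q₀))) :
    (((embO ι₀ hcompat g₀ : ↥(Cfsg.isometryGroup F (⇑Q))) : GL ι F) : Matrix ι ι F).det =
      ι₀ ((g₀ : GL ι F₀) : Matrix ι ι F₀).det := by
  rw [embO_coe]
  exact (RingHom.map_det ι₀ _).symm

theorem compat_polar (ι₀ : F₀ →+* F) (hcompat : ∀ v, Q (extV ι₀ v) = ι₀ (Q₀ v))
    (x y : ι → F₀) :
    QuadraticMap.polar (⇑Q) (extV ι₀ x) (extV ι₀ y) = ι₀ (QuadraticMap.polar (⇑Q₀) x y) :=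
  (descent_polar ι₀ Q Q₀ (fun v => (hcompat v).symm) x y).symm

/-- base change of a reflection is a reflection -/
theorem embO_refl (ι₀ : F₀ →+* F) (hcompat : ∀ v, Q (extV ι₀ v) = ι₀ (Q₀ v))
    (v₀ : ι → F₀) (hv₀ : Q₀ v₀ ≠ 0) (hv : Q (extV ι₀ v₀) ≠ 0) :
    embO ι₀ hcompat (refl Q₀ v₀ hv₀) = refl Q (extV ι₀ v₀) hv := by
  apply Subtype.ext
  apply Units.ext
  rw [embO_coe, refl_coe, refl_coe]
  apply Matrix.ext_of_mulVec_single
  intro i
  rw [← extV_single ι₀ i, extV_mulVec, ReflGen.reflectionMatrix_mulVec,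
    ReflGen.reflectionMatrix_mulVec, compat_polar ι₀ hcompat, hcompat]
  funext j
  simp only [extV_apply, Pi.sub_apply, Pi.smul_apply, smul_eq_mul, map_sub, map_mul, map_inv₀]

end EmbO

section Sign
variable {F F₀ : Type*} [Field F] [Fintype F] [DecidableEq F] [Field F₀] [Fintype F₀]
variable {ι : Type} [Fintype ι] [DecidableEq ι]
variable {Q : QuadraticForm F (ι → F)} {Q₀ : QuadraticForm F₀ (ι → F₀)}

theorem levSign_refl_square (h2 : (2 : F) ≠ 0) (w : ι → F) (hw0 : Q w ≠ 0)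
    (hw : IsSquare (Q w)) : levSign Q 1 (refl Q w hw0) = -1 := by
  rw [levSign_refl h2 one_ne_zero, if_pos]
  obtain ⟨s, hs⟩ := hw
  have hs0 : s ≠ 0 := by
    rintro rfl
    rw [mul_zero] at hs
    exact hw0 hs
  refine ⟨s⁻¹, ?_⟩
  rw [hs]
  field_simp

/-- if all elements of the small field are squares in the big one, special isometries over the
small field have trivial sign -/
theorem levSign_embO_of_squares (h2 : (2 : F) ≠ 0) (h2' : (2 : F₀) ≠ 0)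
    (hQ₀ : (QuadraticMap.polarBilin Q₀).Nondegenerate)
    (ι₀ : F₀ →+* F) (hcompat : ∀ v, Q (extV ι₀ v) = ι₀ (Q₀ v))
    (hsq : ∀ a : F₀, IsSquare (ι₀ a)) (g₀ : ↥(Cfsg.isometryGroup F₀ (⇑Q₀)))
    (hdet : ((g₀ : GL ι F₀) : Matrix ι ι F₀).det = 1) :
    levSign Q 1 (embO ι₀ hcompat g₀) = 1 := by
  have hgen := closure_R_eq_top h2' hQ₀
  have key : ∀ g₀ : ↥(Cfsg.isometryGroup F₀ (⇑Q₀)),
      (((g₀ : GL ι F₀) : Matrix ι ι F₀).det = 1 ∧ levSign Q 1 (embO ι₀ hcompat g₀) = 1) ∨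
      (((g₀ : GL ι F₀) : Matrix ι ι F₀).det = -1 ∧ levSign Q 1 (embO ι₀ hcompat g₀) = -1) := by
    intro g₀
    have hmem : g₀ ∈ Subgroup.closure (R Q₀) := by rw [hgen]; trivial
    induction hmem using Subgroup.closure_induction with
    | mem x hx =>
      right
      obtain ⟨v, hv, hxv⟩ := hx
      have hx' : x = refl Q₀ v hv := by
        apply Subtype.ext
        apply Units.ext
        rw [hxv, refl_coe]
      have hv' : Q (extV ι₀ v) ≠ 0 := by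
        rw [hcompat]
        exact (map_ne_zero_iff _ ι₀.injective).2 hv
      rw [hx', embO_refl ι₀ hcompat v hv hv', det_refl]
      refine ⟨rfl, levSign_refl_square h2 _ hv' ?_⟩
      rw [hcompat]
      exact hsq _
    | one =>
      left
      rw [map_one, map_one]
      exact ⟨by simp, rfl⟩
    | mul x y _ _ hx hy =>
      rw [map_mul, map_mul, Subgroup.coe_mul, Units.val_mul, Matrix.det_mul]
      rcases hx with ⟨h1, h1'⟩ | ⟨h1, h1'⟩ <;> rcases hy with ⟨h3, h3'⟩ | ⟨h3, h3'⟩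
      · left; rw [h1, h1', h3, h3']; exact ⟨by ring, rfl⟩
      · right; rw [h1, h1', h3, h3']; exact ⟨by ring, rfl⟩
      · right; rw [h1, h1', h3, h3']; exact ⟨by ring, rfl⟩
      · left; rw [h1, h1', h3, h3']; exact ⟨by ring, rfl⟩
    | inv x _ hx =>
      rw [map_inv, map_inv, Subgroup.coe_inv, Matrix.coe_units_inv, Matrix.det_nonsing_inv,
        Ring.inverse_eq_inv']
      rcases hx with ⟨h1, h1'⟩ | ⟨h1, h1'⟩
      · left; rw [h1, h1']; exact ⟨by simp, rfl⟩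
      · right; rw [h1, h1']; exact ⟨by norm_num, rfl⟩
  rcases key g₀ with ⟨-, h⟩ | ⟨h, -⟩
  · exact h
  · exfalso
    rw [hdet] at h
    apply h2'
    linear_combination h

end Sign

end Cfsg.Agent.Lib.Helper5.OFld
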