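import Mathlib
import Cfsg.Prelude.Def_LieTypeDatum
import Cfsg.Prelude.Def_KGroupFacts

set_option autoImplicit false

/-! Invariance of class-splitting counts and centralizers under conjugation by elements
normalizing the subgroups involved. -/

namespace Cfsg.Agent.Lib.Helper5.SplitConj

section
variable {X : Type*} [Group X]

theorem isConjUnder_conj (H : Subgroup X) [H.Normal] (α x y : X) :
    Cfsg.IsConjUnder H (α * x * α⁻¹) (α * y * α⁻¹) ↔ Cfsg.IsConjUnder H x y := by
  constructor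
  · rintro ⟨h, hh, he⟩
    refine ⟨α⁻¹ * h * α, ?_, ?_⟩
    · have := Subgroup.Normal.conj_mem (inferInstance : H.Normal) h hh α⁻¹
      rwa [inv_inv] at this
    · have h1 : y = α⁻¹ * (α * y * α⁻¹) * α := by group
      rw [h1, he]
      group
  · rintro ⟨h, hh, he⟩
    refine ⟨α * h * α⁻¹, Subgroup.Normal.conj_mem inferInstance h hh α, ?_⟩
    rw [he]
    group

/-- class-splitting counts are invariant under conjugation -/
theorem splitClassCount_conj (H K : Subgroup X) [H.Normal] [K.Normal] (α x : X) :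
    Cfsg.splitClassCount H K (α * x * α⁻¹) = Cfsg.splitClassCount H K x := by
  unfold Cfsg.splitClassCount
  symm
  apply Nat.card_congr
  let e : {y : X // Cfsg.IsConjUnder H x y} ≃ {y : X // Cfsg.IsConjUnder H (α * x * α⁻¹) y} :=
    { toFun := fun y => ⟨α * y.1 * α⁻¹, (isConjUnder_conj H α x y.1).2 y.2⟩
      invFun := fun y => ⟨α⁻¹ * y.1 * α, by
        have h1 := y.2
        have h2 : y.1 = α * (α⁻¹ * y.1 * α) * α⁻¹ := by group
        rw [h2] at h1
        exact (isConjUnder_conj H α x _).1 h1⟩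
      left_inv := fun y => by
        apply Subtype.ext
        show α⁻¹ * (α * y.1 * α⁻¹) * α = y.1
        group
      right_inv := fun y => by
        apply Subtype.ext
        show α * (α⁻¹ * y.1 * α) * α⁻¹ = y.1
        group }
  refine Quot.congr e ?_
  intro a b
  exact (isConjUnder_conj K α a.1 b.1).symm

/-- centralizers in a normal subgroup of conjugate elements are isomorphic -/
theorem centralizer_conj_equiv' (H : Subgroup X) [H.Normal] (η x₀ : X) :
    Nonempty (↥(H ⊓ Subgroup.centralizer {η * x₀ * η⁻¹}) ≃* ↥(H ⊓ Subgroup.centralizer {x₀})) := by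
  have hmem : ∀ (ζ y : X) (a : X), a ∈ H ⊓ Subgroup.centralizer {ζ * y * ζ⁻¹} →
      ζ⁻¹ * a * ζ ∈ H ⊓ Subgroup.centralizer {y} := by
    intro ζ y a ha
    obtain ⟨ha1, ha2⟩ := Subgroup.mem_inf.1 ha
    refine Subgroup.mem_inf.2 ⟨?_, ?_⟩
    · have := Subgroup.Normal.conj_mem (inferInstance : H.Normal) a ha1 ζ⁻¹
      rwa [inv_inv] at this
    · rw [Subgroup.mem_centralizer_iff] at ha2 ⊢
      intro z hz
      rw [Set.mem_singleton_iff] at hz
      subst hz
      have h1 := ha2 (ζ * z * ζ⁻¹) rfl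
      calc z * (ζ⁻¹ * a * ζ) = ζ⁻¹ * ((ζ * z * ζ⁻¹) * a) * ζ := by group
        _ = ζ⁻¹ * (a * (ζ * z * ζ⁻¹)) * ζ := by rw [h1]
        _ = ζ⁻¹ * a * ζ * z := by group
  refine ⟨{ toFun := fun a => ⟨η⁻¹ * a.1 * η, hmem η x₀ a.1 a.2⟩
            invFun := fun a => ⟨η * a.1 * η⁻¹, ?_⟩
            left_inv := ?_
            right_inv := ?_
            map_mul' := ?_ }⟩
  · have h1 : x₀ = η⁻¹ * (η * x₀ * η⁻¹) * η⁻¹⁻¹ := by group
    have h2 : a.1 ∈ H ⊓ Subgroup.centralizer {η⁻¹ * (η * x₀ * η⁻¹) * η⁻¹⁻¹} := by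
      rw [← h1]
      exact a.2
    have h3 := hmem η⁻¹ (η * x₀ * η⁻¹) a.1 h2
    rwa [inv_inv] at h3
  · intro a
    apply Subtype.ext
    show η * (η⁻¹ * a.1 * η) * η⁻¹ = a.1
    group
  · intro a
    apply Subtype.ext
    show η⁻¹ * (η * a.1 * η⁻¹) * η = a.1
    group
  · intro a b
    apply Subtype.ext
    show η⁻¹ * (a.1 * b.1) * η = (η⁻¹ * a.1 * η) * (η⁻¹ * b.1 * η)
    group

theorem inn_normal (G : Type*) [Group G] : (Cfsg.Inn G).Normal := by
  refine ⟨fun β hβ α => ?_⟩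
  obtain ⟨g, rfl⟩ := hβ
  refine ⟨α g, ?_⟩
  apply MulEquiv.ext
  intro y
  simp only [MulAut.mul_apply, MulAut.conj_apply, map_mul, map_inv]
  rw [MulAut.inv_apply, MulEquiv.apply_symm_apply]

end

end Cfsg.Agent.Lib.Helper5.SplitConj
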