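import Mathlib
import Cfsg.Agent.Lib.Helper5.OFld20
import Cfsg.Agent.Lib.Helper5.SplitConj

set_option autoImplicit false

/-! The number of `PΩ`-classes in the class of a field automorphism under the projective
similarity group, in odd dimension. -/

namespace Cfsg.Agent.Lib.Helper5.OFld

open Matrix Cfsg.Agent.Lib.Helper5.PGO Cfsg.Agent.Lib.Helper5.PSLCoset
open Cfsg.Agent.Lib.Helper5.OAut Cfsg.Agent.Lib.Helper5.PSpField
open Cfsg.Agent.Lib.Helper5.SplitConj
open Cfsg.Agent.Lib.Helper2 Cfsg.Agent.Lib.Helper2.CDG Cfsg.Agent.Lib.Helper2.Spinor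

section Squares
variable {F F₀ : Type*} [Field F] [Field F₀] {ι₀ : F₀ →+* F} {σ : F ≃+* F}

/-- nonsquares of the fixed field of an automorphism of odd order stay nonsquares -/
theorem not_isSquare_map_of_odd (h2 : (2 : F) ≠ 0) (hι : ∀ a, σ a = a ↔ a ∈ Set.range ι₀)
    (r : ℕ) (hσr : σ ^ r = 1) (hodd : Odd r) (d : F₀) (hd : ¬ IsSquare d) :
    ¬ IsSquare (ι₀ d) := by
  rintro ⟨t, ht⟩
  have hfix : σ (ι₀ d) = ι₀ d := (hι _).2 ⟨d, rfl⟩
  have h1 : σ t * σ t = t * t := by rw [← map_mul, ← ht, hfix]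
  have h3 : (σ t - t) * (σ t + t) = 0 := by linear_combination h1
  rcases mul_eq_zero.1 h3 with h | h
  · have h4 : σ t = t := by linear_combination h
    obtain ⟨t₀, rfl⟩ := (hι _).1 h4
    apply hd
    refine ⟨t₀, ι₀.injective ?_⟩
    rw [ht, map_mul]
  · have h4 : σ t = -t := by linear_combination h
    have h5 : ∀ k : ℕ, (σ ^ k : F ≃+* F) t = (-1) ^ k * t := by
      intro k
      induction k with
      | zero => simp
      | succ k ih =>
        rw [pow_succ', RingAut.mul_apply, ih, map_mul, map_pow, map_neg, map_one, h4]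
        ring
    have h6 := h5 r
    rw [hσr, hodd.neg_one_pow] at h6
    have h7 : (2 : F) * t = 0 := by
      have : (1 : F ≃+* F) t = t := rfl
      rw [this] at h6
      linear_combination h6
    have ht0 : t = 0 := by
      rcases mul_eq_zero.1 h7 with h8 | h8
      · exact absurd h8 h2
      · exact h8
    apply hd
    rw [ht0, mul_zero] at ht
    have : d = 0 := ι₀.injective (by rw [ht, map_zero])
    rw [this]
    exact ⟨0, by ring⟩

/-- elements of the subfield of index two are squares -/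
theorem isSquare_map_of_card_sq [Fintype F] [Fintype F₀] (h2 : (2 : F) ≠ 0)
    (hcard : Fintype.card F = Fintype.card F₀ ^ 2) (a : F₀) : IsSquare (ι₀ a) := by
  by_cases ha : a = 0
  · rw [ha, map_zero]
    exact ⟨0, by ring⟩
  have hchar : ringChar F ≠ 2 := by
    intro h
    apply h2
    have := ringChar.Nat.cast_ringChar (R := F)
    rw [h] at this
    exact_mod_cast this
  have ha' : ι₀ a ≠ 0 := (map_ne_zero_iff _ ι₀.injective).2 ha
  rw [FiniteField.isSquare_iff hchar ha', hcard]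
  have hodd : Odd (Fintype.card F₀) := by
    have h3 := FiniteField.odd_card_of_char_ne_two hchar
    rw [hcard] at h3
    exact Nat.Odd.of_mul_right (by rw [← sq]; exact Nat.odd_iff.2 h3)
  obtain ⟨k, hk⟩ := hodd
  have h4 : Fintype.card F₀ ^ 2 / 2 = (Fintype.card F₀ - 1) * (k + 1) := by
    rw [hk]
    have : (2 * k + 1) ^ 2 = 2 * ((2 * k + 1 - 1) * (k + 1)) + 1 := by
      rw [Nat.add_sub_cancel]
      ring
    rw [this]
    omega
  rw [h4, pow_mul, ← map_pow, FiniteField.pow_card_sub_one_eq_one a ha, map_one, one_pow]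

end Squares

section InnIff
variable {F : Type*} [Field F] [Fintype F] [DecidableEq F] {ι : Type} [Fintype ι] [DecidableEq ι]
variable {Q : QuadraticForm F (ι → F)}

/-- in odd dimension a special isometry induces an inner automorphism of `PΩ` iff its sign is
trivial -/
theorem Phi_incl_mem_inn_iff (h2 : (2 : F) ≠ 0)
    (hQ : (QuadraticMap.polarBilin Q).Nondegenerate) (hn : 7 ≤ Fintype.card ι)
    {k : ℕ} (hk : Fintype.card ι = 2 * k + 1) (s : ↥(Cfsg.isometryGroup F ⇑Q))
    (hdet : Matrix.GeneralLinearGroup.det (s : GL ι F) = 1) :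
    Phi (⇑Q) (incl (⇑Q) s) ∈ Cfsg.Inn (Cfsg.POmega F (⇑Q)) ↔ levSign Q 1 s = 1 := by
  have hn2 : 2 ≤ Fintype.card ι := by omega
  have hQ0 : ∃ v, Q v ≠ 0 := exists_value_ne hQ hn2
  constructor
  · intro h
    rw [inn_eq] at h
    obtain ⟨_, ⟨s', hs', rfl⟩, he⟩ := h
    have hs'c : s' ∈ commutator ↥(Cfsg.isometryGroup F ⇑Q) := hs'
    have hdet' := det_of_mem_comm h2 hQ hn2 s' hs'c
    have hd : incl (⇑Q) (s'⁻¹ * s) ∈ (Phi (⇑Q)).ker := by
      rw [MonoidHom.mem_ker, map_mul, map_mul, map_inv, map_inv, he, inv_mul_cancel]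
    rw [ker_eq hQ hn] at hd
    obtain ⟨c, hc⟩ := hd
    have hmu : mu (⇑Q) (incl (⇑Q) (s'⁻¹ * s)) = 1 := mu_of_iso hQ0 _ (s'⁻¹ * s).2
    rw [← hc, mu_scal hQ0] at hmu
    have hc2 : ((c : F) - 1) * ((c : F) + 1) = 0 := by
      have := congrArg Units.val hmu
      rw [Units.val_mul, Units.val_one] at this
      linear_combination this
    have hto : s'⁻¹ * s = 1 := by
      rcases mul_eq_zero.1 hc2 with h | h
      · have hc1 : c = 1 := Units.ext (by rw [Units.val_one]; linear_combination h)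
        apply Subtype.ext
        have := congrArg (fun x : ↥(GO (⇑Q)) => (x : GL ι F)) hc
        simp only [scalGO_coe, incl_coe] at this
        rw [← this, hc1, map_one]
        rfl
      · exfalso
        have hc1 : c = -1 :=
          Units.ext (by rw [Units.val_neg, Units.val_one]; linear_combination h)
        have h3 : s'⁻¹ * s = negOne Q := by
          apply Subtype.ext
          have := congrArg (fun x : ↥(GO (⇑Q)) => (x : GL ι F)) hc
          simp only [scalGO_coe, incl_coe] at this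
          rw [← this, hc1]
          have := congrArg (fun x : ↥(GO (⇑Q)) => (x : GL ι F)) (incl_negOne (Q := Q))
          simp only [scalGO_coe, incl_coe] at this
          exact this.symm
        have h4 : Matrix.GeneralLinearGroup.det
            ((s'⁻¹ * s : ↥(Cfsg.isometryGroup F ⇑Q)) : GL ι F) = 1 := by
          rw [Subgroup.coe_mul, Subgroup.coe_inv, map_mul, map_inv, hdet, hdet', inv_one, one_mul]
        rw [h3] at h4
        have h5 := congrArg Units.val h4
        rw [Matrix.GeneralLinearGroup.val_det_apply, det_negOne_odd hk, Units.val_one] at h5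
        apply h2
        linear_combination -h5
    have hss : s = s' := by
      have := congrArg (fun x => s' * x) hto
      simp only [mul_inv_cancel_left, mul_one] at this
      exact this
    rw [hss]
    exact (mem_comm_iff_of_det h2 hQ hn2 s' hdet').1 hs'c
  · intro h
    have hmem := (mem_comm_iff_of_det h2 hQ hn2 s hdet).2 h
    rw [inn_eq]
    exact ⟨incl (⇑Q) s, ⟨s, hmem, rfl⟩, rfl⟩

end InnIff

section Count
variable {F F₀ : Type*} [Field F] [Fintype F] [Field F₀] [Fintype F₀]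
variable {ι : Type} [Fintype ι] [DecidableEq ι]
variable {Q : QuadraticForm F (ι → F)} {Q₀ : QuadraticForm F₀ (ι → F₀)}
variable {ι₀ : F₀ →+* F} {σ : F ≃+* F}

/-- the number of classes as an index in the similarity group -/
theorem splitCount_GO_eq (x : MulAut (Cfsg.POmega F (⇑Q))) :
    Cfsg.splitClassCount (Cfsg.pgoAut F (⇑Q)) (Cfsg.Inn (Cfsg.POmega F (⇑Q))) x =
      ((Cfsg.Inn (Cfsg.POmega F (⇑Q))).comap (Phi (⇑Q)) ⊔ commSub (Phi (⇑Q)) x).index := by
  haveI : (Cfsg.Inn (Cfsg.POmega F (⇑Q))).Normal := inn_normal _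
  have h1 : Cfsg.Inn (Cfsg.POmega F (⇑Q)) =
      ((Cfsg.Inn (Cfsg.POmega F (⇑Q))).comap (Phi (⇑Q))).map (Phi (⇑Q)) := by
    rw [Subgroup.map_comap_eq, ← pgoAut_eq]
    exact (inf_eq_right.2 inn_le_pgo).symm
  rw [pgoAut_eq]
  conv_lhs => rw [h1]
  exact splitClassCount_eq (Phi (⇑Q)) _ x

/-- the class of a field automorphism of odd order does not split, that of one of order two
splits into two classes (odd dimension) -/
theorem splitCount_odd_dim (h2 : (2 : F) ≠ 0)
    (hQ : (QuadraticMap.polarBilin Q).Nondegenerate)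
    (hQ₀ : (QuadraticMap.polarBilin Q₀).Nondegenerate)
    (hn : 7 ≤ Fintype.card ι) {k : ℕ} (hk : Fintype.card ι = 2 * k + 1)
    (hι : ∀ a, σ a = a ↔ a ∈ Set.range ι₀) (r : ℕ)
    (hr : orderOf σ = r) (hr0 : 0 < r) (hcompat : ∀ v, Q (extV ι₀ v) = ι₀ (Q₀ v))
    (hstd : Cfsg.IsSemisimilarityPair (⇑Q) (1 : GL ι F) σ)
    (hsq : r = 2 → ∀ a : F₀, IsSquare (ι₀ a)) :
    (Odd r → Cfsg.splitClassCount (Cfsg.pgoAut F (⇑Q)) (Cfsg.Inn (Cfsg.POmega F (⇑Q)))
      (PhiS 1 σ hstd) = 1) ∧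
    (r = 2 → Cfsg.splitClassCount (Cfsg.pgoAut F (⇑Q)) (Cfsg.Inn (Cfsg.POmega F (⇑Q)))
      (PhiS 1 σ hstd) = 2) := by
  classical
  have hn2 : 2 ≤ Fintype.card ι := by omega
  have h2' : (2 : F₀) ≠ 0 := by
    intro h
    apply h2
    have := congrArg ι₀ h
    rwa [map_ofNat, map_zero] at this
  have hσr : σ ^ r = 1 := by
    rw [← hr]
    exact pow_orderOf_eq_one σ
  have hNidx : ((Cfsg.Inn (Cfsg.POmega F (⇑Q))).comap (Phi (⇑Q))).index = 2 := by
    rw [Subgroup.index_comap, ← pgoAut_eq, pgo_eq_pso_of_odd hQ hk]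
    exact relIndex_inn_pso_of_odd h2 hQ hn hk
  have hscal : ∀ b : Fˣ, Phi (⇑Q) (scalGO Q b) = 1 := fun b => scal_le_ker ⟨b, rfl⟩
  rw [splitCount_GO_eq]
  constructor
  · intro hodd
    -- an element of the commuting subgroup which is not inner
    obtain ⟨ν, hν⟩ := exists_nonsquare_unit (F := F₀) h2'
    obtain ⟨u, hu⟩ := exists_value hQ₀ hn2 1 one_ne_zero
    obtain ⟨w, hw⟩ := exists_value hQ₀ hn2 (ν : F₀) ν.ne_zero
    have hu0 : Q₀ u ≠ 0 := by rw [hu]; exact one_ne_zero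
    have hw0 : Q₀ w ≠ 0 := by rw [hw]; exact ν.ne_zero
    have hu0' : Q (extV ι₀ u) ≠ 0 := by
      rw [hcompat]; exact (map_ne_zero_iff _ ι₀.injective).2 hu0
    have hw0' : Q (extV ι₀ w) ≠ 0 := by
      rw [hcompat]; exact (map_ne_zero_iff _ ι₀.injective).2 hw0
    obtain ⟨g₀, hg₀⟩ : ∃ g₀ : ↥(Cfsg.isometryGroup F₀ (⇑Q₀)),
        g₀ = refl Q₀ u hu0 * refl Q₀ w hw0 := ⟨_, rfl⟩
    have hemb : embO ι₀ hcompat g₀ = refl Q (extV ι₀ u) hu0' * refl Q (extV ι₀ w) hw0' := by
      rw [hg₀, map_mul, embO_refl ι₀ hcompat u hu0 hu0', embO_refl ι₀ hcompat w hw0 hw0']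
    have hdet : Matrix.GeneralLinearGroup.det
        ((embO ι₀ hcompat g₀ : ↥(Cfsg.isometryGroup F (⇑Q))) : GL ι F) = 1 := by
      rw [hemb]
      exact det_refl_mul_refl _ _ hu0' hw0'
    have hlev : levSign Q 1 (embO ι₀ hcompat g₀) = -1 := by
      rw [hemb, map_mul, levSign_refl_one h2 _ (by rw [hcompat, hu, map_one]),
        levSign_refl_nonsquare h2 _ hw0' (by
          rw [hcompat, hw]
          exact not_isSquare_map_of_odd h2 hι r hσr hodd _ hν)]
      rfl
    have hnot : incl (⇑Q) (embO ι₀ hcompat g₀) ∉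
        (Cfsg.Inn (Cfsg.POmega F (⇑Q))).comap (Phi (⇑Q)) := by
      rw [Subgroup.mem_comap, Phi_incl_mem_inn_iff h2 hQ hn hk _ hdet, hlev]
      decide
    have hcomm : incl (⇑Q) (embO ι₀ hcompat g₀) ∈ commSub (Phi (⇑Q)) (PhiS 1 σ hstd) := by
      rw [incl_embO]
      exact embGO_mem_commSub hQ hn hι hcompat hstd _
    have hle : (Cfsg.Inn (Cfsg.POmega F (⇑Q))).comap (Phi (⇑Q)) ≤
        (Cfsg.Inn (Cfsg.POmega F (⇑Q))).comap (Phi (⇑Q)) ⊔
          commSub (Phi (⇑Q)) (PhiS 1 σ hstd) := le_sup_left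
    have hdvd := Subgroup.index_dvd_of_le hle
    rw [hNidx] at hdvd
    rcases (Nat.dvd_prime Nat.prime_two).1 hdvd with h | h
    · exact h
    · exfalso
      have h3 := Subgroup.relIndex_mul_index hle
      rw [h, hNidx] at h3
      have h4 : ((Cfsg.Inn (Cfsg.POmega F (⇑Q))).comap (Phi (⇑Q))).relIndex
          ((Cfsg.Inn (Cfsg.POmega F (⇑Q))).comap (Phi (⇑Q)) ⊔
            commSub (Phi (⇑Q)) (PhiS 1 σ hstd)) = 1 := by omega
      rw [Subgroup.relIndex_eq_one] at h4
      exact hnot (h4 (Subgroup.mem_sup_right hcomm))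
  · intro hr2
    have hle : commSub (Phi (⇑Q)) (PhiS 1 σ hstd) ≤
        (Cfsg.Inn (Cfsg.POmega F (⇑Q))).comap (Phi (⇑Q)) := by
      intro c hc
      obtain ⟨b, c₀, hbc⟩ := exists_emb_of_commSub hQ hn hι r hr hr0 hcompat hstd c hc
      obtain ⟨t, ht⟩ := exists_SO_of_odd hQ₀ hk c₀
      obtain ⟨s₀, hs₀⟩ : ∃ s₀ : ↥(Cfsg.isometryGroup F₀ (⇑Q₀)),
          incl (⇑Q₀) s₀ = scalGO Q₀ t * c₀ := ⟨⟨_, ht.1⟩, rfl⟩
      have hdet₀ : ((s₀ : GL ι F₀) : Matrix ι ι F₀).det = 1 := by
        have h3 : Matrix.GeneralLinearGroup.det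
            (((scalGO Q₀ t * c₀ : ↥(GO (⇑Q₀))) : GL ι F₀)) = 1 := ht.2
        have h4 := congrArg Units.val h3
        rw [Matrix.GeneralLinearGroup.val_det_apply, Units.val_one, ← hs₀] at h4
        exact h4
      have hdet : Matrix.GeneralLinearGroup.det
          ((embO ι₀ hcompat s₀ : ↥(Cfsg.isometryGroup F (⇑Q))) : GL ι F) = 1 := by
        apply Units.ext
        rw [Matrix.GeneralLinearGroup.val_det_apply, det_embO, hdet₀, map_one, Units.val_one]
      have hPhi : Phi (⇑Q) c = Phi (⇑Q) (incl (⇑Q) (embO ι₀ hcompat s₀)) := by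
        rw [incl_embO, hs₀, map_mul, embGO_scal, map_mul, hscal, one_mul, ← hbc, map_mul, hscal,
          one_mul]
      rw [Subgroup.mem_comap, hPhi, Phi_incl_mem_inn_iff h2 hQ hn hk _ hdet]
      exact levSign_embO_of_squares h2 h2' hQ₀ ι₀ hcompat (hsq hr2) s₀ hdet₀
    rw [sup_eq_left.2 hle, hNidx]

end Count

end Cfsg.Agent.Lib.Helper5.OFld
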