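import Mathlib
import Cfsg.Agent.Lib.Helper5.OFld21
import Cfsg.Agent.Lib.Helper5.PSLCoset17

set_option autoImplicit false

/-! Field automorphisms of prime order of the odd dimensional orthogonal groups. -/

namespace Cfsg.Agent.Lib.Helper5.OFld

open Matrix Cfsg.Agent.Lib.Helper5.PGO Cfsg.Agent.Lib.Helper5.PSLCoset
open Cfsg.Agent.Lib.Helper5.OAut Cfsg.Agent.Lib.Helper5.PSpField
open Cfsg.Agent.Lib.Helper5.SplitConj
open Cfsg.Agent.Lib.Helper2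

section
variable {F : Type*} [Field F] [Fintype F]

theorem odd_field_main {p f : ℕ} [Fact p.Prime] (hF : Fintype.card F = p ^ f) (hf : 1 ≤ f)
    (hp : p ≠ 2) {m : ℕ} (hm : 3 ≤ m)
    (x : MulAut (Cfsg.POmega F (⇑(OrthCard.QOd m F))))
    (hx : Cfsg.IsFieldAutClassPOmega (⇑(OrthCard.QOd m F)) x) {r : ℕ} (hr : r.Prime)
    (hxr : orderOf x = r) (F₀ : Type*) [Field F₀] [Fintype F₀]
    (hF₀ : Fintype.card F₀ = p ^ (f / r)) :
    r ∣ f ∧
    Nonempty (↥(Cfsg.pgoAut F (⇑(OrthCard.QOd m F)) ⊓ Subgroup.centralizer {x}) ≃*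
      ↥(Cfsg.pgoAut F₀ (⇑(OrthCard.QOd m F₀)))) ∧
    (Odd r → Cfsg.splitClassCount (Cfsg.pgoAut F (⇑(OrthCard.QOd m F)))
      (Cfsg.Inn (Cfsg.POmega F (⇑(OrthCard.QOd m F)))) x = 1) ∧
    (r = 2 → Cfsg.splitClassCount (Cfsg.pgoAut F (⇑(OrthCard.QOd m F)))
      (Cfsg.Inn (Cfsg.POmega F (⇑(OrthCard.QOd m F)))) x = 2) := by
  classical
  haveI := PSL2Aut.charP_of_card hf hF
  have h2 := two_ne_zero_of_odd hf hF hp
  have hcoe := OrthCard.QOd_coe (F := F) m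
  have hQ := OrthCard.QOd_nondeg (F := F) h2 m
  have hn : 7 ≤ Fintype.card (Unit ⊕ (Fin m ⊕ Fin m)) := by rw [card_odd_index]; omega
  have hinv : GalInv (⇑(OrthCard.QOd m F)) := by rw [hcoe]; exact galInv_odd m
  have hLag := lag_odd h2 hm
  obtain ⟨α, σ, hσr, -, hx₀⟩ := field_stdform p hQ hn hLag hinv hx hxr
  haveI := pgoAut_normal p hQ hn hLag
  haveI : (Cfsg.Inn (Cfsg.POmega F (⇑(OrthCard.QOd m F)))).Normal := inn_normal _
  have hx₁ : x = α⁻¹ * PhiS 1 σ (pair_std hinv σ) * α⁻¹⁻¹ := by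
    rw [← stdField_apply hinv σ, ← hx₀]
    group
  obtain ⟨hdvd, -⟩ := card_fixed hF σ r hσr hr.pos
  obtain ⟨ι₀, hι⟩ := exists_embedding_fixed hF σ r hσr hr.pos F₀ hF₀
  have h2' : (2 : F₀) ≠ 0 := by
    intro h
    apply h2
    have := congrArg ι₀ h
    rwa [map_ofNat, map_zero] at this
  have hQ₀ := OrthCard.QOd_nondeg (F := F₀) h2' m
  have hcompat := QOd_extV ι₀ m
  refine ⟨hdvd, ?_, ?_⟩
  · obtain ⟨e₁⟩ := centralizer_conj_equiv' (Cfsg.pgoAut F (⇑(OrthCard.QOd m F))) α⁻¹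
      (PhiS 1 σ (pair_std hinv σ))
    obtain ⟨e₂⟩ := centralizer_equiv_GO hQ hQ₀ hn hι r hσr hr.pos hcompat (pair_std hinv σ)
    rw [hx₁]
    exact ⟨e₁.trans e₂⟩
  · rw [hx₁, splitClassCount_conj]
    apply splitCount_odd_dim h2 hQ hQ₀ hn (card_odd_index m) hι r hσr hr.pos hcompat
    intro hr2
    apply isSquare_map_of_card_sq h2
    rw [hF, hF₀, hr2, ← pow_mul]
    congr 1
    rw [hr2] at hdvd
    exact (Nat.div_mul_cancel hdvd).symm

end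

end Cfsg.Agent.Lib.Helper5.OFld
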