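import Mathlib
import Cfsg.Agent.Lib.Helper5.OFld22
import Cfsg.Agent.Lib.Helper2.CentOmega5

set_option autoImplicit false

/-! The subgroup of `PΩ(Q)` coming from the form over a subfield, and restriction of
semi-similarity pairs. -/

namespace Cfsg.Agent.Lib.Helper5.OFld

open Matrix Cfsg.Agent.Lib.Helper5.PGO Cfsg.Agent.Lib.Helper5.PSLCoset
open Cfsg.Agent.Lib.Helper5.OAut Cfsg.Agent.Lib.Helper5.PSpField
open Cfsg.Agent.Lib.Helper2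

section EmbOm
variable {F F₀ : Type*} [Field F] [Field F₀] {ι : Type} [Fintype ι] [DecidableEq ι]
variable {Q : QuadraticForm F (ι → F)} {Q₀ : QuadraticForm F₀ (ι → F₀)}

theorem embO_mem_Omega (ι₀ : F₀ →+* F) (hcompat : ∀ v, Q (extV ι₀ v) = ι₀ (Q₀ v))
    (s₀ : ↥(Cfsg.isometryGroup F₀ (⇑Q₀))) (hs₀ : s₀ ∈ Cfsg.Omega F₀ (⇑Q₀)) :
    embO ι₀ hcompat s₀ ∈ Cfsg.Omega F (⇑Q) := by
  have h1 : (commutator ↥(Cfsg.isometryGroup F₀ (⇑Q₀))).map (embO ι₀ hcompat) ≤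
      commutator ↥(Cfsg.isometryGroup F (⇑Q)) := by
    rw [commutator_def, commutator_def, Subgroup.map_commutator]
    exact Subgroup.commutator_mono le_top le_top
  exact h1 ⟨s₀, hs₀, rfl⟩

/-- base change on `Ω` -/
noncomputable def embOm (ι₀ : F₀ →+* F) (hcompat : ∀ v, Q (extV ι₀ v) = ι₀ (Q₀ v)) :
    ↥(Cfsg.Omega F₀ (⇑Q₀)) →* ↥(Cfsg.Omega F (⇑Q)) where
  toFun s₀ := ⟨embO ι₀ hcompat s₀.1, embO_mem_Omega ι₀ hcompat s₀.1 s₀.2⟩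
  map_one' := Subtype.ext (map_one _)
  map_mul' a b := Subtype.ext (map_mul _ _ _)

theorem embOm_coe (ι₀ : F₀ →+* F) (hcompat : ∀ v, Q (extV ι₀ v) = ι₀ (Q₀ v))
    (s₀ : ↥(Cfsg.Omega F₀ (⇑Q₀))) :
    ((embOm ι₀ hcompat s₀ : ↥(Cfsg.Omega F (⇑Q))) : ↥(Cfsg.isometryGroup F (⇑Q))) =
      embO ι₀ hcompat s₀.1 := rfl

theorem embO_injective (ι₀ : F₀ →+* F) (hcompat : ∀ v, Q (extV ι₀ v) = ι₀ (Q₀ v)) :
    Function.Injective (embO (Q := Q) (Q₀ := Q₀) ι₀ hcompat) := by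
  intro a b hab
  apply Subtype.ext
  apply Units.ext
  have h1 := congrArg (fun x : ↥(Cfsg.isometryGroup F (⇑Q)) => ((x : GL ι F) : Matrix ι ι F)) hab
  simp only [embO_coe] at h1
  ext i j
  apply ι₀.injective
  have := congrFun (congrFun h1 i) j
  simpa using this

theorem embOm_injective (ι₀ : F₀ →+* F) (hcompat : ∀ v, Q (extV ι₀ v) = ι₀ (Q₀ v)) :
    Function.Injective (embOm (Q := Q) (Q₀ := Q₀) ι₀ hcompat) := by
  intro a b hab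
  apply Subtype.ext
  apply embO_injective ι₀ hcompat
  have := congrArg (fun x : ↥(Cfsg.Omega F (⇑Q)) => (x : ↥(Cfsg.isometryGroup F (⇑Q)))) hab
  exact this

end EmbOm

section Psi
variable {F F₀ : Type*} [Field F] [Fintype F] [Field F₀] [Fintype F₀]
variable {ι : Type} [Fintype ι] [DecidableEq ι]
variable {Q : QuadraticForm F (ι → F)} {Q₀ : QuadraticForm F₀ (ι → F₀)}

/-- a scalar isometry in `Ω` is central -/
theorem central_of_scalar (z : ↥(Cfsg.Omega F (⇑Q))) (t : F)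
    (hz : ∀ v, (((z : ↥(Cfsg.isometryGroup F ⇑Q)) : GL ι F) : Matrix ι ι F) *ᵥ v = t • v) :
    z ∈ Subgroup.center ↥(Cfsg.Omega F (⇑Q)) := by
  rw [Subgroup.mem_center_iff]
  intro s
  apply Subtype.ext
  apply CDG.iso_ext
  intro v
  have e1 : ((s * z : ↥(Cfsg.Omega F (⇑Q))) : ↥(Cfsg.isometryGroup F ⇑Q)) =
      (s : ↥(Cfsg.isometryGroup F ⇑Q)) * (z : ↥(Cfsg.isometryGroup F ⇑Q)) := rfl
  have e2 : ((z * s : ↥(Cfsg.Omega F (⇑Q))) : ↥(Cfsg.isometryGroup F ⇑Q)) =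
      (z : ↥(Cfsg.isometryGroup F ⇑Q)) * (s : ↥(Cfsg.isometryGroup F ⇑Q)) := rfl
  rw [e1, e2, CDG.mul_mulVec, CDG.mul_mulVec, hz, hz, Matrix.mulVec_smul]

theorem embOm_center (hQ₀ : (QuadraticMap.polarBilin Q₀).Nondegenerate)
    (hn : 6 ≤ Fintype.card ι) (ι₀ : F₀ →+* F) (hcompat : ∀ v, Q (extV ι₀ v) = ι₀ (Q₀ v)) :
    Subgroup.center ↥(Cfsg.Omega F₀ (⇑Q₀)) ≤
      (Subgroup.center ↥(Cfsg.Omega F (⇑Q))).comap (embOm ι₀ hcompat) := by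
  intro z hz
  rw [Subgroup.mem_comap]
  obtain ⟨t, -, ht⟩ := CentO.center_scalar hQ₀ hn z hz
  apply central_of_scalar _ (ι₀ t)
  -- the matrix is scalar
  have hM : (((z : ↥(Cfsg.isometryGroup F₀ ⇑Q₀)) : GL ι F₀) : Matrix ι ι F₀) = t • 1 := by
    apply Matrix.ext_of_mulVec_single
    intro i
    rw [ht, Matrix.smul_mulVec, Matrix.one_mulVec]
  intro v
  rw [embOm_coe, embO_coe, hM]
  have : (t • (1 : Matrix ι ι F₀)).map ι₀ = ι₀ t • (1 : Matrix ι ι F) := by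
    ext i j
    by_cases h : i = j
    · subst h
      simp
    · simp [h]
  rw [this, Matrix.smul_mulVec, Matrix.one_mulVec]

/-- the map `PΩ(Q₀) → PΩ(Q)` -/
noncomputable def psiP (hQ₀ : (QuadraticMap.polarBilin Q₀).Nondegenerate)
    (hn : 6 ≤ Fintype.card ι) (ι₀ : F₀ →+* F) (hcompat : ∀ v, Q (extV ι₀ v) = ι₀ (Q₀ v)) :
    Cfsg.POmega F₀ (⇑Q₀) →* Cfsg.POmega F (⇑Q) :=
  QuotientGroup.map _ _ (embOm ι₀ hcompat) (embOm_center hQ₀ hn ι₀ hcompat)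

theorem psiP_mk (hQ₀ : (QuadraticMap.polarBilin Q₀).Nondegenerate)
    (hn : 6 ≤ Fintype.card ι) (ι₀ : F₀ →+* F) (hcompat : ∀ v, Q (extV ι₀ v) = ι₀ (Q₀ v))
    (s₀ : ↥(Cfsg.Omega F₀ (⇑Q₀))) :
    psiP hQ₀ hn ι₀ hcompat (QuotientGroup.mk s₀) = QuotientGroup.mk (embOm ι₀ hcompat s₀) := rfl

theorem psiP_injective (hQ₀ : (QuadraticMap.polarBilin Q₀).Nondegenerate)
    (hn : 6 ≤ Fintype.card ι) (ι₀ : F₀ →+* F) (hcompat : ∀ v, Q (extV ι₀ v) = ι₀ (Q₀ v)) :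
    Function.Injective (psiP (Q := Q) hQ₀ hn ι₀ hcompat) := by
  rw [injective_iff_map_eq_one]
  intro y hy
  obtain ⟨s₀, rfl⟩ := QuotientGroup.mk_surjective y
  rw [psiP_mk, QuotientGroup.eq_one_iff] at hy
  rw [QuotientGroup.eq_one_iff, Subgroup.mem_center_iff]
  intro t₀
  apply embOm_injective ι₀ hcompat
  rw [map_mul, map_mul]
  exact (Subgroup.mem_center_iff.1 hy) _

end Psi

section Restrict
variable {F F₀ : Type*} [Field F] [Fintype F] [Field F₀] [Fintype F₀]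
variable {ι : Type} [Fintype ι] [DecidableEq ι]
variable {Q : QuadraticForm F (ι → F)} {Q₀ : QuadraticForm F₀ (ι → F₀)}
variable {ι₀ : F₀ →+* F} {τ : F ≃+* F} {τ₀ : F₀ ≃+* F₀}

theorem mapGL_emb (hτ : ∀ a, τ (ι₀ a) = ι₀ (τ₀ a)) (g₀ : GL ι F₀) :
    mapGL τ (Matrix.GeneralLinearGroup.map ι₀ g₀) =
      Matrix.GeneralLinearGroup.map ι₀ (mapGL τ₀ g₀) := by
  apply Units.ext
  ext i j
  exact hτ _

theorem sv_extV (hτ : ∀ a, τ (ι₀ a) = ι₀ (τ₀ a)) (v : ι → F₀) :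
    (fun i => τ (extV ι₀ v i)) = extV ι₀ (fun i => τ₀ (v i)) := by
  funext i
  exact hτ _

/-- a pair over the big field whose matrix comes from the small field restricts -/
theorem pair_restrict (hQ₀0 : ∃ v, Q₀ v ≠ 0) (hcompat : ∀ v, Q (extV ι₀ v) = ι₀ (Q₀ v))
    (hτ : ∀ a, τ (ι₀ a) = ι₀ (τ₀ a)) (g₀ : GL ι F₀)
    (h : Cfsg.IsSemisimilarityPair (⇑Q) (Matrix.GeneralLinearGroup.map ι₀ g₀) τ) :
    Cfsg.IsSemisimilarityPair (⇑Q₀) g₀ τ₀ := by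
  obtain ⟨c, hc⟩ := h
  have hc' : ∀ v : ι → F₀, ι₀ (Q₀ ((g₀ : Matrix ι ι F₀) *ᵥ (fun i => τ₀ (v i)))) =
      (c : F) * ι₀ (τ₀ (Q₀ v)) := by
    intro v
    have := hc (extV ι₀ v)
    rw [sv_extV hτ, hcompat, hτ] at this
    rw [← this, ← hcompat, ← extV_mulVec]
    rfl
  obtain ⟨v₀, hv₀⟩ := hQ₀0
  have hne : τ₀ (Q₀ v₀) ≠ 0 := (map_ne_zero_iff _ τ₀.injective).2 hv₀
  have hne' : ι₀ (τ₀ (Q₀ v₀)) ≠ 0 := (map_ne_zero_iff _ ι₀.injective).2 hne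
  obtain ⟨c₀, hc₀⟩ : ∃ c₀ : F₀, ι₀ c₀ = (c : F) := by
    refine ⟨Q₀ ((g₀ : Matrix ι ι F₀) *ᵥ (fun i => τ₀ (v₀ i))) / τ₀ (Q₀ v₀), ?_⟩
    rw [map_div₀, hc' v₀]
    field_simp
  have hc₀0 : c₀ ≠ 0 := by
    intro h0
    rw [h0, map_zero] at hc₀
    exact c.ne_zero hc₀.symm
  refine ⟨Units.mk0 c₀ hc₀0, fun v => ?_⟩
  apply ι₀.injective
  rw [hc' v, Units.val_mk0, map_mul, hc₀]

/-- the automorphism of a pair coming from the small field restricts to the small group -/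
theorem PhiS_psiP (hQ₀ : (QuadraticMap.polarBilin Q₀).Nondegenerate)
    (hn : 6 ≤ Fintype.card ι) (hcompat : ∀ v, Q (extV ι₀ v) = ι₀ (Q₀ v))
    (hτ : ∀ a, τ (ι₀ a) = ι₀ (τ₀ a)) (g₀ : GL ι F₀)
    (h : Cfsg.IsSemisimilarityPair (⇑Q) (Matrix.GeneralLinearGroup.map ι₀ g₀) τ)
    (h₀ : Cfsg.IsSemisimilarityPair (⇑Q₀) g₀ τ₀) (y : Cfsg.POmega F₀ (⇑Q₀)) :
    PhiS (Matrix.GeneralLinearGroup.map ι₀ g₀) τ h (psiP hQ₀ hn ι₀ hcompat y) =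
      psiP hQ₀ hn ι₀ hcompat (PhiS g₀ τ₀ h₀ y) := by
  obtain ⟨s₀, rfl⟩ := QuotientGroup.mk_surjective y
  rw [psiP_mk, PhiS_mk, PhiS_mk, psiP_mk]
  congr 1
  apply Subtype.ext
  apply Subtype.ext
  rw [PhiS_mk_coe, embOm_coe]
  show _ = Matrix.GeneralLinearGroup.map ι₀ _
  rw [PhiS_mk_coe, map_mul, map_mul, map_inv, ← mapGL_emb hτ]
  rfl

end Restrict

end Cfsg.Agent.Lib.Helper5.OFld
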