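import Mathlib

set_option autoImplicit false

/-! An automorphism of a finite field fixing the fixed field of `σ` is a power of `σ`. -/

namespace Cfsg.Agent.Lib.Helper5.PSpBal

section
variable {F : Type*} [Field F] [Finite F]

theorem finite_ringAut : Finite (F ≃+* F) :=
  Finite.of_injective (fun σ : F ≃+* F => (σ : F → F)) DFunLike.coe_injective

theorem mem_zpowers_of_fixes (σ τ : F ≃+* F) (h : ∀ a, σ a = a → τ a = a) :
    τ ∈ Subgroup.zpowers σ := by
  haveI := finite_ringAut (F := F)
  let G := ↥(Subgroup.zpowers σ)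
  have hbij := FixedPoints.toAlgHom_bijective G F
  have hfix : ∀ a : ↥(FixedPoints.subfield G F), τ (a : F) = a := by
    intro a
    apply h
    have := a.2 ⟨σ, Subgroup.mem_zpowers σ⟩
    exact this
  let f : F →ₐ[↥(FixedPoints.subfield G F)] F :=
    { (τ : F →+* F) with
      commutes' := fun a => hfix a }
  obtain ⟨g, hg⟩ := hbij.2 f
  have e : (g : F ≃+* F) = τ := by
    ext x
    have := DFunLike.congr_fun hg x
    exact this
  rw [← e]
  exact g.2

end

end Cfsg.Agent.Lib.Helper5.PSpBal
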