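import Mathlib
import Cfsg.Agent.Lib.Helper5.OFld23
import Cfsg.Agent.Lib.Helper5.PSpBal5

set_option autoImplicit false

/-! Automorphisms of `PΩ(Q)` commuting with a standard field automorphism and fixing the
subgroup coming from the fixed field. -/

namespace Cfsg.Agent.Lib.Helper5.OFld

open Matrix Cfsg.Agent.Lib.Helper5.PGO Cfsg.Agent.Lib.Helper5.PSLCoset
open Cfsg.Agent.Lib.Helper5.OAut Cfsg.Agent.Lib.Helper5.PSpField
open Cfsg.Agent.Lib.Helper2

section
variable {F F₀ : Type*} [Field F] [Fintype F] [Field F₀] [Fintype F₀]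
variable {ι₀ : F₀ →+* F} {σ τ : F ≃+* F}

/-- an automorphism commuting with `σ` restricts to the fixed field -/
theorem exists_restrict (hι : ∀ a, σ a = a ↔ a ∈ Set.range ι₀) (hτσ : τ * σ = σ * τ) :
    ∃ τ₀ : F₀ ≃+* F₀, ∀ a, τ (ι₀ a) = ι₀ (τ₀ a) := by
  have h1 : ∀ a : F₀, ∃ b : F₀, ι₀ b = τ (ι₀ a) := by
    intro a
    apply (hι _).1
    have h2 : σ (ι₀ a) = ι₀ a := (hι _).2 ⟨a, rfl⟩
    have h3 := congrArg (fun θ : F ≃+* F => θ (ι₀ a)) hτσ
    simp only [RingAut.mul_apply] at h3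
    rw [h2] at h3
    exact h3.symm
  choose f hf using h1
  let f' : F₀ →+* F₀ :=
    { toFun := f
      map_one' := ι₀.injective (by rw [hf, map_one, map_one])
      map_mul' := fun a b => ι₀.injective (by rw [hf, map_mul, map_mul, map_mul, hf, hf])
      map_zero' := ι₀.injective (by rw [hf, map_zero, map_zero])
      map_add' := fun a b => ι₀.injective (by rw [hf, map_add, map_add, map_add, hf, hf]) }
  have hinj : Function.Injective f' := f'.injective
  refine ⟨RingEquiv.ofBijective f' ⟨hinj, Finite.surjective_of_injective hinj⟩, fun a => ?_⟩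
  exact (hf a).symm

end

section Key
variable {F F₀ : Type*} [Field F] [Fintype F] [Field F₀] [Fintype F₀]
variable {ι : Type} [Fintype ι] [DecidableEq ι]
variable {Q : QuadraticForm F (ι → F)} {Q₀ : QuadraticForm F₀ (ι → F₀)}
variable {ι₀ : F₀ →+* F} {σ τ : F ≃+* F}

/-- an automorphism commuting with the standard field automorphism of `σ` and fixing the
subgroup over the fixed field is a field automorphism over the fixed field -/
theorem fix_P0_imp (p : ℕ) [Fact p.Prime] [CharP F₀ p]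
    (hQ : (QuadraticMap.polarBilin Q).Nondegenerate)
    (hQ₀ : (QuadraticMap.polarBilin Q₀).Nondegenerate) (hn : 7 ≤ Fintype.card ι)
    (hι : ∀ a, σ a = a ↔ a ∈ Set.range ι₀) (r : ℕ) (hr : orderOf σ = r) (hr0 : 0 < r)
    (hcompat : ∀ v, Q (extV ι₀ v) = ι₀ (Q₀ v))
    (hstd : Cfsg.IsSemisimilarityPair (⇑Q) (1 : GL ι F) σ) (g : GL ι F)
    (hg : Cfsg.IsSemisimilarityPair (⇑Q) g τ)
    (hcomm : PhiS g τ hg * PhiS 1 σ hstd = PhiS 1 σ hstd * PhiS g τ hg)
    (hτσ : τ * σ = σ * τ)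
    (hfix : ∀ y, PhiS g τ hg (psiP hQ₀ (by omega) ι₀ hcompat y) =
      psiP hQ₀ (by omega) ι₀ hcompat y) :
    (∀ a, σ a = a → τ a = a) ∧ ∃ l : Fˣ, g = scalHom l := by
  classical
  have hn6 : 6 ≤ Fintype.card ι := by omega
  -- the matrix is projectively fixed by `σ`
  rw [PhiS_mul, PhiS_mul] at hcomm
  have hp1 : Cfsg.IsSemisimilarityPair (⇑Q) g (τ * σ) := by
    have := pair_mul hg hstd
    rw [map_one, mul_one] at this
    exact this
  have hp2 : Cfsg.IsSemisimilarityPair (⇑Q) (mapGL σ g) (τ * σ) := by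
    have := pair_mul hstd hg
    rw [one_mul, ← hτσ] at this
    exact this
  rw [PhiS_congr (g' := g) (σ' := τ * σ) (by rw [map_one, mul_one]) rfl _ hp1,
    PhiS_congr (g' := mapGL σ g) (σ' := τ * σ) (one_mul _) hτσ.symm _ hp2,
    PhiS_eq_iff hQ hn] at hcomm
  obtain ⟨l, hl⟩ := hcomm
  have hl' : (g : Matrix ι ι F) = (l : F) • (g : Matrix ι ι F).map σ := by
    have := congrArg (fun x : GL ι F => (x : Matrix ι ι F)) hl
    simp only [Units.val_mul, scalHom_coe, mapGL_coe] at this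
    rw [Matrix.scalar_apply, ← Matrix.smul_eq_diagonal_mul] at this
    exact this
  have hgne : (g : Matrix ι ι F) ≠ 0 := by
    intro h0
    have h1 := g.isUnit
    rw [h0] at h1
    have h2 := (Matrix.isUnit_iff_isUnit_det _).1 h1
    haveI : Nonempty ι := by
      apply Fintype.card_pos_iff.1
      omega
    rw [Matrix.det_zero] at h2
    exact not_isUnit_zero h2
  obtain ⟨b, M₀, hb0, hM₀⟩ := exists_fixed_smul_matrix hι r hr hr0 _ hgne (l : F) hl'
  have hM₀u : IsUnit M₀ := by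
    rw [Matrix.isUnit_iff_isUnit_det]
    have h1 : IsUnit (M₀.map ι₀) := by
      rw [← hM₀]
      exact (g.isUnit).smul (Units.mk0 b hb0)
    rw [Matrix.isUnit_iff_isUnit_det] at h1
    have h2 : (M₀.map ι₀).det = ι₀ M₀.det := (RingHom.map_det ι₀ M₀).symm
    rw [h2] at h1
    rw [isUnit_iff_ne_zero] at h1 ⊢
    intro h0
    apply h1
    rw [h0, map_zero]
  obtain ⟨g₀, hg₀⟩ : ∃ g₀ : GL ι F₀, (g₀ : Matrix ι ι F₀) = M₀ := ⟨hM₀u.unit, rfl⟩
  have hgg₀ : Matrix.GeneralLinearGroup.map ι₀ g₀ = scalHom (Units.mk0 b hb0) * g := by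
    apply Units.ext
    rw [Units.val_mul, scalHom_coe, Units.val_mk0, Matrix.scalar_apply,
      ← Matrix.smul_eq_diagonal_mul, hM₀, ← hg₀]
    rfl
  -- the pair with the rational matrix
  have hpair' : Cfsg.IsSemisimilarityPair (⇑Q) (Matrix.GeneralLinearGroup.map ι₀ g₀) τ := by
    rw [hgg₀]
    have := pair_mul (pair_of_GO (scalGO Q (Units.mk0 b hb0))) hg
    rw [mapGL_one, one_mul] at this
    exact this
  have hPhi : PhiS (Matrix.GeneralLinearGroup.map ι₀ g₀) τ hpair' = PhiS g τ hg := by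
    have hpair'' : Cfsg.IsSemisimilarityPair (⇑Q) (scalHom (Units.mk0 b hb0) * g) τ := by
      rw [← hgg₀]; exact hpair'
    rw [← PhiS_scal (Units.mk0 b hb0) hg hpair'']
    exact PhiS_congr hgg₀ rfl _ _
  obtain ⟨τ₀, hτ₀⟩ := exists_restrict hι hτσ
  have hQ0 : ∃ v, Q v ≠ 0 := exists_value_ne hQ (by omega)
  have hQ₀0 : ∃ v₀, Q₀ v₀ ≠ 0 := by
    by_contra hcon
    push Not at hcon
    obtain ⟨v, hv⟩ := hQ0
    apply hv
    have := base_change ι₀ Q 0 (by
      intro w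
      rw [hcompat, hcon, map_zero]
      rfl) v
    exact this
  have h₀ := pair_restrict hQ₀0 hcompat hτ₀ g₀ hpair'
  have hone : PhiS g₀ τ₀ h₀ = 1 := by
    apply MulEquiv.ext
    intro y
    apply psiP_injective hQ₀ hn6 ι₀ hcompat
    rw [← PhiS_psiP hQ₀ hn6 hcompat hτ₀ g₀ hpair' h₀, hPhi, hfix]
    rfl
  have hτ₀1 : τ₀ = 1 := sigma_eq_one_of_PhiS p hQ₀ hn h₀ hone
  refine ⟨?_, ?_⟩
  · intro a ha
    obtain ⟨a₀, rfl⟩ := (hι a).1 ha
    rw [hτ₀, hτ₀1]
    rfl
  · subst hτ₀1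
    rw [PhiS_one_eq ⟨g₀, GO_of_pair h₀⟩ h₀] at hone
    have h3 : (⟨g₀, GO_of_pair h₀⟩ : ↥(GO (⇑Q₀))) ∈ (Phi (⇑Q₀)).ker := hone
    rw [ker_eq hQ₀ hn] at h3
    obtain ⟨l₀, hl₀⟩ := h3
    have h4 : scalHom l₀ = g₀ := by
      have := congrArg (fun x : ↥(GO (⇑Q₀)) => (x : GL ι F₀)) hl₀
      simpa using this
    refine ⟨(Units.mk0 b hb0)⁻¹ * Units.map (ι₀ : F₀ →* F) l₀, ?_⟩
    have h5 : Matrix.GeneralLinearGroup.map ι₀ (scalHom l₀ : GL ι F₀) =
        scalHom (Units.map (ι₀ : F₀ →* F) l₀) := by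
      apply Units.ext
      ext i j
      show ι₀ ((scalHom l₀ : GL ι F₀) i j) = (scalHom (Units.map (ι₀ : F₀ →* F) l₀) : GL ι F) i j
      rw [scalHom_coe, scalHom_coe, Matrix.scalar_apply, Matrix.scalar_apply]
      by_cases h : i = j
      · subst h
        rw [Matrix.diagonal_apply_eq, Matrix.diagonal_apply_eq]
        rfl
      · rw [Matrix.diagonal_apply_ne _ h, Matrix.diagonal_apply_ne _ h, map_zero]
    rw [map_mul, map_inv, ← h5, h4, hgg₀]
    group

end Key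

end Cfsg.Agent.Lib.Helper5.OFld
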