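import Mathlib
import Cfsg.Agent.Lib.Helper5.OFld24

set_option autoImplicit false

/-! Even order of `PΩ(Q)` in odd characteristic, and squares of isometries. -/

namespace Cfsg.Agent.Lib.Helper5.OFld

open Matrix Cfsg.Agent.Lib.Helper5.PGO Cfsg.Agent.Lib.Helper5.PSLCoset
open Cfsg.Agent.Lib.Helper5.OAut Cfsg.Agent.Lib.Helper5.PSpField
open Cfsg.Agent.Lib.Helper2 Cfsg.Agent.Lib.Helper2.CDG Cfsg.Agent.Lib.Helper2.Spinor
open Cfsg.Agent.Lib.Helper2.LongRoot

section Invol
variable {F : Type*} [Field F] [Fintype F] {ι : Type} [Fintype ι] [DecidableEq ι]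
variable {Q : QuadraticForm F (ι → F)}

/-- reflections in orthogonal vectors commute -/
theorem refl_comm_of_perp (u w : ι → F) (hu : Q u ≠ 0) (hw : Q w ≠ 0)
    (huw : QuadraticMap.polar (⇑Q) u w = 0) :
    refl Q u hu * refl Q w hw = refl Q w hw * refl Q u hu := by
  have hwu : QuadraticMap.polar (⇑Q) w u = 0 := by rw [QuadraticMap.polar_comm]; exact huw
  apply iso_ext
  intro x
  simp only [mul_mulVec, refl_mulVec, QuadraticMap.polar_sub_right,
    QuadraticMap.polar_smul_right, huw, hwu, smul_eq_mul, mul_zero, sub_zero]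
  abel

/-- `PΩ(Q)` has even order in odd characteristic -/
theorem two_dvd_card_POmega (h2 : (2 : F) ≠ 0)
    (hQ : (QuadraticMap.polarBilin Q).Nondegenerate) (hn : 7 ≤ Fintype.card ι) :
    2 ∣ Nat.card (Cfsg.POmega F (⇑Q)) := by
  classical
  obtain ⟨e, f, hH⟩ := exists_hyp hQ 2 (by omega)
  have hcomm := QuadraticMap.polar_comm (⇑Q)
  have hu1 : Q (e 0 + f 0) = 1 := by
    rw [QuadraticMap.map_add Q, hH.qe, hH.qf, hH.ef, if_pos rfl]; ring
  have hw1 : Q (e 1 + f 1) = 1 := by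
    rw [QuadraticMap.map_add Q, hH.qe, hH.qf, hH.ef, if_pos rfl]; ring
  have hu0 : Q (e 0 + f 0) ≠ 0 := by rw [hu1]; exact one_ne_zero
  have hw0 : Q (e 1 + f 1) ≠ 0 := by rw [hw1]; exact one_ne_zero
  have h01 : (0 : Fin 2) ≠ 1 := by decide
  have huw : QuadraticMap.polar (⇑Q) (e 0 + f 0) (e 1 + f 1) = 0 := by
    rw [QuadraticMap.polar_add_left, QuadraticMap.polar_add_right, QuadraticMap.polar_add_right,
      hH.ee, hH.ef, if_neg h01, hcomm (f 0) (e 1), hH.ef, if_neg (Ne.symm h01), hH.ff]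
    ring
  have hmem := CentO.refl_mul_refl_mem hQ (by omega) _ _ hu0 hw0 (hu1.trans hw1.symm)
  obtain ⟨t, ht⟩ : ∃ t : ↥(Cfsg.Omega F (⇑Q)),
      (t : ↥(Cfsg.isometryGroup F (⇑Q))) = refl Q _ hu0 * refl Q _ hw0 := ⟨⟨_, hmem⟩, rfl⟩
  have htt : t * t = 1 := by
    apply Subtype.ext
    show (t : ↥(Cfsg.isometryGroup F (⇑Q))) * (t : ↥(Cfsg.isometryGroup F (⇑Q))) = 1
    rw [ht]
    calc refl Q _ hu0 * refl Q _ hw0 * (refl Q _ hu0 * refl Q _ hw0)
        = refl Q _ hu0 * (refl Q _ hw0 * refl Q _ hu0) * refl Q _ hw0 := by group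
      _ = refl Q _ hu0 * (refl Q _ hu0 * refl Q _ hw0) * refl Q _ hw0 := by
          rw [refl_comm_of_perp _ _ hu0 hw0 huw]
      _ = (refl Q _ hu0 * refl Q _ hu0) * (refl Q _ hw0 * refl Q _ hw0) := by group
      _ = 1 := by rw [refl_mul_self, refl_mul_self, one_mul]
  have hne : (QuotientGroup.mk t : Cfsg.POmega F (⇑Q)) ≠ 1 := by
    intro h1
    rw [QuotientGroup.eq_one_iff] at h1
    obtain ⟨c, -, hc⟩ := CentO.center_scalar hQ (by omega) t h1
    -- the vector `u` is negated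
    have hcu := hc (e 0 + f 0)
    rw [ht, mul_mulVec, refl_mulVec Q (e 1 + f 1), hcomm (e 1 + f 1), huw, mul_zero, zero_smul,
      sub_zero, refl_mulVec, ReflGen.polar_self, hu1] at hcu
    -- the vector `z` is fixed
    have hz1 : QuadraticMap.polar (⇑Q) (e 0 + f 0) (e 0 - f 0) = 0 := by
      rw [QuadraticMap.polar_add_left, QuadraticMap.polar_sub_right, QuadraticMap.polar_sub_right,
        hH.ee, hH.ef, if_pos rfl, hcomm (f 0) (e 0), hH.ef, if_pos rfl, hH.ff]
      ring
    have hz2 : QuadraticMap.polar (⇑Q) (e 1 + f 1) (e 0 - f 0) = 0 := by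
      rw [QuadraticMap.polar_add_left, QuadraticMap.polar_sub_right, QuadraticMap.polar_sub_right,
        hH.ee, hH.ef, if_neg (Ne.symm h01), hcomm (f 1) (e 0), hH.ef, if_neg h01, hH.ff]
      ring
    have hcz := hc (e 0 - f 0)
    rw [ht, mul_mulVec, refl_mulVec Q (e 1 + f 1), hz2, mul_zero, zero_smul, sub_zero,
      refl_mulVec, hz1, mul_zero, zero_smul, sub_zero] at hcz
    have hz0 : e 0 - f 0 ≠ 0 := by
      intro h0
      have := hz1
      have h3 : Q (e 0 - f 0) = -1 := by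
        rw [sub_eq_add_neg, QuadraticMap.map_add Q, QuadraticMap.map_neg, hH.qe, hH.qf,
          QuadraticMap.polar_neg_right, hH.ef, if_pos rfl]
        ring
      rw [h0, QuadraticMap.map_zero] at h3
      exact one_ne_zero (α := F) (by linear_combination h3)
    have hc1 : c = 1 := by
      have h3 : (c - 1) • (e 0 - f 0) = 0 := by
        rw [sub_smul, one_smul, ← hcz, sub_self]
      rcases smul_eq_zero.1 h3 with h | h
      · linear_combination h
      · exact absurd h hz0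
    have hune : e 0 + f 0 ≠ 0 := by
      intro h0
      rw [h0, QuadraticMap.map_zero] at hu1
      exact zero_ne_one hu1
    rw [hc1, one_smul] at hcu
    have h4 : (2 : F) • (e 0 + f 0) = 0 := by
      have h5 : (1 : F)⁻¹ * (2 * 1) = 2 := by norm_num
      rw [h5] at hcu
      have : (e 0 + f 0) - (2 : F) • (e 0 + f 0) - (e 0 + f 0) = 0 := by rw [hcu, sub_self]
      have h6 : (2 : F) • (e 0 + f 0) = -((e 0 + f 0) - (2 : F) • (e 0 + f 0) - (e 0 + f 0)) := by
        module
      rw [h6, this, neg_zero]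
    rcases smul_eq_zero.1 h4 with h | h
    · exact h2 h
    · exact hune h
  have hord : orderOf (QuotientGroup.mk t : Cfsg.POmega F (⇑Q)) = 2 := by
    apply orderOf_eq_prime
    · rw [sq, ← QuotientGroup.mk_mul, htt, QuotientGroup.mk_one]
    · exact hne
  rw [← hord]
  exact orderOf_dvd_natCard _

/-- squares of isometries lie in `Ω` (odd characteristic) -/
theorem sq_mem_Omega (h2 : (2 : F) ≠ 0) (hQ : (QuadraticMap.polarBilin Q).Nondegenerate)
    (hn : 2 ≤ Fintype.card ι) (s : ↥(Cfsg.isometryGroup F (⇑Q))) :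
    s * s ∈ Cfsg.Omega F (⇑Q) := by
  classical
  show s * s ∈ commutator ↥(Cfsg.isometryGroup F (⇑Q))
  rw [mem_commutator_iff h2 hQ hn, map_mul]
  have hdet : ((s : GL ι F) : Matrix ι ι F).det ^ 2 = 1 := by
    rw [det_sq hQ (s : GL ι F) 1 (fun v => by rw [iso_Q, one_mul]), one_pow]
  have h3 : Spinor.Phi Q s = ((Spinor.Phi Q s).1, (Spinor.Phi Q s).2) := rfl
  rw [h3, Prod.mk_mul_mk, Prod.mk_eq_one]
  constructor
  · apply Units.ext
    rw [Units.val_mul, Units.val_one]
    show (Matrix.GeneralLinearGroup.det (s : GL ι F) : F) *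
      (Matrix.GeneralLinearGroup.det (s : GL ι F) : F) = 1
    rw [Matrix.GeneralLinearGroup.val_det_apply, ← sq]
    exact hdet
  · exact Int.units_mul_self _

end Invol

end Cfsg.Agent.Lib.Helper5.OFld
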