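import Mathlib
import Cfsg.Agent.Lib.Helper5.SplitConj
import Cfsg.Agent.Lib.Helper6.PPrimeCore

set_option autoImplicit false

/-! Group-theoretic preliminaries on the `p'`-core of the centralizer of an automorphism in an
almost simple group. -/

namespace Cfsg.Agent.Lib.Helper5.PSpBal

open Cfsg.Agent.Lib.Helper5.SplitConj

section general
variable {K : Type*} [Group K]

theorem mul_conj_eq (x : MulAut K) (k : K) : x * MulAut.conj k = MulAut.conj (x k) * x := by
  apply MulEquiv.ext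
  intro y
  simp only [MulAut.mul_apply, MulAut.conj_apply, map_mul, map_inv]

theorem conj_mem_centralizer_iff (hc : Function.Injective (MulAut.conj : K →* MulAut K))
    (x : MulAut K) (k : K) :
    MulAut.conj k ∈ Subgroup.centralizer ({x} : Set (MulAut K)) ↔ x k = k := by
  rw [Subgroup.mem_centralizer_iff]
  constructor
  · intro h
    have h1 := h x rfl
    rw [mul_conj_eq] at h1
    exact hc (mul_right_cancel h1)
  · rintro h y rfl
    rw [mul_conj_eq, h]

/-- the data of a nontrivial normal `p'`-subgroup of the centralizer of `x` in `A` -/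
def HasCore (p : ℕ) (A : Subgroup (MulAut K)) (x : MulAut K) (N : Subgroup (MulAut K)) : Prop :=
  N ≠ ⊥ ∧ N ≤ A ⊓ Subgroup.centralizer ({x} : Set (MulAut K)) ∧
    (∀ h ∈ A ⊓ Subgroup.centralizer ({x} : Set (MulAut K)), ∀ n ∈ N, h * n * h⁻¹ ∈ N) ∧
    (Nat.card N).Coprime p

theorem exists_hasCore [Finite K] (p : ℕ) (A : Subgroup (MulAut K)) (x : MulAut K)
    (h : Cfsg.pPrimeCore p ↥(A ⊓ Subgroup.centralizer ({x} : Set (MulAut K))) ≠ ⊥) :
    ∃ N, HasCore p A x N := by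
  set H := A ⊓ Subgroup.centralizer ({x} : Set (MulAut K)) with hH
  obtain ⟨hn, hcop⟩ := Cfsg.Agent.Lib.Helper6.pPrimeCore_mem_set (G := ↥H) p
  refine ⟨(Cfsg.pPrimeCore p ↥H).map H.subtype, ?_, ?_, ?_, ?_⟩
  · intro h0
    apply h
    exact (Subgroup.map_eq_bot_iff_of_injective _ H.subtype_injective).1 h0
  · rintro _ ⟨n, -, rfl⟩
    exact n.2
  · rintro g hg _ ⟨n, hn', rfl⟩
    exact ⟨⟨g, hg⟩ * n * (⟨g, hg⟩ : ↥H)⁻¹, hn.conj_mem n hn' ⟨g, hg⟩, rfl⟩
  · rw [Nat.card_congr (Subgroup.equivMapOfInjective _ _ H.subtype_injective).symm.toEquiv]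
    exact hcop

theorem core_ne_bot_of_hasCore (p : ℕ) (A : Subgroup (MulAut K)) (x : MulAut K)
    {N : Subgroup (MulAut K)} (h : HasCore p A x N) :
    Cfsg.pPrimeCore p ↥(A ⊓ Subgroup.centralizer ({x} : Set (MulAut K))) ≠ ⊥ := by
  obtain ⟨hnb, hle, hnorm, hcop⟩ := h
  set H := A ⊓ Subgroup.centralizer ({x} : Set (MulAut K)) with hH
  have hM : (N.subgroupOf H).Normal := by
    refine ⟨fun n hn g => ?_⟩
    rw [Subgroup.mem_subgroupOf] at hn ⊢
    exact hnorm g.1 g.2 n.1 hn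
  have hcard : (Nat.card (N.subgroupOf H)).Coprime p := by
    rw [Nat.card_congr (Subgroup.subgroupOfEquivOfLe hle).toEquiv]
    exact hcop
  intro h0
  have h1 := Cfsg.Agent.Lib.Helper6.le_pPrimeCore hM hcard
  rw [h0, le_bot_iff, Subgroup.subgroupOf_eq_bot] at h1
  apply hnb
  rw [← inf_eq_left.2 hle]
  exact disjoint_iff.1 h1

/-- conjugating the data -/
theorem HasCore.conj {p : ℕ} {A : Subgroup (MulAut K)} {x : MulAut K} {N : Subgroup (MulAut K)}
    (h : HasCore p A x N) (α : MulAut K) :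
    HasCore p (A.map (MulAut.conj α).toMonoidHom) (α * x * α⁻¹)
      (N.map (MulAut.conj α).toMonoidHom) := by
  obtain ⟨hnb, hle, hnorm, hcop⟩ := h
  have hinj : Function.Injective (MulAut.conj α).toMonoidHom := (MulAut.conj α).injective
  have hcen : ∀ y : MulAut K, y ∈ Subgroup.centralizer ({x} : Set (MulAut K)) →
      α * y * α⁻¹ ∈ Subgroup.centralizer ({α * x * α⁻¹} : Set (MulAut K)) := by
    intro y hy
    rw [Subgroup.mem_centralizer_iff] at hy ⊢
    rintro _ rfl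
    have := hy x rfl
    calc α * x * α⁻¹ * (α * y * α⁻¹) = α * (x * y) * α⁻¹ := by group
      _ = α * (y * x) * α⁻¹ := by rw [this]
      _ = α * y * α⁻¹ * (α * x * α⁻¹) := by group
  have hcen' : ∀ y : MulAut K, y ∈ Subgroup.centralizer ({α * x * α⁻¹} : Set (MulAut K)) →
      α⁻¹ * y * α ∈ Subgroup.centralizer ({x} : Set (MulAut K)) := by
    intro y hy
    rw [Subgroup.mem_centralizer_iff] at hy ⊢
    intro z hz
    have hz' : z = x := hz
    rw [hz']
    have := hy _ rfl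
    calc x * (α⁻¹ * y * α) = α⁻¹ * (α * x * α⁻¹ * y) * α := by group
      _ = α⁻¹ * (y * (α * x * α⁻¹)) * α := by rw [this]
      _ = α⁻¹ * y * α * x := by group
  refine ⟨?_, ?_, ?_, ?_⟩
  · intro h0
    exact hnb ((Subgroup.map_eq_bot_iff_of_injective _ hinj).1 h0)
  · rintro _ ⟨n, hn, rfl⟩
    obtain ⟨h1, h2⟩ := hle hn
    exact ⟨⟨n, h1, rfl⟩, hcen n h2⟩
  · rintro g ⟨⟨a, ha, rfl⟩, hg2⟩ _ ⟨n, hn, rfl⟩
    have hg2' := hcen' _ hg2
    have e : α⁻¹ * (MulAut.conj α).toMonoidHom a * α = a := by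
      show α⁻¹ * (α * a * α⁻¹) * α = a
      group
    rw [e] at hg2'
    refine ⟨a * n * a⁻¹, hnorm a ⟨ha, hg2'⟩ n hn, ?_⟩
    show α * (a * n * a⁻¹) * α⁻¹ = α * a * α⁻¹ * (α * n * α⁻¹) * (α * a * α⁻¹)⁻¹
    group
  · rw [Nat.card_congr (Subgroup.equivMapOfInjective _ _ hinj).symm.toEquiv]
    exact hcop

theorem inn_le_map_conj {A : Subgroup (MulAut K)} (hinn : ∀ k : K, MulAut.conj k ∈ A)
    (α : MulAut K) (k : K) : MulAut.conj k ∈ A.map (MulAut.conj α).toMonoidHom := by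
  refine ⟨MulAut.conj (α⁻¹ k), hinn _, ?_⟩
  show α * MulAut.conj (α⁻¹ k) * α⁻¹ = MulAut.conj k
  rw [mul_conj_eq, mul_assoc, mul_inv_cancel, mul_one]
  congr 1
  show α (α⁻¹ k) = k
  rw [MulAut.inv_apply, MulEquiv.apply_symm_apply]

/-- the fixed points give a normal subgroup of the centralizer -/
theorem hasCore_of_fix (hc : Function.Injective (MulAut.conj : K →* MulAut K)) (p : ℕ)
    (A : Subgroup (MulAut K)) (hinn : ∀ k : K, MulAut.conj k ∈ A) (x : MulAut K)
    (hne : ∃ k : K, k ≠ 1 ∧ x k = k)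
    (hcop : (Nat.card ↥(MonoidHom.eqLocus x.toMonoidHom (MonoidHom.id K))).Coprime p) :
    HasCore p A x ((MonoidHom.eqLocus x.toMonoidHom (MonoidHom.id K)).map
      (MulAut.conj : K →* MulAut K)) := by
  refine ⟨?_, ?_, ?_, ?_⟩
  · intro h0
    obtain ⟨k, hk1, hk⟩ := hne
    have h1 : MulAut.conj k ∈ (MonoidHom.eqLocus x.toMonoidHom (MonoidHom.id K)).map
        (MulAut.conj : K →* MulAut K) := ⟨k, hk, rfl⟩
    rw [h0, Subgroup.mem_bot] at h1
    apply hk1
    apply hc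
    rw [h1, map_one]
  · rintro _ ⟨k, hk, rfl⟩
    exact ⟨hinn k, (conj_mem_centralizer_iff hc x k).2 hk⟩
  · rintro g ⟨-, hg⟩ _ ⟨k, hk, rfl⟩
    refine ⟨g k, ?_, ?_⟩
    · show x (g k) = g k
      have h1 : x * g = g * x := by
        have hg' : g ∈ Subgroup.centralizer ({x} : Set (MulAut K)) := hg
        rw [Subgroup.mem_centralizer_iff] at hg'
        exact hg' x rfl
      have h2 := congrArg (fun θ : MulAut K => θ k) h1
      simp only [MulAut.mul_apply] at h2
      have hk' : x k = k := hk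
      rw [hk'] at h2
      exact h2
    · rw [mul_conj_eq, mul_assoc, mul_inv_cancel, mul_one]
  · rw [Nat.card_congr (Subgroup.equivMapOfInjective _ _ hc).symm.toEquiv]
    exact hcop

end general

end Cfsg.Agent.Lib.Helper5.PSpBal
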