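import Mathlib
import Cfsg.Agent.Lib.Helper5.OFld25
import Cfsg.Agent.Lib.Helper5.PSpBal1

set_option autoImplicit false

/-! The fixed points of a standard field automorphism on `PΩ(Q)` and the subgroup coming from
the fixed field. -/

namespace Cfsg.Agent.Lib.Helper5.OFld

open Matrix Cfsg.Agent.Lib.Helper5.PGO Cfsg.Agent.Lib.Helper5.PSLCoset
open Cfsg.Agent.Lib.Helper5.OAut Cfsg.Agent.Lib.Helper5.PSpField
open Cfsg.Agent.Lib.Helper5.PSpBal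
open Cfsg.Agent.Lib.Helper2 Cfsg.Agent.Lib.Helper2.CDG

section Fix
variable {F F₀ : Type*} [Field F] [Fintype F] [Field F₀] [Fintype F₀]
variable {ι : Type} [Fintype ι] [DecidableEq ι]
variable {Q : QuadraticForm F (ι → F)} {Q₀ : QuadraticForm F₀ (ι → F₀)}
variable {ι₀ : F₀ →+* F} {σ : F ≃+* F}

/-- the standard field automorphism fixes the subgroup over the fixed field -/
theorem std_fix_psiP (hQ₀ : (QuadraticMap.polarBilin Q₀).Nondegenerate)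
    (hn : 6 ≤ Fintype.card ι) (hι : ∀ a, σ a = a ↔ a ∈ Set.range ι₀)
    (hcompat : ∀ v, Q (extV ι₀ v) = ι₀ (Q₀ v))
    (hstd : Cfsg.IsSemisimilarityPair (⇑Q) (1 : GL ι F) σ) (y : Cfsg.POmega F₀ (⇑Q₀)) :
    PhiS 1 σ hstd (psiP hQ₀ hn ι₀ hcompat y) = psiP hQ₀ hn ι₀ hcompat y := by
  have hτ : ∀ a, σ (ι₀ a) = ι₀ ((1 : F₀ ≃+* F₀) a) := fun a => (hι _).2 ⟨a, rfl⟩
  have h' : Cfsg.IsSemisimilarityPair (⇑Q)
      (Matrix.GeneralLinearGroup.map ι₀ (1 : GL ι F₀)) σ := by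
    rw [map_one]; exact hstd
  rw [PhiS_congr (g' := Matrix.GeneralLinearGroup.map ι₀ (1 : GL ι F₀)) (σ' := σ)
    (map_one _).symm rfl hstd h',
    PhiS_psiP hQ₀ hn hcompat hτ 1 h' pair_one y, PhiS_one]
  rfl

/-- elements of the similarity group commuting with the standard field automorphism preserve
the subgroup over the fixed field -/
theorem commSub_maps_psiP (hQ : (QuadraticMap.polarBilin Q).Nondegenerate)
    (hQ₀ : (QuadraticMap.polarBilin Q₀).Nondegenerate)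
    (hn : 7 ≤ Fintype.card ι) (hι : ∀ a, σ a = a ↔ a ∈ Set.range ι₀) (r : ℕ)
    (hr : orderOf σ = r) (hr0 : 0 < r) (hcompat : ∀ v, Q (extV ι₀ v) = ι₀ (Q₀ v))
    (hstd : Cfsg.IsSemisimilarityPair (⇑Q) (1 : GL ι F) σ)
    (c : ↥(GO (⇑Q))) (hc : c ∈ commSub (Phi (⇑Q)) (PhiS 1 σ hstd))
    (y : Cfsg.POmega F₀ (⇑Q₀)) :
    ∃ y', Phi (⇑Q) c (psiP hQ₀ (by omega) ι₀ hcompat y) = psiP hQ₀ (by omega) ι₀ hcompat y' := by
  obtain ⟨b, c₀, hbc⟩ := exists_emb_of_commSub hQ hn hι r hr hr0 hcompat hstd c hc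
  have hscal : Phi (⇑Q) (scalGO Q b) = 1 := scal_le_ker ⟨b, rfl⟩
  have h1 : Phi (⇑Q) c = Phi (⇑Q) (embGO ι₀ hcompat c₀) := by
    rw [← hbc, map_mul, hscal, one_mul]
  have hτ : ∀ a, (1 : F ≃+* F) (ι₀ a) = ι₀ ((1 : F₀ ≃+* F₀) a) := fun a => rfl
  refine ⟨PhiS (c₀ : GL ι F₀) 1 (pair_of_GO c₀) y, ?_⟩
  rw [h1, ← PhiS_one_eq (embGO ι₀ hcompat c₀) (pair_of_GO _)]
  exact PhiS_psiP hQ₀ (by omega) hcompat hτ (c₀ : GL ι F₀) (pair_of_GO (embGO ι₀ hcompat c₀))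
    (pair_of_GO c₀) y

theorem conj_injective_POmega (hQ : (QuadraticMap.polarBilin Q).Nondegenerate)
    (hn : 7 ≤ Fintype.card ι) :
    Function.Injective (MulAut.conj : Cfsg.POmega F ⇑Q →* MulAut (Cfsg.POmega F ⇑Q)) := by
  rw [injective_iff_map_eq_one]
  intro g hg
  have : g ∈ Subgroup.center (Cfsg.POmega F ⇑Q) := by
    rw [Subgroup.mem_center_iff]
    intro x
    have := DFunLike.congr_fun hg x
    rw [MulAut.conj_apply, MulAut.one_apply] at this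
    calc x * g = g * x * g⁻¹ * g := by rw [this]
      _ = g * x := by group
  rw [center_POmega hQ hn] at this
  exact this

/-- a fixed point of the standard field automorphism gives an element of the commuting
subgroup -/
theorem incl_mem_commSub_of_fix (hstd : Cfsg.IsSemisimilarityPair (⇑Q) (1 : GL ι F) σ)
    (s : ↥(Cfsg.Omega F (⇑Q)))
    (hs : PhiS 1 σ hstd (QuotientGroup.mk s) = QuotientGroup.mk s) :
    incl (⇑Q) (s : ↥(Cfsg.isometryGroup F (⇑Q))) ∈ commSub (Phi (⇑Q)) (PhiS 1 σ hstd) := by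
  rw [mem_commSub, Phi_incl, mul_conj_eq, hs]

/-- the fixed points normalize the subgroup over the fixed field -/
theorem psiP_conj_mem (hQ : (QuadraticMap.polarBilin Q).Nondegenerate)
    (hQ₀ : (QuadraticMap.polarBilin Q₀).Nondegenerate)
    (hn : 7 ≤ Fintype.card ι) (hι : ∀ a, σ a = a ↔ a ∈ Set.range ι₀) (r : ℕ)
    (hr : orderOf σ = r) (hr0 : 0 < r) (hcompat : ∀ v, Q (extV ι₀ v) = ι₀ (Q₀ v))
    (hstd : Cfsg.IsSemisimilarityPair (⇑Q) (1 : GL ι F) σ)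
    (k : Cfsg.POmega F (⇑Q)) (hk : PhiS 1 σ hstd k = k) (y : Cfsg.POmega F₀ (⇑Q₀)) :
    k * psiP hQ₀ (by omega) ι₀ hcompat y * k⁻¹ ∈ (psiP hQ₀ (by omega) ι₀ hcompat).range := by
  obtain ⟨s, rfl⟩ := QuotientGroup.mk_surjective k
  obtain ⟨y', hy'⟩ := commSub_maps_psiP hQ hQ₀ hn hι r hr hr0 hcompat hstd _
    (incl_mem_commSub_of_fix hstd s hk) y
  rw [Phi_incl, MulAut.conj_apply] at hy'
  exact ⟨y', hy'.symm⟩

set_option maxHeartbeats 1600000 in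
/-- the fourth power of a fixed point lies in the subgroup over the fixed field -/
theorem pow_four_mem_psiP (h2 : (2 : F₀) ≠ 0) (hQ : (QuadraticMap.polarBilin Q).Nondegenerate)
    (hQ₀ : (QuadraticMap.polarBilin Q₀).Nondegenerate)
    (hn : 7 ≤ Fintype.card ι) (hι : ∀ a, σ a = a ↔ a ∈ Set.range ι₀) (r : ℕ)
    (hr : orderOf σ = r) (hr0 : 0 < r) (hcompat : ∀ v, Q (extV ι₀ v) = ι₀ (Q₀ v))
    (hstd : Cfsg.IsSemisimilarityPair (⇑Q) (1 : GL ι F) σ)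
    (k : Cfsg.POmega F (⇑Q)) (hk : PhiS 1 σ hstd k = k) :
    k ^ 4 ∈ (psiP hQ₀ (by omega) ι₀ hcompat).range := by
  obtain ⟨s, rfl⟩ := QuotientGroup.mk_surjective k
  have hc := incl_mem_commSub_of_fix hstd s hk
  obtain ⟨b, c₀, hbc⟩ := exists_emb_of_commSub hQ hn hι r hr hr0 hcompat hstd _ hc
  have hscal : ∀ b : Fˣ, Phi (⇑Q) (scalGO Q b) = 1 := fun b => scal_le_ker ⟨b, rfl⟩
  have h1 : Phi (⇑Q) (incl (⇑Q) (s : ↥(Cfsg.isometryGroup F (⇑Q)))) =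
      Phi (⇑Q) (embGO ι₀ hcompat c₀) := by
    rw [← hbc, map_mul, hscal, one_mul]
  obtain ⟨μ₀, hμ₀⟩ := c₀.2
  -- the isometry `μ₀⁻¹ c₀²`
  have hd₀ : ((scalGO Q₀ μ₀⁻¹ * c₀ * c₀ : ↥(GO (⇑Q₀))) : GL ι F₀) ∈
      Cfsg.isometryGroup F₀ (⇑Q₀) := by
    rw [mem_iso_iff]
    intro v
    rw [Subgroup.coe_mul, Subgroup.coe_mul, Units.val_mul, Units.val_mul, ← Matrix.mulVec_mulVec,
      ← Matrix.mulVec_mulVec, scalGO_coe, scalHom_mulVec, QuadraticMap.map_smul, hμ₀, hμ₀,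
      smul_eq_mul, Units.val_inv_eq_inv_val]
    have := μ₀.ne_zero
    field_simp
  obtain ⟨d₀, hd₀'⟩ : ∃ d₀ : ↥(Cfsg.isometryGroup F₀ (⇑Q₀)),
      incl (⇑Q₀) d₀ = scalGO Q₀ μ₀⁻¹ * c₀ * c₀ := ⟨⟨_, hd₀⟩, rfl⟩
  have hω := sq_mem_Omega h2 hQ₀ (by omega) d₀
  obtain ⟨ω, hω'⟩ : ∃ ω : ↥(Cfsg.Omega F₀ (⇑Q₀)),
      (ω : ↥(Cfsg.isometryGroup F₀ (⇑Q₀))) = d₀ * d₀ := ⟨⟨_, hω⟩, rfl⟩
  refine ⟨QuotientGroup.mk ω, ?_⟩
  apply conj_injective_POmega hQ hn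
  have e1 : Phi (⇑Q) (embGO ι₀ hcompat (incl (⇑Q₀) d₀)) =
      Phi (⇑Q) (embGO ι₀ hcompat c₀) * Phi (⇑Q) (embGO ι₀ hcompat c₀) := by
    rw [hd₀', map_mul, map_mul, map_mul, map_mul, embGO_scal, hscal, one_mul]
  rw [psiP_mk, ← Phi_incl, embOm_coe, hω', incl_embO, map_mul, map_mul, map_mul, e1, ← h1,
    Phi_incl, map_pow]
  rw [pow_succ, pow_succ, pow_succ, pow_one, mul_assoc (MulAut.conj _ * MulAut.conj _)]

end Fix

end Cfsg.Agent.Lib.Helper5.OFld
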