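import Mathlib
import Cfsg.Agent.Lib.Helper5.OFld26

set_option autoImplicit false

/-! The centralizer of a standard field automorphism of `PΩ(Q)` of prime order `p` has no
nontrivial normal `p'`-subgroup when `p` divides the number of fixed points. -/

namespace Cfsg.Agent.Lib.Helper5.OFld

open Matrix Cfsg.Agent.Lib.Helper5.PGO Cfsg.Agent.Lib.Helper5.PSLCoset
open Cfsg.Agent.Lib.Helper5.OAut Cfsg.Agent.Lib.Helper5.PSpField
open Cfsg.Agent.Lib.Helper5.PSpBal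
open Cfsg.Agent.Lib.Helper2 Cfsg.Agent.Lib.Helper2.CDG

section Dvd
variable {F F₀ : Type*} [Field F] [Fintype F] [Field F₀] [Fintype F₀]
variable {ι : Type} [Fintype ι] [DecidableEq ι]
variable {Q : QuadraticForm F (ι → F)} {Q₀ : QuadraticForm F₀ (ι → F₀)}
variable {ι₀ : F₀ →+* F} {σ : F ≃+* F}

theorem finite_POmega : Finite (Cfsg.POmega F (⇑Q)) := by
  haveI := finite_omega (Q := Q)
  exact Quotient.finite _

/-- primes dividing the number of fixed points divide the order of the subgroup over the fixed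
field -/
theorem dvd_card_psiP_of_dvd (h2 : (2 : F₀) ≠ 0) (hQ : (QuadraticMap.polarBilin Q).Nondegenerate)
    (hQ₀ : (QuadraticMap.polarBilin Q₀).Nondegenerate)
    (hn : 7 ≤ Fintype.card ι) (hι : ∀ a, σ a = a ↔ a ∈ Set.range ι₀) (r : ℕ)
    (hr : orderOf σ = r) (hr0 : 0 < r) (hcompat : ∀ v, Q (extV ι₀ v) = ι₀ (Q₀ v))
    (hstd : Cfsg.IsSemisimilarityPair (⇑Q) (1 : GL ι F) σ) {p : ℕ} (hp : p.Prime)
    (hdvd : p ∣ Nat.card ↥(MonoidHom.eqLocus (PhiS 1 σ hstd).toMonoidHom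
      (MonoidHom.id (Cfsg.POmega F (⇑Q))))) :
    p ∣ Nat.card ↥(psiP hQ₀ (by omega) ι₀ hcompat).range := by
  classical
  haveI := finite_POmega (Q := Q)
  have hn6 : 6 ≤ Fintype.card ι := by omega
  by_cases hp2 : p = 2
  · rw [hp2, Nat.card_congr
      (MonoidHom.ofInjective (psiP_injective (Q := Q) hQ₀ hn6 ι₀ hcompat)).symm.toEquiv]
    exact two_dvd_card_POmega h2 hQ₀ hn
  set Kσ := MonoidHom.eqLocus (PhiS 1 σ hstd).toMonoidHom
    (MonoidHom.id (Cfsg.POmega F (⇑Q))) with hKσ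
  set P0 := (psiP hQ₀ hn6 ι₀ hcompat).range with hP0
  have hle : P0 ≤ Kσ := by
    rintro _ ⟨y, rfl⟩
    exact std_fix_psiP hQ₀ hn6 hι hcompat hstd y
  haveI hnorm : (P0.subgroupOf Kσ).Normal := by
    refine ⟨fun y hy k => ?_⟩
    rw [Subgroup.mem_subgroupOf] at hy ⊢
    obtain ⟨y', hy'⟩ := hy
    have := psiP_conj_mem hQ hQ₀ hn hι r hr hr0 hcompat hstd k.1 k.2 y'
    rw [hy'] at this
    exact this
  have hpg : IsPGroup 2 (↥Kσ ⧸ P0.subgroupOf Kσ) := by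
    intro g
    obtain ⟨k, rfl⟩ := QuotientGroup.mk_surjective g
    refine ⟨2, ?_⟩
    rw [← QuotientGroup.mk_pow, QuotientGroup.eq_one_iff, Subgroup.mem_subgroupOf]
    exact pow_four_mem_psiP h2 hQ hQ₀ hn hι r hr hr0 hcompat hstd k.1 k.2
  haveI : Fact (Nat.Prime 2) := ⟨Nat.prime_two⟩
  obtain ⟨n, hcard⟩ := IsPGroup.iff_card.1 hpg
  have h1 := Subgroup.card_eq_card_quotient_mul_card_subgroup (P0.subgroupOf Kσ)
  rw [hcard, Nat.card_congr (Subgroup.subgroupOfEquivOfLe hle).toEquiv] at h1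
  rw [h1] at hdvd
  have hcop : Nat.Coprime p (2 ^ n) := by
    apply Nat.Coprime.pow_right
    exact (Nat.coprime_primes hp Nat.prime_two).2 hp2
  exact hcop.dvd_of_dvd_mul_left hdvd

end Dvd

section NoCore
variable {F F₀ : Type*} [Field F] [Fintype F] [Field F₀] [Fintype F₀]
variable {ι : Type} [Fintype ι] [DecidableEq ι]
variable {Q : QuadraticForm F (ι → F)} {Q₀ : QuadraticForm F₀ (ι → F₀)}
variable {ι₀ : F₀ →+* F} {σ : F ≃+* F}

set_option maxHeartbeats 1600000 in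
/-- the main lemma: no nontrivial normal `p'`-subgroup -/
theorem no_core_orth (p r : ℕ) [Fact p.Prime] [Fact r.Prime] [CharP F r] [CharP F₀ r]
    (hpr : p ≠ r) (h2 : (2 : F₀) ≠ 0) (hQ : (QuadraticMap.polarBilin Q).Nondegenerate)
    (hQ₀ : (QuadraticMap.polarBilin Q₀).Nondegenerate) (hn : 7 ≤ Fintype.card ι)
    (hLag : ∀ T : Submodule F (ι → F), (∀ x ∈ T, Q x = 0) →
      (∀ y, (∀ x ∈ T, QuadraticMap.polar (⇑Q) x y = 0) → y ∈ T) → 5 ≤ Module.finrank F ↥T)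
    (hι : ∀ a, σ a = a ↔ a ∈ Set.range ι₀) (hσ : orderOf σ = p)
    (hcompat : ∀ v, Q (extV ι₀ v) = ι₀ (Q₀ v))
    (hstd : Cfsg.IsSemisimilarityPair (⇑Q) (1 : GL ι F) σ)
    (A : Subgroup (MulAut (Cfsg.POmega F (⇑Q))))
    (hinn : ∀ k : Cfsg.POmega F (⇑Q), MulAut.conj k ∈ A)
    (hdvd : p ∣ Nat.card ↥(MonoidHom.eqLocus (PhiS 1 σ hstd).toMonoidHom
      (MonoidHom.id (Cfsg.POmega F (⇑Q)))))
    (N : Subgroup (MulAut (Cfsg.POmega F (⇑Q)))) (hN : HasCore p A (PhiS 1 σ hstd) N) :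
    False := by
  classical
  haveI := finite_POmega (Q := Q)
  have hp : p.Prime := Fact.out
  have hn6 : 6 ≤ Fintype.card ι := by omega
  obtain ⟨hnb, hle, hnorm, hcop⟩ := hN
  have hc := conj_injective_POmega hQ hn
  set x := PhiS 1 σ hstd with hx
  set Kσ := MonoidHom.eqLocus x.toMonoidHom (MonoidHom.id (Cfsg.POmega F (⇑Q))) with hKσ
  have hmemK : ∀ k : Cfsg.POmega F (⇑Q), k ∈ Kσ ↔ x k = k := fun k => Iff.rfl
  have hconjH : ∀ k ∈ Kσ, MulAut.conj k ∈ A ⊓ Subgroup.centralizer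
      ({x} : Set (MulAut (Cfsg.POmega F (⇑Q)))) :=
    fun k hk => ⟨hinn k, (conj_mem_centralizer_iff hc _ k).2 hk⟩
  set ψ := psiP hQ₀ hn6 ι₀ hcompat with hψ
  have hψinj : Function.Injective ψ := psiP_injective hQ₀ hn6 ι₀ hcompat
  set P0 := ψ.range with hP0
  have hP0K : P0 ≤ Kσ := by
    rintro _ ⟨y, rfl⟩
    exact std_fix_psiP hQ₀ hn6 hι hcompat hstd y
  have hP0conj : ∀ k ∈ Kσ, ∀ y ∈ P0, k * y * k⁻¹ ∈ P0 := by
    rintro k hk _ ⟨y, rfl⟩
    exact psiP_conj_mem hQ hQ₀ hn hι p hσ hp.pos hcompat hstd k hk y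
  -- step 1: `p` divides the order of `P0`
  have hdvd0 : p ∣ Nat.card ↥P0 :=
    dvd_card_psiP_of_dvd h2 hQ hQ₀ hn hι p hσ hp.pos hcompat hstd hp hdvd
  -- step 2: the part of `N` in the image of the fixed points
  set D : Subgroup (Cfsg.POmega F (⇑Q)) :=
    N.comap (MulAut.conj : Cfsg.POmega F (⇑Q) →* _) ⊓ Kσ with hD
  have hDnorm : ∀ k ∈ Kσ, ∀ y ∈ D, k * y * k⁻¹ ∈ D := by
    rintro k hk y ⟨hy1, hy2⟩
    refine ⟨?_, Kσ.mul_mem (Kσ.mul_mem hk hy2) (Kσ.inv_mem hk)⟩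
    show MulAut.conj (k * y * k⁻¹) ∈ N
    rw [map_mul, map_mul, map_inv]
    exact hnorm _ (hconjH k hk) _ hy1
  have hDcop : (Nat.card ↥D).Coprime p := by
    have hmap : D.map (MulAut.conj : Cfsg.POmega F (⇑Q) →* _) ≤ N := by
      rintro _ ⟨y, hy, rfl⟩
      exact hy.1
    have h4 := Subgroup.card_dvd_of_le hmap
    rw [Nat.card_congr (Subgroup.equivMapOfInjective _ _ hc).symm.toEquiv] at h4
    exact Nat.Coprime.coprime_dvd_left h4 hcop
  haveI hsimple : IsSimpleGroup (Cfsg.POmega F₀ (⇑Q₀)) := LongRoot.simple_POmega hQ₀ hn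
  have hD1 : D ⊓ P0 = ⊥ := by
    haveI hMn : ((D ⊓ P0).comap ψ).Normal := by
      refine ⟨fun y hy z => ?_⟩
      rw [Subgroup.mem_comap] at hy ⊢
      rw [map_mul, map_mul, map_inv]
      exact ⟨hDnorm _ (hP0K ⟨z, rfl⟩) _ hy.1, ⟨z * y * z⁻¹, by rw [map_mul, map_mul, map_inv]⟩⟩
    rcases Subgroup.Normal.eq_bot_or_eq_top hMn with h | h
    · rw [eq_bot_iff]
      rintro _ ⟨hy1, ⟨y, rfl⟩⟩
      have : y ∈ (D ⊓ P0).comap ψ := ⟨hy1, ⟨y, rfl⟩⟩
      rw [h, Subgroup.mem_bot] at this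
      rw [this, map_one]
      exact Subgroup.one_mem _
    · exfalso
      have hP0D : P0 ≤ D := by
        rintro _ ⟨y, rfl⟩
        have : y ∈ (D ⊓ P0).comap ψ := by rw [h]; trivial
        exact this.1
      have h4 := Subgroup.card_dvd_of_le hP0D
      have h5 := Nat.Coprime.coprime_dvd_left h4 hDcop
      exact hp.one_lt.ne' (Nat.eq_one_of_dvd_coprimes h5.symm (dvd_refl p) hdvd0)
  -- automorphisms in the centralizer fixing `P0` pointwise
  have hkey : ∀ n : MulAut (Cfsg.POmega F (⇑Q)), n * x = x * n → (∀ y, n (ψ y) = ψ y) →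
      ∃ (τ : F ≃+* F) (l : Fˣ) (hg : Cfsg.IsSemisimilarityPair (⇑Q) (scalHom l) τ),
        τ ∈ Subgroup.zpowers σ ∧ n = PhiS (scalHom l) τ hg := by
    intro n hnx hnfix
    obtain ⟨τ, g, hg, rfl⟩ := exists_pair r hQ hn hLag n
    have hτσ : τ * σ = σ * τ := by
      have := congrArg (Theta r hQ hn hLag) hnx
      rw [map_mul, map_mul, Theta_PhiS, Theta_PhiS] at this
      exact this
    obtain ⟨hτ, l, hl⟩ := fix_P0_imp r hQ hQ₀ hn hι p hσ hp.pos hcompat hstd g hg hnx hτσ hnfix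
    subst hl
    exact ⟨τ, l, hg, mem_zpowers_of_fixes σ τ hτ, rfl⟩
  -- step 3: `D` centralizes `P0`, hence is trivial
  have hDbot : D = ⊥ := by
    rw [eq_bot_iff]
    intro k hk
    rw [Subgroup.mem_bot]
    have hkK : k ∈ Kσ := hk.2
    have hcomm : ∀ y ∈ P0, k * y * k⁻¹ = y := by
      intro y hy
      have h1 : k * (y * k⁻¹ * y⁻¹) ∈ D ⊓ P0 := by
        refine ⟨D.mul_mem hk ?_, ?_⟩
        · exact hDnorm y (hP0K hy) _ (D.inv_mem hk)
        · have h2 : k * y * k⁻¹ ∈ P0 := hP0conj k hkK y hy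
          have h3 : k * (y * k⁻¹ * y⁻¹) = k * y * k⁻¹ * y⁻¹ := by group
          rw [h3]
          exact P0.mul_mem h2 (P0.inv_mem hy)
      rw [hD1, Subgroup.mem_bot] at h1
      have h3 : k * y * k⁻¹ = k * (y * k⁻¹ * y⁻¹) * y := by group
      rw [h3, h1, one_mul]
    have hcx : MulAut.conj k * x = x * MulAut.conj k := by
      rw [mul_conj_eq, (hmemK k).1 hkK]
    obtain ⟨τ, l, hg, -, hn'⟩ := hkey (MulAut.conj k) hcx (fun y => by
      rw [MulAut.conj_apply]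
      exact hcomm _ ⟨y, rfl⟩)
    have hτ1 : τ = 1 := by
      have h5 := congrArg (Theta r hQ hn hLag) hn'
      rw [Theta_PhiS] at h5
      rw [← h5]
      obtain ⟨s, rfl⟩ := QuotientGroup.mk_surjective k
      rw [← Phi_incl, ← PhiS_one_eq _ (pair_of_GO _), Theta_PhiS]
    subst hτ1
    apply hc
    rw [hn', map_one]
    exact (PhiS_one_eq (scalGO Q l) hg).trans (scal_le_ker ⟨l, rfl⟩)
  -- step 4: `N` fixes the fixed points
  have hNfix : ∀ n ∈ N, ∀ k ∈ Kσ, n k = k := by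
    intro n hn' k hk
    have hnC : x * n = n * x := by
      have h0 : n ∈ Subgroup.centralizer ({x} : Set (MulAut (Cfsg.POmega F (⇑Q)))) :=
        (hle hn').2
      rw [Subgroup.mem_centralizer_iff] at h0
      exact h0 _ rfl
    have hnk : n k ∈ Kσ := by
      rw [hmemK]
      have h1 := congrArg (fun θ : MulAut (Cfsg.POmega F (⇑Q)) => θ k) hnC
      simp only [MulAut.mul_apply] at h1
      rw [(hmemK k).1 hk] at h1
      exact h1
    have h1 : n k * k⁻¹ ∈ D := by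
      refine ⟨?_, Kσ.mul_mem hnk (Kσ.inv_mem hk)⟩
      show MulAut.conj (n k * k⁻¹) ∈ N
      have e : MulAut.conj (n k * k⁻¹) = n * (MulAut.conj k * n⁻¹ * (MulAut.conj k)⁻¹) := by
        rw [map_mul, map_inv, ← mul_assoc, ← mul_assoc, mul_conj_eq]
        group
      rw [e]
      exact N.mul_mem hn' (hnorm _ (hconjH k hk) _ (N.inv_mem hn'))
    rw [hDbot, Subgroup.mem_bot] at h1
    exact mul_inv_eq_one.1 h1
  -- step 5: `N` embeds in the group generated by `σ`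
  have hNstr : ∀ n ∈ N, ∃ (τ : F ≃+* F) (l : Fˣ)
      (hg : Cfsg.IsSemisimilarityPair (⇑Q) (scalHom l) τ),
        τ ∈ Subgroup.zpowers σ ∧ n = PhiS (scalHom l) τ hg := by
    intro n hn'
    have hnC : n * x = x * n := by
      have h0 : n ∈ Subgroup.centralizer ({x} : Set (MulAut (Cfsg.POmega F (⇑Q)))) :=
        (hle hn').2
      rw [Subgroup.mem_centralizer_iff] at h0
      exact (h0 _ rfl).symm
    exact hkey n hnC (fun y => hNfix n hn' _ (hP0K ⟨y, rfl⟩))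
  have hΘmem : ∀ n : ↥N, Theta r hQ hn hLag (n : MulAut (Cfsg.POmega F (⇑Q))) ∈
      Subgroup.zpowers σ := by
    intro n
    obtain ⟨τ, l, hg, hτ, hn'⟩ := hNstr n.1 n.2
    rw [hn', Theta_PhiS]
    exact hτ
  let θN : ↥N →* ↥(Subgroup.zpowers σ) :=
    MonoidHom.codRestrict ((Theta r hQ hn hLag).comp N.subtype) _ hΘmem
  have hθinj : Function.Injective θN := by
    rw [injective_iff_map_eq_one]
    intro n hn1
    have h5 : Theta r hQ hn hLag (n : MulAut (Cfsg.POmega F (⇑Q))) = 1 := by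
      have := congrArg Subtype.val hn1
      exact this
    obtain ⟨τ, l, hg, -, hn'⟩ := hNstr n.1 n.2
    rw [hn', Theta_PhiS] at h5
    subst h5
    apply Subtype.ext
    rw [hn']
    exact (PhiS_one_eq (scalGO Q l) hg).trans (scal_le_ker ⟨l, rfl⟩)
  have h1 : Nat.card ↥N ∣ p := by
    have h3 := Subgroup.card_dvd_of_injective θN hθinj
    rw [Nat.card_zpowers, hσ] at h3
    exact h3
  have h2' : Nat.card ↥N = 1 := Nat.eq_one_of_dvd_coprimes hcop (dvd_refl _) h1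
  exact hnb (Subgroup.card_eq_one.1 h2')

end NoCore

end Cfsg.Agent.Lib.Helper5.OFld
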