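import Mathlib
import Cfsg.Agent.Lib.Helper5.OFld27

set_option autoImplicit false

/-! The failure of local balance for automorphisms of `PΩ(Q)` outside the image of the
similarity group. -/

namespace Cfsg.Agent.Lib.Helper5.OFld

open Matrix Cfsg.Agent.Lib.Helper5.PGO Cfsg.Agent.Lib.Helper5.PSLCoset
open Cfsg.Agent.Lib.Helper5.OAut Cfsg.Agent.Lib.Helper5.PSpField
open Cfsg.Agent.Lib.Helper5.PSpBal
open Cfsg.Agent.Lib.Helper2 Cfsg.Agent.Lib.Helper2.CDG

/-- the fixed points of conjugate automorphisms are in bijection -/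
theorem card_fix_conj' {K : Type*} [Group K] (α x : MulAut K) :
    Nat.card ↥(MonoidHom.eqLocus (α * x * α⁻¹).toMonoidHom (MonoidHom.id K))
      = Nat.card ↥(MonoidHom.eqLocus x.toMonoidHom (MonoidHom.id K)) := by
  apply Nat.card_congr
  refine
    { toFun := fun k => ⟨α⁻¹ k.1, ?_⟩
      invFun := fun k => ⟨α k.1, ?_⟩
      left_inv := fun k => ?_
      right_inv := fun k => ?_ }
  · have hk : (α * x * α⁻¹) k.1 = k.1 := k.2
    show x (α⁻¹ k.1) = α⁻¹ k.1
    have h1 := congrArg (fun y => α⁻¹ y) hk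
    simp only [MulAut.mul_apply] at h1
    rw [MulAut.inv_apply, MulEquiv.symm_apply_apply] at h1
    exact h1
  · have hk : x k.1 = k.1 := k.2
    show (α * x * α⁻¹) (α k.1) = α k.1
    simp only [MulAut.mul_apply]
    rw [MulAut.inv_apply, MulEquiv.symm_apply_apply, hk]
  · apply Subtype.ext
    show α (α⁻¹ k.1) = k.1
    rw [MulAut.inv_apply, MulEquiv.apply_symm_apply]
  · apply Subtype.ext
    show α⁻¹ (α k.1) = k.1
    rw [MulAut.inv_apply, MulEquiv.symm_apply_apply]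

section Balance
variable {F : Type*} [Field F] [Fintype F] {ι : Type} [Fintype ι] [DecidableEq ι]
variable {Q : QuadraticForm F (ι → F)}

theorem mem_pgoAut_of_induced {β : MulAut (Cfsg.POmega F (⇑Q))}
    (h : β ∈ Cfsg.pgoAut F (⇑Q)) : Cfsg.IsSimilarityInducedAutPOmega (⇑Q) β := by
  rw [pgoAut_eq] at h
  obtain ⟨g, rfl⟩ := h
  exact ⟨g, g.2, (Cfsg.Agent.Lib.Helper5.PGO.induced_iff (⇑Q) g _).2 rfl⟩

theorem induced_mem_pgoAut {β : MulAut (Cfsg.POmega F (⇑Q))}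
    (h : Cfsg.IsSimilarityInducedAutPOmega (⇑Q) β) : β ∈ Cfsg.pgoAut F (⇑Q) := by
  rw [pgoAut_eq]
  obtain ⟨g, hg, h⟩ := h
  exact ⟨⟨g, hg⟩, ((Cfsg.Agent.Lib.Helper5.PGO.induced_iff (⇑Q) ⟨g, hg⟩ β).1 h).symm⟩

set_option maxHeartbeats 1600000 in
/-- the local balance criterion, given the conjugacy theorem and descent data -/
theorem balance_generic (r : ℕ) [Fact r.Prime] [CharP F r] (h2 : (2 : F) ≠ 0)
    (hQ : (QuadraticMap.polarBilin Q).Nondegenerate) (hn : 7 ≤ Fintype.card ι)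
    (hLag : ∀ T : Submodule F (ι → F), (∀ x ∈ T, Q x = 0) →
      (∀ y, (∀ x ∈ T, QuadraticMap.polar (⇑Q) x y = 0) → y ∈ T) → 5 ≤ Module.finrank F ↥T)
    (hinv : GalInv (⇑Q))
    (hconj : ∀ (σ : F ≃+* F) (r : ℕ), orderOf σ = r → 0 < r → ∀ (g : GL ι F)
      (hg : Cfsg.IsSemisimilarityPair (⇑Q) g σ), (PhiS g σ hg) ^ r = 1 →
      ∃ h : ↥(GO (⇑Q)), PhiS g σ hg =
        Phi (⇑Q) h * PhiS 1 σ (pair_std hinv σ) * (Phi (⇑Q) h)⁻¹)
    (hdesc : ∀ σ : F ≃+* F, ∃ Q₀ : QuadraticForm ↥(fixF σ) (ι → ↥(fixF σ)),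
      (QuadraticMap.polarBilin Q₀).Nondegenerate ∧
      ∀ v, Q (extV (fixF σ).subtype v) = (fixF σ).subtype (Q₀ v))
    (A : Subgroup (MulAut (Cfsg.POmega F (⇑Q))))
    (hinn : ∀ k : Cfsg.POmega F (⇑Q), MulAut.conj k ∈ A) {p : ℕ} [Fact p.Prime] (hpr : p ≠ r)
    (x : MulAut (Cfsg.POmega F (⇑Q))) (hord : orderOf x = p)
    (hnot : x ∉ Cfsg.pgoAut F (⇑Q)) :
    Cfsg.pPrimeCore p ↥(A ⊓ Subgroup.centralizer {x}) ≠ ⊥ ↔
      (Cfsg.IsFieldAutClassPOmega (⇑Q) x ∧
        Nat.Coprime p (Nat.card ↥(MonoidHom.eqLocus x.toMonoidHom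
          (MonoidHom.id (Cfsg.POmega F (⇑Q)))))) := by
  classical
  haveI := finite_POmega (Q := Q)
  have hp : p.Prime := Fact.out
  have hn6 : 6 ≤ Fintype.card ι := by omega
  have hc := conj_injective_POmega hQ hn
  have hxp : x ^ p = 1 := by rw [← hord]; exact pow_orderOf_eq_one x
  constructor
  · intro h
    obtain ⟨N, hN⟩ := exists_hasCore p A x h
    obtain ⟨τ, g, hg, hx⟩ := exists_pair r hQ hn hLag x
    have hτ1 : τ ≠ 1 := by
      rintro rfl
      apply hnot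
      rw [hx, PhiS_one_eq ⟨g, GO_of_pair hg⟩ hg, pgoAut_eq]
      exact ⟨_, rfl⟩
    have hτp : τ ^ p = 1 := by
      have h1 := congrArg (Theta r hQ hn hLag) hxp
      rw [map_pow, map_one, hx, Theta_PhiS] at h1
      exact h1
    have hτord : orderOf τ = p := by
      have h1 : orderOf τ ∣ p := orderOf_dvd_of_pow_eq_one hτp
      rcases (Nat.dvd_prime hp).1 h1 with h2 | h2
      · exact absurd (orderOf_eq_one_iff.1 h2) hτ1
      · exact h2
    obtain ⟨h', hh'⟩ := hconj τ p hτord hp.pos g hg (by rw [← hx]; exact hxp)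
    set α : MulAut (Cfsg.POmega F (⇑Q)) := (Phi (⇑Q) h')⁻¹ with hα
    have hαx : α * x * α⁻¹ = PhiS 1 τ (pair_std hinv τ) := by
      rw [hx, hh', hα, inv_inv]
      group
    have hfield : Cfsg.IsFieldAutClassPOmega (⇑Q) x :=
      ⟨α, stdField hinv τ, τ, hτ1, (isFieldAut_iff hinv τ _).2 rfl, hαx⟩
    refine ⟨hfield, ?_⟩
    rw [Nat.Prime.coprime_iff_not_dvd hp]
    intro hdvd
    have hN' := hN.conj α
    rw [hαx] at hN'
    have hdvd' : p ∣ Nat.card ↥(MonoidHom.eqLocus (PhiS 1 τ (pair_std hinv τ)).toMonoidHom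
        (MonoidHom.id (Cfsg.POmega F (⇑Q)))) := by
      rw [← hαx, card_fix_conj']
      exact hdvd
    obtain ⟨Q₀, hQ₀, hcompat⟩ := hdesc τ
    haveI : Fintype ↥(fixF τ) := Fintype.ofFinite _
    have h2' : (2 : ↥(fixF τ)) ≠ 0 := by
      intro h0
      apply h2
      have := congrArg (fixF τ).subtype h0
      rwa [map_ofNat, map_zero] at this
    exact no_core_orth p r hpr h2' hQ hQ₀ hn hLag (fixF_range τ) hτord hcompat
      (pair_std hinv τ) _ (inn_le_map_conj hinn α) hdvd' _ hN'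
  · rintro ⟨⟨α, φ, σ, hσ1, hstd, hαx⟩, hcop⟩
    have hφ := (isFieldAut_iff hinv σ φ).1 hstd
    rw [hφ, stdField_apply] at hαx
    have hx : x = α⁻¹ * PhiS 1 σ (pair_std hinv σ) * α := by
      rw [← hαx]
      group
    obtain ⟨Q₀, hQ₀, hcompat⟩ := hdesc σ
    haveI : Fintype ↥(fixF σ) := Fintype.ofFinite _
    haveI hsimple : IsSimpleGroup (Cfsg.POmega ↥(fixF σ) (⇑Q₀)) := LongRoot.simple_POmega hQ₀ hn
    obtain ⟨y, hy⟩ := exists_ne (1 : Cfsg.POmega ↥(fixF σ) (⇑Q₀))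
    have hne : ∃ k : Cfsg.POmega F (⇑Q), k ≠ 1 ∧ x k = k := by
      refine ⟨α⁻¹ (psiP hQ₀ hn6 (fixF σ).subtype hcompat y), ?_, ?_⟩
      · intro h0
        apply hy
        apply psiP_injective (Q := Q) hQ₀ hn6 (fixF σ).subtype hcompat
        have := congrArg (fun z => α z) h0
        simp only [map_one] at this
        rw [MulAut.inv_apply, MulEquiv.apply_symm_apply] at this
        rw [this, map_one]
      · rw [hx]
        simp only [MulAut.mul_apply]
        have e1 : α (α⁻¹ (psiP hQ₀ hn6 (fixF σ).subtype hcompat y)) =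
            psiP hQ₀ hn6 (fixF σ).subtype hcompat y := by
          rw [MulAut.inv_apply, MulEquiv.apply_symm_apply]
        rw [e1, std_fix_psiP hQ₀ hn6 (fixF_range σ) hcompat (pair_std hinv σ) y]
    exact core_ne_bot_of_hasCore p A x
      (hasCore_of_fix hc p A hinn x hne (Nat.Coprime.symm hcop))

end Balance

end Cfsg.Agent.Lib.Helper5.OFld
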