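import Mathlib

set_option autoImplicit false

/-! Quotients of order four: cyclic or Klein. -/

namespace Cfsg.Agent.Lib.Helper5.PGO

theorem exists_zmod4_hom {G : Type*} [Group G] (N : Subgroup G) [N.Normal]
    (hidx : N.index = 4) (a : G) (ha2 : a * a ∉ N) :
    ∃ φ : G →* Multiplicative (ZMod 4), Function.Surjective φ ∧ φ.ker = N := by
  have : N.FiniteIndex := ⟨by rw [hidx]; norm_num⟩
  have : Finite (G ⧸ N) := Subgroup.finite_quotient_of_finiteIndex
  have hcard : Nat.card (G ⧸ N) = 4 := by rw [← Subgroup.index_eq_card, hidx]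
  set x : G ⧸ N := QuotientGroup.mk a with hx
  have hx4 : orderOf x = 4 := by
    have := orderOf_eq_prime_pow (x := x) (p := 2) (n := 1) (by
      rw [pow_one, pow_two, hx, ← QuotientGroup.mk_mul]
      intro h
      exact ha2 ((QuotientGroup.eq_one_iff _).1 h)) (by
      have := pow_card_eq_one' (G := G ⧸ N) (x := x)
      rw [hcard] at this
      exact this)
    rw [this]
    norm_num
  have hcyc : IsCyclic (G ⧸ N) := isCyclic_of_orderOf_eq_card x (by rw [hx4, hcard])
  have e := zmodCyclicMulEquiv hcyc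
  rw [hcard] at e
  refine ⟨e.symm.toMonoidHom.comp (QuotientGroup.mk' N), e.symm.surjective.comp
    (QuotientGroup.mk'_surjective N), ?_⟩
  ext g
  rw [MonoidHom.mem_ker, MonoidHom.comp_apply]
  rw [show e.symm.toMonoidHom (QuotientGroup.mk' N g) = e.symm (QuotientGroup.mk' N g) from rfl,
    e.symm.map_eq_one_iff]
  exact QuotientGroup.eq_one_iff g

theorem exists_klein_hom {G : Type*} [Group G] (N : Subgroup G) [N.Normal]
    (hidx : N.index = 4) (a b : G) (ha : a ∉ N) (ha2 : a * a ∈ N) (hb : b ∉ N)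
    (hb2 : b * b ∈ N) (hab : a⁻¹ * b ∉ N) :
    ∃ φ : G →* Multiplicative (ZMod 2 × ZMod 2), Function.Surjective φ ∧ φ.ker = N := by
  have : N.FiniteIndex := ⟨by rw [hidx]; norm_num⟩
  have : Finite (G ⧸ N) := Subgroup.finite_quotient_of_finiteIndex
  have hcard : Nat.card (G ⧸ N) = 4 := by rw [← Subgroup.index_eq_card, hidx]
  set x : G ⧸ N := QuotientGroup.mk a with hx
  set y : G ⧸ N := QuotientGroup.mk b with hy
  have hx1 : x ≠ 1 := fun h => ha ((QuotientGroup.eq_one_iff _).1 h)
  have hy1 : y ≠ 1 := fun h => hb ((QuotientGroup.eq_one_iff _).1 h)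
  have hx2 : x * x = 1 := by
    rw [hx, ← QuotientGroup.mk_mul]; exact (QuotientGroup.eq_one_iff _).2 ha2
  have hy2 : y * y = 1 := by
    rw [hy, ← QuotientGroup.mk_mul]; exact (QuotientGroup.eq_one_iff _).2 hb2
  have hxy : x ≠ y := by
    intro h
    apply hab
    have : (QuotientGroup.mk a : G ⧸ N) = QuotientGroup.mk b := h
    exact QuotientGroup.eq.1 this
  -- no element of order four
  have hno4 : ∀ g : G ⧸ N, orderOf g ≠ 4 := by
    intro g hg
    have hcyc : IsCyclic (G ⧸ N) := isCyclic_of_orderOf_eq_card g (by rw [hg, hcard])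
    have hgen : ∀ z : G ⧸ N, z ∈ Subgroup.zpowers g := by
      intro z
      have htop : Subgroup.zpowers g = ⊤ := by
        rw [← Subgroup.card_eq_iff_eq_top, Nat.card_zpowers, hg, hcard]
      rw [htop]; trivial
    have key : ∀ z : G ⧸ N, z * z = 1 → z ≠ 1 → z = g ^ 2 := by
      intro z hz2 hz1
      obtain ⟨k, rfl⟩ := (Subgroup.mem_zpowers_iff).1 (hgen z)
      have h1 : g ^ (k + k) = 1 := by rw [zpow_add]; exact hz2
      have h3 : (orderOf g : ℤ) ∣ k + k := orderOf_dvd_iff_zpow_eq_one.2 h1
      rw [hg] at h3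
      have h5 : (2 : ℤ) ∣ k := by
        obtain ⟨c, hc⟩ := h3
        exact ⟨c, by push_cast at hc; omega⟩
      obtain ⟨j, rfl⟩ := h5
      rcases Int.even_or_odd j with ⟨i, hi⟩ | ⟨i, hi⟩
      · exfalso
        apply hz1
        have : (2 : ℤ) * j = (orderOf g : ℤ) * i := by rw [hg, hi]; push_cast; ring
        rw [this, zpow_mul, zpow_natCast, pow_orderOf_eq_one, one_zpow]
      · have : (2 : ℤ) * j = (orderOf g : ℤ) * i + 2 := by rw [hg, hi]; push_cast; ring
        rw [this, zpow_add, zpow_mul, zpow_natCast, pow_orderOf_eq_one, one_zpow, one_mul]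
        exact zpow_ofNat g 2
    exact hxy ((key x hx2 hx1).trans (key y hy2 hy1).symm)
  have hexp : ∀ g : G ⧸ N, g * g = 1 := by
    intro g
    have hdvd : orderOf g ∣ 4 := by rw [← hcard]; exact orderOf_dvd_natCard g
    have hle : orderOf g ≤ 4 := Nat.le_of_dvd (by norm_num) hdvd
    have h4 := hno4 g
    have hcases : orderOf g = 1 ∨ orderOf g = 2 := by
      have hpos : 0 < orderOf g := Nat.pos_of_dvd_of_pos hdvd (by norm_num)
      interval_cases h : orderOf g
      · left; rfl
      · right; rfl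
      · exfalso; revert hdvd; decide
      · exact absurd rfl h4
    rw [← pow_two]
    rcases hcases with h | h
    · rw [orderOf_eq_one_iff.1 h, one_pow]
    · rw [← h, pow_orderOf_eq_one]
  have hK : IsKleinFour (G ⧸ N) :=
    { card_four := hcard
      exponent_two := by
        apply Nat.dvd_antisymm
        · apply Monoid.exponent_dvd_of_forall_pow_eq_one
          intro g
          rw [pow_two]
          exact hexp g
        · have h := Monoid.order_dvd_exponent x
          have h2 : orderOf x = 2 := orderOf_eq_prime (by rw [pow_two]; exact hx2) hx1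
          rw [h2] at h
          exact h }
  obtain ⟨e⟩ := IsKleinFour.nonempty_mulEquiv (G₁ := G ⧸ N)
    (G₂ := Multiplicative (ZMod 2 × ZMod 2))
  refine ⟨e.toMonoidHom.comp (QuotientGroup.mk' N), e.surjective.comp
    (QuotientGroup.mk'_surjective N), ?_⟩
  ext g
  rw [MonoidHom.mem_ker, MonoidHom.comp_apply]
  rw [show e.toMonoidHom (QuotientGroup.mk' N g) = e (QuotientGroup.mk' N g) from rfl,
    e.map_eq_one_iff]
  exact QuotientGroup.eq_one_iff g

end Cfsg.Agent.Lib.Helper5.PGO
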