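import Mathlib
import Cfsg.Agent.Lib.Helper5.PGO15
import Cfsg.Agent.Lib.Helper5.PGO19

set_option autoImplicit false

/-! The image of the class preserving similarities (`det = μ^m`) in `Aut(PΩ)` and its index
over `Inn(PΩ)`. -/

namespace Cfsg.Agent.Lib.Helper5.PGO

open Matrix Cfsg.Agent.Lib.Helper2 Cfsg.Agent.Lib.Helper2.CDG Cfsg.Agent.Lib.Helper2.Spinor

section Gen

theorem exists_zmod2_hom {G : Type*} [Group G] (N : Subgroup G) [N.Normal]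
    (hidx : N.index = 2) :
    ∃ φ : G →* Multiplicative (ZMod 2), Function.Surjective φ ∧ φ.ker = N := by
  have : N.FiniteIndex := ⟨by rw [hidx]; norm_num⟩
  have : Finite (G ⧸ N) := Subgroup.finite_quotient_of_finiteIndex
  have hcard : Nat.card (G ⧸ N) = 2 := by rw [← Subgroup.index_eq_card, hidx]
  have hp : Fact (Nat.Prime 2) := ⟨Nat.prime_two⟩
  have hcyc : IsCyclic (G ⧸ N) := isCyclic_of_prime_card hcard
  have e := zmodCyclicMulEquiv hcyc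
  rw [hcard] at e
  refine ⟨e.symm.toMonoidHom.comp (QuotientGroup.mk' N), e.symm.surjective.comp
    (QuotientGroup.mk'_surjective N), ?_⟩
  ext g
  rw [MonoidHom.mem_ker, MonoidHom.comp_apply]
  rw [show e.symm.toMonoidHom (QuotientGroup.mk' N g) = e.symm (QuotientGroup.mk' N g) from rfl,
    e.symm.map_eq_one_iff]
  exact QuotientGroup.eq_one_iff g

variable {F : Type*} [Field F] {ι : Type} [Fintype ι] [DecidableEq ι]

/-- the subgroup generated by the automorphisms induced by class preserving similarities -/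
def inndiagQ (Q : (ι → F) → F) : Subgroup (MulAut (Cfsg.POmega F Q)) :=
  Cfsg.autSubgroupOf fun β => ∃ g : GL ι F, g ∈ Cfsg.Geo.quadSimilarityGroup (F := F) Q ∧
    Cfsg.PreservesSingularClasses Q (g : Matrix ι ι F) ∧
    Cfsg.IsInducedBySemilinearPOmega Q g (RingEquiv.refl F) β

theorem inndiagQ_eq (Q : (ι → F) → F) (P : Subgroup ↥(GO Q))
    (hP : ∀ g : ↥(GO Q),
      Cfsg.PreservesSingularClasses Q ((g : GL ι F) : Matrix ι ι F) ↔ g ∈ P) :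
    inndiagQ Q = P.map (Phi Q) := by
  unfold inndiagQ Cfsg.autSubgroupOf
  have : {β : MulAut (Cfsg.POmega F Q) | ∃ g : GL ι F,
      g ∈ Cfsg.Geo.quadSimilarityGroup (F := F) Q ∧
      Cfsg.PreservesSingularClasses Q (g : Matrix ι ι F) ∧
      Cfsg.IsInducedBySemilinearPOmega Q g (RingEquiv.refl F) β} =
      ((P.map (Phi Q) : Subgroup (MulAut (Cfsg.POmega F Q))) :
        Set (MulAut (Cfsg.POmega F Q))) := by
    ext β
    constructor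
    · rintro ⟨g, hg, hp, h⟩
      exact ⟨⟨g, hg⟩, (hP ⟨g, hg⟩).1 hp, ((induced_iff Q ⟨g, hg⟩ β).1 h).symm⟩
    · rintro ⟨g, hg, rfl⟩
      exact ⟨g, g.2, (hP g).2 hg, (induced_iff Q g _).2 rfl⟩
  rw [this, Subgroup.closure_eq]

end Gen

variable {F : Type*} [Field F] [Fintype F] [DecidableEq F] {ι : Type} [Fintype ι] [DecidableEq ι]
variable {Q : QuadraticForm F (ι → F)}

/-- the similarities with `det = μ^m` -/
noncomputable def GOp (Q : QuadraticForm F (ι → F)) (hQ0 : ∃ v, Q v ≠ 0) (m : ℕ) :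
    Subgroup ↥(GO (⇑Q)) := (epsHom Q hQ0 m).ker

/-- their image in `Aut(PΩ)` -/
noncomputable def idg (Q : QuadraticForm F (ι → F)) (hQ0 : ∃ v, Q v ≠ 0) (m : ℕ) :
    Subgroup (MulAut (Cfsg.POmega F (⇑Q))) := (GOp Q hQ0 m).map (Phi (⇑Q))

theorem chi2_ker (hQ : (QuadraticMap.polarBilin Q).Nondegenerate) (hQ0 : ∃ v, Q v ≠ 0)
    {m : ℕ} (hm : Fintype.card ι = 2 * m) (h2 : (2 : F) ≠ 0) :
    (chi2 hQ hQ0 hm h2).ker = GOp Q hQ0 m := by
  ext g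
  rw [MonoidHom.mem_ker, chi2_eq_one_iff]
  rfl

theorem idg_le_pgo (hQ0 : ∃ v, Q v ≠ 0) (m : ℕ) : idg Q hQ0 m ≤ Cfsg.pgoAut F (⇑Q) := by
  rw [pgoAut_eq]
  rintro _ ⟨g, -, rfl⟩
  exact ⟨g, rfl⟩

theorem pso_le_idg (hQ : (QuadraticMap.polarBilin Q).Nondegenerate) (hQ0 : ∃ v, Q v ≠ 0)
    {m : ℕ} (hm : Fintype.card ι = 2 * m) (h2 : (2 : F) ≠ 0) :
    Cfsg.psoAut F (⇑Q) ≤ idg Q hQ0 m := by
  rw [psoAut_eq]
  apply Subgroup.map_mono
  intro g hg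
  have := SO_le_chi_ker hQ hQ0 hm h2 hg
  rw [mem_chi_ker] at this
  exact this.2

theorem inn_le_idg (hQ : (QuadraticMap.polarBilin Q).Nondegenerate) (hQ0 : ∃ v, Q v ≠ 0)
    {m : ℕ} (hm : Fintype.card ι = 2 * m) (h2 : (2 : F) ≠ 0) (hn : 2 ≤ Fintype.card ι) :
    Cfsg.Inn (Cfsg.POmega F (⇑Q)) ≤ idg Q hQ0 m :=
  (inn_le_pso hQ h2 hn).trans (pso_le_idg hQ hQ0 hm h2)

theorem relIndex_idg_pgo (hQ : (QuadraticMap.polarBilin Q).Nondegenerate) (hQ0 : ∃ v, Q v ≠ 0)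
    {m : ℕ} (hm : Fintype.card ι = 2 * m) (h2 : (2 : F) ≠ 0) (hn : 7 ≤ Fintype.card ι)
    (hsurj : Function.Surjective (chi hQ hQ0 hm h2)) :
    (idg Q hQ0 m).relIndex (Cfsg.pgoAut F (⇑Q)) = 2 := by
  have hs2 : Function.Surjective (chi2 hQ hQ0 hm h2) := by
    intro u
    obtain ⟨g, hg⟩ := hsurj (1, u)
    refine ⟨g, ?_⟩
    have := congrArg Prod.snd hg
    exact this
  have hk : (Phi (⇑Q)).ker ≤ (chi2 hQ hQ0 hm h2).ker := by
    intro g hg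
    have := ker_le_chi_ker hQ hQ0 hm h2 hn hg
    rw [mem_chi_ker] at this
    rw [MonoidHom.mem_ker, chi2_eq_one_iff]
    exact this.2
  obtain ⟨φ, hφs, -, hφk⟩ := exists_lift_range (Phi (⇑Q)) (chi2 hQ hQ0 hm h2) hs2 hk
  rw [chi2_ker] at hφk
  rw [pgoAut_eq]
  show ((idg Q hQ0 m).subgroupOf (Phi (⇑Q)).range).index = 2
  unfold idg
  rw [← hφk, Subgroup.index_ker, MonoidHom.range_eq_top.2 hφs,
    Nat.card_congr (Subgroup.topEquiv (G := ℤˣ)).toEquiv, Nat.card_eq_fintype_card,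
    Fintype.card_units_int]

theorem relIndex_inn_idg_of_mem (hQ : (QuadraticMap.polarBilin Q).Nondegenerate)
    (hQ0 : ∃ v, Q v ≠ 0) {m : ℕ} (hm : Fintype.card ι = 2 * m) (h2 : (2 : F) ≠ 0)
    (hn : 7 ≤ Fintype.card ι) (hsurj : Function.Surjective (chi hQ hQ0 hm h2))
    (hneg : negOne Q ∈ commutator ↥(Cfsg.isometryGroup F ⇑Q)) :
    (Cfsg.Inn (Cfsg.POmega F (⇑Q))).relIndex (idg Q hQ0 m) = 4 := by
  have h1 := Subgroup.relIndex_mul_relIndex (Cfsg.Inn (Cfsg.POmega F (⇑Q))) (idg Q hQ0 m)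
    (Cfsg.pgoAut F (⇑Q)) (inn_le_idg hQ hQ0 hm h2 (by omega)) (idg_le_pgo hQ0 m)
  have h8 : (Cfsg.Inn (Cfsg.POmega F (⇑Q))).relIndex (Cfsg.pgoAut F (⇑Q)) = 8 :=
    index_inn hQ hQ0 hm h2 hn hsurj hneg
  rw [relIndex_idg_pgo hQ hQ0 hm h2 hn hsurj, h8] at h1
  omega

theorem relIndex_inn_idg_of_not_mem (hQ : (QuadraticMap.polarBilin Q).Nondegenerate)
    (hQ0 : ∃ v, Q v ≠ 0) {m : ℕ} (hm : Fintype.card ι = 2 * m) (h2 : (2 : F) ≠ 0)
    (hn : 7 ≤ Fintype.card ι) (hsurj : Function.Surjective (chi hQ hQ0 hm h2))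
    (hneg : negOne Q ∉ commutator ↥(Cfsg.isometryGroup F ⇑Q)) :
    (Cfsg.Inn (Cfsg.POmega F (⇑Q))).relIndex (idg Q hQ0 m) = 2 := by
  have heq : Cfsg.Inn (Cfsg.POmega F (⇑Q)) = Cfsg.psoAut F (⇑Q) := by
    apply le_antisymm (inn_le_pso hQ h2 (by omega))
    have := relIndex_of_not_mem h2 hQ (by omega) (by rw [hm]; exact even_two_mul m) hneg
    exact Subgroup.relIndex_eq_one.1 this
  have h1 := Subgroup.relIndex_mul_relIndex (Cfsg.Inn (Cfsg.POmega F (⇑Q))) (idg Q hQ0 m)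
    (Cfsg.pgoAut F (⇑Q)) (inn_le_idg hQ hQ0 hm h2 (by omega)) (idg_le_pgo hQ0 m)
  have h4 : (Cfsg.Inn (Cfsg.POmega F (⇑Q))).relIndex (Cfsg.pgoAut F (⇑Q)) = 4 := by
    rw [heq]
    exact index_pso hQ hQ0 hm h2 hn hsurj
  rw [relIndex_idg_pgo hQ hQ0 hm h2 hn hsurj, h4] at h1
  omega

end Cfsg.Agent.Lib.Helper5.PGO
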