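import Mathlib
import Cfsg.Agent.Lib.Helper5.OmegaAdjust
import Cfsg.Agent.Lib.Helper5.PGO6
import Cfsg.Agent.Lib.Helper2.Witt3

set_option autoImplicit false

/-! The two parity classes of Lagrangians (maximal totally singular subspaces of a hyperbolic
quadratic space) in odd characteristic, and their behaviour under isometries and
similarities. -/

namespace Cfsg.Agent.Lib.Helper5.PGO

open Matrix Module Cfsg.Agent.Lib.Helper2 Cfsg.Agent.Lib.Helper2.CDG
open Cfsg.Agent.Lib.Helper2.ReflGen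
open Cfsg.Agent.Lib.Helper5.OmegaCrit Cfsg.Agent.Lib.Helper5.MaxTS Cfsg.Agent.Lib.Helper5.OmegaAdjust

variable {F : Type*} [Field F] [Fintype F] {ι : Type} [Fintype ι] [DecidableEq ι]
variable {Q : QuadraticForm F (ι → F)}

/-- the parity relation on subspaces -/
def par (U W : Submodule F (ι → F)) : Prop := Even (finrank F ↥U - finrank F ↥(U ⊓ W))

theorem det_prod_refl (vs : List (ι → F)) (hvs : ∀ v ∈ vs, Q v ≠ 0) :
    ((vs.map (fun v => Cfsg.reflectionMatrix ⇑Q v)).prod).det = (-1) ^ vs.length := by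
  induction vs with
  | nil => simp
  | cons v vs ih =>
    rw [List.map_cons, List.prod_cons, Matrix.det_mul, ih (fun w hw => hvs w (List.mem_cons_of_mem _ hw)),
      (reflection_facts Q v (hvs v List.mem_cons_self)).2.2.2, List.length_cons, pow_succ]
    ring

/-- an isometry preserves the class of a Lagrangian iff it has determinant one -/
theorem par_act_iff (h2 : (2 : F) ≠ 0) (hQ : (QuadraticMap.polarBilin Q).Nondegenerate)
    (hn : 2 ≤ Fintype.card ι) {E : Submodule F (ι → F)} (hE : IsLag Q E)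
    (h : ↥(Cfsg.isometryGroup F ⇑Q)) :
    par E (act h E) ↔ ((h : GL ι F) : Matrix ι ι F).det = 1 := by
  have hex : Fintype.card F ≠ 2 ∨ Fintype.card ι ≠ 4 := by
    left
    intro h
    apply h2
    have := Nat.cast_card_eq_zero F
    rw [h] at this
    exact_mod_cast this
  obtain ⟨vs, hvs, hh⟩ := exists_list (closure_R_all hQ hex hn) h
  unfold par act
  rw [even_sub_iff hQ hE vs hvs h hh, hh, det_prod_refl vs hvs]
  constructor
  · intro he
    exact he.neg_one_pow
  · intro h1
    by_contra hodd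
    rw [Nat.not_even_iff_odd] at hodd
    rw [hodd.neg_one_pow] at h1
    apply h2
    linear_combination -h1

theorem hex_of_two_ne (h2 : (2 : F) ≠ 0) (n : ℕ) : Fintype.card F ≠ 2 ∨ n ≠ 4 := by
  left
  intro h
  apply h2
  have := Nat.cast_card_eq_zero F
  rw [h] at this
  exact_mod_cast this

theorem det_iso_pm (h2 : (2 : F) ≠ 0) (hQ : (QuadraticMap.polarBilin Q).Nondegenerate)
    (hn : 2 ≤ Fintype.card ι) (k : ↥(Cfsg.isometryGroup F ⇑Q)) :
    ((k : GL ι F) : Matrix ι ι F).det = 1 ∨ ((k : GL ι F) : Matrix ι ι F).det = -1 := by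
  obtain ⟨vs, hvs, hh⟩ := exists_list (closure_R_all hQ (hex_of_two_ne h2 _) hn) k
  rw [hh, det_prod_refl vs hvs]
  rcases Nat.even_or_odd vs.length with he | ho
  · left; exact he.neg_one_pow
  · right; exact ho.neg_one_pow

/-- isometries act transitively on Lagrangians (Witt) -/
theorem exists_act_eq (hQ : (QuadraticMap.polarBilin Q).Nondegenerate)
    {U W : Submodule F (ι → F)} (hU : IsLag Q U) (hW : IsLag Q W) :
    ∃ h : ↥(Cfsg.isometryGroup F ⇑Q), act h U = W := by
  have hdim : finrank F ↥U = finrank F ↥W := by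
    have h1 := hU.dim
    have h3 := hW.dim
    omega
  set φ : ↥U ≃ₗ[F] ↥W := LinearEquiv.ofFinrankEq U W hdim with hφ
  obtain ⟨g, hg1, hg2⟩ := Witt.witt_equiv Q hQ U W φ
    (fun x => by rw [hU.ts _ x.2, hW.ts _ (φ x).2])
  obtain ⟨g₀, hg₀⟩ := exists_iso_of_linearEquiv g hg1
  exact ⟨g₀, act_eq_of_extends g₀ U W φ (fun x => by rw [hg₀, hg2])⟩

theorem isLag_act {E : Submodule F (ι → F)} (hE : IsLag Q E) (g : ↥(Cfsg.isometryGroup F ⇑Q)) :
    IsLag Q (act g E) := hE.map_iso g

/-- the parity relation is an equivalence relation with at most two classes on Lagrangians -/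
theorem par_trans_iff (h2 : (2 : F) ≠ 0) (hQ : (QuadraticMap.polarBilin Q).Nondegenerate)
    (hn : 2 ≤ Fintype.card ι) {U W W' : Submodule F (ι → F)} (hU : IsLag Q U) (hW : IsLag Q W)
    (hW' : IsLag Q W') : par U W' ↔ (par U W ↔ par W W') := by
  obtain ⟨k₁, hk₁⟩ := exists_act_eq hQ hU hW
  obtain ⟨k₂, hk₂⟩ := exists_act_eq hQ hW hW'
  subst hk₁
  subst hk₂
  rw [par_act_iff h2 hQ hn hW, par_act_iff h2 hQ hn hU, ← act_mul,
    par_act_iff h2 hQ hn hU, Subgroup.coe_mul, Units.val_mul, Matrix.det_mul]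
  rcases det_iso_pm h2 hQ hn k₁ with h1 | h1 <;> rcases det_iso_pm h2 hQ hn k₂ with h3 | h3 <;>
    rw [h1, h3]
  · simp
  · have : (-1 : F) ≠ 1 := fun h => h2 (by linear_combination -h)
    simp [this]
  · have : (-1 : F) ≠ 1 := fun h => h2 (by linear_combination -h)
    simp [this]
  · have : (-1 : F) ≠ 1 := fun h => h2 (by linear_combination -h)
    simp [this]

theorem map_mulVecLin_mul (A B : Matrix ι ι F) (U : Submodule F (ι → F)) :
    U.map (Matrix.mulVecLin (A * B)) = (U.map (Matrix.mulVecLin B)).map (Matrix.mulVecLin A) := by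
  rw [Matrix.mulVecLin_mul, Submodule.map_comp]

/-- a similarity stabilising one Lagrangian preserves the parity class of every Lagrangian -/
theorem par_sim (h2 : (2 : F) ≠ 0) (hQ : (QuadraticMap.polarBilin Q).Nondegenerate)
    (hn : 2 ≤ Fintype.card ι) (d : ↥(GO (⇑Q))) {E₀ : Submodule F (ι → F)} (hE₀ : IsLag Q E₀)
    (hdE : E₀.map (Matrix.mulVecLin ((d : GL ι F) : Matrix ι ι F)) = E₀)
    {W : Submodule F (ι → F)} (hW : IsLag Q W) :
    par W (W.map (Matrix.mulVecLin ((d : GL ι F) : Matrix ι ι F))) := by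
  obtain ⟨k, hk⟩ := exists_act_eq hQ hE₀ hW
  set k' := conjO (⇑Q) d k with hk'
  have hdinv : E₀.map (Matrix.mulVecLin (((d : GL ι F)⁻¹ : GL ι F) : Matrix ι ι F)) = E₀ := by
    conv_lhs => rw [← hdE]
    rw [← map_mulVecLin_mul, ← Units.val_mul, inv_mul_cancel, Units.val_one, Matrix.mulVecLin_one,
      Submodule.map_id]
  have h1 : act (k' * k⁻¹) W = W.map (Matrix.mulVecLin ((d : GL ι F) : Matrix ι ι F)) := by
    rw [← hk, ← act_mul, inv_mul_cancel_right]
    unfold act
    have : ((k' : GL ι F) : Matrix ι ι F) = ((d : GL ι F) : Matrix ι ι F) *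
        ((k : GL ι F) : Matrix ι ι F) * (((d : GL ι F)⁻¹ : GL ι F) : Matrix ι ι F) := by
      rw [hk', conjO_coe]
      rfl
    rw [this, map_mulVecLin_mul, hdinv, map_mulVecLin_mul]
  rw [← h1, par_act_iff h2 hQ hn hW]
  have hdet : ((k' : GL ι F) : Matrix ι ι F).det = ((k : GL ι F) : Matrix ι ι F).det := by
    rw [hk', conjO_coe, Units.val_mul, Units.val_mul, Matrix.det_mul, Matrix.det_mul,
      mul_comm, ← mul_assoc, ← Matrix.det_mul, ← Units.val_mul, inv_mul_cancel, Units.val_one,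
      Matrix.det_one, one_mul]
  rw [Subgroup.coe_mul, Units.val_mul, Matrix.det_mul, hdet, ← Matrix.det_mul, ← Units.val_mul,
    ← Subgroup.coe_mul, mul_inv_cancel]
  simp

end Cfsg.Agent.Lib.Helper5.PGO
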