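import Mathlib
import Cfsg.Agent.Lib.Helper5.PGO17
import Cfsg.Agent.Lib.Helper5.PGO12
import Cfsg.Agent.Lib.Helper5.WittIndex

set_option autoImplicit false

/-! For the plus type form: a similarity preserves the two classes of maximal totally singular
subspaces iff `det = μ^m`. -/

namespace Cfsg.Agent.Lib.Helper5.PGO

open Matrix Module Cfsg.Agent.Lib.Helper2 Cfsg.Agent.Lib.Helper2.CDG
open Cfsg.Agent.Lib.Helper5.QuadGlue Cfsg.Agent.Lib.Helper2.QuadStd
open Cfsg.Agent.Lib.Helper5.OmegaCrit Cfsg.Agent.Lib.Helper5.MaxTS Cfsg.Agent.Lib.Helper5.OmegaAdjust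

variable {F : Type*} [Field F] [Fintype F] {ι : Type} [Fintype ι] [DecidableEq ι]
variable {Q : QuadraticForm F (ι → F)}

theorem mulVecLin_injective_GL (g : GL ι F) :
    Function.Injective (Matrix.mulVecLin (g : Matrix ι ι F)) := by
  intro x y h
  have := congrArg (fun z => ((g⁻¹ : GL ι F) : Matrix ι ι F) *ᵥ z) h
  simp only [Matrix.mulVecLin_apply, Matrix.mulVec_mulVec] at this
  rw [← Units.val_mul, inv_mul_cancel, Units.val_one, Matrix.one_mulVec, Matrix.one_mulVec] at this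
  exact this

theorem finrank_map_GL (g : GL ι F) (U : Submodule F (ι → F)) :
    finrank F ↥(U.map (Matrix.mulVecLin (g : Matrix ι ι F))) = finrank F ↥U :=
  (LinearEquiv.finrank_eq (Submodule.equivMapOfInjective _ (mulVecLin_injective_GL g) U)).symm

/-- a similarity maps Lagrangians to Lagrangians -/
theorem isLag_map_sim (d : ↥(GO (⇑Q))) {U : Submodule F (ι → F)} (hU : IsLag Q U) :
    IsLag Q (U.map (Matrix.mulVecLin ((d : GL ι F) : Matrix ι ι F))) where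
  ts := by
    rintro _ ⟨y, hy, rfl⟩
    rw [Matrix.mulVecLin_apply, mu_spec (⇑Q) d, hU.ts y hy, mul_zero]
  dim := by
    rw [finrank_map_GL]
    exact hU.dim

theorem dnu_Estd (m : ℕ) (ν : Fˣ) :
    (Estd m F).map (Matrix.mulVecLin ((dnu m ν : GL (Fin m ⊕ Fin m) F) :
      Matrix (Fin m ⊕ Fin m) (Fin m ⊕ Fin m) F)) = Estd m F := by
  apply Submodule.eq_of_le_of_finrank_eq
  · rintro _ ⟨w, hw, rfl⟩
    have hw' : w ∈ Estd m F := hw
    rw [mem_Estd] at hw' ⊢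
    rename' hw' => hw0
    intro i
    rw [Matrix.mulVecLin_apply, dnu_coe, Matrix.mulVec_diagonal, hw0 i, mul_zero]
  · rw [finrank_map_GL]

/-- the parity criterion for similarities of the plus type form -/
theorem par_GO_iff {m : ℕ} (hm : 1 ≤ m) (h2 : (2 : F) ≠ 0) (g : ↥(GO (⇑(QP m F))))
    {U : Submodule F (Fin m ⊕ Fin m → F)} (hU : IsLag (QP m F) U) :
    par U (U.map (Matrix.mulVecLin ((g : GL (Fin m ⊕ Fin m) F) :
      Matrix (Fin m ⊕ Fin m) (Fin m ⊕ Fin m) F))) ↔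
      epsHom (QP m F) (QP_ne_zero hm) m g = 1 := by
  have hQ := QP_nondeg (F := F) m
  have hn : 2 ≤ Fintype.card (Fin m ⊕ Fin m) := by rw [card_plus]; omega
  set μ := mu (⇑(QP m F)) g with hμ
  set d : ↥(GO (⇑(QP m F))) := ⟨dnu m μ, dnu_mem m μ⟩ with hd
  have hmud : mu (⇑(QP m F)) d = μ := Units.ext (mu_unique (QP_ne_zero hm) d μ (dnu_sim m μ))
  have hmuh : mu (⇑(QP m F)) (d⁻¹ * g) = 1 := by
    have := map_mul (muHom (⇑(QP m F)) (QP_ne_zero hm)) d⁻¹ g
    rw [map_inv] at this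
    simp only [muHom_apply] at this
    rw [this, hmud, ← hμ, inv_mul_cancel]
  have hiso : ((d⁻¹ * g : ↥(GO (⇑(QP m F)))) : GL (Fin m ⊕ Fin m) F) ∈
      Cfsg.isometryGroup F (⇑(QP m F)) := by
    rw [mem_iso_iff]
    intro v
    rw [mu_spec (⇑(QP m F)) (d⁻¹ * g) v, hmuh, Units.val_one, one_mul]
  set hO : ↥(Cfsg.isometryGroup F (⇑(QP m F))) := ⟨_, hiso⟩ with hhO
  have hg : ((g : GL (Fin m ⊕ Fin m) F) : Matrix (Fin m ⊕ Fin m) (Fin m ⊕ Fin m) F) =
      ((d : GL (Fin m ⊕ Fin m) F) : Matrix (Fin m ⊕ Fin m) (Fin m ⊕ Fin m) F) *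
        ((hO : GL (Fin m ⊕ Fin m) F) : Matrix (Fin m ⊕ Fin m) (Fin m ⊕ Fin m) F) := by
    rw [← Units.val_mul]
    congr 1
    show (g : GL (Fin m ⊕ Fin m) F) = (d : GL (Fin m ⊕ Fin m) F) *
      ((d⁻¹ * g : ↥(GO (⇑(QP m F)))) : GL (Fin m ⊕ Fin m) F)
    rw [← Subgroup.coe_mul, mul_inv_cancel_left]
  have hmap : U.map (Matrix.mulVecLin ((g : GL (Fin m ⊕ Fin m) F) :
      Matrix (Fin m ⊕ Fin m) (Fin m ⊕ Fin m) F)) =
      (act hO U).map (Matrix.mulVecLin ((d : GL (Fin m ⊕ Fin m) F) :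
        Matrix (Fin m ⊕ Fin m) (Fin m ⊕ Fin m) F)) := by
    rw [hg, map_mulVecLin_mul]
    rfl
  have hL1 : IsLag (QP m F) (act hO U) := isLag_act hU hO
  have hL2 := isLag_map_sim d hL1
  have hps := par_sim h2 hQ hn d (isLag_Estd m) (dnu_Estd m μ) hL1
  rw [hmap, par_trans_iff h2 hQ hn hU hL1 hL2, iff_true_right hps, par_act_iff h2 hQ hn hU]
  -- determinants
  have hdetg : ((g : GL (Fin m ⊕ Fin m) F) : Matrix (Fin m ⊕ Fin m) (Fin m ⊕ Fin m) F).det =
      (μ : F) ^ m * ((hO : GL (Fin m ⊕ Fin m) F) :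
        Matrix (Fin m ⊕ Fin m) (Fin m ⊕ Fin m) F).det := by
    rw [hg, Matrix.det_mul]
    congr 1
    exact dnu_det m μ
  rw [epsHom_apply, ← hμ, mul_inv_eq_one, ← Units.val_inj, detGO_coe, hdetg,
    Units.val_pow_eq_pow_val]
  constructor
  · intro h
    rw [h, mul_one]
  · intro h
    have hμ0 : (μ : F) ^ m ≠ 0 := pow_ne_zero _ μ.ne_zero
    apply mul_left_cancel₀ hμ0
    rw [h, mul_one]

/-- Lagrangians of the plus type form are maximal totally singular -/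
theorem max_of_lag {m : ℕ} {U : Submodule F (Fin m ⊕ Fin m → F)} (hU : IsLag (QP m F) U) :
    Cfsg.IsMaxTotallySingular (Cfsg.quadFormPlus m F) U := by
  refine ⟨fun w hw => by rw [← QP_apply]; exact hU.ts w hw, fun W hW hUW => ?_⟩
  have h1 := Cfsg.Agent.Lib.Helper5.finrank_le_of_totallySingular_plus W hW
  have h3 := hU.dim
  rw [card_plus] at h3
  exact (Submodule.eq_of_le_of_finrank_le hUW (by omega)).symm

/-- maximal totally singular subspaces of the plus type form are Lagrangians (Witt) -/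
theorem lag_of_max {m : ℕ} {U : Submodule F (Fin m ⊕ Fin m → F)}
    (hU : Cfsg.IsMaxTotallySingular (Cfsg.quadFormPlus m F) U) : IsLag (QP m F) U := by
  have hQ := QP_nondeg (F := F) m
  have hts : IsTS (QP m F) U := fun u hu => by rw [QP_apply]; exact hU.1 u hu
  have hle : finrank F ↥U ≤ finrank F ↥(Estd m F) := by
    rw [finrank_Estd]
    exact Cfsg.Agent.Lib.Helper5.finrank_le_of_totallySingular_plus U hU.1
  obtain ⟨j, hj⟩ := (finrank_le_iff_exists_linearMap (R := F)).1 hle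
  obtain ⟨α, hα⟩ := LinearMap.exists_extend ((Estd m F).subtype ∘ₗ j)
  have hαx : ∀ x : ↥U, α (x : Fin m ⊕ Fin m → F) = (j x : Fin m ⊕ Fin m → F) := by
    intro x
    have := LinearMap.congr_fun hα x
    simpa using this
  obtain ⟨g, hg1, hg2⟩ := Witt.witt (QP m F) hQ U α
    (fun x hx => by
      rw [hαx ⟨x, hx⟩, hts x hx, (isLag_Estd m).ts _ (j ⟨x, hx⟩).2])
    (fun x hx h0 => by
      rw [hαx ⟨x, hx⟩] at h0
      have h1 : j ⟨x, hx⟩ = 0 := Subtype.ext h0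
      have h3 : (⟨x, hx⟩ : ↥U) = 0 := hj (by rw [h1, map_zero])
      exact congrArg Subtype.val h3)
  obtain ⟨g₀, hg₀⟩ := exists_iso_of_linearEquiv g hg1
  have hL : IsLag (QP m F) (act g₀⁻¹ (Estd m F)) := isLag_act (isLag_Estd m) g₀⁻¹
  have hUW : U ≤ act g₀⁻¹ (Estd m F) := by
    intro x hx
    rw [mem_act]
    refine ⟨((g₀ : GL (Fin m ⊕ Fin m) F) : Matrix (Fin m ⊕ Fin m) (Fin m ⊕ Fin m) F) *ᵥ x, ?_, ?_⟩
    · rw [hg₀, hg2 x hx, hαx ⟨x, hx⟩]
      exact (j ⟨x, hx⟩).2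
    · rw [← mul_mulVec, inv_mul_cancel, one_mulVec']
  have := hU.2 _ (fun w hw => by rw [← QP_apply]; exact hL.ts w hw) hUW
  rw [← this]
  exact hL

theorem isMax_iff_isLag {m : ℕ} (U : Submodule F (Fin m ⊕ Fin m → F)) :
    Cfsg.IsMaxTotallySingular (Cfsg.quadFormPlus m F) U ↔ IsLag (QP m F) U :=
  ⟨lag_of_max, max_of_lag⟩

/-- a similarity of the plus type form preserves the two classes of maximal totally singular
subspaces iff `det = μ^m` -/
theorem preserves_iff {m : ℕ} (hm : 1 ≤ m) (h2 : (2 : F) ≠ 0) (g : ↥(GO (⇑(QP m F)))) :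
    Cfsg.PreservesSingularClasses (Cfsg.quadFormPlus m F)
      ((g : GL (Fin m ⊕ Fin m) F) : Matrix (Fin m ⊕ Fin m) (Fin m ⊕ Fin m) F) ↔
      epsHom (QP m F) (QP_ne_zero hm) m g = 1 := by
  constructor
  · intro h
    have := h (Estd m F) (max_of_lag (isLag_Estd m))
    exact (par_GO_iff hm h2 g (isLag_Estd m)).1 this
  · intro h U hU
    exact (par_GO_iff hm h2 g (lag_of_max hU)).2 h

end Cfsg.Agent.Lib.Helper5.PGO
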