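import Mathlib
import Cfsg.Agent.Lib.Helper5.PGO18

set_option autoImplicit false

/-! General forms with a Lagrangian: maximal totally singular subspaces are the Lagrangians,
and a similarity whose multiplier is a square preserves the classes iff `det = μ^n`. -/

namespace Cfsg.Agent.Lib.Helper5.PGO

open Matrix Module Cfsg.Agent.Lib.Helper2 Cfsg.Agent.Lib.Helper2.CDG
open Cfsg.Agent.Lib.Helper5.OmegaCrit Cfsg.Agent.Lib.Helper5.MaxTS Cfsg.Agent.Lib.Helper5.OmegaAdjust

variable {F : Type*} [Field F] [Fintype F] {ι : Type} [Fintype ι] [DecidableEq ι]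
variable {Q : QuadraticForm F (ι → F)}

omit [Fintype F] in
/-- totally singular subspaces have at most half the dimension -/
theorem IsTS.finrank_le (hQ : (QuadraticMap.polarBilin Q).Nondegenerate)
    {U : Submodule F (ι → F)} (hU : IsTS Q U) : 2 * finrank F ↥U ≤ Fintype.card ι := by
  have hle : U ≤ LinearMap.BilinForm.orthogonal (QuadraticMap.polarBilin Q) U := by
    intro y hy u hu
    exact hU.polar hu hy
  have hfr := LinearMap.BilinForm.finrank_orthogonal hQ U
  rw [Module.finrank_fintype_fun_eq_card] at hfr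
  have h1 := Submodule.finrank_mono hle
  have h3 : finrank F ↥U ≤ Fintype.card ι := by
    rw [← Module.finrank_fintype_fun_eq_card (R := F)]
    exact Submodule.finrank_le U
  omega

omit [Fintype F] in
theorem max_of_lag_gen (hQ : (QuadraticMap.polarBilin Q).Nondegenerate)
    {U : Submodule F (ι → F)} (hU : IsLag Q U) : Cfsg.IsMaxTotallySingular (⇑Q) U := by
  refine ⟨fun w hw => hU.ts w hw, fun W hW hUW => ?_⟩
  have h1 := IsTS.finrank_le hQ (U := W) (fun w hw => hW w hw)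
  have h3 := hU.dim
  exact (Submodule.eq_of_le_of_finrank_le hUW (by omega)).symm

/-- given one Lagrangian, every maximal totally singular subspace is a Lagrangian (Witt) -/
theorem lag_of_max_gen (hQ : (QuadraticMap.polarBilin Q).Nondegenerate)
    {E₀ : Submodule F (ι → F)} (hE₀ : IsLag Q E₀) {U : Submodule F (ι → F)}
    (hU : Cfsg.IsMaxTotallySingular (⇑Q) U) : IsLag Q U := by
  have hts : IsTS Q U := fun u hu => hU.1 u hu
  have hle : finrank F ↥U ≤ finrank F ↥E₀ := by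
    have h1 := IsTS.finrank_le hQ hts
    have h3 := hE₀.dim
    omega
  obtain ⟨j, hj⟩ := (finrank_le_iff_exists_linearMap (R := F)).1 hle
  obtain ⟨α, hα⟩ := LinearMap.exists_extend (E₀.subtype ∘ₗ j)
  have hαx : ∀ x : ↥U, α (x : ι → F) = (j x : ι → F) := by
    intro x
    have := LinearMap.congr_fun hα x
    simpa using this
  obtain ⟨g, hg1, hg2⟩ := Witt.witt Q hQ U α
    (fun x hx => by
      rw [hαx ⟨x, hx⟩, hts x hx, hE₀.ts _ (j ⟨x, hx⟩).2])
    (fun x hx h0 => by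
      rw [hαx ⟨x, hx⟩] at h0
      have h1 : j ⟨x, hx⟩ = 0 := Subtype.ext h0
      have h3 : (⟨x, hx⟩ : ↥U) = 0 := hj (by rw [h1, map_zero])
      exact congrArg Subtype.val h3)
  obtain ⟨g₀, hg₀⟩ := exists_iso_of_linearEquiv g hg1
  have hL : IsLag Q (act g₀⁻¹ E₀) := isLag_act hE₀ g₀⁻¹
  have hUW : U ≤ act g₀⁻¹ E₀ := by
    intro x hx
    rw [mem_act]
    refine ⟨((g₀ : GL ι F) : Matrix ι ι F) *ᵥ x, ?_, ?_⟩
    · rw [hg₀, hg2 x hx, hαx ⟨x, hx⟩]
      exact (j ⟨x, hx⟩).2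
    · rw [← mul_mulVec, inv_mul_cancel, one_mulVec']
  have := hU.2 _ (fun w hw => hL.ts w hw) hUW
  rw [← this]
  exact hL

theorem isMax_iff_isLag_gen (hQ : (QuadraticMap.polarBilin Q).Nondegenerate)
    {E₀ : Submodule F (ι → F)} (hE₀ : IsLag Q E₀) (U : Submodule F (ι → F)) :
    Cfsg.IsMaxTotallySingular (⇑Q) U ↔ IsLag Q U :=
  ⟨lag_of_max_gen hQ hE₀, max_of_lag_gen hQ⟩

omit [Fintype F] in
theorem map_scal (c : Fˣ) (U : Submodule F (ι → F)) :
    U.map (Matrix.mulVecLin ((scalHom c : GL ι F) : Matrix ι ι F)) = U := by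
  ext x
  rw [Submodule.mem_map]
  constructor
  · rintro ⟨y, hy, rfl⟩
    rw [Matrix.mulVecLin_apply, scalHom_mulVec]
    exact U.smul_mem _ hy
  · intro hx
    refine ⟨(c⁻¹ : Fˣ).val • x, U.smul_mem _ hx, ?_⟩
    rw [Matrix.mulVecLin_apply, scalHom_mulVec, smul_smul, ← Units.val_mul, mul_inv_cancel,
      Units.val_one, one_smul]

/-- the parity criterion for a similarity whose multiplier is a square -/
theorem par_GO_iff_sq (hQ : (QuadraticMap.polarBilin Q).Nondegenerate) (hQ0 : ∃ v, Q v ≠ 0)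
    {n : ℕ} (hcard : Fintype.card ι = 2 * n) (hn : 2 ≤ Fintype.card ι) (h2 : (2 : F) ≠ 0)
    (g : ↥(GO (⇑Q))) (c : Fˣ) (hc : mu (⇑Q) g = c * c)
    {U : Submodule F (ι → F)} (hU : IsLag Q U) :
    par U (U.map (Matrix.mulVecLin ((g : GL ι F) : Matrix ι ι F))) ↔
      epsHom Q hQ0 n g = 1 := by
  set d : ↥(GO (⇑Q)) := scalGO Q c with hd
  have hmud : mu (⇑Q) d = c * c := mu_scal hQ0 c
  have hmuh : mu (⇑Q) (d⁻¹ * g) = 1 := by
    have := map_mul (muHom (⇑Q) hQ0) d⁻¹ g
    rw [map_inv] at this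
    simp only [muHom_apply] at this
    rw [this, hmud, hc, inv_mul_cancel]
  have hiso : ((d⁻¹ * g : ↥(GO (⇑Q))) : GL ι F) ∈ Cfsg.isometryGroup F (⇑Q) := by
    rw [mem_iso_iff]
    intro v
    rw [mu_spec (⇑Q) (d⁻¹ * g) v, hmuh, Units.val_one, one_mul]
  set hO : ↥(Cfsg.isometryGroup F (⇑Q)) := ⟨_, hiso⟩ with hhO
  have hg : ((g : GL ι F) : Matrix ι ι F) =
      ((d : GL ι F) : Matrix ι ι F) * ((hO : GL ι F) : Matrix ι ι F) := by
    rw [← Units.val_mul]
    congr 1
    show (g : GL ι F) = (d : GL ι F) * ((d⁻¹ * g : ↥(GO (⇑Q))) : GL ι F)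
    rw [← Subgroup.coe_mul, mul_inv_cancel_left]
  have hmap : U.map (Matrix.mulVecLin ((g : GL ι F) : Matrix ι ι F)) = act hO U := by
    rw [hg, map_mulVecLin_mul]
    exact map_scal c _
  rw [hmap, par_act_iff h2 hQ hn hU]
  have hdetg : ((g : GL ι F) : Matrix ι ι F).det =
      ((c : F) * c) ^ n * ((hO : GL ι F) : Matrix ι ι F).det := by
    rw [hg, Matrix.det_mul]
    congr 1
    show ((scalHom c : GL ι F) : Matrix ι ι F).det = _
    rw [det_scalHom, hcard, pow_mul, pow_two]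
  rw [epsHom_apply, hc, mul_inv_eq_one, ← Units.val_inj, detGO_coe, hdetg,
    Units.val_pow_eq_pow_val, Units.val_mul]
  constructor
  · intro h
    rw [h, mul_one]
  · intro h
    have hμ0 : ((c : F) * c) ^ n ≠ 0 := pow_ne_zero _ (mul_ne_zero c.ne_zero c.ne_zero)
    apply mul_left_cancel₀ hμ0
    rw [h, mul_one]

/-- the class preservation criterion for a similarity whose multiplier is a square -/
theorem preserves_iff_sq (hQ : (QuadraticMap.polarBilin Q).Nondegenerate) (hQ0 : ∃ v, Q v ≠ 0)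
    {n : ℕ} (hcard : Fintype.card ι = 2 * n) (hn : 2 ≤ Fintype.card ι) (h2 : (2 : F) ≠ 0)
    {E₀ : Submodule F (ι → F)} (hE₀ : IsLag Q E₀)
    (g : ↥(GO (⇑Q))) (c : Fˣ) (hc : mu (⇑Q) g = c * c) :
    Cfsg.PreservesSingularClasses (⇑Q) ((g : GL ι F) : Matrix ι ι F) ↔
      epsHom Q hQ0 n g = 1 := by
  constructor
  · intro h
    have := h E₀ (max_of_lag_gen hQ hE₀)
    exact (par_GO_iff_sq hQ hQ0 hcard hn h2 g c hc hE₀).1 this
  · intro h U hU
    exact (par_GO_iff_sq hQ hQ0 hcard hn h2 g c hc (lag_of_max_gen hQ hE₀ hU)).2 h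

end Cfsg.Agent.Lib.Helper5.PGO
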