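import Mathlib
import Cfsg.Agent.Lib.Helper5.QuadFin

set_option autoImplicit false

/-! Commuting involutive isometries of a non-degenerate quadratic space (odd characteristic)
have a common orthogonal basis of eigenvectors. -/

namespace Cfsg.Agent.Lib.Helper5.TwoRank

open Matrix Module QuadraticMap

variable {F : Type*} [Field F] {ι : Type} [Fintype ι] [DecidableEq ι]
variable (Q : QuadraticForm F (ι → F))

/-- a set of commuting involutive isometries, as matrices -/
structure CommInv (S : Set (Matrix ι ι F)) : Prop where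
  iso : ∀ a ∈ S, ∀ v, Q (a *ᵥ v) = Q v
  sq : ∀ a ∈ S, a * a = 1
  comm : ∀ a ∈ S, ∀ b ∈ S, a * b = b * a

/-- invariant subspaces -/
def Inv (S : Set (Matrix ι ι F)) (W : Submodule F (ι → F)) : Prop :=
  ∀ a ∈ S, ∀ w ∈ W, a *ᵥ w ∈ W

/-- subspaces on which the polar form is non-degenerate -/
def ND (W : Submodule F (ι → F)) : Prop :=
  ∀ w ∈ W, (∀ w' ∈ W, polar Q w w' = 0) → w = 0

variable {Q}

theorem CommInv.polar {S : Set (Matrix ι ι F)} (hS : CommInv Q S) {a : Matrix ι ι F} (ha : a ∈ S)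
    (x y : ι → F) : polar Q (a *ᵥ x) (a *ᵥ y) = polar Q x y := by
  unfold QuadraticMap.polar
  rw [← Matrix.mulVec_add, hS.iso a ha, hS.iso a ha, hS.iso a ha]

theorem CommInv.sq_mulVec {S : Set (Matrix ι ι F)} (hS : CommInv Q S) {a : Matrix ι ι F}
    (ha : a ∈ S) (x : ι → F) : a *ᵥ (a *ᵥ x) = x := by
  rw [Matrix.mulVec_mulVec, hS.sq a ha, Matrix.one_mulVec]

theorem CommInv.comm_mulVec {S : Set (Matrix ι ι F)} (hS : CommInv Q S) {a b : Matrix ι ι F}
    (ha : a ∈ S) (hb : b ∈ S) (x : ι → F) : a *ᵥ (b *ᵥ x) = b *ᵥ (a *ᵥ x) := by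
  rw [Matrix.mulVec_mulVec, Matrix.mulVec_mulVec, hS.comm a ha b hb]

/-- a non-zero non-degenerate subspace contains a non-singular vector -/
theorem exists_nonsingular {W : Submodule F (ι → F)} (hW : ND Q W) (hW0 : W ≠ ⊥) :
    ∃ v ∈ W, Q v ≠ 0 := by
  obtain ⟨w, hw, hw0⟩ := (Submodule.ne_bot_iff W).1 hW0
  by_contra hcon
  push Not at hcon
  apply hw0
  apply hW w hw
  intro w' hw'
  have h1 := hcon (w + w') (W.add_mem hw hw')
  unfold QuadraticMap.polar
  rw [h1, hcon w hw, hcon w' hw']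
  ring

/-- the fixed points of `a` in `W` -/
def fixSub (a : Matrix ι ι F) (W : Submodule F (ι → F)) : Submodule F (ι → F) :=
  W ⊓ LinearMap.ker (Matrix.mulVecLin a - LinearMap.id)

theorem mem_fixSub (a : Matrix ι ι F) (W : Submodule F (ι → F)) (w : ι → F) :
    w ∈ fixSub a W ↔ w ∈ W ∧ a *ᵥ w = w := by
  unfold fixSub
  rw [Submodule.mem_inf, LinearMap.mem_ker, LinearMap.sub_apply, Matrix.mulVecLin_apply,
    LinearMap.id_apply, sub_eq_zero]

theorem fixSub_le (a : Matrix ι ι F) (W : Submodule F (ι → F)) : fixSub a W ≤ W := inf_le_left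

theorem inv_fixSub {S : Set (Matrix ι ι F)} (hS : CommInv Q S) {a : Matrix ι ι F} (ha : a ∈ S)
    {W : Submodule F (ι → F)} (hW : Inv S W) : Inv S (fixSub a W) := by
  intro b hb w hw
  rw [mem_fixSub] at hw ⊢
  refine ⟨hW b hb w hw.1, ?_⟩
  rw [hS.comm_mulVec ha hb, hw.2]

theorem nd_fixSub (h2 : (2 : F) ≠ 0) {S : Set (Matrix ι ι F)} (hS : CommInv Q S)
    {a : Matrix ι ι F} (ha : a ∈ S) {W : Submodule F (ι → F)} (hW : Inv S W) (hnd : ND Q W) :
    ND Q (fixSub a W) := by
  intro w hw hperp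
  rw [mem_fixSub] at hw
  apply hnd w hw.1
  intro x hx
  have hmem : x + a *ᵥ x ∈ fixSub a W := by
    rw [mem_fixSub]
    refine ⟨W.add_mem hx (hW a ha x hx), ?_⟩
    rw [Matrix.mulVec_add, hS.sq_mulVec ha, add_comm]
  have h1 := hperp _ hmem
  rw [QuadraticMap.polar_add_right] at h1
  have h3 : polar Q w (a *ᵥ x) = polar Q w x := by
    conv_lhs => rw [← hw.2]
    exact hS.polar ha w x
  rw [h3] at h1
  have h4 : (2 : F) * polar Q w x = 0 := by linear_combination h1
  rcases mul_eq_zero.1 h4 with h | h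
  · exact absurd h h2
  · exact h

/-- a common non-singular eigenvector -/
theorem exists_common (h2 : (2 : F) ≠ 0) {S : Set (Matrix ι ι F)} (hS : CommInv Q S) :
    ∀ n : ℕ, ∀ W : Submodule F (ι → F), finrank F ↥W = n → W ≠ ⊥ → Inv S W → ND Q W →
      ∃ v ∈ W, Q v ≠ 0 ∧ ∀ a ∈ S, a *ᵥ v = v ∨ a *ᵥ v = -v := by
  intro n
  induction n using Nat.strong_induction_on with
  | _ n ih =>
    intro W hn hW0 hinv hnd
    by_cases hsc : ∀ a ∈ S, (∀ w ∈ W, a *ᵥ w = w) ∨ (∀ w ∈ W, a *ᵥ w = -w)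
    · obtain ⟨v, hv, hQv⟩ := exists_nonsingular hnd hW0
      refine ⟨v, hv, hQv, ?_⟩
      intro a ha
      rcases hsc a ha with h | h
      · exact Or.inl (h v hv)
      · exact Or.inr (h v hv)
    · push Not at hsc
      obtain ⟨a, ha, ⟨x, hx, hax⟩, ⟨y, hy, hay⟩⟩ := hsc
      have hlt : fixSub a W < W := by
        refine lt_of_le_of_ne (fixSub_le a W) ?_
        intro h
        have : x ∈ fixSub a W := by rw [h]; exact hx
        rw [mem_fixSub] at this
        exact hax this.2
      have hne : fixSub a W ≠ ⊥ := by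
        intro h
        have hmem : y + a *ᵥ y ∈ fixSub a W := by
          rw [mem_fixSub]
          refine ⟨W.add_mem hy (hinv a ha y hy), ?_⟩
          rw [Matrix.mulVec_add, hS.sq_mulVec ha, add_comm]
        rw [h, Submodule.mem_bot] at hmem
        apply hay
        exact eq_neg_of_add_eq_zero_right hmem
      have hfr : finrank F ↥(fixSub a W) < n := by
        rw [← hn]
        exact Submodule.finrank_lt_finrank_of_lt hlt
      obtain ⟨v, hv, hQv, hev⟩ := ih _ hfr (fixSub a W) rfl hne (inv_fixSub hS ha hinv)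
        (nd_fixSub h2 hS ha hinv hnd)
      exact ⟨v, fixSub_le a W hv, hQv, hev⟩

/-- the part of `W` orthogonal to `v` -/
def perpSub (Q : QuadraticForm F (ι → F)) (v : ι → F) (W : Submodule F (ι → F)) :
    Submodule F (ι → F) :=
  W ⊓ LinearMap.ker (polarBilin Q v)

theorem mem_perpSub (v : ι → F) (W : Submodule F (ι → F)) (w : ι → F) :
    w ∈ perpSub Q v W ↔ w ∈ W ∧ polar Q v w = 0 := by
  unfold perpSub
  rw [Submodule.mem_inf, LinearMap.mem_ker]
  rfl

theorem polar_self_ne (h2 : (2 : F) ≠ 0) {v : ι → F} (hv : Q v ≠ 0) : polar Q v v ≠ 0 := by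
  rw [QuadraticMap.polar_self]
  simp only [nsmul_eq_mul, Nat.cast_ofNat]
  exact mul_ne_zero h2 hv

/-- decomposition of `W` along a non-singular vector -/
theorem exists_decomp (h2 : (2 : F) ≠ 0) {v : ι → F} (hv : Q v ≠ 0) {W : Submodule F (ι → F)}
    (hvW : v ∈ W) (x : ι → F) (hx : x ∈ W) :
    ∃ c : F, x - c • v ∈ perpSub Q v W := by
  refine ⟨polar Q v x / polar Q v v, ?_⟩
  rw [mem_perpSub]
  refine ⟨W.sub_mem hx (W.smul_mem _ hvW), ?_⟩
  rw [QuadraticMap.polar_sub_right, QuadraticMap.polar_smul_right, smul_eq_mul,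
    div_mul_cancel₀ _ (polar_self_ne h2 hv), sub_self]

theorem finrank_perpSub (h2 : (2 : F) ≠ 0) {v : ι → F} (hv : Q v ≠ 0)
    {W : Submodule F (ι → F)} (hvW : v ∈ W) :
    finrank F ↥(perpSub Q v W) + 1 = finrank F ↥W := by
  have hv0 : v ≠ 0 := by
    rintro rfl
    exact hv (QuadraticMap.map_zero Q)
  have hsup : Submodule.span F {v} ⊔ perpSub Q v W = W := by
    apply le_antisymm
    · apply sup_le
      · rw [Submodule.span_singleton_le_iff_mem]; exact hvW
      · exact inf_le_left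
    · intro x hx
      obtain ⟨c, hc⟩ := exists_decomp h2 hv hvW x hx
      have : x = c • v + (x - c • v) := by abel
      rw [this]
      exact Submodule.add_mem_sup (Submodule.smul_mem _ _ (Submodule.mem_span_singleton_self v)) hc
  have hinf : Submodule.span F {v} ⊓ perpSub Q v W = ⊥ := by
    rw [eq_bot_iff]
    intro x hx
    rw [Submodule.mem_inf, Submodule.mem_span_singleton, mem_perpSub] at hx
    obtain ⟨⟨c, rfl⟩, -, h⟩ := hx
    rw [QuadraticMap.polar_smul_right, smul_eq_mul] at h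
    rcases mul_eq_zero.1 h with h | h
    · rw [h, zero_smul]; exact Submodule.zero_mem _
    · exact absurd h (polar_self_ne h2 hv)
  have := Submodule.finrank_sup_add_finrank_inf_eq (Submodule.span F {v}) (perpSub Q v W)
  rw [hsup, hinf, finrank_bot, add_zero, finrank_span_singleton hv0] at this
  omega

theorem inv_perpSub {S : Set (Matrix ι ι F)} (hS : CommInv Q S) {v : ι → F}
    (hev : ∀ a ∈ S, a *ᵥ v = v ∨ a *ᵥ v = -v) {W : Submodule F (ι → F)} (hW : Inv S W) :
    Inv S (perpSub Q v W) := by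
  intro a ha w hw
  rw [mem_perpSub] at hw ⊢
  refine ⟨hW a ha w hw.1, ?_⟩
  have h1 := hS.polar ha v w
  rw [hw.2] at h1
  rcases hev a ha with h | h
  · rw [h] at h1; exact h1
  · rw [h, QuadraticMap.polar_neg_left, neg_eq_zero] at h1; exact h1

theorem nd_perpSub (h2 : (2 : F) ≠ 0) {v : ι → F} (hv : Q v ≠ 0) {W : Submodule F (ι → F)}
    (hvW : v ∈ W) (hnd : ND Q W) : ND Q (perpSub Q v W) := by
  intro w hw hperp
  have hw' := (mem_perpSub v W w).1 hw
  apply hnd w hw'.1
  intro x hx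
  obtain ⟨c, hc⟩ := exists_decomp h2 hv hvW x hx
  have : x = c • v + (x - c • v) := by abel
  rw [this, QuadraticMap.polar_add_right, hperp _ hc, QuadraticMap.polar_smul_right,
    QuadraticMap.polar_comm, hw'.2, smul_zero, add_zero]

/-- an orthogonal family of common non-singular eigenvectors spanning an invariant
non-degenerate subspace -/
theorem exists_eigenfamily (h2 : (2 : F) ≠ 0) {S : Set (Matrix ι ι F)} (hS : CommInv Q S) :
    ∀ k : ℕ, ∀ W : Submodule F (ι → F), finrank F ↥W = k → Inv S W → ND Q W →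
      ∃ e : Fin k → (ι → F), (∀ i, e i ∈ W) ∧ (∀ i, Q (e i) ≠ 0) ∧
        (∀ i j, i ≠ j → polar Q (e i) (e j) = 0) ∧
        (∀ a ∈ S, ∀ i, a *ᵥ e i = e i ∨ a *ᵥ e i = -e i) := by
  intro k
  induction k with
  | zero =>
    intro W _ _ _
    exact ⟨Fin.elim0, fun i => i.elim0, fun i => i.elim0, fun i => i.elim0,
      fun _ _ i => i.elim0⟩
  | succ k ih =>
    intro W hk hinv hnd
    have hW0 : W ≠ ⊥ := by
      rintro rfl
      rw [finrank_bot] at hk
      omega
    obtain ⟨v, hvW, hQv, hev⟩ := exists_common h2 hS _ W rfl hW0 hinv hnd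
    have hfr := finrank_perpSub h2 hQv hvW
    obtain ⟨e', he'W, he'Q, he'o, he'e⟩ := ih (perpSub Q v W) (by omega)
      (inv_perpSub hS hev hinv) (nd_perpSub h2 hQv hvW hnd)
    refine ⟨Fin.cons v e', ?_, ?_, ?_, ?_⟩
    · intro i
      refine Fin.cases ?_ (fun j => ?_) i
      · rw [Fin.cons_zero]; exact hvW
      · rw [Fin.cons_succ]; exact ((mem_perpSub v W _).1 (he'W j)).1
    · intro i
      refine Fin.cases ?_ (fun j => ?_) i
      · rw [Fin.cons_zero]; exact hQv
      · rw [Fin.cons_succ]; exact he'Q j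
    · intro i j
      refine Fin.cases ?_ (fun i' => ?_) i <;> refine Fin.cases ?_ (fun j' => ?_) j
      · intro h; exact absurd rfl h
      · intro _
        rw [Fin.cons_zero, Fin.cons_succ]
        exact ((mem_perpSub v W _).1 (he'W j')).2
      · intro _
        rw [Fin.cons_zero, Fin.cons_succ, QuadraticMap.polar_comm]
        exact ((mem_perpSub v W _).1 (he'W i')).2
      · intro h
        rw [Fin.cons_succ, Fin.cons_succ]
        exact he'o i' j' (fun h' => h (by rw [h']))
    · intro a ha i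
      refine Fin.cases ?_ (fun j => ?_) i
      · rw [Fin.cons_zero]; exact hev a ha
      · rw [Fin.cons_succ]; exact he'e a ha j

/-- an orthogonal basis of common eigenvectors, indexed by `ι` -/
theorem exists_eigenbasis (h2 : (2 : F) ≠ 0) (hQ : (polarBilin Q).Nondegenerate)
    {S : Set (Matrix ι ι F)} (hS : CommInv Q S) :
    ∃ e : ι → (ι → F), (∀ i, Q (e i) ≠ 0) ∧ (∀ i j, i ≠ j → polar Q (e i) (e j) = 0) ∧
      (∀ a ∈ S, ∀ i, a *ᵥ e i = e i ∨ a *ᵥ e i = -e i) := by
  have hfr : finrank F ↥(⊤ : Submodule F (ι → F)) = Fintype.card ι := by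
    rw [finrank_top, Module.finrank_fintype_fun_eq_card]
  obtain ⟨e, -, heQ, heo, hee⟩ := exists_eigenfamily h2 hS _ ⊤ hfr
    (fun _ _ _ _ => Submodule.mem_top)
    (fun w _ hw => hQ.1 w (fun y => hw y Submodule.mem_top))
  refine ⟨fun i => e (Fintype.equivFin ι i), fun i => heQ _, ?_, fun a ha i => hee a ha _⟩
  intro i j hij
  exact heo _ _ (fun h => hij ((Fintype.equivFin ι).injective h))

end Cfsg.Agent.Lib.Helper5.TwoRank
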