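import Mathlib
import Cfsg.Agent.Lib.Helper5.PGO23
import Cfsg.Agent.Lib.Helper5.TwoRank1

set_option autoImplicit false

/-! Quadratic extensions of a finite field of odd order; base change of similarities; a
Lagrangian of the minus type form over a field containing a root of the binary part. -/

namespace Cfsg.Agent.Lib.Helper5.PGO

open Matrix Module QuadraticMap Cfsg.Agent.Lib.Helper2 Cfsg.Agent.Lib.Helper2.CDG
open Cfsg.Agent.Lib.Helper5.MaxTS Cfsg.Agent.Lib.Helper2.OrthCard
open Cfsg.Agent.Lib.Helper5.QuadGlue Cfsg.Agent.Lib.Helper2.QuadStd Cfsg.Agent.Lib.Helper2.OrthSum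

section Ext

variable {F K : Type*} [Field F] [Field K] [Algebra F K]

theorem finite_of_finrank_two [Finite F] (hK : finrank F K = 2) : Finite K := by
  have : Module.Finite F K := Module.finite_of_finrank_pos (by rw [hK]; norm_num)
  exact Module.finite_of_finite F

theorem two_ne_zero_ext (h2 : (2 : F) ≠ 0) : (2 : K) ≠ 0 := by
  intro h
  apply h2
  apply (algebraMap F K).injective
  rw [map_ofNat, map_zero]
  exact h

/-- every element of the small field is a square in the quadratic extension -/
theorem isSquare_algebraMap [Fintype F] [Fintype K] (hodd : Odd (Fintype.card F))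
    (hK : finrank F K = 2) (x : F) : IsSquare (algebraMap F K x) := by
  by_cases hx : x = 0
  · rw [hx, map_zero]
    exact ⟨0, by ring⟩
  have h2F : (2 : F) ≠ 0 := two_ne_zero_of_odd_card hodd
  have h2K : (2 : K) ≠ 0 := two_ne_zero_ext h2F
  have hchar : ringChar K ≠ 2 := by
    intro h
    apply h2K
    have := CharP.cast_eq_zero K (ringChar K)
    rw [h] at this
    exact_mod_cast this
  have hx' : algebraMap F K x ≠ 0 := by
    intro h
    apply hx
    apply (algebraMap F K).injective
    rw [h, map_zero]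
  rw [FiniteField.isSquare_iff hchar hx', Module.card_eq_pow_finrank (K := F) (V := K), hK]
  obtain ⟨k, hk⟩ := hodd
  have h1 : Fintype.card F ^ 2 / 2 = (Fintype.card F - 1) * (k + 1) := by
    rw [hk, Nat.add_sub_cancel]
    have : (2 * k + 1) ^ 2 = 2 * (2 * k * (k + 1)) + 1 := by ring
    rw [this]
    omega
  rw [h1, pow_mul, ← map_pow, FiniteField.pow_card_sub_one_eq_one x hx, map_one, one_pow]

/-- a root of the binary part in the quadratic extension -/
theorem exists_root [Fintype F] [Fintype K] (hodd : Odd (Fintype.card F))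
    (hK : finrank F K = 2) (a b : F) :
    ∃ r : K, r ^ 2 + algebraMap F K a * r + algebraMap F K b = 0 := by
  have h2K : (2 : K) ≠ 0 := two_ne_zero_ext (two_ne_zero_of_odd_card hodd)
  obtain ⟨s, hs⟩ := isSquare_algebraMap hodd hK (a ^ 2 - 4 * b)
  refine ⟨(-algebraMap F K a + s) / 2, ?_⟩
  rw [map_sub, map_pow, map_mul, map_ofNat] at hs
  field_simp
  linear_combination (-1) * hs

end Ext

section BaseChange

variable {F K : Type*} [Field F] [Field K] [Algebra F K] {ι : Type} [Fintype ι] [DecidableEq ι]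

/-- base change of a similarity -/
theorem sim_baseChange (h2 : (2 : K) ≠ 0) (QF : QuadraticForm F (ι → F))
    (QK : QuadraticForm K (ι → K))
    (hcompat : ∀ w : ι → F, QK (fun i => algebraMap F K (w i)) = algebraMap F K (QF w))
    (g : Matrix ι ι F) (μ : F) (hg : ∀ w, QF (g *ᵥ w) = μ * QF w) (v : ι → K) :
    QK ((g.map (algebraMap F K)) *ᵥ v) = algebraMap F K μ * QK v := by
  set A := algebraMap F K with hA
  have hpol : ∀ x y : ι → F, polar QK (fun i => A (x i)) (fun i => A (y i)) =
      A (polar QF x y) := by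
    intro x y
    unfold QuadraticMap.polar
    have : (fun i => A (x i)) + (fun i => A (y i)) = fun i => A ((x + y) i) := by
      funext i
      simp
    rw [this, hcompat, hcompat, hcompat, map_sub, map_sub]
  have hgpol : ∀ x y : ι → F, polar QF (g *ᵥ x) (g *ᵥ y) = μ * polar QF x y := by
    intro x y
    unfold QuadraticMap.polar
    rw [← Matrix.mulVec_add, hg, hg, hg]
    ring
  have hv : v = ∑ j, v j • (fun i => A ((Pi.single j 1 : ι → F) i)) := by
    funext i
    rw [Finset.sum_apply, Finset.sum_eq_single i]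
    · simp
    · intro b _ hb
      simp [Pi.single_apply, Ne.symm hb]
    · intro h
      exact absurd (Finset.mem_univ i) h
  have hcol : ∀ (j i : ι), (g *ᵥ (Pi.single j 1 : ι → F)) i = g i j := by
    intro j i
    rw [Matrix.mulVec_single_one]
    rfl
  have hgv : (g.map A) *ᵥ v = ∑ j, v j • (fun i => A ((g *ᵥ (Pi.single j 1 : ι → F)) i)) := by
    funext i
    rw [Finset.sum_apply]
    show ∑ j, (g.map A) i j * v j = _
    apply Finset.sum_congr rfl
    intro j _
    rw [Pi.smul_apply, smul_eq_mul, hcol, Matrix.map_apply, mul_comm]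
  have key : polar QK ((g.map A) *ᵥ v) ((g.map A) *ᵥ v) = A μ * polar QK v v := by
    rw [hgv]
    conv_rhs => rw [hv]
    rw [Cfsg.Agent.Lib.Helper5.polar_sum_left, Cfsg.Agent.Lib.Helper5.polar_sum_left,
      Finset.mul_sum]
    apply Finset.sum_congr rfl
    intro i _
    rw [Cfsg.Agent.Lib.Helper5.polar_sum_right, Cfsg.Agent.Lib.Helper5.polar_sum_right,
      Finset.mul_sum, Finset.mul_sum, Finset.mul_sum]
    apply Finset.sum_congr rfl
    intro j _
    rw [hpol, hpol, hgpol, map_mul]
    ring
  rw [QuadraticMap.polar_self, QuadraticMap.polar_self] at key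
  simp only [nsmul_eq_mul, Nat.cast_ofNat] at key
  have : (2 : K) * (QK ((g.map A) *ᵥ v)) = 2 * (A μ * QK v) := by linear_combination key
  exact mul_left_cancel₀ h2 this

end BaseChange

section Lag

variable {K : Type*} [Field K]

theorem QMn_nondeg' (m : ℕ) (a b : K) (hD : a ^ 2 - 4 * b ≠ 0) :
    (QuadraticMap.polarBilin (QMn m a b)).Nondegenerate :=
  osum_nondeg _ _ (QP_nondeg m) (bin_nondeg a b hD)

/-- the linear map cutting out the standard Lagrangian -/
def psiMin (m : ℕ) (r : K) :
    (((Fin m ⊕ Fin m) ⊕ Fin 2) → K) →ₗ[K] ((Fin m → K) × K) :=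
  LinearMap.prod (LinearMap.funLeft K K (fun i : Fin m => Sum.inl (Sum.inr i)))
    (LinearMap.proj (Sum.inr 0) - r • LinearMap.proj (Sum.inr 1))

/-- the standard Lagrangian of the minus type form over a field containing a root -/
def Emin (m : ℕ) (r : K) : Submodule K (((Fin m ⊕ Fin m) ⊕ Fin 2) → K) :=
  LinearMap.ker (psiMin m r)

theorem mem_Emin (m : ℕ) (r : K) (v : ((Fin m ⊕ Fin m) ⊕ Fin 2) → K) :
    v ∈ Emin m r ↔ (∀ i, v (Sum.inl (Sum.inr i)) = 0) ∧ v (Sum.inr 0) = r * v (Sum.inr 1) := by
  unfold Emin psiMin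
  rw [LinearMap.mem_ker]
  show ((LinearMap.funLeft K K (fun i : Fin m => Sum.inl (Sum.inr i))) v,
    (LinearMap.proj (Sum.inr 0) - r • LinearMap.proj (Sum.inr 1) :
      (((Fin m ⊕ Fin m) ⊕ Fin 2) → K) →ₗ[K] K) v) = 0 ↔ _
  rw [Prod.mk_eq_zero]
  constructor
  · rintro ⟨h1, h3⟩
    refine ⟨fun i => congrFun h1 i, ?_⟩
    simp only [LinearMap.sub_apply, LinearMap.proj_apply, LinearMap.smul_apply, smul_eq_mul] at h3
    exact sub_eq_zero.1 h3
  · rintro ⟨h1, h3⟩
    refine ⟨funext fun i => h1 i, ?_⟩
    simp only [LinearMap.sub_apply, LinearMap.proj_apply, LinearMap.smul_apply, smul_eq_mul]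
    exact sub_eq_zero.2 h3

theorem isLag_Emin (m : ℕ) (a b r : K) (hD : a ^ 2 - 4 * b ≠ 0) (hr : r ^ 2 + a * r + b = 0) :
    IsLag (QMn m a b) (Emin m r) := by
  have hts : IsTS (QMn m a b) (Emin m r) := by
    intro v hv
    rw [mem_Emin] at hv
    rw [QMn_coe]
    unfold Cfsg.quadFormMinus
    rw [Finset.sum_eq_zero (fun i _ => by rw [hv.1 i, mul_zero]), hv.2, zero_add]
    linear_combination (v (Sum.inr 1)) ^ 2 * hr
  refine ⟨hts, ?_⟩
  have h1 := IsTS.finrank_le (QMn_nondeg' m a b hD) hts
  have h3 := LinearMap.finrank_range_add_finrank_ker (psiMin m r)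
  have h4 : finrank K ↥(LinearMap.range (psiMin m r)) ≤ m + 1 := by
    have := Submodule.finrank_le (LinearMap.range (psiMin m r))
    rw [Module.finrank_prod, Module.finrank_fintype_fun_eq_card, Fintype.card_fin,
      Module.finrank_self] at this
    exact this
  rw [Module.finrank_fintype_fun_eq_card, card_minus] at h3
  rw [card_minus] at h1 ⊢
  have h5 : finrank K ↥(Emin m r) = finrank K ↥(LinearMap.ker (psiMin m r)) := rfl
  omega

end Lag

end Cfsg.Agent.Lib.Helper5.PGO
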