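import Mathlib
import Cfsg.Agent.Lib.Helper5.PGO24
import Cfsg.Agent.Lib.Helper5.PGO20

set_option autoImplicit false

/-! For the minus type form: a similarity preserves the two classes of maximal totally
singular subspaces over a quadratic extension iff `det = μ^(m+1)`. -/

namespace Cfsg.Agent.Lib.Helper5.PGO

open Matrix Module QuadraticMap Polynomial Cfsg.Agent.Lib.Helper2 Cfsg.Agent.Lib.Helper2.CDG
open Cfsg.Agent.Lib.Helper5.MaxTS Cfsg.Agent.Lib.Helper2.OrthCard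
open Cfsg.Agent.Lib.Helper5.QuadGlue Cfsg.Agent.Lib.Helper2.QuadStd Cfsg.Agent.Lib.Helper2.OrthSum

universe u

theorem exists_quadratic_ext {F : Type u} [Field F] (a b : F)
    (hab : ∀ z₁ z₂ : F, z₁ ^ 2 + a * z₁ * z₂ + b * z₂ ^ 2 = 0 → z₁ = 0 ∧ z₂ = 0) :
    ∃ (K : Type u) (_ : Field K) (_ : Algebra F K), finrank F K = 2 := by
  set f : F[X] := C 1 * X ^ 2 + C a * X + C b with hf
  have hdeg : f.natDegree = 2 := natDegree_quadratic one_ne_zero
  have hirr : Irreducible f := by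
    apply irreducible_of_degree_le_three_of_not_isRoot
    · rw [hdeg]; decide
    · intro x hx
      have h1 : f.eval x = 0 := hx
      rw [hf] at h1
      simp only [eval_add, eval_mul, eval_C, eval_pow, eval_X, one_mul] at h1
      have := hab x 1 (by linear_combination h1)
      exact one_ne_zero this.2
  have hfact : Fact (Irreducible f) := ⟨hirr⟩
  refine ⟨AdjoinRoot f, inferInstance, inferInstance, ?_⟩
  rw [(AdjoinRoot.powerBasis hirr.ne_zero).finrank, AdjoinRoot.powerBasis_dim, hdeg]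

variable {F : Type u} [Field F] [Fintype F] {m : ℕ}

theorem QMn_compat (K : Type*) [Field K] [Algebra F K] (a b : F)
    (w : (Fin m ⊕ Fin m) ⊕ Fin 2 → F) :
    QMn m (algebraMap F K a) (algebraMap F K b) (fun i => algebraMap F K (w i)) =
      algebraMap F K (QMn m a b w) := by
  rw [QMn_coe, QMn_coe]
  unfold Cfsg.quadFormMinus
  simp only [map_add, map_mul, map_sum, map_pow]

/-- the criterion over a given quadratic extension -/
theorem preserves_K_iff (hodd : Odd (Fintype.card F)) (a b : F)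
    (hab : ∀ z₁ z₂ : F, z₁ ^ 2 + a * z₁ * z₂ + b * z₂ ^ 2 = 0 → z₁ = 0 ∧ z₂ = 0)
    (K : Type*) [Field K] [Algebra F K] (hK : finrank F K = 2)
    (g : ↥(GO (⇑(QMn m a b)))) :
    Cfsg.PreservesSingularClasses
      (Cfsg.quadFormMinus m K (algebraMap F K a) (algebraMap F K b))
      (((g : GL ((Fin m ⊕ Fin m) ⊕ Fin 2) F) :
        Matrix ((Fin m ⊕ Fin m) ⊕ Fin 2) ((Fin m ⊕ Fin m) ⊕ Fin 2) F).map (algebraMap F K)) ↔
      epsHom (QMn m a b) (QMn_ne_zero m a b) (m + 1) g = 1 := by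
  classical
  have hfin : Finite K := finite_of_finrank_two hK
  have : Fintype K := Fintype.ofFinite K
  have h2F : (2 : F) ≠ 0 := two_ne_zero_of_odd_card hodd
  have h2K : (2 : K) ≠ 0 := two_ne_zero_ext h2F
  obtain ⟨r, hr⟩ := exists_root hodd hK a b
  have hD : (algebraMap F K a) ^ 2 - 4 * algebraMap F K b ≠ 0 := by
    have hd := disc_ne_zero a b hab
    intro h
    apply hd
    apply (algebraMap F K).injective
    rw [map_sub, map_pow, map_mul, map_ofNat, map_zero]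
    exact h
  have hr' : r ^ 2 + algebraMap F K a * r + algebraMap F K b = 0 := hr
  have hQK := QMn_nondeg' m (algebraMap F K a) (algebraMap F K b) hD
  have hE₀ := isLag_Emin m (algebraMap F K a) (algebraMap F K b) r hD hr'
  have hQ0K := QMn_ne_zero (F := K) m (algebraMap F K a) (algebraMap F K b)
  have hn : 2 ≤ Fintype.card ((Fin m ⊕ Fin m) ⊕ Fin 2) := by rw [card_minus]; omega
  -- the base-changed similarity
  obtain ⟨μ, hμ⟩ : ∃ μ : Fˣ, μ = mu (⇑(QMn m a b)) g := ⟨_, rfl⟩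
  have hsim : ∀ v, QMn m (algebraMap F K a) (algebraMap F K b)
      ((((g : GL ((Fin m ⊕ Fin m) ⊕ Fin 2) F) :
        Matrix ((Fin m ⊕ Fin m) ⊕ Fin 2) ((Fin m ⊕ Fin m) ⊕ Fin 2) F).map (algebraMap F K)) *ᵥ v) =
      algebraMap F K (μ : F) * QMn m (algebraMap F K a) (algebraMap F K b) v :=
    sim_baseChange h2K (QMn m a b) (QMn m (algebraMap F K a) (algebraMap F K b))
      (QMn_compat K a b) _ (μ : F) (by rw [hμ]; exact mu_spec (⇑(QMn m a b)) g)
  obtain ⟨g', hg'⟩ : ∃ g' : GL ((Fin m ⊕ Fin m) ⊕ Fin 2) K,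
      g' = Matrix.GeneralLinearGroup.map (algebraMap F K) (g : GL ((Fin m ⊕ Fin m) ⊕ Fin 2) F) :=
    ⟨_, rfl⟩
  have hg'coe : (g' : Matrix ((Fin m ⊕ Fin m) ⊕ Fin 2) ((Fin m ⊕ Fin m) ⊕ Fin 2) K) =
      ((g : GL ((Fin m ⊕ Fin m) ⊕ Fin 2) F) :
        Matrix ((Fin m ⊕ Fin m) ⊕ Fin 2) ((Fin m ⊕ Fin m) ⊕ Fin 2) F).map (algebraMap F K) := by
    rw [hg']; rfl
  have hμ0 : algebraMap F K (μ : F) ≠ 0 := by
    intro h
    apply μ.ne_zero
    apply (algebraMap F K).injective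
    rw [h, map_zero]
  have hg'mem : g' ∈ GO (⇑(QMn m (algebraMap F K a) (algebraMap F K b))) :=
    ⟨Units.mk0 _ hμ0, fun v => by rw [hg'coe]; exact hsim v⟩
  have hmu' : ((mu (⇑(QMn m (algebraMap F K a) (algebraMap F K b))) ⟨g', hg'mem⟩ : Kˣ) : K) =
      algebraMap F K (μ : F) :=
    mu_unique hQ0K ⟨g', hg'mem⟩ _ (fun v => by
      show QMn m (algebraMap F K a) (algebraMap F K b)
        ((g' : Matrix ((Fin m ⊕ Fin m) ⊕ Fin 2) ((Fin m ⊕ Fin m) ⊕ Fin 2) K) *ᵥ v) = _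
      rw [hg'coe]; exact hsim v)
  obtain ⟨s, hs⟩ := isSquare_algebraMap hodd hK (μ : F)
  have hs0 : s ≠ 0 := by
    rintro rfl
    rw [mul_zero] at hs
    exact hμ0 hs
  have hc : mu (⇑(QMn m (algebraMap F K a) (algebraMap F K b))) ⟨g', hg'mem⟩ =
      Units.mk0 s hs0 * Units.mk0 s hs0 := by
    apply Units.ext
    rw [hmu', hs, Units.val_mul]
    rfl
  have key := preserves_iff_sq hQK hQ0K (card_minus m) hn h2K hE₀ ⟨g', hg'mem⟩
    (Units.mk0 s hs0) hc
  have hcoe : Cfsg.quadFormMinus m K (algebraMap F K a) (algebraMap F K b) =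
      ⇑(QMn m (algebraMap F K a) (algebraMap F K b)) := (QMn_coe m _ _).symm
  rw [hcoe, ← hg'coe]
  refine key.trans ?_
  rw [epsHom_apply, epsHom_apply, mul_inv_eq_one, mul_inv_eq_one, ← hμ]
  have hdet : ((detGO (⇑(QMn m (algebraMap F K a) (algebraMap F K b))) ⟨g', hg'mem⟩ : Kˣ) : K) =
      algebraMap F K ((detGO (⇑(QMn m a b)) g : Fˣ) : F) := by
    rw [detGO_coe, detGO_coe]
    show (g' : Matrix ((Fin m ⊕ Fin m) ⊕ Fin 2) ((Fin m ⊕ Fin m) ⊕ Fin 2) K).det = _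
    rw [hg'coe, RingHom.map_det]
    rfl
  rw [← Units.val_inj, ← Units.val_inj (a := detGO (⇑(QMn m a b)) g), hdet,
    Units.val_pow_eq_pow_val, Units.val_pow_eq_pow_val, hmu', ← map_pow]
  exact (algebraMap F K).injective.eq_iff

/-- the criterion for the minus type form -/
theorem preserves_minus_iff (hodd : Odd (Fintype.card F)) (a b : F)
    (hab : ∀ z₁ z₂ : F, z₁ ^ 2 + a * z₁ * z₂ + b * z₂ ^ 2 = 0 → z₁ = 0 ∧ z₂ = 0)
    (g : ↥(GO (⇑(QMn m a b)))) :
    Cfsg.PreservesSingularClassesMinus m a b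
      ((g : GL ((Fin m ⊕ Fin m) ⊕ Fin 2) F) :
        Matrix ((Fin m ⊕ Fin m) ⊕ Fin 2) ((Fin m ⊕ Fin m) ⊕ Fin 2) F) ↔
      epsHom (QMn m a b) (QMn_ne_zero m a b) (m + 1) g = 1 := by
  constructor
  · rintro ⟨K, hfield, halg, hK, hpres⟩
    exact (preserves_K_iff hodd a b hab K hK g).1 hpres
  · intro h
    obtain ⟨K, hfield, halg, hK⟩ := exists_quadratic_ext a b hab
    exact ⟨K, hfield, halg, hK, (preserves_K_iff hodd a b hab K hK g).2 h⟩

end Cfsg.Agent.Lib.Helper5.PGO
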