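import Mathlib
import Cfsg.Agent.Lib.Helper5.PGO25
import Cfsg.Agent.Lib.Helper5.PGO16

set_option autoImplicit false

/-! The structure of `Inndiag(PΩ⁻) / Inn(PΩ⁻)` in odd characteristic. -/

namespace Cfsg.Agent.Lib.Helper5.PGO

open Matrix Cfsg.Agent.Lib.Helper2 Cfsg.Agent.Lib.Helper2.CDG Cfsg.Agent.Lib.Helper2.Spinor
open Cfsg.Agent.Lib.Helper5.QuadGlue Cfsg.Agent.Lib.Helper2.QuadStd
open Cfsg.Agent.Lib.Helper2.OrthCard

section Gen

variable {F : Type*} [Field F] {ι : Type} [Fintype ι] [DecidableEq ι]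

/-- the subgroup generated by the automorphisms induced by similarities with a given property -/
def inndiagQM (Q : (ι → F) → F) (P : Matrix ι ι F → Prop) : Subgroup (MulAut (Cfsg.POmega F Q)) :=
  Cfsg.autSubgroupOf fun β => ∃ g : GL ι F, g ∈ Cfsg.Geo.quadSimilarityGroup (F := F) Q ∧
    P (g : Matrix ι ι F) ∧ Cfsg.IsInducedBySemilinearPOmega Q g (RingEquiv.refl F) β

theorem inndiagQM_eq (Q : (ι → F) → F) (P : Matrix ι ι F → Prop) (S : Subgroup ↥(GO Q))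
    (hP : ∀ g : ↥(GO Q), P ((g : GL ι F) : Matrix ι ι F) ↔ g ∈ S) :
    inndiagQM Q P = S.map (Phi Q) := by
  unfold inndiagQM Cfsg.autSubgroupOf
  have : {β : MulAut (Cfsg.POmega F Q) | ∃ g : GL ι F,
      g ∈ Cfsg.Geo.quadSimilarityGroup (F := F) Q ∧ P (g : Matrix ι ι F) ∧
      Cfsg.IsInducedBySemilinearPOmega Q g (RingEquiv.refl F) β} =
      ((S.map (Phi Q) : Subgroup (MulAut (Cfsg.POmega F Q))) :
        Set (MulAut (Cfsg.POmega F Q))) := by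
    ext β
    constructor
    · rintro ⟨g, hg, hp, h⟩
      exact ⟨⟨g, hg⟩, (hP ⟨g, hg⟩).1 hp, ((induced_iff Q ⟨g, hg⟩ β).1 h).symm⟩
    · rintro ⟨g, hg, rfl⟩
      exact ⟨g, g.2, (hP g).2 hg, (induced_iff Q g _).2 rfl⟩
  rw [this, Subgroup.closure_eq]

end Gen

variable {F : Type*} [Field F] [Fintype F] [DecidableEq F] {m : ℕ}

omit [Fintype F] [DecidableEq F] in
theorem det_swapMat (m : ℕ) (ν : F) : (swapMat m ν).det = (-ν) ^ m := by
  have h1 : swapMat m ν * Matrix.fromBlocks (1 : Matrix (Fin m) (Fin m) F) 1 0 1 =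
      Matrix.fromBlocks 0 (Matrix.scalar (Fin m) ν) 1 1 := by
    unfold swapMat
    rw [Matrix.fromBlocks_multiply]
    simp
  have h3 := congrArg Matrix.det h1
  rw [Matrix.det_mul, Matrix.det_fromBlocks_zero₂₁, Matrix.det_one, mul_one, mul_one,
    Matrix.det_fromBlocks_one₂₂, Matrix.mul_one, zero_sub] at h3
  rw [h3, Matrix.scalar_apply, Matrix.diagonal_neg, Matrix.det_diagonal, Finset.prod_const,
    Finset.card_univ, Fintype.card_fin]

omit [Fintype F] [DecidableEq F] in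
theorem det_swapMinusMat (m : ℕ) (a b ν α β : F) (h : α ^ 2 + a * α * β + b * β ^ 2 = ν) :
    (swapMinusMat m a b ν α β).det = (-ν) ^ (m + 1) := by
  unfold swapMinusMat
  rw [Matrix.det_fromBlocks_zero₂₁, det_swapMat, pow_succ]
  congr 1
  unfold conjMat
  rw [Matrix.det_fin_two_of, ← h]
  ring

theorem inndiag_minus (hodd : Odd (Fintype.card F)) (a b : F)
    (hab : ∀ z₁ z₂ : F, z₁ ^ 2 + a * z₁ * z₂ + b * z₂ ^ 2 = 0 → z₁ = 0 ∧ z₂ = 0) :
    inndiagQM (⇑(QMn m a b)) (Cfsg.PreservesSingularClassesMinus m a b) =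
      idg (QMn m a b) (QMn_ne_zero m a b) (m + 1) := by
  apply inndiagQM_eq
  intro g
  rw [preserves_minus_iff hodd a b hab]
  rfl

section GenQ

variable {ι : Type} [Fintype ι] [DecidableEq ι] {Q : QuadraticForm F (ι → F)}

/-- `Inndiag / Inn` is cyclic of order four when `-1 ∈ Ω`, given a similarity `g₀` with
non-square multiplier, scalar square and `det g₀ = -μ^n` -/
theorem zmod4_of (hQ : (QuadraticMap.polarBilin Q).Nondegenerate) (hQ0 : ∃ v, Q v ≠ 0)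
    {n : ℕ} (hcard : Fintype.card ι = 2 * n) (h2 : (2 : F) ≠ 0) (hn : 7 ≤ Fintype.card ι)
    (hsurj : Function.Surjective (chi hQ hQ0 hcard h2))
    (hneg : negOne Q ∈ commutator ↥(Cfsg.isometryGroup F ⇑Q))
    (g₀ : ↥(GO (⇑Q))) (ν : Fˣ) (hν : ¬ IsSquare (ν : F))
    (hg₀ : ∀ v, Q (((g₀ : GL ι F) : Matrix ι ι F) *ᵥ v) = (ν : F) * Q v)
    (c₀ : Fˣ) (hsq : g₀ * g₀ = scalGO Q c₀) (heps₀ : epsHom Q hQ0 n g₀ = -1) :
    ∃ φ : ↥(idg Q hQ0 n) →* Multiplicative (ZMod 4), Function.Surjective φ ∧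
      φ.ker = (Cfsg.Inn (Cfsg.POmega F (⇑Q))).subgroupOf (idg Q hQ0 n) := by
  have hn2 : 2 ≤ Fintype.card ι := by omega
  obtain ⟨u₁, hu₁⟩ := exists_value hQ hn2 1 one_ne_zero
  have hu₁0 : Q u₁ ≠ 0 := by rw [hu₁]; exact one_ne_zero
  obtain ⟨r₁, hr₁⟩ : ∃ r : ↥(Cfsg.isometryGroup F ⇑Q), r = CDG.refl Q u₁ hu₁0 := ⟨_, rfl⟩
  have hw0 : Q (((g₀ : GL ι F) : Matrix ι ι F) *ᵥ u₁) ≠ 0 := by
    rw [hg₀, hu₁, mul_one]; exact ν.ne_zero
  obtain ⟨r', hr'⟩ : ∃ r : ↥(Cfsg.isometryGroup F ⇑Q), r = CDG.refl Q _ hw0 := ⟨_, rfl⟩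
  have hsqt : (incl (⇑Q) r₁ * g₀) * (incl (⇑Q) r₁ * g₀) = scalGO Q c₀ * incl (⇑Q) (r₁ * r') := by
    apply Subtype.ext
    have hconj := conj_refl_sim (g₀ : GL ι F) (ν : F) ν.ne_zero hg₀ u₁ hu₁0
    have hsq' : (g₀ : GL ι F) * (g₀ : GL ι F) = scalHom c₀ := congrArg Subtype.val hsq
    show (r₁ : GL ι F) * (g₀ : GL ι F) * ((r₁ : GL ι F) * (g₀ : GL ι F)) =
      scalHom c₀ * ((r₁ : GL ι F) * (r' : GL ι F))
    calc (r₁ : GL ι F) * (g₀ : GL ι F) * ((r₁ : GL ι F) * (g₀ : GL ι F))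
        = (r₁ : GL ι F) * ((g₀ : GL ι F) * (r₁ : GL ι F) * (g₀ : GL ι F)⁻¹) *
            ((g₀ : GL ι F) * (g₀ : GL ι F)) := by group
      _ = (r₁ : GL ι F) * (r' : GL ι F) * scalHom c₀ := by rw [hr₁, hconj, hsq', hr']
      _ = scalHom c₀ * ((r₁ : GL ι F) * (r' : GL ι F)) := (scalHom_comm c₀ _).symm
  have hlev : levSign Q 1 (r₁ * r') = -1 := by
    rw [map_mul, hr₁, levSign_refl_one h2 u₁ hu₁, hr', levSign_refl_nonsquare h2 _ hw0
      (by rw [hg₀, hu₁, mul_one]; exact hν)]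
    rfl
  have hdet : Matrix.GeneralLinearGroup.det
      ((r₁ * r' : ↥(Cfsg.isometryGroup F ⇑Q)) : GL ι F) = 1 := by
    rw [hr₁, hr']; exact det_refl_mul_refl _ _ _ _
  have hnotmem : r₁ * r' ∉ commutator ↥(Cfsg.isometryGroup F ⇑Q) := by
    intro h
    have := (mem_comm_iff_of_det h2 hQ hn2 _ hdet).1 h
    rw [hlev] at this
    exact absurd this (by decide)
  have h5 : epsHom Q hQ0 n (incl (⇑Q) r₁) = -1 := by
    rw [epsHom_apply, mu_of_iso hQ0 _ r₁.2, one_pow, inv_one, mul_one]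
    apply Units.ext
    rw [detGO_coe, incl_coe, hr₁, det_refl, Units.val_neg, Units.val_one]
  have hmem : incl (⇑Q) r₁ * g₀ ∈ GOp Q hQ0 n := by
    show epsHom Q hQ0 n (incl (⇑Q) r₁ * g₀) = 1
    rw [map_mul, heps₀, h5, neg_mul_neg, one_mul]
  apply exists_zmod4_hom _ (relIndex_inn_idg_of_mem hQ hQ0 hcard h2 hn hsurj hneg)
    ⟨Phi (⇑Q) (incl (⇑Q) r₁ * g₀), ⟨_, hmem, rfl⟩⟩
  rw [Subgroup.mem_subgroupOf]
  show Phi (⇑Q) (incl (⇑Q) r₁ * g₀) * Phi (⇑Q) (incl (⇑Q) r₁ * g₀) ∉ _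
  rw [← map_mul, hsqt, map_mul, MonoidHom.mem_ker.1 (scal_le_ker ⟨c₀, rfl⟩), one_mul]
  intro h
  exact hnotmem (mem_of_Phi_incl_mem_inn hQ hQ0 hn hneg _ h)

end GenQ

/-- the structure of `Inndiag(PΩ⁻) / Inn(PΩ⁻)` -/
theorem structure_idg_minus {q : ℕ} (hF : Fintype.card F = q) (hq : Odd q) (hm : 3 ≤ m)
    (a b : F) (hab : ∀ z₁ z₂ : F, z₁ ^ 2 + a * z₁ * z₂ + b * z₂ ^ 2 = 0 → z₁ = 0 ∧ z₂ = 0) :
    ((Even m ∧ q % 4 = 3) →
      ∃ φ : ↥(idg (QMn m a b) (QMn_ne_zero m a b) (m + 1)) →* Multiplicative (ZMod 4),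
        Function.Surjective φ ∧ φ.ker = (Cfsg.Inn (Cfsg.POmega F (⇑(QMn m a b)))).subgroupOf
          (idg (QMn m a b) (QMn_ne_zero m a b) (m + 1))) ∧
    (¬ (Even m ∧ q % 4 = 3) →
      ∃ φ : ↥(idg (QMn m a b) (QMn_ne_zero m a b) (m + 1)) →* Multiplicative (ZMod 2),
        Function.Surjective φ ∧ φ.ker = (Cfsg.Inn (Cfsg.POmega F (⇑(QMn m a b)))).subgroupOf
          (idg (QMn m a b) (QMn_ne_zero m a b) (m + 1))) := by
  have h2 : (2 : F) ≠ 0 := two_ne_zero_of_odd_card (by rw [hF]; exact hq)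
  have hiff := negOne_minus_iff' hF hq m a b hab
  have hn : 7 ≤ Fintype.card ((Fin m ⊕ Fin m) ⊕ Fin 2) := by rw [card_minus]; omega
  have hQ := QMn_nondeg m a b hab
  have hQ0 := QMn_ne_zero m a b
  have hsurj := chi_surj_minus m h2 a b hab
  constructor
  · rintro ⟨hme, hq3⟩
    have hneg := hiff.2 ⟨hme, hq3⟩
    obtain ⟨ν, hν⟩ := exists_nonsquare_unit (F := F) h2
    obtain ⟨α, β, hαβ⟩ := exists_norm h2 a b hab (ν : F)
    have hsim : ∀ v, QMn m a b (((glOfSq (swapMinusMat m a b (ν : F) α β) ν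
        (swapMinusMat_sq m a b (ν : F) α β hαβ) : GL ((Fin m ⊕ Fin m) ⊕ Fin 2) F) :
        Matrix ((Fin m ⊕ Fin m) ⊕ Fin 2) ((Fin m ⊕ Fin m) ⊕ Fin 2) F) *ᵥ v) =
        (ν : F) * QMn m a b v := by
      intro v
      rw [QMn_coe]
      exact swapMinusMat_sim m a b (ν : F) α β hαβ v
    have heps₀ : epsHom (QMn m a b) hQ0 (m + 1)
        ⟨glOfSq (swapMinusMat m a b (ν : F) α β) ν (swapMinusMat_sq m a b (ν : F) α β hαβ),
          ⟨ν, hsim⟩⟩ = -1 := by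
      have hmu₀ : mu (⇑(QMn m a b)) ⟨glOfSq (swapMinusMat m a b (ν : F) α β) ν
          (swapMinusMat_sq m a b (ν : F) α β hαβ), ⟨ν, hsim⟩⟩ = ν :=
        Units.ext (mu_unique hQ0 _ ν hsim)
      rw [epsHom_apply, hmu₀]
      apply Units.ext
      rw [Units.val_mul, detGO_coe]
      show (swapMinusMat m a b (ν : F) α β).det * _ = _
      rw [det_swapMinusMat m a b (ν : F) α β hαβ, Units.val_neg, Units.val_one]
      have hodd1 : Odd (m + 1) := hme.add_one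
      rw [hodd1.neg_pow, ← Units.val_pow_eq_pow_val, neg_mul, ← Units.val_mul, mul_inv_cancel,
        Units.val_one]
    exact zmod4_of hQ hQ0 (card_minus m) h2 hn hsurj hneg
      ⟨glOfSq (swapMinusMat m a b (ν : F) α β) ν (swapMinusMat_sq m a b (ν : F) α β hαβ),
        ⟨ν, hsim⟩⟩ ν hν hsim ν
      (Subtype.ext (glOfSq_sq (swapMinusMat m a b (ν : F) α β) ν
        (swapMinusMat_sq m a b (ν : F) α β hαβ))) heps₀
  · intro h
    have hneg : negOne (QMn m a b) ∉ commutator ↥(Cfsg.isometryGroup F ⇑(QMn m a b)) := by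
      rw [hiff]; exact h
    exact exists_zmod2_hom _
      (relIndex_inn_idg_of_not_mem hQ hQ0 (card_minus m) h2 hn hsurj hneg)

end Cfsg.Agent.Lib.Helper5.PGO
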