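import Mathlib
import Cfsg.Agent.Lib.Helper5.PGO26
import Cfsg.Agent.Lib.Helper5.OFld28

set_option autoImplicit false

/-! A root of an anisotropic binary form in a quadratic extension (all characteristics), and
the parity classes of Lagrangians in terms of the Dickson invariant. -/

namespace Cfsg.Agent.Lib.Helper5.OFld

open Matrix Module Polynomial

section Root

/-- an anisotropic binary form over a finite field has a root in every quadratic extension -/
theorem exists_root_ext {F K : Type*} [Field F] [Finite F] [Field K] [Algebra F K]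
    (hK : finrank F K = 2) (a b : F)
    (hab : ∀ z₁ z₂ : F, z₁ ^ 2 + a * z₁ * z₂ + b * z₂ ^ 2 = 0 → z₁ = 0 ∧ z₂ = 0) :
    ∃ r : K, r ^ 2 + algebraMap F K a * r + algebraMap F K b = 0 := by
  set f : F[X] := C 1 * X ^ 2 + C a * X + C b with hf
  have hdeg : f.natDegree = 2 := natDegree_quadratic one_ne_zero
  have hirr : Irreducible f := by
    apply irreducible_of_degree_le_three_of_not_isRoot
    · rw [hdeg]; decide
    · intro x hx
      have h1 : f.eval x = 0 := hx
      rw [hf] at h1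
      simp only [eval_add, eval_mul, eval_C, eval_pow, eval_X, one_mul] at h1
      have := hab x 1 (by linear_combination h1)
      exact one_ne_zero this.2
  haveI : Fact (Irreducible f) := ⟨hirr⟩
  have hfr : finrank F (AdjoinRoot f) = 2 := by
    rw [(AdjoinRoot.powerBasis hirr.ne_zero).finrank, AdjoinRoot.powerBasis_dim, hdeg]
  haveI : Finite K := Cfsg.Agent.Lib.Helper5.PGO.finite_of_finrank_two hK
  obtain ⟨φ⟩ := FiniteField.nonempty_algHom_of_finrank_dvd (F := F) (K := AdjoinRoot f) (L := K)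
    (by rw [hfr, hK])
  refine ⟨φ (AdjoinRoot.root f), ?_⟩
  have h0 : aeval (AdjoinRoot.root f) f = 0 := by
    rw [AdjoinRoot.aeval_eq, AdjoinRoot.mk_self]
  have h1 : aeval (φ (AdjoinRoot.root f)) f = 0 := by
    rw [aeval_algHom_apply, h0, map_zero]
  have h2 : ∀ y : K, aeval y f = y ^ 2 + algebraMap F K a * y + algebraMap F K b := by
    intro y
    rw [hf]
    simp only [map_add, map_mul, aeval_C, map_pow, aeval_X, map_one, one_mul]
  rw [← h2]
  exact h1

end Root

section Par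

open Cfsg.Agent.Lib.Helper5.PGO Cfsg.Agent.Lib.Helper5.MaxTS Cfsg.Agent.Lib.Helper5.OmegaCrit
open Cfsg.Agent.Lib.Helper5.OmegaAdjust Cfsg.Agent.Lib.Helper2.Dickson Cfsg.Agent.Lib.Helper2

variable {F : Type*} [Field F] [Fintype F] {ι : Type} [Fintype ι] [DecidableEq ι]
variable {Q : QuadraticForm F (ι → F)}

/-- an isometry preserves the class of a Lagrangian iff its Dickson invariant vanishes (all
characteristics) -/
theorem par_act_iff_dfun (hQ : (QuadraticMap.polarBilin Q).Nondegenerate)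
    (hex : Fintype.card F ≠ 2 ∨ Fintype.card ι ≠ 4) (hn : 2 ≤ Fintype.card ι)
    {E : Submodule F (ι → F)} (hE : IsLag Q E) (h : ↥(Cfsg.isometryGroup F ⇑Q)) :
    par E (act h E) ↔ dfun h = 0 := by
  obtain ⟨vs, hvs, hh⟩ := exists_list (closure_R_all hQ hex hn) h
  unfold par act
  rw [even_sub_iff hQ hE vs hvs h hh, dfun_prod hQ vs hvs h hh]
  exact (ZMod.natCast_eq_zero_iff_even).symm

/-- the class preservation criterion for the product of a scalar and an isometry -/
theorem preserves_iff_dfun (hQ : (QuadraticMap.polarBilin Q).Nondegenerate)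
    (hex : Fintype.card F ≠ 2 ∨ Fintype.card ι ≠ 4) (hn : 2 ≤ Fintype.card ι)
    {E₀ : Submodule F (ι → F)} (hE₀ : IsLag Q E₀) (g : Matrix ι ι F) (c : Fˣ)
    (hO : ↥(Cfsg.isometryGroup F ⇑Q))
    (hg : g = ((scalHom c : GL ι F) : Matrix ι ι F) * ((hO : GL ι F) : Matrix ι ι F)) :
    Cfsg.PreservesSingularClasses (⇑Q) g ↔ dfun hO = 0 := by
  have hmap : ∀ U : Submodule F (ι → F), Cfsg.imageSubmodule g U = act hO U := by
    intro U
    unfold Cfsg.imageSubmodule
    rw [hg]
    show U.map (Matrix.mulVecLin _) = _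
    rw [map_mulVecLin_mul]
    exact map_scal c _
  constructor
  · intro h
    have h1 := h E₀ (max_of_lag_gen hQ hE₀)
    rw [hmap] at h1
    exact (par_act_iff_dfun hQ hex hn hE₀ hO).1 h1
  · intro h U hU
    rw [hmap]
    exact (par_act_iff_dfun hQ hex hn (lag_of_max_gen hQ hE₀ hU) hO).2 h

end Par

section Emb

open Cfsg.Agent.Lib.Helper5.PGO Cfsg.Agent.Lib.Helper2.Dickson Cfsg.Agent.Lib.Helper2
open Cfsg.Agent.Lib.Helper2.CDG Cfsg.Agent.Lib.Helper2.ReflGen

variable {F F₀ : Type*} [Field F] [Field F₀] {ι : Type} [Fintype ι] [DecidableEq ι]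
variable {Q : QuadraticForm F (ι → F)} {Q₀ : QuadraticForm F₀ (ι → F₀)}

theorem dfun_inv (hQ : (QuadraticMap.polarBilin Q).Nondegenerate)
    (hgen : Subgroup.closure (R Q) = ⊤) (x : ↥(Cfsg.isometryGroup F ⇑Q)) :
    dfun x⁻¹ = dfun x := by
  have h3 := dfun_mul hQ hgen x x⁻¹
  rw [mul_inv_cancel, dfun_one] at h3
  have h4 : ∀ a b : ZMod 2, 0 = a + b → b = a := by decide
  exact h4 _ _ h3

/-- base change does not change the Dickson invariant -/
theorem dfun_embO (ι₀ : F₀ →+* F) (hcompat : ∀ v, Q (extV ι₀ v) = ι₀ (Q₀ v))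
    (hQ : (QuadraticMap.polarBilin Q).Nondegenerate)
    (hQ₀ : (QuadraticMap.polarBilin Q₀).Nondegenerate)
    (hgen : Subgroup.closure (R Q) = ⊤) (hgen₀ : Subgroup.closure (R Q₀) = ⊤)
    (h : ↥(Cfsg.isometryGroup F₀ ⇑Q₀)) : dfun (embO ι₀ hcompat h) = dfun h := by
  have hh : h ∈ Subgroup.closure (R Q₀) := by rw [hgen₀]; trivial
  induction hh using Subgroup.closure_induction with
  | mem g hg =>
    obtain ⟨v, hv, hgv⟩ := hg
    have : g = refl Q₀ v hv := by
      apply Subtype.ext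
      apply Units.ext
      rw [hgv, refl_coe]
    have hv' : Q (extV ι₀ v) ≠ 0 := by
      rw [hcompat]
      exact (map_ne_zero_iff _ ι₀.injective).2 hv
    rw [this, embO_refl ι₀ hcompat v hv hv', dfun_refl hQ, dfun_refl hQ₀]
  | one => rw [map_one, dfun_one, dfun_one]
  | mul x y _ _ hx hy => rw [map_mul, dfun_mul hQ hgen, dfun_mul hQ₀ hgen₀, hx, hy]
  | inv x _ hx => rw [map_inv, dfun_inv hQ hgen, dfun_inv hQ₀ hgen₀, hx]

end Emb

section Minus

open Cfsg.Agent.Lib.Helper5.PGO Cfsg.Agent.Lib.Helper2.Dickson Cfsg.Agent.Lib.Helper2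
open Cfsg.Agent.Lib.Helper2.CDG Cfsg.Agent.Lib.Helper2.ReflGen Cfsg.Agent.Lib.Helper2.OrthCard
open Cfsg.Agent.Lib.Helper5.OmegaCrit Cfsg.Agent.Lib.Helper2.OrthSum

universe u

variable {F : Type u} [Field F] [Fintype F] {m : ℕ}

/-- the class preservation criterion over a given quadratic extension, for the product of a
scalar and an isometry -/
theorem preserves_K_iff_dfun (hm : 2 ≤ m) (a b : F)
    (hab : ∀ z₁ z₂ : F, z₁ ^ 2 + a * z₁ * z₂ + b * z₂ ^ 2 = 0 → z₁ = 0 ∧ z₂ = 0)
    (K : Type*) [Field K] [Algebra F K] (hK : finrank F K = 2)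
    (g : ↥(GO (⇑(QMn m a b)))) (c : Fˣ) (hO : ↥(Cfsg.isometryGroup F ⇑(QMn m a b)))
    (hg : g = scalGO (QMn m a b) c * incl (⇑(QMn m a b)) hO) :
    Cfsg.PreservesSingularClasses
      (Cfsg.quadFormMinus m K (algebraMap F K a) (algebraMap F K b))
      (((g : GL ((Fin m ⊕ Fin m) ⊕ Fin 2) F) :
        Matrix ((Fin m ⊕ Fin m) ⊕ Fin 2) ((Fin m ⊕ Fin m) ⊕ Fin 2) F).map (algebraMap F K)) ↔
      dfun hO = 0 := by
  classical
  haveI hfin : Finite K := finite_of_finrank_two hK
  letI : Fintype K := Fintype.ofFinite K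
  obtain ⟨r, hr⟩ := exists_root_ext hK a b hab
  have hD : (algebraMap F K a) ^ 2 - 4 * algebraMap F K b ≠ 0 := by
    have hd := disc_ne_zero a b hab
    intro h
    apply hd
    apply (algebraMap F K).injective
    rw [map_sub, map_pow, map_mul, map_ofNat, map_zero]
    exact h
  have hQK := QMn_nondeg' m (algebraMap F K a) (algebraMap F K b) hD
  have hQF := QMn_nondeg (F := F) m a b hab
  have hE₀ := isLag_Emin m (algebraMap F K a) (algebraMap F K b) r hD hr
  have hcard : Fintype.card ((Fin m ⊕ Fin m) ⊕ Fin 2) = 2 * m + 2 := card_minus_index m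
  have hn : 2 ≤ Fintype.card ((Fin m ⊕ Fin m) ⊕ Fin 2) := by rw [hcard]; omega
  have hexK : Fintype.card K ≠ 2 ∨ Fintype.card ((Fin m ⊕ Fin m) ⊕ Fin 2) ≠ 4 := by
    right; rw [hcard]; omega
  have hexF : Fintype.card F ≠ 2 ∨ Fintype.card ((Fin m ⊕ Fin m) ⊕ Fin 2) ≠ 4 := by
    right; rw [hcard]; omega
  have hcompat : ∀ v, QMn m (algebraMap F K a) (algebraMap F K b) (extV (algebraMap F K) v) =
      algebraMap F K (QMn m a b v) := fun v => QMn_compat K a b v
  have hemb : embGO (algebraMap F K) hcompat g =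
      scalGO (QMn m (algebraMap F K a) (algebraMap F K b))
        (Units.map ((algebraMap F K : F →+* K) : F →* K) c) *
      incl (⇑(QMn m (algebraMap F K a) (algebraMap F K b))) (embO (algebraMap F K) hcompat hO) := by
    rw [hg, map_mul, embGO_scal, incl_embO]
  have hmat : ((g : GL ((Fin m ⊕ Fin m) ⊕ Fin 2) F) :
        Matrix ((Fin m ⊕ Fin m) ⊕ Fin 2) ((Fin m ⊕ Fin m) ⊕ Fin 2) F).map (algebraMap F K) =
      ((scalHom (Units.map ((algebraMap F K : F →+* K) : F →* K) c) :
        GL ((Fin m ⊕ Fin m) ⊕ Fin 2) K) : Matrix _ _ K) *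
      (((embO (algebraMap F K) hcompat hO : ↥(Cfsg.isometryGroup K _)) :
        GL ((Fin m ⊕ Fin m) ⊕ Fin 2) K) : Matrix _ _ K) := by
    rw [← embGO_coe (algebraMap F K) hcompat g, hemb]
    rfl
  have hcoe : Cfsg.quadFormMinus m K (algebraMap F K a) (algebraMap F K b) =
      ⇑(QMn m (algebraMap F K a) (algebraMap F K b)) := (QMn_coe m _ _).symm
  rw [hcoe]
  refine (preserves_iff_dfun hQK hexK hn hE₀ _ _ _ hmat).trans ?_
  rw [dfun_embO (algebraMap F K) hcompat hQK hQF (closure_R_all hQK hexK hn)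
    (closure_R_all hQF hexF hn)]

/-- the class preservation criterion for the minus type form, for the product of a scalar and an
isometry (all characteristics) -/
theorem preserves_minus_iff_dfun (hm : 2 ≤ m) (a b : F)
    (hab : ∀ z₁ z₂ : F, z₁ ^ 2 + a * z₁ * z₂ + b * z₂ ^ 2 = 0 → z₁ = 0 ∧ z₂ = 0)
    (g : ↥(GO (⇑(QMn m a b)))) (c : Fˣ) (hO : ↥(Cfsg.isometryGroup F ⇑(QMn m a b)))
    (hg : g = scalGO (QMn m a b) c * incl (⇑(QMn m a b)) hO) :
    Cfsg.PreservesSingularClassesMinus m a b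
      ((g : GL ((Fin m ⊕ Fin m) ⊕ Fin 2) F) :
        Matrix ((Fin m ⊕ Fin m) ⊕ Fin 2) ((Fin m ⊕ Fin m) ⊕ Fin 2) F) ↔ dfun hO = 0 := by
  constructor
  · rintro ⟨K, hfield, halg, hK, hpres⟩
    exact (preserves_K_iff_dfun hm a b hab K hK g c hO hg).1 hpres
  · intro h
    obtain ⟨K, hfield, halg, hK⟩ := exists_quadratic_ext a b hab
    exact ⟨K, hfield, halg, hK, (preserves_K_iff_dfun hm a b hab K hK g c hO hg).2 h⟩

end Minus

end Cfsg.Agent.Lib.Helper5.OFld
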