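import Mathlib
import Cfsg.Agent.Lib.Helper5.OFld29

set_option autoImplicit false

/-! In characteristic two the inner-diagonal group of `PΩ⁻` is the inner automorphism group. -/

namespace Cfsg.Agent.Lib.Helper5.OFld

open Matrix Module Cfsg.Agent.Lib.Helper5.PGO Cfsg.Agent.Lib.Helper5.OAut
open Cfsg.Agent.Lib.Helper2 Cfsg.Agent.Lib.Helper2.Dickson Cfsg.Agent.Lib.Helper2.OrthCard
open Cfsg.Agent.Lib.Helper5.OmegaCrit

section CharTwo
variable {F : Type*} [Field F] [Fintype F] {ι : Type} [Fintype ι] [DecidableEq ι]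
variable {Q : QuadraticForm F (ι → F)}

/-- in characteristic two every similarity is a scalar times an isometry -/
theorem exists_scal_iso_two (h2 : (2 : F) = 0) (hQ0 : ∃ v, Q v ≠ 0) (g : ↥(GO (⇑Q))) :
    ∃ (t : Fˣ) (hO : ↥(Cfsg.isometryGroup F ⇑Q)), g = scalGO Q t * incl (⇑Q) hO := by
  have hch : ringChar F = 2 :=
    CharP.ringChar_of_prime_eq_zero Nat.prime_two (by exact_mod_cast h2)
  obtain ⟨s, hs⟩ := FiniteField.isSquare_of_char_two hch (mu (⇑Q) g : F)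
  have hs0 : s ≠ 0 := by
    rintro rfl
    rw [mul_zero] at hs
    exact (mu (⇑Q) g).ne_zero hs
  obtain ⟨t, ht⟩ : ∃ t : Fˣ, (t : F) = s := ⟨Units.mk0 s hs0, rfl⟩
  have hmem : ((scalGO Q t⁻¹ * g : ↥(GO (⇑Q))) : GL ι F) ∈ Cfsg.isometryGroup F ⇑Q := by
    rw [mem_iso_iff]
    intro v
    rw [Subgroup.coe_mul, Units.val_mul, ← Matrix.mulVec_mulVec, scalGO_coe, scalHom_mulVec,
      QuadraticMap.map_smul, mu_spec (⇑Q) g, hs, ← ht, smul_eq_mul, Units.val_inv_eq_inv_val]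
    field_simp
  refine ⟨t, ⟨_, hmem⟩, ?_⟩
  have : incl (⇑Q) ⟨_, hmem⟩ = scalGO Q t⁻¹ * g := rfl
  rw [this, ← mul_assoc, ← map_mul, mul_inv_cancel, map_one, one_mul]

end CharTwo

section Minus
variable {F : Type*} [Field F] [Fintype F] {m : ℕ}

/-- in characteristic two a similarity of the minus type form preserves the classes iff it
induces an inner automorphism -/
theorem preserves_iff_inn_two (h2 : (2 : F) = 0) (hm : 3 ≤ m) (a b : F)
    (hab : ∀ z₁ z₂ : F, z₁ ^ 2 + a * z₁ * z₂ + b * z₂ ^ 2 = 0 → z₁ = 0 ∧ z₂ = 0)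
    (g : ↥(GO (⇑(QMn m a b)))) :
    Cfsg.PreservesSingularClassesMinus m a b
      ((g : GL ((Fin m ⊕ Fin m) ⊕ Fin 2) F) :
        Matrix ((Fin m ⊕ Fin m) ⊕ Fin 2) ((Fin m ⊕ Fin m) ⊕ Fin 2) F) ↔
      Phi (⇑(QMn m a b)) g ∈ Cfsg.Inn (Cfsg.POmega F ⇑(QMn m a b)) := by
  have hQ := QMn_nondeg (F := F) m a b hab
  have hcard : Fintype.card ((Fin m ⊕ Fin m) ⊕ Fin 2) = 2 * m + 2 := card_minus_index m
  have hn : 7 ≤ Fintype.card ((Fin m ⊕ Fin m) ⊕ Fin 2) := by rw [hcard]; omega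
  have hn2 : 2 ≤ Fintype.card ((Fin m ⊕ Fin m) ⊕ Fin 2) := by omega
  have hex : Fintype.card F ≠ 2 ∨ Fintype.card ((Fin m ⊕ Fin m) ⊕ Fin 2) ≠ 4 := by
    right; omega
  have hQ0 := exists_value_ne hQ hn2
  obtain ⟨t, hO, hg⟩ := exists_scal_iso_two h2 hQ0 g
  rw [preserves_minus_iff_dfun (by omega) a b hab g t hO hg, ← mem_commutator_iff₂ h2 hQ hex hn2]
  have hPhi : Phi (⇑(QMn m a b)) g = PsiO (QMn m a b) hO := by
    rw [hg, map_mul]
    have : Phi (⇑(QMn m a b)) (scalGO (QMn m a b) t) = 1 := scal_le_ker ⟨t, rfl⟩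
    rw [this, one_mul]
    rfl
  rw [hPhi, inn_eq_map_PsiO, Subgroup.mem_map_iff_mem (PsiO_injective h2 hQ hn)]

/-- in characteristic two the inner-diagonal group of the minus type group is the inner
automorphism group -/
theorem inndiag_minus_two (h2 : (2 : F) = 0) (hm : 3 ≤ m) (a b : F)
    (hab : ∀ z₁ z₂ : F, z₁ ^ 2 + a * z₁ * z₂ + b * z₂ ^ 2 = 0 → z₁ = 0 ∧ z₂ = 0) :
    inndiagQM (⇑(QMn m a b)) (Cfsg.PreservesSingularClassesMinus m a b) =
      Cfsg.Inn (Cfsg.POmega F ⇑(QMn m a b)) := by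
  rw [inndiagQM_eq (⇑(QMn m a b)) (Cfsg.PreservesSingularClassesMinus m a b)
    ((Cfsg.Inn (Cfsg.POmega F ⇑(QMn m a b))).comap (Phi (⇑(QMn m a b))))
    (fun g => by rw [preserves_iff_inn_two h2 hm a b hab g, Subgroup.mem_comap]),
    Subgroup.map_comap_eq, ← pgoAut_eq]
  exact inf_eq_right.2 inn_le_pgo

end Minus

end Cfsg.Agent.Lib.Helper5.OFld
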