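import Mathlib
import Cfsg.Agent.Lib.Helper5.OFld30

set_option autoImplicit false

/-! The conjugacy theorem for field automorphisms of the minus type orthogonal groups. -/

namespace Cfsg.Agent.Lib.Helper5.OFld

open Matrix Module Cfsg.Agent.Lib.Helper5.PGO Cfsg.Agent.Lib.Helper5.OAut
open Cfsg.Agent.Lib.Helper2 Cfsg.Agent.Lib.Helper2.OrthCard
open Cfsg.Agent.Lib.Helper5.OrthCls Cfsg.Agent.Lib.Helper5.MaxTS

section Sim
variable {F : Type*} [Field F] {ι : Type} [Fintype ι] [DecidableEq ι]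

theorem finrank_map_GL' (g : GL ι F) (U : Submodule F (ι → F)) :
    finrank F ↥(U.map (Matrix.mulVecLin (g : Matrix ι ι F))) = finrank F ↥U := by
  have hinj : Function.Injective (Matrix.mulVecLin (g : Matrix ι ι F)) := by
    intro x y h
    have := congrArg (fun z => ((g⁻¹ : GL ι F) : Matrix ι ι F) *ᵥ z) h
    simp only [Matrix.mulVecLin_apply, Matrix.mulVec_mulVec] at this
    rw [← Units.val_mul, inv_mul_cancel, Units.val_one, Matrix.one_mulVec,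
      Matrix.one_mulVec] at this
    exact this
  exact (LinearEquiv.finrank_eq (Submodule.equivMapOfInjective _ hinj U)).symm

/-- plus type is inherited along a similarity -/
theorem isPlus_of_sim (Q Q' : QuadraticForm F (ι → F)) (t : GL ι F) (ν : F)
    (h : ∀ e, Q ((t : Matrix ι ι F) *ᵥ e) = ν * Q' e) (hP : IsPlus Q') : IsPlus Q := by
  obtain ⟨U, hU, hd⟩ := hP
  refine ⟨U.map (Matrix.mulVecLin (t : Matrix ι ι F)), ?_, ?_⟩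
  · rintro _ ⟨e, he, rfl⟩
    rw [Matrix.mulVecLin_apply, h, hU e he, mul_zero]
  · rw [finrank_map_GL']
    exact hd

end Sim

section Minus
variable {F F₀ : Type*} [Field F] [Field F₀] {m : ℕ}

theorem QMn_extV (ι₀ : F₀ →+* F) (m : ℕ) (a₀ b₀ : F₀)
    (v : (Fin m ⊕ Fin m) ⊕ Fin 2 → F₀) :
    QMn m (ι₀ a₀) (ι₀ b₀) (extV ι₀ v) = ι₀ (QMn m a₀ b₀ v) := by
  rw [QMn_coe, QMn_coe]
  unfold Cfsg.quadFormMinus
  simp only [map_add, map_mul, map_sum, map_pow, extV_apply]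

theorem aniso_of_map (ι₀ : F₀ →+* F) (a₀ b₀ : F₀)
    (hab : ∀ z₁ z₂ : F, z₁ ^ 2 + ι₀ a₀ * z₁ * z₂ + ι₀ b₀ * z₂ ^ 2 = 0 → z₁ = 0 ∧ z₂ = 0) :
    ∀ z₁ z₂ : F₀, z₁ ^ 2 + a₀ * z₁ * z₂ + b₀ * z₂ ^ 2 = 0 → z₁ = 0 ∧ z₂ = 0 := by
  intro z₁ z₂ h
  have h1 := hab (ι₀ z₁) (ι₀ z₂) (by
    have := congrArg ι₀ h
    simpa only [map_add, map_mul, map_pow, map_zero] using this)
  exact ⟨ι₀.injective (by rw [h1.1, map_zero]), ι₀.injective (by rw [h1.2, map_zero])⟩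

theorem isPlus_QMn_one_zero (K : Type*) [Field K] (m : ℕ) : IsPlus (QMn m (1 : K) 0) := by
  have hD : (1 : K) ^ 2 - 4 * 0 ≠ 0 := by simp
  have hL := isLag_Emin m (1 : K) 0 0 hD (by ring)
  exact ⟨Emin m 0, hL.ts, by rw [hL.dim, Module.finrank_fintype_fun_eq_card]⟩

/-- forms over the fixed field which become similar to the minus type form are isometric to the
standard minus type form -/
theorem cls_minus [Finite F₀] (ι₀ : F₀ →+* F) (m : ℕ) (a₀ b₀ : F₀)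
    (hab : ∀ z₁ z₂ : F, z₁ ^ 2 + ι₀ a₀ * z₁ * z₂ + ι₀ b₀ * z₂ ^ 2 = 0 → z₁ = 0 ∧ z₂ = 0)
    (Q₀ : QuadraticForm F₀ ((Fin m ⊕ Fin m) ⊕ Fin 2 → F₀))
    (hQ₀ : (QuadraticMap.polarBilin Q₀).Nondegenerate)
    (hex : ∃ (B : Matrix ((Fin m ⊕ Fin m) ⊕ Fin 2) ((Fin m ⊕ Fin m) ⊕ Fin 2) F) (ν : F),
      IsUnit B ∧ ν ≠ 0 ∧
        ∀ v, ι₀ (Q₀ v) = ν⁻¹ * QMn m (ι₀ a₀) (ι₀ b₀) (B *ᵥ extV ι₀ v)) :
    ∃ (μ : F₀) (E₁ : ((Fin m ⊕ Fin m) ⊕ Fin 2 → F₀) ≃ₗ[F₀] ((Fin m ⊕ Fin m) ⊕ Fin 2 → F₀)),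
      μ ≠ 0 ∧ ∀ v, Q₀ (E₁ v) = μ * QMn m a₀ b₀ v := by
  classical
  obtain ⟨B, ν, hBu, hν0, hB⟩ := hex
  have hab₀ := aniso_of_map ι₀ a₀ b₀ hab
  have hnp₀ : ¬ IsPlus (QMn m a₀ b₀) := not_isPlus_QMn m a₀ b₀ hab₀
  have heven : Even (finrank F₀ ((Fin m ⊕ Fin m) ⊕ Fin 2 → F₀)) := by
    rw [Module.finrank_fintype_fun_eq_card, card_minus]
    exact even_two_mul _
  have hnp : ¬ IsPlus Q₀ := by
    intro hP
    have hD₀ : (1 : F₀) ^ 2 - 4 * 0 ≠ 0 := by simp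
    obtain ⟨g, hg⟩ := iso_of_type Q₀ (QMn m (1 : F₀) 0) hQ₀ (QMn_nondeg' m 1 0 hD₀) rfl heven
      (iff_of_true hP (isPlus_QMn_one_zero F₀ m))
    obtain ⟨M, hM⟩ : ∃ M : Matrix ((Fin m ⊕ Fin m) ⊕ Fin 2) ((Fin m ⊕ Fin m) ⊕ Fin 2) F₀,
      M = LinearMap.toMatrix' g.toLinearMap := ⟨_, rfl⟩
    have hMv : ∀ v₀, M *ᵥ v₀ = g v₀ := by
      intro v₀
      rw [hM, LinearMap.toMatrix'_mulVec]
      rfl
    have hMu : IsUnit M := by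
      rw [hM]
      have h1 : LinearMap.toMatrix' g.toLinearMap * LinearMap.toMatrix' g.symm.toLinearMap = 1 := by
        rw [← LinearMap.toMatrix'_comp]
        have : g.toLinearMap.comp g.symm.toLinearMap = LinearMap.id := by
          ext v
          simp
        rw [this, LinearMap.toMatrix'_id]
      exact IsUnit.of_mul_eq_one _ h1
    have hMFu : IsUnit (M.map ι₀) := by
      rw [Matrix.isUnit_iff_isUnit_det] at hMu ⊢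
      have : (M.map ι₀).det = ι₀ M.det := (RingHom.map_det ι₀ M).symm
      rw [this]
      exact hMu.map ι₀
    obtain ⟨Bg, hBg⟩ : ∃ Bg : GL ((Fin m ⊕ Fin m) ⊕ Fin 2) F, (Bg : Matrix _ _ F) = B :=
      ⟨hBu.unit, rfl⟩
    obtain ⟨Mg, hMg⟩ : ∃ Mg : GL ((Fin m ⊕ Fin m) ⊕ Fin 2) F, (Mg : Matrix _ _ F) = M.map ι₀ :=
      ⟨hMFu.unit, rfl⟩
    have h10 : QMn m (ι₀ (1 : F₀)) (ι₀ 0) = QMn m (1 : F) 0 := by rw [map_one, map_zero]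
    have hbc : ∀ w, QMn m (1 : F) 0 ((M.map ι₀) *ᵥ w) =
        ν⁻¹ * QMn m (ι₀ a₀) (ι₀ b₀) (B *ᵥ w) := by
      intro w
      exact base_change ι₀ ((QMn m (1 : F) 0).comp (Matrix.toLin' (M.map ι₀)))
        (ν⁻¹ • (QMn m (ι₀ a₀) (ι₀ b₀)).comp (Matrix.toLin' B)) (by
          intro v₀
          show QMn m (1 : F) 0 ((M.map ι₀) *ᵥ extV ι₀ v₀) =
            ν⁻¹ * QMn m (ι₀ a₀) (ι₀ b₀) (B *ᵥ extV ι₀ v₀)
          rw [extV_mulVec, hMv, ← h10, QMn_extV, hg, hB]) w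
    have hsim : ∀ e, QMn m (ι₀ a₀) (ι₀ b₀)
        (((Bg * Mg⁻¹ : GL ((Fin m ⊕ Fin m) ⊕ Fin 2) F) : Matrix _ _ F) *ᵥ e) =
        ν * QMn m (1 : F) 0 e := by
      intro e
      have h1 := hbc (((Mg⁻¹ : GL ((Fin m ⊕ Fin m) ⊕ Fin 2) F) : Matrix _ _ F) *ᵥ e)
      rw [← hMg, Matrix.mulVec_mulVec, ← Units.val_mul, mul_inv_cancel, Units.val_one,
        Matrix.one_mulVec, ← hBg, Matrix.mulVec_mulVec, ← Units.val_mul] at h1
      rw [h1]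
      field_simp
    exact not_isPlus_QMn m (ι₀ a₀) (ι₀ b₀) hab
      (isPlus_of_sim _ _ (Bg * Mg⁻¹) ν hsim (isPlus_QMn_one_zero F m))
  obtain ⟨g, hg⟩ := iso_of_type Q₀ (QMn m a₀ b₀) hQ₀ (QMn_nondeg m a₀ b₀ hab₀) rfl heven
    (iff_of_false hnp hnp₀)
  exact ⟨1, g.symm, one_ne_zero, fun v => by rw [one_mul, ← hg, g.apply_symm_apply]⟩

end Minus

section Conj
variable {F : Type*} [Field F] [Fintype F] {m : ℕ}

/-- the standard field automorphism pair of a minus type form with fixed coefficients -/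
theorem pair_std_minus (m : ℕ) (a b : F) (σ : F ≃+* F) (ha : σ a = a) (hb : σ b = b) :
    Cfsg.IsSemisimilarityPair (⇑(QMn m a b)) (1 : GL ((Fin m ⊕ Fin m) ⊕ Fin 2) F) σ := by
  refine ⟨1, fun v => ?_⟩
  rw [Units.val_one, Matrix.one_mulVec, Units.val_one, one_mul, QMn_coe]
  unfold Cfsg.quadFormMinus
  simp only [map_add, map_mul, map_sum, map_pow, ha, hb]

/-- the conjugacy theorem for the minus type orthogonal groups -/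
theorem field_conj_minus (hm : 3 ≤ m) (a b : F)
    (hab : ∀ z₁ z₂ : F, z₁ ^ 2 + a * z₁ * z₂ + b * z₂ ^ 2 = 0 → z₁ = 0 ∧ z₂ = 0)
    (σ : F ≃+* F) (ha : σ a = a) (hb : σ b = b) (r : ℕ) (hr : orderOf σ = r) (hr0 : 0 < r)
    (hstd : Cfsg.IsSemisimilarityPair (⇑(QMn m a b)) (1 : GL ((Fin m ⊕ Fin m) ⊕ Fin 2) F) σ)
    (g : GL ((Fin m ⊕ Fin m) ⊕ Fin 2) F)
    (hg : Cfsg.IsSemisimilarityPair (⇑(QMn m a b)) g σ) (hpow : (PhiS g σ hg) ^ r = 1) :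
    ∃ h : ↥(GO (⇑(QMn m a b))), PhiS g σ hg =
      Phi (⇑(QMn m a b)) h * PhiS 1 σ hstd * (Phi (⇑(QMn m a b)) h)⁻¹ := by
  classical
  have hQ := QMn_nondeg (F := F) m a b hab
  have hn : 7 ≤ Fintype.card ((Fin m ⊕ Fin m) ⊕ Fin 2) := by rw [card_minus_index]; omega
  obtain ⟨a₀, ha₀⟩ : ∃ a₀ : ↥(fixF σ), (fixF σ).subtype a₀ = a := ⟨⟨a, ha⟩, rfl⟩
  obtain ⟨b₀, hb₀⟩ : ∃ b₀ : ↥(fixF σ), (fixF σ).subtype b₀ = b := ⟨⟨b, hb⟩, rfl⟩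
  subst ha₀
  subst hb₀
  exact field_conj_general hQ hn (fixF σ).subtype σ (fixF_range σ) r hr hr0
    (QMn m a₀ b₀) (QMn_extV _ m a₀ b₀)
    (fun Q₀ hQ₀ hex => cls_minus (fixF σ).subtype m a₀ b₀ hab Q₀ hQ₀ hex)
    hstd g hg hpow

end Conj

end Cfsg.Agent.Lib.Helper5.OFld
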