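import Mathlib
import Cfsg.Agent.Lib.Helper5.OFld31

set_option autoImplicit false

/-! Coset conjugacy for a standard field automorphism of the minus type group, relative to a
subgroup of index at most two of the projective similarity group. -/

namespace Cfsg.Agent.Lib.Helper5.OFld

open Matrix Module Cfsg.Agent.Lib.Helper5.PGO Cfsg.Agent.Lib.Helper5.OAut
open Cfsg.Agent.Lib.Helper5.PSLCoset
open Cfsg.Agent.Lib.Helper2 Cfsg.Agent.Lib.Helper2.OrthCard

section Group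
variable {G : Type*} [Group G]

/-- conjugacy under a group descends to a subgroup of index at most two having a complement
representative centralising the element -/
theorem conjUnder_of_index_two (P N : Subgroup G) (x y h c : G) (hh : h ∈ P) (hy : y = h * x * h⁻¹)
    (hc : c ∈ P) (hcN : c ∉ N) (hcx : c * x = x * c)
    (hmul : ∀ u v : G, u ∈ P → v ∈ P → u ∉ N → v ∉ N → u * v ∈ N) :
    Cfsg.IsConjUnder N x y := by
  by_cases hN : h ∈ N
  · exact ⟨h, hN, hy⟩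
  · refine ⟨h * c, hmul h c hh hc hN hcN, ?_⟩
    rw [hy, _root_.mul_inv_rev]
    have : c * x * c⁻¹ = x := by rw [hcx, mul_inv_cancel_right]
    calc h * x * h⁻¹ = h * (c * x * c⁻¹) * h⁻¹ := by rw [this]
      _ = h * c * x * (c⁻¹ * h⁻¹) := by group

end Group

section Std
variable {F : Type*} [Field F] [Fintype F] {m : ℕ}

/-- coset conjugacy for the standard field automorphism of a minus type form -/
theorem coset_conj_minus_std (hm : 3 ≤ m) (a b : F)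
    (hab : ∀ z₁ z₂ : F, z₁ ^ 2 + a * z₁ * z₂ + b * z₂ ^ 2 = 0 → z₁ = 0 ∧ z₂ = 0)
    (σ : F ≃+* F) (ha : σ a = a) (hb : σ b = b) (r : ℕ) (hr : orderOf σ = r) (hr0 : 0 < r)
    (hstd : Cfsg.IsSemisimilarityPair (⇑(QMn m a b)) (1 : GL ((Fin m ⊕ Fin m) ⊕ Fin 2) F) σ)
    (N : Subgroup (MulAut (Cfsg.POmega F (⇑(QMn m a b)))))
    (c : MulAut (Cfsg.POmega F (⇑(QMn m a b)))) (hc : c ∈ Cfsg.pgoAut F (⇑(QMn m a b)))
    (hcN : c ∉ N) (hcx : c * PhiS 1 σ hstd = PhiS 1 σ hstd * c)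
    (hmul : ∀ u v : MulAut (Cfsg.POmega F (⇑(QMn m a b))), u ∈ Cfsg.pgoAut F (⇑(QMn m a b)) →
      v ∈ Cfsg.pgoAut F (⇑(QMn m a b)) → u ∉ N → v ∉ N → u * v ∈ N)
    (δ : MulAut (Cfsg.POmega F (⇑(QMn m a b)))) (hδ : δ ∈ Cfsg.pgoAut F (⇑(QMn m a b)))
    (hpow : (δ * PhiS 1 σ hstd) ^ r = 1) :
    Cfsg.IsConjUnder N (PhiS 1 σ hstd) (δ * PhiS 1 σ hstd) := by
  rw [pgoAut_eq] at hδ
  obtain ⟨g, hg⟩ := hδ
  have hpair : Cfsg.IsSemisimilarityPair (⇑(QMn m a b)) (g : GL ((Fin m ⊕ Fin m) ⊕ Fin 2) F) σ := by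
    have := pair_mul (pair_of_GO g) hstd
    rw [map_one, mul_one, one_mul] at this
    exact this
  have hy₀ : δ * PhiS 1 σ hstd = PhiS (g : GL ((Fin m ⊕ Fin m) ⊕ Fin 2) F) σ hpair := by
    rw [← hg, ← PhiS_one_eq g (pair_of_GO g), PhiS_mul]
    exact PhiS_congr (by rw [map_one, mul_one]) (one_mul σ) _ _
  rw [hy₀] at hpow ⊢
  obtain ⟨h, hh⟩ := field_conj_minus hm a b hab σ ha hb r hr hr0 hstd g hpair hpow
  exact conjUnder_of_index_two (Cfsg.pgoAut F (⇑(QMn m a b))) N _ _ (Phi (⇑(QMn m a b)) h) c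
    (by rw [pgoAut_eq]; exact ⟨h, rfl⟩) hh hc hcN hcx hmul

end Std

end Cfsg.Agent.Lib.Helper5.OFld
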