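import Mathlib
import Cfsg.Agent.Lib.Helper5.OFld32

set_option autoImplicit false

/-! Transport of `PΩ` and its automorphisms along an isometry between two forms. -/

namespace Cfsg.Agent.Lib.Helper5.OFld

open Matrix Module Cfsg.Agent.Lib.Helper5.PGO

section GenericEquiv
variable {G H : Type*} [Group G] [Group H]

theorem map_commutator_equiv (e : G ≃* H) :
    (commutator G).map e.toMonoidHom = commutator H := by
  rw [commutator_def, Subgroup.map_commutator, commutator_def,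
    Subgroup.map_top_of_surjective _ e.surjective]

/-- an isomorphism restricts to the commutator subgroups -/
def commEquiv (e : G ≃* H) : ↥(commutator G) ≃* ↥(commutator H) :=
  (e.subgroupMap (commutator G)).trans (MulEquiv.subgroupCongr (map_commutator_equiv e))

@[simp] theorem commEquiv_coe (e : G ≃* H) (x : ↥(commutator G)) :
    ((commEquiv e x : ↥(commutator H)) : H) = e (x : G) := rfl

theorem map_center_equiv (e : G ≃* H) :
    (Subgroup.center G).map e.toMonoidHom = Subgroup.center H := by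
  ext y
  constructor
  · rintro ⟨x, hx, rfl⟩
    have hx : x ∈ Subgroup.center G := hx
    rw [Subgroup.mem_center_iff] at hx ⊢
    intro z
    obtain ⟨w, rfl⟩ := e.surjective z
    show e w * e x = e x * e w
    rw [← map_mul, ← map_mul, hx w]
  · intro hy
    refine ⟨e.symm y, ?_, e.apply_symm_apply y⟩
    show e.symm y ∈ Subgroup.center G
    rw [Subgroup.mem_center_iff] at hy ⊢
    intro z
    apply e.injective
    rw [map_mul, map_mul, e.apply_symm_apply]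
    exact hy (e z)

/-- an isomorphism induces an isomorphism of the commutator subgroups modulo their centres -/
noncomputable def pEquiv (e : G ≃* H) :
    (↥(commutator G) ⧸ Subgroup.center ↥(commutator G)) ≃*
      (↥(commutator H) ⧸ Subgroup.center ↥(commutator H)) :=
  QuotientGroup.congr _ _ (commEquiv e) (map_center_equiv (commEquiv e))

theorem pEquiv_mk (e : G ≃* H) (x : ↥(commutator G)) :
    pEquiv e (QuotientGroup.mk x) = QuotientGroup.mk (commEquiv e x) := rfl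

end GenericEquiv

section Forms
variable {F : Type*} [Field F] {ι : Type} [Fintype ι] [DecidableEq ι]
variable {Q Q' : (ι → F) → F}

theorem conj_mulVec (t g : GL ι F) (v : ι → F) :
    ((t * g * t⁻¹ : GL ι F) : Matrix ι ι F) *ᵥ v =
      (t : Matrix ι ι F) *ᵥ ((g : Matrix ι ι F) *ᵥ (((t⁻¹ : GL ι F) : Matrix ι ι F) *ᵥ v)) := by
  rw [Matrix.mulVec_mulVec, Matrix.mulVec_mulVec]
  rfl

theorem mul_inv_mulVec (t : GL ι F) (v : ι → F) :
    (t : Matrix ι ι F) *ᵥ (((t⁻¹ : GL ι F) : Matrix ι ι F) *ᵥ v) = v := by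
  rw [Matrix.mulVec_mulVec, ← Units.val_mul, mul_inv_cancel, Units.val_one, Matrix.one_mulVec]

theorem inv_mul_mulVec (t : GL ι F) (v : ι → F) :
    ((t⁻¹ : GL ι F) : Matrix ι ι F) *ᵥ ((t : Matrix ι ι F) *ᵥ v) = v := by
  rw [Matrix.mulVec_mulVec, ← Units.val_mul, inv_mul_cancel, Units.val_one, Matrix.one_mulVec]

theorem form_inv (t : GL ι F) (ht : ∀ v, Q ((t : Matrix ι ι F) *ᵥ v) = Q' v) (v : ι → F) :
    Q' (((t⁻¹ : GL ι F) : Matrix ι ι F) *ᵥ v) = Q v := by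
  rw [← ht, mul_inv_mulVec]

/-- conjugating a similarity of `Q'` by an isometry from `Q'` to `Q` gives a similarity of `Q`
with the same multiplier -/
theorem conj_sim_form (t : GL ι F) (ht : ∀ v, Q ((t : Matrix ι ι F) *ᵥ v) = Q' v) (g : GL ι F)
    (c : F) (hg : ∀ v, Q' ((g : Matrix ι ι F) *ᵥ v) = c * Q' v) (v : ι → F) :
    Q (((t * g * t⁻¹ : GL ι F) : Matrix ι ι F) *ᵥ v) = c * Q v := by
  rw [conj_mulVec, ht, hg, form_inv t ht]

theorem conj_mem_iso_form (t : GL ι F) (ht : ∀ v, Q ((t : Matrix ι ι F) *ᵥ v) = Q' v)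
    {g : GL ι F} (hg : g ∈ Cfsg.isometryGroup F Q') : t * g * t⁻¹ ∈ Cfsg.isometryGroup F Q := by
  rw [mem_iso_iff] at hg ⊢
  intro v
  have := conj_sim_form t ht g 1 (fun v => by rw [hg, one_mul]) v
  rw [one_mul] at this
  exact this

theorem conj_mem_GO_form (t : GL ι F) (ht : ∀ v, Q ((t : Matrix ι ι F) *ᵥ v) = Q' v)
    {g : GL ι F} (hg : g ∈ GO Q') : t * g * t⁻¹ ∈ GO Q := by
  obtain ⟨c, hc⟩ := hg
  exact ⟨c, conj_sim_form t ht g c hc⟩

theorem ht_inv (t : GL ι F) (ht : ∀ v, Q ((t : Matrix ι ι F) *ᵥ v) = Q' v) :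
    ∀ v, Q' (((t⁻¹ : GL ι F) : Matrix ι ι F) *ᵥ v) = Q v := form_inv t ht

/-- conjugation by an isometry between two forms, on the isometry groups -/
def conjIso (t : GL ι F) (ht : ∀ v, Q ((t : Matrix ι ι F) *ᵥ v) = Q' v) :
    ↥(Cfsg.isometryGroup F Q') ≃* ↥(Cfsg.isometryGroup F Q) where
  toFun g := ⟨t * g * t⁻¹, conj_mem_iso_form t ht g.2⟩
  invFun h := ⟨t⁻¹ * h * t, by
    have := conj_mem_iso_form t⁻¹ (ht_inv t ht) h.2
    rwa [inv_inv] at this⟩
  left_inv g := by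
    apply Subtype.ext
    show t⁻¹ * (t * (g : GL ι F) * t⁻¹) * t = g
    group
  right_inv h := by
    apply Subtype.ext
    show t * (t⁻¹ * (h : GL ι F) * t) * t⁻¹ = h
    group
  map_mul' a b := by
    apply Subtype.ext
    show t * ((a : GL ι F) * (b : GL ι F)) * t⁻¹ = (t * a * t⁻¹) * (t * b * t⁻¹)
    group

@[simp] theorem conjIso_coe (t : GL ι F) (ht : ∀ v, Q ((t : Matrix ι ι F) *ᵥ v) = Q' v)
    (g : ↥(Cfsg.isometryGroup F Q')) :
    ((conjIso t ht g : ↥(Cfsg.isometryGroup F Q)) : GL ι F) = t * g * t⁻¹ := rfl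

/-- conjugation by an isometry between two forms, on the similarity groups -/
def conjGOIso (t : GL ι F) (ht : ∀ v, Q ((t : Matrix ι ι F) *ᵥ v) = Q' v) :
    ↥(GO Q') ≃* ↥(GO Q) where
  toFun g := ⟨t * g * t⁻¹, conj_mem_GO_form t ht g.2⟩
  invFun h := ⟨t⁻¹ * h * t, by
    have := conj_mem_GO_form t⁻¹ (ht_inv t ht) h.2
    rwa [inv_inv] at this⟩
  left_inv g := by
    apply Subtype.ext
    show t⁻¹ * (t * (g : GL ι F) * t⁻¹) * t = g
    group
  right_inv h := by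
    apply Subtype.ext
    show t * (t⁻¹ * (h : GL ι F) * t) * t⁻¹ = h
    group
  map_mul' a b := by
    apply Subtype.ext
    show t * ((a : GL ι F) * (b : GL ι F)) * t⁻¹ = (t * a * t⁻¹) * (t * b * t⁻¹)
    group

@[simp] theorem conjGOIso_coe (t : GL ι F) (ht : ∀ v, Q ((t : Matrix ι ι F) *ᵥ v) = Q' v)
    (g : ↥(GO Q')) : ((conjGOIso t ht g : ↥(GO Q)) : GL ι F) = t * g * t⁻¹ := rfl

/-- the induced isomorphism of the projective groups -/
noncomputable def psiT (t : GL ι F) (ht : ∀ v, Q ((t : Matrix ι ι F) *ᵥ v) = Q' v) :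
    Cfsg.POmega F Q' ≃* Cfsg.POmega F Q := pEquiv (conjIso t ht)

/-- transport of the automorphisms induced by similarities -/
theorem psiT_Phi (t : GL ι F) (ht : ∀ v, Q ((t : Matrix ι ι F) *ᵥ v) = Q' v) (g : ↥(GO Q'))
    (z : Cfsg.POmega F Q') :
    psiT t ht (Phi Q' g z) = Phi Q (conjGOIso t ht g) (psiT t ht z) := by
  induction z using QuotientGroup.induction_on with
  | H s =>
    rw [Phi_mk]
    unfold psiT
    rw [pEquiv_mk, pEquiv_mk, Phi_mk]
    congr 1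
    apply Subtype.ext
    apply Subtype.ext
    show t * ((g : GL ι F) * ((s : ↥(Cfsg.isometryGroup F Q')) : GL ι F) * (g : GL ι F)⁻¹) * t⁻¹ =
      (t * (g : GL ι F) * t⁻¹) * (t * ((s : ↥(Cfsg.isometryGroup F Q')) : GL ι F) * t⁻¹) *
        (t * (g : GL ι F) * t⁻¹)⁻¹
    group

theorem congr_psiT_Phi (t : GL ι F) (ht : ∀ v, Q ((t : Matrix ι ι F) *ᵥ v) = Q' v)
    (g : ↥(GO Q')) :
    MulAut.congr (psiT t ht) (Phi Q' g) = Phi Q (conjGOIso t ht g) := by
  apply MulEquiv.ext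
  intro y
  obtain ⟨z, rfl⟩ := (psiT t ht).surjective y
  show psiT t ht (Phi Q' g ((psiT t ht).symm (psiT t ht z))) = _
  rw [MulEquiv.symm_apply_apply, psiT_Phi]

end Forms

section Idg
variable {F : Type*} [Field F] [Fintype F] [DecidableEq F] {ι : Type} [Fintype ι] [DecidableEq ι]
variable {Q Q' : QuadraticForm F (ι → F)}

theorem mu_conjGOIso (hQ0 : ∃ v, Q v ≠ 0) (t : GL ι F)
    (ht : ∀ v, Q ((t : Matrix ι ι F) *ᵥ v) = Q' v) (g : ↥(GO (⇑Q'))) :
    mu (⇑Q) (conjGOIso t ht g) = mu (⇑Q') g := by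
  apply Units.ext
  exact mu_unique hQ0 _ _ (fun v => conj_sim_form t ht (g : GL ι F) _ (mu_spec (⇑Q') g) v)

theorem det_conjGOIso (t : GL ι F)
    (ht : ∀ v, Q ((t : Matrix ι ι F) *ᵥ v) = Q' v) (g : ↥(GO (⇑Q'))) :
    detGO (⇑Q) (conjGOIso t ht g) = detGO (⇑Q') g := by
  show Matrix.GeneralLinearGroup.det (t * (g : GL ι F) * t⁻¹) = Matrix.GeneralLinearGroup.det (g : GL ι F)
  rw [map_mul, map_mul, map_inv, mul_comm, ← mul_assoc, inv_mul_cancel, one_mul]

theorem epsHom_conjGOIso (hQ0 : ∃ v, Q v ≠ 0) (hQ0' : ∃ v, Q' v ≠ 0) (n : ℕ) (t : GL ι F)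
    (ht : ∀ v, Q ((t : Matrix ι ι F) *ᵥ v) = Q' v) (g : ↥(GO (⇑Q'))) :
    epsHom Q hQ0 n (conjGOIso t ht g) = epsHom Q' hQ0' n g := by
  rw [epsHom_apply, epsHom_apply, mu_conjGOIso hQ0 t ht, det_conjGOIso t ht]

/-- transport of the inner-diagonal group along an isometry -/
theorem congr_psiT_idg (hQ0 : ∃ v, Q v ≠ 0) (hQ0' : ∃ v, Q' v ≠ 0) (n : ℕ) (t : GL ι F)
    (ht : ∀ v, Q ((t : Matrix ι ι F) *ᵥ v) = Q' v) :
    (idg Q' hQ0' n).map (MulAut.congr (psiT t ht)).toMonoidHom = idg Q hQ0 n := by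
  ext β
  constructor
  · rintro ⟨_, ⟨g, hg, rfl⟩, rfl⟩
    refine ⟨conjGOIso t ht g, ?_, (congr_psiT_Phi t ht g).symm⟩
    show epsHom Q hQ0 n (conjGOIso t ht g) = 1
    rw [epsHom_conjGOIso hQ0 hQ0' n t ht]
    exact hg
  · rintro ⟨g, hg, rfl⟩
    refine ⟨Phi (⇑Q') ((conjGOIso t ht).symm g), ⟨(conjGOIso t ht).symm g, ?_, rfl⟩, ?_⟩
    · show epsHom Q' hQ0' n ((conjGOIso t ht).symm g) = 1
      rw [← epsHom_conjGOIso hQ0 hQ0' n t ht, MulEquiv.apply_symm_apply]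
      exact hg
    · show MulAut.congr (psiT t ht) (Phi (⇑Q') ((conjGOIso t ht).symm g)) = _
      rw [congr_psiT_Phi, MulEquiv.apply_symm_apply]

/-- the inner-diagonal group is normal in the automorphism group -/
theorem idg_normal (p : ℕ) [Fact p.Prime] [CharP F p]
    (hQ : (QuadraticMap.polarBilin Q).Nondegenerate) (hn : 7 ≤ Fintype.card ι)
    (hLag : ∀ T : Submodule F (ι → F), (∀ x ∈ T, Q x = 0) →
      (∀ y, (∀ x ∈ T, QuadraticMap.polar (⇑Q) x y = 0) → y ∈ T) → 5 ≤ Module.finrank F ↥T)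
    (hQ0 : ∃ v, Q v ≠ 0) (n : ℕ) : (idg Q hQ0 n).Normal := by
  constructor
  rintro _ ⟨d, hd, rfl⟩ α
  obtain ⟨σ, g, h, rfl⟩ := exists_pair p hQ hn hLag α
  rw [PhiS_conj_Phi h d]
  refine ⟨_, ?_, rfl⟩
  show epsHom Q hQ0 n _ = 1
  have hd1 : epsHom Q hQ0 n d = 1 := hd
  rw [epsHom_apply, mul_inv_eq_one] at hd1 ⊢
  apply Units.ext
  rw [det_conj h d, Units.val_pow_eq_pow_val, mu_conj hQ0 h d, hd1, Units.val_pow_eq_pow_val,
    map_pow]

end Idg

end Cfsg.Agent.Lib.Helper5.OFld
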