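import Mathlib
import Cfsg.Agent.Lib.Helper5.OFld33

set_option autoImplicit false

/-! Transport of normal subgroups of automorphism groups along an arbitrary isomorphism, and
transport of conjugacy statements. -/

namespace Cfsg.Agent.Lib.Helper5.OFld

section Transport
variable {A B : Type*} [Group A] [Group B]

theorem congr_congr (ψ : A ≃* B) (ψ₀ : B ≃* A) (β : MulAut A) :
    MulAut.congr ψ₀ (MulAut.congr ψ β) =
      (ψ.trans ψ₀ : MulAut A) * β * (ψ.trans ψ₀ : MulAut A)⁻¹ := by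
  apply MulEquiv.ext
  intro y
  rfl

/-- if a subgroup of `Aut B` corresponds to a normal subgroup of `Aut A` under one isomorphism,
it does so under every isomorphism -/
theorem map_congr_eq_of_normal (ψ : A ≃* B) (ψ₀ : B ≃* A) (NA : Subgroup (MulAut A))
    [NA.Normal] (NB : Subgroup (MulAut B))
    (h₀ : NB.map (MulAut.congr ψ₀).toMonoidHom = NA) :
    NA.map (MulAut.congr ψ).toMonoidHom = NB := by
  have hmem : ∀ β' : MulAut B, β' ∈ NB ↔ MulAut.congr ψ₀ β' ∈ NA := by
    intro β'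
    rw [← h₀]
    exact (Subgroup.mem_map_iff_mem (MulAut.congr ψ₀).injective).symm
  ext β'
  constructor
  · rintro ⟨β, hβ, rfl⟩
    show MulAut.congr ψ β ∈ NB
    rw [hmem, congr_congr]
    exact Subgroup.Normal.conj_mem inferInstance β hβ _
  · intro hβ'
    refine ⟨(MulAut.congr ψ).symm β', ?_, (MulAut.congr ψ).apply_symm_apply β'⟩
    have h1 := (hmem β').1 hβ'
    have h2 := congr_congr ψ ψ₀ ((MulAut.congr ψ).symm β')
    rw [MulEquiv.apply_symm_apply] at h2
    rw [h2] at h1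
    have h3 := Subgroup.Normal.conj_mem (inferInstance : NA.Normal) _ h1
      (ψ.trans ψ₀ : MulAut A)⁻¹
    have h4 : (ψ.trans ψ₀ : MulAut A)⁻¹ * ((ψ.trans ψ₀ : MulAut A) * (MulAut.congr ψ).symm β' *
        (ψ.trans ψ₀ : MulAut A)⁻¹) * ((ψ.trans ψ₀ : MulAut A)⁻¹)⁻¹ = (MulAut.congr ψ).symm β' := by
      group
    rw [h4] at h3
    exact h3

/-- the inner automorphism group is transported to the inner automorphism group -/
theorem map_congr_inn (ψ : A ≃* B) :
    (Cfsg.Inn A).map (MulAut.congr ψ).toMonoidHom = Cfsg.Inn B := by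
  ext β'
  constructor
  · rintro ⟨_, ⟨a, rfl⟩, rfl⟩
    refine ⟨ψ a, ?_⟩
    apply MulEquiv.ext
    intro y
    show ψ a * y * (ψ a)⁻¹ = ψ (a * ψ.symm y * a⁻¹)
    rw [map_mul, map_mul, map_inv, MulEquiv.apply_symm_apply]
  · rintro ⟨b, rfl⟩
    refine ⟨MulAut.conj (ψ.symm b), ⟨_, rfl⟩, ?_⟩
    apply MulEquiv.ext
    intro y
    show ψ (ψ.symm b * ψ.symm y * (ψ.symm b)⁻¹) = b * y * b⁻¹
    rw [map_mul, map_mul, map_inv, MulEquiv.apply_symm_apply, MulEquiv.apply_symm_apply]

/-- transport of conjugacy under a subgroup along an isomorphism of the ambient groups -/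
theorem isConjUnder_of_map {X Y : Type*} [Group X] [Group Y] (e : X ≃* Y) (N : Subgroup X)
    (N' : Subgroup Y) (hN : N.map e.toMonoidHom = N') (x y : X)
    (h : Cfsg.IsConjUnder N' (e x) (e y)) : Cfsg.IsConjUnder N x y := by
  obtain ⟨k, hk, hy⟩ := h
  rw [← hN] at hk
  obtain ⟨k₀, hk₀, rfl⟩ := hk
  refine ⟨k₀, hk₀, e.injective ?_⟩
  rw [hy, map_mul, map_mul, map_inv]
  rfl

end Transport

end Cfsg.Agent.Lib.Helper5.OFld
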