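import Mathlib
import Cfsg.Agent.Lib.Helper5.OFld34

set_option autoImplicit false

/-! Reflections commuting with a standard field automorphism, and the index two subgroups of the
projective similarity group (inner-diagonal group in odd characteristic, inner automorphisms in
characteristic two). -/

namespace Cfsg.Agent.Lib.Helper5.OFld

open Matrix Module Cfsg.Agent.Lib.Helper5.PGO Cfsg.Agent.Lib.Helper5.OAut
open Cfsg.Agent.Lib.Helper5.PSLCoset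
open Cfsg.Agent.Lib.Helper2 Cfsg.Agent.Lib.Helper2.CDG Cfsg.Agent.Lib.Helper2.Dickson
open Cfsg.Agent.Lib.Helper5.OmegaCrit

section Refl
variable {F F₀ : Type*} [Field F] [Fintype F] [Field F₀] [Fintype F₀]
variable {ι : Type} [Fintype ι] [DecidableEq ι]
variable {Q : QuadraticForm F (ι → F)} {Q₀ : QuadraticForm F₀ (ι → F₀)}
variable {ι₀ : F₀ →+* F} {σ : F ≃+* F}

/-- a reflection commuting with the standard field automorphism -/
theorem exists_refl_commSub (hQ : (QuadraticMap.polarBilin Q).Nondegenerate)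
    (hn : 7 ≤ Fintype.card ι) (hι : ∀ a, σ a = a ↔ a ∈ Set.range ι₀)
    (hcompat : ∀ v, Q (extV ι₀ v) = ι₀ (Q₀ v))
    (hstd : Cfsg.IsSemisimilarityPair (⇑Q) (1 : GL ι F) σ) (hQ₀0 : ∃ u₀, Q₀ u₀ ≠ 0) :
    ∃ (w : ι → F) (hw : Q w ≠ 0),
      incl (⇑Q) (refl Q w hw) ∈ commSub (Phi (⇑Q)) (PhiS 1 σ hstd) := by
  obtain ⟨u₀, hu₀⟩ := hQ₀0
  have hw : Q (extV ι₀ u₀) ≠ 0 := by
    rw [hcompat]
    exact (map_ne_zero_iff _ ι₀.injective).2 hu₀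
  refine ⟨extV ι₀ u₀, hw, ?_⟩
  rw [← embO_refl ι₀ hcompat u₀ hu₀ hw, incl_embO]
  exact embGO_mem_commSub hQ hn hι hcompat hstd _

end Refl

section Odd
variable {F : Type*} [Field F] [Fintype F] [DecidableEq F] {ι : Type} [Fintype ι] [DecidableEq ι]
variable {Q : QuadraticForm F (ι → F)}

theorem Phi_mem_idg_iff (hQ : (QuadraticMap.polarBilin Q).Nondegenerate) (hQ0 : ∃ v, Q v ≠ 0)
    {m : ℕ} (hm : Fintype.card ι = 2 * m) (h2 : (2 : F) ≠ 0) (hn : 7 ≤ Fintype.card ι)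
    (g : ↥(GO (⇑Q))) : Phi (⇑Q) g ∈ idg Q hQ0 m ↔ epsHom Q hQ0 m g = 1 := by
  constructor
  · rintro ⟨g', hg', he⟩
    have hk : g'⁻¹ * g ∈ (Phi (⇑Q)).ker := by
      rw [MonoidHom.mem_ker, map_mul, map_inv, he, inv_mul_cancel]
    have h1 := ker_le_chi_ker hQ hQ0 hm h2 hn hk
    rw [mem_chi_ker] at h1
    have h3 : epsHom Q hQ0 m g' = 1 := hg'
    have h4 := h1.2
    rw [map_mul, map_inv, h3, inv_one, one_mul] at h4
    exact h4
  · intro h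
    exact ⟨g, h, rfl⟩

theorem idg_mul_of_not_mem (hQ : (QuadraticMap.polarBilin Q).Nondegenerate) (hQ0 : ∃ v, Q v ≠ 0)
    {m : ℕ} (hm : Fintype.card ι = 2 * m) (h2 : (2 : F) ≠ 0) (hn : 7 ≤ Fintype.card ι)
    (u v : MulAut (Cfsg.POmega F (⇑Q))) (hu : u ∈ Cfsg.pgoAut F (⇑Q))
    (hv : v ∈ Cfsg.pgoAut F (⇑Q)) (hu' : u ∉ idg Q hQ0 m) (hv' : v ∉ idg Q hQ0 m) :
    u * v ∈ idg Q hQ0 m := by
  rw [pgoAut_eq] at hu hv
  obtain ⟨g₁, rfl⟩ := hu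
  obtain ⟨g₂, rfl⟩ := hv
  rw [Phi_mem_idg_iff hQ hQ0 hm h2 hn] at hu' hv'
  rw [← map_mul, Phi_mem_idg_iff hQ hQ0 hm h2 hn, map_mul]
  rcases epsHom_sq hQ hQ0 hm g₁ with h1 | h1
  · exact absurd h1 hu'
  rcases epsHom_sq hQ hQ0 hm g₂ with h3 | h3
  · exact absurd h3 hv'
  rw [h1, h3, neg_mul_neg, one_mul]

theorem Phi_refl_not_mem_idg (hQ : (QuadraticMap.polarBilin Q).Nondegenerate)
    (hQ0 : ∃ v, Q v ≠ 0) {m : ℕ} (hm : Fintype.card ι = 2 * m) (h2 : (2 : F) ≠ 0)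
    (hn : 7 ≤ Fintype.card ι) (w : ι → F) (hw : Q w ≠ 0) :
    Phi (⇑Q) (incl (⇑Q) (refl Q w hw)) ∉ idg Q hQ0 m := by
  rw [Phi_mem_idg_iff hQ hQ0 hm h2 hn]
  have h5 : epsHom Q hQ0 m (incl (⇑Q) (refl Q w hw)) = -1 := by
    rw [epsHom_apply, mu_of_iso hQ0 _ (refl Q w hw).2, one_pow, inv_one, mul_one]
    apply Units.ext
    rw [detGO_coe, incl_coe, det_refl, Units.val_neg, Units.val_one]
  rw [h5]
  intro h
  apply h2
  have := congrArg Units.val h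
  rw [Units.val_neg, Units.val_one] at this
  linear_combination -this

end Odd

section Two
variable {F : Type*} [Field F] [Fintype F] {ι : Type} [Fintype ι] [DecidableEq ι]
variable {Q : QuadraticForm F (ι → F)}

theorem PsiO_mem_inn_iff (h2 : (2 : F) = 0) (hQ : (QuadraticMap.polarBilin Q).Nondegenerate)
    (hn : 7 ≤ Fintype.card ι) (h : ↥(Cfsg.isometryGroup F ⇑Q)) :
    PsiO Q h ∈ Cfsg.Inn (Cfsg.POmega F ⇑Q) ↔ dfun h = 0 := by
  have hex : Fintype.card F ≠ 2 ∨ Fintype.card ι ≠ 4 := Or.inr (by omega)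
  rw [inn_eq_map_PsiO, Subgroup.mem_map_iff_mem (PsiO_injective h2 hQ hn),
    ← mem_commutator_iff₂ h2 hQ hex (by omega)]

theorem inn_mul_of_not_mem (h2 : (2 : F) = 0) (hQ : (QuadraticMap.polarBilin Q).Nondegenerate)
    (hn : 7 ≤ Fintype.card ι) (u v : MulAut (Cfsg.POmega F (⇑Q)))
    (hu : u ∈ Cfsg.pgoAut F (⇑Q)) (hv : v ∈ Cfsg.pgoAut F (⇑Q))
    (hu' : u ∉ Cfsg.Inn (Cfsg.POmega F ⇑Q)) (hv' : v ∉ Cfsg.Inn (Cfsg.POmega F ⇑Q)) :
    u * v ∈ Cfsg.Inn (Cfsg.POmega F ⇑Q) := by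
  have hex : Fintype.card F ≠ 2 ∨ Fintype.card ι ≠ 4 := Or.inr (by omega)
  rw [← range_PsiO h2 hQ (by omega)] at hu hv
  obtain ⟨h₁, rfl⟩ := hu
  obtain ⟨h₂, rfl⟩ := hv
  rw [PsiO_mem_inn_iff h2 hQ hn] at hu' hv'
  rw [← map_mul, PsiO_mem_inn_iff h2 hQ hn, dfun_mul hQ (closure_R_all hQ hex (by omega))]
  have key : ∀ a b : ZMod 2, a ≠ 0 → b ≠ 0 → a + b = 0 := by decide
  exact key _ _ hu' hv'

theorem Phi_refl_not_mem_inn (h2 : (2 : F) = 0) (hQ : (QuadraticMap.polarBilin Q).Nondegenerate)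
    (hn : 7 ≤ Fintype.card ι) (w : ι → F) (hw : Q w ≠ 0) :
    Phi (⇑Q) (incl (⇑Q) (refl Q w hw)) ∉ Cfsg.Inn (Cfsg.POmega F ⇑Q) := by
  have h1 : Phi (⇑Q) (incl (⇑Q) (refl Q w hw)) = PsiO Q (refl Q w hw) := rfl
  rw [h1, PsiO_mem_inn_iff h2 hQ hn, dfun_refl hQ]
  decide

end Two

end Cfsg.Agent.Lib.Helper5.OFld
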