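import Mathlib
import Cfsg.Agent.Lib.Helper5.OFld35

set_option autoImplicit false

/-! Coset conjugacy for field automorphisms of prime order of the minus type groups. -/

namespace Cfsg.Agent.Lib.Helper5.OFld

open Matrix Module Cfsg.Agent.Lib.Helper5.PGO Cfsg.Agent.Lib.Helper5.OAut
open Cfsg.Agent.Lib.Helper5.PSLCoset
open Cfsg.Agent.Lib.Helper2 Cfsg.Agent.Lib.Helper2.CDG Cfsg.Agent.Lib.Helper2.OrthCard

section StdAut
variable {F : Type*} [Field F] {ι : Type} [Fintype ι] [DecidableEq ι] {Q : (ι → F) → F}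

/-- an automorphism is the field automorphism attached to `σ` iff it is the standard one -/
theorem isFieldAut_iff' {σ : F ≃+* F} (hstd : Cfsg.IsSemisimilarityPair Q (1 : GL ι F) σ)
    (β : Cfsg.POmega F Q ≃* Cfsg.POmega F Q) :
    Cfsg.IsFieldAutPOmegaOf Q σ β ↔ β = PhiS 1 σ hstd := by
  rw [← induced_iff]
  constructor
  · intro h s s' hs
    apply h
    rw [hs, Units.val_one, Matrix.one_mul, inv_one, Units.val_one, Matrix.mul_one]
  · intro h s s' hs
    apply h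
    rw [hs, Units.val_one, Matrix.one_mul, inv_one, Units.val_one, Matrix.mul_one]

theorem twGL_one (σ : F ≃+* F) (k : ℕ) : twGL σ (1 : GL ι F) k = 1 := by
  induction k with
  | zero => rfl
  | succ k ih =>
    show (1 : GL ι F) * mapGL σ (twGL σ 1 k) = 1
    rw [ih, map_one, one_mul]

end StdAut

section Order
variable {F : Type*} [Field F] [Fintype F] {ι : Type} [Fintype ι] [DecidableEq ι]
variable {Q : QuadraticForm F (ι → F)}

/-- the order of a standard field automorphism -/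
theorem orderOf_PhiS_std (p : ℕ) [Fact p.Prime] [CharP F p]
    (hQ : (QuadraticMap.polarBilin Q).Nondegenerate) (hn : 7 ≤ Fintype.card ι)
    (hLag : ∀ T : Submodule F (ι → F), (∀ x ∈ T, Q x = 0) →
      (∀ y, (∀ x ∈ T, QuadraticMap.polar (⇑Q) x y = 0) → y ∈ T) → 5 ≤ Module.finrank F ↥T)
    {σ : F ≃+* F} (hstd : Cfsg.IsSemisimilarityPair (⇑Q) (1 : GL ι F) σ) :
    orderOf (PhiS 1 σ hstd) = orderOf σ := by
  rw [orderOf_eq_orderOf_iff]
  intro k
  constructor
  · intro h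
    have := congrArg (Theta p hQ hn hLag) h
    rw [map_pow, Theta_PhiS, map_one] at this
    exact this
  · intro h
    rw [PhiS_pow hstd k, PhiS_congr (twGL_one σ k) h _ pair_one]
    exact PhiS_one _

end Order

section Main
variable {F : Type*} [Field F] [Fintype F] {m : ℕ}

theorem inndiagQM_le_pgo {ι : Type} [Fintype ι] [DecidableEq ι] (Q : (ι → F) → F)
    (P : Matrix ι ι F → Prop) : inndiagQM Q P ≤ Cfsg.pgoAut F Q := by
  unfold inndiagQM Cfsg.pgoAut Cfsg.autSubgroupOf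
  apply Subgroup.closure_mono
  rintro β ⟨g, hg, -, h⟩
  exact ⟨g, hg, h⟩

theorem odd_card_of_two_ne_zero (h2 : (2 : F) ≠ 0) : Odd (Fintype.card F) := by
  have hchar : ringChar F ≠ 2 := by
    intro h
    apply h2
    have := ringChar.Nat.cast_ringChar (R := F)
    rw [h] at this
    exact_mod_cast this
  exact Nat.odd_iff.2 (FiniteField.odd_card_of_char_ne_two hchar)

/-- the inner-diagonal groups of two minus type forms correspond under every isomorphism -/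
theorem map_congr_inndiag_minus (hm : 3 ≤ m) (a b a' b' : F)
    (hab : ∀ z₁ z₂ : F, z₁ ^ 2 + a * z₁ * z₂ + b * z₂ ^ 2 = 0 → z₁ = 0 ∧ z₂ = 0)
    (hab' : ∀ z₁ z₂ : F, z₁ ^ 2 + a' * z₁ * z₂ + b' * z₂ ^ 2 = 0 → z₁ = 0 ∧ z₂ = 0)
    (ψ : Cfsg.POmega F ⇑(QMn m a b) ≃* Cfsg.POmega F ⇑(QMn m a' b')) :
    (inndiagQM (⇑(QMn m a b)) (Cfsg.PreservesSingularClassesMinus m a b)).map
        (MulAut.congr ψ).toMonoidHom =
      inndiagQM (⇑(QMn m a' b')) (Cfsg.PreservesSingularClassesMinus m a' b') := by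
  classical
  by_cases h2 : (2 : F) = 0
  · rw [inndiag_minus_two h2 hm a b hab, inndiag_minus_two h2 hm a' b' hab']
    exact map_congr_inn ψ
  · have hodd := odd_card_of_two_ne_zero h2
    rw [inndiag_minus hodd a b hab, inndiag_minus hodd a' b' hab']
    obtain ⟨α, β, hβ, h1, hh2⟩ := exists_binary_iso a b a' b' hab hab'
    have ht : ∀ v, QMn m a b (((twistGL m α β hβ : GL ((Fin m ⊕ Fin m) ⊕ Fin 2) F) :
        Matrix _ _ F) *ᵥ v) = QMn m a' b' v := by
      intro v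
      rw [QMn_coe, QMn_coe, twistGL_coe]
      exact twistMat_form m a b a' b' α β h1 hh2 v
    obtain ⟨p, hchar⟩ := CharP.exists F
    haveI : Fact p.Prime := ⟨CharP.char_is_prime F p⟩
    have hQ := QMn_nondeg (F := F) m a b hab
    have hn : 7 ≤ Fintype.card ((Fin m ⊕ Fin m) ⊕ Fin 2) := by rw [card_minus_index]; omega
    haveI := idg_normal p hQ hn (lag_minus a b hab) (QMn_ne_zero m a b) (m + 1)
    exact map_congr_eq_of_normal ψ (psiT (twistGL m α β hβ) ht) _ _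
      (congr_psiT_idg (QMn_ne_zero m a b) (QMn_ne_zero m a' b') (m + 1) (twistGL m α β hβ) ht)

set_option maxHeartbeats 800000 in
/-- coset conjugacy for field automorphisms of prime order of the minus type groups -/
theorem minus_coset_conj (hm : 3 ≤ m) (a b a' b' : F)
    (hab : ∀ z₁ z₂ : F, z₁ ^ 2 + a * z₁ * z₂ + b * z₂ ^ 2 = 0 → z₁ = 0 ∧ z₂ = 0)
    (hab' : ∀ z₁ z₂ : F, z₁ ^ 2 + a' * z₁ * z₂ + b' * z₂ ^ 2 = 0 → z₁ = 0 ∧ z₂ = 0)
    (ψ : Cfsg.POmega F ⇑(QMn m a b) ≃* Cfsg.POmega F ⇑(QMn m a' b')) (σ : F ≃+* F)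
    (hσa : σ a' = a') (hσb : σ b' = b') (x δ : MulAut (Cfsg.POmega F ⇑(QMn m a b)))
    (hfield : Cfsg.IsFieldAutPOmegaOf (⇑(QMn m a' b')) σ ((ψ.symm.trans x).trans ψ))
    (r : ℕ) (hr0 : 0 < r) (hxr : orderOf x = r)
    (hδ : δ ∈ inndiagQM (⇑(QMn m a b)) (Cfsg.PreservesSingularClassesMinus m a b))
    (hy : orderOf (δ * x) = r) :
    Cfsg.IsConjUnder (inndiagQM (⇑(QMn m a b)) (Cfsg.PreservesSingularClassesMinus m a b))
      x (δ * x) := by
  classical
  obtain ⟨p, hchar⟩ := CharP.exists F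
  haveI : Fact p.Prime := ⟨CharP.char_is_prime F p⟩
  have hT := map_congr_inndiag_minus hm a b a' b' hab hab' ψ
  have hstd := pair_std_minus m a' b' σ hσa hσb
  have hQ' := QMn_nondeg (F := F) m a' b' hab'
  have hn : 7 ≤ Fintype.card ((Fin m ⊕ Fin m) ⊕ Fin 2) := by rw [card_minus_index]; omega
  have hx' : MulAut.congr ψ x = PhiS 1 σ hstd := (isFieldAut_iff' hstd _).1 hfield
  have hσr : orderOf σ = r := by
    rw [← orderOf_PhiS_std p hQ' hn (lag_minus a' b' hab') hstd, ← hx', MulEquiv.orderOf_eq, hxr]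
  have hδ' : MulAut.congr ψ δ ∈
      inndiagQM (⇑(QMn m a' b')) (Cfsg.PreservesSingularClassesMinus m a' b') := by
    rw [← hT]
    exact ⟨δ, hδ, rfl⟩
  have hδpgo := inndiagQM_le_pgo _ _ hδ'
  have hpow : (MulAut.congr ψ δ * PhiS 1 σ hstd) ^ r = 1 := by
    rw [← hx', ← map_mul, ← map_pow, ← hy, pow_orderOf_eq_one, map_one]
  -- the reflection commuting with the standard field automorphism
  obtain ⟨a₀, ha₀⟩ : ∃ a₀ : ↥(fixF σ), (fixF σ).subtype a₀ = a' := ⟨⟨a', hσa⟩, rfl⟩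
  obtain ⟨b₀, hb₀⟩ : ∃ b₀ : ↥(fixF σ), (fixF σ).subtype b₀ = b' := ⟨⟨b', hσb⟩, rfl⟩
  subst ha₀
  subst hb₀
  haveI : Fintype ↥(fixF σ) := Fintype.ofFinite _
  obtain ⟨w, hw, hcomm⟩ := exists_refl_commSub hQ' hn (fixF_range σ)
    (QMn_extV (fixF σ).subtype m a₀ b₀) hstd (QMn_ne_zero m a₀ b₀)
  have hcx := mem_commSub.1 hcomm
  have hcpgo : Phi (⇑(QMn m ((fixF σ).subtype a₀) ((fixF σ).subtype b₀)))
      (incl _ (refl _ w hw)) ∈ Cfsg.pgoAut F _ := by
    rw [pgoAut_eq]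
    exact ⟨_, rfl⟩
  apply isConjUnder_of_map (MulAut.congr ψ) _ _ hT x (δ * x)
  rw [map_mul, hx']
  by_cases h2 : (2 : F) = 0
  · rw [inndiag_minus_two h2 hm _ _ hab']
    exact coset_conj_minus_std hm _ _ hab' σ hσa hσb r hσr hr0 hstd _ _ hcpgo
      (Phi_refl_not_mem_inn h2 hQ' hn w hw) hcx (inn_mul_of_not_mem h2 hQ' hn) _ hδpgo hpow
  · have hodd := odd_card_of_two_ne_zero h2
    rw [inndiag_minus hodd _ _ hab']
    exact coset_conj_minus_std hm _ _ hab' σ hσa hσb r hσr hr0 hstd _ _ hcpgo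
      (Phi_refl_not_mem_idg hQ' (QMn_ne_zero m _ _) (card_minus m) h2 hn w hw) hcx
      (idg_mul_of_not_mem hQ' (QMn_ne_zero m _ _) (card_minus m) h2 hn) _ hδpgo hpow

end Main

end Cfsg.Agent.Lib.Helper5.OFld
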