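import Mathlib
import Cfsg.Agent.Lib.Helper5.OFld36

set_option autoImplicit false

/-! Transport of class-splitting counts and centralizers along group isomorphisms; the
centralizer of a standard field automorphism in a subgroup of the projective similarity group. -/

namespace Cfsg.Agent.Lib.Helper5.OFld

open Matrix Module Cfsg.Agent.Lib.Helper5.PGO Cfsg.Agent.Lib.Helper5.OAut
open Cfsg.Agent.Lib.Helper5.PSLCoset

section GroupLemmas
variable {X Y : Type*} [Group X] [Group Y]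

/-- if every conjugate under `H` is a conjugate under `K`, the class does not split -/
theorem splitClassCount_eq_one (H K : Subgroup X) (x : X)
    (h : ∀ y, Cfsg.IsConjUnder H x y → Cfsg.IsConjUnder K x y) :
    Cfsg.splitClassCount H K x = 1 := by
  unfold Cfsg.splitClassCount
  rw [Nat.card_eq_one_iff_unique]
  constructor
  · constructor
    intro q₁ q₂
    induction q₁ using Quot.inductionOn with
    | h y =>
      induction q₂ using Quot.inductionOn with
      | h z =>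
        apply Quot.sound
        obtain ⟨k, hk, hy⟩ := h y.1 y.2
        obtain ⟨k', hk', hz⟩ := h z.1 z.2
        refine ⟨k' * k⁻¹, K.mul_mem hk' (K.inv_mem hk), ?_⟩
        rw [hy, hz]
        group
  · exact ⟨Quot.mk _ ⟨x, 1, H.one_mem, by group⟩⟩

theorem isConjUnder_map_iff (e : X ≃* Y) (H : Subgroup X) (x y : X) :
    Cfsg.IsConjUnder (H.map e.toMonoidHom) (e x) (e y) ↔ Cfsg.IsConjUnder H x y := by
  constructor
  · intro h
    exact isConjUnder_of_map e H _ rfl x y h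
  · rintro ⟨k, hk, hy⟩
    refine ⟨e k, ⟨k, hk, rfl⟩, ?_⟩
    rw [hy, map_mul, map_mul, map_inv]

/-- class-splitting counts are invariant under isomorphisms -/
theorem splitClassCount_map (e : X ≃* Y) (H K : Subgroup X) (x : X) :
    Cfsg.splitClassCount (H.map e.toMonoidHom) (K.map e.toMonoidHom) (e x) =
      Cfsg.splitClassCount H K x := by
  unfold Cfsg.splitClassCount
  symm
  apply Nat.card_congr
  let ε : {y : X // Cfsg.IsConjUnder H x y} ≃
      {y : Y // Cfsg.IsConjUnder (H.map e.toMonoidHom) (e x) y} :=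
    { toFun := fun y => ⟨e y.1, (isConjUnder_map_iff e H x y.1).2 y.2⟩
      invFun := fun y => ⟨e.symm y.1, by
        have h1 := y.2
        rw [← e.apply_symm_apply y.1] at h1
        exact (isConjUnder_map_iff e H x _).1 h1⟩
      left_inv := fun y => Subtype.ext (e.symm_apply_apply y.1)
      right_inv := fun y => Subtype.ext (e.apply_symm_apply y.1) }
  refine Quot.congr ε ?_
  intro a b
  exact (isConjUnder_map_iff e K a.1 b.1).symm

/-- centralizers in corresponding subgroups are isomorphic -/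
theorem centralizer_map_equiv (e : X ≃* Y) (H : Subgroup X) (x : X) :
    Nonempty (↥(H ⊓ Subgroup.centralizer {x}) ≃*
      ↥(H.map e.toMonoidHom ⊓ Subgroup.centralizer {e x})) := by
  have hmap : (H ⊓ Subgroup.centralizer {x}).map e.toMonoidHom =
      H.map e.toMonoidHom ⊓ Subgroup.centralizer {e x} := by
    ext y
    constructor
    · rintro ⟨z, hz, rfl⟩
      obtain ⟨hz1, hz2⟩ := Subgroup.mem_inf.1 hz
      refine Subgroup.mem_inf.2 ⟨⟨z, hz1, rfl⟩, ?_⟩
      rw [Subgroup.mem_centralizer_iff] at hz2 ⊢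
      intro w hw
      rw [Set.mem_singleton_iff] at hw
      subst hw
      show e x * e z = e z * e x
      rw [← map_mul, ← map_mul, hz2 x rfl]
    · intro hy
      obtain ⟨⟨z, hz, rfl⟩, hy2⟩ := Subgroup.mem_inf.1 hy
      refine ⟨z, Subgroup.mem_inf.2 ⟨hz, ?_⟩, rfl⟩
      rw [Subgroup.mem_centralizer_iff] at hy2 ⊢
      intro w hw
      rw [Set.mem_singleton_iff] at hw
      subst hw
      apply e.injective
      have := hy2 (e w) rfl
      rw [map_mul, map_mul]
      exact this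
  exact ⟨(e.subgroupMap (H ⊓ Subgroup.centralizer {x})).trans (MulEquiv.subgroupCongr hmap)⟩

end GroupLemmas

section Cent
variable {F F₀ : Type*} [Field F] [Fintype F] [Field F₀] [Fintype F₀]
variable {ι : Type} [Fintype ι] [DecidableEq ι]
variable {Q : QuadraticForm F (ι → F)} {Q₀ : QuadraticForm F₀ (ι → F₀)}
variable {ι₀ : F₀ →+* F} {σ : F ≃+* F}

theorem embGO_mem_ker_iff (hQ : (QuadraticMap.polarBilin Q).Nondegenerate)
    (hQ₀ : (QuadraticMap.polarBilin Q₀).Nondegenerate) (hn : 7 ≤ Fintype.card ι)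
    (hcompat : ∀ v, Q (extV ι₀ v) = ι₀ (Q₀ v)) (g₀ : ↥(GO (⇑Q₀))) :
    embGO ι₀ hcompat g₀ ∈ (Phi (⇑Q)).ker ↔ g₀ ∈ (Phi (⇑Q₀)).ker := by
  rw [ker_eq hQ hn, ker_eq hQ₀ hn]
  constructor
  · rintro ⟨l, hl⟩
    have hl' := congrArg (fun x : ↥(GO (⇑Q)) => ((x : GL ι F) : Matrix ι ι F)) hl
    simp only [scalGO_coe, scalHom_coe, embGO_coe] at hl'
    haveI : Nonempty ι := by
      apply Fintype.card_pos_iff.1
      omega
    obtain ⟨i₀⟩ := ‹Nonempty ι›
    have h00 : ι₀ (((g₀ : GL ι F₀) : Matrix ι ι F₀) i₀ i₀) = (l : F) := by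
      have := congrFun (congrFun hl' i₀) i₀
      simp only [Matrix.map_apply, Matrix.scalar_apply, Matrix.diagonal_apply_eq] at this
      exact this.symm
    have hc0 : ((g₀ : GL ι F₀) : Matrix ι ι F₀) i₀ i₀ ≠ 0 := by
      intro h0
      rw [h0, map_zero] at h00
      exact l.ne_zero h00.symm
    refine ⟨Units.mk0 _ hc0, ?_⟩
    apply Subtype.ext
    apply Units.ext
    rw [scalGO_coe, scalHom_coe, Units.val_mk0]
    ext i j
    apply ι₀.injective
    have hij := congrFun (congrFun hl' i) j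
    simp only [Matrix.map_apply] at hij
    rw [← hij, Matrix.scalar_apply, Matrix.scalar_apply]
    by_cases h : i = j
    · subst h
      rw [Matrix.diagonal_apply_eq, Matrix.diagonal_apply_eq, h00]
    · rw [Matrix.diagonal_apply_ne _ h, Matrix.diagonal_apply_ne _ h, map_zero]
  · rintro ⟨t, rfl⟩
    exact ⟨Units.map (ι₀ : F₀ →* F) t, (embGO_scal ι₀ hcompat t).symm⟩

/-- the centralizer of a standard field automorphism in the image of a subgroup of the
similarity group which corresponds to a subgroup over the fixed field -/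
theorem centralizer_equiv_sub (hQ : (QuadraticMap.polarBilin Q).Nondegenerate)
    (hQ₀ : (QuadraticMap.polarBilin Q₀).Nondegenerate)
    (hn : 7 ≤ Fintype.card ι) (hι : ∀ a, σ a = a ↔ a ∈ Set.range ι₀) (r : ℕ)
    (hr : orderOf σ = r) (hr0 : 0 < r) (hcompat : ∀ v, Q (extV ι₀ v) = ι₀ (Q₀ v))
    (hstd : Cfsg.IsSemisimilarityPair (⇑Q) (1 : GL ι F) σ)
    (S : Subgroup ↥(GO (⇑Q))) (S₀ : Subgroup ↥(GO (⇑Q₀)))
    (h1 : ∀ g₀, embGO ι₀ hcompat g₀ ∈ S ↔ g₀ ∈ S₀) (h2 : (scalGO Q).range ≤ S) :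
    Nonempty (↥(S.map (Phi (⇑Q)) ⊓ Subgroup.centralizer {PhiS 1 σ hstd})
      ≃* ↥(S₀.map (Phi (⇑Q₀)))) := by
  classical
  have hmem : ∀ g₀ : ↥S₀, Phi (⇑Q) (embGO ι₀ hcompat (g₀ : ↥(GO (⇑Q₀)))) ∈
      S.map (Phi (⇑Q)) ⊓ Subgroup.centralizer {PhiS 1 σ hstd} := by
    intro g₀
    refine Subgroup.mem_inf.2 ⟨⟨_, (h1 _).2 g₀.2, rfl⟩, ?_⟩
    have := embGO_mem_commSub hQ hn hι hcompat hstd (g₀ : ↥(GO (⇑Q₀)))
    exact this
  let φ : ↥S₀ →* ↥(S.map (Phi (⇑Q)) ⊓ Subgroup.centralizer {PhiS 1 σ hstd}) :=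
    MonoidHom.codRestrict (((Phi (⇑Q)).comp (embGO ι₀ hcompat)).comp S₀.subtype) _ hmem
  have hφ : ∀ g₀ : ↥S₀, (φ g₀ : MulAut (Cfsg.POmega F (⇑Q))) =
      Phi (⇑Q) (embGO ι₀ hcompat (g₀ : ↥(GO (⇑Q₀)))) := fun g₀ => rfl
  have hsurj : Function.Surjective φ := by
    rintro ⟨a, ha⟩
    obtain ⟨ha1, ha2⟩ := Subgroup.mem_inf.1 ha
    obtain ⟨c, hcS, rfl⟩ := ha1
    have hc : c ∈ commSub (Phi (⇑Q)) (PhiS 1 σ hstd) := ha2
    obtain ⟨b, c₀, hbc⟩ := exists_emb_of_commSub hQ hn hι r hr hr0 hcompat hstd c hc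
    have hc₀ : c₀ ∈ S₀ := by
      rw [← h1, ← hbc]
      exact S.mul_mem (h2 ⟨b, rfl⟩) hcS
    refine ⟨⟨c₀, hc₀⟩, ?_⟩
    apply Subtype.ext
    rw [hφ]
    show Phi (⇑Q) (embGO ι₀ hcompat c₀) = Phi (⇑Q) c
    rw [← hbc, map_mul]
    have : Phi (⇑Q) (scalGO Q b) = 1 := scal_le_ker ⟨b, rfl⟩
    rw [this, one_mul]
  have hker : φ.ker = ((Phi (⇑Q₀)).comp S₀.subtype).ker := by
    ext g₀
    rw [MonoidHom.mem_ker, MonoidHom.mem_ker]
    have h3 : φ g₀ = 1 ↔ embGO ι₀ hcompat (g₀ : ↥(GO (⇑Q₀))) ∈ (Phi (⇑Q)).ker := by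
      rw [MonoidHom.mem_ker]
      constructor
      · intro h
        rw [← hφ, h]
        rfl
      · intro h
        apply Subtype.ext
        rw [hφ, h]
        rfl
    rw [h3, embGO_mem_ker_iff hQ hQ₀ hn hcompat, MonoidHom.mem_ker]
    rfl
  have e1 : ↥S₀ ⧸ φ.ker ≃* ↥(S.map (Phi (⇑Q)) ⊓ Subgroup.centralizer {PhiS 1 σ hstd}) :=
    QuotientGroup.quotientKerEquivOfSurjective φ hsurj
  have e2 : ↥S₀ ⧸ ((Phi (⇑Q₀)).comp S₀.subtype).ker ≃* ↥((Phi (⇑Q₀)).comp S₀.subtype).range :=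
    QuotientGroup.quotientKerEquivRange _
  have hrange : ((Phi (⇑Q₀)).comp S₀.subtype).range = S₀.map (Phi (⇑Q₀)) := by
    rw [MonoidHom.range_comp, Subgroup.range_subtype]
  exact ⟨(e1.symm.trans (QuotientGroup.quotientMulEquivOfEq hker)).trans
    (e2.trans (MulEquiv.subgroupCongr hrange))⟩

end Cent

end Cfsg.Agent.Lib.Helper5.OFld
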