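import Mathlib
import Cfsg.Agent.Lib.Helper5.OFld37

set_option autoImplicit false

/-! Odd characteristic: base change and the sign `det / μ^n`; every class-preserving similarity
is, modulo the inner automorphisms, the base change of a similarity over the fixed field of a
field automorphism of odd order. -/

namespace Cfsg.Agent.Lib.Helper5.OFld

open Matrix Module Cfsg.Agent.Lib.Helper5.PGO Cfsg.Agent.Lib.Helper5.OAut
open Cfsg.Agent.Lib.Helper5.PSLCoset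
open Cfsg.Agent.Lib.Helper2 Cfsg.Agent.Lib.Helper2.CDG Cfsg.Agent.Lib.Helper2.Spinor

section Eps
variable {F F₀ : Type*} [Field F] [Fintype F] [Field F₀] [Fintype F₀]
variable {ι : Type} [Fintype ι] [DecidableEq ι]
variable {Q : QuadraticForm F (ι → F)} {Q₀ : QuadraticForm F₀ (ι → F₀)}
variable {ι₀ : F₀ →+* F}

theorem mu_embGO (hQ0 : ∃ v, Q v ≠ 0) (hcompat : ∀ v, Q (extV ι₀ v) = ι₀ (Q₀ v))
    (g₀ : ↥(GO (⇑Q₀))) :
    (mu (⇑Q) (embGO ι₀ hcompat g₀) : F) = ι₀ (mu (⇑Q₀) g₀ : F₀) := by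
  apply mu_unique hQ0
  intro v
  rw [embGO_coe]
  exact base_change ι₀ (Q.comp (Matrix.toLin' (((g₀ : GL ι F₀) : Matrix ι ι F₀).map ι₀)))
    ((ι₀ (mu (⇑Q₀) g₀ : F₀)) • Q) (by
      intro v₀
      show Q ((((g₀ : GL ι F₀) : Matrix ι ι F₀).map ι₀) *ᵥ extV ι₀ v₀) =
        ι₀ (mu (⇑Q₀) g₀ : F₀) * Q (extV ι₀ v₀)
      rw [extV_mulVec, hcompat, hcompat, mu_spec (⇑Q₀) g₀, map_mul]) v

theorem det_embGO (hcompat : ∀ v, Q (extV ι₀ v) = ι₀ (Q₀ v)) (g₀ : ↥(GO (⇑Q₀))) :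
    ((detGO (⇑Q) (embGO ι₀ hcompat g₀) : Fˣ) : F) = ι₀ ((detGO (⇑Q₀) g₀ : F₀ˣ) : F₀) := by
  rw [detGO_coe, detGO_coe, embGO_coe]
  exact (RingHom.map_det ι₀ _).symm

theorem epsHom_embGO_iff (hQ0 : ∃ v, Q v ≠ 0) (hQ₀0 : ∃ v, Q₀ v ≠ 0)
    (hcompat : ∀ v, Q (extV ι₀ v) = ι₀ (Q₀ v)) (n : ℕ) (g₀ : ↥(GO (⇑Q₀))) :
    epsHom Q hQ0 n (embGO ι₀ hcompat g₀) = 1 ↔ epsHom Q₀ hQ₀0 n g₀ = 1 := by
  rw [epsHom_apply, epsHom_apply, mul_inv_eq_one, mul_inv_eq_one, ← Units.val_inj,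
    ← Units.val_inj (a := detGO (⇑Q₀) g₀), Units.val_pow_eq_pow_val, Units.val_pow_eq_pow_val,
    det_embGO, mu_embGO hQ0, ← map_pow]
  exact ι₀.injective.eq_iff

end Eps

section Decomp
variable {F F₀ : Type*} [Field F] [Fintype F] [DecidableEq F] [Field F₀] [Fintype F₀]
  [DecidableEq F₀]
variable {ι : Type} [Fintype ι] [DecidableEq ι]
variable {Q : QuadraticForm F (ι → F)} {Q₀ : QuadraticForm F₀ (ι → F₀)}
variable {ι₀ : F₀ →+* F} {σ : F ≃+* F}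

/-- modulo inner automorphisms every class-preserving similarity comes from the fixed field of a
field automorphism of odd order -/
theorem exists_emb_mul_mem_inn (h2 : (2 : F) ≠ 0) (h2' : (2 : F₀) ≠ 0)
    (hQ : (QuadraticMap.polarBilin Q).Nondegenerate)
    (hQ₀ : (QuadraticMap.polarBilin Q₀).Nondegenerate)
    (hn : 7 ≤ Fintype.card ι) {n : ℕ} (hcard : Fintype.card ι = 2 * n)
    (hι : ∀ a, σ a = a ↔ a ∈ Set.range ι₀) (r : ℕ) (hσr : σ ^ r = 1) (hodd : Odd r)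
    (hcompat : ∀ v, Q (extV ι₀ v) = ι₀ (Q₀ v))
    (hQ0 : ∃ v, Q v ≠ 0) (hQ₀0 : ∃ v, Q₀ v ≠ 0)
    (hsurj₀ : Function.Surjective (chi hQ₀ hQ₀0 hcard h2'))
    (g : ↥(GO (⇑Q))) (hg : epsHom Q hQ0 n g = 1) :
    ∃ c₀ : ↥(GO (⇑Q₀)), Phi (⇑Q) (g * embGO ι₀ hcompat c₀) ∈ Cfsg.Inn (Cfsg.POmega F (⇑Q)) := by
  have hn2 : 2 ≤ Fintype.card ι := by omega
  have hscal : ∀ b : Fˣ, Phi (⇑Q) (scalGO Q b) = 1 := fun b => scal_le_ker ⟨b, rfl⟩
  -- Step A: make the multiplier a square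
  obtain ⟨c₁, hc₁⟩ : ∃ c₁ : ↥(GO (⇑Q₀)),
      g * embGO ι₀ hcompat c₁ ∈ (chi hQ hQ0 hcard h2).ker := by
    by_cases hsq : IsSquare (mu (⇑Q) g : F)
    · refine ⟨1, ?_⟩
      rw [map_one, mul_one, mem_chi_ker]
      exact ⟨hsq, hg⟩
    · obtain ⟨c₁, hc₁⟩ := hsurj₀ (-1, 1)
      have h1 : chi1 Q₀ hQ₀0 c₁ = -1 := congrArg Prod.fst hc₁
      have h3 : chi2 hQ₀ hQ₀0 hcard h2' c₁ = 1 := congrArg Prod.snd hc₁
      have hns : ¬ IsSquare (mu (⇑Q₀) c₁ : F₀) := by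
        rw [← chi1_eq_one_iff hQ₀0, h1]
        decide
      have heps : epsHom Q₀ hQ₀0 n c₁ = 1 := (chi2_eq_one_iff hQ₀ hQ₀0 hcard h2' c₁).1 h3
      refine ⟨c₁, ?_⟩
      rw [mem_chi_ker]
      constructor
      · have hmul := map_mul (muHom (⇑Q) hQ0) g (embGO ι₀ hcompat c₁)
        simp only [muHom_apply] at hmul
        rw [hmul, Units.val_mul, mu_embGO hQ0]
        exact isSquare_mul_of_not h2 hsq (not_isSquare_map_of_odd h2 hι r hσr hodd _ hns)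
      · rw [map_mul, hg, one_mul, epsHom_embGO_iff hQ0 hQ₀0 hcompat]
        exact heps
  -- Step B: a scalar times a special isometry
  obtain ⟨c, h, hh, hgh⟩ := exists_SO_of_chi_ker hQ hQ0 hcard h2 _ hc₁
  have hh' : (h : GL ι F) ∈ Cfsg.specialIsometryGL F (⇑Q) := hh
  obtain ⟨s, hs⟩ : ∃ s : ↥(Cfsg.isometryGroup F ⇑Q), incl (⇑Q) s = h := ⟨⟨_, hh'.1⟩, rfl⟩
  have hdet : Matrix.GeneralLinearGroup.det (s : GL ι F) = 1 := by
    have : (s : GL ι F) = (h : GL ι F) := by rw [← hs]; rfl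
    rw [this]
    exact hh'.2
  -- Step C: adjust the spinor norm
  rcases Int.units_eq_one_or (levSign Q 1 s) with hl | hl
  · refine ⟨c₁, ?_⟩
    rw [hgh, map_mul, hscal, one_mul, inn_eq]
    exact ⟨h, ⟨s, (mem_comm_iff_of_det h2 hQ hn2 s hdet).2 hl, hs⟩, rfl⟩
  · obtain ⟨ν, hν⟩ := exists_nonsquare_unit (F := F₀) h2'
    obtain ⟨u, hu⟩ := exists_value hQ₀ hn2 1 one_ne_zero
    obtain ⟨w, hw⟩ := exists_value hQ₀ hn2 (ν : F₀) ν.ne_zero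
    have hu0 : Q₀ u ≠ 0 := by rw [hu]; exact one_ne_zero
    have hw0 : Q₀ w ≠ 0 := by rw [hw]; exact ν.ne_zero
    have hu0' : Q (extV ι₀ u) ≠ 0 := by
      rw [hcompat]; exact (map_ne_zero_iff _ ι₀.injective).2 hu0
    have hw0' : Q (extV ι₀ w) ≠ 0 := by
      rw [hcompat]; exact (map_ne_zero_iff _ ι₀.injective).2 hw0
    obtain ⟨s₀, hs₀⟩ : ∃ s₀ : ↥(Cfsg.isometryGroup F₀ (⇑Q₀)),
        s₀ = refl Q₀ u hu0 * refl Q₀ w hw0 := ⟨_, rfl⟩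
    have hemb : embO ι₀ hcompat s₀ = refl Q (extV ι₀ u) hu0' * refl Q (extV ι₀ w) hw0' := by
      rw [hs₀, map_mul, embO_refl ι₀ hcompat u hu0 hu0', embO_refl ι₀ hcompat w hw0 hw0']
    have hdet' : Matrix.GeneralLinearGroup.det
        ((embO ι₀ hcompat s₀ : ↥(Cfsg.isometryGroup F (⇑Q))) : GL ι F) = 1 := by
      rw [hemb]
      exact det_refl_mul_refl _ _ hu0' hw0'
    have hlev : levSign Q 1 (embO ι₀ hcompat s₀) = -1 := by
      rw [hemb, map_mul, levSign_refl_one h2 _ (by rw [hcompat, hu, map_one]),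
        levSign_refl_nonsquare h2 _ hw0' (by
          rw [hcompat, hw]
          exact not_isSquare_map_of_odd h2 hι r hσr hodd _ hν)]
      rfl
    have hdet'' : Matrix.GeneralLinearGroup.det
        ((s * embO ι₀ hcompat s₀ : ↥(Cfsg.isometryGroup F (⇑Q))) : GL ι F) = 1 := by
      rw [Subgroup.coe_mul, map_mul, hdet, hdet', one_mul]
    have hlev'' : levSign Q 1 (s * embO ι₀ hcompat s₀) = 1 := by
      rw [map_mul, hl, hlev]
      rfl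
    refine ⟨c₁ * incl (⇑Q₀) s₀, ?_⟩
    have he : g * embGO ι₀ hcompat (c₁ * incl (⇑Q₀) s₀) =
        scalGO Q c * incl (⇑Q) (s * embO ι₀ hcompat s₀) := by
      rw [map_mul, ← mul_assoc, hgh, ← incl_embO, map_mul, hs, mul_assoc]
    rw [he, map_mul, hscal, one_mul, inn_eq]
    exact ⟨_, ⟨_, (mem_comm_iff_of_det h2 hQ hn2 _ hdet'').2 hlev'', rfl⟩, rfl⟩

end Decomp

end Cfsg.Agent.Lib.Helper5.OFld
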