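import Mathlib
import Cfsg.Agent.Lib.Helper5.OFld38

set_option autoImplicit false

/-! Field automorphisms of prime order of the minus type orthogonal groups: the order is odd and
divides the degree of the field, the centralizer in the inner-diagonal group is the
inner-diagonal group over the fixed field, and the class does not split. -/

namespace Cfsg.Agent.Lib.Helper5.OFld

open Matrix Module Cfsg.Agent.Lib.Helper5.PGO Cfsg.Agent.Lib.Helper5.OAut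
open Cfsg.Agent.Lib.Helper5.PSLCoset
open Cfsg.Agent.Lib.Helper2 Cfsg.Agent.Lib.Helper2.CDG Cfsg.Agent.Lib.Helper2.OrthCard
open Cfsg.Agent.Lib.Helper2.Dickson Cfsg.Agent.Lib.Helper5.OmegaCrit

section EmbInn
variable {F F₀ : Type*} [Field F] [Fintype F] [Field F₀] [Fintype F₀]
variable {ι : Type} [Fintype ι] [DecidableEq ι]
variable {Q : QuadraticForm F (ι → F)} {Q₀ : QuadraticForm F₀ (ι → F₀)}
variable {ι₀ : F₀ →+* F}

/-- characteristic two: the base change of a similarity induces an inner automorphism iff the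
similarity does -/
theorem Phi_embGO_mem_inn_iff (h2 : (2 : F) = 0)
    (hQ : (QuadraticMap.polarBilin Q).Nondegenerate)
    (hQ₀ : (QuadraticMap.polarBilin Q₀).Nondegenerate) (hn : 7 ≤ Fintype.card ι)
    (hcompat : ∀ v, Q (extV ι₀ v) = ι₀ (Q₀ v)) (hQ₀0 : ∃ v, Q₀ v ≠ 0) (g₀ : ↥(GO (⇑Q₀))) :
    Phi (⇑Q) (embGO ι₀ hcompat g₀) ∈ Cfsg.Inn (Cfsg.POmega F ⇑Q) ↔
      Phi (⇑Q₀) g₀ ∈ Cfsg.Inn (Cfsg.POmega F₀ ⇑Q₀) := by
  have h2' : (2 : F₀) = 0 := by
    apply ι₀.injective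
    rw [map_ofNat, h2, map_zero]
  obtain ⟨t, hO, hg⟩ := exists_scal_iso_two h2' hQ₀0 g₀
  have hex : Fintype.card F ≠ 2 ∨ Fintype.card ι ≠ 4 := Or.inr (by omega)
  have hex₀ : Fintype.card F₀ ≠ 2 ∨ Fintype.card ι ≠ 4 := Or.inr (by omega)
  have hgen := closure_R_all hQ hex (by omega)
  have hgen₀ := closure_R_all hQ₀ hex₀ (by omega)
  have e1 : Phi (⇑Q₀) g₀ = PsiO Q₀ hO := by
    rw [hg, map_mul]
    have : Phi (⇑Q₀) (scalGO Q₀ t) = 1 := scal_le_ker ⟨t, rfl⟩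
    rw [this, one_mul]
    rfl
  have e2 : Phi (⇑Q) (embGO ι₀ hcompat g₀) = PsiO Q (embO ι₀ hcompat hO) := by
    rw [hg, map_mul (embGO ι₀ hcompat), embGO_scal, ← incl_embO, map_mul]
    have : Phi (⇑Q) (scalGO Q (Units.map (ι₀ : F₀ →* F) t)) = 1 := scal_le_ker ⟨_, rfl⟩
    rw [this, one_mul]
    rfl
  rw [e1, e2, PsiO_mem_inn_iff h2 hQ hn, PsiO_mem_inn_iff h2' hQ₀ hn,
    dfun_embO ι₀ hcompat hQ hQ₀ hgen hgen₀]

end EmbInn

section OddOrder
variable {F F₀ : Type*} [Field F] [Fintype F] [Field F₀] [Fintype F₀]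

/-- a field automorphism of prime order fixing the coefficients of an anisotropic binary form has
odd order -/
theorem odd_of_aniso_fixed {p f : ℕ} [Fact p.Prime] (hF : Fintype.card F = p ^ f) (r : ℕ)
    (hr : r.Prime) (hrf : r ∣ f) (hF₀ : Fintype.card F₀ = p ^ (f / r)) (ι₀ : F₀ →+* F)
    (a₀ b₀ : F₀)
    (hab : ∀ z₁ z₂ : F, z₁ ^ 2 + ι₀ a₀ * z₁ * z₂ + ι₀ b₀ * z₂ ^ 2 = 0 → z₁ = 0 ∧ z₂ = 0) :
    Odd r := by
  rcases hr.eq_two_or_odd' with h | h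
  · exfalso
    subst h
    letI := ι₀.toAlgebra
    have hp : p.Prime := Fact.out
    have hcard := Module.card_eq_pow_finrank (K := F₀) (V := F)
    have hK : finrank F₀ F = 2 := by
      rw [hF, hF₀, ← pow_mul] at hcard
      have h1 := Nat.pow_right_injective hp.two_le hcard
      obtain ⟨k, rfl⟩ := hrf
      rw [Nat.mul_div_cancel_left k (by norm_num)] at h1
      have hk : 0 < k := by
        rcases Nat.eq_zero_or_pos k with h0 | h0
        · subst h0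
          rw [mul_zero, pow_zero] at hF
          have := Fintype.one_lt_card (α := F)
          omega
        · exact h0
      nlinarith
    obtain ⟨z, hz⟩ := exists_root_ext hK a₀ b₀ (aniso_of_map ι₀ a₀ b₀ hab)
    have h3 := hab z 1 (by
      have e1 : algebraMap F₀ F a₀ = ι₀ a₀ := rfl
      have e2 : algebraMap F₀ F b₀ = ι₀ b₀ := rfl
      rw [e1, e2] at hz
      linear_combination hz)
    exact one_ne_zero h3.2
  · exact h

end OddOrder

section Main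
variable {F : Type*} [Field F] [Fintype F] {m : ℕ}

set_option maxHeartbeats 800000 in
/-- field automorphisms of prime order of the minus type groups -/
theorem minus_field_aut {p f : ℕ} [Fact p.Prime] (hF : Fintype.card F = p ^ f) (hm : 3 ≤ m)
    (a b a' b' : F)
    (hab : ∀ z₁ z₂ : F, z₁ ^ 2 + a * z₁ * z₂ + b * z₂ ^ 2 = 0 → z₁ = 0 ∧ z₂ = 0)
    (hab' : ∀ z₁ z₂ : F, z₁ ^ 2 + a' * z₁ * z₂ + b' * z₂ ^ 2 = 0 → z₁ = 0 ∧ z₂ = 0)
    (ψ : Cfsg.POmega F ⇑(QMn m a b) ≃* Cfsg.POmega F ⇑(QMn m a' b')) (σ : F ≃+* F)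
    (hσa : σ a' = a') (hσb : σ b' = b') (x : MulAut (Cfsg.POmega F ⇑(QMn m a b)))
    (hfield : Cfsg.IsFieldAutPOmegaOf (⇑(QMn m a' b')) σ ((ψ.symm.trans x).trans ψ))
    (r : ℕ) (hr : r.Prime) (hxr : orderOf x = r)
    (F₀ : Type*) [Field F₀] [Fintype F₀] (hF₀ : Fintype.card F₀ = p ^ (f / r)) :
    Odd r ∧ r ∣ f ∧
      (∃ a₀ b₀ : F₀, (∀ z₁ z₂ : F₀, z₁ ^ 2 + a₀ * z₁ * z₂ + b₀ * z₂ ^ 2 = 0 → z₁ = 0 ∧ z₂ = 0) ∧
        Nonempty (↥(inndiagQM (⇑(QMn m a b)) (Cfsg.PreservesSingularClassesMinus m a b) ⊓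
          Subgroup.centralizer {x}) ≃*
          ↥(inndiagQM (⇑(QMn m a₀ b₀)) (Cfsg.PreservesSingularClassesMinus m a₀ b₀)))) ∧
      Cfsg.splitClassCount
        (inndiagQM (⇑(QMn m a b)) (Cfsg.PreservesSingularClassesMinus m a b))
        (Cfsg.Inn (Cfsg.POmega F ⇑(QMn m a b))) x = 1 := by
  classical
  obtain ⟨p', hchar⟩ := CharP.exists F
  haveI : Fact p'.Prime := ⟨CharP.char_is_prime F p'⟩
  have hT := map_congr_inndiag_minus hm a b a' b' hab hab' ψ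
  have hI : (Cfsg.Inn (Cfsg.POmega F ⇑(QMn m a b))).map (MulAut.congr ψ).toMonoidHom =
      Cfsg.Inn (Cfsg.POmega F ⇑(QMn m a' b')) := map_congr_inn ψ
  have hstd := pair_std_minus m a' b' σ hσa hσb
  have hQ' := QMn_nondeg (F := F) m a' b' hab'
  have hn : 7 ≤ Fintype.card ((Fin m ⊕ Fin m) ⊕ Fin 2) := by rw [card_minus_index]; omega
  have hx' : MulAut.congr ψ x = PhiS 1 σ hstd := (isFieldAut_iff' hstd _).1 hfield
  have hσr : orderOf σ = r := by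
    rw [← orderOf_PhiS_std p' hQ' hn (lag_minus a' b' hab') hstd, ← hx', MulEquiv.orderOf_eq, hxr]
  obtain ⟨hrf, -⟩ := card_fixed hF σ r hσr hr.pos
  obtain ⟨ι₀, hι⟩ := exists_embedding_fixed hF σ r hσr hr.pos F₀ hF₀
  obtain ⟨a₀, ha₀⟩ : ∃ a₀, ι₀ a₀ = a' := (hι a').1 hσa
  obtain ⟨b₀, hb₀⟩ : ∃ b₀, ι₀ b₀ = b' := (hι b').1 hσb
  subst ha₀
  subst hb₀
  have hab₀ := aniso_of_map ι₀ a₀ b₀ hab'
  have hoddr : Odd r := odd_of_aniso_fixed hF r hr hrf hF₀ ι₀ a₀ b₀ hab'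
  have hQ₀ := QMn_nondeg (F := F₀) m a₀ b₀ hab₀
  have hcompat := QMn_extV ι₀ m a₀ b₀
  have hσpow : σ ^ r = 1 := by rw [← hσr]; exact pow_orderOf_eq_one σ
  refine ⟨hoddr, hrf, ⟨a₀, b₀, hab₀, ?_⟩, ?_⟩
  · -- the centralizer
    obtain ⟨e1⟩ := centralizer_map_equiv (MulAut.congr ψ)
      (inndiagQM (⇑(QMn m a b)) (Cfsg.PreservesSingularClassesMinus m a b)) x
    rw [hT, hx'] at e1
    by_cases h2 : (2 : F) = 0
    · have h2' : (2 : F₀) = 0 := by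
        apply ι₀.injective
        rw [map_ofNat, h2, map_zero]
      obtain ⟨e2⟩ := centralizer_equiv_sub hQ' hQ₀ hn hι r hσr hr.pos hcompat hstd
        ((Cfsg.Inn (Cfsg.POmega F ⇑(QMn m (ι₀ a₀) (ι₀ b₀)))).comap
          (Phi (⇑(QMn m (ι₀ a₀) (ι₀ b₀)))))
        ((Cfsg.Inn (Cfsg.POmega F₀ ⇑(QMn m a₀ b₀))).comap (Phi (⇑(QMn m a₀ b₀))))
        (fun g₀ => by
          rw [Subgroup.mem_comap, Subgroup.mem_comap]
          exact Phi_embGO_mem_inn_iff h2 hQ' hQ₀ hn hcompat (QMn_ne_zero m a₀ b₀) g₀)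
        (by
          rintro _ ⟨c, rfl⟩
          rw [Subgroup.mem_comap]
          have : Phi (⇑(QMn m (ι₀ a₀) (ι₀ b₀))) (scalGO (QMn m (ι₀ a₀) (ι₀ b₀)) c) = 1 :=
            scal_le_ker ⟨c, rfl⟩
          rw [this]
          exact Subgroup.one_mem _)
      rw [Subgroup.map_comap_eq, Subgroup.map_comap_eq, ← pgoAut_eq, ← pgoAut_eq,
        inf_eq_right.2 inn_le_pgo, inf_eq_right.2 inn_le_pgo,
        ← inndiag_minus_two h2 hm _ _ hab', ← inndiag_minus_two h2' hm _ _ hab₀] at e2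
      exact ⟨e1.trans e2⟩
    · have h2' : (2 : F₀) ≠ 0 := by
        intro h
        apply h2
        rw [← map_ofNat ι₀, h, map_zero]
      have hodd := odd_card_of_two_ne_zero h2
      have hodd₀ := odd_card_of_two_ne_zero h2'
      obtain ⟨e2⟩ := centralizer_equiv_sub hQ' hQ₀ hn hι r hσr hr.pos hcompat hstd
        (GOp (QMn m (ι₀ a₀) (ι₀ b₀)) (QMn_ne_zero m _ _) (m + 1))
        (GOp (QMn m a₀ b₀) (QMn_ne_zero m _ _) (m + 1))
        (fun g₀ => by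
          unfold GOp
          rw [MonoidHom.mem_ker, MonoidHom.mem_ker]
          exact epsHom_embGO_iff (QMn_ne_zero m _ _) (QMn_ne_zero m _ _) hcompat (m + 1) g₀)
        (by
          rintro _ ⟨c, rfl⟩
          unfold GOp
          rw [MonoidHom.mem_ker]
          exact eps_scal (QMn_ne_zero m _ _) (card_minus m) c)
      have hi1 : (GOp (QMn m (ι₀ a₀) (ι₀ b₀)) (QMn_ne_zero m _ _) (m + 1)).map
          (Phi (⇑(QMn m (ι₀ a₀) (ι₀ b₀)))) = idg (QMn m (ι₀ a₀) (ι₀ b₀)) (QMn_ne_zero m _ _) (m + 1) :=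
        rfl
      have hi2 : (GOp (QMn m a₀ b₀) (QMn_ne_zero m _ _) (m + 1)).map
          (Phi (⇑(QMn m a₀ b₀))) = idg (QMn m a₀ b₀) (QMn_ne_zero m _ _) (m + 1) := rfl
      rw [hi1, hi2, ← inndiag_minus hodd _ _ hab', ← inndiag_minus hodd₀ _ _ hab₀] at e2
      exact ⟨e1.trans e2⟩
  · -- the class does not split
    rw [← splitClassCount_map (MulAut.congr ψ), hT, hI, hx']
    apply splitClassCount_eq_one
    by_cases h2 : (2 : F) = 0
    · rw [inndiag_minus_two h2 hm _ _ hab']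
      exact fun y hy => hy
    · have h2' : (2 : F₀) ≠ 0 := by
        intro h
        apply h2
        rw [← map_ofNat ι₀, h, map_zero]
      have hodd := odd_card_of_two_ne_zero h2
      rw [inndiag_minus hodd _ _ hab']
      rintro y ⟨k, ⟨g, hg, rfl⟩, rfl⟩
      have hg' : epsHom (QMn m (ι₀ a₀) (ι₀ b₀)) (QMn_ne_zero m _ _) (m + 1) g = 1 := hg
      obtain ⟨c₀, hc₀⟩ := exists_emb_mul_mem_inn h2 h2' hQ' hQ₀ hn (card_minus m) hι r hσpow hoddr
        hcompat (QMn_ne_zero m _ _) (QMn_ne_zero m _ _) (chi_surj_minus m h2' a₀ b₀ hab₀) g hg'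
      refine ⟨_, hc₀, ?_⟩
      have hcomm := mem_commSub.1 (embGO_mem_commSub hQ' hn hι hcompat hstd c₀)
      rw [map_mul, _root_.mul_inv_rev]
      have : Phi (⇑(QMn m (ι₀ a₀) (ι₀ b₀))) (embGO ι₀ hcompat c₀) * PhiS 1 σ hstd *
          (Phi (⇑(QMn m (ι₀ a₀) (ι₀ b₀))) (embGO ι₀ hcompat c₀))⁻¹ = PhiS 1 σ hstd := by
        rw [hcomm, mul_assoc, mul_inv_cancel, mul_one]
      calc Phi (⇑(QMn m (ι₀ a₀) (ι₀ b₀))) g * PhiS 1 σ hstd *
            (Phi (⇑(QMn m (ι₀ a₀) (ι₀ b₀))) g)⁻¹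
          = Phi (⇑(QMn m (ι₀ a₀) (ι₀ b₀))) g *
            (Phi (⇑(QMn m (ι₀ a₀) (ι₀ b₀))) (embGO ι₀ hcompat c₀) * PhiS 1 σ hstd *
            (Phi (⇑(QMn m (ι₀ a₀) (ι₀ b₀))) (embGO ι₀ hcompat c₀))⁻¹) *
            (Phi (⇑(QMn m (ι₀ a₀) (ι₀ b₀))) g)⁻¹ := by rw [this]
        _ = _ := by group

end Main

end Cfsg.Agent.Lib.Helper5.OFld
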