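import Mathlib
import Cfsg.Agent.Lib.Helper5.OFld39

set_option autoImplicit false

/-! Semilinear similarities whose twisted power is a scalar descend to forms over the fixed
field; two such automorphisms with similar descended forms are conjugate under the similarity
group. -/

namespace Cfsg.Agent.Lib.Helper5.OFld

open Matrix Cfsg.Agent.Lib.Helper5.PGO Cfsg.Agent.Lib.Helper5.PSLCoset
open Cfsg.Agent.Lib.Helper5.OAut Cfsg.Agent.Lib.Helper5.PSpField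

section Conj
variable {F : Type*} [Field F] {ι : Type} [Fintype ι] [DecidableEq ι]
variable {Q : QuadraticForm F (ι → F)}

/-- conjugating the automorphism of a pair by a similarity -/
theorem Phi_conj_pair (d : ↥(GO (⇑Q))) {g : GL ι F} {σ : F ≃+* F}
    (hg : Cfsg.IsSemisimilarityPair (⇑Q) g σ)
    (h' : Cfsg.IsSemisimilarityPair (⇑Q) ((d : GL ι F) * g * mapGL σ (d : GL ι F)⁻¹) σ) :
    Phi (⇑Q) d * PhiS g σ hg * (Phi (⇑Q) d)⁻¹ =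
      PhiS ((d : GL ι F) * g * mapGL σ (d : GL ι F)⁻¹) σ h' := by
  rw [← map_inv, ← PhiS_one_eq d (pair_of_GO d), ← PhiS_one_eq d⁻¹ (pair_of_GO d⁻¹), PhiS_mul,
    PhiS_mul]
  apply PhiS_congr
  · rw [mapGL_one]
    rfl
  · rw [one_mul, mul_one]

theorem pair_conj (d : ↥(GO (⇑Q))) {g : GL ι F} {σ : F ≃+* F}
    (hg : Cfsg.IsSemisimilarityPair (⇑Q) g σ) :
    Cfsg.IsSemisimilarityPair (⇑Q) ((d : GL ι F) * g * mapGL σ (d : GL ι F)⁻¹) σ := by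
  have h1 := pair_mul (pair_of_GO d) hg
  have h2 := pair_mul h1 (pair_of_GO d⁻¹)
  rw [mapGL_one, one_mul, mul_one] at h2
  exact h2

end Conj

section Desc
variable {F F₀ : Type*} [Field F] [Field F₀] {ι : Type} [Fintype ι] [DecidableEq ι]

/-- the pair `(g, σ)` descends to the form `Q₀` over the fixed field -/
def DescendsTo (Q : QuadraticForm F (ι → F)) (ι₀ : F₀ →+* F) (σ : F ≃+* F) (g : GL ι F)
    (Q₀ : QuadraticForm F₀ (ι → F₀)) : Prop :=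
  ∃ (B : Matrix ι ι F) (w ν : F), IsUnit B ∧ w ≠ 0 ∧ ν ≠ 0 ∧
    (w • (g : Matrix ι ι F)) * B.map σ = B ∧ ∀ v, ι₀ (Q₀ v) = ν⁻¹ * Q (B *ᵥ extV ι₀ v)

variable {Q : QuadraticForm F (ι → F)}

theorem descendsTo_std (ι₀ : F₀ →+* F) (σ : F ≃+* F) (QE : QuadraticForm F₀ (ι → F₀))
    (hcompat : ∀ v, Q (extV ι₀ v) = ι₀ (QE v)) : DescendsTo Q ι₀ σ 1 QE := by
  refine ⟨1, 1, 1, isUnit_one, one_ne_zero, one_ne_zero, ?_, fun v => ?_⟩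
  · rw [Units.val_one, one_smul, Matrix.map_one _ (map_zero σ) (map_one σ), mul_one]
  · rw [inv_one, one_mul, Matrix.one_mulVec, hcompat]

variable [Fintype F]

/-- an automorphism of order dividing `r` in the coset of a field automorphism of order `r`
descends to a nondegenerate form -/
theorem exists_descendsTo (hQ : (QuadraticMap.polarBilin Q).Nondegenerate)
    (hn : 7 ≤ Fintype.card ι) (ι₀ : F₀ →+* F) (σ : F ≃+* F)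
    (hι : ∀ a, σ a = a ↔ a ∈ Set.range ι₀) (r : ℕ) (hr : orderOf σ = r) (hr0 : 0 < r)
    (g : GL ι F) (hg : Cfsg.IsSemisimilarityPair (⇑Q) g σ) (hpow : (PhiS g σ hg) ^ r = 1) :
    ∃ Q₀ : QuadraticForm F₀ (ι → F₀), (QuadraticMap.polarBilin Q₀).Nondegenerate ∧
      DescendsTo Q ι₀ σ g Q₀ := by
  classical
  have hσr : σ ^ r = 1 := by
    rw [← hr]
    exact pow_orderOf_eq_one σ
  have hQ0 : ∃ v, Q v ≠ 0 := exists_value_ne hQ (by omega)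
  obtain ⟨hGO, hpw⟩ := PhiS_pow_of_pow_eq_one hg hσr
  rw [hpow] at hpw
  have hker : (⟨twGL σ g r, hGO⟩ : ↥(GO (⇑Q))) ∈ (Phi (⇑Q)).ker := hpw.symm
  rw [ker_eq hQ hn] at hker
  obtain ⟨z, hz⟩ := hker
  have htw : tw σ (g : Matrix ι ι F) r = (z : F) • 1 := by
    rw [← twGL_coe]
    have := congrArg (fun x : ↥(GO (⇑Q)) => ((x : GL ι F) : Matrix ι ι F)) hz
    simp only [scalGO_coe, scalHom_coe] at this
    rw [← this, Matrix.scalar_apply, ← Matrix.smul_one_eq_diagonal]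
  obtain ⟨c, hc⟩ := hg
  obtain ⟨B, w, ν, hBu, hw0, hν0, hB, hBσ⟩ := exists_descent_data Q hQ0 σ r hr hr0
    (g : Matrix ι ι F) g.isUnit (c : F) (fun v => hc v) (z : F) z.ne_zero htw
  have hfix : ∀ v₀ : ι → F₀, sv σ (extV ι₀ v₀) = extV ι₀ v₀ := by
    intro v₀
    funext i
    exact (hι _).2 ⟨_, rfl⟩
  obtain ⟨Q₀, hQ₀⟩ := exists_descent ι₀ (twForm Q B ν) (by
    intro v₀
    apply (hι _).1
    rw [twForm_apply, ← hBσ, hfix])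
  have hQ₀nd := descent_nondeg ι₀ (twForm Q B ν) Q₀ hQ₀ (twForm_nondeg hQ B hBu ν hν0)
  exact ⟨Q₀, hQ₀nd, B, w, ν, hBu, hw0, hν0, hB, fun v => by rw [hQ₀, twForm_apply]⟩

/-- two automorphisms in the coset of a field automorphism whose descended forms are similar
are conjugate under the similarity group -/
theorem conj_of_descendsTo (ι₀ : F₀ →+* F) (σ : F ≃+* F)
    (hι : ∀ a, σ a = a ↔ a ∈ Set.range ι₀)
    (g₁ g₂ : GL ι F) (hg₁ : Cfsg.IsSemisimilarityPair (⇑Q) g₁ σ)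
    (hg₂ : Cfsg.IsSemisimilarityPair (⇑Q) g₂ σ)
    (Q₁ Q₂ : QuadraticForm F₀ (ι → F₀)) (h₁ : DescendsTo Q ι₀ σ g₁ Q₁)
    (h₂ : DescendsTo Q ι₀ σ g₂ Q₂)
    (hsim : ∃ (μ : F₀) (E₁ : (ι → F₀) ≃ₗ[F₀] (ι → F₀)), μ ≠ 0 ∧ ∀ v, Q₁ (E₁ v) = μ * Q₂ v) :
    ∃ h : ↥(GO (⇑Q)), PhiS g₁ σ hg₁ = Phi (⇑Q) h * PhiS g₂ σ hg₂ * (Phi (⇑Q) h)⁻¹ := by
  classical
  obtain ⟨B₁, w₁, ν₁, hB₁u, hw₁, hν₁, hB₁, hQ₁⟩ := h₁
  obtain ⟨B₂, w₂, ν₂, hB₂u, hw₂, hν₂, hB₂, hQ₂⟩ := h₂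
  obtain ⟨μ, E₁, hμ0, hE₁⟩ := hsim
  obtain ⟨M₁, hM₁⟩ : ∃ M₁ : Matrix ι ι F₀, M₁ = LinearMap.toMatrix' E₁.toLinearMap := ⟨_, rfl⟩
  have hM₁v : ∀ v₀, M₁ *ᵥ v₀ = E₁ v₀ := by
    intro v₀
    rw [hM₁, LinearMap.toMatrix'_mulVec]
    rfl
  have hM₁u : IsUnit M₁ := by
    rw [hM₁]
    have h1 : LinearMap.toMatrix' E₁.toLinearMap * LinearMap.toMatrix' E₁.symm.toLinearMap = 1 := by
      rw [← LinearMap.toMatrix'_comp]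
      have : E₁.toLinearMap.comp E₁.symm.toLinearMap = LinearMap.id := by
        ext v
        simp
      rw [this, LinearMap.toMatrix'_id]
    exact IsUnit.of_mul_eq_one _ h1
  have hMu : IsUnit (M₁.map ι₀) := by
    rw [Matrix.isUnit_iff_isUnit_det] at hM₁u ⊢
    have : (M₁.map ι₀).det = ι₀ M₁.det := (RingHom.map_det ι₀ M₁).symm
    rw [this]
    exact hM₁u.map ι₀
  obtain ⟨Bg₁, hBg₁⟩ : ∃ Bg₁ : GL ι F, (Bg₁ : Matrix ι ι F) = B₁ := ⟨hB₁u.unit, rfl⟩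
  obtain ⟨Bg₂, hBg₂⟩ : ∃ Bg₂ : GL ι F, (Bg₂ : Matrix ι ι F) = B₂ := ⟨hB₂u.unit, rfl⟩
  obtain ⟨Mg, hMg⟩ : ∃ Mg : GL ι F, (Mg : Matrix ι ι F) = M₁.map ι₀ := ⟨hMu.unit, rfl⟩
  -- the similarity factor
  have hbc : ∀ v, Q ((B₁ * M₁.map ι₀) *ᵥ v) = (ν₁ * ι₀ μ * ν₂⁻¹) * Q (B₂ *ᵥ v) := by
    intro v
    exact base_change ι₀ (Q.comp (Matrix.toLin' (B₁ * M₁.map ι₀)))
      ((ν₁ * ι₀ μ * ν₂⁻¹) • Q.comp (Matrix.toLin' B₂)) (by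
        intro v₀
        show Q ((B₁ * M₁.map ι₀) *ᵥ extV ι₀ v₀) = (ν₁ * ι₀ μ * ν₂⁻¹) * Q (B₂ *ᵥ extV ι₀ v₀)
        rw [← Matrix.mulVec_mulVec, extV_mulVec, hM₁v]
        have e1 := hQ₁ (E₁ v₀)
        have e2 := hQ₂ v₀
        rw [hE₁, map_mul, e2] at e1
        have e3 : Q (B₁ *ᵥ extV ι₀ (E₁ v₀)) = ν₁ * (ν₁⁻¹ * Q (B₁ *ᵥ extV ι₀ (E₁ v₀))) := by
          field_simp
        rw [e3, ← e1]
        ring) v
  set hU : GL ι F := Bg₁ * Mg * Bg₂⁻¹ with hhU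
  have hsim' : ∀ v, Q ((hU : Matrix ι ι F) *ᵥ v) = (ν₁ * ι₀ μ * ν₂⁻¹) * Q v := by
    intro v
    have h1 := hbc (((Bg₂⁻¹ : GL ι F) : Matrix ι ι F) *ᵥ v)
    rw [← hBg₂, Matrix.mulVec_mulVec (v) (Bg₂ : Matrix ι ι F), ← Units.val_mul, mul_inv_cancel,
      Units.val_one, Matrix.one_mulVec, Matrix.mulVec_mulVec, ← hBg₁, ← hMg, ← Units.val_mul,
      ← Units.val_mul] at h1
    exact h1
  have hfac : ν₁ * ι₀ μ * ν₂⁻¹ ≠ 0 :=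
    mul_ne_zero (mul_ne_zero hν₁ ((map_ne_zero_iff _ ι₀.injective).2 hμ0)) (inv_ne_zero hν₂)
  have hhGO : hU ∈ GO (⇑Q) := ⟨Units.mk0 _ hfac, fun v => hsim' v⟩
  refine ⟨⟨hU, hhGO⟩, ?_⟩
  rw [Phi_conj_pair ⟨hU, hhGO⟩ hg₂ (pair_conj ⟨hU, hhGO⟩ hg₂)]
  -- the key identities
  have hk₁ : scalHom (Units.mk0 w₁ hw₁) * g₁ * mapGL σ Bg₁ = Bg₁ := by
    apply Units.ext
    rw [Units.val_mul, Units.val_mul, mapGL_coe, hBg₁, scalHom_coe, Matrix.scalar_apply,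
      ← Matrix.smul_eq_diagonal_mul, Units.val_mk0]
    exact hB₁
  have hk₂ : scalHom (Units.mk0 w₂ hw₂) * g₂ * mapGL σ Bg₂ = Bg₂ := by
    apply Units.ext
    rw [Units.val_mul, Units.val_mul, mapGL_coe, hBg₂, scalHom_coe, Matrix.scalar_apply,
      ← Matrix.smul_eq_diagonal_mul, Units.val_mk0]
    exact hB₂
  have hMσ : mapGL σ Mg = Mg := by
    apply Units.ext
    rw [mapGL_coe, hMg, map_iota hι]
  have hc₁ : ∀ x : GL ι F, scalHom (Units.mk0 w₁ hw₁) * x = x * scalHom (Units.mk0 w₁ hw₁) :=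
    fun x => scalHom_comm _ x
  have hc₂ : ∀ x : GL ι F, scalHom (Units.mk0 w₂ hw₂) * x = x * scalHom (Units.mk0 w₂ hw₂) :=
    fun x => scalHom_comm _ x
  have hg₁e : g₁ = (scalHom (Units.mk0 w₁ hw₁))⁻¹ * (Bg₁ * (mapGL σ Bg₁)⁻¹) := by
    calc g₁ = (scalHom (Units.mk0 w₁ hw₁))⁻¹ *
          ((scalHom (Units.mk0 w₁ hw₁) * g₁ * mapGL σ Bg₁) * (mapGL σ Bg₁)⁻¹) := by group
      _ = _ := by rw [hk₁]
  have hg₂e : g₂ = (scalHom (Units.mk0 w₂ hw₂))⁻¹ * (Bg₂ * (mapGL σ Bg₂)⁻¹) := by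
    calc g₂ = (scalHom (Units.mk0 w₂ hw₂))⁻¹ *
          ((scalHom (Units.mk0 w₂ hw₂) * g₂ * mapGL σ Bg₂) * (mapGL σ Bg₂)⁻¹) := by group
      _ = _ := by rw [hk₂]
  have hkey : hU * g₂ * mapGL σ hU⁻¹ =
      scalHom ((Units.mk0 w₂ hw₂)⁻¹ * Units.mk0 w₁ hw₁) * g₁ := by
    have e1 : mapGL σ hU⁻¹ = mapGL σ Bg₂ * Mg⁻¹ * (mapGL σ Bg₁)⁻¹ := by
      rw [hhU, map_inv, map_mul, map_mul, hMσ, map_inv]
      group
    have e2 : (scalHom (Units.mk0 w₂ hw₂))⁻¹ * (Bg₂ * (mapGL σ Bg₂)⁻¹) =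
        (Bg₂ * (mapGL σ Bg₂)⁻¹) * (scalHom (Units.mk0 w₂ hw₂))⁻¹ := by
      rw [← map_inv]
      exact scalHom_comm _ _
    rw [e1, hg₂e, hhU, map_mul, map_inv, hg₁e]
    have e3 : ∀ x : GL ι F, (scalHom (Units.mk0 w₂ hw₂))⁻¹ * x =
        x * (scalHom (Units.mk0 w₂ hw₂))⁻¹ := by
      intro x
      rw [← map_inv]
      exact scalHom_comm _ x
    calc Bg₁ * Mg * Bg₂⁻¹ * ((scalHom (Units.mk0 w₂ hw₂))⁻¹ * (Bg₂ * (mapGL σ Bg₂)⁻¹)) *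
          (mapGL σ Bg₂ * Mg⁻¹ * (mapGL σ Bg₁)⁻¹)
        = Bg₁ * Mg * Bg₂⁻¹ * ((Bg₂ * (mapGL σ Bg₂)⁻¹) * (scalHom (Units.mk0 w₂ hw₂))⁻¹) *
          (mapGL σ Bg₂ * Mg⁻¹ * (mapGL σ Bg₁)⁻¹) := by rw [e3]
      _ = Bg₁ * Mg * (mapGL σ Bg₂)⁻¹ * ((scalHom (Units.mk0 w₂ hw₂))⁻¹ *
          (mapGL σ Bg₂ * Mg⁻¹ * (mapGL σ Bg₁)⁻¹)) := by group
      _ = Bg₁ * Mg * (mapGL σ Bg₂)⁻¹ * ((mapGL σ Bg₂ * Mg⁻¹ * (mapGL σ Bg₁)⁻¹) *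
          (scalHom (Units.mk0 w₂ hw₂))⁻¹) := by rw [e3]
      _ = Bg₁ * (mapGL σ Bg₁)⁻¹ * (scalHom (Units.mk0 w₂ hw₂))⁻¹ := by group
      _ = (scalHom (Units.mk0 w₂ hw₂))⁻¹ * (Bg₁ * (mapGL σ Bg₁)⁻¹) := by rw [e3]
      _ = (scalHom (Units.mk0 w₂ hw₂))⁻¹ * scalHom (Units.mk0 w₁ hw₁) *
          ((scalHom (Units.mk0 w₁ hw₁))⁻¹ * (Bg₁ * (mapGL σ Bg₁)⁻¹)) := by group
  have hpair'' : Cfsg.IsSemisimilarityPair (⇑Q)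
      (scalHom ((Units.mk0 w₂ hw₂)⁻¹ * Units.mk0 w₁ hw₁) * g₁) σ := by
    rw [← hkey]
    exact pair_conj ⟨hU, hhGO⟩ hg₂
  rw [← PhiS_scal ((Units.mk0 w₂ hw₂)⁻¹ * Units.mk0 w₁ hw₁) hg₁ hpair'']
  exact PhiS_congr hkey.symm rfl _ _

end Desc

end Cfsg.Agent.Lib.Helper5.OFld
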