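import Mathlib
import Cfsg.Agent.Lib.Helper5.OFld40

set_option autoImplicit false

/-! The type of forms descended along a field automorphism of odd order, and similarity of
forms of the same type. -/

namespace Cfsg.Agent.Lib.Helper5.OFld

open Matrix Module Cfsg.Agent.Lib.Helper5.PGO Cfsg.Agent.Lib.Helper5.OAut
open Cfsg.Agent.Lib.Helper2 Cfsg.Agent.Lib.Helper2.OrthCard
open Cfsg.Agent.Lib.Helper5.OrthCls Cfsg.Agent.Lib.Helper5.MaxTS

section Aniso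
variable {F F₀ : Type*} [Field F] [Field F₀]

/-- an anisotropic binary form over the fixed field of a field automorphism of odd order stays
anisotropic -/
theorem aniso_of_fixed_odd (ι₀ : F₀ →+* F) (σ : F ≃+* F)
    (hι : ∀ a, σ a = a ↔ a ∈ Set.range ι₀) (r : ℕ) (hσr : σ ^ r = 1) (hodd : Odd r)
    (a₀ b₀ : F₀)
    (hab : ∀ z₁ z₂ : F₀, z₁ ^ 2 + a₀ * z₁ * z₂ + b₀ * z₂ ^ 2 = 0 → z₁ = 0 ∧ z₂ = 0) :
    ∀ z₁ z₂ : F, z₁ ^ 2 + ι₀ a₀ * z₁ * z₂ + ι₀ b₀ * z₂ ^ 2 = 0 → z₁ = 0 ∧ z₂ = 0 := by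
  intro z₁ z₂ h
  by_cases hz₂ : z₂ = 0
  · subst hz₂
    refine ⟨?_, rfl⟩
    have : z₁ ^ 2 = 0 := by linear_combination h
    exact pow_eq_zero_iff (two_ne_zero) |>.1 this
  · exfalso
    have ha : σ (ι₀ a₀) = ι₀ a₀ := (hι _).2 ⟨a₀, rfl⟩
    have hb : σ (ι₀ b₀) = ι₀ b₀ := (hι _).2 ⟨b₀, rfl⟩
    set t : F := z₁ / z₂ with ht
    have htroot : t ^ 2 + ι₀ a₀ * t + ι₀ b₀ = 0 := by
      rw [ht]
      field_simp
      linear_combination h
    have hσroot : (σ t) ^ 2 + ι₀ a₀ * σ t + ι₀ b₀ = 0 := by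
      have := congrArg σ htroot
      rw [map_add, map_add, map_pow, map_mul, ha, hb, map_zero] at this
      exact this
    have hnofix : σ t ≠ t := by
      intro hfix
      obtain ⟨t₀, ht₀⟩ := (hι t).1 hfix
      have h1 : ι₀ (t₀ ^ 2 + a₀ * t₀ * 1 + b₀ * 1 ^ 2) = 0 := by
        rw [map_add, map_add, map_pow, map_mul, map_mul, map_mul, map_pow, map_one, ht₀]
        linear_combination htroot
      have h2 := hab t₀ 1 (ι₀.injective (by rw [h1, map_zero]))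
      exact one_ne_zero h2.2
    have hprod : (σ t - t) * (σ t + t + ι₀ a₀) = 0 := by linear_combination hσroot - htroot
    have hswap : σ t = -ι₀ a₀ - t := by
      rcases mul_eq_zero.1 hprod with h1 | h1
      · exact absurd (sub_eq_zero.1 h1) hnofix
      · linear_combination h1
    have hσσ : σ (σ t) = t := by
      rw [hswap, map_sub, map_neg, ha, hswap]
      ring
    obtain ⟨k, hk⟩ := hodd
    have heven : ∀ j : ℕ, (σ ^ (2 * j)) t = t := by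
      intro j
      induction j with
      | zero => rfl
      | succ j ih =>
        rw [show 2 * (j + 1) = 2 * j + 2 by ring, pow_add, RingAut.mul_apply, pow_two,
          RingAut.mul_apply, hσσ, ih]
    have h3 : (σ ^ r) t = σ t := by
      rw [hk, pow_succ', RingAut.mul_apply, heven]
    rw [hσr] at h3
    exact hnofix h3.symm

end Aniso

section FormType
variable {F F₀ : Type*} [Field F] [Field F₀]

theorem isPlus_QP (m : ℕ) : IsPlus (Cfsg.Agent.Lib.Helper5.QuadGlue.QP m F) := by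
  have hL := isLag_Estd (F := F) m
  exact ⟨Estd m F, hL.ts, by rw [hL.dim, Module.finrank_fintype_fun_eq_card]⟩

/-- two nondegenerate forms of the same type on the same even dimensional space are isometric -/
theorem sim_of_same_type [Finite F₀] {m : ℕ}
    (Q₁ Q₂ : QuadraticForm F₀ (Fin m ⊕ Fin m → F₀))
    (hQ₁ : (QuadraticMap.polarBilin Q₁).Nondegenerate)
    (hQ₂ : (QuadraticMap.polarBilin Q₂).Nondegenerate) (htype : IsPlus Q₁ ↔ IsPlus Q₂) :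
    ∃ (μ : F₀) (E₁ : (Fin m ⊕ Fin m → F₀) ≃ₗ[F₀] (Fin m ⊕ Fin m → F₀)),
      μ ≠ 0 ∧ ∀ v, Q₁ (E₁ v) = μ * Q₂ v := by
  have heven : Even (finrank F₀ (Fin m ⊕ Fin m → F₀)) := by
    rw [Module.finrank_fintype_fun_eq_card, card_plus]
    exact even_two_mul _
  obtain ⟨g, hg⟩ := iso_of_type Q₂ Q₁ hQ₂ hQ₁ rfl heven htype.symm
  exact ⟨1, g, one_ne_zero, fun v => by rw [one_mul, hg]⟩

/-- a form whose base change is similar to a plus type form is of plus type, provided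
anisotropic binary forms stay anisotropic -/
theorem isPlus_of_descend [Finite F₀] (ι₀ : F₀ →+* F)
    (hroot : ∀ a₀ b₀ : F₀,
      (∀ z₁ z₂ : F₀, z₁ ^ 2 + a₀ * z₁ * z₂ + b₀ * z₂ ^ 2 = 0 → z₁ = 0 ∧ z₂ = 0) →
      ∀ z₁ z₂ : F, z₁ ^ 2 + ι₀ a₀ * z₁ * z₂ + ι₀ b₀ * z₂ ^ 2 = 0 → z₁ = 0 ∧ z₂ = 0)
    {m : ℕ} (hm : 1 ≤ m) (Q : QuadraticForm F (Fin m ⊕ Fin m → F)) (hP : IsPlus Q)
    (Q₀ : QuadraticForm F₀ (Fin m ⊕ Fin m → F₀))
    (hQ₀ : (QuadraticMap.polarBilin Q₀).Nondegenerate)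
    (hex : ∃ (B : Matrix (Fin m ⊕ Fin m) (Fin m ⊕ Fin m) F) (ν : F), IsUnit B ∧ ν ≠ 0 ∧
      ∀ v, ι₀ (Q₀ v) = ν⁻¹ * Q (B *ᵥ extV ι₀ v)) : IsPlus Q₀ := by
  classical
  by_contra hnp
  obtain ⟨k, rfl⟩ : ∃ k, m = k + 1 := ⟨m - 1, by omega⟩
  obtain ⟨B, ν, hBu, hν0, hB⟩ := hex
  obtain ⟨ζ, hζ⟩ := exists_aniso (F := F₀)
  have hζF := hroot 1 ζ hζ
  have hcardeq : Fintype.card ((Fin k ⊕ Fin k) ⊕ Fin 2) = Fintype.card (Fin (k + 1) ⊕ Fin (k + 1)) := by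
    rw [card_minus, card_plus]
  obtain ⟨e⟩ : Nonempty (((Fin k ⊕ Fin k) ⊕ Fin 2) ≃ (Fin (k + 1) ⊕ Fin (k + 1))) :=
    ⟨Fintype.equivOfCardEq hcardeq⟩
  have heven : Even (finrank F₀ (Fin (k + 1) ⊕ Fin (k + 1) → F₀)) := by
    rw [Module.finrank_fintype_fun_eq_card, card_plus]
    exact even_two_mul _
  have hdim : finrank F₀ (Fin (k + 1) ⊕ Fin (k + 1) → F₀) =
      finrank F₀ ((Fin k ⊕ Fin k) ⊕ Fin 2 → F₀) := by
    rw [Module.finrank_fintype_fun_eq_card, Module.finrank_fintype_fun_eq_card, hcardeq]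
  obtain ⟨g, hg⟩ := iso_of_type Q₀ (QMn k (1 : F₀) ζ) hQ₀ (QMn_nondeg k 1 ζ hζ) hdim heven
    (iff_of_false hnp (not_isPlus_QMn k 1 ζ hζ))
  -- transport to the index type of `Q`
  set E : (Fin (k + 1) ⊕ Fin (k + 1) → F₀) ≃ₗ[F₀] (Fin (k + 1) ⊕ Fin (k + 1) → F₀) :=
    g.trans (LinearEquiv.funCongrLeft F₀ F₀ e.symm) with hE
  have hEe : ∀ v, (fun i => E v (e i)) = g v := by
    intro v
    funext i
    show g v (e.symm (e i)) = g v i
    rw [e.symm_apply_apply]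
  obtain ⟨M, hM⟩ : ∃ M : Matrix (Fin (k + 1) ⊕ Fin (k + 1)) (Fin (k + 1) ⊕ Fin (k + 1)) F₀,
    M = LinearMap.toMatrix' E.toLinearMap := ⟨_, rfl⟩
  have hMv : ∀ v₀, M *ᵥ v₀ = E v₀ := by
    intro v₀
    rw [hM, LinearMap.toMatrix'_mulVec]
    rfl
  have hMu : IsUnit M := by
    rw [hM]
    have h1 : LinearMap.toMatrix' E.toLinearMap * LinearMap.toMatrix' E.symm.toLinearMap = 1 := by
      rw [← LinearMap.toMatrix'_comp]
      have : E.toLinearMap.comp E.symm.toLinearMap = LinearMap.id := by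
        ext v
        simp
      rw [this, LinearMap.toMatrix'_id]
    exact IsUnit.of_mul_eq_one _ h1
  have hMFu : IsUnit (M.map ι₀) := by
    rw [Matrix.isUnit_iff_isUnit_det] at hMu ⊢
    have : (M.map ι₀).det = ι₀ M.det := (RingHom.map_det ι₀ M).symm
    rw [this]
    exact hMu.map ι₀
  obtain ⟨Bg, hBg⟩ : ∃ Bg : GL (Fin (k + 1) ⊕ Fin (k + 1)) F, (Bg : Matrix _ _ F) = B :=
    ⟨hBu.unit, rfl⟩
  obtain ⟨Mg, hMg⟩ : ∃ Mg : GL (Fin (k + 1) ⊕ Fin (k + 1)) F, (Mg : Matrix _ _ F) = M.map ι₀ :=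
    ⟨hMFu.unit, rfl⟩
  -- the minus type form over `F` on the index type of `Q`
  set QmF : QuadraticForm F (Fin (k + 1) ⊕ Fin (k + 1) → F) :=
    (QMn k (ι₀ (1 : F₀)) (ι₀ ζ)).comp (LinearEquiv.funCongrLeft F F e).toLinearMap with hQmF
  have hQmF_apply : ∀ v, QmF v = QMn k (ι₀ (1 : F₀)) (ι₀ ζ) (fun i => v (e i)) := fun v => rfl
  have hbc : ∀ w, QmF ((M.map ι₀) *ᵥ w) = ν⁻¹ * Q (B *ᵥ w) := by
    intro w
    exact base_change ι₀ (QmF.comp (Matrix.toLin' (M.map ι₀)))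
      (ν⁻¹ • Q.comp (Matrix.toLin' B)) (by
        intro v₀
        show QmF ((M.map ι₀) *ᵥ extV ι₀ v₀) = ν⁻¹ * Q (B *ᵥ extV ι₀ v₀)
        rw [extV_mulVec, hMv, hQmF_apply, ← hB, ← hg, ← hEe, ← QMn_extV]
        rfl) w
  have hsim : ∀ u, QmF (((Mg * Bg⁻¹ : GL (Fin (k + 1) ⊕ Fin (k + 1)) F) : Matrix _ _ F) *ᵥ u) =
      ν⁻¹ * Q u := by
    intro u
    have h1 := hbc (((Bg⁻¹ : GL (Fin (k + 1) ⊕ Fin (k + 1)) F) : Matrix _ _ F) *ᵥ u)
    rw [← hMg, ← hBg, Matrix.mulVec_mulVec, Matrix.mulVec_mulVec, ← Units.val_mul,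
      ← Units.val_mul, mul_inv_cancel, Units.val_one, Matrix.one_mulVec] at h1
    exact h1
  have hPm : IsPlus QmF := isPlus_of_sim QmF Q (Mg * Bg⁻¹) ν⁻¹ hsim hP
  obtain ⟨U, hU, hd⟩ := hPm
  apply not_isPlus_QMn k (ι₀ (1 : F₀)) (ι₀ ζ) hζF
  refine ⟨U.map (LinearEquiv.funCongrLeft F F e).toLinearMap, ?_, ?_⟩
  · rintro _ ⟨u, hu, rfl⟩
    exact hU u hu
  · rw [LinearEquiv.finrank_map_eq, Module.finrank_fintype_fun_eq_card, hcardeq,
      ← Module.finrank_fintype_fun_eq_card (R := F)]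
    exact hd

end FormType

end Cfsg.Agent.Lib.Helper5.OFld
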