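import Mathlib
import Cfsg.Agent.Lib.Helper5.OFld41

set_option autoImplicit false

/-! Coset conjugacy for field and graph-field automorphisms of prime order of the plus type
orthogonal groups (dimension at least ten), relative to a normal subgroup of index two of the
projective similarity group. -/

namespace Cfsg.Agent.Lib.Helper5.OFld

open Matrix Module Cfsg.Agent.Lib.Helper5.PGO Cfsg.Agent.Lib.Helper5.OAut
open Cfsg.Agent.Lib.Helper5.PSLCoset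
open Cfsg.Agent.Lib.Helper2 Cfsg.Agent.Lib.Helper2.CDG Cfsg.Agent.Lib.Helper2.OrthCard
open Cfsg.Agent.Lib.Helper5.OrthCls Cfsg.Agent.Lib.Helper5.MaxTS
open Cfsg.Agent.Lib.Helper5.QuadGlue Cfsg.Agent.Lib.Helper2.QuadStd

section Group
variable {G : Type*} [Group G]

/-- an element of the coset `I x₀` is not conjugate under `P` to an element of the coset
`I c x₀` when `c ∉ I` -/
theorem no_cross_conj (P I : Subgroup G) [hI : I.Normal]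
    (hPn : ∀ u ∈ P, ∀ z : G, z * u * z⁻¹ ∈ P)
    (hmul : ∀ u v : G, u ∈ P → v ∈ P → u ∉ I → v ∉ I → u * v ∈ I)
    (c x₀ a δ : G) (hc : c ∈ P) (hcI : c ∉ I) (ha : a ∈ P) (hδ : δ ∈ I)
    (h : δ * x₀ = a * (c * x₀) * a⁻¹) : False := by
  obtain ⟨b, hb⟩ : ∃ b, b = x₀ * a⁻¹ * x₀⁻¹ := ⟨_, rfl⟩
  have hbP : b ∈ P := by rw [hb]; exact hPn _ (P.inv_mem ha) x₀
  have hδe : δ = a * c * b := by
    have : δ = a * (c * x₀) * a⁻¹ * x₀⁻¹ := by rw [← h]; group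
    rw [this, hb]; group
  by_cases haI : a ∈ I
  · have hbI : b ∈ I := by
      rw [hb]
      exact hI.conj_mem _ (I.inv_mem haI) x₀
    apply hcI
    have : c = a⁻¹ * δ * b⁻¹ := by rw [hδe]; group
    rw [this]
    exact I.mul_mem (I.mul_mem (I.inv_mem haI) hδ) (I.inv_mem hbI)
  · have hbI : b ∉ I := by
      intro hbI
      apply haI
      have : a = (x₀⁻¹ * b * x₀⁻¹⁻¹)⁻¹ := by rw [hb]; group
      rw [this]
      exact I.inv_mem (hI.conj_mem _ hbI x₀⁻¹)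
    have hac : a * c ∈ I := hmul a c ha hc haI hcI
    apply hbI
    have : b = (a * c)⁻¹ * δ := by rw [hδe]; group
    rw [this]
    exact I.mul_mem (I.inv_mem hac) hδ

end Group

section Plus
variable {F : Type*} [Field F] [Fintype F] {m : ℕ}

theorem lag_plus (hm : 5 ≤ m) :
    ∀ T : Submodule F (Fin m ⊕ Fin m → F), (∀ x ∈ T, QP m F x = 0) →
      (∀ y, (∀ x ∈ T, QuadraticMap.polar (⇑(QP m F)) x y = 0) → y ∈ T) →
      5 ≤ Module.finrank F ↥T := by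
  intro T hT hperp
  have := two_mul_finrank_of_lagrangian (QP_nondeg (F := F) m) T hT hperp
  rw [card_plus] at this
  omega

theorem Phi_mul_PhiS {ι : Type} [Fintype ι] [DecidableEq ι] {Q : QuadraticForm F (ι → F)}
    (d : ↥(GO (⇑Q))) {g : GL ι F} {σ : F ≃+* F}
    (hg : Cfsg.IsSemisimilarityPair (⇑Q) g σ)
    (h' : Cfsg.IsSemisimilarityPair (⇑Q) ((d : GL ι F) * g) σ) :
    Phi (⇑Q) d * PhiS g σ hg = PhiS ((d : GL ι F) * g) σ h' := by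
  rw [← PhiS_one_eq d (pair_of_GO d), PhiS_mul]
  exact PhiS_congr (by rw [mapGL_one]) (one_mul σ) _ _

theorem pair_GO_mul {ι : Type} [Fintype ι] [DecidableEq ι] {Q : QuadraticForm F (ι → F)}
    (d : ↥(GO (⇑Q))) {g : GL ι F} {σ : F ≃+* F}
    (hg : Cfsg.IsSemisimilarityPair (⇑Q) g σ) :
    Cfsg.IsSemisimilarityPair (⇑Q) ((d : GL ι F) * g) σ := by
  have := pair_mul (pair_of_GO d) hg
  rw [mapGL_one, one_mul] at this
  exact this

set_option maxHeartbeats 1600000 in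
/-- coset conjugacy in the plus type groups relative to a normal subgroup of index two -/
theorem plus_coset_conj (hm : 5 ≤ m) (σ : F ≃+* F) (r : ℕ) (hr : r.Prime) (hσ : orderOf σ = r)
    (I : Subgroup (MulAut (Cfsg.POmega F ⇑(QP m F)))) [hI : I.Normal]
    (hmul : ∀ u v : MulAut (Cfsg.POmega F ⇑(QP m F)), u ∈ Cfsg.pgoAut F ⇑(QP m F) →
      v ∈ Cfsg.pgoAut F ⇑(QP m F) → u ∉ I → v ∉ I → u * v ∈ I)
    (e : ↥(GO (⇑(QP m F)))) (hcI : Phi (⇑(QP m F)) e ∉ I)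
    (hc2 : Phi (⇑(QP m F)) e * Phi (⇑(QP m F)) e = 1)
    (g₀ : GL (Fin m ⊕ Fin m) F) (hg₀ : Cfsg.IsSemisimilarityPair (⇑(QP m F)) g₀ σ)
    (hx₀ : (PhiS g₀ σ hg₀) ^ r = 1)
    (hcx : Phi (⇑(QP m F)) e * PhiS g₀ σ hg₀ = PhiS g₀ σ hg₀ * Phi (⇑(QP m F)) e)
    (d : ↥(GO (⇑(QP m F)))) (hd : Phi (⇑(QP m F)) d ∈ I)
    (hpow : (Phi (⇑(QP m F)) d * PhiS g₀ σ hg₀) ^ r = 1) :
    Cfsg.IsConjUnder I (PhiS g₀ σ hg₀) (Phi (⇑(QP m F)) d * PhiS g₀ σ hg₀) := by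
  classical
  obtain ⟨p, hchar⟩ := CharP.exists F
  haveI : Fact p.Prime := ⟨CharP.char_is_prime F p⟩
  have hQ := QP_nondeg (F := F) m
  have hn : 7 ≤ Fintype.card (Fin m ⊕ Fin m) := by rw [card_plus]; omega
  have hLag := lag_plus (F := F) hm
  haveI : Fintype ↥(fixF σ) := Fintype.ofFinite _
  have hι := fixF_range σ
  have hσr : σ ^ r = 1 := by rw [← hσ]; exact pow_orderOf_eq_one σ
  have hPn : ∀ u ∈ Cfsg.pgoAut F ⇑(QP m F), ∀ z : MulAut (Cfsg.POmega F ⇑(QP m F)),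
      z * u * z⁻¹ ∈ Cfsg.pgoAut F ⇑(QP m F) := by
    intro u hu z
    rw [← Theta_ker p hQ hn hLag] at hu ⊢
    exact (inferInstance : (Theta p hQ hn hLag).ker.Normal).conj_mem u hu z
  have hmemP : ∀ h : ↥(GO (⇑(QP m F))), Phi (⇑(QP m F)) h ∈ Cfsg.pgoAut F ⇑(QP m F) := by
    intro h
    rw [pgoAut_eq]
    exact ⟨h, rfl⟩
  -- the element `y`
  have hgy := pair_GO_mul d hg₀
  have hy : Phi (⇑(QP m F)) d * PhiS g₀ σ hg₀ = PhiS ((d : GL (Fin m ⊕ Fin m) F) * g₀) σ hgy :=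
    Phi_mul_PhiS d hg₀ hgy
  rw [hy] at hpow ⊢
  obtain ⟨Qx, hQx, hdx⟩ := exists_descendsTo hQ hn (fixF σ).subtype σ hι r hσ hr.pos g₀ hg₀ hx₀
  obtain ⟨Qy, hQy, hdy⟩ := exists_descendsTo hQ hn (fixF σ).subtype σ hι r hσ hr.pos _ hgy hpow
  have hfinish : (IsPlus Qy ↔ IsPlus Qx) →
      Cfsg.IsConjUnder I (PhiS g₀ σ hg₀) (PhiS ((d : GL (Fin m ⊕ Fin m) F) * g₀) σ hgy) := by
    intro htype
    obtain ⟨h, hh⟩ := conj_of_descendsTo (fixF σ).subtype σ hι _ g₀ hgy hg₀ Qy Qx hdy hdx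
      (sim_of_same_type Qy Qx hQy hQx htype)
    exact conjUnder_of_index_two (Cfsg.pgoAut F ⇑(QP m F)) I _ _ (Phi (⇑(QP m F)) h)
      (Phi (⇑(QP m F)) e) (hmemP h) hh (hmemP e) hcI hcx hmul
  rcases hr.eq_two_or_odd' with h2 | hodd
  · -- `r = 2`
    subst h2
    have hgx₁ := pair_GO_mul e hg₀
    have hx₁ : Phi (⇑(QP m F)) e * PhiS g₀ σ hg₀ =
        PhiS ((e : GL (Fin m ⊕ Fin m) F) * g₀) σ hgx₁ := Phi_mul_PhiS e hg₀ hgx₁
    have hx₁pow : (PhiS ((e : GL (Fin m ⊕ Fin m) F) * g₀) σ hgx₁) ^ 2 = 1 := by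
      rw [← hx₁, pow_two]
      calc Phi (⇑(QP m F)) e * PhiS g₀ σ hg₀ * (Phi (⇑(QP m F)) e * PhiS g₀ σ hg₀)
          = Phi (⇑(QP m F)) e * (PhiS g₀ σ hg₀ * Phi (⇑(QP m F)) e) * PhiS g₀ σ hg₀ := by group
        _ = Phi (⇑(QP m F)) e * (Phi (⇑(QP m F)) e * PhiS g₀ σ hg₀) * PhiS g₀ σ hg₀ := by
            rw [hcx]
        _ = (Phi (⇑(QP m F)) e * Phi (⇑(QP m F)) e) * (PhiS g₀ σ hg₀ * PhiS g₀ σ hg₀) := by group
        _ = 1 := by rw [hc2, ← pow_two, hx₀, one_mul]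
    obtain ⟨Qx₁, hQx₁, hdx₁⟩ := exists_descendsTo hQ hn (fixF σ).subtype σ hι 2 hσ hr.pos _
      hgx₁ hx₁pow
    by_cases ht1 : (IsPlus Qy ↔ IsPlus Qx)
    · exact hfinish ht1
    · exfalso
      by_cases ht2 : (IsPlus Qy ↔ IsPlus Qx₁)
      · obtain ⟨h, hh⟩ := conj_of_descendsTo (fixF σ).subtype σ hι _ _ hgy hgx₁ Qy Qx₁ hdy hdx₁
          (sim_of_same_type Qy Qx₁ hQy hQx₁ ht2)
        rw [← hy, ← hx₁] at hh
        exact no_cross_conj (Cfsg.pgoAut F ⇑(QP m F)) I hPn hmul (Phi (⇑(QP m F)) e)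
          (PhiS g₀ σ hg₀) (Phi (⇑(QP m F)) h) (Phi (⇑(QP m F)) d) (hmemP e) hcI (hmemP h) hd hh
      · have ht3 : (IsPlus Qx ↔ IsPlus Qx₁) := by tauto
        obtain ⟨h, hh⟩ := conj_of_descendsTo (fixF σ).subtype σ hι _ _ hg₀ hgx₁ Qx Qx₁ hdx hdx₁
          (sim_of_same_type Qx Qx₁ hQx hQx₁ ht3)
        rw [← hx₁] at hh
        exact no_cross_conj (Cfsg.pgoAut F ⇑(QP m F)) I hPn hmul (Phi (⇑(QP m F)) e)
          (PhiS g₀ σ hg₀) (Phi (⇑(QP m F)) h) 1 (hmemP e) hcI (hmemP h) I.one_mem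
          (by rw [one_mul]; exact hh)
  · -- `r` odd
    have hroot := aniso_of_fixed_odd (fixF σ).subtype σ hι r hσr hodd
    have hplus : ∀ (g : GL (Fin m ⊕ Fin m) F) (Q₀ : QuadraticForm ↥(fixF σ) (Fin m ⊕ Fin m → ↥(fixF σ))),
        (QuadraticMap.polarBilin Q₀).Nondegenerate →
        DescendsTo (QP m F) (fixF σ).subtype σ g Q₀ → IsPlus Q₀ := by
      rintro g Q₀ hQ₀ ⟨B, w, ν, hBu, -, hν0, -, hB⟩
      exact isPlus_of_descend (fixF σ).subtype hroot (by omega) (QP m F) (isPlus_QP m) Q₀ hQ₀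
        ⟨B, ν, hBu, hν0, hB⟩
    exact hfinish (iff_of_true (hplus _ Qy hQy hdy) (hplus _ Qx hQx hdx))

end Plus

end Cfsg.Agent.Lib.Helper5.OFld
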