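import Mathlib
import Cfsg.Agent.Lib.Helper5.PGO18
import Cfsg.Agent.Lib.Helper5.PGO20
import Cfsg.Agent.Lib.Helper5.PlusLevi

set_option autoImplicit false

/-! The structure of `Inndiag(PΩ⁺) / Inn(PΩ⁺)` in odd characteristic. -/

namespace Cfsg.Agent.Lib.Helper5.PGO

open Matrix Cfsg.Agent.Lib.Helper2 Cfsg.Agent.Lib.Helper2.CDG Cfsg.Agent.Lib.Helper2.Spinor
open Cfsg.Agent.Lib.Helper5.QuadGlue Cfsg.Agent.Lib.Helper2.QuadStd
open Cfsg.Agent.Lib.Helper2.OrthCard Cfsg.Agent.Lib.Helper5.PlusLevi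

variable {F : Type*} [Field F] [Fintype F] [DecidableEq F] {m : ℕ}

theorem not_isSquare_pow_odd {ν : Fˣ} (hν : ¬ IsSquare (ν : F)) {m : ℕ} (hm : Odd m) :
    ¬ IsSquare ((ν : F) ^ m) := by
  obtain ⟨k, rfl⟩ := hm
  rintro ⟨t, ht⟩
  apply hν
  have h0 : (ν : F) ^ k ≠ 0 := pow_ne_zero _ ν.ne_zero
  refine ⟨t * ((ν : F) ^ k)⁻¹, ?_⟩
  field_simp
  rw [pow_succ, pow_mul, pow_two] at ht
  rw [mul_pow] at ht
  linear_combination ht

theorem isSquare_pow_even (ν : Fˣ) {m : ℕ} (hm : Even m) : IsSquare ((ν : F) ^ m) := by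
  obtain ⟨k, rfl⟩ := hm
  exact ⟨(ν : F) ^ k, pow_add _ _ _⟩

/-- the diagonal similarity as an element of the similarity group -/
noncomputable def dnuGO (m : ℕ) (ν : Fˣ) : ↥(GO (⇑(QP m F))) := ⟨dnu m ν, dnu_mem m ν⟩

theorem dnuGO_sq (ν : Fˣ) :
    dnuGO m ν * dnuGO m ν =
      scalGO (QP m F) ν * incl (⇑(QP m F)) (levi (scalHom ν : GL (Fin m) F)) := by
  apply Subtype.ext
  apply Units.ext
  show ((dnu m ν : GL (Fin m ⊕ Fin m) F) : Matrix (Fin m ⊕ Fin m) (Fin m ⊕ Fin m) F) *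
      ((dnu m ν : GL (Fin m ⊕ Fin m) F) : Matrix (Fin m ⊕ Fin m) (Fin m ⊕ Fin m) F) =
    ((scalHom ν : GL (Fin m ⊕ Fin m) F) : Matrix (Fin m ⊕ Fin m) (Fin m ⊕ Fin m) F) *
      ((leviGL (scalHom ν : GL (Fin m) F) : GL (Fin m ⊕ Fin m) F) :
        Matrix (Fin m ⊕ Fin m) (Fin m ⊕ Fin m) F)
  rw [dnu_coe, leviGL_coe, ← map_inv, scalHom_coe, scalHom_coe, scalHom_coe]
  simp only [Matrix.scalar_apply]
  rw [Matrix.diagonal_transpose, Matrix.fromBlocks_diagonal, Matrix.diagonal_mul_diagonal,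
    Matrix.diagonal_mul_diagonal]
  congr 1
  funext i
  rcases i with i | i
  · simp
  · simp

theorem mu_dnuGO (hm : 1 ≤ m) (ν : Fˣ) : mu (⇑(QP m F)) (dnuGO m ν) = ν :=
  Units.ext (mu_unique (QP_ne_zero hm) (dnuGO m ν) ν (dnu_sim m ν))

theorem dnuGO_mem_GOp (hm : 1 ≤ m) (ν : Fˣ) :
    dnuGO m ν ∈ GOp (QP m F) (QP_ne_zero hm) m := by
  show epsHom (QP m F) (QP_ne_zero hm) m (dnuGO m ν) = 1
  rw [epsHom_apply, mu_dnuGO hm]
  apply Units.ext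
  rw [Units.val_mul, detGO_coe]
  show ((dnu m ν : GL (Fin m ⊕ Fin m) F) : Matrix (Fin m ⊕ Fin m) (Fin m ⊕ Fin m) F).det * _ = _
  rw [dnu_det, ← Units.val_pow_eq_pow_val, ← Units.val_mul, mul_inv_cancel]

theorem chi1_dnuGO (hm : 1 ≤ m) (ν : Fˣ) (hν : ¬ IsSquare (ν : F)) :
    chi1 (QP m F) (QP_ne_zero hm) (dnuGO m ν) ≠ 1 := by
  rw [Ne, chi1_eq_one_iff, mu_dnuGO hm]
  exact hν

theorem pres_coe (M : Matrix (Fin m ⊕ Fin m) (Fin m ⊕ Fin m) F) :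
    Cfsg.PreservesSingularClasses (⇑(QP m F)) M ↔
      Cfsg.PreservesSingularClasses (Cfsg.quadFormPlus m F) M := by
  rw [QP_coe]

theorem inndiagQ_plus (hm : 1 ≤ m) (h2 : (2 : F) ≠ 0) :
    inndiagQ (⇑(QP m F)) = idg (QP m F) (QP_ne_zero hm) m := by
  apply inndiagQ_eq
  intro g
  rw [pres_coe, preserves_iff hm h2]
  rfl

end Cfsg.Agent.Lib.Helper5.PGO
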