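import Mathlib
import Cfsg.Agent.Lib.Helper5.OFld42
import Cfsg.Agent.Lib.Helper5.PGO21

set_option autoImplicit false

/-! The inner-diagonal group of the plus type groups in characteristic two, reflections in
vectors fixed by a field automorphism, and coset conjugacy for field and graph-field
automorphisms of prime order of the plus type groups. -/

namespace Cfsg.Agent.Lib.Helper5.OFld

open Matrix Module Cfsg.Agent.Lib.Helper5.PGO Cfsg.Agent.Lib.Helper5.OAut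
open Cfsg.Agent.Lib.Helper5.PSLCoset Cfsg.Agent.Lib.Helper5.SplitConj
open Cfsg.Agent.Lib.Helper2 Cfsg.Agent.Lib.Helper2.CDG Cfsg.Agent.Lib.Helper2.OrthCard
open Cfsg.Agent.Lib.Helper2.Dickson Cfsg.Agent.Lib.Helper5.OmegaCrit
open Cfsg.Agent.Lib.Helper5.OrthCls Cfsg.Agent.Lib.Helper5.MaxTS
open Cfsg.Agent.Lib.Helper5.QuadGlue Cfsg.Agent.Lib.Helper2.QuadStd

section Ext
variable {F F₀ : Type*} [Field F] [Field F₀]

theorem QP_extV (ι₀ : F₀ →+* F) (m : ℕ) (v : Fin m ⊕ Fin m → F₀) :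
    QP m F (extV ι₀ v) = ι₀ (QP m F₀ v) := by
  rw [QP_apply, QP_apply]
  unfold Cfsg.quadFormPlus
  simp only [map_sum, map_mul, extV_apply]

end Ext

section Refl
variable {F F₀ : Type*} [Field F] [Fintype F] [Field F₀] [Fintype F₀]
variable {ι : Type} [Fintype ι] [DecidableEq ι]
variable {Q : QuadraticForm F (ι → F)} {Q₀ : QuadraticForm F₀ (ι → F₀)}
variable {ι₀ : F₀ →+* F} {σ : F ≃+* F}

/-- the reflection in a vector over the fixed field commutes with the standard field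
automorphism -/
theorem refl_extV_mem_commSub (hQ : (QuadraticMap.polarBilin Q).Nondegenerate)
    (hn : 7 ≤ Fintype.card ι) (hι : ∀ a, σ a = a ↔ a ∈ Set.range ι₀)
    (hcompat : ∀ v, Q (extV ι₀ v) = ι₀ (Q₀ v))
    (hstd : Cfsg.IsSemisimilarityPair (⇑Q) (1 : GL ι F) σ) (u₀ : ι → F₀)
    (hw : Q (extV ι₀ u₀) ≠ 0) :
    incl (⇑Q) (refl Q (extV ι₀ u₀) hw) ∈ commSub (Phi (⇑Q)) (PhiS 1 σ hstd) := by
  have hu₀ : Q₀ u₀ ≠ 0 := by
    intro h
    apply hw
    rw [hcompat, h, map_zero]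
  rw [← embO_refl ι₀ hcompat u₀ hu₀ hw, incl_embO]
  exact embGO_mem_commSub hQ hn hι hcompat hstd _

end Refl

section Two
variable {F : Type*} [Field F] [Fintype F] {m : ℕ}

/-- in characteristic two a similarity of the plus type form preserves the classes iff it
induces an inner automorphism -/
theorem preserves_plus_iff_inn_two (h2 : (2 : F) = 0) (hm : 4 ≤ m) (g : ↥(GO (⇑(QP m F)))) :
    Cfsg.PreservesSingularClasses (⇑(QP m F))
      ((g : GL (Fin m ⊕ Fin m) F) : Matrix (Fin m ⊕ Fin m) (Fin m ⊕ Fin m) F) ↔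
      Phi (⇑(QP m F)) g ∈ Cfsg.Inn (Cfsg.POmega F ⇑(QP m F)) := by
  have hQ := QP_nondeg (F := F) m
  have hcard : Fintype.card (Fin m ⊕ Fin m) = 2 * m := card_plus m
  have hn : 7 ≤ Fintype.card (Fin m ⊕ Fin m) := by rw [hcard]; omega
  have hn2 : 2 ≤ Fintype.card (Fin m ⊕ Fin m) := by omega
  have hex : Fintype.card F ≠ 2 ∨ Fintype.card (Fin m ⊕ Fin m) ≠ 4 := by
    right; omega
  have hQ0 := QP_ne_zero (F := F) (by omega : 1 ≤ m)
  obtain ⟨t, hO, hg⟩ := exists_scal_iso_two h2 hQ0 g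
  have hmat : ((g : GL (Fin m ⊕ Fin m) F) : Matrix (Fin m ⊕ Fin m) (Fin m ⊕ Fin m) F) =
      ((scalHom t : GL (Fin m ⊕ Fin m) F) : Matrix _ _ F) *
        ((hO : GL (Fin m ⊕ Fin m) F) : Matrix _ _ F) := by
    rw [hg]
    rfl
  rw [preserves_iff_dfun hQ hex hn2 (isLag_Estd m) _ t hO hmat,
    ← mem_commutator_iff₂ h2 hQ hex hn2]
  have hPhi : Phi (⇑(QP m F)) g = PsiO (QP m F) hO := by
    rw [hg, map_mul]
    have : Phi (⇑(QP m F)) (scalGO (QP m F) t) = 1 := scal_le_ker ⟨t, rfl⟩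
    rw [this, one_mul]
    rfl
  rw [hPhi, inn_eq_map_PsiO, Subgroup.mem_map_iff_mem (PsiO_injective h2 hQ hn)]

/-- in characteristic two the inner-diagonal group of the plus type group is the inner
automorphism group -/
theorem inndiagQ_plus_two (h2 : (2 : F) = 0) (hm : 4 ≤ m) :
    inndiagQ (⇑(QP m F)) = Cfsg.Inn (Cfsg.POmega F ⇑(QP m F)) := by
  rw [inndiagQ_eq (⇑(QP m F))
    ((Cfsg.Inn (Cfsg.POmega F ⇑(QP m F))).comap (Phi (⇑(QP m F))))
    (fun g => by rw [preserves_plus_iff_inn_two h2 hm g, Subgroup.mem_comap]),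
    Subgroup.map_comap_eq, ← pgoAut_eq]
  exact inf_eq_right.2 inn_le_pgo

end Two

section Main
variable {F : Type*} [Field F] [Fintype F] {m : ℕ}

theorem galInv_QP (m : ℕ) : GalInv (⇑(QP m F)) := by
  rw [QP_coe]
  exact galInv_plus m

/-- the properties of the inner-diagonal group used below, in all characteristics -/
theorem inndiagQ_plus_props (hm : 5 ≤ m) :
    (inndiagQ (⇑(QP m F))).Normal ∧ inndiagQ (⇑(QP m F)) ≤ Cfsg.pgoAut F ⇑(QP m F) ∧
    (∀ u v : MulAut (Cfsg.POmega F ⇑(QP m F)), u ∈ Cfsg.pgoAut F ⇑(QP m F) →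
      v ∈ Cfsg.pgoAut F ⇑(QP m F) → u ∉ inndiagQ (⇑(QP m F)) → v ∉ inndiagQ (⇑(QP m F)) →
      u * v ∈ inndiagQ (⇑(QP m F))) ∧
    (∀ (w : Fin m ⊕ Fin m → F) (hw : QP m F w ≠ 0),
      Phi (⇑(QP m F)) (incl (⇑(QP m F)) (refl (QP m F) w hw)) ∉ inndiagQ (⇑(QP m F))) := by
  classical
  obtain ⟨p, hchar⟩ := CharP.exists F
  haveI : Fact p.Prime := ⟨CharP.char_is_prime F p⟩
  have hQ := QP_nondeg (F := F) m
  have hn : 7 ≤ Fintype.card (Fin m ⊕ Fin m) := by rw [card_plus]; omega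
  have hLag := lag_plus (F := F) hm
  have hQ0 := QP_ne_zero (F := F) (by omega : 1 ≤ m)
  by_cases h2 : (2 : F) = 0
  · rw [inndiagQ_plus_two h2 (by omega)]
    exact ⟨inn_normal _, inn_le_pgo, inn_mul_of_not_mem h2 hQ hn,
      fun w hw => Phi_refl_not_mem_inn h2 hQ hn w hw⟩
  · rw [inndiagQ_plus (by omega : 1 ≤ m) h2]
    exact ⟨idg_normal p hQ hn hLag hQ0 m, idg_le_pgo hQ0 m,
      idg_mul_of_not_mem hQ hQ0 (card_plus m) h2 hn,
      fun w hw => Phi_refl_not_mem_idg hQ hQ0 (card_plus m) h2 hn w hw⟩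

set_option maxHeartbeats 1600000 in
/-- coset conjugacy for field and graph-field automorphisms of prime order of the plus type
groups -/
theorem plus_coset_conj_main (hm : 5 ≤ m) (x δ : MulAut (Cfsg.POmega F ⇑(QP m F)))
    (hx : Cfsg.IsFieldAutClassPOmega (⇑(QP m F)) x ∨
      ∃ (α γ φ : MulAut (Cfsg.POmega F ⇑(QP m F))) (σ : F ≃+* F) (v : Fin m ⊕ Fin m → F)
        (rr : GL (Fin m ⊕ Fin m) F),
        σ ≠ RingEquiv.refl F ∧ QP m F v ≠ 0 ∧ (∀ i, σ (v i) = v i) ∧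
        (rr : Matrix (Fin m ⊕ Fin m) (Fin m ⊕ Fin m) F) = Cfsg.reflectionMatrix (⇑(QP m F)) v ∧
        Cfsg.IsInducedBySemilinearPOmega (⇑(QP m F)) rr (RingEquiv.refl F) γ ∧
        Cfsg.IsFieldAutPOmegaOf (⇑(QP m F)) σ φ ∧ α * x * α⁻¹ = γ * φ)
    (r : ℕ) (hr : r.Prime) (hxr : orderOf x = r) (hδ : δ ∈ inndiagQ (⇑(QP m F)))
    (hy : orderOf (δ * x) = r) :
    Cfsg.IsConjUnder (inndiagQ (⇑(QP m F))) x (δ * x) := by
  classical
  obtain ⟨p, hchar⟩ := CharP.exists F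
  haveI : Fact p.Prime := ⟨CharP.char_is_prime F p⟩
  have hQ := QP_nondeg (F := F) m
  have hn : 7 ≤ Fintype.card (Fin m ⊕ Fin m) := by rw [card_plus]; omega
  have hLag := lag_plus (F := F) hm
  obtain ⟨hI, hIle, hmul, hrefl⟩ := inndiagQ_plus_props (F := F) hm
  haveI := hI
  have hsq : ∀ (w : Fin m ⊕ Fin m → F) (hw : QP m F w ≠ 0),
      Phi (⇑(QP m F)) (incl (⇑(QP m F)) (refl (QP m F) w hw)) *
        Phi (⇑(QP m F)) (incl (⇑(QP m F)) (refl (QP m F) w hw)) = 1 := by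
    intro w hw
    rw [← map_mul, ← map_mul, refl_mul_self, map_one, map_one]
  -- reduction to a standard automorphism
  obtain ⟨α, σ, hσ1, g₀, hg₀, e, hαx, hcI, hc2, hcx⟩ :
      ∃ (α : MulAut (Cfsg.POmega F ⇑(QP m F))) (σ : F ≃+* F), σ ≠ 1 ∧
        ∃ (g₀ : GL (Fin m ⊕ Fin m) F) (hg₀ : Cfsg.IsSemisimilarityPair (⇑(QP m F)) g₀ σ)
          (e : ↥(GO (⇑(QP m F)))), α * x * α⁻¹ = PhiS g₀ σ hg₀ ∧
          Phi (⇑(QP m F)) e ∉ inndiagQ (⇑(QP m F)) ∧
          Phi (⇑(QP m F)) e * Phi (⇑(QP m F)) e = 1 ∧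
          Phi (⇑(QP m F)) e * PhiS g₀ σ hg₀ = PhiS g₀ σ hg₀ * Phi (⇑(QP m F)) e := by
    rcases hx with ⟨α, φ, σ, hσ1, hφ, hαx⟩ | ⟨α, γ, φ, σ, v, rr, hσ1, hv, hfix, hrr, hγ, hφ, hαx⟩
    · have hstd := pair_std (galInv_QP (F := F) m) σ
      have hφ' : φ = PhiS 1 σ hstd := (isFieldAut_iff' hstd φ).1 hφ
      haveI : Fintype ↥(fixF σ) := Fintype.ofFinite _
      obtain ⟨w, hw, hcomm⟩ := exists_refl_commSub hQ hn (fixF_range σ)
        (QP_extV (fixF σ).subtype m) hstd (QP_ne_zero (F := ↥(fixF σ)) (by omega : 1 ≤ m))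
      exact ⟨α, σ, hσ1, 1, hstd, incl (⇑(QP m F)) (refl (QP m F) w hw), by rw [hαx, hφ'],
        hrefl w hw, hsq w hw, mem_commSub.1 hcomm⟩
    · have hstd := pair_std (galInv_QP (F := F) m) σ
      have hφ' : φ = PhiS 1 σ hstd := (isFieldAut_iff' hstd φ).1 hφ
      haveI : Fintype ↥(fixF σ) := Fintype.ofFinite _
      have hrr' : rr = ((refl (QP m F) v hv : ↥(Cfsg.isometryGroup F ⇑(QP m F))) :
          GL (Fin m ⊕ Fin m) F) := Units.ext (hrr.trans (refl_coe (QP m F) v hv).symm)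
      subst hrr'
      have hγ' : γ = Phi (⇑(QP m F)) (incl (⇑(QP m F)) (refl (QP m F) v hv)) := by
        have h1 := (induced_iff _ (1 : F ≃+* F)
          (pair_of_GO (incl (⇑(QP m F)) (refl (QP m F) v hv))) γ).1 hγ
        rw [h1]
        exact PhiS_one_eq (incl (⇑(QP m F)) (refl (QP m F) v hv)) _
      obtain ⟨v₀, hv₀⟩ : ∃ v₀ : Fin m ⊕ Fin m → ↥(fixF σ), extV (fixF σ).subtype v₀ = v :=
        ⟨fun i => ⟨v i, hfix i⟩, rfl⟩
      subst hv₀
      have hcomm := mem_commSub.1 (refl_extV_mem_commSub hQ hn (fixF_range σ)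
        (QP_extV (fixF σ).subtype m) hstd v₀ hv)
      have hpair := pair_GO_mul (incl (⇑(QP m F)) (refl (QP m F) _ hv)) hstd
      refine ⟨α, σ, hσ1, _, hpair, incl (⇑(QP m F)) (refl (QP m F) _ hv), ?_, hrefl _ hv,
        hsq _ hv, ?_⟩
      · rw [hαx, hγ', hφ']
        exact Phi_mul_PhiS _ hstd hpair
      · rw [← Phi_mul_PhiS _ hstd hpair, mul_assoc, ← hcomm]
  -- the order of `σ`
  have hxp : x ^ r = 1 := by rw [← hxr]; exact pow_orderOf_eq_one x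
  have hx₀ : (PhiS g₀ σ hg₀) ^ r = 1 := by
    rw [← hαx, conj_pow, hxp, mul_one, mul_inv_cancel]
  have hσ : orderOf σ = r := by
    have h1 := congrArg (Theta p hQ hn hLag) hx₀
    rw [map_pow, map_one, Theta_PhiS] at h1
    have h3 : orderOf σ ∣ r := orderOf_dvd_of_pow_eq_one h1
    rcases (Nat.dvd_prime hr).1 h3 with h4 | h4
    · exact absurd (orderOf_eq_one_iff.1 h4) hσ1
    · exact h4
  -- the element `δ`
  have hδ' : α * δ * α⁻¹ ∈ inndiagQ (⇑(QP m F)) := hI.conj_mem δ hδ α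
  have hδP := hIle hδ'
  rw [pgoAut_eq] at hδP
  obtain ⟨d, hd⟩ := hδP
  have hyp : (δ * x) ^ r = 1 := by rw [← hy]; exact pow_orderOf_eq_one _
  have hprod : Phi (⇑(QP m F)) d * PhiS g₀ σ hg₀ = α * (δ * x) * α⁻¹ := by
    rw [hd, ← hαx]
    group
  have hpow : (Phi (⇑(QP m F)) d * PhiS g₀ σ hg₀) ^ r = 1 := by
    rw [hprod, conj_pow, hyp, mul_one, mul_inv_cancel]
  obtain ⟨k, hk, hk'⟩ := plus_coset_conj hm σ r hr hσ (inndiagQ (⇑(QP m F))) hmul e hcI hc2 g₀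
    hg₀ hx₀ hcx d (by rw [hd]; exact hδ') hpow
  refine ⟨α⁻¹ * k * α, ?_, ?_⟩
  · have := hI.conj_mem k hk α⁻¹
    rw [inv_inv] at this
    exact this
  · have h1 : δ * x = α⁻¹ * (Phi (⇑(QP m F)) d * PhiS g₀ σ hg₀) * α := by
      rw [hprod]
      group
    rw [h1, hk', ← hαx]
    group

end Main

end Cfsg.Agent.Lib.Helper5.OFld
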