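import Mathlib
import Cfsg.Agent.Lib.Helper5.OFld43
import Cfsg.Agent.Lib.Helper5.PSL2Aut6

set_option autoImplicit false

/-! The Galois group of a finite field is cyclic; conjugacy of the involutory graph-field
automorphisms of the plus type orthogonal groups under the inner-diagonal group. -/

namespace Cfsg.Agent.Lib.Helper5.OFld

open Matrix Module Cfsg.Agent.Lib.Helper5.PGO Cfsg.Agent.Lib.Helper5.OAut
open Cfsg.Agent.Lib.Helper5.PSLCoset Cfsg.Agent.Lib.Helper5.SplitConj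
open Cfsg.Agent.Lib.Helper2 Cfsg.Agent.Lib.Helper2.CDG Cfsg.Agent.Lib.Helper2.OrthCard
open Cfsg.Agent.Lib.Helper5.OrthCls Cfsg.Agent.Lib.Helper5.MaxTS
open Cfsg.Agent.Lib.Helper5.QuadGlue Cfsg.Agent.Lib.Helper2.QuadStd
open Cfsg.Agent.Lib.Helper5.SpinorDiag Cfsg.Agent.Lib.Helper5.PlusLevi

section Gal
variable {F : Type*} [Field F] [Fintype F]

theorem ringAut_isCyclic : IsCyclic (F ≃+* F) := by
  obtain ⟨p, hchar⟩ := CharP.exists F
  obtain ⟨k, hp, hk⟩ := FiniteField.card F p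
  haveI : Fact p.Prime := ⟨hp⟩
  exact (Cfsg.Agent.Lib.Helper5.PSL2Aut.ringAut_cyclic_card (F := F) (p := p) (f := k)
    k.pos hk).1

theorem ringAut_comm (σ τ : F ≃+* F) : σ * τ = τ * σ := by
  haveI := ringAut_isCyclic (F := F)
  letI := IsCyclic.commGroup (α := F ≃+* F)
  exact mul_comm σ τ

theorem ringAut_order_two_unique (σ τ : F ≃+* F) (hσ : orderOf σ = 2) (hτ : orderOf τ = 2) :
    σ = τ := by
  classical
  haveI := ringAut_isCyclic (F := F)
  haveI : Finite (F ≃+* F) :=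
    Finite.of_injective (fun e : F ≃+* F => (e : F → F)) DFunLike.coe_injective
  haveI : Fintype (F ≃+* F) := Fintype.ofFinite _
  have hd : 2 ∣ Fintype.card (F ≃+* F) := by
    rw [← hσ]
    exact orderOf_dvd_card
  have h1 := IsCyclic.card_orderOf_eq_totient (α := F ≃+* F) hd
  rw [Nat.totient_two, Finset.card_eq_one] at h1
  obtain ⟨a, ha⟩ := h1
  have hσm : σ ∈ ({a} : Finset (F ≃+* F)) := by
    rw [← ha, Finset.mem_filter]
    exact ⟨Finset.mem_univ _, hσ⟩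
  have hτm : τ ∈ ({a} : Finset (F ≃+* F)) := by
    rw [← ha, Finset.mem_filter]
    exact ⟨Finset.mem_univ _, hτ⟩
  rw [Finset.mem_singleton] at hσm hτm
  rw [hσm, hτm]

end Gal

section ConjUnder
variable {G : Type*} [Group G]

theorem isConjUnder_refl (H : Subgroup G) (x : G) : Cfsg.IsConjUnder H x x :=
  ⟨1, H.one_mem, by group⟩

theorem isConjUnder_symm (H : Subgroup G) {x y : G} (h : Cfsg.IsConjUnder H x y) :
    Cfsg.IsConjUnder H y x := by
  obtain ⟨k, hk, rfl⟩ := h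
  exact ⟨k⁻¹, H.inv_mem hk, by group⟩

theorem isConjUnder_trans (H : Subgroup G) {x y z : G} (h : Cfsg.IsConjUnder H x y)
    (h' : Cfsg.IsConjUnder H y z) : Cfsg.IsConjUnder H x z := by
  obtain ⟨k, hk, rfl⟩ := h
  obtain ⟨k', hk', rfl⟩ := h'
  exact ⟨k' * k, H.mul_mem hk' hk, by group⟩

end ConjUnder

section Std
variable {F : Type*} [Field F] [Fintype F] {m : ℕ}

/-- the vector `e₀ + f₀` -/
def vstar (m : ℕ) (hm : 1 ≤ m) (K : Type*) [Field K] : Fin m ⊕ Fin m → K :=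
  uvec (F := K) (Sum.inl : Fin m → Fin m ⊕ Fin m) Sum.inr ⟨0, hm⟩

theorem Q_vstar (hm : 1 ≤ m) : QP m F (vstar m hm F) = 1 := Q_uvec (hyp_plus m) _

theorem vstar_ne (hm : 1 ≤ m) : QP m F (vstar m hm F) ≠ 0 := by
  rw [Q_vstar]
  exact one_ne_zero

theorem extV_vstar {F₀ : Type*} [Field F₀] (ι₀ : F₀ →+* F) (hm : 1 ≤ m) :
    extV ι₀ (vstar m hm F₀) = vstar m hm F := by
  unfold vstar uvec
  rw [extV_add, extV_single, extV_single]

/-- the reflection in `e₀ + f₀` as a similarity -/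
noncomputable def estar (hm : 1 ≤ m) : ↥(GO (⇑(QP m F))) :=
  incl (⇑(QP m F)) (refl (QP m F) (vstar m hm F) (vstar_ne hm))

/-- the standard graph-field automorphism -/
noncomputable def xstar (hm : 1 ≤ m) (σ : F ≃+* F) : MulAut (Cfsg.POmega F ⇑(QP m F)) :=
  Phi (⇑(QP m F)) (estar hm) * PhiS 1 σ (pair_std (galInv_QP m) σ)

theorem refl_mem_commSub_of_eq {F₀ : Type*} [Field F₀] [Fintype F₀]
    {ι : Type} [Fintype ι] [DecidableEq ι]
    {Q : QuadraticForm F (ι → F)} {Q₀ : QuadraticForm F₀ (ι → F₀)}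
    {ι₀ : F₀ →+* F} {σ : F ≃+* F} (hQ : (QuadraticMap.polarBilin Q).Nondegenerate)
    (hn : 7 ≤ Fintype.card ι) (hι : ∀ a, σ a = a ↔ a ∈ Set.range ι₀)
    (hcompat : ∀ v, Q (extV ι₀ v) = ι₀ (Q₀ v))
    (hstd : Cfsg.IsSemisimilarityPair (⇑Q) (1 : GL ι F) σ) (v : ι → F) (hv : Q v ≠ 0)
    (u₀ : ι → F₀) (hu : extV ι₀ u₀ = v) :
    incl (⇑Q) (refl Q v hv) ∈ commSub (Phi (⇑Q)) (PhiS 1 σ hstd) := by
  subst hu
  exact refl_extV_mem_commSub hQ hn hι hcompat hstd u₀ hv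

theorem std_comm (σ τ : F ≃+* F) :
    PhiS 1 σ (pair_std (galInv_QP (F := F) m) σ) * PhiS 1 τ (pair_std (galInv_QP m) τ) =
      PhiS 1 τ (pair_std (galInv_QP m) τ) * PhiS 1 σ (pair_std (galInv_QP m) σ) := by
  rw [← stdField_apply (galInv_QP m) σ, ← stdField_apply (galInv_QP m) τ, ← map_mul, ← map_mul,
    ringAut_comm]

theorem estar_comm_std (hm : 4 ≤ m) (τ : F ≃+* F) :
    Phi (⇑(QP m F)) (estar (by omega)) * PhiS 1 τ (pair_std (galInv_QP m) τ) =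
      PhiS 1 τ (pair_std (galInv_QP m) τ) * Phi (⇑(QP m F)) (estar (by omega)) := by
  have hQ := QP_nondeg (F := F) m
  have hn : 7 ≤ Fintype.card (Fin m ⊕ Fin m) := by rw [card_plus]; omega
  haveI : Fintype ↥(fixF τ) := Fintype.ofFinite _
  exact mem_commSub.1 (refl_mem_commSub_of_eq hQ hn (fixF_range τ) (QP_extV (fixF τ).subtype m)
    _ _ _ (vstar m (by omega) ↥(fixF τ)) (extV_vstar _ _))

theorem std_comm_xstar (hm : 4 ≤ m) (σ τ : F ≃+* F) :
    PhiS 1 τ (pair_std (galInv_QP m) τ) * xstar (by omega) σ =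
      xstar (by omega) σ * PhiS 1 τ (pair_std (galInv_QP (F := F) m) τ) := by
  unfold xstar
  rw [← mul_assoc, ← estar_comm_std hm τ, mul_assoc, std_comm τ σ, mul_assoc]

theorem estar_sq (hm : 1 ≤ m) :
    Phi (⇑(QP m F)) (estar hm) * Phi (⇑(QP m F)) (estar hm) = 1 := by
  unfold estar
  rw [← map_mul, ← map_mul, refl_mul_self, map_one, map_one]

theorem estar_comm_xstar (hm : 4 ≤ m) (σ : F ≃+* F) :
    Phi (⇑(QP m F)) (estar (by omega)) * xstar (by omega) σ =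
      xstar (by omega) σ * Phi (⇑(QP m F)) (estar (by omega)) := by
  unfold xstar
  rw [mul_assoc, estar_comm_std hm σ]

/-- a semisimilarity of a Galois invariant form is a similarity -/
theorem GO_of_pair_galInv {ι : Type} [Fintype ι] [DecidableEq ι] {Q : (ι → F) → F}
    (hinv : GalInv Q) {g : GL ι F} {τ : F ≃+* F} (h : Cfsg.IsSemisimilarityPair Q g τ) :
    g ∈ GO Q := by
  obtain ⟨c, hc⟩ := h
  refine ⟨c, fun u => ?_⟩
  have h1 := hc (fun i => τ.symm (u i))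
  have h2 : (fun i => τ ((fun i => τ.symm (u i)) i)) = u := by
    funext i
    exact τ.apply_symm_apply (u i)
  rw [h2, hinv τ.symm u] at h1
  rw [h1, τ.apply_symm_apply]

/-- every automorphism is the product of the automorphism of a similarity and a standard field
automorphism -/
theorem aut_decomp (hm : 5 ≤ m) (β : MulAut (Cfsg.POmega F ⇑(QP m F))) :
    ∃ (g : ↥(GO (⇑(QP m F)))) (τ : F ≃+* F),
      β = Phi (⇑(QP m F)) g * PhiS 1 τ (pair_std (galInv_QP m) τ) := by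
  obtain ⟨p, hchar⟩ := CharP.exists F
  haveI : Fact p.Prime := ⟨CharP.char_is_prime F p⟩
  have hQ := QP_nondeg (F := F) m
  have hn : 7 ≤ Fintype.card (Fin m ⊕ Fin m) := by rw [card_plus]; omega
  obtain ⟨τ, g, h, rfl⟩ := exists_pair p hQ hn (lag_plus hm) β
  have hg : g ∈ GO (⇑(QP m F)) := GO_of_pair_galInv (galInv_QP m) h
  refine ⟨⟨g, hg⟩, τ, ?_⟩
  rw [Phi_mul_PhiS ⟨g, hg⟩ (pair_std (galInv_QP m) τ)
    (pair_GO_mul ⟨g, hg⟩ (pair_std (galInv_QP m) τ))]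
  exact PhiS_congr (mul_one g).symm rfl _ _

/-- conjugates of the standard graph-field automorphism under the automorphism group are
conjugates under the inner-diagonal group -/
theorem conj_xstar (hm : 5 ≤ m) (σ : F ≃+* F) (β : MulAut (Cfsg.POmega F ⇑(QP m F))) :
    Cfsg.IsConjUnder (inndiagQ (⇑(QP m F))) (xstar (by omega) σ)
      (β * xstar (by omega) σ * β⁻¹) := by
  obtain ⟨hI, hIle, hmul, hrefl⟩ := inndiagQ_plus_props (F := F) hm
  obtain ⟨g, τ, rfl⟩ := aut_decomp hm β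
  have hmemP : ∀ h : ↥(GO (⇑(QP m F))), Phi (⇑(QP m F)) h ∈ Cfsg.pgoAut F ⇑(QP m F) := by
    intro h
    rw [pgoAut_eq]
    exact ⟨h, rfl⟩
  have h1 : Phi (⇑(QP m F)) g * PhiS 1 τ (pair_std (galInv_QP m) τ) * xstar (by omega) σ *
      (Phi (⇑(QP m F)) g * PhiS 1 τ (pair_std (galInv_QP m) τ))⁻¹ =
      Phi (⇑(QP m F)) g * xstar (by omega) σ * (Phi (⇑(QP m F)) g)⁻¹ := by
    rw [_root_.mul_inv_rev, mul_assoc (Phi (⇑(QP m F)) g), std_comm_xstar (by omega) σ τ]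
    group
  rw [h1]
  exact conjUnder_of_index_two (Cfsg.pgoAut F ⇑(QP m F)) (inndiagQ (⇑(QP m F))) _ _
    (Phi (⇑(QP m F)) g) (Phi (⇑(QP m F)) (estar (by omega))) (hmemP g) rfl (hmemP _)
    (hrefl _ _) (estar_comm_xstar (by omega) σ) hmul

/-- the class of graph-field automorphisms, for the form `QP m F` -/
def IsGraphFieldQP (m : ℕ) (y : MulAut (Cfsg.POmega F ⇑(QP m F))) : Prop :=
  ∃ (α γ φ : MulAut (Cfsg.POmega F ⇑(QP m F))) (σ : F ≃+* F) (v : Fin m ⊕ Fin m → F)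
    (rr : GL (Fin m ⊕ Fin m) F),
    σ ≠ RingEquiv.refl F ∧ QP m F v ≠ 0 ∧ (∀ i, σ (v i) = v i) ∧
    (rr : Matrix (Fin m ⊕ Fin m) (Fin m ⊕ Fin m) F) = Cfsg.reflectionMatrix (⇑(QP m F)) v ∧
    Cfsg.IsInducedBySemilinearPOmega (⇑(QP m F)) rr (RingEquiv.refl F) γ ∧
    Cfsg.IsFieldAutPOmegaOf (⇑(QP m F)) σ φ ∧ α * y * α⁻¹ = γ * φ

/-- the standard form of a graph-field automorphism -/
theorem graphfield_std_form (y : MulAut (Cfsg.POmega F ⇑(QP m F))) (hy : IsGraphFieldQP m y) :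
    ∃ (α : MulAut (Cfsg.POmega F ⇑(QP m F))) (σ : F ≃+* F) (v : Fin m ⊕ Fin m → F)
      (hv : QP m F v ≠ 0), σ ≠ 1 ∧ (∀ i, σ (v i) = v i) ∧
      α * y * α⁻¹ = Phi (⇑(QP m F)) (incl (⇑(QP m F)) (refl (QP m F) v hv)) *
        PhiS 1 σ (pair_std (galInv_QP m) σ) := by
  obtain ⟨α, γ, φ, σ, v, rr, hσ1, hv, hfix, hrr, hγ, hφ, hαy⟩ := hy
  have hstd := pair_std (galInv_QP (F := F) m) σ
  have hφ' : φ = PhiS 1 σ hstd := (isFieldAut_iff' hstd φ).1 hφ
  have hrr' : rr = ((refl (QP m F) v hv : ↥(Cfsg.isometryGroup F ⇑(QP m F))) :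
      GL (Fin m ⊕ Fin m) F) := Units.ext (hrr.trans (refl_coe (QP m F) v hv).symm)
  subst hrr'
  have hγ' : γ = Phi (⇑(QP m F)) (incl (⇑(QP m F)) (refl (QP m F) v hv)) := by
    have h1 := (induced_iff _ (1 : F ≃+* F)
      (pair_of_GO (incl (⇑(QP m F)) (refl (QP m F) v hv))) γ).1 hγ
    rw [h1]
    exact PhiS_one_eq (incl (⇑(QP m F)) (refl (QP m F) v hv)) _
  exact ⟨α, σ, v, hv, hσ1, hfix, by rw [hαy, hγ', hφ']⟩

theorem refl_comm_std (hm : 4 ≤ m) (σ : F ≃+* F) (v : Fin m ⊕ Fin m → F) (hv : QP m F v ≠ 0)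
    (hfix : ∀ i, σ (v i) = v i) :
    Phi (⇑(QP m F)) (incl (⇑(QP m F)) (refl (QP m F) v hv)) *
        PhiS 1 σ (pair_std (galInv_QP m) σ) =
      PhiS 1 σ (pair_std (galInv_QP m) σ) *
        Phi (⇑(QP m F)) (incl (⇑(QP m F)) (refl (QP m F) v hv)) := by
  have hQ := QP_nondeg (F := F) m
  have hn : 7 ≤ Fintype.card (Fin m ⊕ Fin m) := by rw [card_plus]; omega
  haveI : Fintype ↥(fixF σ) := Fintype.ofFinite _
  exact mem_commSub.1 (refl_mem_commSub_of_eq hQ hn (fixF_range σ) (QP_extV (fixF σ).subtype m)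
    _ v hv (fun i => ⟨v i, hfix i⟩) rfl)

theorem refl_sq (v : Fin m ⊕ Fin m → F) (hv : QP m F v ≠ 0) :
    Phi (⇑(QP m F)) (incl (⇑(QP m F)) (refl (QP m F) v hv)) *
      Phi (⇑(QP m F)) (incl (⇑(QP m F)) (refl (QP m F) v hv)) = 1 := by
  rw [← map_mul, ← map_mul, refl_mul_self, map_one, map_one]

theorem std_sq (σ : F ≃+* F) (hσ : σ * σ = 1) :
    PhiS 1 σ (pair_std (galInv_QP (F := F) m) σ) * PhiS 1 σ (pair_std (galInv_QP m) σ) = 1 := by
  rw [← stdField_apply (galInv_QP m) σ, ← map_mul, hσ, map_one]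

/-- the square of a graph-field automorphism in standard form -/
theorem refl_std_sq (hm : 4 ≤ m) (σ : F ≃+* F) (hσ : σ * σ = 1) (v : Fin m ⊕ Fin m → F)
    (hv : QP m F v ≠ 0) (hfix : ∀ i, σ (v i) = v i) :
    (Phi (⇑(QP m F)) (incl (⇑(QP m F)) (refl (QP m F) v hv)) *
        PhiS 1 σ (pair_std (galInv_QP m) σ)) ^ 2 = 1 := by
  rw [pow_two]
  calc Phi (⇑(QP m F)) (incl (⇑(QP m F)) (refl (QP m F) v hv)) *
        PhiS 1 σ (pair_std (galInv_QP m) σ) *
      (Phi (⇑(QP m F)) (incl (⇑(QP m F)) (refl (QP m F) v hv)) *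
        PhiS 1 σ (pair_std (galInv_QP m) σ))
      = Phi (⇑(QP m F)) (incl (⇑(QP m F)) (refl (QP m F) v hv)) *
        (PhiS 1 σ (pair_std (galInv_QP m) σ) *
          Phi (⇑(QP m F)) (incl (⇑(QP m F)) (refl (QP m F) v hv))) *
        PhiS 1 σ (pair_std (galInv_QP m) σ) := by group
    _ = (Phi (⇑(QP m F)) (incl (⇑(QP m F)) (refl (QP m F) v hv)) *
        Phi (⇑(QP m F)) (incl (⇑(QP m F)) (refl (QP m F) v hv))) *
        (PhiS 1 σ (pair_std (galInv_QP m) σ) * PhiS 1 σ (pair_std (galInv_QP m) σ)) := by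
      rw [← refl_comm_std hm σ v hv hfix]
      group
    _ = 1 := by rw [refl_sq, std_sq σ hσ, one_mul]

/-- the order of the field automorphism of an involutory graph-field automorphism in standard
form -/
theorem sigma_sq_of_std (hm : 5 ≤ m) (σ : F ≃+* F) (e : ↥(GO (⇑(QP m F))))
    (h : (Phi (⇑(QP m F)) e * PhiS 1 σ (pair_std (galInv_QP m) σ)) ^ 2 = 1) : σ * σ = 1 := by
  obtain ⟨p, hchar⟩ := CharP.exists F
  haveI : Fact p.Prime := ⟨CharP.char_is_prime F p⟩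
  have hQ := QP_nondeg (F := F) m
  have hn : 7 ≤ Fintype.card (Fin m ⊕ Fin m) := by rw [card_plus]; omega
  have h1 := congrArg (Theta p hQ hn (lag_plus hm)) h
  rw [map_pow, map_mul, map_one, Theta_PhiS, ← PhiS_one_eq e (pair_of_GO e), Theta_PhiS, one_mul,
    pow_two] at h1
  exact h1

/-- a graph-field automorphism in standard form is conjugate to the standard one under the
inner-diagonal group -/
theorem refl_std_conj_xstar (hm : 5 ≤ m) (σ : F ≃+* F) (hσ1 : σ ≠ 1) (hσ : σ * σ = 1)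
    (v : Fin m ⊕ Fin m → F) (hv : QP m F v ≠ 0) (hfix : ∀ i, σ (v i) = v i) :
    Cfsg.IsConjUnder (inndiagQ (⇑(QP m F)))
      (Phi (⇑(QP m F)) (incl (⇑(QP m F)) (refl (QP m F) v hv)) *
        PhiS 1 σ (pair_std (galInv_QP m) σ)) (xstar (by omega) σ) := by
  obtain ⟨hI, hIle, hmul, hrefl⟩ := inndiagQ_plus_props (F := F) hm
  haveI := hI
  have hstd := pair_std (galInv_QP (F := F) m) σ
  have hmemP : ∀ h : ↥(GO (⇑(QP m F))), Phi (⇑(QP m F)) h ∈ Cfsg.pgoAut F ⇑(QP m F) := by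
    intro h
    rw [pgoAut_eq]
    exact ⟨h, rfl⟩
  have hσ2 : orderOf σ = 2 := by
    apply orderOf_eq_prime
    · rw [pow_two]; exact hσ
    · exact hσ1
  obtain ⟨e, he⟩ : ∃ e : ↥(GO (⇑(QP m F))), e = incl (⇑(QP m F)) (refl (QP m F) v hv) :=
    ⟨_, rfl⟩
  rw [← he]
  have hpair := pair_GO_mul e hstd
  have hx₀ : Phi (⇑(QP m F)) e * PhiS 1 σ hstd = PhiS ((e : GL (Fin m ⊕ Fin m) F) * 1) σ hpair :=
    Phi_mul_PhiS e hstd hpair
  have hx₀2 : (PhiS ((e : GL (Fin m ⊕ Fin m) F) * 1) σ hpair) ^ 2 = 1 := by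
    rw [← hx₀, he]
    exact refl_std_sq (by omega) σ hσ v hv hfix
  have hcx : Phi (⇑(QP m F)) e * PhiS ((e : GL (Fin m ⊕ Fin m) F) * 1) σ hpair =
      PhiS ((e : GL (Fin m ⊕ Fin m) F) * 1) σ hpair * Phi (⇑(QP m F)) e := by
    rw [← hx₀, mul_assoc]
    congr 1
    rw [he]
    exact refl_comm_std (by omega) σ v hv hfix
  have heI : Phi (⇑(QP m F)) e ∉ inndiagQ (⇑(QP m F)) := by rw [he]; exact hrefl v hv
  have he2 : Phi (⇑(QP m F)) e * Phi (⇑(QP m F)) e = 1 := by rw [he]; exact refl_sq v hv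
  have heinv : (Phi (⇑(QP m F)) e)⁻¹ = Phi (⇑(QP m F)) e := inv_eq_of_mul_eq_one_left he2
  -- the element `d`
  have hdI : Phi (⇑(QP m F)) (estar (by omega) * e⁻¹) ∈ inndiagQ (⇑(QP m F)) := by
    rw [map_mul, map_inv, heinv]
    exact hmul _ _ (hmemP _) (hmemP _) (hrefl _ _) heI
  have hdx : Phi (⇑(QP m F)) (estar (by omega) * e⁻¹) * PhiS ((e : GL (Fin m ⊕ Fin m) F) * 1) σ hpair =
      xstar (by omega) σ := by
    rw [← hx₀, map_mul, map_inv]
    unfold xstar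
    group
  have hpow : (Phi (⇑(QP m F)) (estar (by omega) * e⁻¹) *
      PhiS ((e : GL (Fin m ⊕ Fin m) F) * 1) σ hpair) ^ 2 = 1 := by
    rw [hdx]
    unfold xstar estar
    exact refl_std_sq (by omega) σ hσ _ _ (fun i => by
      have := congrFun (extV_vstar (fixF σ).subtype (by omega : 1 ≤ m)) i
      rw [← this]
      exact (fixF_range σ _).2 ⟨_, rfl⟩)
  have := plus_coset_conj hm σ 2 Nat.prime_two hσ2 (inndiagQ (⇑(QP m F))) hmul e heI he2 _ hpair
    hx₀2 hcx (estar (by omega) * e⁻¹) hdI hpow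
  rw [hdx, ← hx₀] at this
  exact this

/-- any two involutory graph-field automorphisms are conjugate under the inner-diagonal group -/
theorem graphfield_involutions_conj (hm : 5 ≤ m) (x y : MulAut (Cfsg.POmega F ⇑(QP m F)))
    (hx : IsGraphFieldQP m x) (hy : IsGraphFieldQP m y) (hx2 : orderOf x = 2)
    (hy2 : orderOf y = 2) : Cfsg.IsConjUnder (inndiagQ (⇑(QP m F))) x y := by
  have key : ∀ z : MulAut (Cfsg.POmega F ⇑(QP m F)), IsGraphFieldQP m z → orderOf z = 2 →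
      ∃ σ : F ≃+* F, orderOf σ = 2 ∧
        Cfsg.IsConjUnder (inndiagQ (⇑(QP m F))) (xstar (by omega) σ) z := by
    intro z hz hz2
    obtain ⟨α, σ, v, hv, hσ1, hfix, hαz⟩ := graphfield_std_form z hz
    have hzz : z ^ 2 = 1 := by rw [← hz2]; exact pow_orderOf_eq_one z
    have hsq : (Phi (⇑(QP m F)) (incl (⇑(QP m F)) (refl (QP m F) v hv)) *
        PhiS 1 σ (pair_std (galInv_QP m) σ)) ^ 2 = 1 := by
      rw [← hαz, conj_pow, hzz, mul_one, mul_inv_cancel]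
    have hσ := sigma_sq_of_std hm σ _ hsq
    have hσ2 : orderOf σ = 2 := by
      apply orderOf_eq_prime
      · rw [pow_two]; exact hσ
      · exact hσ1
    refine ⟨σ, hσ2, ?_⟩
    obtain ⟨k, hk, hk'⟩ := refl_std_conj_xstar hm σ hσ1 hσ v hv hfix
    have hz' : z = (α⁻¹ * k⁻¹) * xstar (by omega) σ * (α⁻¹ * k⁻¹)⁻¹ := by
      rw [hk', ← hαz]
      group
    rw [hz']
    exact conj_xstar hm σ _
  obtain ⟨σ, hσ2, hσx⟩ := key x hx hx2
  obtain ⟨τ, hτ2, hτy⟩ := key y hy hy2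
  have hστ := ringAut_order_two_unique σ τ hσ2 hτ2
  subst hστ
  exact isConjUnder_trans _ (isConjUnder_symm _ hσx) hτy

end Std

end Cfsg.Agent.Lib.Helper5.OFld
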