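import Mathlib
import Cfsg.Agent.Lib.Helper5.OFld44

set_option autoImplicit false

/-! Transport of `PΩ`, its automorphisms induced by similarities, and the inner-diagonal group
along an isomorphism of general linear groups compatible with two forms; the case of
reindexing the coordinates. -/

namespace Cfsg.Agent.Lib.Helper5.OFld

open Matrix Module Cfsg.Agent.Lib.Helper5.PGO

section Transport
variable {K : Type*} [Field K] {ι ι' : Type} [Fintype ι] [DecidableEq ι] [Fintype ι']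
  [DecidableEq ι']
variable {Q : (ι → K) → K} {Q' : (ι' → K) → K}

/-- the isomorphism of isometry groups induced by a compatible isomorphism of general linear
groups -/
def trIso (ρ : GL ι' K ≃* GL ι K)
    (h : ∀ g, g ∈ Cfsg.isometryGroup K Q' ↔ ρ g ∈ Cfsg.isometryGroup K Q) :
    ↥(Cfsg.isometryGroup K Q') ≃* ↥(Cfsg.isometryGroup K Q) where
  toFun g := ⟨ρ g, (h g).1 g.2⟩
  invFun g := ⟨ρ.symm g, (h _).2 (by rw [ρ.apply_symm_apply]; exact g.2)⟩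
  left_inv g := Subtype.ext (ρ.symm_apply_apply _)
  right_inv g := Subtype.ext (ρ.apply_symm_apply _)
  map_mul' a b := Subtype.ext (map_mul ρ _ _)

@[simp] theorem trIso_coe (ρ : GL ι' K ≃* GL ι K)
    (h : ∀ g, g ∈ Cfsg.isometryGroup K Q' ↔ ρ g ∈ Cfsg.isometryGroup K Q)
    (g : ↥(Cfsg.isometryGroup K Q')) :
    ((trIso ρ h g : ↥(Cfsg.isometryGroup K Q)) : GL ι K) = ρ g := rfl

/-- the isomorphism of similarity groups induced by a compatible isomorphism of general linear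
groups -/
def trGO (ρ : GL ι' K ≃* GL ι K) (h : ∀ g, g ∈ GO Q' ↔ ρ g ∈ GO Q) : ↥(GO Q') ≃* ↥(GO Q) where
  toFun g := ⟨ρ g, (h g).1 g.2⟩
  invFun g := ⟨ρ.symm g, (h _).2 (by rw [ρ.apply_symm_apply]; exact g.2)⟩
  left_inv g := Subtype.ext (ρ.symm_apply_apply _)
  right_inv g := Subtype.ext (ρ.apply_symm_apply _)
  map_mul' a b := Subtype.ext (map_mul ρ _ _)

@[simp] theorem trGO_coe (ρ : GL ι' K ≃* GL ι K) (h : ∀ g, g ∈ GO Q' ↔ ρ g ∈ GO Q)
    (g : ↥(GO Q')) : ((trGO ρ h g : ↥(GO Q)) : GL ι K) = ρ g := rfl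

/-- the induced isomorphism of the projective groups -/
noncomputable def trPsi (ρ : GL ι' K ≃* GL ι K)
    (h : ∀ g, g ∈ Cfsg.isometryGroup K Q' ↔ ρ g ∈ Cfsg.isometryGroup K Q) :
    Cfsg.POmega K Q' ≃* Cfsg.POmega K Q := pEquiv (trIso ρ h)

theorem trPsi_Phi (ρ : GL ι' K ≃* GL ι K)
    (h : ∀ g, g ∈ Cfsg.isometryGroup K Q' ↔ ρ g ∈ Cfsg.isometryGroup K Q)
    (hG : ∀ g, g ∈ GO Q' ↔ ρ g ∈ GO Q) (g : ↥(GO Q')) (z : Cfsg.POmega K Q') :
    trPsi ρ h (Phi Q' g z) = Phi Q (trGO ρ hG g) (trPsi ρ h z) := by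
  induction z using QuotientGroup.induction_on with
  | H s =>
    rw [Phi_mk]
    unfold trPsi
    rw [pEquiv_mk, pEquiv_mk, Phi_mk]
    congr 1
    apply Subtype.ext
    apply Subtype.ext
    show ρ ((g : GL ι' K) * ((s : ↥(Cfsg.isometryGroup K Q')) : GL ι' K) * (g : GL ι' K)⁻¹) =
      ρ (g : GL ι' K) * ρ ((s : ↥(Cfsg.isometryGroup K Q')) : GL ι' K) * (ρ (g : GL ι' K))⁻¹
    rw [map_mul, map_mul, map_inv]

theorem congr_trPsi_Phi (ρ : GL ι' K ≃* GL ι K)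
    (h : ∀ g, g ∈ Cfsg.isometryGroup K Q' ↔ ρ g ∈ Cfsg.isometryGroup K Q)
    (hG : ∀ g, g ∈ GO Q' ↔ ρ g ∈ GO Q) (g : ↥(GO Q')) :
    MulAut.congr (trPsi ρ h) (Phi Q' g) = Phi Q (trGO ρ hG g) := by
  apply MulEquiv.ext
  intro y
  obtain ⟨z, rfl⟩ := (trPsi ρ h).surjective y
  show trPsi ρ h (Phi Q' g ((trPsi ρ h).symm (trPsi ρ h z))) = _
  rw [MulEquiv.symm_apply_apply, trPsi_Phi ρ h hG]

end Transport

section TransportIdg
variable {K : Type*} [Field K] [Fintype K] [DecidableEq K]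
variable {ι ι' : Type} [Fintype ι] [DecidableEq ι] [Fintype ι'] [DecidableEq ι']
variable {Q : QuadraticForm K (ι → K)} {Q' : QuadraticForm K (ι' → K)}

/-- transport of the inner-diagonal group -/
theorem congr_trPsi_idg (ρ : GL ι' K ≃* GL ι K)
    (h : ∀ g, g ∈ Cfsg.isometryGroup K (⇑Q') ↔ ρ g ∈ Cfsg.isometryGroup K (⇑Q))
    (hG : ∀ g, g ∈ GO (⇑Q') ↔ ρ g ∈ GO (⇑Q)) (hQ0 : ∃ v, Q v ≠ 0) (hQ0' : ∃ v, Q' v ≠ 0)
    (n : ℕ) (heps : ∀ g : ↥(GO (⇑Q')), epsHom Q hQ0 n (trGO ρ hG g) = epsHom Q' hQ0' n g) :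
    (idg Q' hQ0' n).map (MulAut.congr (trPsi ρ h)).toMonoidHom = idg Q hQ0 n := by
  ext β
  constructor
  · rintro ⟨_, ⟨g, hg, rfl⟩, rfl⟩
    refine ⟨trGO ρ hG g, ?_, (congr_trPsi_Phi ρ h hG g).symm⟩
    show epsHom Q hQ0 n (trGO ρ hG g) = 1
    rw [heps]
    exact hg
  · rintro ⟨g, hg, rfl⟩
    refine ⟨Phi (⇑Q') ((trGO ρ hG).symm g), ⟨(trGO ρ hG).symm g, ?_, rfl⟩, ?_⟩
    · show epsHom Q' hQ0' n ((trGO ρ hG).symm g) = 1
      rw [← heps, MulEquiv.apply_symm_apply]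
      exact hg
    · show MulAut.congr (trPsi ρ h) (Phi (⇑Q') ((trGO ρ hG).symm g)) = _
      rw [congr_trPsi_Phi ρ h hG, MulEquiv.apply_symm_apply]

end TransportIdg

section Reindex
variable {K : Type*} [Field K] {ι ι' : Type} [Fintype ι] [DecidableEq ι] [Fintype ι']
  [DecidableEq ι']

/-- reindexing the coordinates of the general linear group -/
def reGL (e : ι' ≃ ι) : GL ι' K ≃* GL ι K :=
  Units.mapEquiv (Matrix.reindexAlgEquiv K K e).toMulEquiv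

theorem reGL_coe (e : ι' ≃ ι) (g : GL ι' K) :
    ((reGL e g : GL ι K) : Matrix ι ι K) = Matrix.reindex e e (g : Matrix ι' ι' K) := rfl

theorem reGL_mulVec (e : ι' ≃ ι) (g : GL ι' K) (v : ι → K) :
    ((reGL e g : GL ι K) : Matrix ι ι K) *ᵥ v =
      fun i => ((g : Matrix ι' ι' K) *ᵥ (fun j => v (e j))) (e.symm i) := by
  rw [reGL_coe, Matrix.reindex_apply, Matrix.submatrix_mulVec_equiv]
  rfl

/-- the form with reindexed coordinates -/
def reidxQ (e : ι' ≃ ι) (Q' : QuadraticForm K (ι' → K)) : QuadraticForm K (ι → K) :=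
  Q'.comp (LinearEquiv.funCongrLeft K K e).toLinearMap

theorem reidxQ_apply (e : ι' ≃ ι) (Q' : QuadraticForm K (ι' → K)) (v : ι → K) :
    reidxQ e Q' v = Q' (fun j => v (e j)) := rfl

theorem reidxQ_reGL (e : ι' ≃ ι) (Q' : QuadraticForm K (ι' → K)) (g : GL ι' K) (v : ι → K) :
    reidxQ e Q' (((reGL e g : GL ι K) : Matrix ι ι K) *ᵥ v) =
      Q' ((g : Matrix ι' ι' K) *ᵥ (fun j => v (e j))) := by
  rw [reidxQ_apply, reGL_mulVec]
  congr 1
  funext j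
  show ((g : Matrix ι' ι' K) *ᵥ _) (e.symm (e j)) = _
  rw [e.symm_apply_apply]

theorem sim_reGL_iff (e : ι' ≃ ι) (Q' : QuadraticForm K (ι' → K)) (g : GL ι' K) (c : K) :
    (∀ v, reidxQ e Q' (((reGL e g : GL ι K) : Matrix ι ι K) *ᵥ v) = c * reidxQ e Q' v) ↔
      ∀ w, Q' ((g : Matrix ι' ι' K) *ᵥ w) = c * Q' w := by
  constructor
  · intro h w
    have h1 := h (fun i => w (e.symm i))
    rw [reidxQ_reGL, reidxQ_apply] at h1
    have h2 : (fun j => (fun i => w (e.symm i)) (e j)) = w := by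
      funext j
      show w (e.symm (e j)) = w j
      rw [e.symm_apply_apply]
    rw [h2] at h1
    exact h1
  · intro h v
    rw [reidxQ_reGL, reidxQ_apply]
    exact h _

theorem mem_iso_reGL_iff (e : ι' ≃ ι) (Q' : QuadraticForm K (ι' → K)) (g : GL ι' K) :
    g ∈ Cfsg.isometryGroup K (⇑Q') ↔ reGL e g ∈ Cfsg.isometryGroup K (⇑(reidxQ e Q')) := by
  rw [mem_iso_iff, mem_iso_iff]
  have := sim_reGL_iff e Q' g 1
  simp only [one_mul] at this
  exact this.symm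

theorem mem_GO_reGL_iff (e : ι' ≃ ι) (Q' : QuadraticForm K (ι' → K)) (g : GL ι' K) :
    g ∈ GO (⇑Q') ↔ reGL e g ∈ GO (⇑(reidxQ e Q')) := by
  constructor
  · rintro ⟨c, hc⟩
    exact ⟨c, (sim_reGL_iff e Q' g c).2 hc⟩
  · rintro ⟨c, hc⟩
    exact ⟨c, (sim_reGL_iff e Q' g c).1 hc⟩

theorem reidxQ_ne_zero (e : ι' ≃ ι) (Q' : QuadraticForm K (ι' → K)) (h : ∃ v, Q' v ≠ 0) :
    ∃ v, reidxQ e Q' v ≠ 0 := by
  obtain ⟨w, hw⟩ := h
  refine ⟨fun i => w (e.symm i), ?_⟩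
  rw [reidxQ_apply]
  have h2 : (fun j => (fun i => w (e.symm i)) (e j)) = w := by
    funext j
    show w (e.symm (e j)) = w j
    rw [e.symm_apply_apply]
  rw [h2]
  exact hw

theorem mu_reGL (e : ι' ≃ ι) (Q' : QuadraticForm K (ι' → K)) (hQ0' : ∃ v, Q' v ≠ 0)
    (g : ↥(GO (⇑Q'))) :
    mu (⇑(reidxQ e Q')) (trGO (reGL e) (mem_GO_reGL_iff e Q') g) = mu (⇑Q') g := by
  apply Units.ext
  apply mu_unique (reidxQ_ne_zero e Q' hQ0')
  exact (sim_reGL_iff e Q' (g : GL ι' K) _).2 (mu_spec (⇑Q') g)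

theorem det_reGL (e : ι' ≃ ι) (Q' : QuadraticForm K (ι' → K)) (g : ↥(GO (⇑Q'))) :
    detGO (⇑(reidxQ e Q')) (trGO (reGL e) (mem_GO_reGL_iff e Q') g) = detGO (⇑Q') g := by
  apply Units.ext
  rw [detGO_coe, detGO_coe, trGO_coe, reGL_coe, Matrix.det_reindex_self]

theorem epsHom_reGL [Fintype K] [DecidableEq K] (e : ι' ≃ ι) (Q' : QuadraticForm K (ι' → K))
    (hQ0' : ∃ v, Q' v ≠ 0) (n : ℕ) (g : ↥(GO (⇑Q'))) :
    epsHom (reidxQ e Q') (reidxQ_ne_zero e Q' hQ0') n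
      (trGO (reGL e) (mem_GO_reGL_iff e Q') g) = epsHom Q' hQ0' n g := by
  rw [epsHom_apply, epsHom_apply, mu_reGL e Q' hQ0', det_reGL]

end Reindex

end Cfsg.Agent.Lib.Helper5.OFld
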