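import Mathlib
import Cfsg.Agent.Lib.Helper5.OFld45

set_option autoImplicit false

/-! Transport of the automorphisms induced by semilinear similarities along an isometry of
forms, and the twisted model of the standard involutory graph-field automorphism of the plus
type orthogonal groups. -/

namespace Cfsg.Agent.Lib.Helper5.OFld

open Matrix Module Cfsg.Agent.Lib.Helper5.PGO Cfsg.Agent.Lib.Helper5.OAut
open Cfsg.Agent.Lib.Helper5.PSLCoset Cfsg.Agent.Lib.Helper5.SplitConj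
open Cfsg.Agent.Lib.Helper2 Cfsg.Agent.Lib.Helper2.CDG Cfsg.Agent.Lib.Helper2.OrthCard
open Cfsg.Agent.Lib.Helper5.OrthCls Cfsg.Agent.Lib.Helper5.MaxTS
open Cfsg.Agent.Lib.Helper5.QuadGlue Cfsg.Agent.Lib.Helper2.QuadStd
open Cfsg.Agent.Lib.Helper5.SpinorDiag Cfsg.Agent.Lib.Helper5.PlusLevi
open Cfsg.Agent.Lib.Helper5.PSpField

section SemiTransport
variable {F : Type*} [Field F] {ι : Type} [Fintype ι] [DecidableEq ι]
variable {Q Q' : (ι → F) → F}

theorem semi_conj_form (t g : GL ι F) (σ : F ≃+* F) (v : ι → F) :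
    semi (t * g * mapGL σ t⁻¹) σ v =
      (t : Matrix ι ι F) *ᵥ semi g σ (((t⁻¹ : GL ι F) : Matrix ι ι F) *ᵥ v) := by
  unfold semi
  rw [Units.val_mul, Units.val_mul, ← Matrix.mulVec_mulVec, ← Matrix.mulVec_mulVec, mapGL_coe,
    map_mulVec]

/-- conjugating a semilinear similarity of `Q'` by an isometry from `Q'` to `Q` -/
theorem pair_conj_form (t : GL ι F) (ht : ∀ v, Q ((t : Matrix ι ι F) *ᵥ v) = Q' v)
    {g : GL ι F} {σ : F ≃+* F} (hg : Cfsg.IsSemisimilarityPair Q' g σ) :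
    Cfsg.IsSemisimilarityPair Q (t * g * mapGL σ t⁻¹) σ := by
  obtain ⟨c, hc⟩ := (pair_iff Q' g σ).1 hg
  refine (pair_iff Q _ _).2 ⟨c, fun v => ?_⟩
  rw [semi_conj_form, ht, hc, form_inv t ht]

/-- transport of the automorphisms induced by semilinear similarities -/
theorem psiT_PhiS (t : GL ι F) (ht : ∀ v, Q ((t : Matrix ι ι F) *ᵥ v) = Q' v)
    {g : GL ι F} {σ : F ≃+* F} (hg : Cfsg.IsSemisimilarityPair Q' g σ)
    (h' : Cfsg.IsSemisimilarityPair Q (t * g * mapGL σ t⁻¹) σ) (z : Cfsg.POmega F Q') :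
    psiT t ht (PhiS g σ hg z) = PhiS (t * g * mapGL σ t⁻¹) σ h' (psiT t ht z) := by
  induction z using QuotientGroup.induction_on with
  | H s =>
    rw [PhiS_mk]
    unfold psiT
    rw [pEquiv_mk, pEquiv_mk, PhiS_mk]
    congr 1
    apply Subtype.ext
    apply Subtype.ext
    show t * (g * mapGL σ ((s : ↥(Cfsg.isometryGroup F Q')) : GL ι F) * g⁻¹) * t⁻¹ =
      (t * g * mapGL σ t⁻¹) * mapGL σ (t * ((s : ↥(Cfsg.isometryGroup F Q')) : GL ι F) * t⁻¹) *
        (t * g * mapGL σ t⁻¹)⁻¹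
    rw [map_mul, map_mul, map_inv]
    group

theorem congr_psiT_PhiS (t : GL ι F) (ht : ∀ v, Q ((t : Matrix ι ι F) *ᵥ v) = Q' v)
    {g : GL ι F} {σ : F ≃+* F} (hg : Cfsg.IsSemisimilarityPair Q' g σ)
    (h' : Cfsg.IsSemisimilarityPair Q (t * g * mapGL σ t⁻¹) σ) :
    MulAut.congr (psiT t ht) (PhiS g σ hg) = PhiS (t * g * mapGL σ t⁻¹) σ h' := by
  apply MulEquiv.ext
  intro y
  obtain ⟨z, rfl⟩ := (psiT t ht).surjective y
  show psiT t ht (PhiS g σ hg ((psiT t ht).symm (psiT t ht z))) = _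
  rw [MulEquiv.symm_apply_apply, psiT_PhiS t ht hg h']

end SemiTransport

section Twisted
variable {F : Type*} [Field F] {ι : Type} [Fintype ι] [DecidableEq ι]
variable {Q : QuadraticForm F (ι → F)}

/-- the form `Q ∘ B` -/
noncomputable def twQ (Q : QuadraticForm F (ι → F)) (B : GL ι F) : QuadraticForm F (ι → F) :=
  twForm Q (B : Matrix ι ι F) 1

theorem twQ_apply (B : GL ι F) (v : ι → F) : twQ Q B v = Q ((B : Matrix ι ι F) *ᵥ v) := by
  unfold twQ
  rw [twForm_apply, inv_one, one_mul]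

theorem twQ_nondeg (hQ : (QuadraticMap.polarBilin Q).Nondegenerate) (B : GL ι F) :
    (QuadraticMap.polarBilin (twQ Q B)).Nondegenerate :=
  twForm_nondeg hQ _ B.isUnit 1 one_ne_zero

/-- if `g σ(B) = B` for a semilinear isometry `(g, σ)` then `σ` is a standard semilinear
isometry of `Q ∘ B` -/
theorem twQ_pair_std (B g : GL ι F) (σ : F ≃+* F) (hB : g * mapGL σ B = B)
    (hg : ∀ v, Q (semi g σ v) = σ (Q v)) :
    Cfsg.IsSemisimilarityPair (⇑(twQ Q B)) (1 : GL ι F) σ := by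
  refine ⟨1, fun v => ?_⟩
  rw [Units.val_one, Matrix.one_mulVec, Units.val_one, one_mul, twQ_apply, twQ_apply, ← hg]
  congr 1
  unfold semi
  conv_lhs => rw [← hB]
  rw [Units.val_mul, ← Matrix.mulVec_mulVec, mapGL_coe, map_mulVec]

end Twisted

section Star
variable {F : Type*} [Field F] [Fintype F] {m : ℕ}

/-- the reflection in a vector fixed by a field automorphism is fixed by it -/
theorem mapGL_refl_fixed (σ : F ≃+* F) (v : Fin m ⊕ Fin m → F) (hv : QP m F v ≠ 0)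
    (hfix : ∀ i, σ (v i) = v i) :
    mapGL σ ((refl (QP m F) v hv : ↥(Cfsg.isometryGroup F ⇑(QP m F))) : GL (Fin m ⊕ Fin m) F) =
      ((refl (QP m F) v hv : ↥(Cfsg.isometryGroup F ⇑(QP m F))) : GL (Fin m ⊕ Fin m) F) := by
  haveI : Fintype ↥(fixF σ) := Fintype.ofFinite _
  have hcompat := QP_extV (F := F) (fixF σ).subtype m
  obtain ⟨u₀, hu⟩ : ∃ u₀ : Fin m ⊕ Fin m → ↥(fixF σ), extV (fixF σ).subtype u₀ = v :=
    ⟨fun i => ⟨v i, hfix i⟩, rfl⟩
  subst hu
  have hu₀ : QP m ↥(fixF σ) u₀ ≠ 0 := by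
    intro h
    apply hv
    rw [hcompat, h, map_zero]
  have h1 := embO_refl (fixF σ).subtype hcompat u₀ hu₀ hv
  apply Units.ext
  rw [mapGL_coe, ← h1, embO_coe, map_iota (fixF_range σ)]

/-- the matrix of the reflection in `e₀ + f₀` -/
noncomputable def rstar (hm : 1 ≤ m) : GL (Fin m ⊕ Fin m) F :=
  ((refl (QP m F) (vstar m hm F) (vstar_ne hm) : ↥(Cfsg.isometryGroup F ⇑(QP m F))) :
    GL (Fin m ⊕ Fin m) F)

theorem estar_coe (hm : 1 ≤ m) : ((estar hm : ↥(GO (⇑(QP m F)))) : GL (Fin m ⊕ Fin m) F) =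
    rstar hm := rfl

theorem rstar_fixed (hm : 1 ≤ m) (σ : F ≃+* F) : mapGL σ (rstar (F := F) hm) = rstar hm := by
  unfold rstar
  apply mapGL_refl_fixed
  intro i
  have := congrFun (extV_vstar (F := F) (fixF σ).subtype hm) i
  rw [← this]
  exact (fixF_range σ _).2 ⟨_, rfl⟩

theorem rstar_sq (hm : 1 ≤ m) : rstar (F := F) hm * rstar hm = 1 := by
  unfold rstar
  have := refl_mul_self (Q := QP m F) (vstar m hm F) (vstar_ne hm)
  have h2 := congrArg (fun x : ↥(Cfsg.isometryGroup F ⇑(QP m F)) => (x : GL (Fin m ⊕ Fin m) F)) this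
  exact h2

theorem rstar_pair (hm : 1 ≤ m) (σ : F ≃+* F) :
    Cfsg.IsSemisimilarityPair (⇑(QP m F)) (rstar (F := F) hm) σ := by
  have := pair_GO_mul (estar (F := F) hm) (pair_std (galInv_QP m) σ)
  rw [mul_one] at this
  exact this

theorem xstar_eq (hm : 1 ≤ m) (σ : F ≃+* F) :
    xstar hm σ = PhiS (rstar (F := F) hm) σ (rstar_pair hm σ) := by
  unfold xstar
  rw [Phi_mul_PhiS (estar hm) (pair_std (galInv_QP m) σ)
    (pair_GO_mul (estar hm) (pair_std (galInv_QP m) σ))]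
  exact PhiS_congr (mul_one _) rfl _ _

theorem rstar_semi (hm : 1 ≤ m) (σ : F ≃+* F) (v : Fin m ⊕ Fin m → F) :
    QP m F (semi (rstar (F := F) hm) σ v) = σ (QP m F v) := by
  unfold semi rstar
  have h1 := (refl (QP m F) (vstar m hm F) (vstar_ne hm)).2
  rw [mem_iso_iff] at h1
  rw [h1]
  exact galInv_QP m σ v

/-- Hilbert 90 for the standard graph-field automorphism -/
theorem exists_rstar_model (hm : 1 ≤ m) (σ : F ≃+* F) (hσ : orderOf σ = 2) :
    ∃ B : GL (Fin m ⊕ Fin m) F, rstar hm * mapGL σ B = B := by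
  have h1 : tw σ ((rstar (F := F) hm : GL (Fin m ⊕ Fin m) F) :
      Matrix (Fin m ⊕ Fin m) (Fin m ⊕ Fin m) F) 2 = 1 := by
    rw [tw_succ, tw_succ, tw_zero, Matrix.map_one _ (map_zero σ) (map_one σ), Matrix.mul_one,
      ← mapGL_coe, rstar_fixed, ← Units.val_mul, rstar_sq, Units.val_one]
  obtain ⟨h, hu, hh⟩ := hilbert90_matrix σ _ 2 hσ two_pos h1
  refine ⟨hu.unit, ?_⟩
  apply Units.ext
  rw [Units.val_mul, mapGL_coe]
  exact hh

end Star

end Cfsg.Agent.Lib.Helper5.OFld
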