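import Mathlib
import Cfsg.Agent.Lib.Helper5.OFld46

set_option autoImplicit false

/-! The twisted model of the standard involutory graph-field automorphism of the plus type
orthogonal groups descends to a form of minus type over the fixed field. -/

namespace Cfsg.Agent.Lib.Helper5.OFld

open Matrix Module Cfsg.Agent.Lib.Helper5.PGO Cfsg.Agent.Lib.Helper5.OAut
open Cfsg.Agent.Lib.Helper5.PSLCoset Cfsg.Agent.Lib.Helper5.SplitConj
open Cfsg.Agent.Lib.Helper2 Cfsg.Agent.Lib.Helper2.CDG Cfsg.Agent.Lib.Helper2.OrthCard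
open Cfsg.Agent.Lib.Helper5.OrthCls Cfsg.Agent.Lib.Helper5.MaxTS
open Cfsg.Agent.Lib.Helper5.QuadGlue Cfsg.Agent.Lib.Helper2.QuadStd
open Cfsg.Agent.Lib.Helper5.SpinorDiag Cfsg.Agent.Lib.Helper5.PlusLevi
open Cfsg.Agent.Lib.Helper5.PSpField

section Model
variable {F F₀ : Type*} [Field F] [Fintype F] [Field F₀] [Fintype F₀] {m : ℕ}

/-- the standard graph-field automorphism is not conjugate to the standard field automorphism
under the projective similarity group -/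
theorem xstar_not_conj_std (hm : 5 ≤ m) (σ : F ≃+* F) (h : ↥(GO (⇑(QP m F))))
    (hh : PhiS (rstar (F := F) (by omega)) σ (rstar_pair (by omega) σ) =
      Phi (⇑(QP m F)) h * PhiS 1 σ (pair_std (galInv_QP m) σ) * (Phi (⇑(QP m F)) h)⁻¹) :
    False := by
  classical
  obtain ⟨p, hchar⟩ := CharP.exists F
  haveI : Fact p.Prime := ⟨CharP.char_is_prime F p⟩
  have hQ := QP_nondeg (F := F) m
  have hn : 7 ≤ Fintype.card (Fin m ⊕ Fin m) := by rw [card_plus]; omega
  have hLag := lag_plus (F := F) hm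
  obtain ⟨hI, hIle, hmul, hrefl⟩ := inndiagQ_plus_props (F := F) hm
  haveI := hI
  have hPn : ∀ u ∈ Cfsg.pgoAut F ⇑(QP m F), ∀ z : MulAut (Cfsg.POmega F ⇑(QP m F)),
      z * u * z⁻¹ ∈ Cfsg.pgoAut F ⇑(QP m F) := by
    intro u hu z
    rw [← Theta_ker p hQ hn hLag] at hu ⊢
    exact (inferInstance : (Theta p hQ hn hLag).ker.Normal).conj_mem u hu z
  have hmemP : ∀ h : ↥(GO (⇑(QP m F))), Phi (⇑(QP m F)) h ∈ Cfsg.pgoAut F ⇑(QP m F) := by
    intro h
    rw [pgoAut_eq]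
    exact ⟨h, rfl⟩
  rw [← xstar_eq (by omega : 1 ≤ m) σ] at hh
  refine no_cross_conj (Cfsg.pgoAut F ⇑(QP m F)) (inndiagQ (⇑(QP m F))) hPn hmul
    (Phi (⇑(QP m F)) (estar (by omega))) (PhiS 1 σ (pair_std (galInv_QP m) σ))
    (Phi (⇑(QP m F)) h)⁻¹ 1 (hmemP _) (hrefl _ _)
    ((Cfsg.pgoAut F ⇑(QP m F)).inv_mem (hmemP h)) (Subgroup.one_mem _) ?_
  have : Phi (⇑(QP m F)) (estar (by omega)) * PhiS 1 σ (pair_std (galInv_QP m) σ) =
      xstar (by omega) σ := rfl
  rw [this, hh]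
  group

set_option maxHeartbeats 800000 in
/-- the twisted model of the standard involutory graph-field automorphism -/
theorem xstar_model (hm : 5 ≤ m) (σ : F ≃+* F) (hσ : orderOf σ = 2) (ι₀ : F₀ →+* F)
    (hι : ∀ a, σ a = a ↔ a ∈ Set.range ι₀) :
    ∃ (B : GL (Fin m ⊕ Fin m) F) (Q₀ : QuadraticForm F₀ (Fin m ⊕ Fin m → F₀))
      (hstd : Cfsg.IsSemisimilarityPair (⇑(twQ (QP m F) B)) (1 : GL (Fin m ⊕ Fin m) F) σ),
      rstar (by omega) * mapGL σ B = B ∧
      (QuadraticMap.polarBilin Q₀).Nondegenerate ∧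
      (∀ v, twQ (QP m F) B (extV ι₀ v) = ι₀ (Q₀ v)) ∧ ¬ IsPlus Q₀ ∧
      xstar (by omega) σ = MulAut.congr (psiT (Q := ⇑(QP m F)) (Q' := ⇑(twQ (QP m F) B)) B
        (fun v => (twQ_apply B v).symm)) (PhiS 1 σ hstd) := by
  classical
  have hm1 : 1 ≤ m := by omega
  have hQ := QP_nondeg (F := F) m
  have hn : 7 ≤ Fintype.card (Fin m ⊕ Fin m) := by rw [card_plus]; omega
  obtain ⟨B, hB⟩ := exists_rstar_model (F := F) hm1 σ hσ
  have hstd := twQ_pair_std (Q := QP m F) B (rstar hm1) σ hB (rstar_semi hm1 σ)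
  have hσσ : σ * σ = 1 := by
    rw [← pow_two, ← hσ]
    exact pow_orderOf_eq_one σ
  -- the descent
  have hfix : ∀ v₀ : Fin m ⊕ Fin m → F₀, (fun i => σ (extV ι₀ v₀ i)) = extV ι₀ v₀ := by
    intro v₀
    funext i
    exact (hι _).2 ⟨_, rfl⟩
  obtain ⟨Q₀, hQ₀c⟩ := exists_descent ι₀ (twQ (QP m F) B) (by
    intro v₀
    apply (hι _).1
    obtain ⟨c, hc⟩ := hstd
    have h1 := hc (extV ι₀ v₀)
    rw [Units.val_one, Matrix.one_mulVec, hfix] at h1
    have hc1 : (c : F) = 1 := by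
      -- the multiplier of the standard pair is one, by construction
      have h2 : ∀ v, twQ (QP m F) B (fun i => σ (v i)) = σ (twQ (QP m F) B v) := by
        intro v
        rw [twQ_apply, twQ_apply, ← rstar_semi hm1 σ]
        congr 1
        unfold semi
        conv_lhs => rw [← hB]
        rw [Units.val_mul, ← Matrix.mulVec_mulVec, mapGL_coe, map_mulVec]
      obtain ⟨w, hw⟩ := exists_value_ne (twQ_nondeg hQ B) (by omega)
      have h3 := hc w
      rw [Units.val_one, Matrix.one_mulVec, h2] at h3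
      have hw' : σ (twQ (QP m F) B w) ≠ 0 := (map_ne_zero_iff _ σ.injective).2 hw
      have h4 : ((c : F) - 1) * σ (twQ (QP m F) B w) = 0 := by
        rw [sub_mul, one_mul, ← h3, sub_self]
      rcases mul_eq_zero.1 h4 with h5 | h5
      · exact sub_eq_zero.1 h5
      · exact absurd h5 hw'
    rw [hc1, one_mul] at h1
    exact h1.symm)
  have hQ₀nd := descent_nondeg ι₀ (twQ (QP m F) B) Q₀ hQ₀c (twQ_nondeg hQ B)
  refine ⟨B, Q₀, hstd, hB, hQ₀nd, fun v => (hQ₀c v).symm, ?_, ?_⟩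
  · -- the type
    intro hplus
    have hd1 : DescendsTo (QP m F) ι₀ σ (rstar hm1) Q₀ := by
      refine ⟨(B : Matrix _ _ F), 1, 1, B.isUnit, one_ne_zero, one_ne_zero, ?_, fun v => ?_⟩
      · rw [one_smul, ← mapGL_coe, ← Units.val_mul, hB]
      · rw [hQ₀c, twQ_apply, inv_one, one_mul]
    have hd2 : DescendsTo (QP m F) ι₀ σ 1 (QP m F₀) := descendsTo_std ι₀ σ (QP m F₀) (QP_extV ι₀ m)
    obtain ⟨h, hh⟩ := conj_of_descendsTo ι₀ σ hι (rstar hm1) 1 (rstar_pair hm1 σ)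
      (pair_std (galInv_QP m) σ) Q₀ (QP m F₀) hd1 hd2
      (sim_of_same_type Q₀ (QP m F₀) hQ₀nd (QP_nondeg m) (iff_of_true hplus (isPlus_QP m)))
    exact xstar_not_conj_std hm σ h hh
  · rw [xstar_eq hm1 σ, congr_psiT_PhiS B _ hstd (by
      have := pair_conj_form (Q := ⇑(QP m F)) (Q' := ⇑(twQ (QP m F) B)) B
        (fun v => (twQ_apply B v).symm) hstd
      exact this)]
    apply PhiS_congr _ rfl
    rw [mul_one, map_inv, eq_mul_inv_iff_mul_eq]
    exact hB

end Model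

end Cfsg.Agent.Lib.Helper5.OFld
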