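import Mathlib
import Cfsg.Agent.Lib.Helper5.OFld47

set_option autoImplicit false

/-! The centralizer of the standard involutory graph-field automorphism of the plus type
orthogonal groups in the inner-diagonal group. -/

namespace Cfsg.Agent.Lib.Helper5.OFld

open Matrix Module Cfsg.Agent.Lib.Helper5.PGO Cfsg.Agent.Lib.Helper5.OAut
open Cfsg.Agent.Lib.Helper5.PSLCoset Cfsg.Agent.Lib.Helper5.SplitConj
open Cfsg.Agent.Lib.Helper2 Cfsg.Agent.Lib.Helper2.CDG Cfsg.Agent.Lib.Helper2.OrthCard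
open Cfsg.Agent.Lib.Helper5.OrthCls Cfsg.Agent.Lib.Helper5.MaxTS
open Cfsg.Agent.Lib.Helper5.QuadGlue Cfsg.Agent.Lib.Helper2.QuadStd
open Cfsg.Agent.Lib.Helper5.SpinorDiag Cfsg.Agent.Lib.Helper5.PlusLevi
open Cfsg.Agent.Lib.Helper5.PSpField Cfsg.Agent.Lib.Helper2.Dickson
open Cfsg.Agent.Lib.Helper5.OmegaCrit

section Gen
variable {X Y : Type*} [Group X] [Group Y]

/-- a subgroup is isomorphic to its image under an isomorphism -/
noncomputable def equivOfMapEq (ε : X ≃* Y) (H : Subgroup X) (K : Subgroup Y)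
    (h : H.map ε.toMonoidHom = K) : ↥H ≃* ↥K :=
  (ε.subgroupMap H).trans (MulEquiv.subgroupCongr h)

end Gen

section Lin
variable {K : Type*} [Field K] {ι : Type} [Fintype ι] [DecidableEq ι]

theorem exists_GL_of_linearEquiv (E : (ι → K) ≃ₗ[K] (ι → K)) :
    ∃ t : GL ι K, ∀ v, (t : Matrix ι ι K) *ᵥ v = E v := by
  have h1 : LinearMap.toMatrix' E.toLinearMap * LinearMap.toMatrix' E.symm.toLinearMap = 1 := by
    rw [← LinearMap.toMatrix'_comp]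
    have : E.toLinearMap ∘ₗ E.symm.toLinearMap = LinearMap.id := by
      ext x : 1
      simp
    rw [this, LinearMap.toMatrix'_id]
  have h3 : LinearMap.toMatrix' E.symm.toLinearMap * LinearMap.toMatrix' E.toLinearMap = 1 := by
    rw [← LinearMap.toMatrix'_comp]
    have : E.symm.toLinearMap ∘ₗ E.toLinearMap = LinearMap.id := by
      ext x : 1
      simp
    rw [this, LinearMap.toMatrix'_id]
  refine ⟨⟨LinearMap.toMatrix' E.toLinearMap, LinearMap.toMatrix' E.symm.toLinearMap, h1, h3⟩,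
    fun x => ?_⟩
  show LinearMap.toMatrix' E.toLinearMap *ᵥ x = E x
  rw [LinearMap.toMatrix'_mulVec]
  rfl

end Lin

section MinusModel
variable {F₀ : Type*} [Field F₀] [Fintype F₀] {k : ℕ}

/-- a nondegenerate form of minus type in dimension `2k + 2` is isometric to the reindexed
standard one -/
theorem exists_iso_minus (Q₀ : QuadraticForm F₀ (Fin (k + 1) ⊕ Fin (k + 1) → F₀))
    (hQ₀ : (QuadraticMap.polarBilin Q₀).Nondegenerate) (hnp : ¬ IsPlus Q₀) (ζ : F₀)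
    (hζ : ∀ z₁ z₂ : F₀, z₁ ^ 2 + 1 * z₁ * z₂ + ζ * z₂ ^ 2 = 0 → z₁ = 0 ∧ z₂ = 0) :
    ∃ (e : ((Fin k ⊕ Fin k) ⊕ Fin 2) ≃ (Fin (k + 1) ⊕ Fin (k + 1)))
      (t₀ : GL (Fin (k + 1) ⊕ Fin (k + 1)) F₀),
      ∀ v, reidxQ e (QMn k (1 : F₀) ζ) ((t₀ : Matrix _ _ F₀) *ᵥ v) = Q₀ v := by
  classical
  have hcardeq : Fintype.card ((Fin k ⊕ Fin k) ⊕ Fin 2) =
      Fintype.card (Fin (k + 1) ⊕ Fin (k + 1)) := by
    rw [card_minus, card_plus]
  obtain ⟨e⟩ : Nonempty (((Fin k ⊕ Fin k) ⊕ Fin 2) ≃ (Fin (k + 1) ⊕ Fin (k + 1))) :=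
    ⟨Fintype.equivOfCardEq hcardeq⟩
  have heven : Even (finrank F₀ (Fin (k + 1) ⊕ Fin (k + 1) → F₀)) := by
    rw [Module.finrank_fintype_fun_eq_card, card_plus]
    exact even_two_mul _
  have hdim : finrank F₀ (Fin (k + 1) ⊕ Fin (k + 1) → F₀) =
      finrank F₀ ((Fin k ⊕ Fin k) ⊕ Fin 2 → F₀) := by
    rw [Module.finrank_fintype_fun_eq_card, Module.finrank_fintype_fun_eq_card, hcardeq]
  obtain ⟨g, hg⟩ := iso_of_type Q₀ (QMn k (1 : F₀) ζ) hQ₀ (QMn_nondeg k 1 ζ hζ) hdim heven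
    (iff_of_false hnp (not_isPlus_QMn k 1 ζ hζ))
  obtain ⟨t₀, ht₀⟩ := exists_GL_of_linearEquiv
    (g.trans (LinearEquiv.funCongrLeft F₀ F₀ e.symm))
  refine ⟨e, t₀, fun v => ?_⟩
  rw [ht₀, reidxQ_apply, ← hg]
  congr 1
  funext i
  show g v (e.symm (e i)) = g v i
  rw [e.symm_apply_apply]

end MinusModel

section Cent
variable {F F₀ : Type*} [Field F] [Fintype F] [Field F₀] [Fintype F₀] {k : ℕ}

set_option maxHeartbeats 1600000 in
/-- the centralizer of the standard involutory graph-field automorphism in the inner-diagonal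
group is the inner-diagonal group of the minus type group over the fixed field -/
theorem xstar_centralizer (hk : 4 ≤ k) (σ : F ≃+* F) (hσ : orderOf σ = 2) (ι₀ : F₀ →+* F)
    (hι : ∀ a, σ a = a ↔ a ∈ Set.range ι₀) :
    ∃ a₀ b₀ : F₀, (∀ z₁ z₂ : F₀, z₁ ^ 2 + a₀ * z₁ * z₂ + b₀ * z₂ ^ 2 = 0 → z₁ = 0 ∧ z₂ = 0) ∧
      Nonempty (↥(inndiagQ (⇑(QP (k + 1) F)) ⊓
          Subgroup.centralizer {xstar (Nat.le_add_left 1 k) σ}) ≃*
        ↥(inndiagQM (⇑(QMn k a₀ b₀)) (Cfsg.PreservesSingularClassesMinus k a₀ b₀))) := by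
  classical
  obtain ⟨B, Q₀, hstd, hB, hQ₀nd, hcompat, hnp, hx⟩ :=
    xstar_model (m := k + 1) (by omega) σ hσ ι₀ hι
  obtain ⟨ζ, hζ⟩ := exists_aniso (F := F₀)
  refine ⟨1, ζ, hζ, ?_⟩
  obtain ⟨e, t₀, ht₀⟩ := exists_iso_minus Q₀ hQ₀nd hnp ζ hζ
  have hQ := QP_nondeg (F := F) (k + 1)
  have hn : 7 ≤ Fintype.card (Fin (k + 1) ⊕ Fin (k + 1)) := by rw [card_plus]; omega
  have hQ'' := twQ_nondeg hQ B
  have hQ0 := QP_ne_zero (F := F) (Nat.le_add_left 1 k)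
  have hQ0'' : ∃ v, twQ (QP (k + 1) F) B v ≠ 0 := exists_value_ne hQ'' (by omega)
  have hQ₀0 : ∃ v, Q₀ v ≠ 0 := exists_value_ne hQ₀nd (by omega)
  have hQM0 := QMn_ne_zero k (1 : F₀) ζ
  have hQR0 := reidxQ_ne_zero e (QMn k (1 : F₀) ζ) hQM0
  -- the transports
  obtain ⟨Ψ, hΨ⟩ : ∃ Ψ : Cfsg.POmega F ⇑(twQ (QP (k + 1) F) B) ≃* Cfsg.POmega F ⇑(QP (k + 1) F),
      Ψ = psiT (Q := ⇑(QP (k + 1) F)) (Q' := ⇑(twQ (QP (k + 1) F) B)) B
        (fun v => (twQ_apply B v).symm) := ⟨_, rfl⟩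
  rw [← hΨ] at hx
  obtain ⟨ψ₁, hψ₁⟩ : ∃ ψ₁ : Cfsg.POmega F₀ ⇑Q₀ ≃*
      Cfsg.POmega F₀ ⇑(reidxQ e (QMn k (1 : F₀) ζ)),
      ψ₁ = psiT (Q := ⇑(reidxQ e (QMn k (1 : F₀) ζ))) (Q' := ⇑Q₀) t₀ ht₀ := ⟨_, rfl⟩
  obtain ⟨ψ₂, hψ₂⟩ : ∃ ψ₂ : Cfsg.POmega F₀ ⇑(QMn k (1 : F₀) ζ) ≃*
      Cfsg.POmega F₀ ⇑(reidxQ e (QMn k (1 : F₀) ζ)),
      ψ₂ = trPsi (reGL e) (mem_iso_reGL_iff e (QMn k (1 : F₀) ζ)) := ⟨_, rfl⟩
  by_cases h2 : (2 : F) = 0
  · -- characteristic two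
    have h2' : (2 : F₀) = 0 := by
      apply ι₀.injective
      rw [map_ofNat, h2, map_zero]
    rw [inndiagQ_plus_two h2 (by omega), inndiag_minus_two h2' (by omega) _ _ hζ, hx]
    obtain ⟨e1⟩ := centralizer_map_equiv (MulAut.congr Ψ)
      (Cfsg.Inn (Cfsg.POmega F ⇑(twQ (QP (k + 1) F) B))) (PhiS 1 σ hstd)
    rw [map_congr_inn Ψ] at e1
    obtain ⟨e2⟩ := centralizer_equiv_sub hQ'' hQ₀nd hn hι 2 hσ two_pos hcompat hstd
      ((Cfsg.Inn (Cfsg.POmega F ⇑(twQ (QP (k + 1) F) B))).comap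
        (Phi (⇑(twQ (QP (k + 1) F) B))))
      ((Cfsg.Inn (Cfsg.POmega F₀ ⇑Q₀)).comap (Phi (⇑Q₀)))
      (fun g₀ => by
        rw [Subgroup.mem_comap, Subgroup.mem_comap]
        exact Phi_embGO_mem_inn_iff h2 hQ'' hQ₀nd hn hcompat hQ₀0 g₀)
      (by
        rintro _ ⟨c, rfl⟩
        rw [Subgroup.mem_comap]
        have : Phi (⇑(twQ (QP (k + 1) F) B)) (scalGO (twQ (QP (k + 1) F) B) c) = 1 :=
          scal_le_ker ⟨c, rfl⟩
        rw [this]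
        exact Subgroup.one_mem _)
    rw [Subgroup.map_comap_eq, Subgroup.map_comap_eq, ← pgoAut_eq, ← pgoAut_eq,
      inf_eq_right.2 inn_le_pgo, inf_eq_right.2 inn_le_pgo] at e2
    have e3 := equivOfMapEq (MulAut.congr ψ₁) _ _ (map_congr_inn ψ₁)
    have e4 := equivOfMapEq (MulAut.congr ψ₂) _ _ (map_congr_inn ψ₂)
    exact ⟨((e1.symm.trans e2).trans e3).trans e4.symm⟩
  · -- odd characteristic
    have h2' : (2 : F₀) ≠ 0 := by
      intro h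
      apply h2
      rw [← map_ofNat ι₀, h, map_zero]
    have hodd₀ := odd_card_of_two_ne_zero h2'
    rw [inndiagQ_plus (Nat.le_add_left 1 k) h2, inndiag_minus hodd₀ _ _ hζ, hx]
    obtain ⟨e1⟩ := centralizer_map_equiv (MulAut.congr Ψ)
      (idg (twQ (QP (k + 1) F) B) hQ0'' (k + 1)) (PhiS 1 σ hstd)
    have hidg : (idg (twQ (QP (k + 1) F) B) hQ0'' (k + 1)).map (MulAut.congr Ψ).toMonoidHom =
        idg (QP (k + 1) F) hQ0 (k + 1) := by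
      rw [hΨ]
      exact congr_psiT_idg hQ0 hQ0'' (k + 1) B _
    rw [hidg] at e1
    obtain ⟨e2⟩ := centralizer_equiv_sub hQ'' hQ₀nd hn hι 2 hσ two_pos hcompat hstd
      (GOp (twQ (QP (k + 1) F) B) hQ0'' (k + 1)) (GOp Q₀ hQ₀0 (k + 1))
      (fun g₀ => by
        unfold GOp
        rw [MonoidHom.mem_ker, MonoidHom.mem_ker]
        exact epsHom_embGO_iff hQ0'' hQ₀0 hcompat (k + 1) g₀)
      (by
        rintro _ ⟨c, rfl⟩
        unfold GOp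
        rw [MonoidHom.mem_ker]
        exact eps_scal hQ0'' (card_plus (k + 1)) c)
    have hi1 : (GOp (twQ (QP (k + 1) F) B) hQ0'' (k + 1)).map (Phi (⇑(twQ (QP (k + 1) F) B))) =
        idg (twQ (QP (k + 1) F) B) hQ0'' (k + 1) := rfl
    have hi2 : (GOp Q₀ hQ₀0 (k + 1)).map (Phi (⇑Q₀)) = idg Q₀ hQ₀0 (k + 1) := rfl
    rw [hi1, hi2] at e2
    have e3 := equivOfMapEq (MulAut.congr ψ₁) (idg Q₀ hQ₀0 (k + 1))
      (idg (reidxQ e (QMn k (1 : F₀) ζ)) hQR0 (k + 1)) (by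
        rw [hψ₁]
        exact congr_psiT_idg hQR0 hQ₀0 (k + 1) t₀ ht₀)
    have e4 := equivOfMapEq (MulAut.congr ψ₂) (idg (QMn k (1 : F₀) ζ) hQM0 (k + 1))
      (idg (reidxQ e (QMn k (1 : F₀) ζ)) hQR0 (k + 1)) (by
        rw [hψ₂]
        exact congr_trPsi_idg (reGL e) (mem_iso_reGL_iff e _) (mem_GO_reGL_iff e _) hQR0 hQM0
          (k + 1) (fun g => epsHom_reGL e _ hQM0 (k + 1) g))
    exact ⟨((e1.symm.trans e2).trans e3).trans e4.symm⟩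

end Cent

end Cfsg.Agent.Lib.Helper5.OFld
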