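import Mathlib
import Cfsg.Agent.Lib.Helper5.OFld48

set_option autoImplicit false

/-! Elements of the centralizer of a standard field automorphism: descent of fixed similarities,
and similarities over the fixed field of index two with square multiplier induce inner
automorphisms. -/

namespace Cfsg.Agent.Lib.Helper5.OFld

open Matrix Module Cfsg.Agent.Lib.Helper5.PGO Cfsg.Agent.Lib.Helper5.OAut
open Cfsg.Agent.Lib.Helper5.PSLCoset Cfsg.Agent.Lib.Helper5.SplitConj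
open Cfsg.Agent.Lib.Helper2 Cfsg.Agent.Lib.Helper2.CDG Cfsg.Agent.Lib.Helper2.OrthCard
open Cfsg.Agent.Lib.Helper5.PSpField Cfsg.Agent.Lib.Helper2.Dickson
open Cfsg.Agent.Lib.Helper5.OmegaCrit Cfsg.Agent.Lib.Helper2.Spinor

section Fixed
variable {F F₀ : Type*} [Field F] [Fintype F] [Field F₀] [Fintype F₀]
variable {ι : Type} [Fintype ι] [DecidableEq ι]
variable {Q : QuadraticForm F (ι → F)} {Q₀ : QuadraticForm F₀ (ι → F₀)}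
variable {ι₀ : F₀ →+* F} {σ : F ≃+* F}

/-- a similarity whose matrix is fixed by the field automorphism comes from the fixed field -/
theorem exists_embGO_of_fixed (hι : ∀ a, σ a = a ↔ a ∈ Set.range ι₀)
    (hcompat : ∀ v, Q (extV ι₀ v) = ι₀ (Q₀ v)) (hQ₀0 : ∃ v, Q₀ v ≠ 0)
    (c : ↥(GO (⇑Q))) (hc : mapGL σ (c : GL ι F) = (c : GL ι F)) :
    ∃ c₀ : ↥(GO (⇑Q₀)), embGO ι₀ hcompat c₀ = c := by
  classical
  have hfix : ((c : GL ι F) : Matrix ι ι F).map σ = ((c : GL ι F) : Matrix ι ι F) := by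
    rw [← mapGL_coe, hc]
  obtain ⟨M₀, hM₀⟩ := exists_map hι _ hfix
  obtain ⟨μ, hμ⟩ := c.2
  have hsim : ∀ v, Q ((M₀.map ι₀) *ᵥ v) = (μ : F) * Q v := by
    intro v
    rw [← hM₀]
    exact hμ v
  obtain ⟨v₀, hv₀⟩ := hQ₀0
  obtain ⟨ν₀, hν₀⟩ : ∃ ν₀ : F₀, ι₀ ν₀ = (μ : F) := by
    refine ⟨Q₀ (M₀ *ᵥ v₀) / Q₀ v₀, ?_⟩
    have h1 := hsim (extV ι₀ v₀)
    rw [extV_mulVec, hcompat, hcompat] at h1
    rw [map_div₀, h1]
    have : ι₀ (Q₀ v₀) ≠ 0 := (map_ne_zero_iff _ ι₀.injective).2 hv₀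
    field_simp
  have hν₀0 : ν₀ ≠ 0 := by
    intro h0
    rw [h0, map_zero] at hν₀
    exact μ.ne_zero hν₀.symm
  have hsim₀ : ∀ v, Q₀ (M₀ *ᵥ v) = ν₀ * Q₀ v := by
    intro v
    apply ι₀.injective
    rw [map_mul, hν₀, ← hcompat, ← hcompat, ← extV_mulVec]
    exact hsim _
  have hM₀u : IsUnit M₀ := by
    rw [Matrix.isUnit_iff_isUnit_det]
    have h1 : IsUnit (M₀.map ι₀) := by
      rw [← hM₀]
      exact (c : GL ι F).isUnit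
    rw [Matrix.isUnit_iff_isUnit_det] at h1
    have h2 : (M₀.map ι₀).det = ι₀ M₀.det := (RingHom.map_det ι₀ M₀).symm
    rw [h2] at h1
    rw [isUnit_iff_ne_zero] at h1 ⊢
    intro h0
    apply h1
    rw [h0, map_zero]
  obtain ⟨g₀, hg₀⟩ : ∃ g₀ : GL ι F₀, (g₀ : Matrix ι ι F₀) = M₀ := ⟨hM₀u.unit, rfl⟩
  have hg₀G : g₀ ∈ GO (⇑Q₀) := ⟨Units.mk0 ν₀ hν₀0, fun v => by rw [hg₀]; exact hsim₀ v⟩
  refine ⟨⟨g₀, hg₀G⟩, ?_⟩
  apply Subtype.ext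
  apply Units.ext
  rw [embGO_coe]
  show (g₀ : Matrix ι ι F₀).map ι₀ = _
  rw [hg₀, ← hM₀]

/-- the elements of the centralizer of a standard field automorphism in the image of a subgroup
of the similarity group -/
theorem mem_centralizer_sub (hQ : (QuadraticMap.polarBilin Q).Nondegenerate)
    (hn : 7 ≤ Fintype.card ι) (hι : ∀ a, σ a = a ↔ a ∈ Set.range ι₀) (r : ℕ)
    (hr : orderOf σ = r) (hr0 : 0 < r) (hcompat : ∀ v, Q (extV ι₀ v) = ι₀ (Q₀ v))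
    (hstd : Cfsg.IsSemisimilarityPair (⇑Q) (1 : GL ι F) σ)
    (S : Subgroup ↥(GO (⇑Q))) (S₀ : Subgroup ↥(GO (⇑Q₀)))
    (h1 : ∀ g₀, embGO ι₀ hcompat g₀ ∈ S ↔ g₀ ∈ S₀) (h2 : (scalGO Q).range ≤ S)
    (k : MulAut (Cfsg.POmega F (⇑Q)))
    (hk : k ∈ S.map (Phi (⇑Q)) ⊓ Subgroup.centralizer {PhiS 1 σ hstd}) :
    ∃ c₀ ∈ S₀, k = Phi (⇑Q) (embGO ι₀ hcompat c₀) := by
  obtain ⟨ha1, ha2⟩ := Subgroup.mem_inf.1 hk
  obtain ⟨c, hcS, rfl⟩ := ha1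
  have hc : c ∈ commSub (Phi (⇑Q)) (PhiS 1 σ hstd) := ha2
  obtain ⟨b, c₀, hbc⟩ := exists_emb_of_commSub hQ hn hι r hr hr0 hcompat hstd c hc
  have hc₀ : c₀ ∈ S₀ := by
    rw [← h1, ← hbc]
    exact S.mul_mem (h2 ⟨b, rfl⟩) hcS
  refine ⟨c₀, hc₀, ?_⟩
  rw [← hbc, map_mul]
  have : Phi (⇑Q) (scalGO Q b) = 1 := scal_le_ker ⟨b, rfl⟩
  rw [this, one_mul]

end Fixed

section Inner
variable {F F₀ : Type*} [Field F] [Fintype F] [DecidableEq F] [Field F₀] [Fintype F₀]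
  [DecidableEq F₀]
variable {ι : Type} [Fintype ι] [DecidableEq ι]
variable {Q : QuadraticForm F (ι → F)} {Q₀ : QuadraticForm F₀ (ι → F₀)}
variable {ι₀ : F₀ →+* F}

/-- if all elements of the small field are squares in the big one, the similarities over the
small field with square multiplier and `det = μ^m` induce inner automorphisms -/
theorem Phi_embGO_mem_inn_of_sq (h2 : (2 : F) ≠ 0) (h2' : (2 : F₀) ≠ 0)
    (hQ : (QuadraticMap.polarBilin Q).Nondegenerate)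
    (hQ₀ : (QuadraticMap.polarBilin Q₀).Nondegenerate) {m : ℕ}
    (hm : Fintype.card ι = 2 * m) (hn : 2 ≤ Fintype.card ι)
    (hcompat : ∀ v, Q (extV ι₀ v) = ι₀ (Q₀ v)) (hQ₀0 : ∃ v, Q₀ v ≠ 0)
    (hsq : ∀ a : F₀, IsSquare (ι₀ a)) (g₀ : ↥(GO (⇑Q₀)))
    (hmu : IsSquare (mu (⇑Q₀) g₀ : F₀)) (heps : epsHom Q₀ hQ₀0 m g₀ = 1) :
    Phi (⇑Q) (embGO ι₀ hcompat g₀) ∈ Cfsg.Inn (Cfsg.POmega F (⇑Q)) := by
  have hker : g₀ ∈ (chi hQ₀ hQ₀0 hm h2').ker := (mem_chi_ker hQ₀ hQ₀0 hm h2' g₀).2 ⟨hmu, heps⟩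
  obtain ⟨c, h, hh, rfl⟩ := exists_SO_of_chi_ker hQ₀ hQ₀0 hm h2' g₀ hker
  obtain ⟨s₀, hs₀⟩ : ∃ s₀ : ↥(Cfsg.isometryGroup F₀ (⇑Q₀)), s₀ = toO Q₀ ⟨h, hh⟩ := ⟨_, rfl⟩
  have hincl : incl (⇑Q₀) s₀ = h := by rw [hs₀]; rfl
  have hdet₀ : ((s₀ : GL ι F₀) : Matrix ι ι F₀).det = 1 := by
    have h3 := det_toO (Q := Q₀) ⟨h, hh⟩
    rw [← hs₀] at h3
    have h4 := congrArg Units.val h3
    rw [Matrix.GeneralLinearGroup.val_det_apply, Units.val_one] at h4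
    exact h4
  have hdet : Matrix.GeneralLinearGroup.det
      ((embO ι₀ hcompat s₀ : ↥(Cfsg.isometryGroup F (⇑Q))) : GL ι F) = 1 := by
    apply Units.ext
    rw [Matrix.GeneralLinearGroup.val_det_apply, det_embO, hdet₀, map_one, Units.val_one]
  have hPhi : Phi (⇑Q) (embGO ι₀ hcompat (scalGO Q₀ c * h)) =
      Phi (⇑Q) (incl (⇑Q) (embO ι₀ hcompat s₀)) := by
    rw [incl_embO, hincl, map_mul, embGO_scal, map_mul]
    have : Phi (⇑Q) (scalGO Q (Units.map (ι₀ : F₀ →* F) c)) = 1 := scal_le_ker ⟨_, rfl⟩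
    rw [this, one_mul]
  rw [hPhi, inn_eq]
  refine ⟨incl (⇑Q) (embO ι₀ hcompat s₀), ⟨embO ι₀ hcompat s₀, ?_, rfl⟩, rfl⟩
  exact (mem_comm_iff_of_det h2 hQ hn _ hdet).2
    (levSign_embO_of_squares h2 h2' hQ₀ ι₀ hcompat hsq s₀ hdet₀)

end Inner

end Cfsg.Agent.Lib.Helper5.OFld
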