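import Mathlib
import Cfsg.Agent.Lib.Helper5.OFld49

set_option autoImplicit false

/-! Class-splitting counts relative to a normal subgroup of index four, and squares in a finite
field and in its subfield of index two. -/

namespace Cfsg.Agent.Lib.Helper5.OFld

open Cfsg.Agent.Lib.Helper5.PSLCoset

section Count
variable {X : Type*} [Group X]

/-- the number of classes into which a class splits, as an index inside the larger group -/
theorem splitClassCount_sub (I N : Subgroup X) [N.Normal] (hNI : N ≤ I) (x : X) :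
    Cfsg.splitClassCount I N x =
      (N.subgroupOf I ⊔ (Subgroup.centralizer {x}).subgroupOf I).index := by
  have h1 := splitClassCount_eq I.subtype (N.subgroupOf I) x
  rw [Subgroup.range_subtype, Subgroup.subgroupOf_map_subtype, inf_eq_left.2 hNI] at h1
  exact h1

variable {G : Type*} [Group G]

theorem index_sup_of_le (S T : Subgroup G) (hT : T ≤ S) : (S ⊔ T).index = S.index := by
  rw [sup_eq_left.2 hT]

/-- if `T` meets exactly two cosets of the normal subgroup `S` of index four, then `S T` has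
index two -/
theorem index_sup_eq_two (S T : Subgroup G) [S.Normal] (hS : S.index = 4) (γ : G) (hγT : γ ∈ T)
    (hγS : γ ∉ S) (hT : ∀ t ∈ T, t ∈ S ∨ t * γ⁻¹ ∈ S) : (S ⊔ T).index = 2 := by
  have hle : S ≤ S ⊔ T := le_sup_left
  have hrel : S.relIndex (S ⊔ T) = 2 := by
    unfold Subgroup.relIndex
    rw [Subgroup.index_eq_two_iff]
    refine ⟨⟨γ⁻¹, (S ⊔ T).inv_mem (Subgroup.mem_sup_right hγT)⟩, ?_⟩
    rintro ⟨b, hb⟩
    rw [Subgroup.mem_subgroupOf, Subgroup.mem_subgroupOf]
    show Xor' (b * γ⁻¹ ∈ S) (b ∈ S)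
    have hb' : b ∈ (↑(S ⊔ T) : Set G) := hb
    rw [Subgroup.normal_mul] at hb'
    obtain ⟨s, hs, t, ht, rfl⟩ := Set.mem_mul.1 hb'
    rcases hT t ht with h | h
    · right
      refine ⟨S.mul_mem hs h, ?_⟩
      intro h'
      apply hγS
      have : γ = (s * t * γ⁻¹)⁻¹ * (s * t) := by group
      rw [this]
      exact S.mul_mem (S.inv_mem h') (S.mul_mem hs h)
    · left
      refine ⟨?_, ?_⟩
      · rw [mul_assoc]
        exact S.mul_mem hs h
      · intro h'
        have ht' : t ∈ S := by
          have : t = s⁻¹ * (s * t) := by group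
          rw [this]
          exact S.mul_mem (S.inv_mem hs) h'
        apply hγS
        have : γ = (t * γ⁻¹)⁻¹ * t := by group
        rw [this]
        exact S.mul_mem (S.inv_mem h) ht'
  have h3 := Subgroup.relIndex_mul_index hle
  rw [hrel, hS] at h3
  omega

end Count

section Squares
variable {F F₀ : Type*} [Field F] [Fintype F] [Field F₀] [Fintype F₀]

theorem ringChar_ne_two_of (h2 : (2 : F) ≠ 0) : ringChar F ≠ 2 := by
  intro h
  apply h2
  have := ringChar.Nat.cast_ringChar (R := F)
  rw [h] at this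
  exact_mod_cast this

/-- the product of a square and a nonsquare is a nonsquare -/
theorem not_isSquare_mul_of (h2 : (2 : F) ≠ 0) {a b : F} (ha : IsSquare a) (ha0 : a ≠ 0)
    (hb : ¬ IsSquare b) : ¬ IsSquare (a * b) := by
  classical
  have hchar := ringChar_ne_two_of h2
  have hb0 : b ≠ 0 := by
    rintro rfl
    exact hb ⟨0, by ring⟩
  rw [← quadraticChar_neg_one_iff_not_isSquare, map_mul,
    (quadraticChar_one_iff_isSquare ha0).2 ha, quadraticChar_neg_one_iff_not_isSquare.2 hb]
  norm_num

/-- an element whose norm to the subfield of index two is a nonsquare there is a nonsquare -/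
theorem not_isSquare_of_norm (ι₀ : F₀ →+* F) (σ : F ≃+* F)
    (hι : ∀ a, σ a = a ↔ a ∈ Set.range ι₀) (hσ : σ * σ = 1) (l : F) (ν₀ : F₀)
    (hν₀ : ¬ IsSquare ν₀) (hl : l * σ l = ι₀ ν₀) : ¬ IsSquare l := by
  rintro ⟨κ, rfl⟩
  apply hν₀
  have hfix : σ (κ * σ κ) = κ * σ κ := by
    rw [map_mul]
    have : σ (σ κ) = κ := by
      have := congrArg (fun τ : F ≃+* F => τ κ) hσ
      exact this
    rw [this, mul_comm]
  obtain ⟨κ₀, hκ₀⟩ := (hι _).1 hfix
  refine ⟨κ₀, ?_⟩
  apply ι₀.injective
  rw [map_mul, hκ₀, ← hl, map_mul]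
  ring

/-- a square root of a nonsquare of the subfield of index two is a square iff the order of the
subfield is `3` modulo `4` -/
theorem isSquare_sqrt_iff (h2 : (2 : F) ≠ 0) (ι₀ : F₀ →+* F)
    (hcard : Fintype.card F = Fintype.card F₀ ^ 2) (c : F) (ν₀ : F₀) (hν₀ : ¬ IsSquare ν₀)
    (hc : c * c = ι₀ ν₀) : IsSquare c ↔ Fintype.card F₀ % 4 = 3 := by
  have hchar := ringChar_ne_two_of h2
  have h2' : (2 : F₀) ≠ 0 := by
    intro h
    apply h2
    rw [← map_ofNat ι₀, h, map_zero]
  have hchar₀ := ringChar_ne_two_of h2'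
  have hν0 : ν₀ ≠ 0 := by
    rintro rfl
    exact hν₀ ⟨0, by ring⟩
  have hc0 : c ≠ 0 := by
    rintro rfl
    rw [mul_zero] at hc
    exact hν0 (ι₀.injective (by rw [← hc, map_zero]))
  have hodd : Odd (Fintype.card F₀) := Nat.odd_iff.2 (FiniteField.odd_card_of_char_ne_two hchar₀)
  obtain ⟨t, ht⟩ := hodd
  have hEuler : ν₀ ^ t = -1 := by
    have h1 := FiniteField.pow_dichotomy hchar₀ hν0
    have h3 : Fintype.card F₀ / 2 = t := by omega
    rw [h3] at h1
    rcases h1 with h1 | h1
    · exfalso
      apply hν₀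
      rw [FiniteField.isSquare_iff hchar₀ hν0, h3]
      exact h1
    · exact h1
  have h4 : Fintype.card F / 2 = 2 * (t * (t + 1)) := by
    rw [hcard, ht]
    have : (2 * t + 1) ^ 2 = 2 * (2 * (t * (t + 1))) + 1 := by ring
    rw [this]
    omega
  rw [FiniteField.isSquare_iff hchar hc0, h4, pow_mul, pow_two, hc, pow_mul, ← map_pow, hEuler,
    map_neg, map_one]
  have hne : (-1 : F) ≠ 1 := by
    intro h
    apply h2
    linear_combination -h
  constructor
  · intro h
    rcases Nat.even_or_odd (t + 1) with he | ho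
    · obtain ⟨s, hs⟩ := he
      omega
    · exfalso
      rw [ho.neg_one_pow] at h
      exact hne h
  · intro h
    have he : Even (t + 1) := by
      rw [Nat.even_iff]
      omega
    exact he.neg_one_pow

end Squares

end Cfsg.Agent.Lib.Helper5.OFld
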