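import Mathlib
import Cfsg.Agent.Lib.Helper5.PGO21

set_option autoImplicit false

/-! The structure of `Inndiag(PΩ⁺) / Inn(PΩ⁺)` in odd characteristic: main theorem. -/

namespace Cfsg.Agent.Lib.Helper5.PGO

open Matrix Cfsg.Agent.Lib.Helper2 Cfsg.Agent.Lib.Helper2.CDG Cfsg.Agent.Lib.Helper2.Spinor
open Cfsg.Agent.Lib.Helper5.QuadGlue Cfsg.Agent.Lib.Helper2.QuadStd
open Cfsg.Agent.Lib.Helper2.OrthCard Cfsg.Agent.Lib.Helper5.PlusLevi

variable {F : Type*} [Field F] [Fintype F] [DecidableEq F] {m : ℕ}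

theorem Phi_dnuGO_mem (hm : 1 ≤ m) (ν : Fˣ) :
    Phi (⇑(QP m F)) (dnuGO m ν) ∈ idg (QP m F) (QP_ne_zero hm) m :=
  ⟨_, dnuGO_mem_GOp hm ν, rfl⟩

theorem Phi_dnuGO_sq (ν : Fˣ) :
    Phi (⇑(QP m F)) (dnuGO m ν) * Phi (⇑(QP m F)) (dnuGO m ν) =
      Phi (⇑(QP m F)) (incl (⇑(QP m F)) (levi (scalHom ν : GL (Fin m) F))) := by
  rw [← map_mul, dnuGO_sq, map_mul, MonoidHom.mem_ker.1 (scal_le_ker ⟨ν, rfl⟩), one_mul]

theorem det_scalHom_fin (ν : Fˣ) :
    ((scalHom ν : GL (Fin m) F) : Matrix (Fin m) (Fin m) F).det = (ν : F) ^ m := by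
  rw [det_scalHom, Fintype.card_fin]

set_option maxHeartbeats 1600000 in
/-- the structure of `Inndiag(PΩ⁺) / Inn(PΩ⁺)` -/
theorem structure_idg_plus {q : ℕ} (hF : Fintype.card F = q) (hq : Odd q) (hm : 4 ≤ m) :
    ((Odd m ∧ q % 4 = 3) →
      ∃ φ : ↥(idg (QP m F) (QP_ne_zero (by omega)) m) →* Multiplicative (ZMod 2),
        Function.Surjective φ ∧ φ.ker = (Cfsg.Inn (Cfsg.POmega F (⇑(QP m F)))).subgroupOf
          (idg (QP m F) (QP_ne_zero (by omega)) m)) ∧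
    ((Odd m ∧ q % 4 = 1) →
      ∃ φ : ↥(idg (QP m F) (QP_ne_zero (by omega)) m) →* Multiplicative (ZMod 4),
        Function.Surjective φ ∧ φ.ker = (Cfsg.Inn (Cfsg.POmega F (⇑(QP m F)))).subgroupOf
          (idg (QP m F) (QP_ne_zero (by omega)) m)) ∧
    (Even m →
      ∃ φ : ↥(idg (QP m F) (QP_ne_zero (by omega)) m) →* Multiplicative (ZMod 2 × ZMod 2),
        Function.Surjective φ ∧ φ.ker = (Cfsg.Inn (Cfsg.POmega F (⇑(QP m F)))).subgroupOf
          (idg (QP m F) (QP_ne_zero (by omega)) m)) := by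
  have hm1 : 1 ≤ m := by omega
  have h2 : (2 : F) ≠ 0 := two_ne_zero_of_odd_card (by rw [hF]; exact hq)
  have hiff := negOne_plus_iff' hF hq hm1
  have hn : 7 ≤ Fintype.card (Fin m ⊕ Fin m) := by rw [card_plus]; omega
  have hn2 : 2 ≤ Fintype.card (Fin m ⊕ Fin m) := by omega
  have hQ := QP_nondeg (F := F) m
  have hQ0 := QP_ne_zero (F := F) hm1
  have hsurj := chi_surj_plus (F := F) hm1 h2
  obtain ⟨ν, hν⟩ := exists_nonsquare_unit (F := F) h2
  refine ⟨?_, ?_, ?_⟩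
  · intro h
    have hneg : negOne (QP m F) ∉ commutator ↥(Cfsg.isometryGroup F ⇑(QP m F)) := by
      rw [hiff]; exact fun h' => h' h
    exact exists_zmod2_hom _
      (relIndex_inn_idg_of_not_mem hQ hQ0 (card_plus m) h2 hn hsurj hneg)
  · rintro ⟨hmo, hq1⟩
    have hneg : negOne (QP m F) ∈ commutator ↥(Cfsg.isometryGroup F ⇑(QP m F)) := by
      rw [hiff]; rintro ⟨-, h3⟩; omega
    apply exists_zmod4_hom _
      (relIndex_inn_idg_of_mem hQ hQ0 (card_plus m) h2 hn hsurj hneg)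
      ⟨Phi (⇑(QP m F)) (dnuGO m ν), Phi_dnuGO_mem hm1 ν⟩
    rw [Subgroup.mem_subgroupOf]
    show Phi (⇑(QP m F)) (dnuGO m ν) * Phi (⇑(QP m F)) (dnuGO m ν) ∉ _
    rw [Phi_dnuGO_sq]
    intro h
    have h3 := mem_of_Phi_incl_mem_inn hQ hQ0 hn hneg _ h
    rw [levi_mem_iff_odd h2 hm1, det_scalHom_fin] at h3
    exact not_isSquare_pow_odd hν hmo h3
  · intro hme
    have hneg : negOne (QP m F) ∈ commutator ↥(Cfsg.isometryGroup F ⇑(QP m F)) := by
      rw [hiff]; rintro ⟨h3, -⟩; exact (Nat.not_odd_iff_even.2 hme) h3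
    obtain ⟨g, hg⟩ := exists_SO_levSign h2 hQ hn2
    obtain ⟨s, hs⟩ : ∃ s : ↥(Cfsg.isometryGroup F ⇑(QP m F)), s = toO (QP m F) g := ⟨_, rfl⟩
    have hdet : Matrix.GeneralLinearGroup.det (s : GL (Fin m ⊕ Fin m) F) = 1 := by
      rw [hs]; exact det_toO g
    have hlev : levSign (QP m F) 1 s = -1 := by rw [hs]; exact hg
    have hnotmem : s ∉ commutator ↥(Cfsg.isometryGroup F ⇑(QP m F)) := by
      intro h
      have := (mem_comm_iff_of_det h2 hQ hn2 _ hdet).1 h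
      rw [hlev] at this
      exact absurd this (by decide)
    have hsqmem : s * s ∈ commutator ↥(Cfsg.isometryGroup F ⇑(QP m F)) := by
      rw [mem_comm_iff_of_det h2 hQ hn2]
      · rw [map_mul, hlev]; rfl
      · rw [Subgroup.coe_mul, map_mul, hdet, one_mul]
    have hSO : incl (⇑(QP m F)) s ∈ SOsub (⇑(QP m F)) := by
      rw [hs, incl_toO]; exact g.2
    have hchiS := SO_le_chi_ker hQ hQ0 (card_plus m) h2 hSO
    rw [mem_chi_ker] at hchiS
    have hbmem : Phi (⇑(QP m F)) (incl (⇑(QP m F)) s) ∈ idg (QP m F) hQ0 m :=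
      ⟨_, hchiS.2, rfl⟩
    apply exists_klein_hom _
      (relIndex_inn_idg_of_mem hQ hQ0 (card_plus m) h2 hn hsurj hneg)
      ⟨Phi (⇑(QP m F)) (dnuGO m ν), Phi_dnuGO_mem hm1 ν⟩
      ⟨Phi (⇑(QP m F)) (incl (⇑(QP m F)) s), hbmem⟩
    · rw [Subgroup.mem_subgroupOf]
      intro h
      have := chi_of_Phi_mem_inn hQ hQ0 (card_plus m) h2 hn _ h
      unfold chi at this
      rw [MonoidHom.prod_apply, Prod.mk_eq_one] at this
      exact chi1_dnuGO hm1 ν hν this.1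
    · rw [Subgroup.mem_subgroupOf]
      show Phi (⇑(QP m F)) (dnuGO m ν) * Phi (⇑(QP m F)) (dnuGO m ν) ∈ _
      rw [Phi_dnuGO_sq, inn_eq]
      refine ⟨_, ⟨_, ?_, rfl⟩, rfl⟩
      exact (levi_mem_iff_odd h2 hm1 _).2 (by rw [det_scalHom_fin]; exact isSquare_pow_even ν hme)
    · rw [Subgroup.mem_subgroupOf]
      intro h
      exact hnotmem (mem_of_Phi_incl_mem_inn hQ hQ0 hn hneg _ h)
    · rw [Subgroup.mem_subgroupOf]
      show Phi (⇑(QP m F)) (incl (⇑(QP m F)) s) *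
        Phi (⇑(QP m F)) (incl (⇑(QP m F)) s) ∈ _
      rw [← map_mul, ← map_mul, inn_eq]
      exact ⟨_, ⟨_, hsqmem, rfl⟩, rfl⟩
    · rw [Subgroup.mem_subgroupOf]
      show (Phi (⇑(QP m F)) (dnuGO m ν))⁻¹ * Phi (⇑(QP m F)) (incl (⇑(QP m F)) s) ∉ _
      rw [← map_inv, ← map_mul]
      intro h
      have := chi_of_Phi_mem_inn hQ hQ0 (card_plus m) h2 hn _ h
      rw [map_mul, map_inv] at this
      have h5 : chi hQ hQ0 (card_plus m) h2 (incl (⇑(QP m F)) s) = 1 :=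
        SO_le_chi_ker hQ hQ0 (card_plus m) h2 hSO
      rw [h5, mul_one, inv_eq_one] at this
      unfold chi at this
      rw [MonoidHom.prod_apply, Prod.mk_eq_one] at this
      exact chi1_dnuGO hm1 ν hν this.1

end Cfsg.Agent.Lib.Helper5.PGO
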