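import Mathlib
import Cfsg.Agent.Lib.Helper5.OFld50
import Cfsg.Agent.Lib.Helper5.PGO22

set_option autoImplicit false

/-! An explicit diagonal similarity of the plus type form commuting with the standard
graph-field automorphism, and the criterion for it to induce an inner automorphism. -/

namespace Cfsg.Agent.Lib.Helper5.OFld

open Matrix Module Cfsg.Agent.Lib.Helper5.PGO Cfsg.Agent.Lib.Helper5.OAut
open Cfsg.Agent.Lib.Helper5.PSLCoset Cfsg.Agent.Lib.Helper5.SplitConj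
open Cfsg.Agent.Lib.Helper2 Cfsg.Agent.Lib.Helper2.CDG Cfsg.Agent.Lib.Helper2.OrthCard
open Cfsg.Agent.Lib.Helper5.OrthCls Cfsg.Agent.Lib.Helper5.MaxTS
open Cfsg.Agent.Lib.Helper5.QuadGlue Cfsg.Agent.Lib.Helper2.QuadStd
open Cfsg.Agent.Lib.Helper5.SpinorDiag Cfsg.Agent.Lib.Helper5.PlusLevi
open Cfsg.Agent.Lib.Helper5.PSpField Cfsg.Agent.Lib.Helper2.Dickson
open Cfsg.Agent.Lib.Helper5.OmegaCrit Cfsg.Agent.Lib.Helper2.Spinor

section Elt
variable {F : Type*} [Field F] [Fintype F] [DecidableEq F] {m : ℕ}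

/-- the diagonal similarity `diag(l, ν, …, ν; ν / l, 1, …, 1)` -/
noncomputable def gstar (hm : 1 ≤ m) (ν l : Fˣ) : ↥(GO (⇑(QP m F))) :=
  dnuGO m ν * incl (⇑(QP m F)) (levi (Dgl ⟨0, hm⟩ (l * ν⁻¹)))

/-- the diagonal entries -/
def gD (hm : 1 ≤ m) (ν l : F) : Fin m ⊕ Fin m → F :=
  Sum.elim (Function.update (fun _ => ν) ⟨0, hm⟩ l) (Function.update (fun _ => 1) ⟨0, hm⟩ (ν / l))

theorem gstar_coe (hm : 1 ≤ m) (ν l : Fˣ) :
    (((gstar hm ν l : ↥(GO (⇑(QP m F)))) : GL (Fin m ⊕ Fin m) F) :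
      Matrix (Fin m ⊕ Fin m) (Fin m ⊕ Fin m) F) = Matrix.diagonal (gD hm (ν : F) (l : F)) := by
  show ((dnu m ν : GL (Fin m ⊕ Fin m) F) : Matrix (Fin m ⊕ Fin m) (Fin m ⊕ Fin m) F) *
    Matrix.fromBlocks (Matrix.diagonal (Function.update (fun _ => (1 : F)) ⟨0, hm⟩
      ((l * ν⁻¹ : Fˣ) : F))) 0 0
      (Matrix.diagonal (Function.update (fun _ => (1 : F)) ⟨0, hm⟩
        (((l * ν⁻¹)⁻¹ : Fˣ) : F)))ᵀ = _
  rw [dnu_coe, Matrix.diagonal_transpose, Matrix.fromBlocks_diagonal,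
    Matrix.diagonal_mul_diagonal]
  congr 1
  funext i
  unfold gD
  rcases i with i | i
  · by_cases hi : i = ⟨0, hm⟩
    · subst hi
      simp only [Sum.elim_inl, Function.update_self, Units.val_mul, Units.val_inv_eq_inv_val]
      field_simp
    · simp only [Sum.elim_inl, Function.update_of_ne hi, mul_one]
  · by_cases hi : i = ⟨0, hm⟩
    · subst hi
      simp only [Sum.elim_inr, Function.update_self, Units.val_mul, Units.val_inv_eq_inv_val,
        _root_.mul_inv_rev, inv_inv, one_mul]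
      rw [div_eq_mul_inv]
    · simp only [Sum.elim_inr, Function.update_of_ne hi, mul_one]

theorem mu_incl_levi (hm : 1 ≤ m) (A : GL (Fin m) F) :
    mu (⇑(QP m F)) (incl (⇑(QP m F)) (levi A)) = 1 :=
  mu_of_iso (QP_ne_zero hm) _ (levi A).2

theorem mu_gstar (hm : 1 ≤ m) (ν l : Fˣ) : mu (⇑(QP m F)) (gstar hm ν l) = ν := by
  have h1 := map_mul (muHom (⇑(QP m F)) (QP_ne_zero hm)) (dnuGO m ν)
    (incl (⇑(QP m F)) (levi (Dgl ⟨0, hm⟩ (l * ν⁻¹))))
  simp only [muHom_apply] at h1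
  unfold gstar
  rw [h1, mu_dnuGO hm, mu_incl_levi hm, mul_one]

theorem det_levi (A : GL (Fin m) F) :
    ((levi A : GL (Fin m ⊕ Fin m) F) : Matrix (Fin m ⊕ Fin m) (Fin m ⊕ Fin m) F).det = 1 := by
  rw [levi_coe, Matrix.det_fromBlocks_zero₂₁, Matrix.det_transpose, Matrix.det_nonsing_inv,
    Ring.inverse_eq_inv']
  have : (A : Matrix (Fin m) (Fin m) F).det ≠ 0 := by
    have := (Matrix.isUnit_iff_isUnit_det _).1 A.isUnit
    exact this.ne_zero
  field_simp

theorem gstar_mem_GOp (hm : 1 ≤ m) (ν l : Fˣ) :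
    gstar hm ν l ∈ GOp (QP m F) (QP_ne_zero hm) m := by
  unfold gstar
  apply Subgroup.mul_mem _ (dnuGO_mem_GOp hm ν)
  show epsHom (QP m F) (QP_ne_zero hm) m _ = 1
  rw [epsHom_apply, mu_incl_levi hm, one_pow, inv_one, mul_one]
  apply Units.ext
  rw [detGO_coe, Units.val_one]
  exact det_levi _

/-- the similarity as a scalar times a Levi element -/
theorem gstar_eq_scal (hm : 1 ≤ m) (c l : Fˣ) :
    gstar hm (c * c) l = scalGO (QP m F) c *
      incl (⇑(QP m F)) (levi ((scalHom c : GL (Fin m) F) * Dgl ⟨0, hm⟩ (l * (c * c)⁻¹))) := by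
  have h1 : dnuGO m (c * c) = scalGO (QP m F) c *
      incl (⇑(QP m F)) (levi (scalHom c : GL (Fin m) F)) := by
    apply Subtype.ext
    apply Units.ext
    show ((dnu m (c * c) : GL (Fin m ⊕ Fin m) F) : Matrix (Fin m ⊕ Fin m) (Fin m ⊕ Fin m) F) =
      ((scalHom c : GL (Fin m ⊕ Fin m) F) : Matrix (Fin m ⊕ Fin m) (Fin m ⊕ Fin m) F) *
        ((leviGL (scalHom c : GL (Fin m) F) : GL (Fin m ⊕ Fin m) F) :
          Matrix (Fin m ⊕ Fin m) (Fin m ⊕ Fin m) F)
    rw [dnu_coe, leviGL_coe, ← map_inv, scalHom_coe, scalHom_coe, scalHom_coe]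
    simp only [Matrix.scalar_apply]
    rw [Matrix.diagonal_transpose, Matrix.fromBlocks_diagonal, Matrix.diagonal_mul_diagonal]
    congr 1
    funext i
    rcases i with i | i
    · simp
    · simp
  unfold gstar
  rw [h1, map_mul, map_mul, mul_assoc]

end Elt

section Comm
variable {F : Type*} [Field F] [Fintype F] [DecidableEq F] {m : ℕ}

theorem rstar_mulVec (hm : 1 ≤ m) (x : Fin m ⊕ Fin m → F) :
    ((rstar (F := F) hm : GL (Fin m ⊕ Fin m) F) : Matrix (Fin m ⊕ Fin m) (Fin m ⊕ Fin m) F) *ᵥ x =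
      x - (x (Sum.inr ⟨0, hm⟩) + x (Sum.inl ⟨0, hm⟩)) • vstar m hm F := by
  unfold rstar
  rw [refl_mulVec, Q_vstar, inv_one, one_mul]
  unfold vstar
  rw [polar_uvec (hyp_plus m)]

theorem vstar_inl (hm : 1 ≤ m) (j : Fin m) :
    vstar m hm F (Sum.inl j) = if j = ⟨0, hm⟩ then 1 else 0 := by
  unfold vstar uvec
  rw [Pi.add_apply, Pi.single_apply, Pi.single_apply]
  simp

theorem vstar_inr (hm : 1 ≤ m) (j : Fin m) :
    vstar m hm F (Sum.inr j) = if j = ⟨0, hm⟩ then 1 else 0 := by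
  unfold vstar uvec
  rw [Pi.add_apply, Pi.single_apply, Pi.single_apply]
  simp

/-- the diagonal similarity commutes with the standard graph-field semilinear map -/
theorem gstar_comm (hm : 1 ≤ m) (σ : F ≃+* F) (ν l : Fˣ) (hν : σ (ν : F) = ν)
    (hl : (l : F) * σ (l : F) = ν) :
    ((gstar hm ν l : ↥(GO (⇑(QP m F)))) : GL (Fin m ⊕ Fin m) F) * rstar hm =
      rstar hm * mapGL σ ((gstar hm ν l : ↥(GO (⇑(QP m F)))) : GL (Fin m ⊕ Fin m) F) := by
  have hl0 : (l : F) ≠ 0 := l.ne_zero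
  have hσl : σ (l : F) = (ν : F) / l := by
    rw [eq_div_iff hl0, mul_comm]
    exact hl
  have hσl' : σ ((ν : F) / l) = l := by
    rw [map_div₀, hν, hσl]
    field_simp
  apply Units.ext
  rw [Units.val_mul, Units.val_mul, mapGL_coe, gstar_coe, Matrix.diagonal_map (map_zero σ)]
  apply Matrix.mulVec_injective
  funext x
  rw [← Matrix.mulVec_mulVec, ← Matrix.mulVec_mulVec, rstar_mulVec, rstar_mulVec]
  funext i
  rw [Matrix.mulVec_diagonal, Pi.sub_apply, Pi.sub_apply, Pi.smul_apply, Pi.smul_apply,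
    Matrix.mulVec_diagonal, Matrix.mulVec_diagonal, Matrix.mulVec_diagonal, smul_eq_mul,
    smul_eq_mul]
  unfold gD
  rcases i with i | i
  · by_cases hi : i = ⟨0, hm⟩
    · subst hi
      simp only [Sum.elim_inl, Sum.elim_inr, Function.update_self, vstar_inl, if_true, hσl, hσl']
      ring
    · simp only [Sum.elim_inl, Sum.elim_inr, Function.update_self, Function.update_of_ne hi,
        vstar_inl, if_neg hi, hν]
      ring
  · by_cases hi : i = ⟨0, hm⟩
    · subst hi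
      simp only [Sum.elim_inl, Sum.elim_inr, Function.update_self, vstar_inr, if_true, hσl, hσl']
      ring
    · simp only [Sum.elim_inl, Sum.elim_inr, Function.update_self, Function.update_of_ne hi,
        vstar_inr, if_neg hi, map_one]
      ring

end Comm

section Crit
variable {F : Type*} [Field F] [Fintype F] [DecidableEq F] {m : ℕ}

/-- the criterion for the diagonal similarity to induce an inner automorphism -/
theorem Phi_gstar_mem_inn_iff (h2 : (2 : F) ≠ 0) (hm : 4 ≤ m)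
    (hneg : negOne (QP m F) ∈ commutator ↥(Cfsg.isometryGroup F ⇑(QP m F))) (c l : Fˣ) :
    Phi (⇑(QP m F)) (gstar (by omega) (c * c) l) ∈ Cfsg.Inn (Cfsg.POmega F ⇑(QP m F)) ↔
      IsSquare ((c : F) ^ m * ((l : F) * ((c : F) * c)⁻¹)) := by
  have hm1 : 1 ≤ m := by omega
  have hQ := QP_nondeg (F := F) m
  have hQ0 := QP_ne_zero (F := F) hm1
  have hn : 7 ≤ Fintype.card (Fin m ⊕ Fin m) := by rw [card_plus]; omega
  rw [gstar_eq_scal, map_mul, MonoidHom.mem_ker.1 (scal_le_ker ⟨c, rfl⟩), one_mul]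
  have hdet : (((scalHom c : GL (Fin m) F) * Dgl ⟨0, hm1⟩ (l * (c * c)⁻¹) : GL (Fin m) F) :
      Matrix (Fin m) (Fin m) F).det = (c : F) ^ m * ((l : F) * ((c : F) * c)⁻¹) := by
    rw [Units.val_mul, Matrix.det_mul, det_scalHom_fin, det_Dgl, Units.val_mul,
      Units.val_inv_eq_inv_val, Units.val_mul]
  rw [← hdet, ← levi_mem_iff_odd h2 hm1]
  constructor
  · intro h
    exact mem_of_Phi_incl_mem_inn hQ hQ0 hn hneg _ h
  · intro h
    rw [inn_eq]
    exact ⟨_, ⟨_, h, rfl⟩, rfl⟩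

end Crit

section Eval
variable {F F₀ : Type*} [Field F] [Fintype F] [Field F₀] [Fintype F₀]

theorem isSquare_sq_mul_iff {K : Type*} [Field K] (s x : K) (hs : s ≠ 0) :
    IsSquare (s * s * x) ↔ IsSquare x := by
  constructor
  · rintro ⟨y, hy⟩
    refine ⟨y / s, ?_⟩
    field_simp
    linear_combination hy
  · rintro ⟨y, rfl⟩
    exact ⟨s * y, by ring⟩

/-- evaluation of the criterion -/
theorem gstar_crit_eval (h2 : (2 : F) ≠ 0) (ι₀ : F₀ →+* F) (σ : F ≃+* F)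
    (hι : ∀ a, σ a = a ↔ a ∈ Set.range ι₀) (hσ : σ * σ = 1)
    (hcard : Fintype.card F = Fintype.card F₀ ^ 2) (m : ℕ) (c l : F) (ν₀ : F₀)
    (hν₀ : ¬ IsSquare ν₀) (hc : c * c = ι₀ ν₀) (hl : l * σ l = ι₀ ν₀) :
    IsSquare (c ^ m * (l * (c * c)⁻¹)) ↔ (Odd m ∧ Fintype.card F₀ % 4 = 1) := by
  have hlns := not_isSquare_of_norm ι₀ σ hι hσ l ν₀ hν₀ hl
  have hcsq := isSquare_sqrt_iff h2 ι₀ hcard c ν₀ hν₀ hc
  have h2' : (2 : F₀) ≠ 0 := by
    intro h
    apply h2
    rw [← map_ofNat ι₀, h, map_zero]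
  have hodd₀ : Fintype.card F₀ % 2 = 1 :=
    FiniteField.odd_card_of_char_ne_two (ringChar_ne_two_of h2')
  have hν0 : ν₀ ≠ 0 := by
    rintro rfl
    exact hν₀ ⟨0, by ring⟩
  have hc0 : c ≠ 0 := by
    rintro rfl
    rw [mul_zero] at hc
    exact hν0 (ι₀.injective (by rw [← hc, map_zero]))
  rcases Nat.even_or_odd m with he | ho
  · obtain ⟨s, hs⟩ := he
    have h1 : c ^ m * (l * (c * c)⁻¹) = (c ^ s * c⁻¹) * (c ^ s * c⁻¹) * l := by
      rw [hs, pow_add]
      field_simp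
    rw [h1, isSquare_sq_mul_iff _ _ (mul_ne_zero (pow_ne_zero _ hc0) (inv_ne_zero hc0))]
    constructor
    · intro h
      exact absurd h hlns
    · rintro ⟨hom, -⟩
      exfalso
      rw [hs] at hom
      exact (Nat.not_odd_iff_even.2 ⟨s, rfl⟩) hom
  · obtain ⟨s, hs⟩ := ho
    have h1 : c ^ m * (l * (c * c)⁻¹) = (c ^ s * c⁻¹) * (c ^ s * c⁻¹) * (c * l) := by
      rw [hs, pow_succ, pow_mul, pow_two]
      field_simp
      ring
    rw [h1, isSquare_sq_mul_iff _ _ (mul_ne_zero (pow_ne_zero _ hc0) (inv_ne_zero hc0))]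
    constructor
    · intro h
      refine ⟨⟨s, hs⟩, ?_⟩
      by_contra hne
      have h3 : Fintype.card F₀ % 4 = 3 := by omega
      exact not_isSquare_mul_of h2 (hcsq.2 h3) hc0 hlns h
    · rintro ⟨-, h1'⟩
      have hcns : ¬ IsSquare c := by
        intro h
        have := hcsq.1 h
        omega
      exact isSquare_mul_of_not h2 hcns hlns

end Eval

end Cfsg.Agent.Lib.Helper5.OFld
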