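import Mathlib
import Cfsg.Agent.Lib.Helper5.OFld51

set_option autoImplicit false

/-! The centralizer of the standard involutory graph-field automorphism of the plus type groups
in the inner-diagonal group meets at most two cosets of the inner automorphism group. -/

namespace Cfsg.Agent.Lib.Helper5.OFld

open Matrix Module Cfsg.Agent.Lib.Helper5.PGO Cfsg.Agent.Lib.Helper5.OAut
open Cfsg.Agent.Lib.Helper5.PSLCoset Cfsg.Agent.Lib.Helper5.SplitConj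
open Cfsg.Agent.Lib.Helper2 Cfsg.Agent.Lib.Helper2.CDG Cfsg.Agent.Lib.Helper2.OrthCard
open Cfsg.Agent.Lib.Helper5.OrthCls Cfsg.Agent.Lib.Helper5.MaxTS
open Cfsg.Agent.Lib.Helper5.QuadGlue Cfsg.Agent.Lib.Helper2.QuadStd
open Cfsg.Agent.Lib.Helper5.SpinorDiag Cfsg.Agent.Lib.Helper5.PlusLevi
open Cfsg.Agent.Lib.Helper5.PSpField Cfsg.Agent.Lib.Helper2.Dickson
open Cfsg.Agent.Lib.Helper5.OmegaCrit Cfsg.Agent.Lib.Helper2.Spinor

section Cosets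
variable {F F₀ : Type*} [Field F] [Fintype F] [DecidableEq F] [Field F₀] [Fintype F₀]
  [DecidableEq F₀] {k : ℕ}

set_option maxHeartbeats 1600000 in
/-- every element of the centralizer is inner, or inner after multiplication by the inverse of
the explicit diagonal element -/
theorem xstar_cent_cosets (h2 : (2 : F) ≠ 0) (hk : 4 ≤ k) (σ : F ≃+* F) (hσ : orderOf σ = 2)
    (ι₀ : F₀ →+* F) (hι : ∀ a, σ a = a ↔ a ∈ Set.range ι₀) (hsq : ∀ a : F₀, IsSquare (ι₀ a))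
    (ν₀ : F₀ˣ) (hν₀ : ¬ IsSquare (ν₀ : F₀)) (l : Fˣ) (hl : (l : F) * σ (l : F) = ι₀ (ν₀ : F₀))
    (t : MulAut (Cfsg.POmega F ⇑(QP (k + 1) F)))
    (ht : t ∈ idg (QP (k + 1) F) (QP_ne_zero (Nat.le_add_left 1 k)) (k + 1) ⊓
      Subgroup.centralizer {xstar (Nat.le_add_left 1 k) σ}) :
    t ∈ Cfsg.Inn (Cfsg.POmega F ⇑(QP (k + 1) F)) ∨
      t * (Phi (⇑(QP (k + 1) F)) (gstar (Nat.le_add_left 1 k)
        (Units.map (ι₀ : F₀ →* F) ν₀) l))⁻¹ ∈ Cfsg.Inn (Cfsg.POmega F ⇑(QP (k + 1) F)) := by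
  have hm1 : 1 ≤ k + 1 := Nat.le_add_left 1 k
  obtain ⟨B, Q₀, hstd, hB, hQ₀nd, hcompat, hnp, hx⟩ :=
    xstar_model (m := k + 1) (by omega) σ hσ ι₀ hι
  have h2' : (2 : F₀) ≠ 0 := by
    intro h
    apply h2
    rw [← map_ofNat ι₀, h, map_zero]
  have hQ := QP_nondeg (F := F) (k + 1)
  have hn : 7 ≤ Fintype.card (Fin (k + 1) ⊕ Fin (k + 1)) := by rw [card_plus]; omega
  have hQ'' := twQ_nondeg hQ B
  have hQ0 := QP_ne_zero (F := F) hm1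
  have hQ0'' : ∃ v, twQ (QP (k + 1) F) B v ≠ 0 := exists_value_ne hQ'' (by omega)
  have hQ₀0 : ∃ v, Q₀ v ≠ 0 := exists_value_ne hQ₀nd (by omega)
  have htw : ∀ v, QP (k + 1) F ((B : Matrix _ _ F) *ᵥ v) = twQ (QP (k + 1) F) B v :=
    fun v => (twQ_apply B v).symm
  obtain ⟨Ψ, hΨ⟩ : ∃ Ψ : Cfsg.POmega F ⇑(twQ (QP (k + 1) F) B) ≃* Cfsg.POmega F ⇑(QP (k + 1) F),
      Ψ = psiT (Q := ⇑(QP (k + 1) F)) (Q' := ⇑(twQ (QP (k + 1) F) B)) B htw := ⟨_, rfl⟩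
  rw [← hΨ] at hx
  have hidg : (idg (twQ (QP (k + 1) F) B) hQ0'' (k + 1)).map (MulAut.congr Ψ).toMonoidHom =
      idg (QP (k + 1) F) hQ0 (k + 1) := by
    rw [hΨ]
    exact congr_psiT_idg hQ0 hQ0'' (k + 1) B _
  have hinn : (Cfsg.Inn (Cfsg.POmega F ⇑(twQ (QP (k + 1) F) B))).map
      (MulAut.congr Ψ).toMonoidHom = Cfsg.Inn (Cfsg.POmega F ⇑(QP (k + 1) F)) := map_congr_inn Ψ
  -- pull `t` back to the twisted model
  obtain ⟨ht1, ht2⟩ := Subgroup.mem_inf.1 ht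
  rw [← hidg] at ht1
  obtain ⟨t'', ht''I, rfl⟩ := ht1
  have ht''C : t'' ∈ Subgroup.centralizer {PhiS 1 σ hstd} := by
    rw [Subgroup.mem_centralizer_iff] at ht2 ⊢
    intro y hy
    rw [Set.mem_singleton_iff] at hy
    subst hy
    apply (MulAut.congr Ψ).injective
    rw [map_mul, map_mul]
    have := ht2 (xstar hm1 σ) rfl
    rw [hx] at this
    exact this
  obtain ⟨c₀, hc₀, hc₀t⟩ := mem_centralizer_sub hQ'' hn hι 2 hσ two_pos hcompat hstd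
    (GOp (twQ (QP (k + 1) F) B) hQ0'' (k + 1)) (GOp Q₀ hQ₀0 (k + 1))
    (fun g₀ => by
      unfold GOp
      rw [MonoidHom.mem_ker, MonoidHom.mem_ker]
      exact epsHom_embGO_iff hQ0'' hQ₀0 hcompat (k + 1) g₀)
    (by
      rintro _ ⟨c, rfl⟩
      unfold GOp
      rw [MonoidHom.mem_ker]
      exact eps_scal hQ0'' (card_plus (k + 1)) c)
    t'' (Subgroup.mem_inf.2 ⟨ht''I, ht''C⟩)
  have hc₀eps : epsHom Q₀ hQ₀0 (k + 1) c₀ = 1 := hc₀
  -- the explicit element in the twisted model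
  obtain ⟨ν, hν⟩ : ∃ ν : Fˣ, ν = Units.map (ι₀ : F₀ →* F) ν₀ := ⟨_, rfl⟩
  have hνval : (ν : F) = ι₀ (ν₀ : F₀) := by rw [hν]; rfl
  rw [← hν]
  have hνfix : σ (ν : F) = ν := by
    rw [hνval]
    exact (hι _).2 ⟨_, rfl⟩
  have hcomm := gstar_comm hm1 σ ν l hνfix (by rw [hνval]; exact hl)
  obtain ⟨g'', hg''⟩ : ∃ g'' : ↥(GO (⇑(twQ (QP (k + 1) F) B))),
      g'' = (conjGOIso (Q := ⇑(QP (k + 1) F)) (Q' := ⇑(twQ (QP (k + 1) F) B)) B htw).symm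
        (gstar hm1 ν l) := ⟨_, rfl⟩
  have hg''conj : conjGOIso (Q := ⇑(QP (k + 1) F)) (Q' := ⇑(twQ (QP (k + 1) F) B)) B htw g'' =
      gstar hm1 ν l := by
    rw [hg'', MulEquiv.apply_symm_apply]
  have hg''coe : (g'' : GL (Fin (k + 1) ⊕ Fin (k + 1)) F) =
      B⁻¹ * ((gstar hm1 ν l : ↥(GO (⇑(QP (k + 1) F)))) : GL _ F) * B := by
    have h1 := congrArg (fun z : ↥(GO (⇑(QP (k + 1) F))) =>
      (z : GL (Fin (k + 1) ⊕ Fin (k + 1)) F)) hg''conj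
    simp only [conjGOIso_coe] at h1
    rw [← h1]
    group
  have hg''fix : mapGL σ (g'' : GL (Fin (k + 1) ⊕ Fin (k + 1)) F) = g'' := by
    have hσB : mapGL σ B = (rstar hm1)⁻¹ * B := by
      rw [eq_inv_mul_iff_mul_eq]
      exact hB
    have hσg : mapGL σ ((gstar hm1 ν l : ↥(GO (⇑(QP (k + 1) F)))) : GL _ F) =
        (rstar hm1)⁻¹ * ((gstar hm1 ν l : ↥(GO (⇑(QP (k + 1) F)))) : GL _ F) * rstar hm1 := by
      calc mapGL σ ((gstar hm1 ν l : ↥(GO (⇑(QP (k + 1) F)))) : GL _ F)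
          = (rstar hm1)⁻¹ * (rstar hm1 *
            mapGL σ ((gstar hm1 ν l : ↥(GO (⇑(QP (k + 1) F)))) : GL _ F)) := by group
        _ = (rstar hm1)⁻¹ * (((gstar hm1 ν l : ↥(GO (⇑(QP (k + 1) F)))) : GL _ F) *
            rstar hm1) := by rw [hcomm]
        _ = _ := by group
    rw [hg''coe, map_mul, map_mul, map_inv, hσB, hσg]
    group
  obtain ⟨h₀, hh₀⟩ := exists_embGO_of_fixed hι hcompat hQ₀0 g'' hg''fix
  have hmu'' : mu (⇑(twQ (QP (k + 1) F) B)) g'' = ν := by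
    rw [← mu_conjGOIso hQ0 B htw g'', hg''conj, mu_gstar]
  have hmuh₀ : (mu (⇑Q₀) h₀ : F₀) = ν₀ := by
    apply ι₀.injective
    rw [← mu_embGO hQ0'' hcompat h₀, hh₀, hmu'', hνval]
  have hepsh₀ : epsHom Q₀ hQ₀0 (k + 1) h₀ = 1 := by
    rw [← epsHom_embGO_iff hQ0'' hQ₀0 hcompat (k + 1) h₀, hh₀,
      ← epsHom_conjGOIso hQ0 hQ0'' (k + 1) B htw g'', hg''conj]
    exact gstar_mem_GOp hm1 ν l
  have hPhig : MulAut.congr Ψ (Phi (⇑(twQ (QP (k + 1) F) B)) g'') =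
      Phi (⇑(QP (k + 1) F)) (gstar hm1 ν l) := by
    rw [hΨ, congr_psiT_Phi, hg''conj]
  have hmapinn : ∀ z : MulAut (Cfsg.POmega F ⇑(twQ (QP (k + 1) F) B)),
      z ∈ Cfsg.Inn (Cfsg.POmega F ⇑(twQ (QP (k + 1) F) B)) →
      MulAut.congr Ψ z ∈ Cfsg.Inn (Cfsg.POmega F ⇑(QP (k + 1) F)) := by
    intro z hz
    rw [← hinn]
    exact ⟨z, hz, rfl⟩
  by_cases hsqc : IsSquare (mu (⇑Q₀) c₀ : F₀)
  · left
    show MulAut.congr Ψ t'' ∈ _
    apply hmapinn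
    rw [hc₀t]
    exact Phi_embGO_mem_inn_of_sq h2 h2' hQ'' hQ₀nd (card_plus (k + 1)) (by omega) hcompat hQ₀0
      hsq c₀ hsqc hc₀eps
  · right
    show MulAut.congr Ψ t'' * _ ∈ _
    rw [← hPhig, ← map_inv, ← map_mul]
    apply hmapinn
    rw [hc₀t, ← hh₀, ← map_inv, ← map_mul, ← map_inv, ← map_mul]
    apply Phi_embGO_mem_inn_of_sq h2 h2' hQ'' hQ₀nd (card_plus (k + 1)) (by omega) hcompat hQ₀0
      hsq
    · have h1 := map_mul (muHom (⇑Q₀) hQ₀0) c₀ h₀⁻¹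
      rw [map_inv] at h1
      simp only [muHom_apply] at h1
      rw [h1, Units.val_mul, Units.val_inv_eq_inv_val, hmuh₀]
      have hν₀' : ¬ IsSquare ((ν₀ : F₀))⁻¹ := by
        intro h
        apply hν₀
        have := h.inv
        rwa [inv_inv] at this
      exact isSquare_mul_of_not h2' hsqc hν₀'
    · rw [map_mul, map_inv, hc₀eps, hepsh₀, inv_one, mul_one]

end Cosets

end Cfsg.Agent.Lib.Helper5.OFld
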