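import Mathlib
import Cfsg.Agent.Lib.Helper5.OFld52

set_option autoImplicit false

/-! The number of classes of the simple group into which the class of the standard involutory
graph-field automorphism of the plus type groups under the inner-diagonal group splits. -/

namespace Cfsg.Agent.Lib.Helper5.OFld

open Matrix Module Cfsg.Agent.Lib.Helper5.PGO Cfsg.Agent.Lib.Helper5.OAut
open Cfsg.Agent.Lib.Helper5.PSLCoset Cfsg.Agent.Lib.Helper5.SplitConj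
open Cfsg.Agent.Lib.Helper2 Cfsg.Agent.Lib.Helper2.CDG Cfsg.Agent.Lib.Helper2.OrthCard
open Cfsg.Agent.Lib.Helper5.OrthCls Cfsg.Agent.Lib.Helper5.MaxTS
open Cfsg.Agent.Lib.Helper5.QuadGlue Cfsg.Agent.Lib.Helper2.QuadStd
open Cfsg.Agent.Lib.Helper5.SpinorDiag Cfsg.Agent.Lib.Helper5.PlusLevi
open Cfsg.Agent.Lib.Helper5.PSpField Cfsg.Agent.Lib.Helper2.Dickson
open Cfsg.Agent.Lib.Helper5.OmegaCrit Cfsg.Agent.Lib.Helper2.Spinor

section Split
variable {F F₀ : Type*} [Field F] [Fintype F] [Field F₀] [Fintype F₀] {k : ℕ}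

theorem Phi_gstar_comm_xstar [DecidableEq F] {m : ℕ} (hm : 1 ≤ m) (σ : F ≃+* F) (ν l : Fˣ)
    (hν : σ (ν : F) = ν) (hl : (l : F) * σ (l : F) = ν) :
    Phi (⇑(QP m F)) (gstar hm ν l) * xstar hm σ = xstar hm σ * Phi (⇑(QP m F)) (gstar hm ν l) := by
  have hcomm := gstar_comm hm σ ν l hν hl
  rw [xstar_eq hm σ, Phi_mul_PhiS (gstar hm ν l) (rstar_pair hm σ)
    (pair_GO_mul (gstar hm ν l) (rstar_pair hm σ)),
    ← PhiS_one_eq (gstar hm ν l) (pair_of_GO (gstar hm ν l)), PhiS_mul]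
  exact PhiS_congr hcomm (mul_one σ).symm _ _

set_option maxHeartbeats 1600000 in
/-- the class of the standard involutory graph-field automorphism splits into four or two
classes in odd characteristic -/
theorem xstar_split (h2 : (2 : F) ≠ 0) (hk : 4 ≤ k) (σ : F ≃+* F) (hσ : orderOf σ = 2)
    (ι₀ : F₀ →+* F) (hι : ∀ a, σ a = a ↔ a ∈ Set.range ι₀)
    (hcard : Fintype.card F = Fintype.card F₀ ^ 2) :
    ((Odd (k + 1) ∧ Fintype.card F₀ % 4 = 1) →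
      Cfsg.splitClassCount (inndiagQ (⇑(QP (k + 1) F))) (Cfsg.Inn (Cfsg.POmega F ⇑(QP (k + 1) F)))
        (xstar (Nat.le_add_left 1 k) σ) = 4) ∧
    (¬ (Odd (k + 1) ∧ Fintype.card F₀ % 4 = 1) →
      Cfsg.splitClassCount (inndiagQ (⇑(QP (k + 1) F))) (Cfsg.Inn (Cfsg.POmega F ⇑(QP (k + 1) F)))
        (xstar (Nat.le_add_left 1 k) σ) = 2) := by
  classical
  have hm1 : 1 ≤ k + 1 := Nat.le_add_left 1 k
  have h2' : (2 : F₀) ≠ 0 := by
    intro h
    apply h2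
    rw [← map_ofNat ι₀, h, map_zero]
  have hQ := QP_nondeg (F := F) (k + 1)
  have hn : 7 ≤ Fintype.card (Fin (k + 1) ⊕ Fin (k + 1)) := by rw [card_plus]; omega
  have hQ0 := QP_ne_zero (F := F) hm1
  have hσσ : σ * σ = 1 := by
    rw [← pow_two, ← hσ]
    exact pow_orderOf_eq_one σ
  have hsq : ∀ a : F₀, IsSquare (ι₀ a) := isSquare_map_of_card_sq h2 hcard
  -- the index of the inner automorphism group
  have hodd₀ : Fintype.card F₀ % 2 = 1 :=
    FiniteField.odd_card_of_char_ne_two (ringChar_ne_two_of h2')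
  have hq4 : Fintype.card F % 4 = 1 := by
    rw [hcard, pow_two, Nat.mul_mod]
    have : Fintype.card F₀ % 4 = 1 ∨ Fintype.card F₀ % 4 = 3 := by omega
    rcases this with h | h <;> rw [h]
  have hqodd : Odd (Fintype.card F) := by
    rw [Nat.odd_iff]
    omega
  have hneg : negOne (QP (k + 1) F) ∈ commutator ↥(Cfsg.isometryGroup F ⇑(QP (k + 1) F)) := by
    rw [negOne_plus_iff' rfl hqodd hm1]
    rintro ⟨-, h⟩
    omega
  have hidx := relIndex_inn_idg_of_mem hQ hQ0 (card_plus (k + 1)) h2 hn (chi_surj_plus hm1 h2) hneg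
  have hInnI := inn_le_idg hQ hQ0 (card_plus (k + 1)) h2 (by omega : 2 ≤ _)
  haveI : (Cfsg.Inn (Cfsg.POmega F ⇑(QP (k + 1) F))).Normal := inn_normal _
  rw [inndiagQ_plus hm1 h2, splitClassCount_sub _ _ hInnI]
  -- the explicit element
  obtain ⟨ν₀, hν₀⟩ := exists_nonsquare_unit (F := F₀) h2'
  obtain ⟨ν, hν⟩ : ∃ ν : Fˣ, ν = Units.map (ι₀ : F₀ →* F) ν₀ := ⟨_, rfl⟩
  have hνval : (ν : F) = ι₀ (ν₀ : F₀) := by rw [hν]; rfl
  have hνfix : σ (ν : F) = ν := by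
    rw [hνval]
    exact (hι _).2 ⟨_, rfl⟩
  obtain ⟨l₁, hl₁0, hl₁⟩ := exists_nrm_eq σ 2 hσ two_pos (ν : F) ν.ne_zero hνfix
  have hl₁' : l₁ * σ l₁ = ν := by
    rw [← hl₁, nrm_succ, nrm_succ, nrm_zero, map_one, mul_one]
  obtain ⟨l, hl⟩ : ∃ l : Fˣ, (l : F) = l₁ := ⟨Units.mk0 l₁ hl₁0, rfl⟩
  rw [← hl] at hl₁'
  obtain ⟨c₁, hc₁⟩ := hsq (ν₀ : F₀)
  have hc₁0 : c₁ ≠ 0 := by
    rintro rfl
    rw [mul_zero, ← hνval] at hc₁
    exact ν.ne_zero hc₁
  obtain ⟨c, hc⟩ : ∃ c : Fˣ, (c : F) = c₁ := ⟨Units.mk0 c₁ hc₁0, rfl⟩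
  have hνcc : ν = c * c := by
    apply Units.ext
    rw [Units.val_mul, hc, hνval, hc₁]
  have hγinn : Phi (⇑(QP (k + 1) F)) (gstar hm1 ν l) ∈ Cfsg.Inn (Cfsg.POmega F ⇑(QP (k + 1) F)) ↔
      (Odd (k + 1) ∧ Fintype.card F₀ % 4 = 1) := by
    rw [hνcc, Phi_gstar_mem_inn_iff h2 (by omega) hneg c l]
    exact gstar_crit_eval h2 ι₀ σ hι hσσ hcard (k + 1) (c : F) (l : F) (ν₀ : F₀) hν₀
      (by rw [hc, hc₁]) (by rw [hl₁', hνval])
  have hγI : Phi (⇑(QP (k + 1) F)) (gstar hm1 ν l) ∈ idg (QP (k + 1) F) hQ0 (k + 1) :=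
    ⟨_, gstar_mem_GOp hm1 ν l, rfl⟩
  have hγC : Phi (⇑(QP (k + 1) F)) (gstar hm1 ν l) ∈ Subgroup.centralizer {xstar hm1 σ} := by
    rw [Subgroup.mem_centralizer_iff]
    intro y hy
    rw [Set.mem_singleton_iff] at hy
    subst hy
    exact (Phi_gstar_comm_xstar hm1 σ ν l hνfix hl₁').symm
  have hKP := fun t ht => xstar_cent_cosets h2 hk σ hσ ι₀ hι hsq ν₀ hν₀ l
    (by rw [hl₁', hνval]) t ht
  rw [← hν] at hKP
  constructor
  · intro hA
    have hγ := hγinn.2 hA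
    rw [index_sup_of_le]
    · exact hidx
    · rintro ⟨t, htI⟩ htC
      rw [Subgroup.mem_subgroupOf] at htC ⊢
      rcases hKP t (Subgroup.mem_inf.2 ⟨htI, htC⟩) with h | h
      · exact h
      · have : t = t * (Phi (⇑(QP (k + 1) F)) (gstar hm1 ν l))⁻¹ *
            Phi (⇑(QP (k + 1) F)) (gstar hm1 ν l) := by group
        show t ∈ _
        rw [this]
        exact Subgroup.mul_mem _ h hγ
  · intro hB
    have hγ : Phi (⇑(QP (k + 1) F)) (gstar hm1 ν l) ∉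
        Cfsg.Inn (Cfsg.POmega F ⇑(QP (k + 1) F)) := fun h => hB (hγinn.1 h)
    haveI : ((Cfsg.Inn (Cfsg.POmega F ⇑(QP (k + 1) F))).subgroupOf
        (idg (QP (k + 1) F) hQ0 (k + 1))).Normal := Subgroup.Normal.subgroupOf inferInstance _
    apply index_sup_eq_two _ _ hidx ⟨Phi (⇑(QP (k + 1) F)) (gstar hm1 ν l), hγI⟩
    · rw [Subgroup.mem_subgroupOf]
      exact hγC
    · rw [Subgroup.mem_subgroupOf]
      exact hγ
    · rintro ⟨t, htI⟩ htC
      rw [Subgroup.mem_subgroupOf] at htC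
      rw [Subgroup.mem_subgroupOf, Subgroup.mem_subgroupOf]
      exact hKP t (Subgroup.mem_inf.2 ⟨htI, htC⟩)

end Split

end Cfsg.Agent.Lib.Helper5.OFld
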