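import Mathlib
import Cfsg.Agent.Lib.Helper5.OFld53

set_option autoImplicit false

/-! Involutory graph-field automorphisms of the plus type orthogonal groups: main theorem. -/

namespace Cfsg.Agent.Lib.Helper5.OFld

open Matrix Module Cfsg.Agent.Lib.Helper5.PGO Cfsg.Agent.Lib.Helper5.OAut
open Cfsg.Agent.Lib.Helper5.PSLCoset Cfsg.Agent.Lib.Helper5.SplitConj
open Cfsg.Agent.Lib.Helper2 Cfsg.Agent.Lib.Helper2.CDG Cfsg.Agent.Lib.Helper2.OrthCard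
open Cfsg.Agent.Lib.Helper5.OrthCls Cfsg.Agent.Lib.Helper5.MaxTS
open Cfsg.Agent.Lib.Helper5.QuadGlue Cfsg.Agent.Lib.Helper2.QuadStd
open Cfsg.Agent.Lib.Helper5.SpinorDiag Cfsg.Agent.Lib.Helper5.PlusLevi

section Main
variable {F : Type*} [Field F] [Fintype F] {m : ℕ}

/-- an involutory graph-field automorphism is conjugate under the inner-diagonal group to a
standard one -/
theorem exists_xstar_conj (hm : 5 ≤ m) (z : MulAut (Cfsg.POmega F ⇑(QP m F)))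
    (hz : IsGraphFieldQP m z) (hz2 : orderOf z = 2) :
    ∃ σ : F ≃+* F, orderOf σ = 2 ∧
      Cfsg.IsConjUnder (inndiagQ (⇑(QP m F))) (xstar (by omega) σ) z := by
  obtain ⟨α, σ, v, hv, hσ1, hfix, hαz⟩ := graphfield_std_form z hz
  have hzz : z ^ 2 = 1 := by rw [← hz2]; exact pow_orderOf_eq_one z
  have hsq : (Phi (⇑(QP m F)) (incl (⇑(QP m F)) (refl (QP m F) v hv)) *
      PhiS 1 σ (pair_std (galInv_QP m) σ)) ^ 2 = 1 := by
    rw [← hαz, conj_pow, hzz, mul_one, mul_inv_cancel]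
  have hσ := sigma_sq_of_std hm σ _ hsq
  have hσ2 : orderOf σ = 2 := by
    apply orderOf_eq_prime
    · rw [pow_two]; exact hσ
    · exact hσ1
  refine ⟨σ, hσ2, ?_⟩
  obtain ⟨k, hk, hk'⟩ := refl_std_conj_xstar hm σ hσ1 hσ v hv hfix
  have hz' : z = (α⁻¹ * k⁻¹) * xstar (by omega) σ * (α⁻¹ * k⁻¹)⁻¹ := by
    rw [hk', ← hαz]
    group
  rw [hz']
  exact conj_xstar hm σ _

set_option maxHeartbeats 800000 in
/-- involutory graph-field automorphisms of the plus type groups -/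
theorem plus_graphfield_involution {p f : ℕ} [Fact p.Prime] (hF : Fintype.card F = p ^ f)
    (hf : 1 ≤ f) {k : ℕ} (hk : 4 ≤ k) (x : MulAut (Cfsg.POmega F ⇑(QP (k + 1) F)))
    (hx : IsGraphFieldQP (k + 1) x) (hx2 : orderOf x = 2)
    (F₀ : Type*) [Field F₀] [Fintype F₀] (hF₀ : Fintype.card F₀ = p ^ (f / 2)) :
    Even f ∧
    (∀ y : MulAut (Cfsg.POmega F ⇑(QP (k + 1) F)), IsGraphFieldQP (k + 1) y → orderOf y = 2 →
      Cfsg.IsConjUnder (inndiagQ (⇑(QP (k + 1) F))) x y) ∧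
    (∃ a₀ b₀ : F₀, (∀ z₁ z₂ : F₀, z₁ ^ 2 + a₀ * z₁ * z₂ + b₀ * z₂ ^ 2 = 0 → z₁ = 0 ∧ z₂ = 0) ∧
      Nonempty (↥(inndiagQ (⇑(QP (k + 1) F)) ⊓ Subgroup.centralizer {x}) ≃*
        ↥(inndiagQM (⇑(QMn k a₀ b₀)) (Cfsg.PreservesSingularClassesMinus k a₀ b₀)))) ∧
    (p = 2 → Cfsg.splitClassCount (inndiagQ (⇑(QP (k + 1) F)))
      (Cfsg.Inn (Cfsg.POmega F ⇑(QP (k + 1) F))) x = 1) ∧
    ((p ≠ 2 ∧ Odd (k + 1) ∧ p ^ (f / 2) % 4 = 1) →
      Cfsg.splitClassCount (inndiagQ (⇑(QP (k + 1) F)))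
        (Cfsg.Inn (Cfsg.POmega F ⇑(QP (k + 1) F))) x = 4) ∧
    ((p ≠ 2 ∧ ¬ (Odd (k + 1) ∧ p ^ (f / 2) % 4 = 1)) →
      Cfsg.splitClassCount (inndiagQ (⇑(QP (k + 1) F)))
        (Cfsg.Inn (Cfsg.POmega F ⇑(QP (k + 1) F))) x = 2) := by
  classical
  have hm : 5 ≤ k + 1 := by omega
  have hm1 : 1 ≤ k + 1 := Nat.le_add_left 1 k
  obtain ⟨σ, hσ, k₁, hk₁, hxk⟩ := exists_xstar_conj hm x hx hx2
  obtain ⟨hdvd, -⟩ := card_fixed hF σ 2 hσ two_pos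
  have heven : Even f := (even_iff_two_dvd).2 hdvd
  obtain ⟨ι₀, hι⟩ := exists_embedding_fixed hF σ 2 hσ two_pos F₀ hF₀
  obtain ⟨hI, hIle, hmul, hrefl⟩ := inndiagQ_plus_props (F := F) hm
  haveI := hI
  haveI : (Cfsg.Inn (Cfsg.POmega F ⇑(QP (k + 1) F))).Normal := inn_normal _
  have hcard : Fintype.card F = Fintype.card F₀ ^ 2 := by
    rw [hF, hF₀, ← pow_mul]
    congr 1
    obtain ⟨s, hs⟩ := heven
    omega
  refine ⟨heven, fun y hy hy2 => graphfield_involutions_conj hm x y hx hy hx2 hy2, ?_, ?_, ?_, ?_⟩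
  · obtain ⟨a₀, b₀, hab, ⟨e⟩⟩ := xstar_centralizer hk σ hσ ι₀ hι
    refine ⟨a₀, b₀, hab, ?_⟩
    obtain ⟨e'⟩ := centralizer_conj_equiv' (inndiagQ (⇑(QP (k + 1) F))) k₁ (xstar hm1 σ)
    rw [← hxk] at e'
    exact ⟨e'.trans e⟩
  · intro hp2
    subst hp2
    haveI := PSL2Aut.charP_of_card hf hF
    have h2 : (2 : F) = 0 := by
      have := CharP.cast_eq_zero F 2
      exact_mod_cast this
    apply splitClassCount_eq_one
    rw [inndiagQ_plus_two h2 (by omega)]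
    exact fun y hy => hy
  · rintro ⟨hp, hodd, h4⟩
    have h2 : (2 : F) ≠ 0 := two_ne_zero_of_odd hf hF hp
    rw [hxk, splitClassCount_conj]
    exact (xstar_split h2 hk σ hσ ι₀ hι hcard).1 ⟨hodd, by rw [hF₀]; exact h4⟩
  · rintro ⟨hp, hno⟩
    have h2 : (2 : F) ≠ 0 := two_ne_zero_of_odd hf hF hp
    rw [hxk, splitClassCount_conj]
    exact (xstar_split h2 hk σ hσ ι₀ hι hcard).2 (by rw [hF₀]; exact hno)

end Main

end Cfsg.Agent.Lib.Helper5.OFld
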