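import Mathlib
import Cfsg.Agent.Lib.Helper5.OFld54

set_option autoImplicit false

/-! Two quadrics with the same singular vectors; the determinant of a matrix whose square is a
scalar. -/

namespace Cfsg.Agent.Lib.Helper5.OFld

open Module QuadraticMap Polynomial

section TwoQuadrics
variable {F : Type*} [Field F] {V : Type*} [AddCommGroup V] [Module F V]

theorem map_lin3' (Q : QuadraticForm F V) (s t : F) (w e f : V) :
    Q (w + s • e + t • f) = Q w + Q e * s ^ 2 + Q f * t ^ 2 + polar Q w e * s + polar Q w f * t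
      + polar Q e f * s * t := by
  have := Cfsg.Agent.Lib.Helper5.map_lin3 Q 1 s t w e f
  rw [one_smul] at this
  rw [this]
  ring

/-- a quadratic form vanishing on the singular vectors of a nondegenerate form of dimension at
least five over a finite field of odd characteristic is proportional to it -/
theorem prop_of_vanish [Finite F] [FiniteDimensional F V] (h2 : (2 : F) ≠ 0)
    (Q₁ Q₂ : QuadraticForm F V) (hQ₁ : (polarBilin Q₁).Nondegenerate)
    (hdim : 5 ≤ finrank F V) (hv : ∀ v, Q₁ v = 0 → Q₂ v = 0) :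
    ∃ c : F, ∀ v, Q₂ v = c * Q₁ v := by
  obtain ⟨k, e, f, W, hH, hmem, hd, hW2, haniso⟩ := Cfsg.Agent.Lib.Helper5.exists_witt Q₁ hQ₁
  have hk : 2 ≤ k := by omega
  set e₀ := e ⟨0, by omega⟩ with he₀
  set f₀ := f ⟨0, by omega⟩ with hf₀
  set e₁ := e ⟨1, by omega⟩ with he₁
  set f₁ := f ⟨1, by omega⟩ with hf₁
  have h01 : (⟨0, by omega⟩ : Fin k) ≠ ⟨1, by omega⟩ := by
    intro h; simpa using congrArg Fin.val h
  have h10 : (⟨1, by omega⟩ : Fin k) ≠ ⟨0, by omega⟩ := fun h => h01 h.symm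
  have qe₀ : Q₁ e₀ = 0 := hH.qe _
  have qf₀ : Q₁ f₀ = 0 := hH.qf _
  have qe₁ : Q₁ e₁ = 0 := hH.qe _
  have qf₁ : Q₁ f₁ = 0 := hH.qf _
  have b_e₀f₀ : polar Q₁ e₀ f₀ = 1 := by rw [hH.ef, if_pos rfl]
  have b_e₁f₁ : polar Q₁ e₁ f₁ = 1 := by rw [hH.ef, if_pos rfl]
  have b_e₀f₁ : polar Q₁ e₀ f₁ = 0 := by rw [hH.ef, if_neg h01]
  have b_e₁f₀ : polar Q₁ e₁ f₀ = 0 := by rw [hH.ef, if_neg h10]
  have b_e₀e₁ : polar Q₁ e₀ e₁ = 0 := hH.ee _ _
  have b_f₀f₁ : polar Q₁ f₀ f₁ = 0 := hH.ff _ _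
  have pc : ∀ x y : V, polar Q₁ x y = polar Q₁ y x := fun x y => polar_comm _ _ _
  have pc2 : ∀ x y : V, polar Q₂ x y = polar Q₂ y x := fun x y => polar_comm _ _ _
  have q2e₀ : Q₂ e₀ = 0 := hv _ qe₀
  have q2f₀ : Q₂ f₀ = 0 := hv _ qf₀
  have q2e₁ : Q₂ e₁ = 0 := hv _ qe₁
  have q2f₁ : Q₂ f₁ = 0 := hv _ qf₁
  set c := polar Q₂ e₀ f₀ with hc
  -- Z1
  have Z1 : ∀ w, polar Q₁ w e₀ = 0 → polar Q₁ w f₀ = 0 → Q₂ w = c * Q₁ w := by
    intro w hwe hwf
    have s1 : Q₁ (w + (1 : F) • e₀ + (-(Q₁ w)) • f₀) = 0 := by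
      rw [map_lin3', qe₀, qf₀, hwe, hwf, b_e₀f₀]; ring
    have s2 : Q₁ (w + (-1 : F) • e₀ + (Q₁ w) • f₀) = 0 := by
      rw [map_lin3', qe₀, qf₀, hwe, hwf, b_e₀f₀]; ring
    have t1 := hv _ s1
    have t2 := hv _ s2
    rw [map_lin3', q2e₀, q2f₀] at t1 t2
    have : (2 : F) * (Q₂ w - c * Q₁ w) = 0 := by
      rw [hc]; linear_combination t1 + t2
    rcases mul_eq_zero.1 this with h | h
    · exact absurd h h2
    · linear_combination h
  -- Z2
  have Z2 : ∀ s w : V, Q₁ s = 0 → Q₁ w = 0 → polar Q₁ s w = 0 → polar Q₂ s w = 0 := by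
    intro s w hs hw hsw
    have h1 : Q₁ (s + w) = 0 := by
      have := polar Q₁ s w
      have e1 : Q₁ (s + w) = Q₁ s + Q₁ w + polar Q₁ s w := by rw [polar]; ring
      rw [e1, hs, hw, hsw]; ring
    have h3 := hv _ h1
    have e2 : Q₂ (s + w) = Q₂ s + Q₂ w + polar Q₂ s w := by rw [polar]; ring
    rw [e2, hv _ hs, hv _ hw] at h3
    linear_combination h3
  -- Z3
  have Z3 : ∀ s : V, Q₁ s = 0 → polar Q₁ s e₁ = 0 → polar Q₁ s f₁ = 0 →
      ∀ w, polar Q₁ s w = 0 → polar Q₂ s w = 0 := by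
    intro s hs hse hsf w hsw
    set w' := w + (-(polar Q₁ w f₁)) • e₁ + (-(polar Q₁ w e₁)) • f₁ with hw'
    have hw'e : polar Q₁ w' e₁ = 0 := by
      rw [hw', polar_add_left, polar_add_left, polar_smul_left, polar_smul_left,
        polar_self_of_singular Q₁ qe₁, pc f₁ e₁, b_e₁f₁]
      simp only [smul_eq_mul]; ring
    have hw'f : polar Q₁ w' f₁ = 0 := by
      rw [hw', polar_add_left, polar_add_left, polar_smul_left, polar_smul_left,
        polar_self_of_singular Q₁ qf₁, b_e₁f₁]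
      simp only [smul_eq_mul]; ring
    have hsw' : polar Q₁ s w' = 0 := by
      rw [hw', polar_add_right, polar_add_right, polar_smul_right, polar_smul_right, hsw, hse, hsf]
      simp
    set u := w' + (1 : F) • e₁ + (-(Q₁ w')) • f₁ with hu
    have hu0 : Q₁ u = 0 := by
      rw [hu, map_lin3', qe₁, qf₁, hw'e, hw'f, b_e₁f₁]; ring
    have hsu : polar Q₁ s u = 0 := by
      rw [hu, polar_add_right, polar_add_right, polar_smul_right, polar_smul_right, hsw', hse, hsf]
      simp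
    have k1 := Z2 s u hs hu0 hsu
    have k2 := Z2 s e₁ hs qe₁ hse
    have k3 := Z2 s f₁ hs qf₁ hsf
    rw [hu, polar_add_right, polar_add_right, polar_smul_right, polar_smul_right, k2, k3] at k1
    have k4 : polar Q₂ s w' = 0 := by simpa using k1
    rw [hw', polar_add_right, polar_add_right, polar_smul_right, polar_smul_right, k2, k3] at k4
    simpa using k4
  refine ⟨c, fun x => ?_⟩
  set w := x + (-(polar Q₁ x f₀)) • e₀ + (-(polar Q₁ x e₀)) • f₀ with hw
  have hwe : polar Q₁ w e₀ = 0 := by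
    rw [hw, polar_add_left, polar_add_left, polar_smul_left, polar_smul_left,
      polar_self_of_singular Q₁ qe₀, pc f₀ e₀, b_e₀f₀]
    simp only [smul_eq_mul]; ring
  have hwf : polar Q₁ w f₀ = 0 := by
    rw [hw, polar_add_left, polar_add_left, polar_smul_left, polar_smul_left,
      polar_self_of_singular Q₁ qf₀, b_e₀f₀]
    simp only [smul_eq_mul]; ring
  have hx : x = w + (polar Q₁ x f₀) • e₀ + (polar Q₁ x e₀) • f₀ := by
    rw [hw]; simp only [neg_smul]; abel
  have fin : ∀ (w : V) (s t : F), polar Q₁ w e₀ = 0 → polar Q₁ w f₀ = 0 →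
      Q₂ (w + s • e₀ + t • f₀) = c * Q₁ (w + s • e₀ + t • f₀) := by
    intro w s t hwe hwf
    have z1 := Z1 w hwe hwf
    have z3e := Z3 e₀ qe₀ b_e₀e₁ b_e₀f₁ w (by rw [pc]; exact hwe)
    have z3f := Z3 f₀ qf₀ (by rw [pc]; exact b_e₁f₀) b_f₀f₁ w (by rw [pc]; exact hwf)
    rw [map_lin3', map_lin3', q2e₀, q2f₀, qe₀, qf₀, hwe, hwf, b_e₀f₀, pc2 w e₀, pc2 w f₀, z3e, z3f,
      z1, ← hc]
    ring
  have := fin w (polar Q₁ x f₀) (polar Q₁ x e₀) hwe hwf
  rw [← hx] at this
  exact this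

end TwoQuadrics

section CharpolyDet
variable {F : Type*} [Field F] {ι : Type*} [Fintype ι] [DecidableEq ι]

theorem irreducible_X_sq_sub_C (l : F) (hl : ¬ IsSquare l) : Irreducible (X ^ 2 - C l : F[X]) := by
  have hm : (X ^ 2 - C l : F[X]).Monic := monic_X_pow_sub_C l (by norm_num)
  have hd : (X ^ 2 - C l : F[X]).natDegree = 2 := natDegree_X_pow_sub_C
  rw [hm.irreducible_iff_roots_eq_zero_of_degree_le_three (by omega) (by omega)]
  rw [Multiset.eq_zero_iff_forall_notMem]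
  intro r hr
  rw [mem_roots hm.ne_zero, IsRoot.def, eval_sub, eval_pow, eval_X, eval_C] at hr
  exact hl ⟨r, by linear_combination -hr⟩

/-- the determinant of a matrix whose square is a nonsquare scalar -/
theorem det_of_sq_scalar (M : Matrix ι ι F) (l : F) (hM : M * M = Matrix.scalar ι l)
    (hl : ¬ IsSquare l) {n : ℕ} (hcard : Fintype.card ι = 2 * n) : M.det = (-l) ^ n := by
  set p : F[X] := X ^ 2 - C l with hp
  have hirr := irreducible_X_sq_sub_C l hl
  have hm : p.Monic := monic_X_pow_sub_C l (by norm_num)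
  have hd : p.natDegree = 2 := natDegree_X_pow_sub_C
  have hprod : M.charpoly * (Matrix.scalar ι (X : F[X]) + (C : F →+* F[X]).mapMatrix M).det =
      p ^ (2 * n) := by
    rw [Matrix.charpoly, Matrix.charmatrix, ← Matrix.det_mul]
    have hcomm : (C : F →+* F[X]).mapMatrix M * Matrix.scalar ι (X : F[X]) =
        Matrix.scalar ι (X : F[X]) * (C : F →+* F[X]).mapMatrix M :=
      ((Matrix.scalar_commute (X : F[X]) (fun r => Commute.all _ _)) _).symm.eq
    have e1 : (Matrix.scalar ι (X : F[X]) - (C : F →+* F[X]).mapMatrix M) *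
        (Matrix.scalar ι (X : F[X]) + (C : F →+* F[X]).mapMatrix M) = Matrix.scalar ι p := by
      have hMM : (C : F →+* F[X]).mapMatrix M * (C : F →+* F[X]).mapMatrix M =
          (C : F →+* F[X]).mapMatrix (M * M) := (map_mul _ _ _).symm
      have hXX : Matrix.scalar ι (X : F[X]) * Matrix.scalar ι (X : F[X]) =
          Matrix.scalar ι (X * X : F[X]) := (map_mul _ _ _).symm
      rw [sub_mul, mul_add, mul_add, hcomm, hMM, hM, hXX]
      have : (C : F →+* F[X]).mapMatrix (Matrix.scalar ι l) = Matrix.scalar ι (C l) := by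
        ext i j
        simp [Matrix.scalar_apply, Matrix.diagonal_apply]
        split_ifs <;> simp
      rw [this, hp, map_sub]
      rw [pow_two]
      abel
    rw [e1, Matrix.scalar_apply, Matrix.det_diagonal, Finset.prod_const, Finset.card_univ, hcard]
  have hdvd : M.charpoly ∣ p ^ (2 * n) := ⟨_, hprod.symm⟩
  obtain ⟨i, hi, hass⟩ := (dvd_prime_pow hirr.prime _).1 hdvd
  have heq : M.charpoly = p ^ i :=
    eq_of_monic_of_associated (Matrix.charpoly_monic M) (hm.pow i) hass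
  have hdeg : Fintype.card ι = 2 * i := by
    have h1 := Matrix.charpoly_natDegree_eq_dim M
    rw [heq, natDegree_pow, hd] at h1
    omega
  have hin : i = n := by omega
  rw [Matrix.det_eq_sign_charpoly_coeff, heq, hin, hcard, coeff_zero_eq_eval_zero, eval_pow, hp,
    eval_sub, eval_pow, eval_X, eval_C, pow_mul]
  norm_num

end CharpolyDet

section Invol
variable {F : Type*} [Field F] {ι : Type*} [Fintype ι] [DecidableEq ι]

/-- the `+1` eigenspace -/
def Vp (g : Matrix ι ι F) : Submodule F (ι → F) := LinearMap.ker (Matrix.toLin' g - 1)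
/-- the `-1` eigenspace -/
def Vm (g : Matrix ι ι F) : Submodule F (ι → F) := LinearMap.ker (Matrix.toLin' g + 1)

theorem mem_Vp (g : Matrix ι ι F) (x : ι → F) : x ∈ Vp g ↔ g.mulVec x = x := by
  rw [Vp, LinearMap.mem_ker, LinearMap.sub_apply, Matrix.toLin'_apply, Module.End.one_apply,
    sub_eq_zero]

theorem mem_Vm (g : Matrix ι ι F) (x : ι → F) : x ∈ Vm g ↔ g.mulVec x = -x := by
  rw [Vm, LinearMap.mem_ker, LinearMap.add_apply, Matrix.toLin'_apply, Module.End.one_apply,
    add_eq_zero_iff_eq_neg]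

theorem isCompl_Vp_Vm (h2 : (2 : F) ≠ 0) (g : Matrix ι ι F) (hg : g * g = 1) :
    IsCompl (Vp g) (Vm g) := by
  constructor
  · rw [Submodule.disjoint_def]
    intro x hp hm
    rw [mem_Vp] at hp
    rw [mem_Vm] at hm
    have h : (2 : F) • x = 0 := by
      rw [two_smul]
      nth_rewrite 1 [← hp]
      rw [hm]
      abel
    rcases smul_eq_zero.1 h with h | h
    · exact absurd h h2
    · exact h
  · rw [codisjoint_iff, eq_top_iff]
    intro x _
    have hgg : g.mulVec (g.mulVec x) = x := by rw [Matrix.mulVec_mulVec, hg, Matrix.one_mulVec]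
    refine Submodule.mem_sup.2 ⟨(2 : F)⁻¹ • (x + g.mulVec x), ?_, (2 : F)⁻¹ • (x - g.mulVec x), ?_, ?_⟩
    · rw [mem_Vp, Matrix.mulVec_smul, Matrix.mulVec_add, hgg, add_comm]
    · rw [mem_Vm, Matrix.mulVec_smul, Matrix.mulVec_sub, hgg, ← smul_neg, neg_sub]
    · rw [← smul_add]
      have : x + g.mulVec x + (x - g.mulVec x) = (2 : F) • x := by rw [two_smul]; abel
      rw [this, smul_smul, inv_mul_cancel₀ h2, one_smul]

theorem finrank_Vp_add_Vm (h2 : (2 : F) ≠ 0) (g : Matrix ι ι F) (hg : g * g = 1) :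
    finrank F ↥(Vp g) + finrank F ↥(Vm g) = Fintype.card ι := by
  have h := Submodule.finrank_add_eq_of_isCompl (isCompl_Vp_Vm h2 g hg)
  rw [Module.finrank_fintype_fun_eq_card] at h
  exact h

/-- the determinant of a linear combination of the two projections attached to an involution -/
theorem det_invol_comb (h2 : (2 : F) ≠ 0) (g : Matrix ι ι F) (hg : g * g = 1) (a b : F) :
    (((a + b) / 2) • (1 : Matrix ι ι F) + ((a - b) / 2) • g).det =
      a ^ finrank F ↥(Vp g) * b ^ finrank F ↥(Vm g) := by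
  set hc := isCompl_Vp_Vm h2 g hg
  set e := Submodule.prodEquivOfIsCompl (Vp g) (Vm g) hc with he
  set D : (↥(Vp g) × ↥(Vm g)) →ₗ[F] (↥(Vp g) × ↥(Vm g)) :=
    LinearMap.prodMap (a • LinearMap.id) (b • LinearMap.id) with hD
  set L := Matrix.toLin' (((a + b) / 2) • (1 : Matrix ι ι F) + ((a - b) / 2) • g) with hL
  have hconj : L = (e : (↥(Vp g) × ↥(Vm g)) →ₗ[F] (ι → F)) ∘ₗ D ∘ₗ
      (e.symm : (ι → F) →ₗ[F] (↥(Vp g) × ↥(Vm g))) := by
    apply LinearMap.ext
    intro x
    obtain ⟨⟨u, w⟩, rfl⟩ := e.surjective x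
    rw [LinearMap.comp_apply, LinearMap.comp_apply, LinearEquiv.coe_coe, LinearEquiv.coe_coe,
      LinearEquiv.symm_apply_apply, hD, LinearMap.prodMap_apply, he,
      Submodule.coe_prodEquivOfIsCompl', Submodule.coe_prodEquivOfIsCompl']
    simp only [LinearMap.smul_apply, LinearMap.id_apply, Submodule.coe_smul]
    rw [hL, Matrix.toLin'_apply, Matrix.mulVec_add, Matrix.add_mulVec, Matrix.add_mulVec,
      Matrix.smul_mulVec, Matrix.smul_mulVec, Matrix.smul_mulVec, Matrix.smul_mulVec,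
      Matrix.one_mulVec, Matrix.one_mulVec, (mem_Vp g _).1 u.2, (mem_Vm g _).1 w.2]
    rw [smul_neg, ← sub_eq_add_neg, ← add_smul, ← sub_smul]
    congr 2 <;> field_simp <;> ring
  rw [← LinearMap.det_toLin', ← hL, hconj, LinearMap.det_conj, hD, LinearMap.det_prodMap,
    LinearMap.det_smul, LinearMap.det_smul, LinearMap.det_id, mul_one, LinearMap.det_id, mul_one]


/-- the determinant of an involution -/
theorem det_invol (h2 : (2 : F) ≠ 0) (g : Matrix ι ι F) (hg : g * g = 1) :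
    g.det = (-1) ^ finrank F ↥(Vm g) := by
  have h := det_invol_comb h2 g hg 1 (-1)
  have e1 : ((1 + -1 : F) / 2) • (1 : Matrix ι ι F) + ((1 - -1 : F) / 2) • g = g := by
    have : ((1 - -1 : F) / 2) = 1 := by field_simp; ring
    rw [this, add_neg_cancel, zero_div, zero_smul, zero_add, one_smul]
  rw [e1, one_pow, one_mul] at h
  exact h

end Invol

end Cfsg.Agent.Lib.Helper5.OFld
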