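import Mathlib
import Cfsg.Agent.Lib.Helper5.OFld55

set_option autoImplicit false

/-! Similarities of a quadratic form whose square is a scalar and which are not in the connected
similarity group: an element of the special orthogonal group outside `Ω` commuting with them. -/

namespace Cfsg.Agent.Lib.Helper5.OFld

open Matrix Module QuadraticMap Cfsg.Agent.Lib.Helper5.PGO
open Cfsg.Agent.Lib.Helper2 Cfsg.Agent.Lib.Helper2.CDG Cfsg.Agent.Lib.Helper5.MaxTS

section SelfAdj
variable {F : Type*} [Field F] [Fintype F] {ι : Type} [Fintype ι] [DecidableEq ι]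
variable {Q : QuadraticForm F (ι → F)}

/-- the quadratic form `x ↦ B(x, M x)` -/
noncomputable def twistForm (Q : QuadraticForm F (ι → F)) (M : Matrix ι ι F) :
    QuadraticForm F (ι → F) :=
  LinearMap.BilinMap.toQuadraticMap ((polarBilin Q).compl₂ (Matrix.toLin' M))

omit [Fintype F] in
theorem twistForm_apply (M : Matrix ι ι F) (x : ι → F) :
    twistForm Q M x = polar (⇑Q) x (M *ᵥ x) := by
  rw [twistForm, LinearMap.BilinMap.toQuadraticMap_apply, LinearMap.compl₂_apply,
    Matrix.toLin'_apply]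
  rfl

omit [Fintype F] in
theorem polar_twistForm (M : Matrix ι ι F) (x y : ι → F) :
    polar (⇑(twistForm Q M)) x y = polar (⇑Q) x (M *ᵥ y) + polar (⇑Q) y (M *ᵥ x) := by
  unfold polar
  rw [twistForm_apply, twistForm_apply, twistForm_apply, Matrix.mulVec_add]
  simp only [polar_add_left, polar_add_right]
  unfold polar
  ring

/-- a self-adjoint invertible non-scalar map sends some nonsingular vector to its perp -/
theorem exists_perp_image (h2 : (2 : F) ≠ 0) (hQ : (polarBilin Q).Nondegenerate)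
    (hn : 5 ≤ Fintype.card ι) (M : Matrix ι ι F) (l : F) (hl : l ≠ 0)
    (hMM : ∀ x, M *ᵥ (M *ᵥ x) = l • x)
    (hadj : ∀ x y, polar (⇑Q) (M *ᵥ x) y = polar (⇑Q) x (M *ᵥ y))
    (hns : ¬ ∃ k : F, ∀ y, M *ᵥ y = k • y) :
    ∃ x, polar (⇑Q) x (M *ᵥ x) = 0 ∧ Q x ≠ 0 := by
  by_contra hcon
  push Not at hcon
  have hpol : ∀ x y, polar (⇑(twistForm Q M)) x y = 2 * polar (⇑Q) x (M *ᵥ y) := by
    intro x y
    rw [polar_twistForm, polar_comm (⇑Q) y, hadj]
    ring
  have hnd : (polarBilin (twistForm Q M)).Nondegenerate := by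
    constructor
    · intro x hx
      apply hQ.1 x
      intro z
      have h1 := hx (l⁻¹ • (M *ᵥ z))
      have h3 : (polarBilin (twistForm Q M)) x (l⁻¹ • (M *ᵥ z)) =
          polar (⇑(twistForm Q M)) x (l⁻¹ • (M *ᵥ z)) := rfl
      rw [h3, hpol, Matrix.mulVec_smul, hMM, smul_smul, inv_mul_cancel₀ hl, one_smul] at h1
      rcases mul_eq_zero.1 h1 with h | h
      · exact absurd h h2
      · exact h
    · intro y hy
      have h0 : M *ᵥ y = 0 := by
        apply hQ.2 (M *ᵥ y)
        intro x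
        have h1 := hy x
        have h3 : (polarBilin (twistForm Q M)) x y = polar (⇑(twistForm Q M)) x y := rfl
        rw [h3, hpol] at h1
        rcases mul_eq_zero.1 h1 with h | h
        · exact absurd h h2
        · exact h
      have := hMM y
      rw [h0, Matrix.mulVec_zero] at this
      rcases smul_eq_zero.1 this.symm with h | h
      · exact absurd h hl
      · exact h
  have hfr : 5 ≤ finrank F (ι → F) := by rw [Module.finrank_fintype_fun_eq_card]; exact hn
  obtain ⟨k, hk⟩ := prop_of_vanish h2 (twistForm Q M) Q hnd hfr (fun v hv => by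
    by_contra h
    exact h (hcon v (by rw [← twistForm_apply]; exact hv)))
  -- polar identity
  have hpk : ∀ x y, polar (⇑Q) x y = k * (2 * polar (⇑Q) x (M *ᵥ y)) := by
    intro x y
    rw [← hpol]
    unfold polar
    rw [hk, hk, hk]
    ring
  have hk0 : k ≠ 0 := by
    rintro rfl
    have : ∀ x : ι → F, x = 0 := fun x => hQ.1 x (fun y => by
      show polar (⇑Q) x y = 0
      rw [hpk]; ring)
    apply hns
    exact ⟨0, fun y => by rw [this y, Matrix.mulVec_zero, smul_zero]⟩
  apply hns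
  refine ⟨(2 * k)⁻¹, fun y => ?_⟩
  have hy : y - (2 * k) • (M *ᵥ y) = 0 := by
    apply hQ.2
    intro x
    show polar (⇑Q) x (y - (2 * k) • (M *ᵥ y)) = 0
    rw [polar_sub_right, polar_smul_right, hpk x y, smul_eq_mul]
    ring
  have h2k : (2 * k) ≠ 0 := mul_ne_zero h2 hk0
  have : y = (2 * k) • (M *ᵥ y) := sub_eq_zero.1 hy
  rw [eq_comm, inv_smul_eq_iff₀ h2k]
  exact this

end SelfAdj

section IsoInvol
variable {F : Type*} [Field F] [Fintype F] {ι : Type} [Fintype ι] [DecidableEq ι]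
variable {Q : QuadraticForm F (ι → F)}

set_option maxHeartbeats 800000 in
/-- an isometric involution other than `±1` has eigenvectors for `1` and `-1` whose norms have a
nonsquare product -/
theorem exists_eigen_nonsquare (h2 : (2 : F) ≠ 0) (hQ : (polarBilin Q).Nondegenerate)
    (hn : 5 ≤ Fintype.card ι) (G : Matrix ι ι F)
    (hGG : ∀ x, G *ᵥ (G *ᵥ x) = x) (hGQ : ∀ x, Q (G *ᵥ x) = Q x)
    (hne1 : ∃ x, G *ᵥ x ≠ x) (hne2 : ∃ x, G *ᵥ x ≠ -x) :
    ∃ u w, G *ᵥ u = u ∧ G *ᵥ w = -w ∧ Q u ≠ 0 ∧ Q w ≠ 0 ∧ ¬ IsSquare (Q u * Q w) := by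
  classical
  obtain ⟨ν, hν⟩ := exists_nonsquare_unit (F := F) h2
  set δ : F := (ν : F) with hδ
  have hδ0 : δ ≠ 0 := ν.ne_zero
  have hGp : ∀ x y, polar (⇑Q) (G *ᵥ x) (G *ᵥ y) = polar (⇑Q) x y := by
    intro x y
    unfold polar
    rw [← Matrix.mulVec_add, hGQ, hGQ, hGQ]
  have hadj : ∀ x y, polar (⇑Q) (G *ᵥ x) y = polar (⇑Q) x (G *ᵥ y) := by
    intro x y
    have := hGp x (G *ᵥ y)
    rw [hGG] at this
    exact this
  set Ap : (ι → F) →ₗ[F] (ι → F) := Matrix.toLin' (1 + G) with hAp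
  set Am : (ι → F) →ₗ[F] (ι → F) := Matrix.toLin' (1 - G) with hAm
  have hApx : ∀ x, Ap x = x + G *ᵥ x := fun x => by
    rw [hAp, Matrix.toLin'_apply, Matrix.add_mulVec, Matrix.one_mulVec]
  have hAmx : ∀ x, Am x = x - G *ᵥ x := fun x => by
    rw [hAm, Matrix.toLin'_apply, Matrix.sub_mulVec, Matrix.one_mulVec]
  set Qp : QuadraticForm F (ι → F) := Q.comp Ap with hQp
  set Qm : QuadraticForm F (ι → F) := Q.comp Am with hQm
  set R : QuadraticForm F (ι → F) := Qp - δ • Qm with hR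
  have hQpx : ∀ x, Qp x = Q (x + G *ᵥ x) := fun x => by rw [hQp, QuadraticMap.comp_apply, hApx]
  have hQmx : ∀ x, Qm x = Q (x - G *ᵥ x) := fun x => by rw [hQm, QuadraticMap.comp_apply, hAmx]
  have hRx : ∀ x, R x = Qp x - δ * Qm x := fun x => by
    rw [hR, QuadraticMap.sub_apply, QuadraticMap.smul_apply, smul_eq_mul]
  have hpolp : ∀ x y, polar (⇑Qp) x y = 2 * polar (⇑Q) x y + 2 * polar (⇑Q) x (G *ᵥ y) := by
    intro x y
    have e1 : polar (⇑Qp) x y = polar (⇑Q) (x + G *ᵥ x) (y + G *ᵥ y) := by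
      unfold polar
      rw [hQpx, hQpx, hQpx, Matrix.mulVec_add]
      congr 3
      abel
    rw [e1, polar_add_left, polar_add_right, polar_add_right, hGp, hadj]
    ring
  have hpolm : ∀ x y, polar (⇑Qm) x y = 2 * polar (⇑Q) x y - 2 * polar (⇑Q) x (G *ᵥ y) := by
    intro x y
    have e1 : polar (⇑Qm) x y = polar (⇑Q) (x - G *ᵥ x) (y - G *ᵥ y) := by
      unfold polar
      rw [hQmx, hQmx, hQmx, Matrix.mulVec_add]
      congr 3
      abel
    rw [e1, polar_sub_left, polar_sub_right, polar_sub_right, hGp, hadj]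
    ring
  have hpolR : ∀ x y, polar (⇑R) x y =
      polar (⇑Q) x ((2 - 2 * δ) • y + (2 + 2 * δ) • (G *ᵥ y)) := by
    intro x y
    have e1 : polar (⇑R) x y = polar (⇑Qp) x y - δ * polar (⇑Qm) x y := by
      unfold polar
      rw [hRx, hRx, hRx]
      ring
    rw [e1, hpolp, hpolm, polar_add_right, polar_smul_right, polar_smul_right]
    simp only [smul_eq_mul]
    ring
  have hT : ∀ z : ι → F, ∃ y : ι → F, (2 - 2 * δ) • y + (2 + 2 * δ) • (G *ᵥ y) = z := by
    intro z
    refine ⟨(-16 * δ)⁻¹ • ((2 - 2 * δ) • z - (2 + 2 * δ) • (G *ᵥ z)), ?_⟩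
    have h16 : (-16 * δ) ≠ 0 := by
      apply mul_ne_zero _ hδ0
      have : (-16 : F) = -(2 * 2 * 2 * 2) := by norm_num
      rw [this]
      exact neg_ne_zero.2 (mul_ne_zero (mul_ne_zero (mul_ne_zero h2 h2) h2) h2)
    have hGy : G *ᵥ ((-16 * δ)⁻¹ • ((2 - 2 * δ) • z - (2 + 2 * δ) • (G *ᵥ z))) =
        (-16 * δ)⁻¹ • ((2 - 2 * δ) • (G *ᵥ z) - (2 + 2 * δ) • z) := by
      rw [Matrix.mulVec_smul, Matrix.mulVec_sub, Matrix.mulVec_smul, Matrix.mulVec_smul, hGG]
    rw [hGy]
    have h16' : (16 : F) ≠ 0 := by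
      have : (16 : F) = 2 * 2 * 2 * 2 := by norm_num
      rw [this]
      exact mul_ne_zero (mul_ne_zero (mul_ne_zero h2 h2) h2) h2
    funext i
    simp only [Pi.add_apply, Pi.smul_apply, Pi.sub_apply, smul_eq_mul]
    field_simp
    ring
  have hRsymm : ∀ x y, polar (⇑R) x y = polar (⇑R) y x := fun x y => polar_comm _ _ _
  have hnd : (polarBilin R).Nondegenerate := by
    constructor
    · intro x hx
      apply hQ.1 x
      intro z
      obtain ⟨y, hy⟩ := hT z
      have h1 := hx y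
      have h3 : (polarBilin R) x y = polar (⇑R) x y := rfl
      rw [h3, hpolR, hy] at h1
      exact h1
    · intro y hy
      apply hQ.1 y
      intro z
      obtain ⟨x, hx⟩ := hT z
      have h1 := hy x
      have h3 : (polarBilin R) x y = polar (⇑R) x y := rfl
      rw [h3, hRsymm, hpolR, hx] at h1
      exact h1
  -- the two partial forms do not vanish
  have hQm0 : ∃ x, Qm x ≠ 0 := by
    by_contra hcon
    push Not at hcon
    obtain ⟨x₀, hx₀⟩ := hne1
    apply hx₀
    have : x₀ - G *ᵥ x₀ = 0 := by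
      apply hQ.2
      intro x
      show polar (⇑Q) x (x₀ - G *ᵥ x₀) = 0
      have h1 : polar (⇑Qm) x x₀ = 0 := by
        unfold polar
        rw [hcon, hcon, hcon]; ring
      rw [hpolm] at h1
      rw [polar_sub_right]
      have : (2 : F) * (polar (⇑Q) x x₀ - polar (⇑Q) x (G *ᵥ x₀)) = 0 := by linear_combination h1
      rcases mul_eq_zero.1 this with h | h
      · exact absurd h h2
      · exact h
    exact (sub_eq_zero.1 this).symm
  have hQp0 : ∃ x, Qp x ≠ 0 := by
    by_contra hcon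
    push Not at hcon
    obtain ⟨x₀, hx₀⟩ := hne2
    apply hx₀
    have : x₀ + G *ᵥ x₀ = 0 := by
      apply hQ.2
      intro x
      show polar (⇑Q) x (x₀ + G *ᵥ x₀) = 0
      have h1 : polar (⇑Qp) x x₀ = 0 := by
        unfold polar
        rw [hcon, hcon, hcon]; ring
      rw [hpolp] at h1
      rw [polar_add_right]
      have : (2 : F) * (polar (⇑Q) x x₀ + polar (⇑Q) x (G *ᵥ x₀)) = 0 := by linear_combination h1
      rcases mul_eq_zero.1 this with h | h
      · exact absurd h h2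
      · exact h
    exact eq_neg_of_add_eq_zero_right this
  by_contra hcon
  push Not at hcon
  have hvan : ∀ v, R v = 0 → Qm v = 0 := by
    intro v hv
    by_contra hne
    have hu : G *ᵥ (v + G *ᵥ v) = v + G *ᵥ v := by
      rw [Matrix.mulVec_add, hGG, add_comm]
    have hw : G *ᵥ (v - G *ᵥ v) = -(v - G *ᵥ v) := by
      rw [Matrix.mulVec_sub, hGG, neg_sub]
    have hQw : Q (v - G *ᵥ v) ≠ 0 := by rw [← hQmx]; exact hne
    have hQu : Q (v + G *ᵥ v) = δ * Q (v - G *ᵥ v) := by
      rw [← hQpx, ← hQmx]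
      have := hv
      rw [hRx] at this
      linear_combination this
    have hQu0 : Q (v + G *ᵥ v) ≠ 0 := by rw [hQu]; exact mul_ne_zero hδ0 hQw
    have hsq := hcon _ _ hu hw hQu0 hQw
    rw [hQu] at hsq
    have e1 : δ * Q (v - G *ᵥ v) * Q (v - G *ᵥ v) =
        (Q (v - G *ᵥ v) * Q (v - G *ᵥ v)) * δ := by ring
    rw [e1] at hsq
    exact not_isSquare_mul_of h2 ⟨_, rfl⟩ (mul_ne_zero hQw hQw) hν hsq
  have hfr : 5 ≤ finrank F (ι → F) := by rw [Module.finrank_fintype_fun_eq_card]; exact hn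
  obtain ⟨k, hk⟩ := prop_of_vanish h2 R Qm hnd hfr hvan
  obtain ⟨x₁, hx₁⟩ := hQp0
  have h1 := hk (x₁ + G *ᵥ x₁)
  have e0 : x₁ + G *ᵥ x₁ - G *ᵥ (x₁ + G *ᵥ x₁) = 0 := by
    rw [Matrix.mulVec_add, hGG]; abel
  have e1 : x₁ + G *ᵥ x₁ + G *ᵥ (x₁ + G *ᵥ x₁) = (2 : F) • (x₁ + G *ᵥ x₁) := by
    rw [Matrix.mulVec_add, hGG, two_smul]; abel
  rw [hRx, hQmx, hQpx, e0, e1, map_zero, QuadraticMap.map_smul, ← hQpx] at h1
  have hk0 : k = 0 := by
    have : k * (2 * 2 * Qp x₁) = 0 := by
      rw [smul_eq_mul] at h1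
      linear_combination -h1
    rcases mul_eq_zero.1 this with h | h
    · exact h
    · exact absurd h (mul_ne_zero (mul_ne_zero h2 h2) hx₁)
  obtain ⟨x₂, hx₂⟩ := hQm0
  apply hx₂
  rw [hk, hk0, zero_mul]

end IsoInvol

section Refl
variable {F : Type*} [Field F] {ι : Type} [Fintype ι] [DecidableEq ι]
variable {Q : QuadraticForm F (ι → F)}

theorem refl_smul_eq (u : ι → F) (hu : Q u ≠ 0) (a : F) (ha : a ≠ 0) (h' : Q (a • u) ≠ 0) :
    refl Q (a • u) h' = refl Q u hu := by
  apply iso_ext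
  intro x
  rw [refl_mulVec, refl_mulVec, QuadraticMap.map_smul, polar_smul_left, smul_smul, smul_eq_mul,
    smul_eq_mul]
  congr 2
  field_simp

/-- a similarity commutes with the reflection in an eigenvector -/
theorem comm_refl_of_eigen (g : GL ι F) (c : F) (hc0 : c ≠ 0)
    (hc : ∀ v, Q ((g : Matrix ι ι F) *ᵥ v) = c * Q v) (u : ι → F) (hu : Q u ≠ 0) (a : F)
    (ha : a ≠ 0) (hgu : (g : Matrix ι ι F) *ᵥ u = a • u) :
    g * (refl Q u hu : GL ι F) = (refl Q u hu : GL ι F) * g := by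
  have h1 := conj_refl_sim g c hc0 hc u hu
  have h3 : refl Q ((g : Matrix ι ι F) *ᵥ u) (sim_ne g c hc0 hc hu) = refl Q u hu := by
    rw [CentO.refl_congr hgu _ (by rw [← hgu]; exact sim_ne g c hc0 hc hu)]
    exact refl_smul_eq u hu a ha _
  rw [h3] at h1
  calc g * (refl Q u hu : GL ι F) = (g * (refl Q u hu : GL ι F) * g⁻¹) * g := by group
    _ = (refl Q u hu : GL ι F) * g := by rw [h1]

end Refl

section Main
variable {F : Type*} [Field F] [Fintype F] {ι : Type} [Fintype ι] [DecidableEq ι]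
variable {Q : QuadraticForm F (ι → F)}

/-- a similarity exchanging two orthogonal nonsingular vectors up to scalars commutes with the
product of the two reflections -/
theorem comm_refl_of_swap (g : GL ι F) (c : F) (hc0 : c ≠ 0)
    (hc : ∀ v, Q ((g : Matrix ι ι F) *ᵥ v) = c * Q v) (u : ι → F) (hu : Q u ≠ 0)
    (hw : Q ((g : Matrix ι ι F) *ᵥ u) ≠ 0)
    (hperp : polar (⇑Q) u ((g : Matrix ι ι F) *ᵥ u) = 0) (l : F) (hl : l ≠ 0)
    (hgg : (g : Matrix ι ι F) *ᵥ ((g : Matrix ι ι F) *ᵥ u) = l • u) :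
    g * ((refl Q u hu * refl Q ((g : Matrix ι ι F) *ᵥ u) hw : ↥(Cfsg.isometryGroup F ⇑Q)) : GL ι F) =
      ((refl Q u hu * refl Q ((g : Matrix ι ι F) *ᵥ u) hw : ↥(Cfsg.isometryGroup F ⇑Q)) : GL ι F)
        * g := by
  have h1 := conj_refl_sim g c hc0 hc u hu
  have h2 := conj_refl_sim g c hc0 hc _ hw
  have h3 : refl Q ((g : Matrix ι ι F) *ᵥ ((g : Matrix ι ι F) *ᵥ u)) (sim_ne g c hc0 hc hw) =
      refl Q u hu := by
    rw [CentO.refl_congr hgg _ (by rw [← hgg]; exact sim_ne g c hc0 hc hw)]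
    exact refl_smul_eq u hu l hl _
  rw [h3] at h2
  have hcomm := refl_comm_of_perp u _ hu hw hperp
  have e1 : g * ((refl Q u hu * refl Q ((g : Matrix ι ι F) *ᵥ u) hw :
      ↥(Cfsg.isometryGroup F ⇑Q)) : GL ι F) * g⁻¹ =
      ((refl Q u hu * refl Q ((g : Matrix ι ι F) *ᵥ u) hw : ↥(Cfsg.isometryGroup F ⇑Q)) : GL ι F) := by
    have : g * ((refl Q u hu * refl Q ((g : Matrix ι ι F) *ᵥ u) hw :
        ↥(Cfsg.isometryGroup F ⇑Q)) : GL ι F) * g⁻¹ =
        (g * (refl Q u hu : GL ι F) * g⁻¹) * (g * (refl Q ((g : Matrix ι ι F) *ᵥ u) hw : GL ι F) * g⁻¹) := by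
      rw [Subgroup.coe_mul]; group
    rw [this, h1, h2, ← Subgroup.coe_mul, ← hcomm]
  calc g * ((refl Q u hu * refl Q ((g : Matrix ι ι F) *ᵥ u) hw :
      ↥(Cfsg.isometryGroup F ⇑Q)) : GL ι F)
      = (g * ((refl Q u hu * refl Q ((g : Matrix ι ι F) *ᵥ u) hw :
          ↥(Cfsg.isometryGroup F ⇑Q)) : GL ι F) * g⁻¹) * g := by group
    _ = _ := by rw [e1]

end Main
section MainThm
variable {F : Type*} [Field F] [Fintype F] {ι : Type} [Fintype ι] [DecidableEq ι]
variable {Q : QuadraticForm F (ι → F)}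

omit [Fintype F] in
theorem eps_eq_one_of_det (hQ0 : ∃ v, Q v ≠ 0) {n : ℕ} (g₀ : ↥(GO (⇑Q)))
    (hdet : ((g₀ : GL ι F) : Matrix ι ι F).det = ((mu (⇑Q) g₀ : Fˣ) : F) ^ n) :
    epsHom Q hQ0 n g₀ = 1 := by
  rw [epsHom_apply]
  have : detGO (⇑Q) g₀ = mu (⇑Q) g₀ ^ n := by
    apply Units.ext
    rw [detGO_coe, hdet, Units.val_pow_eq_pow_val]
  rw [this, mul_inv_cancel]

omit [Fintype F] in
theorem eq_scalGO_of_mulVec (g₀ : ↥(GO (⇑Q))) (k : Fˣ)
    (h : ∀ y, ((g₀ : GL ι F) : Matrix ι ι F) *ᵥ y = (k : F) • y) : g₀ = scalGO Q k := by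
  apply Subtype.ext
  apply Units.ext
  apply Matrix.mulVec_injective
  funext x
  rw [h x, scalGO_coe, scalHom_mulVec]

set_option maxHeartbeats 1600000 in
/-- a similarity whose square is a scalar and which is not in the connected similarity group
commutes with a product of two reflections of nonsquare spinor norm -/
theorem exists_comm_SO (h2 : (2 : F) ≠ 0) (hQ : (polarBilin Q).Nondegenerate)
    (hQ0 : ∃ v, Q v ≠ 0) {n : ℕ} (hcard : Fintype.card ι = 2 * n) (hn : 5 ≤ Fintype.card ι)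
    (g₀ : ↥(GO (⇑Q))) (l : Fˣ) (hsq : g₀ * g₀ = scalGO Q l)
    (heps : epsHom Q hQ0 n g₀ ≠ 1) :
    ∃ u w : ι → F, ∃ (hu : Q u ≠ 0) (hw : Q w ≠ 0), ¬ IsSquare (Q u * Q w) ∧
      (g₀ : GL ι F) * ((refl Q u hu * refl Q w hw : ↥(Cfsg.isometryGroup F ⇑Q)) : GL ι F) =
        ((refl Q u hu * refl Q w hw : ↥(Cfsg.isometryGroup F ⇑Q)) : GL ι F) * (g₀ : GL ι F) := by
  classical
  set M : Matrix ι ι F := ((g₀ : GL ι F) : Matrix ι ι F) with hM
  set μ : F := ((mu (⇑Q) g₀ : Fˣ) : F) with hμdef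
  have hμ : ∀ v, Q (M *ᵥ v) = μ * Q v := mu_spec (⇑Q) g₀
  have hμ0 : μ ≠ 0 := (mu (⇑Q) g₀).ne_zero
  have hl0 : (l : F) ≠ 0 := l.ne_zero
  have hMMmat : M * M = Matrix.scalar ι (l : F) := by
    have := congrArg (fun g : ↥(GO (⇑Q)) => ((g : GL ι F) : Matrix ι ι F)) hsq
    exact this
  have hMM : ∀ x, M *ᵥ (M *ᵥ x) = (l : F) • x := by
    intro x
    rw [Matrix.mulVec_mulVec, hMMmat]
    exact scalHom_mulVec l x
  have hμl : μ * μ = (l : F) * l := by
    have h1 := congrArg (muHom (⇑Q) hQ0) hsq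
    rw [map_mul, muHom_apply, muHom_apply, mu_scal hQ0] at h1
    have := congrArg Units.val h1
    rw [Units.val_mul, Units.val_mul] at this
    exact this
  have hadj' : ∀ x y, (l : F) * polar (⇑Q) (M *ᵥ x) y = μ * polar (⇑Q) x (M *ᵥ y) := by
    intro x y
    have h1 := sim_polar (g₀ : GL ι F) μ hμ x (M *ᵥ y)
    rw [← hM, hMM, polar_smul_right, smul_eq_mul] at h1
    exact h1
  obtain ⟨v₀, hv₀⟩ := hQ0
  have hv₀0 : v₀ ≠ 0 := by
    rintro rfl
    exact hv₀ (map_zero _)
  have hns : ¬ ∃ k : F, ∀ y, M *ᵥ y = k • y := by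
    rintro ⟨k, hk⟩
    have hk0 : k ≠ 0 := by
      rintro rfl
      have := hMM v₀
      rw [hk, zero_smul] at this
      rcases smul_eq_zero.1 this.symm with h | h
      · exact hl0 h
      · exact hv₀0 h
    apply heps
    rw [eq_scalGO_of_mulVec g₀ (Units.mk0 k hk0) hk]
    exact eps_scal ⟨v₀, hv₀⟩ hcard _
  -- the conclusion from a swapped pair
  have swap : ∀ x, Q x ≠ 0 → polar (⇑Q) x (M *ᵥ x) = 0 → ¬ IsSquare μ →
      ∃ u w : ι → F, ∃ (hu : Q u ≠ 0) (hw : Q w ≠ 0), ¬ IsSquare (Q u * Q w) ∧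
      (g₀ : GL ι F) * ((refl Q u hu * refl Q w hw : ↥(Cfsg.isometryGroup F ⇑Q)) : GL ι F) =
        ((refl Q u hu * refl Q w hw : ↥(Cfsg.isometryGroup F ⇑Q)) : GL ι F) * (g₀ : GL ι F) := by
    intro x hx hperp hμns
    have hw : Q (M *ᵥ x) ≠ 0 := by rw [hμ]; exact mul_ne_zero hμ0 hx
    refine ⟨x, M *ᵥ x, hx, hw, ?_, ?_⟩
    · rw [hμ]
      have e1 : Q x * (μ * Q x) = (Q x * Q x) * μ := by ring
      rw [e1]
      exact not_isSquare_mul_of h2 ⟨_, rfl⟩ (mul_ne_zero hx hx) hμns
    · exact comm_refl_of_swap (g₀ : GL ι F) μ hμ0 hμ x hx hw hperp (l : F) hl0 (hMM x)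
  have hcases : (μ - l) * (μ + l) = 0 := by linear_combination hμl
  rcases mul_eq_zero.1 hcases with hc | hc
  · -- self-adjoint case
    have hμeq : μ = l := sub_eq_zero.1 hc
    have hadj : ∀ x y, polar (⇑Q) (M *ᵥ x) y = polar (⇑Q) x (M *ᵥ y) := by
      intro x y
      have := hadj' x y
      rw [hμeq] at this
      exact mul_left_cancel₀ hl0 this
    by_cases hls : IsSquare (l : F)
    · obtain ⟨c, hc⟩ := hls
      have hc0 : c ≠ 0 := by
        rintro rfl
        rw [mul_zero] at hc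
        exact hl0 hc
      set G : Matrix ι ι F := c⁻¹ • M with hG
      have hGx : ∀ x, G *ᵥ x = c⁻¹ • (M *ᵥ x) := fun x => by rw [hG, Matrix.smul_mulVec]
      have hGG : ∀ x, G *ᵥ (G *ᵥ x) = x := by
        intro x
        rw [hGx, hGx, Matrix.mulVec_smul, hMM, smul_smul, smul_smul, hc]
        have : c⁻¹ * c⁻¹ * (c * c) = 1 := by field_simp
        rw [this, one_smul]
      have hGQ : ∀ x, Q (G *ᵥ x) = Q x := by
        intro x
        rw [hGx, QuadraticMap.map_smul, hμ, hμeq, hc, smul_eq_mul]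
        field_simp
      have hne1 : ∃ x, G *ᵥ x ≠ x := by
        by_contra hcon
        push Not at hcon
        apply hns
        refine ⟨c, fun y => ?_⟩
        have := hcon y
        rw [hGx, inv_smul_eq_iff₀ hc0] at this
        exact this
      have hne2 : ∃ x, G *ᵥ x ≠ -x := by
        by_contra hcon
        push Not at hcon
        apply hns
        refine ⟨-c, fun y => ?_⟩
        have := hcon y
        rw [hGx, inv_smul_eq_iff₀ hc0] at this
        rw [this, smul_neg, neg_smul]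
      obtain ⟨u, w, hGu, hGw, hu, hw, hnsq⟩ := exists_eigen_nonsquare h2 hQ hn G hGG hGQ hne1 hne2
      have hMu : M *ᵥ u = c • u := by
        have := hGu
        rw [hGx, inv_smul_eq_iff₀ hc0] at this
        exact this
      have hMw : M *ᵥ w = (-c) • w := by
        have := hGw
        rw [hGx, inv_smul_eq_iff₀ hc0] at this
        rw [this, smul_neg, neg_smul]
      refine ⟨u, w, hu, hw, hnsq, ?_⟩
      have k1 := comm_refl_of_eigen (g₀ : GL ι F) μ hμ0 hμ u hu c hc0 hMu
      have k2 := comm_refl_of_eigen (g₀ : GL ι F) μ hμ0 hμ w hw (-c) (neg_ne_zero.2 hc0) hMw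
      rw [Subgroup.coe_mul, ← mul_assoc, k1, mul_assoc, k2, ← mul_assoc]
    · obtain ⟨x, hx1, hx2⟩ := exists_perp_image h2 hQ hn M (l : F) hl0 hMM hadj hns
      exact swap x hx2 hx1 (by rw [hμeq]; exact hls)
  · -- skew case
    have hμeq : μ = -l := eq_neg_of_add_eq_zero_left hc
    have hskew : ∀ x, polar (⇑Q) x (M *ᵥ x) = 0 := by
      intro x
      have h1 := hadj' x x
      rw [hμeq, polar_comm (⇑Q) (M *ᵥ x) x] at h1
      have h3 : (2 * (l : F)) * polar (⇑Q) x (M *ᵥ x) = 0 := by linear_combination h1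
      rcases mul_eq_zero.1 h3 with h | h
      · exact absurd h (mul_ne_zero h2 hl0)
      · exact h
    by_cases hμs : IsSquare μ
    · exfalso
      apply heps
      apply eps_eq_one_of_det
      rw [← hM, ← hμdef]
      obtain ⟨d, hd⟩ := hμs
      have hd0 : d ≠ 0 := by
        rintro rfl
        rw [mul_zero] at hd
        exact hμ0 hd
      by_cases hm1 : IsSquare (-1 : F)
      · obtain ⟨i, hi⟩ := hm1
        set c : F := i * d with hcdef
        have hcc : c * c = l := by
          have : c * c = (i * i) * (d * d) := by rw [hcdef]; ring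
          rw [this, ← hi, ← hd, hμeq]; ring
        have hc0 : c ≠ 0 := by
          rintro h0
          rw [h0, mul_zero] at hcc
          exact hl0 hcc.symm
        set G : Matrix ι ι F := c⁻¹ • M with hG
        have hGx : ∀ x, G *ᵥ x = c⁻¹ • (M *ᵥ x) := fun x => by rw [hG, Matrix.smul_mulVec]
        have hGGm : G * G = 1 := by
          rw [hG, Matrix.smul_mul, Matrix.mul_smul, smul_smul, hMMmat, ← hcc]
          ext a b
          simp only [Matrix.smul_apply, Matrix.scalar_apply, Matrix.diagonal_apply,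
            Matrix.one_apply, smul_eq_mul]
          split_ifs
          · field_simp
          · simp
        have hGQ : ∀ x, Q (G *ᵥ x) = -Q x := by
          intro x
          rw [hGx, QuadraticMap.map_smul, hμ, hμeq, ← hcc, smul_eq_mul]
          field_simp
        have htsp : IsTS Q (Vp G) := by
          intro x hx
          rw [mem_Vp] at hx
          have := hGQ x
          rw [hx] at this
          have h3 : (2 : F) * Q x = 0 := by linear_combination this
          rcases mul_eq_zero.1 h3 with h | h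
          · exact absurd h h2
          · exact h
        have htsm : IsTS Q (Vm G) := by
          intro x hx
          rw [mem_Vm] at hx
          have := hGQ x
          rw [hx, QuadraticMap.map_neg] at this
          have h3 : (2 : F) * Q x = 0 := by linear_combination this
          rcases mul_eq_zero.1 h3 with h | h
          · exact absurd h h2
          · exact h
        have b1 := IsTS.finrank_le hQ htsp
        have b2 := IsTS.finrank_le hQ htsm
        have b3 := finrank_Vp_add_Vm h2 G hGGm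
        have hfm : finrank F ↥(Vm G) = n := by omega
        have hdetG := det_invol h2 G hGGm
        rw [hfm] at hdetG
        have hMG : M = c • G := by rw [hG, smul_smul, mul_inv_cancel₀ hc0, one_smul]
        rw [hMG, Matrix.det_smul, hdetG, hcard, pow_mul, ← mul_pow]
        congr 1
        rw [pow_two, hcc, hμeq]
        ring
      · have hlns : ¬ IsSquare (l : F) := by
          rintro ⟨e, he⟩
          apply hm1
          refine ⟨e / d, ?_⟩
          have : (l : F) = -(d * d) := by rw [← hd, hμeq]; ring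
          rw [this] at he
          field_simp
          linear_combination he
        rw [det_of_sq_scalar M (l : F) hMMmat hlns hcard, hμeq]
    · exact swap v₀ hv₀ (hskew v₀) hμs

end MainThm

end Cfsg.Agent.Lib.Helper5.OFld
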