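import Mathlib
import Cfsg.Agent.Lib.Helper5.OFld56

set_option autoImplicit false

namespace Cfsg.Agent.Lib.Helper5.OFld

open Matrix Module QuadraticMap Cfsg.Agent.Lib.Helper5.PGO
open Cfsg.Agent.Lib.Helper2 Cfsg.Agent.Lib.Helper2.CDG Cfsg.Agent.Lib.Helper5.MaxTS

section Gram
variable {F : Type*} [Field F] {ι : Type} [Fintype ι] [DecidableEq ι]
variable {Q : QuadraticForm F (ι → F)}

/-- comparing determinants through the Gram matrix -/
theorem det_sq_of_polar (hQ : (polarBilin Q).Nondegenerate) (T S : Matrix ι ι F)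
    (h : ∀ x y, polar (⇑Q) (T *ᵥ x) (T *ᵥ y) = polar (⇑Q) x (S *ᵥ y)) :
    T.det ^ 2 = S.det := by
  have hcomp : LinearMap.BilinForm.comp (polarBilin Q) (Matrix.toLin' T) (Matrix.toLin' T) =
      LinearMap.BilinForm.compRight (polarBilin Q) (Matrix.toLin' S) := by
    ext x y
    show polar (⇑Q) _ _ = polar (⇑Q) _ _
    rw [Matrix.toLin'_apply, Matrix.toLin'_apply]
    have := h (Pi.single x 1) (Pi.single y 1)
    simpa using this
  have h1 := congrArg LinearMap.BilinForm.toMatrix' hcomp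
  rw [LinearMap.BilinForm.toMatrix'_comp, LinearMap.BilinForm.toMatrix'_compRight,
    LinearMap.toMatrix'_toLin', LinearMap.toMatrix'_toLin'] at h1
  have h2 := congrArg Matrix.det h1
  rw [Matrix.det_mul, Matrix.det_mul, Matrix.det_transpose, Matrix.det_mul] at h2
  have hA : (LinearMap.BilinForm.toMatrix' (polarBilin Q)).det ≠ 0 := by
    rw [← Matrix.nondegenerate_iff_det_ne_zero]
    exact LinearMap.BilinForm.nondegenerate_toMatrix'_iff.2 hQ
  apply mul_left_cancel₀ hA
  rw [← h2]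
  ring

end Gram

section CommSquare
variable {F : Type*} [Field F] [Fintype F] {ι : Type} [Fintype ι] [DecidableEq ι]
variable {Q : QuadraticForm F (ι → F)}

omit [Fintype F] in
theorem polar_eigen_zero (h2 : (2 : F) ≠ 0) (G : Matrix ι ι F)
    (hGp : ∀ x y, polar (⇑Q) (G *ᵥ x) (G *ᵥ y) = polar (⇑Q) x y) (a b : ι → F)
    (ha : G *ᵥ a = a) (hb : G *ᵥ b = -b) : polar (⇑Q) a b = 0 := by
  have h := hGp a b
  rw [ha, hb, polar_neg_right] at h
  have h3 : (2 : F) * polar (⇑Q) a b = 0 := by linear_combination -h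
  rcases mul_eq_zero.1 h3 with h' | h'
  · exact absurd h' h2
  · exact h'

set_option maxHeartbeats 1600000 in
/-- in dimension `2n` with `n` even, a similarity commuting up to a scalar with a similarity of
scalar square outside the connected similarity group has a square multiplier -/
theorem mu_isSquare_of_comm (h2 : (2 : F) ≠ 0) (hQ : (polarBilin Q).Nondegenerate)
    (hQ0 : ∃ v, Q v ≠ 0) {n : ℕ} (hcard : Fintype.card ι = 2 * n) (hne : Even n)
    (g₀ : ↥(GO (⇑Q))) (l : Fˣ) (hsq : g₀ * g₀ = scalGO Q l)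
    (heps : epsHom Q hQ0 n g₀ ≠ 1) (h : ↥(GO (⇑Q))) (c : Fˣ)
    (hcomm : h * g₀ = scalGO Q c * (g₀ * h)) :
    IsSquare ((mu (⇑Q) h : Fˣ) : F) := by
  classical
  set M : Matrix ι ι F := ((g₀ : GL ι F) : Matrix ι ι F) with hM
  set H : Matrix ι ι F := ((h : GL ι F) : Matrix ι ι F) with hH
  set μ : F := ((mu (⇑Q) g₀ : Fˣ) : F) with hμdef
  set ν : F := ((mu (⇑Q) h : Fˣ) : F) with hνdef
  have hμ : ∀ v, Q (M *ᵥ v) = μ * Q v := mu_spec (⇑Q) g₀
  have hν : ∀ v, Q (H *ᵥ v) = ν * Q v := mu_spec (⇑Q) h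
  have hμ0 : μ ≠ 0 := (mu (⇑Q) g₀).ne_zero
  have hν0 : ν ≠ 0 := (mu (⇑Q) h).ne_zero
  have hl0 : (l : F) ≠ 0 := l.ne_zero
  have hMMmat : M * M = Matrix.scalar ι (l : F) := by
    have := congrArg (fun g : ↥(GO (⇑Q)) => ((g : GL ι F) : Matrix ι ι F)) hsq
    exact this
  have hMM : ∀ x, M *ᵥ (M *ᵥ x) = (l : F) • x := by
    intro x
    rw [Matrix.mulVec_mulVec, hMMmat]
    exact scalHom_mulVec l x
  have hμl : μ * μ = (l : F) * l := by
    have h1 := congrArg (muHom (⇑Q) hQ0) hsq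
    rw [map_mul, muHom_apply, muHom_apply, mu_scal hQ0] at h1
    have := congrArg Units.val h1
    rw [Units.val_mul, Units.val_mul] at this
    exact this
  have hHM : ∀ x, H *ᵥ (M *ᵥ x) = (c : F) • (M *ᵥ (H *ᵥ x)) := by
    intro x
    have := congrArg (fun g : ↥(GO (⇑Q)) => ((g : GL ι F) : Matrix ι ι F) *ᵥ x) hcomm
    simp only [Subgroup.coe_mul, Units.val_mul, scalGO_coe] at this
    rw [← Matrix.mulVec_mulVec, ← Matrix.mulVec_mulVec, ← Matrix.mulVec_mulVec, scalHom_mulVec] at this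
    exact this
  have hHinj : ∀ x, H *ᵥ x = 0 → x = 0 := by
    intro x hx
    have := mulVecLin_injective_GL (h : GL ι F) (a₁ := x) (a₂ := 0)
    apply this
    rw [Matrix.mulVecLin_apply, Matrix.mulVecLin_apply, Matrix.mulVec_zero]
    exact hx
  obtain ⟨v₀, hv₀⟩ := hQ0
  have hv₀0 : v₀ ≠ 0 := by
    rintro rfl
    exact hv₀ (map_zero _)
  have hcc : (c : F) * c = 1 := by
    have h1 := hHM (M *ᵥ v₀)
    rw [hMM, Matrix.mulVec_smul, hHM, Matrix.mulVec_smul, hMM, smul_smul, smul_smul] at h1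
    have h3 : ((l : F) - c * c * l) • (H *ᵥ v₀) = 0 := by
      rw [sub_smul, ← h1, sub_self]
    rcases smul_eq_zero.1 h3 with h' | h'
    · have : (l : F) * (1 - c * c) = 0 := by linear_combination h'
      rcases mul_eq_zero.1 this with h'' | h''
      · exact absurd h'' hl0
      · linear_combination -h''
    · exact absurd (hHinj _ h') hv₀0
  have hepsm : epsHom Q ⟨v₀, hv₀⟩ n g₀ = -1 := by
    rcases epsHom_sq hQ ⟨v₀, hv₀⟩ hcard g₀ with h' | h'
    · exact absurd h' heps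
    · exact h'
  have hdetM : M.det = -μ ^ n := by
    rw [epsHom_apply] at hepsm
    have h1 : detGO (⇑Q) g₀ = -(mu (⇑Q) g₀ ^ n) := by
      rw [mul_inv_eq_iff_eq_mul] at hepsm
      rw [hepsm]; simp
    have := congrArg Units.val h1
    rw [detGO_coe, Units.val_neg, Units.val_pow_eq_pow_val] at this
    exact this
  have hcases : (μ - l) * (μ + l) = 0 := by linear_combination hμl
  have hμn : μ ^ n = (l : F) ^ n := by
    rcases mul_eq_zero.1 hcases with hc | hc
    · rw [sub_eq_zero.1 hc]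
    · rw [eq_neg_of_add_eq_zero_left hc, hne.neg_pow]
  by_cases hls : IsSquare (l : F)
  swap
  · exfalso
    have := det_of_sq_scalar M (l : F) hMMmat hls hcard
    rw [hdetM, hne.neg_pow, hμn] at this
    have h3 : (2 : F) * (l : F) ^ n = 0 := by linear_combination -this
    rcases mul_eq_zero.1 h3 with h' | h'
    · exact h2 h'
    · exact pow_ne_zero _ hl0 h'
  obtain ⟨c₀, hc₀⟩ := hls
  have hc₀0 : c₀ ≠ 0 := by
    rintro rfl
    rw [mul_zero] at hc₀
    exact hl0 hc₀
  set G : Matrix ι ι F := c₀⁻¹ • M with hG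
  have hGx : ∀ x, G *ᵥ x = c₀⁻¹ • (M *ᵥ x) := fun x => by rw [hG, Matrix.smul_mulVec]
  have hGGm : G * G = 1 := by
    rw [hG, Matrix.smul_mul, Matrix.mul_smul, smul_smul, hMMmat, hc₀]
    ext a b
    simp only [Matrix.smul_apply, Matrix.scalar_apply, Matrix.diagonal_apply,
      Matrix.one_apply, smul_eq_mul]
    split_ifs
    · field_simp
    · simp
  have hGG : ∀ x, G *ᵥ (G *ᵥ x) = x := fun x => by
    rw [Matrix.mulVec_mulVec, hGGm, Matrix.one_mulVec]
  have hMG : M = c₀ • G := by rw [hG, smul_smul, mul_inv_cancel₀ hc₀0, one_smul]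
  have hdetG : G.det = -1 := by
    have h1 : M.det = (l : F) ^ n * G.det := by
      rw [hMG, Matrix.det_smul, hcard, pow_mul, pow_two, ← hc₀]
    rw [hdetM, hμn] at h1
    have hln : (l : F) ^ n ≠ 0 := pow_ne_zero _ hl0
    apply mul_left_cancel₀ hln
    rw [← h1]; ring
  have hkm : Odd (finrank F ↥(Vm G)) := by
    have h1 := det_invol h2 G hGGm
    rw [hdetG] at h1
    by_contra hcon
    rw [Nat.not_odd_iff_even] at hcon
    rw [hcon.neg_one_pow] at h1
    apply h2
    linear_combination -h1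
  have hsum := finrank_Vp_add_Vm h2 G hGGm
  have hHG : ∀ x, H *ᵥ (G *ᵥ x) = (c : F) • (G *ᵥ (H *ᵥ x)) := by
    intro x
    rw [hGx, hGx, Matrix.mulVec_smul, hHM, smul_comm]
  rcases mul_eq_zero.1 hcases with hc | hc
  swap
  · -- multiplier `-1`: both eigenspaces are totally singular
    exfalso
    have hμeq : μ = -l := eq_neg_of_add_eq_zero_left hc
    have hGQ : ∀ x, Q (G *ᵥ x) = -Q x := by
      intro x
      rw [hGx, QuadraticMap.map_smul, hμ, hμeq, hc₀, smul_eq_mul]
      field_simp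
    have htsp : IsTS Q (Vp G) := by
      intro x hx
      rw [mem_Vp] at hx
      have := hGQ x
      rw [hx] at this
      have h3 : (2 : F) * Q x = 0 := by linear_combination this
      rcases mul_eq_zero.1 h3 with h' | h'
      · exact absurd h' h2
      · exact h'
    have htsm : IsTS Q (Vm G) := by
      intro x hx
      rw [mem_Vm] at hx
      have := hGQ x
      rw [hx, QuadraticMap.map_neg] at this
      have h3 : (2 : F) * Q x = 0 := by linear_combination this
      rcases mul_eq_zero.1 h3 with h' | h'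
      · exact absurd h' h2
      · exact h'
    have b1 := IsTS.finrank_le hQ htsp
    have b2 := IsTS.finrank_le hQ htsm
    have hfm : finrank F ↥(Vm G) = n := by omega
    rw [hfm] at hkm
    exact (Nat.not_even_iff_odd.2 hkm) hne
  -- isometric involution
  have hμeq : μ = l := sub_eq_zero.1 hc
  have hGQ : ∀ x, Q (G *ᵥ x) = Q x := by
    intro x
    rw [hGx, QuadraticMap.map_smul, hμ, hμeq, hc₀, smul_eq_mul]
    field_simp
  have hGp : ∀ x y, polar (⇑Q) (G *ᵥ x) (G *ᵥ y) = polar (⇑Q) x y := by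
    intro x y
    unfold polar
    rw [← Matrix.mulVec_add, hGQ, hGQ, hGQ]
  have hc1 : (c : F) = 1 ∨ (c : F) = -1 := by
    have : ((c : F) - 1) * ((c : F) + 1) = 0 := by linear_combination hcc
    rcases mul_eq_zero.1 this with h' | h'
    · left; linear_combination h'
    · right; linear_combination h'
  rcases hc1 with hc1 | hc1
  · -- `h` commutes with `G`
    have hHG' : ∀ x, H *ᵥ (G *ᵥ x) = G *ᵥ (H *ᵥ x) := fun x => by rw [hHG, hc1, one_smul]
    set T : Matrix ι ι F := H * ((2 : F)⁻¹ • (1 + G)) + (2 : F)⁻¹ • (1 - G) with hT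
    set S : Matrix ι ι F := ((ν + 1) / 2) • (1 : Matrix ι ι F) + ((ν - 1) / 2) • G with hS
    have hTx : ∀ x, T *ᵥ x = H *ᵥ ((2 : F)⁻¹ • (x + G *ᵥ x)) + (2 : F)⁻¹ • (x - G *ᵥ x) := by
      intro x
      rw [hT, Matrix.add_mulVec, ← Matrix.mulVec_mulVec, Matrix.smul_mulVec, Matrix.smul_mulVec,
        Matrix.add_mulVec, Matrix.sub_mulVec, Matrix.one_mulVec]
    have hSx : ∀ x, S *ᵥ x = ν • ((2 : F)⁻¹ • (x + G *ᵥ x)) + (2 : F)⁻¹ • (x - G *ᵥ x) := by
      intro x
      rw [hS, Matrix.add_mulVec, Matrix.smul_mulVec, Matrix.smul_mulVec, Matrix.one_mulVec]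
      funext i
      simp only [Pi.add_apply, Pi.smul_apply, Pi.sub_apply, smul_eq_mul]
      field_simp
      ring
    have hp : ∀ x, G *ᵥ ((2 : F)⁻¹ • (x + G *ᵥ x)) = (2 : F)⁻¹ • (x + G *ᵥ x) := by
      intro x
      rw [Matrix.mulVec_smul, Matrix.mulVec_add, hGG, add_comm]
    have hm : ∀ x, G *ᵥ ((2 : F)⁻¹ • (x - G *ᵥ x)) = -((2 : F)⁻¹ • (x - G *ᵥ x)) := by
      intro x
      rw [Matrix.mulVec_smul, Matrix.mulVec_sub, hGG, ← smul_neg, neg_sub]
    have hxs : ∀ x : ι → F, x = (2 : F)⁻¹ • (x + G *ᵥ x) + (2 : F)⁻¹ • (x - G *ᵥ x) := by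
      intro x
      rw [← smul_add]
      have : x + G *ᵥ x + (x - G *ᵥ x) = (2 : F) • x := by rw [two_smul]; abel
      rw [this, smul_smul, inv_mul_cancel₀ h2, one_smul]
    have hgen : ∀ xp xm yp ym : ι → F, G *ᵥ xp = xp → G *ᵥ xm = -xm → G *ᵥ yp = yp →
        G *ᵥ ym = -ym →
        polar (⇑Q) (H *ᵥ xp + xm) (H *ᵥ yp + ym) = polar (⇑Q) (xp + xm) (ν • yp + ym) := by
      intro xp xm yp ym h1 h2' h3 h4
      have e1 : polar (⇑Q) (H *ᵥ xp) ym = 0 :=
        polar_eigen_zero h2 G hGp _ _ (by rw [← hHG', h1]) h4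
      have e2 : polar (⇑Q) xm (H *ᵥ yp) = 0 := by
        rw [polar_comm]
        exact polar_eigen_zero h2 G hGp _ _ (by rw [← hHG', h3]) h2'
      have e3 : polar (⇑Q) xp ym = 0 := polar_eigen_zero h2 G hGp _ _ h1 h4
      have e4 : polar (⇑Q) xm yp = 0 := by
        rw [polar_comm]
        exact polar_eigen_zero h2 G hGp _ _ h3 h2'
      have e5 : polar (⇑Q) (H *ᵥ xp) (H *ᵥ yp) = ν * polar (⇑Q) xp yp :=
        sim_polar (h : GL ι F) ν hν xp yp
      simp only [polar_add_left, polar_add_right, polar_smul_right, smul_eq_mul]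
      rw [e1, e2, e3, e4, e5]
      ring
    have hkey : ∀ x y, polar (⇑Q) (T *ᵥ x) (T *ᵥ y) = polar (⇑Q) x (S *ᵥ y) := by
      intro x y
      rw [hTx, hTx, hSx, hgen _ _ _ _ (hp x) (hm x) (hp y) (hm y), ← hxs x]
    have hdet := det_sq_of_polar hQ T S hkey
    rw [hS, det_invol_comb h2 G hGGm ν 1, one_pow, mul_one] at hdet
    have hkp : Odd (finrank F ↥(Vp G)) := by
      rcases hkm with ⟨t, ht⟩
      rcases hne with ⟨r, hr⟩
      rw [Nat.odd_iff]
      omega
    obtain ⟨t, ht⟩ := hkp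
    rw [ht] at hdet
    have hνt : ν ^ t ≠ 0 := pow_ne_zero _ hν0
    have e : ν * (ν ^ t * ν ^ t) = T.det * T.det := by
      rw [← pow_two T.det, hdet]; ring
    refine ⟨T.det / ν ^ t, ?_⟩
    rw [div_mul_div_comm, eq_div_iff (mul_ne_zero hνt hνt)]
    exact e
  · -- `h` anticommutes with `G`: the eigenspaces have equal dimension
    exfalso
    have hHG' : ∀ x, H *ᵥ (G *ᵥ x) = -(G *ᵥ (H *ᵥ x)) := fun x => by
      rw [hHG, hc1, neg_smul, one_smul]
    have hle1 : (Vp G).map (Matrix.mulVecLin H) ≤ Vm G := by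
      rintro _ ⟨x, hx, rfl⟩
      rw [SetLike.mem_coe, mem_Vp] at hx
      rw [mem_Vm, Matrix.mulVecLin_apply]
      have := hHG' x
      rw [hx] at this
      exact neg_eq_iff_eq_neg.1 this.symm
    have hle2 : (Vm G).map (Matrix.mulVecLin H) ≤ Vp G := by
      rintro _ ⟨x, hx, rfl⟩
      rw [SetLike.mem_coe, mem_Vm] at hx
      rw [mem_Vp, Matrix.mulVecLin_apply]
      have := hHG' x
      rw [hx, Matrix.mulVec_neg, neg_inj] at this
      exact this.symm
    have f1 := Submodule.finrank_mono hle1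
    have f2 := Submodule.finrank_mono hle2
    rw [hH, finrank_map_GL] at f1 f2
    have hfm : finrank F ↥(Vm G) = n := by omega
    rw [hfm] at hkm
    exact (Nat.not_even_iff_odd.2 hkm) hne

end CommSquare

end Cfsg.Agent.Lib.Helper5.OFld
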