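import Mathlib
import Cfsg.Agent.Lib.Helper5.OFld57

set_option autoImplicit false

/-! The number of classes of the simple orthogonal group into which the class of an involutory
graph automorphism induced by a similarity splits (odd characteristic, generic form). -/

namespace Cfsg.Agent.Lib.Helper5.OFld

open Matrix Module QuadraticMap Cfsg.Agent.Lib.Helper5.PGO
open Cfsg.Agent.Lib.Helper5.PSLCoset Cfsg.Agent.Lib.Helper5.SplitConj
open Cfsg.Agent.Lib.Helper2 Cfsg.Agent.Lib.Helper2.CDG Cfsg.Agent.Lib.Helper5.MaxTS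
open Cfsg.Agent.Lib.Helper5.OmegaCrit Cfsg.Agent.Lib.Helper2.Spinor
open Cfsg.Agent.Lib.Helper5.OAut Cfsg.Agent.Lib.Helper2.OrthCard
open Cfsg.Agent.Lib.Helper5.OrthCls
open Cfsg.Agent.Lib.Helper5.QuadGlue Cfsg.Agent.Lib.Helper2.QuadStd
open Cfsg.Agent.Lib.Helper5.SpinorDiag Cfsg.Agent.Lib.Helper5.PlusLevi

section Dihedral

theorem dihedral_central (x : DihedralGroup 4) (hx : ∀ g : DihedralGroup 4, g * x = x * g) :
    x = 1 ∨ x = DihedralGroup.r 2 := by
  revert x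
  decide

/-- an element of the dihedral group of order eight commuting with a subgroup of index two lies
in it -/
theorem dihedral_central_mem (A : Subgroup (DihedralGroup 4)) (hA : A.index = 2)
    (x : DihedralGroup 4) (hx : ∀ a ∈ A, a * x = x * a) : x ∈ A := by
  by_contra hxA
  have hall : ∀ g : DihedralGroup 4, g * x = x * g := by
    intro g
    by_cases hg : g ∈ A
    · exact hx g hg
    · have hgx : g * x ∈ A := by
        rw [Subgroup.mul_mem_iff_of_index_two hA]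
        exact ⟨fun h => absurd h hg, fun h => absurd h hxA⟩
      have := hx (g * x) hgx
      rw [← mul_assoc] at this
      exact mul_right_cancel this
  rcases dihedral_central x hall with h | h
  · apply hxA
    rw [h]
    exact A.one_mem
  · apply hxA
    rw [h]
    have := Subgroup.sq_mem_of_index_two hA (DihedralGroup.r 1)
    have e : (DihedralGroup.r 1 : DihedralGroup 4) ^ 2 = DihedralGroup.r 2 := by decide
    rw [e] at this
    exact this

/-- if `P / N` is dihedral of order eight and `I` has index two in `P`, then no element of `P`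
outside `I` is centralised by `I` modulo `N` -/
theorem sup_ne_top_of_dihedral {X : Type*} [Group X] (P I N : Subgroup X) [N.Normal]
    (hNI : N ≤ I) (hIP : I ≤ P) (hidx : I.relIndex P = 2)
    (φ : ↥P →* DihedralGroup 4) (hφ : Function.Surjective φ)
    (hker : φ.ker = N.subgroupOf P) (γ : X) (hγP : γ ∈ P) (hγI : γ ∉ I) :
    N.subgroupOf I ⊔ (Subgroup.centralizer {γ}).subgroupOf I ≠ ⊤ := by
  intro htop
  set A : Subgroup (DihedralGroup 4) := (I.subgroupOf P).map φ with hA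
  have hkerle : φ.ker ≤ I.subgroupOf P := by
    rw [hker]
    intro x hx
    rw [Subgroup.mem_subgroupOf] at hx ⊢
    exact hNI hx
  have hAidx : A.index = 2 := by
    rw [hA, Subgroup.index_map_eq _ hφ hkerle]
    exact hidx
  haveI : (N.subgroupOf I).Normal := Subgroup.Normal.subgroupOf inferInstance _
  have hxA : φ ⟨γ, hγP⟩ ∈ A := by
    apply dihedral_central_mem A hAidx
    rintro _ ⟨⟨i, hiP⟩, hiI, rfl⟩
    rw [SetLike.mem_coe, Subgroup.mem_subgroupOf] at hiI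
    have hmem : (⟨i, hiI⟩ : ↥I) ∈
        N.subgroupOf I ⊔ (Subgroup.centralizer {γ}).subgroupOf I := by
      rw [htop]
      exact Subgroup.mem_top _
    rw [← SetLike.mem_coe, Subgroup.normal_mul] at hmem
    obtain ⟨⟨n, hnI⟩, hn, ⟨c, hcI⟩, hc, heq⟩ := Set.mem_mul.1 hmem
    rw [SetLike.mem_coe, Subgroup.mem_subgroupOf] at hn hc
    have heq' : n * c = i := congrArg Subtype.val heq
    have hnP : n ∈ P := hIP hnI
    have hcP : c ∈ P := hIP hcI
    have e1 : (⟨i, hiP⟩ : ↥P) = ⟨n, hnP⟩ * ⟨c, hcP⟩ := Subtype.ext heq'.symm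
    have e2 : φ ⟨n, hnP⟩ = 1 := by
      rw [← MonoidHom.mem_ker, hker, Subgroup.mem_subgroupOf]
      exact hn
    have e3 : (⟨c, hcP⟩ : ↥P) * ⟨γ, hγP⟩ = ⟨γ, hγP⟩ * ⟨c, hcP⟩ := by
      apply Subtype.ext
      have := Subgroup.mem_centralizer_iff.1 hc γ (Set.mem_singleton γ)
      exact this.symm
    rw [e1, map_mul, e2, one_mul, ← map_mul, e3, map_mul]
  obtain ⟨⟨j, hjP⟩, hjI, hj⟩ := hxA
  rw [SetLike.mem_coe, Subgroup.mem_subgroupOf] at hjI
  have hk : (⟨j, hjP⟩ : ↥P)⁻¹ * ⟨γ, hγP⟩ ∈ φ.ker := by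
    rw [MonoidHom.mem_ker, map_mul, map_inv, hj, inv_mul_cancel]
  rw [hker, Subgroup.mem_subgroupOf] at hk
  have hk' : j⁻¹ * γ ∈ I := hNI hk
  apply hγI
  have : γ = j * (j⁻¹ * γ) := by group
  rw [this]
  exact I.mul_mem hjI hk'

end Dihedral

section GraphCount
variable {F : Type*} [Field F] [Fintype F] [DecidableEq F] {ι : Type} [Fintype ι] [DecidableEq ι]
variable {Q : QuadraticForm F (ι → F)}

theorem index_sup_le_two {G : Type*} [Group G] (S T : Subgroup G) (hS : S.index = 2) :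
    (S ⊔ T).index = 1 ∨ (S ⊔ T).index = 2 := by
  have h3 := Subgroup.relIndex_mul_index (le_sup_left : S ≤ S ⊔ T)
  rw [hS] at h3
  have hd : (S ⊔ T).index ∣ 2 := Dvd.intro_left _ h3
  have := (Nat.dvd_prime Nat.prime_two).1 hd
  exact this

theorem index_sup_le_two_of_four {G : Type*} [Group G] (S T : Subgroup G) (hS : S.index = 4)
    (y : G) (hyT : y ∈ T) (hyS : y ∉ S) :
    (S ⊔ T).index = 1 ∨ (S ⊔ T).index = 2 := by
  have h3 := Subgroup.relIndex_mul_index (le_sup_left : S ≤ S ⊔ T)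
  rw [hS] at h3
  have hne : S.relIndex (S ⊔ T) ≠ 1 := by
    intro h
    rw [Subgroup.relIndex_eq_one] at h
    exact hyS (h (Subgroup.mem_sup_right hyT))
  have hd : (S ⊔ T).index ∣ 4 := Dvd.intro_left _ h3
  have hle : (S ⊔ T).index ≤ 4 := Nat.le_of_dvd (by norm_num) hd
  have hpos : 0 < S.relIndex (S ⊔ T) := by
    rcases Nat.eq_zero_or_pos (S.relIndex (S ⊔ T)) with h | h
    · rw [h, zero_mul] at h3
      omega
    · exact h
  interval_cases hi : (S ⊔ T).index
  · omega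
  · left; rfl
  · right; rfl
  · omega
  · exfalso
    apply hne
    omega

set_option maxHeartbeats 1600000 in
/-- the class of an involutory automorphism induced by a similarity outside the connected
similarity group splits into at most two classes, and into exactly two if `PGO / Inn` is dihedral
of order eight -/
theorem graph_invol_count (h2 : (2 : F) ≠ 0) (hQ : (polarBilin Q).Nondegenerate)
    (hQ0 : ∃ v, Q v ≠ 0) {n : ℕ} (hcard : Fintype.card ι = 2 * n) (hn : 7 ≤ Fintype.card ι)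
    (hsurj : Function.Surjective (chi hQ hQ0 hcard h2))
    (g₀ : ↥(GO (⇑Q))) (heps : epsHom Q hQ0 n g₀ ≠ 1) (hord : orderOf (Phi (⇑Q) g₀) = 2) :
    (Cfsg.splitClassCount (idg Q hQ0 n) (Cfsg.Inn (Cfsg.POmega F ⇑Q)) (Phi (⇑Q) g₀) = 1 ∨
      Cfsg.splitClassCount (idg Q hQ0 n) (Cfsg.Inn (Cfsg.POmega F ⇑Q)) (Phi (⇑Q) g₀) = 2) ∧
    (negOne Q ∈ commutator ↥(Cfsg.isometryGroup F ⇑Q) →
      (∃ φ : ↥(Cfsg.pgoAut F (⇑Q)) →* DihedralGroup 4, Function.Surjective φ ∧
        φ.ker = (Cfsg.Inn (Cfsg.POmega F (⇑Q))).subgroupOf (Cfsg.pgoAut F (⇑Q))) →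
      Cfsg.splitClassCount (idg Q hQ0 n) (Cfsg.Inn (Cfsg.POmega F ⇑Q)) (Phi (⇑Q) g₀) = 2) := by
  classical
  have hInnI := inn_le_idg hQ hQ0 hcard h2 (by omega : 2 ≤ Fintype.card ι)
  haveI : (Cfsg.Inn (Cfsg.POmega F ⇑Q)).Normal := inn_normal _
  rw [splitClassCount_sub _ _ hInnI]
  have hγI : Phi (⇑Q) g₀ ∉ idg Q hQ0 n := by
    rw [Phi_mem_idg_iff hQ hQ0 hcard h2 hn]
    exact heps
  have hγP : Phi (⇑Q) g₀ ∈ Cfsg.pgoAut F (⇑Q) := by
    rw [pgoAut_eq]
    exact ⟨_, rfl⟩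
  -- the square of `g₀` is a scalar
  have hker : g₀ * g₀ ∈ (Phi (⇑Q)).ker := by
    rw [MonoidHom.mem_ker, map_mul, ← pow_two, ← hord]
    exact pow_orderOf_eq_one _
  rw [ker_eq hQ hn] at hker
  obtain ⟨l, hl⟩ := hker
  have hsq : g₀ * g₀ = scalGO Q l := hl.symm
  by_cases hneg : negOne Q ∈ commutator ↥(Cfsg.isometryGroup F ⇑Q)
  · have hidx := relIndex_inn_idg_of_mem hQ hQ0 hcard h2 hn hsurj hneg
    obtain ⟨u, w, hu, hw, hnsq, hcomm⟩ :=
      exists_comm_SO h2 hQ hQ0 hcard (by omega) g₀ l hsq heps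
    set h : ↥(Cfsg.isometryGroup F ⇑Q) := refl Q u hu * refl Q w hw with hh
    have hhnot : h ∉ commutator ↥(Cfsg.isometryGroup F ⇑Q) := by
      rw [criterion_all hQ (Or.inr (by omega)) (by omega) h [u, w]
        (by
          intro v hv
          rcases List.mem_cons.1 hv with rfl | hv
          · exact hu
          · rcases List.mem_cons.1 hv with rfl | hv
            · exact hw
            · exact absurd hv (List.not_mem_nil))
        (by
          rw [hh, Subgroup.coe_mul, Matrix.GeneralLinearGroup.coe_mul, refl_coe, refl_coe]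
          simp)]
      rintro ⟨-, hs⟩
      apply hnsq
      simpa using hs
    have hyI : Phi (⇑Q) (incl (⇑Q) h) ∈ idg Q hQ0 n := by
      rw [Phi_mem_idg_iff hQ hQ0 hcard h2 hn, epsHom_apply, mu_of_iso hQ0 _ h.2, one_pow, inv_one,
        mul_one]
      exact det_refl_mul_refl u w hu hw
    have hyN : Phi (⇑Q) (incl (⇑Q) h) ∉ Cfsg.Inn (Cfsg.POmega F ⇑Q) := fun hcon =>
      hhnot (mem_of_Phi_incl_mem_inn hQ hQ0 hn hneg h hcon)
    have hyC : Phi (⇑Q) (incl (⇑Q) h) ∈ Subgroup.centralizer {Phi (⇑Q) g₀} := by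
      rw [Subgroup.mem_centralizer_iff]
      intro y hy
      rw [Set.mem_singleton_iff] at hy
      subst hy
      rw [← map_mul, ← map_mul]
      congr 1
      apply Subtype.ext
      exact hcomm
    have hle2 := index_sup_le_two_of_four
      ((Cfsg.Inn (Cfsg.POmega F ⇑Q)).subgroupOf (idg Q hQ0 n))
      ((Subgroup.centralizer {Phi (⇑Q) g₀}).subgroupOf (idg Q hQ0 n)) hidx
      ⟨Phi (⇑Q) (incl (⇑Q) h), hyI⟩
      (by rw [Subgroup.mem_subgroupOf]; exact hyC)
      (by rw [Subgroup.mem_subgroupOf]; exact hyN)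
    refine ⟨hle2, fun _ hφ => ?_⟩
    obtain ⟨φ, hφs, hφk⟩ := hφ
    have hne := sup_ne_top_of_dihedral (Cfsg.pgoAut F (⇑Q)) (idg Q hQ0 n)
      (Cfsg.Inn (Cfsg.POmega F ⇑Q)) hInnI (idg_le_pgo hQ0 n)
      (relIndex_idg_pgo hQ hQ0 hcard h2 hn hsurj) φ hφs hφk (Phi (⇑Q) g₀) hγP hγI
    rcases hle2 with h1 | h1
    · exact absurd (Subgroup.index_eq_one.1 h1) hne
    · exact h1
  · have hidx := relIndex_inn_idg_of_not_mem hQ hQ0 hcard h2 hn hsurj hneg
    refine ⟨index_sup_le_two _ _ hidx, fun h' => absurd h' hneg⟩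

end GraphCount

section Plus
variable {F : Type*} [Field F] [Fintype F] [DecidableEq F]

/-- the class of an involutory graph automorphism of the plus type group induced by a
similarity -/
theorem plus_graph_invol_split (hodd : Odd (Fintype.card F)) {m : ℕ} (hm : 4 ≤ m)
    (γ : MulAut (Cfsg.POmega F ⇑(QP m F)))
    (hγ : ∃ g : GL (Fin m ⊕ Fin m) F, g ∈ Cfsg.Geo.quadSimilarityGroup (F := F) ⇑(QP m F) ∧
      ¬ Cfsg.PreservesSingularClasses ⇑(QP m F)
        (g : Matrix (Fin m ⊕ Fin m) (Fin m ⊕ Fin m) F) ∧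
      Cfsg.IsInducedBySemilinearPOmega ⇑(QP m F) g (RingEquiv.refl F) γ)
    (hγ2 : orderOf γ = 2) :
    (Cfsg.splitClassCount (inndiagQ ⇑(QP m F)) (Cfsg.Inn (Cfsg.POmega F ⇑(QP m F))) γ = 1 ∨
      Cfsg.splitClassCount (inndiagQ ⇑(QP m F)) (Cfsg.Inn (Cfsg.POmega F ⇑(QP m F))) γ = 2) ∧
    (¬ (Odd m ∧ Fintype.card F % 4 = 3) →
      Cfsg.splitClassCount (inndiagQ ⇑(QP m F)) (Cfsg.Inn (Cfsg.POmega F ⇑(QP m F))) γ = 2) := by
  have hm1 : 1 ≤ m := by omega
  have h2 : (2 : F) ≠ 0 := two_ne_zero_of_odd_card hodd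
  obtain ⟨g, hg, hnp, hind⟩ := hγ
  have hγeq : γ = Phi ⇑(QP m F) ⟨g, hg⟩ := (PGO.induced_iff _ ⟨g, hg⟩ γ).1 hind
  have heps : epsHom (QP m F) (QP_ne_zero hm1) m ⟨g, hg⟩ ≠ 1 := by
    intro h
    apply hnp
    rw [pres_coe]
    exact (preserves_iff hm1 h2 ⟨g, hg⟩).2 h
  have hn : 7 ≤ Fintype.card (Fin m ⊕ Fin m) := by rw [card_plus]; omega
  subst hγeq
  rw [inndiagQ_plus hm1 h2]
  obtain ⟨hA, hB⟩ := graph_invol_count h2 (QP_nondeg m) (QP_ne_zero hm1) (card_plus m) hn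
    (chi_surj_plus hm1 h2) ⟨g, hg⟩ heps hγ2
  exact ⟨hA, fun hc => hB ((negOne_plus_iff' rfl hodd hm1).2 hc)
    ((structure_plus rfl hodd hm).2 hc)⟩

end Plus

end Cfsg.Agent.Lib.Helper5.OFld
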