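import Mathlib
import Cfsg.Agent.Lib.Helper5.OFld58

set_option autoImplicit false

/-! Involutory graph automorphisms of the minus type orthogonal groups in odd characteristic:
they are induced by similarities, and the number of classes of the simple group into which their
class under the inner-diagonal group splits. -/

namespace Cfsg.Agent.Lib.Helper5.OFld

open Matrix Module QuadraticMap Cfsg.Agent.Lib.Helper5.PGO
open Cfsg.Agent.Lib.Helper5.PSLCoset Cfsg.Agent.Lib.Helper5.SplitConj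
open Cfsg.Agent.Lib.Helper2 Cfsg.Agent.Lib.Helper2.CDG Cfsg.Agent.Lib.Helper5.MaxTS
open Cfsg.Agent.Lib.Helper5.OmegaCrit Cfsg.Agent.Lib.Helper2.Spinor
open Cfsg.Agent.Lib.Helper5.OAut Cfsg.Agent.Lib.Helper2.OrthCard
open Cfsg.Agent.Lib.Helper5.OrthCls
open Cfsg.Agent.Lib.Helper5.QuadGlue Cfsg.Agent.Lib.Helper2.QuadStd
open Cfsg.Agent.Lib.Helper5.SpinorDiag Cfsg.Agent.Lib.Helper5.PlusLevi

section GraphCountEven
variable {F : Type*} [Field F] [Fintype F] [DecidableEq F] {ι : Type} [Fintype ι] [DecidableEq ι]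
variable {Q : QuadraticForm F (ι → F)}

set_option maxHeartbeats 800000 in
/-- in dimension `2n` with `n` even and `-1 ∉ Ω`, the class of an involutory automorphism induced
by a similarity outside the connected similarity group splits into exactly two classes -/
theorem graph_invol_count_even (h2 : (2 : F) ≠ 0) (hQ : (polarBilin Q).Nondegenerate)
    (hQ0 : ∃ v, Q v ≠ 0) {n : ℕ} (hcard : Fintype.card ι = 2 * n) (hn : 7 ≤ Fintype.card ι)
    (hsurj : Function.Surjective (chi hQ hQ0 hcard h2))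
    (g₀ : ↥(GO (⇑Q))) (heps : epsHom Q hQ0 n g₀ ≠ 1) (hord : orderOf (Phi (⇑Q) g₀) = 2)
    (hne : Even n) (hneg : negOne Q ∉ commutator ↥(Cfsg.isometryGroup F ⇑Q)) :
    Cfsg.splitClassCount (idg Q hQ0 n) (Cfsg.Inn (Cfsg.POmega F ⇑Q)) (Phi (⇑Q) g₀) = 2 := by
  classical
  have hInnI := inn_le_idg hQ hQ0 hcard h2 (by omega : 2 ≤ Fintype.card ι)
  haveI : (Cfsg.Inn (Cfsg.POmega F ⇑Q)).Normal := inn_normal _
  rw [splitClassCount_sub _ _ hInnI]
  have hker : g₀ * g₀ ∈ (Phi (⇑Q)).ker := by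
    rw [MonoidHom.mem_ker, map_mul, ← pow_two, ← hord]
    exact pow_orderOf_eq_one _
  rw [ker_eq hQ hn] at hker
  obtain ⟨l, hl⟩ := hker
  have hsq : g₀ * g₀ = scalGO Q l := hl.symm
  have hidx := relIndex_inn_idg_of_not_mem hQ hQ0 hcard h2 hn hsurj hneg
  rw [index_sup_of_le]
  · exact hidx
  · rintro ⟨t, htI⟩ htC
    rw [Subgroup.mem_subgroupOf] at htC ⊢
    obtain ⟨h, hh, rfl⟩ := htI
    have hcommPhi : Phi (⇑Q) h * Phi (⇑Q) g₀ = Phi (⇑Q) g₀ * Phi (⇑Q) h :=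
      (Subgroup.mem_centralizer_iff.1 htC (Phi (⇑Q) g₀) (Set.mem_singleton _)).symm
    have hk : (g₀ * h)⁻¹ * (h * g₀) ∈ (Phi (⇑Q)).ker := by
      rw [MonoidHom.mem_ker, map_mul, map_inv, map_mul, map_mul, hcommPhi, inv_mul_cancel]
    rw [ker_eq hQ hn] at hk
    obtain ⟨c, hc⟩ := hk
    have hcomm : h * g₀ = scalGO Q c * (g₀ * h) := by
      rw [scalGO_comm, hc, mul_inv_cancel_left]
    have hsqμ := mu_isSquare_of_comm h2 hQ hQ0 hcard hne g₀ l hsq heps h c hcomm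
    have hkerχ : h ∈ (chi hQ hQ0 hcard h2).ker := (mem_chi_ker hQ hQ0 hcard h2 h).2 ⟨hsqμ, hh⟩
    obtain ⟨c', h', hh', rfl⟩ := exists_SO_of_chi_ker hQ hQ0 hcard h2 h hkerχ
    have hpso : Phi (⇑Q) (scalGO Q c' * h') ∈ Cfsg.psoAut F (⇑Q) := by
      rw [map_mul, MonoidHom.mem_ker.1 (scal_le_ker ⟨c', rfl⟩), one_mul, psoAut_eq]
      exact ⟨h', hh', rfl⟩
    exact Subgroup.relIndex_eq_one.1 (relIndex_of_not_mem h2 hQ (by omega)
      (by rw [hcard]; exact even_two_mul n) hneg) hpso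

end GraphCountEven

section MinusInvol
variable {F : Type*} [Field F] [Fintype F]

set_option maxHeartbeats 1600000 in
/-- every involutory automorphism of the minus type group in odd characteristic is induced by a
similarity -/
theorem minus_invol_mem_pgo {p f k : ℕ} [Fact p.Prime] (hf : 1 ≤ f) (hF : Fintype.card F = p ^ f)
    (hp : p ≠ 2) (hk : 3 ≤ k) (a b : F)
    (hab : ∀ z₁ z₂ : F, z₁ ^ 2 + a * z₁ * z₂ + b * z₂ ^ 2 = 0 → z₁ = 0 ∧ z₂ = 0)
    (γ : MulAut (Cfsg.POmega F ⇑(QMn k a b))) (hγ2 : γ * γ = 1) :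
    γ ∈ Cfsg.pgoAut F ⇑(QMn k a b) := by
  classical
  have hpp : p.Prime := Fact.out
  haveI : CharP F p := PSL2Aut.charP_of_card hf hF
  have h2 : (2 : F) ≠ 0 := two_ne_zero_of_odd hf hF hp
  have hcoe := QMn_coe (F := F) k a b
  have hQ := QMn_nondeg (F := F) k a b hab
  have hQ0 := QMn_ne_zero (F := F) k a b
  have hcard := card_minus k
  have hn : 7 ≤ Fintype.card ((Fin k ⊕ Fin k) ⊕ Fin 2) := by rw [card_minus_index]; omega
  have hD := disc_not_isSquare h2 a b hab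
  obtain ⟨β, hβ⟩ : ∃ β : F, β = (a ^ 2 - 4 * b) ^ ((p - 1) / 2) := ⟨_, rfl⟩
  have hD0 : a ^ 2 - 4 * b ≠ 0 := by
    intro h
    exact hD ⟨0, by rw [h]; ring⟩
  have hβ0 : β ≠ 0 := by rw [hβ]; exact pow_ne_zero _ hD0
  obtain ⟨h1, h3⟩ := odd_lift (p := p) hp h2 a b
  rw [← hβ] at h1 h3
  have hpair : Cfsg.IsSemisimilarityPair (⇑(QMn k a b))
      (twistGL k ((frob F p a - a * β) / 2) β hβ0) (frob F p) := by
    rw [hcoe]
    exact pair_twist k a b _ β hβ0 (frob F p) h1 h3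
  have hord := orderOf_frob (F := F) (p := p) hf hF
  have hC := (PSL2Aut.ringAut_cyclic_card hf hF).2
  obtain ⟨Θ, hΘ⟩ : ∃ Θ, Θ = Theta p hQ hn (lag_minus a b hab) := ⟨_, rfl⟩
  obtain ⟨X, hX⟩ : ∃ X, X = PhiS (twistGL k ((frob F p a - a * β) / 2) β hβ0) (frob F p) hpair :=
    ⟨_, rfl⟩
  have hΘX : Θ X = frob F p := by rw [hΘ, hX, Theta_PhiS]
  have hker : Θ.ker = Cfsg.pgoAut F ⇑(QMn k a b) := by
    rw [hΘ]; exact Theta_ker p hQ hn (lag_minus a b hab)
  haveI hnorm : (idg (QMn k a b) hQ0 (k + 1)).Normal :=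
    idg_normal p hQ hn (lag_minus a b hab) hQ0 (k + 1)
  rw [← hker, MonoidHom.mem_ker]
  by_contra hτ
  obtain ⟨τ, hτdef⟩ : ∃ τ, τ = Θ γ := ⟨_, rfl⟩
  rw [← hτdef] at hτ
  have hττ : τ * τ = 1 := by rw [hτdef, ← map_mul, hγ2, map_one]
  haveI : Finite (F ≃+* F) := Nat.finite_of_card_ne_zero (by rw [hC]; omega)
  have htop : Subgroup.zpowers (frob F p) = ⊤ :=
    Subgroup.eq_top_of_card_eq _ (by rw [Nat.card_zpowers, hord, hC])
  have hmem : τ ∈ Subgroup.zpowers (frob F p) := by rw [htop]; exact Subgroup.mem_top _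
  obtain ⟨j, hjlt, hj⟩ : ∃ j : ℕ, j < f ∧ frob F p ^ j = τ := by
    obtain ⟨i, hi⟩ := Subgroup.mem_zpowers_iff.1 hmem
    have hfpos : (0 : ℤ) < (f : ℤ) := by exact_mod_cast hf
    refine ⟨(i % (f : ℤ)).toNat, ?_, ?_⟩
    · have := Int.emod_lt_of_pos i hfpos
      have h0 := Int.emod_nonneg i (ne_of_gt hfpos)
      omega
    · rw [← zpow_natCast, Int.toNat_of_nonneg (Int.emod_nonneg i (ne_of_gt hfpos)), ← hord,
        zpow_mod_orderOf]
      exact hi
  have hj0 : j ≠ 0 := by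
    rintro rfl
    rw [pow_zero] at hj
    exact hτ hj.symm
  have h2j : 2 * j = f := by
    have hdvd : f ∣ 2 * j := by
      rw [← hord]
      apply orderOf_dvd_of_pow_eq_one
      rw [two_mul, pow_add, hj]
      exact hττ
    obtain ⟨t, ht⟩ := hdvd
    have ht1 : t = 1 := by
      rcases Nat.lt_or_ge t 1 with h | h
      · have : t = 0 := by omega
        subst this
        omega
      · rcases Nat.lt_or_ge 1 t with h' | h'
        · have : 2 * f ≤ f * t := by nlinarith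
          omega
        · omega
    rw [ht, ht1, mul_one]
  obtain ⟨z, hz⟩ : ∃ z, z = γ * (X ^ j)⁻¹ := ⟨_, rfl⟩
  have hΘz : Θ z = 1 := by
    rw [hz, map_mul, map_inv, map_pow, hΘX, hj, ← hτdef, mul_inv_cancel]
  have hzP : z ∈ Cfsg.pgoAut F ⇑(QMn k a b) := by rw [← hker]; exact hΘz
  obtain ⟨z', hz'⟩ : ∃ z', z' = X ^ j * z * (X ^ j)⁻¹ := ⟨_, rfl⟩
  have hz'P : z' ∈ Cfsg.pgoAut F ⇑(QMn k a b) := by
    rw [← hker, MonoidHom.mem_ker, hz', map_mul, map_mul, hΘz, mul_one, map_inv, mul_inv_cancel]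
  have hprod : z * z' * X ^ f = 1 := by
    rw [← h2j, two_mul, pow_add, hz']
    have hγeq : γ = z * X ^ j := by rw [hz, inv_mul_cancel_right]
    calc z * (X ^ j * z * (X ^ j)⁻¹) * (X ^ j * X ^ j)
        = (z * X ^ j) * (z * X ^ j) := by group
      _ = 1 := by rw [← hγeq, hγ2]
  have hzz : z * z' ∈ idg (QMn k a b) hQ0 (k + 1) := by
    by_cases hzI : z ∈ idg (QMn k a b) hQ0 (k + 1)
    · apply Subgroup.mul_mem _ hzI
      rw [hz']
      exact hnorm.conj_mem z hzI (X ^ j)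
    · apply idg_mul_of_not_mem hQ hQ0 hcard h2 hn z z' hzP hz'P hzI
      intro hz'I
      apply hzI
      have := hnorm.conj_mem z' hz'I (X ^ j)⁻¹
      rw [hz', inv_inv] at this
      have e : (X ^ j)⁻¹ * (X ^ j * z * (X ^ j)⁻¹) * X ^ j = z := by group
      rw [e] at this
      exact this
  have hXf : X ^ f ∈ idg (QMn k a b) hQ0 (k + 1) := by
    have : X ^ f = (z * z')⁻¹ := eq_inv_of_mul_eq_one_right hprod
    rw [this]
    exact Subgroup.inv_mem _ hzz
  -- the `f`-th power is not inner-diagonal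
  have hσf : (frob F p) ^ f = 1 := by
    rw [← hord]
    exact pow_orderOf_eq_one _
  obtain ⟨hGO, hpow⟩ := PhiS_pow_of_pow_eq_one hpair hσf
  rw [hX, hpow] at hXf
  have hmat : ((twGL (frob F p) (twistGL k ((frob F p a - a * β) / 2) β hβ0) f :
      GL ((Fin k ⊕ Fin k) ⊕ Fin 2) F) :
      Matrix ((Fin k ⊕ Fin k) ⊕ Fin 2) ((Fin k ⊕ Fin k) ⊕ Fin 2) F) =
      twistMat k (xs (frob F p) ((frob F p a - a * β) / 2) β f) (-1) := by
    rw [twGL_coe, twistGL_coe, tw_twistMat, hβ, nrm_odd_lift hp h2 hF _ hD]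
  have heps := (Phi_mem_idg_iff hQ hQ0 hcard h2 hn _).1 hXf
  have hmu : (mu (⇑(QMn k a b)) ⟨_, hGO⟩ : F) = 1 := by
    apply twist_multiplier k a b (xs (frob F p) ((frob F p a - a * β) / 2) β f) (-1)
    intro v
    have := mu_spec (⇑(QMn k a b)) ⟨_, hGO⟩ v
    have e1 : ∀ w, (QMn k a b) w = Cfsg.quadFormMinus k F a b w := fun w => congrFun hcoe w
    rw [e1, e1] at this
    rw [← hmat]
    exact this
  have hmu' : mu (⇑(QMn k a b)) ⟨_, hGO⟩ = 1 := Units.ext hmu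
  rw [epsHom_apply, hmu', one_pow, inv_one, mul_one] at heps
  have hdet := congrArg Units.val heps
  rw [detGO_coe, Units.val_one] at hdet
  have hdet' : (twistMat k (xs (frob F p) ((frob F p a - a * β) / 2) β f) (-1)).det = 1 := by
    rw [← hmat]
    exact hdet
  rw [twistMat_det] at hdet'
  apply h2
  linear_combination -hdet'

end MinusInvol

section Minus
variable {F : Type*} [Field F] [Fintype F] [DecidableEq F]

set_option maxHeartbeats 800000 in
/-- the class of an involutory graph automorphism of the minus type group -/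
theorem minus_graph_invol_split (hodd : Odd (Fintype.card F)) {m : ℕ} (hm : 3 ≤ m) (a b : F)
    (hab : ∀ z₁ z₂ : F, z₁ ^ 2 + a * z₁ * z₂ + b * z₂ ^ 2 = 0 → z₁ = 0 ∧ z₂ = 0)
    (γ : MulAut (Cfsg.POmega F ⇑(QMn m a b)))
    (hγI : γ ∉ inndiagQM ⇑(QMn m a b) (Cfsg.PreservesSingularClassesMinus m a b))
    (hγ2 : orderOf γ = 2) :
    (Cfsg.splitClassCount (inndiagQM ⇑(QMn m a b) (Cfsg.PreservesSingularClassesMinus m a b))
        (Cfsg.Inn (Cfsg.POmega F ⇑(QMn m a b))) γ = 1 ∨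
      Cfsg.splitClassCount (inndiagQM ⇑(QMn m a b) (Cfsg.PreservesSingularClassesMinus m a b))
        (Cfsg.Inn (Cfsg.POmega F ⇑(QMn m a b))) γ = 2) ∧
    (¬ (Even m ∧ Fintype.card F % 4 = 1) →
      Cfsg.splitClassCount (inndiagQM ⇑(QMn m a b) (Cfsg.PreservesSingularClassesMinus m a b))
        (Cfsg.Inn (Cfsg.POmega F ⇑(QMn m a b))) γ = 2) := by
  have h2 : (2 : F) ≠ 0 := two_ne_zero_of_odd_card hodd
  have hQ := QMn_nondeg (F := F) m a b hab
  have hQ0 := QMn_ne_zero (F := F) m a b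
  have hcard := PGO.card_minus m
  have hn : 7 ≤ Fintype.card ((Fin m ⊕ Fin m) ⊕ Fin 2) := by rw [card_minus_index]; omega
  -- the characteristic
  obtain ⟨p, hchar⟩ := CharP.exists F
  haveI := hchar
  obtain ⟨f, hpp, hF⟩ := FiniteField.card F p
  haveI : Fact p.Prime := ⟨hpp⟩
  have hp : p ≠ 2 := by
    rintro rfl
    rw [hF] at hodd
    exact (Nat.not_even_iff_odd.2 hodd) ((Nat.even_pow' f.pos.ne').2 even_two)
  have hγγ : γ * γ = 1 := by
    have := pow_orderOf_eq_one γ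
    rw [hγ2, pow_two] at this
    exact this
  have hγP := minus_invol_mem_pgo (p := p) (f := f) f.pos hF hp hm a b hab γ hγγ
  rw [pgoAut_eq] at hγP
  obtain ⟨g₀, rfl⟩ := hγP
  rw [inndiag_minus hodd a b hab] at hγI ⊢
  have heps : epsHom (QMn m a b) hQ0 (m + 1) g₀ ≠ 1 := fun h =>
    hγI ((Phi_mem_idg_iff hQ hQ0 hcard h2 hn g₀).2 h)
  obtain ⟨hA, hB⟩ := graph_invol_count h2 hQ hQ0 hcard hn (chi_surj_minus m h2 a b hab) g₀ heps hγ2
  refine ⟨hA, fun hc => ?_⟩
  by_cases hme : Even m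
  · have hq : Fintype.card F % 4 = 3 := by
      have h1 : Fintype.card F % 4 ≠ 1 := fun h => hc ⟨hme, h⟩
      obtain ⟨t, ht⟩ := hodd
      omega
    exact hB ((negOne_minus_iff' rfl hodd m a b hab).2 ⟨hme, hq⟩)
      ((structure_minus rfl hodd hm a b hab).1 ⟨hme, hq⟩)
  · have hneg : negOne (QMn m a b) ∉ commutator ↥(Cfsg.isometryGroup F ⇑(QMn m a b)) := by
      rw [negOne_minus_iff' rfl hodd m a b hab]
      exact fun h => hme h.1
    have hne : Even (m + 1) := by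
      rw [Nat.even_add_one]
      exact hme
    exact graph_invol_count_even h2 hQ hQ0 hcard hn (chi_surj_minus m h2 a b hab) g₀ heps hγ2
      hne hneg

end Minus

end Cfsg.Agent.Lib.Helper5.OFld
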