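import Mathlib
import Cfsg.Prelude.Def_Characters
import Cfsg.Agent.Lib.Helper5.GL2Cusp

set_option autoImplicit false

/-!
Values on the Borel subgroup of a class function of `GL₂` orthogonal to the principal series.
-/

namespace Cfsg.Agent.Lib.Helper5

open Matrix
open Cfsg.Agent.Lib.Helper1 Cfsg.Agent.Lib.Helper4
open scoped ComplexConjugate

section
variable {F : Type*} [Field F] [Fintype F] [DecidableEq F]

/-- Shorthand for the elements of the Borel subgroup, as elements of `GL₂`. -/
noncomputable def gE (a d : Fˣ) (u : F) : GL (Fin 2) F :=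
  ((glE ((a, d), u) : Cfsg.upperTriangularGL 2 F) : GL (Fin 2) F)

omit [Fintype F] [DecidableEq F] in
theorem gE_coe (a d : Fˣ) (u : F) :
    ((gE a d u : GL (Fin 2) F) : Matrix (Fin 2) (Fin 2) F) = !![(a : F), u; 0, (d : F)] := rfl

omit [Fintype F] [DecidableEq F] in
theorem gE_one : gE (1 : Fˣ) 1 (0 : F) = 1 := by
  apply Units.ext
  rw [gE_coe]
  ext i j
  fin_cases i <;> fin_cases j <;> simp

omit [Fintype F] [DecidableEq F] in
theorem gE_mul (a d a' d' : Fˣ) (u u' : F) :
    gE a d u * gE a' d' u' = gE (a * a') (d * d') ((a : F) * u' + u * (d' : F)) := by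
  apply Units.ext
  rw [Units.val_mul, gE_coe, gE_coe, gE_coe]
  ext i j
  fin_cases i <;> fin_cases j <;> simp [Matrix.mul_apply, Fin.sum_univ_two]

omit [Fintype F] [DecidableEq F] in
/-- Upper triangular elements with distinct diagonal entries are conjugate to diagonal ones. -/
theorem isConj_gE_of_ne (a d : Fˣ) (had : (a : F) ≠ (d : F)) (u : F) :
    IsConj (gE a d 0) (gE a d u) := by
  rw [isConj_iff]
  refine ⟨gE 1 1 (u / ((d : F) - (a : F))), ?_⟩
  rw [mul_inv_eq_iff_eq_mul, gE_mul, gE_mul]
  have hne : (d : F) - (a : F) ≠ 0 := sub_ne_zero.2 (Ne.symm had)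
  congr 1
  · rw [one_mul, mul_one]
  · rw [one_mul, mul_one]
  · rw [Units.val_one]
    field_simp
    ring

omit [Fintype F] [DecidableEq F] in
/-- The nontrivial upper unitriangular elements are conjugate, also after scaling. -/
theorem isConj_gE_unip (a : Fˣ) (u : Fˣ) :
    IsConj (gE a a (a : F)) (gE a a ((u : F) * (a : F))) := by
  rw [isConj_iff]
  refine ⟨gE u 1 0, ?_⟩
  rw [mul_inv_eq_iff_eq_mul, gE_mul, gE_mul]
  congr 1
  · rw [mul_comm]
  · rw [mul_comm]
  · rw [Units.val_one]
    ring

/-- A class function orthogonal to the principal series vanishes at diagonal elements with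
distinct entries. -/
theorem cusp_split_zero (χ : GL (Fin 2) F → ℂ)
    (hχ : Cfsg.IsClassFunction (GL (Fin 2) F) χ)
    (h : ∀ α β : MulChar F ℂ, Cfsg.classInner (gpsFun α β) χ = 0) (a d : Fˣ)
    (had : (a : F) ≠ (d : F)) (u : F) : χ (gE a d u) = 0 := by
  have h1 := cusp_sum_zero χ hχ h a d
  have h2 : ∀ v : F, χ ((glE ((a, d), v) : Cfsg.upperTriangularGL 2 F) : GL (Fin 2) F)
      = χ (gE a d u) := by
    intro v
    have e1 := classFun_of_isConj hχ (isConj_gE_of_ne a d had v)
    have e2 := classFun_of_isConj hχ (isConj_gE_of_ne a d had u)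
    exact e1.symm.trans e2
  simp_rw [h2] at h1
  rw [Finset.sum_const, Finset.card_univ, nsmul_eq_mul] at h1
  rcases mul_eq_zero.1 h1 with h3 | h3
  · exact absurd h3 (Nat.cast_ne_zero.2 Fintype.card_ne_zero)
  · exact h3

/-- A class function orthogonal to the principal series: relation between the values at a scalar
and at the scalar times a transvection. -/
theorem cusp_unip_relation (χ : GL (Fin 2) F → ℂ)
    (hχ : Cfsg.IsClassFunction (GL (Fin 2) F) χ)
    (h : ∀ α β : MulChar F ℂ, Cfsg.classInner (gpsFun α β) χ = 0) (a : Fˣ) :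
    χ (gE a a 0) + ((Fintype.card F : ℂ) - 1) * χ (gE a a (a : F)) = 0 := by
  have h1 := cusp_sum_zero χ hχ h a a
  have h2 : ∀ v : F, χ ((glE ((a, a), v) : Cfsg.upperTriangularGL 2 F) : GL (Fin 2) F)
      = χ (gE a a (a : F)) + (if v = 0 then χ (gE a a 0) - χ (gE a a (a : F)) else 0) := by
    intro v
    by_cases hv : v = 0
    · subst hv
      rw [if_pos rfl]
      show χ (gE a a 0) = _
      ring
    · rw [if_neg hv, add_zero]
      have hv' : v = ((Units.mk0 v hv * a⁻¹ : Fˣ) : F) * (a : F) := by
        rw [Units.val_mul, Units.val_mk0, mul_assoc, Units.inv_mul, mul_one]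
      have e1 := classFun_of_isConj hχ (isConj_gE_unip a (Units.mk0 v hv * a⁻¹))
      rw [← hv'] at e1
      exact e1.symm
  simp_rw [h2] at h1
  rw [Finset.sum_add_distrib, Finset.sum_const, Finset.card_univ, nsmul_eq_mul,
    Finset.sum_ite_eq' Finset.univ (0 : F), if_pos (Finset.mem_univ _)] at h1
  linear_combination h1

end

end Cfsg.Agent.Lib.Helper5
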