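import Mathlib
import Cfsg.Prelude.Def_Characters
import Cfsg.Agent.Lib.Helper5.GL2Cusp2
import Cfsg.Agent.Lib.Helper5.SL2IrrClass
import Cfsg.Agent.Lib.Helper1.CharFound6

set_option autoImplicit false

/-!
First steps of the classification of the irreducible characters of `GL₂` over a finite field.
-/

namespace Cfsg.Agent.Lib.Helper5

open Matrix
open Cfsg.Agent.Lib.Helper1 Cfsg.Agent.Lib.Helper4
open scoped ComplexConjugate

section
variable {F : Type*} [Field F] [Fintype F] [DecidableEq F]

theorem isIrrCharacter_gpsFun {α β : MulChar F ℂ} (hαβ : α ≠ β) :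
    Cfsg.IsIrrCharacter (GL (Fin 2) F) (gpsFun α β) := by
  classical
  apply isIrrCharacter_of_norm_one (isCharacter_gpsFun α β)
  rw [classInner_gpsFun_gpsFun, if_pos ⟨rfl, rfl⟩, if_neg (fun h => hαβ h.1), add_zero]

/-- An irreducible character meeting the principal series is a linear character, a
Steinberg-type character or an irreducible principal series character. -/
theorem noncusp_cases {χ : GL (Fin 2) F → ℂ} (hχ : Cfsg.IsIrrCharacter (GL (Fin 2) F) χ)
    {α β : MulChar F ℂ} (h : Cfsg.classInner (gpsFun α β) χ ≠ 0) :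
    (∃ γ : MulChar F ℂ, χ = gdetFun γ) ∨ (∃ γ : MulChar F ℂ, χ = gstFun γ) ∨
      (∃ γ δ : MulChar F ℂ, γ ≠ δ ∧ χ = gpsFun γ δ) := by
  by_cases hαβ : α = β
  · subst hαβ
    rw [gpsFun_self_eq, classInner_add_left] at h
    by_cases h1 : Cfsg.classInner (gdetFun α) χ = 0
    · rw [h1, zero_add] at h
      right; left
      exact ⟨α, (eq_of_classInner_ne_zero (isIrrCharacter_gstFun α) hχ h).symm⟩
    · left
      exact ⟨α, (eq_of_classInner_ne_zero (isIrrCharacter_gdetFun α) hχ h1).symm⟩
  · right; right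
    exact ⟨α, β, hαβ, (eq_of_classInner_ne_zero (isIrrCharacter_gpsFun hαβ) hχ h).symm⟩

/-- The degree of an irreducible character orthogonal to the principal series is divisible by
`q - 1`. -/
theorem cusp_dvd {χ : GL (Fin 2) F → ℂ} (hχ : Cfsg.IsIrrCharacter (GL (Fin 2) F) χ)
    (h : ∀ α β : MulChar F ℂ, Cfsg.classInner (gpsFun α β) χ = 0) {n : ℕ} (hn : χ 1 = (n : ℂ)) :
    (Fintype.card F - 1) ∣ n := by
  have hcl := isClassFunction_of_isCharacter (isCharacter_of_irr hχ)
  have h1 := cusp_unip_relation χ hcl h 1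
  rw [gE_one, hn] at h1
  have hq2 : 2 ≤ Fintype.card F := Fintype.one_lt_card
  have hcast : ((Fintype.card F - 1 : ℕ) : ℂ) = (Fintype.card F : ℂ) - 1 := by
    rw [Nat.cast_sub (by omega)]
    simp
  have hne : ((Fintype.card F - 1 : ℕ) : ℂ) ≠ 0 := Nat.cast_ne_zero.2 (by omega)
  apply nat_dvd_of_isIntegral_div n (Fintype.card F - 1) (by omega)
  have h2 : (n : ℂ) / ((Fintype.card F - 1 : ℕ) : ℂ) = - χ (gE 1 1 ((1 : Fˣ) : F)) := by
    rw [div_eq_iff hne, hcast]
    linear_combination h1
  rw [h2]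
  exact (isIntegral_character_apply (isCharacter_of_irr hχ) _).neg

/-- The value at a transvection of an irreducible character orthogonal to the principal
series. -/
theorem cusp_unip_value {χ : GL (Fin 2) F → ℂ} (hχ : Cfsg.IsIrrCharacter (GL (Fin 2) F) χ)
    (h : ∀ α β : MulChar F ℂ, Cfsg.classInner (gpsFun α β) χ = 0)
    (hdeg : χ 1 = (Fintype.card F : ℂ) - 1) :
    χ (gE 1 1 (1 : F)) = -1 := by
  have hcl := isClassFunction_of_isCharacter (isCharacter_of_irr hχ)
  have h1 := cusp_unip_relation χ hcl h 1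
  rw [gE_one, hdeg, Units.val_one] at h1
  have hne : (Fintype.card F : ℂ) - 1 ≠ 0 := by
    intro h0
    have h2 : (Fintype.card F : ℂ) = ((1 : ℕ) : ℂ) := by
      rw [Nat.cast_one]
      linear_combination h0
    have h3 : Fintype.card F = 1 := Nat.cast_injective h2
    have := Fintype.one_lt_card (α := F)
    omega
  have h4 : ((Fintype.card F : ℂ) - 1) * (χ (gE 1 1 (1 : F)) + 1) = 0 := by
    linear_combination h1
  rcases mul_eq_zero.1 h4 with h5 | h5
  · exact absurd h5 hne
  · linear_combination h5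

end

end Cfsg.Agent.Lib.Helper5
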