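import Mathlib
import Cfsg.Prelude.Def_Characters
import Cfsg.Agent.Lib.Helper5.GL2Class
import Cfsg.Agent.Lib.Helper5.SL2FamilyCount
import Cfsg.Agent.Lib.Helper1.CharFound4
import Cfsg.Agent.Lib.Helper1.CharFound5
import Cfsg.Agent.S2305
import Cfsg.Agent.S2330

set_option autoImplicit false

/-!
Counting the families of irreducible characters of `GL₂` over a finite field.
-/

namespace Cfsg.Agent.Lib.Helper5

open Matrix
open Cfsg.Agent.Lib.Helper1 Cfsg.Agent.Lib.Helper4
open scoped ComplexConjugate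

section generic

/-- Splitting a sum along four exclusive and exhaustive conditions. -/
theorem sum_partition4 {ι M : Type*} [Fintype ι] [AddCommMonoid M] (P1 P2 P3 P4 : ι → Prop)
    [DecidablePred P1] [DecidablePred P2] [DecidablePred P3] [DecidablePred P4]
    (hex : ∀ x, P1 x ∨ P2 x ∨ P3 x ∨ P4 x)
    (h12 : ∀ x, P1 x → ¬ P2 x) (h13 : ∀ x, P1 x → ¬ P3 x) (h14 : ∀ x, P1 x → ¬ P4 x)
    (h23 : ∀ x, P2 x → ¬ P3 x) (h24 : ∀ x, P2 x → ¬ P4 x) (h34 : ∀ x, P3 x → ¬ P4 x)
    (φ : ι → M) :
    ∑ x, φ x = (∑ x with P1 x, φ x) + (∑ x with P2 x, φ x) + (∑ x with P3 x, φ x)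
      + (∑ x with P4 x, φ x) := by
  rw [Finset.sum_filter, Finset.sum_filter, Finset.sum_filter, Finset.sum_filter,
    ← Finset.sum_add_distrib, ← Finset.sum_add_distrib, ← Finset.sum_add_distrib]
  refine Finset.sum_congr rfl fun x _ => ?_
  rcases hex x with h | h | h | h
  · rw [if_pos h, if_neg (h12 x h), if_neg (h13 x h), if_neg (h14 x h)]
    simp
  · rw [if_neg (fun h1 => h12 x h1 h), if_pos h, if_neg (h23 x h), if_neg (h24 x h)]
    simp
  · rw [if_neg (fun h1 => h13 x h1 h), if_neg (fun h2 => h23 x h2 h), if_pos h, if_neg (h34 x h)]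
    simp
  · rw [if_neg (fun h1 => h14 x h1 h), if_neg (fun h2 => h24 x h2 h),
      if_neg (fun h3 => h34 x h3 h), if_pos h]
    simp

/-- Sum of a function constant on a filtered subset. -/
theorem sum_filter_const {ι : Type*} [Fintype ι] (P : ι → Prop) [DecidablePred P] (φ : ι → ℕ)
    (c : ℕ) (h : ∀ x, P x → φ x = c) :
    ∑ x with P x, φ x = Nat.card {x // P x} * c := by
  rw [Finset.sum_congr rfl (fun x hx => h x (Finset.mem_filter.1 hx).2), Finset.sum_const,
    smul_eq_mul, Nat.card_eq_fintype_card, Fintype.card_subtype]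

/-- Off-diagonal pairs. -/
theorem card_offDiag_add {M : Type*} [Finite M] :
    Nat.card {p : M × M // p.1 ≠ p.2} + Nat.card M = Nat.card M * Nat.card M := by
  classical
  have : Fintype M := Fintype.ofFinite M
  have h1 : Nat.card {p : M × M // p.1 = p.2} = Nat.card M :=
    Nat.card_congr ⟨fun p => p.1.1, fun m => ⟨(m, m), rfl⟩,
      fun p => by
        apply Subtype.ext
        apply Prod.ext
        · rfl
        · exact p.2,
      fun m => rfl⟩
  have h2 : Nat.card {p : M × M // p.1 ≠ p.2} + Nat.card {p : M × M // p.1 = p.2}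
      = Nat.card (M × M) := by
    simp only [Nat.card_eq_fintype_card, Fintype.card_subtype]
    rw [add_comm]
    have := Finset.card_filter_add_card_filter_not (s := (Finset.univ : Finset (M × M)))
      (fun p => p.1 = p.2)
    rw [Finset.card_univ] at this
    exact this
  rw [h1, Nat.card_prod] at h2
  exact h2

universe u

/-- A family of irreducible characters with an injective parametrisation. -/
theorem card_irr_inj {G : Type u} [Group G] {X : Type*} (f : X → G → ℂ)
    (hirr : ∀ x, Cfsg.IsIrrCharacter G (f x)) (hinj : Function.Injective f) :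
    Nat.card {χ : Cfsg.IrrCharacter G // ∃ x, (χ : G → ℂ) = f x} = Nat.card X := by
  symm
  apply Nat.card_congr
  refine Equiv.ofBijective (fun x => ⟨⟨f x, hirr x⟩, x, rfl⟩) ⟨?_, ?_⟩
  · intro x y h
    apply hinj
    exact congrArg (fun z : {χ : Cfsg.IrrCharacter G // ∃ x, (χ : G → ℂ) = f x} =>
      ((z : Cfsg.IrrCharacter G) : G → ℂ)) h
  · rintro ⟨⟨χ, hχ⟩, x, hx⟩
    exact ⟨x, Subtype.ext (Subtype.ext hx.symm)⟩

end generic

section
variable {F : Type*} [Field F] [Fintype F] [DecidableEq F]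

omit [Fintype F] [DecidableEq F] in
theorem gdetFun_injective : Function.Injective (gdetFun (F := F)) := by
  intro γ δ h
  apply MulChar.ext
  intro a
  have h1 := congrFun h (gE a 1 0)
  unfold gE at h1
  rw [gdetFun_glE, gdetFun_glE, Units.val_one, map_one, map_one, mul_one, mul_one] at h1
  exact h1

theorem classInner_gpsFun_gstFun (α β γ : MulChar F ℂ) [Decidable (α = γ ∧ β = γ)] :
    Cfsg.classInner (gpsFun α β) (gstFun γ) = if α = γ ∧ β = γ then 1 else 0 := by
  classical
  unfold gstFun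
  rw [classInner_sub_right, classInner_gpsFun_gpsFun, classInner_gpsFun_gdetFun]
  by_cases h : α = γ ∧ β = γ
  · rw [if_pos h]
    norm_num
  · rw [if_neg h]
    norm_num

theorem gstFun_injective : Function.Injective (gstFun (F := F)) := by
  classical
  intro γ δ h
  by_contra hne
  have h1 := classInner_gpsFun_gstFun γ γ γ
  have h2 := classInner_gpsFun_gstFun γ γ δ
  rw [if_pos ⟨rfl, rfl⟩] at h1
  rw [if_neg (fun h' => hne h'.1), ← h, h1] at h2
  exact one_ne_zero h2

omit [DecidableEq F] in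
theorem card_gdet_family :
    Nat.card {χ : Cfsg.IrrCharacter (GL (Fin 2) F) //
      ∃ γ : MulChar F ℂ, (χ : GL (Fin 2) F → ℂ) = gdetFun γ} = Fintype.card F - 1 := by
  rw [card_irr_inj gdetFun isIrrCharacter_gdetFun gdetFun_injective, card_mulChar]

theorem card_gst_family :
    Nat.card {χ : Cfsg.IrrCharacter (GL (Fin 2) F) //
      ∃ γ : MulChar F ℂ, (χ : GL (Fin 2) F → ℂ) = gstFun γ} = Fintype.card F - 1 := by
  rw [card_irr_inj gstFun isIrrCharacter_gstFun gstFun_injective, card_mulChar]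

theorem gpsFun_eq_iff (α β α' β' : MulChar F ℂ) :
    gpsFun α β = gpsFun α' β' ↔ (α = α' ∧ β = β') ∨ (α = β' ∧ β = α') :=
  Cfsg.Agent.S2305.result α β α' β'

theorem card_gps_family :
    2 * Nat.card {χ : Cfsg.IrrCharacter (GL (Fin 2) F) //
      ∃ γ δ : MulChar F ℂ, γ ≠ δ ∧ (χ : GL (Fin 2) F → ℂ) = gpsFun γ δ} + (Fintype.card F - 1)
      = (Fintype.card F - 1) * (Fintype.card F - 1) := by
  have key := card_irr_family (G := GL (Fin 2) F)
    (X := {p : MulChar F ℂ × MulChar F ℂ // p.1 ≠ p.2})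
    (fun χ => ∃ γ δ : MulChar F ℂ, γ ≠ δ ∧ χ = gpsFun γ δ)
    (fun p => gpsFun p.1.1 p.1.2) (fun p => isIrrCharacter_gpsFun p.2)
    (fun p => ⟨p.1.1, p.1.2, p.2, rfl⟩)
    (fun χ _ ⟨γ, δ, hne, h⟩ => ⟨⟨(γ, δ), hne⟩, h.symm⟩)
    (fun p => ⟨(p.1.2, p.1.1), fun h => p.2 h.symm⟩)
    (fun p h => p.2 (congrArg (fun z : {p : MulChar F ℂ × MulChar F ℂ // p.1 ≠ p.2} => z.1.2) h))
    (fun p r => by
      rw [gpsFun_eq_iff]
      constructor
      · rintro (⟨h1, h2⟩ | ⟨h1, h2⟩)
        · left
          exact Subtype.ext (Prod.ext h1.symm h2.symm)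
        · right
          exact Subtype.ext (Prod.ext h2.symm h1.symm)
      · rintro (h | h)
        · subst h
          left
          exact ⟨rfl, rfl⟩
        · subst h
          right
          exact ⟨rfl, rfl⟩)
  rw [← key, ← card_mulChar]
  exact card_offDiag_add

end

end Cfsg.Agent.Lib.Helper5
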