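import Mathlib
import Cfsg.Prelude.Def_Characters
import Cfsg.Agent.Lib.Helper5.GL2Count

set_option autoImplicit false

/-!
The irreducible characters of `GL₂` over a finite field orthogonal to the principal series have
degree `q - 1`, and there are `q (q - 1) / 2` of them.
-/

namespace Cfsg.Agent.Lib.Helper5

open Matrix
open Cfsg.Agent.Lib.Helper1 Cfsg.Agent.Lib.Helper4
open scoped ComplexConjugate

section generic
universe u
variable {G : Type u} [Group G] [Fintype G]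

/-- The sum of the squares of the degrees, for any choice of natural number degrees. -/
theorem sum_deg_sq [Fintype (Cfsg.IrrCharacter G)] (deg : Cfsg.IrrCharacter G → ℕ)
    (hdeg : ∀ ψ : Cfsg.IrrCharacter G, (ψ : G → ℂ) 1 = (deg ψ : ℂ)) :
    ∑ ψ : Cfsg.IrrCharacter G, deg ψ ^ 2 = Nat.card G := by
  have h := column_orthogonality (G := G) 1 1
  have h1 : Subgroup.centralizer ({1} : Set G) = ⊤ := by
    rw [Subgroup.centralizer_eq_top_iff_subset]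
    intro x hx
    rw [Set.mem_singleton_iff.1 hx]
    exact Subgroup.one_mem _
  have h2 : classIndicator (1 : G) 1 = 1 := by
    unfold classIndicator
    rw [if_pos (IsConj.refl 1)]
  rw [h1, h2, mul_one, Subgroup.card_top] at h
  have h3 : ((∑ ψ : Cfsg.IrrCharacter G, deg ψ ^ 2 : ℕ) : ℂ) = (Nat.card G : ℂ) := by
    rw [← h]
    push_cast
    refine Finset.sum_congr rfl fun ψ _ => ?_
    rw [hdeg ψ, Complex.conj_natCast]
    ring
  exact Nat.cast_injective h3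

end generic

section
variable {F : Type*} [Field F] [Fintype F] [DecidableEq F]

omit [DecidableEq F] in
theorem card_GL2 : Nat.card (GL (Fin 2) F)
    = (Fintype.card F ^ 2 - 1) * (Fintype.card F ^ 2 - Fintype.card F) := by
  rw [Matrix.card_GL_field, Fin.prod_univ_two]
  simp

/-- The irreducible characters of `GL₂` orthogonal to the principal series: degree and number. -/
theorem cusp_main :
    (∀ ψ : Cfsg.IrrCharacter (GL (Fin 2) F),
      (∀ α β : MulChar F ℂ, Cfsg.classInner (gpsFun α β) (ψ : GL (Fin 2) F → ℂ) = 0) →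
        (ψ : GL (Fin 2) F → ℂ) 1 = (Fintype.card F : ℂ) - 1) ∧
    2 * Nat.card {ψ : Cfsg.IrrCharacter (GL (Fin 2) F) //
      ∀ α β : MulChar F ℂ, Cfsg.classInner (gpsFun α β) (ψ : GL (Fin 2) F → ℂ) = 0}
      = Fintype.card F * (Fintype.card F - 1) := by
  classical
  have : Fintype (Cfsg.IrrCharacter (GL (Fin 2) F)) := Fintype.ofFinite _
  choose deg hdegpos hdeg using
    fun ψ : Cfsg.IrrCharacter (GL (Fin 2) F) => irr_apply_one_pos ψ.2
  obtain ⟨n, hn⟩ : ∃ n, Fintype.card F = n + 1 :=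
    ⟨Fintype.card F - 1, by have := Fintype.card_pos (α := F); omega⟩
  have hn1 : 1 ≤ n := by have := Fintype.one_lt_card (α := F); omega
  have d1 : ∀ ψ : Cfsg.IrrCharacter (GL (Fin 2) F),
      (∃ γ : MulChar F ℂ, (ψ : GL (Fin 2) F → ℂ) = gdetFun γ) → deg ψ = 1 := by
    rintro ψ ⟨γ, h⟩
    have h1 := hdeg ψ
    rw [h, gdetFun_one] at h1
    exact_mod_cast h1.symm
  have d2 : ∀ ψ : Cfsg.IrrCharacter (GL (Fin 2) F),
      (∃ γ : MulChar F ℂ, (ψ : GL (Fin 2) F → ℂ) = gstFun γ) → deg ψ = n + 1 := by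
    rintro ψ ⟨γ, h⟩
    have h1 := hdeg ψ
    rw [h, gstFun_one, hn] at h1
    exact (Nat.cast_injective h1).symm
  have d3 : ∀ ψ : Cfsg.IrrCharacter (GL (Fin 2) F),
      (∃ γ δ : MulChar F ℂ, γ ≠ δ ∧ (ψ : GL (Fin 2) F → ℂ) = gpsFun γ δ) → deg ψ = n + 2 := by
    rintro ψ ⟨γ, δ, -, h⟩
    have h1 := hdeg ψ
    rw [h, gpsFun_one, hn] at h1
    have h2 : ((n + 2 : ℕ) : ℂ) = (deg ψ : ℂ) := by
      rw [← h1]
      push_cast
      ring
    exact (Nat.cast_injective h2).symm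
  have d4 : ∀ ψ : Cfsg.IrrCharacter (GL (Fin 2) F),
      (∀ α β : MulChar F ℂ, Cfsg.classInner (gpsFun α β) (ψ : GL (Fin 2) F → ℂ) = 0) →
        n ∣ deg ψ := by
    intro ψ h
    have h1 := cusp_dvd ψ.2 h (hdeg ψ)
    rwa [hn, Nat.add_sub_cancel] at h1
  have h14 : ∀ ψ : Cfsg.IrrCharacter (GL (Fin 2) F),
      (∃ γ : MulChar F ℂ, (ψ : GL (Fin 2) F → ℂ) = gdetFun γ) →
      ¬ (∀ α β : MulChar F ℂ, Cfsg.classInner (gpsFun α β) (ψ : GL (Fin 2) F → ℂ) = 0) := by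
    rintro ψ ⟨γ, h⟩ h4
    have h1 := classInner_gpsFun_gdetFun γ γ γ
    rw [if_pos ⟨rfl, rfl⟩, ← h, h4 γ γ] at h1
    exact zero_ne_one h1
  have h24 : ∀ ψ : Cfsg.IrrCharacter (GL (Fin 2) F),
      (∃ γ : MulChar F ℂ, (ψ : GL (Fin 2) F → ℂ) = gstFun γ) →
      ¬ (∀ α β : MulChar F ℂ, Cfsg.classInner (gpsFun α β) (ψ : GL (Fin 2) F → ℂ) = 0) := by
    rintro ψ ⟨γ, h⟩ h4
    have h1 := classInner_gpsFun_gstFun γ γ γ
    rw [if_pos ⟨rfl, rfl⟩, ← h, h4 γ γ] at h1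
    exact zero_ne_one h1
  have h34 : ∀ ψ : Cfsg.IrrCharacter (GL (Fin 2) F),
      (∃ γ δ : MulChar F ℂ, γ ≠ δ ∧ (ψ : GL (Fin 2) F → ℂ) = gpsFun γ δ) →
      ¬ (∀ α β : MulChar F ℂ, Cfsg.classInner (gpsFun α β) (ψ : GL (Fin 2) F → ℂ) = 0) := by
    rintro ψ ⟨γ, δ, hne, h⟩ h4
    have h1 := classInner_gpsFun_gpsFun γ δ γ δ
    rw [if_pos ⟨rfl, rfl⟩, if_neg (fun h' => hne h'.1), add_zero] at h1
    have h2 := h4 γ δ
    rw [h, h1] at h2
    exact one_ne_zero h2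
  have hex : ∀ ψ : Cfsg.IrrCharacter (GL (Fin 2) F),
      (∃ γ : MulChar F ℂ, (ψ : GL (Fin 2) F → ℂ) = gdetFun γ) ∨
      (∃ γ : MulChar F ℂ, (ψ : GL (Fin 2) F → ℂ) = gstFun γ) ∨
      (∃ γ δ : MulChar F ℂ, γ ≠ δ ∧ (ψ : GL (Fin 2) F → ℂ) = gpsFun γ δ) ∨
      (∀ α β : MulChar F ℂ, Cfsg.classInner (gpsFun α β) (ψ : GL (Fin 2) F → ℂ) = 0) := by
    intro ψ
    by_cases h4 : ∀ α β : MulChar F ℂ, Cfsg.classInner (gpsFun α β) (ψ : GL (Fin 2) F → ℂ) = 0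
    · right; right; right; exact h4
    · rw [not_forall] at h4
      obtain ⟨α, h4⟩ := h4
      rw [not_forall] at h4
      obtain ⟨β, hαβ⟩ := h4
      rcases noncusp_cases ψ.2 hαβ with h | h | h
      · left; exact h
      · right; left; exact h
      · right; right; left; exact h
  have h12 : ∀ ψ : Cfsg.IrrCharacter (GL (Fin 2) F),
      (∃ γ : MulChar F ℂ, (ψ : GL (Fin 2) F → ℂ) = gdetFun γ) →
      ¬ (∃ γ : MulChar F ℂ, (ψ : GL (Fin 2) F → ℂ) = gstFun γ) := by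
    intro ψ h h'
    have := d1 ψ h
    have := d2 ψ h'
    omega
  have h13 : ∀ ψ : Cfsg.IrrCharacter (GL (Fin 2) F),
      (∃ γ : MulChar F ℂ, (ψ : GL (Fin 2) F → ℂ) = gdetFun γ) →
      ¬ (∃ γ δ : MulChar F ℂ, γ ≠ δ ∧ (ψ : GL (Fin 2) F → ℂ) = gpsFun γ δ) := by
    intro ψ h h'
    have := d1 ψ h
    have := d3 ψ h'
    omega
  have h23 : ∀ ψ : Cfsg.IrrCharacter (GL (Fin 2) F),
      (∃ γ : MulChar F ℂ, (ψ : GL (Fin 2) F → ℂ) = gstFun γ) →
      ¬ (∃ γ δ : MulChar F ℂ, γ ≠ δ ∧ (ψ : GL (Fin 2) F → ℂ) = gpsFun γ δ) := by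
    intro ψ h h'
    have := d2 ψ h
    have := d3 ψ h'
    omega
  have hsum := sum_deg_sq deg hdeg
  have hq1 : (n + 1) ^ 2 - 1 = n * n + 2 * n := by
    have : (n + 1) ^ 2 = n * n + 2 * n + 1 := by ring
    omega
  have hq2 : (n + 1) ^ 2 - (n + 1) = n * n + n := by
    have : (n + 1) ^ 2 = n * n + n + (n + 1) := by ring
    omega
  rw [card_GL2, hn, hq1, hq2] at hsum
  have hcard : Fintype.card (Cfsg.IrrCharacter (GL (Fin 2) F)) = n * n + 2 * n := by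
    rw [← Nat.card_eq_fintype_card, card_irr_eq_card_conjClasses, Cfsg.Agent.S2330.result, hn, hq1]
  have e1 := sum_partition4 _ _ _ _ hex h12 h13 h14 h23 h24 h34 (fun ψ => deg ψ ^ 2)
  have e2 := sum_partition4 _ _ _ _ hex h12 h13 h14 h23 h24 h34 (fun _ => 1)
  rw [hsum, sum_filter_const _ _ (1 ^ 2) (fun ψ h => by rw [d1 ψ h]),
    sum_filter_const _ _ ((n + 1) ^ 2) (fun ψ h => by rw [d2 ψ h]),
    sum_filter_const _ _ ((n + 2) ^ 2) (fun ψ h => by rw [d3 ψ h])] at e1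
  rw [Finset.sum_const, Finset.card_univ, smul_eq_mul, mul_one, hcard,
    sum_filter_const _ _ 1 (fun _ _ => rfl), sum_filter_const _ _ 1 (fun _ _ => rfl),
    sum_filter_const _ _ 1 (fun _ _ => rfl), sum_filter_const _ _ 1 (fun _ _ => rfl)] at e2
  have hN1 := card_gdet_family (F := F)
  have hN2 := card_gst_family (F := F)
  have hN3 := card_gps_family (F := F)
  rw [hn, Nat.add_sub_cancel] at hN1 hN2 hN3
  rw [hN1, hN2] at e1 e2
  obtain ⟨N3, hN3def⟩ : ∃ N3, N3 = Nat.card {χ : Cfsg.IrrCharacter (GL (Fin 2) F) //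
      ∃ γ δ : MulChar F ℂ, γ ≠ δ ∧ (χ : GL (Fin 2) F → ℂ) = gpsFun γ δ} := ⟨_, rfl⟩
  obtain ⟨N4, hN4def⟩ : ∃ N4, N4 = Nat.card {ψ : Cfsg.IrrCharacter (GL (Fin 2) F) //
      ∀ α β : MulChar F ℂ, Cfsg.classInner (gpsFun α β) (ψ : GL (Fin 2) F → ℂ) = 0} := ⟨_, rfl⟩
  rw [← hN3def] at e1 e2 hN3
  rw [← hN4def] at e2
  obtain ⟨T, hT⟩ : ∃ T, T = ∑ ψ ∈ Finset.univ.filter
      (fun ψ : Cfsg.IrrCharacter (GL (Fin 2) F) =>
        ∀ α β : MulChar F ℂ, Cfsg.classInner (gpsFun α β) (ψ : GL (Fin 2) F → ℂ) = 0),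
      deg ψ ^ 2 := ⟨_, rfl⟩
  rw [← hT] at e1
  have hTN : T = N4 * n ^ 2 := by
    have e1' : (((n * n + 2 * n) * (n * n + n) : ℕ) : ℤ)
        = ((n * 1 ^ 2 + n * (n + 1) ^ 2 + N3 * (n + 2) ^ 2 + T : ℕ) : ℤ) := by rw [e1]
    have e2' : ((n * n + 2 * n : ℕ) : ℤ) = ((n * 1 + n * 1 + N3 * 1 + N4 * 1 : ℕ) : ℤ) := by
      rw [e2]
    have e3' : ((2 * N3 + n : ℕ) : ℤ) = ((n * n : ℕ) : ℤ) := by rw [hN3]
    push_cast at e1' e2' e3'
    have : (T : ℤ) = (N4 : ℤ) * (n : ℤ) ^ 2 := by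
      linear_combination -e1' + (n : ℤ) ^ 2 * e2' - (2 * (n : ℤ) + 2) * e3'
    exact_mod_cast this
  refine ⟨?_, ?_⟩
  · intro ψ hψ
    have hle : ∀ φ ∈ (Finset.univ.filter (fun ψ : Cfsg.IrrCharacter (GL (Fin 2) F) =>
        ∀ α β : MulChar F ℂ, Cfsg.classInner (gpsFun α β) (ψ : GL (Fin 2) F → ℂ) = 0)),
        n ^ 2 ≤ deg φ ^ 2 := by
      intro φ hφ
      have h1 := d4 φ (Finset.mem_filter.1 hφ).2
      exact Nat.pow_le_pow_left (Nat.le_of_dvd (hdegpos φ) h1) 2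
    have hiff := Finset.sum_eq_sum_iff_of_le hle
    have hs : ∑ _ψ ∈ Finset.univ.filter
        (fun ψ : Cfsg.IrrCharacter (GL (Fin 2) F) =>
          ∀ α β : MulChar F ℂ, Cfsg.classInner (gpsFun α β) (ψ : GL (Fin 2) F → ℂ) = 0), n ^ 2
        = N4 * n ^ 2 := by
      rw [hN4def]
      exact sum_filter_const _ _ (n ^ 2) (fun _ _ => rfl)
    have h3 := hiff.1 (by rw [hs, ← hT, hTN]) ψ (Finset.mem_filter.2 ⟨Finset.mem_univ _, hψ⟩)
    have h4 : deg ψ = n := by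
      have := Nat.pow_left_injective (n := 2) (by norm_num) h3
      exact this.symm
    rw [hdeg ψ, h4, hn]
    push_cast
    ring
  · rw [← hN4def, hn, Nat.add_sub_cancel]
    have e2' : ((n * n + 2 * n : ℕ) : ℤ) = ((n * 1 + n * 1 + N3 * 1 + N4 * 1 : ℕ) : ℤ) := by
      rw [e2]
    have e3' : ((2 * N3 + n : ℕ) : ℤ) = ((n * n : ℕ) : ℤ) := by rw [hN3]
    push_cast at e2' e3'
    have : (2 * (N4 : ℤ)) = ((n : ℤ) + 1) * (n : ℤ) := by
      linear_combination (-2 : ℤ) * e2' - e3'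
    exact_mod_cast this

end

end Cfsg.Agent.Lib.Helper5
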