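import Mathlib
import Cfsg.Prelude.Def_Characters
import Cfsg.Agent.Lib.Helper5.GL2Degree

set_option autoImplicit false

/-!
The classification of the irreducible characters of `GL₂` over a finite field, and the values
needed to read off the character table.
-/

namespace Cfsg.Agent.Lib.Helper5

open Matrix
open Cfsg.Agent.Lib.Helper1 Cfsg.Agent.Lib.Helper4
open scoped ComplexConjugate

section
variable {F : Type*} [Field F] [Fintype F] [DecidableEq F]

omit [DecidableEq F] in
theorem mulChar_norm (γ : MulChar F ℂ) {a : F} (ha : a ≠ 0) : ‖γ a‖ = 1 := by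
  have hq : Fintype.card F - 1 ≠ 0 := by
    have := Fintype.one_lt_card (α := F)
    omega
  apply Complex.norm_eq_one_of_pow_eq_one _ hq
  rw [← map_pow, FiniteField.pow_card_sub_one_eq_one a ha, map_one]

/-- The classification of the irreducible characters of `GL₂(q)`. -/
theorem gl2_irr_cases {χ : GL (Fin 2) F → ℂ} (hχ : Cfsg.IsIrrCharacter (GL (Fin 2) F) χ) :
    (∃ γ : MulChar F ℂ, χ = gdetFun γ) ∨ (∃ γ : MulChar F ℂ, χ = gstFun γ) ∨
    (∃ γ δ : MulChar F ℂ, γ ≠ δ ∧ χ = gpsFun γ δ) ∨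
    ((∀ α β : MulChar F ℂ, Cfsg.classInner (gpsFun α β) χ = 0) ∧
      χ 1 = (Fintype.card F : ℂ) - 1) := by
  by_cases h4 : ∀ α β : MulChar F ℂ, Cfsg.classInner (gpsFun α β) χ = 0
  · right; right; right
    exact ⟨h4, cusp_main.1 ⟨χ, hχ⟩ h4⟩
  · rw [not_forall] at h4
    obtain ⟨α, h4⟩ := h4
    rw [not_forall] at h4
    obtain ⟨β, hαβ⟩ := h4
    rcases noncusp_cases hχ hαβ with h | h | h
    · left; exact h
    · right; left; exact h
    · right; right; left; exact h

omit [Fintype F] [DecidableEq F] in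
theorem exists_gE_of_lower_zero (g : GL (Fin 2) F)
    (h10 : (g : Matrix (Fin 2) (Fin 2) F) 1 0 = 0) :
    ∃ a d : Fˣ, (a : F) = (g : Matrix (Fin 2) (Fin 2) F) 0 0 ∧
      (d : F) = (g : Matrix (Fin 2) (Fin 2) F) 1 1 ∧
      g = gE a d ((g : Matrix (Fin 2) (Fin 2) F) 0 1) := by
  have hdet : (g : Matrix (Fin 2) (Fin 2) F).det ≠ 0 := by
    have h1 : (g : Matrix (Fin 2) (Fin 2) F) * ((g⁻¹ : GL (Fin 2) F) : Matrix (Fin 2) (Fin 2) F)
        = 1 := by
      rw [← Units.val_mul, mul_inv_cancel, Units.val_one]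
    intro h
    have h2 := congrArg Matrix.det h1
    rw [Matrix.det_mul, h, zero_mul, Matrix.det_one] at h2
    exact zero_ne_one h2
  rw [Matrix.det_fin_two, h10, mul_zero, sub_zero] at hdet
  have ha : (g : Matrix (Fin 2) (Fin 2) F) 0 0 ≠ 0 := left_ne_zero_of_mul hdet
  have hd : (g : Matrix (Fin 2) (Fin 2) F) 1 1 ≠ 0 := right_ne_zero_of_mul hdet
  refine ⟨Units.mk0 _ ha, Units.mk0 _ hd, rfl, rfl, ?_⟩
  apply Units.ext
  rw [gE_coe]
  ext i j
  fin_cases i <;> fin_cases j <;> simp [h10]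

/-- A principal series function vanishes at an element without eigenvector. -/
theorem gpsFun_of_no_eigenvector (α β : MulChar F ℂ) (g : GL (Fin 2) F)
    (hno : ∀ (c : F) (v : Fin 2 → F), v ≠ 0 →
      (g : Matrix (Fin 2) (Fin 2) F).mulVec v ≠ c • v) : gpsFun α β g = 0 := by
  rw [gpsFun_value α β g _ _ _ _ rfl rfl rfl rfl]
  have hc : (g : Matrix (Fin 2) (Fin 2) F) 1 0 ≠ 0 := by
    intro hc
    apply hno ((g : Matrix (Fin 2) (Fin 2) F) 0 0) ![1, 0]
    · intro h
      have := congrFun h 0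
      simp at this
    · ext i
      fin_cases i <;> simp [Matrix.mulVec, dotProduct, Fin.sum_univ_two, hc]
  rw [if_neg hc, zero_add]
  apply Finset.sum_eq_zero
  intro s _
  rw [if_neg]
  intro hs
  apply hno ((g : Matrix (Fin 2) (Fin 2) F) 1 0 * s + (g : Matrix (Fin 2) (Fin 2) F) 1 1) ![s, 1]
  · intro h
    have := congrFun h 1
    simp at this
  · ext i
    fin_cases i
    · simp [Matrix.mulVec, dotProduct, Fin.sum_univ_two]
      linear_combination -hs
    · simp [Matrix.mulVec, dotProduct, Fin.sum_univ_two]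

/-- A principal series function at a diagonal element with distinct entries. -/
theorem gpsFun_diag (α β : MulChar F ℂ) (g : GL (Fin 2) F)
    (h01 : (g : Matrix (Fin 2) (Fin 2) F) 0 1 = 0) (h10 : (g : Matrix (Fin 2) (Fin 2) F) 1 0 = 0)
    (hne : (g : Matrix (Fin 2) (Fin 2) F) 0 0 ≠ (g : Matrix (Fin 2) (Fin 2) F) 1 1) :
    gpsFun α β g = α ((g : Matrix (Fin 2) (Fin 2) F) 0 0) * β ((g : Matrix (Fin 2) (Fin 2) F) 1 1)
      + α ((g : Matrix (Fin 2) (Fin 2) F) 1 1) * β ((g : Matrix (Fin 2) (Fin 2) F) 0 0) := by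
  rw [gpsFun_value α β g _ _ _ _ rfl h01 h10 rfl, if_pos rfl]
  congr 1
  rw [Finset.sum_eq_single (0 : F)]
  · rw [if_pos (by ring)]
    simp
  · intro s _ hs
    rw [if_neg]
    intro h
    apply hs
    have h1 : ((g : Matrix (Fin 2) (Fin 2) F) 1 1 - (g : Matrix (Fin 2) (Fin 2) F) 0 0) * s = 0 := by
      linear_combination h
    rcases mul_eq_zero.1 h1 with h2 | h2
    · exact absurd (sub_eq_zero.1 h2).symm hne
    · exact h2
  · intro h
    exact absurd (Finset.mem_univ _) h

/-- A principal series function at the standard transvection. -/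
theorem gpsFun_unip (α β : MulChar F ℂ) (u : GL (Fin 2) F)
    (hu : (u : Matrix (Fin 2) (Fin 2) F) = !![1, 1; 0, 1]) : gpsFun α β u = 1 := by
  rw [gpsFun_value α β u 1 1 0 1 (by rw [hu]; rfl) (by rw [hu]; rfl) (by rw [hu]; rfl)
    (by rw [hu]; rfl), if_pos rfl, map_one, map_one, mul_one]
  rw [Finset.sum_eq_zero, add_zero]
  intro s _
  rw [if_neg]
  intro h
  have : (-1 : F) = 0 := by linear_combination h
  exact one_ne_zero (neg_eq_zero.1 this)

end

end Cfsg.Agent.Lib.Helper5
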