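import Mathlib
import Cfsg.Prelude.Def_Characters
import Cfsg.Agent.Lib.Helper5.GL2Table

set_option autoImplicit false

/-!
Identifying the irreducible characters of `GL₂` over a finite field by their degrees.
-/

namespace Cfsg.Agent.Lib.Helper5

open Matrix
open Cfsg.Agent.Lib.Helper1 Cfsg.Agent.Lib.Helper4
open scoped ComplexConjugate

section
variable {F : Type*} [Field F] [Fintype F] [DecidableEq F]

omit [Field F] [DecidableEq F] in
theorem card_eq_of_cast_eq {m : ℕ} (h : (Fintype.card F : ℂ) = (m : ℂ)) : Fintype.card F = m :=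
  Nat.cast_injective h

theorem eq_gst_of_degree {χ : GL (Fin 2) F → ℂ} (hχ : Cfsg.IsIrrCharacter (GL (Fin 2) F) χ)
    (hdeg : χ 1 = (Fintype.card F : ℂ)) : ∃ γ : MulChar F ℂ, χ = gstFun γ := by
  have hq2 := Fintype.one_lt_card (α := F)
  rcases gl2_irr_cases hχ with ⟨γ, h⟩ | h | ⟨γ, δ, -, h⟩ | ⟨-, h⟩
  · exfalso
    rw [h, gdetFun_one] at hdeg
    have := card_eq_of_cast_eq (F := F) (m := 1) (by rw [← hdeg]; simp)
    omega
  · exact h
  · exfalso
    rw [h, gpsFun_one] at hdeg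
    have : (1 : ℂ) = 0 := by linear_combination hdeg
    exact one_ne_zero this
  · exfalso
    rw [h] at hdeg
    have : (1 : ℂ) = 0 := by linear_combination -hdeg
    exact one_ne_zero this

theorem eq_gps_of_degree {χ : GL (Fin 2) F → ℂ} (hχ : Cfsg.IsIrrCharacter (GL (Fin 2) F) χ)
    (hdeg : χ 1 = (Fintype.card F : ℂ) + 1) :
    ∃ γ δ : MulChar F ℂ, γ ≠ δ ∧ χ = gpsFun γ δ := by
  have hq2 := Fintype.one_lt_card (α := F)
  rcases gl2_irr_cases hχ with ⟨γ, h⟩ | ⟨γ, h⟩ | h | ⟨-, h⟩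
  · exfalso
    rw [h, gdetFun_one] at hdeg
    have := card_eq_of_cast_eq (F := F) (m := 0) (by push_cast; linear_combination -hdeg)
    omega
  · exfalso
    rw [h, gstFun_one] at hdeg
    have : (1 : ℂ) = 0 := by linear_combination -hdeg
    exact one_ne_zero this
  · exact h
  · exfalso
    rw [h] at hdeg
    have : (2 : ℂ) = 0 := by linear_combination -hdeg
    exact two_ne_zero this

theorem cusp_of_degree {χ : GL (Fin 2) F → ℂ} (hχ : Cfsg.IsIrrCharacter (GL (Fin 2) F) χ)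
    (hdeg : χ 1 = (Fintype.card F : ℂ) - 1) :
    (∀ α β : MulChar F ℂ, Cfsg.classInner (gpsFun α β) χ = 0) ∨
      (Fintype.card F = 2 ∧ ∃ γ : MulChar F ℂ, χ = gdetFun γ) := by
  rcases gl2_irr_cases hχ with ⟨γ, h⟩ | ⟨γ, h⟩ | ⟨γ, δ, -, h⟩ | ⟨h, -⟩
  · right
    refine ⟨?_, γ, h⟩
    rw [h, gdetFun_one] at hdeg
    exact card_eq_of_cast_eq (F := F) (m := 2) (by push_cast; linear_combination -hdeg)
  · exfalso
    rw [h, gstFun_one] at hdeg
    have : (1 : ℂ) = 0 := by linear_combination hdeg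
    exact one_ne_zero this
  · exfalso
    rw [h, gpsFun_one] at hdeg
    have : (2 : ℂ) = 0 := by linear_combination hdeg
    exact two_ne_zero this
  · left
    exact h

theorem eq_gdet_of_degree (hq : 3 ≤ Fintype.card F) {χ : GL (Fin 2) F → ℂ}
    (hχ : Cfsg.IsIrrCharacter (GL (Fin 2) F) χ) (hdeg : χ 1 = 1) :
    ∃ γ : MulChar F ℂ, χ = gdetFun γ := by
  rcases gl2_irr_cases hχ with h | ⟨γ, h⟩ | ⟨γ, δ, -, h⟩ | ⟨-, h⟩
  · exact h
  · exfalso
    rw [h, gstFun_one] at hdeg
    have := card_eq_of_cast_eq (F := F) (m := 1) (by rw [hdeg]; simp)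
    omega
  · exfalso
    rw [h, gpsFun_one] at hdeg
    have := card_eq_of_cast_eq (F := F) (m := 0) (by push_cast; linear_combination hdeg)
    omega
  · exfalso
    rw [h] at hdeg
    have := card_eq_of_cast_eq (F := F) (m := 2) (by push_cast; linear_combination hdeg)
    omega

end

end Cfsg.Agent.Lib.Helper5
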