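import Mathlib
import Cfsg.Agent.Lib.Helper5.Ord360B

set_option autoImplicit false

namespace Cfsg.Agent.Lib.Helper5.Ord360

open Subgroup

variable {G : Type*} [Group G] [Finite G] [IsSimpleGroup G]

theorem sylow3_TI (h : Nat.card G = 360) (P Q : Sylow 3 G) (hPQ : P ≠ Q) :
    (P : Subgroup G) ⊓ Q = ⊥ := by
  classical
  by_contra hDne
  set D : Subgroup G := (P : Subgroup G) ⊓ Q with hD
  have hDP : D ≤ (P : Subgroup G) := inf_le_left
  have hDQ : D ≤ (Q : Subgroup G) := inf_le_right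
  have hPcard := card_sylow3 h P
  have hQcard := card_sylow3 h Q
  -- card D = 3
  have hDcard : Nat.card D = 3 := by
    have hdvd : Nat.card D ∣ 9 := hPcard ▸ Subgroup.card_dvd_of_le hDP
    have hne1 : Nat.card D ≠ 1 := fun h1 => hDne (Subgroup.card_eq_one.mp h1)
    have hne9 : Nat.card D ≠ 9 := by
      intro h9
      have e1 : D = (P : Subgroup G) :=
        Subgroup.eq_of_le_of_card_ge hDP (by rw [h9, hPcard])
      have e2 : D = (Q : Subgroup G) :=
        Subgroup.eq_of_le_of_card_ge hDQ (by rw [h9, hQcard])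
      apply hPQ
      apply Sylow.ext
      rw [← e1, ← e2]
    have hle : Nat.card D ≤ 9 := Nat.le_of_dvd (by norm_num) hdvd
    interval_cases hc : Nat.card D <;> simp_all <;> omega
  obtain ⟨d, hdD, hd1⟩ : ∃ d ∈ D, d ≠ 1 := by
    by_contra hcon
    apply hDne
    rw [Subgroup.eq_bot_iff_forall]
    intro x hx
    by_contra hx1
    exact hcon ⟨x, hx, hx1⟩
  have hdP : d ∈ (P : Subgroup G) := hDP hdD
  have hDz : D = zpowers d := eq_zpowers_of_card_three hDcard hdD hd1
  have hord : orderOf d = 3 := by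
    rw [← Nat.card_zpowers, ← hDz, hDcard]
  set N := normalizer ((P : Subgroup G) : Set G) with hN
  have hNcard : Nat.card N = 36 := card_normalizer_sylow3 h P
  -- (b)
  have hb : ∀ c ∈ N, c * d * c⁻¹ ∈ D → c ∈ (P : Subgroup G) := by
    intro c hc hcd
    exact key h P Q hPQ D hD hDne c hc (mem_normalizer_of_conj_gen hDcard hdD hd1 hcd)
  -- (c)
  obtain ⟨T, hTN, hTcard⟩ : ∃ T : Subgroup G, T ≤ N ∧ Nat.card T = 4 := by
    have hdvd : 2 ^ 2 ∣ Nat.card N := by rw [hNcard]; norm_num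
    obtain ⟨K, hK⟩ := Sylow.exists_subgroup_card_pow_prime 2 hdvd
    refine ⟨K.map N.subtype, Subgroup.map_subtype_le K, ?_⟩
    rw [Subgroup.card_map_of_injective N.subtype_injective, hK]
    norm_num
  have hTP : T ⊓ (P : Subgroup G) = ⊥ := by
    apply Subgroup.inf_eq_bot_of_coprime
    rw [hTcard, hPcard]; norm_num
  have hTP1 : ∀ u, u ∈ T → u ∈ (P : Subgroup G) → u = 1 := by
    intro u h1 h2
    have : u ∈ T ⊓ (P : Subgroup G) := ⟨h1, h2⟩
    rw [hTP] at this
    exact Subgroup.mem_bot.mp this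
  have hdinv : d⁻¹ ≠ d := by
    intro hinv
    have h2 : d ^ 2 = 1 := by
      rw [pow_two]
      calc d * d = d⁻¹ * d := by rw [hinv]
        _ = 1 := by group
    have := orderOf_dvd_of_pow_eq_one h2
    rw [hord] at this
    omega
  -- conj by u fixing d or d⁻¹ or swapping
  have hu1 : ∀ u ∈ T, u * d * u⁻¹ = d → u = 1 := by
    intro u hu hud
    exact hTP1 u hu (hb u (hTN hu) (by rw [hud]; exact hdD))
  have hu2 : ∀ u ∈ T, u * d⁻¹ * u⁻¹ = d⁻¹ → u = 1 := by
    intro u hu hud
    apply hu1 u hu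
    have : u * d * u⁻¹ = (u * d⁻¹ * u⁻¹)⁻¹ := by group
    rw [this, hud, inv_inv]
  have hu3 : ∀ u ∈ T, u * d * u⁻¹ = d⁻¹ → False := by
    intro u hu hud
    have hu' : u = 1 := hTP1 u hu (hb u (hTN hu) (by rw [hud]; exact D.inv_mem hdD))
    rw [hu'] at hud
    apply hdinv
    rw [← hud]; group
  -- (d) the covering
  let e : Bool → G := fun b => if b then d else d⁻¹
  let f : T × Bool → G := fun x => (x.1 : G) * e x.2 * (x.1 : G)⁻¹
  have hfinj : Function.Injective f := by
    rintro ⟨s, b⟩ ⟨s', b'⟩ hff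
    simp only [f] at hff
    have hu : ((s' : G)⁻¹ * (s : G)) ∈ T := T.mul_mem (T.inv_mem s'.2) s.2
    have hconj : ((s' : G)⁻¹ * (s : G)) * e b * ((s' : G)⁻¹ * (s : G))⁻¹ = e b' := by
      have : ((s' : G)⁻¹ * (s : G)) * e b * ((s' : G)⁻¹ * (s : G))⁻¹
          = (s' : G)⁻¹ * ((s : G) * e b * (s : G)⁻¹) * (s' : G) := by group
      rw [this, hff]; group
    have hss : (s' : G)⁻¹ * (s : G) = 1 → s = s' := by
      intro h1
      apply Subtype.ext
      have : (s : G) = (s' : G) * ((s' : G)⁻¹ * (s : G)) := by group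
      rw [this, h1, mul_one]
    cases b <;> cases b' <;> simp only [e, Bool.false_eq_true, if_true, if_false] at hconj
    · rw [hss (hu2 _ hu hconj)]
    · exfalso
      apply hu3 _ hu
      have : ((s' : G)⁻¹ * (s : G)) * d * ((s' : G)⁻¹ * (s : G))⁻¹
          = (((s' : G)⁻¹ * (s : G)) * d⁻¹ * ((s' : G)⁻¹ * (s : G))⁻¹)⁻¹ := by group
      rw [this, hconj]
    · exfalso
      exact hu3 _ hu hconj
    · rw [hss (hu1 _ hu hconj)]
  have hfrange : Set.range f ⊆ ((P : Subgroup G) : Set G) \ {1} := by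
    rintro _ ⟨⟨s, b⟩, rfl⟩
    have hsN : (s : G) ∈ N := hTN s.2
    have heP : e b ∈ (P : Subgroup G) := by
      cases b
      · exact (P : Subgroup G).inv_mem hdP
      · exact hdP
    have he1 : e b ≠ 1 := by
      cases b
      · simp only [e, Bool.false_eq_true, if_false]
        intro h1; apply hd1; rw [← inv_inv d, h1, inv_one]
      · simpa [e] using hd1
    refine ⟨?_, ?_⟩
    · exact (mem_normalizer_iff.mp hsN (e b)).mp heP
    · intro h1
      rw [Set.mem_singleton_iff] at h1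
      apply he1
      have : e b = (s : G)⁻¹ * ((s : G) * e b * (s : G)⁻¹) * (s : G) := by group
      rw [this]
      simp only [f] at h1
      rw [h1]; group
  have hcardT : Nat.card (T × Bool) = 8 := by
    rw [Nat.card_prod, hTcard]; simp
  have hcardP : (((P : Subgroup G) : Set G) \ {1}).ncard = 8 := by
    rw [Set.ncard_diff_singleton_of_mem (P : Subgroup G).one_mem]
    have : ((P : Subgroup G) : Set G).ncard = 9 := by
      rw [← hPcard]; exact (Nat.card_coe_set_eq _)
    rw [this]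
  have hrange : Set.range f = ((P : Subgroup G) : Set G) \ {1} := by
    apply Set.eq_of_subset_of_ncard_le hfrange _ (Set.toFinite _)
    rw [hcardP, ← Nat.card_coe_set_eq, Nat.card_range_of_injective hfinj, hcardT]
  have hcover : ∀ y ∈ (P : Subgroup G), y ≠ 1 → ∃ s ∈ T, ∃ b, y = s * e b * s⁻¹ := by
    intro y hy hy1
    have : y ∈ Set.range f := by
      rw [hrange]; exact ⟨hy, hy1⟩
    obtain ⟨⟨s, b⟩, rfl⟩ := this
    exact ⟨s, s.2, b, rfl⟩
  -- (e)
  obtain ⟨t, htT, ht2⟩ : ∃ t ∈ T, orderOf t = 2 := by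
    have hdvd : 2 ∣ Nat.card T := by rw [hTcard]; norm_num
    obtain ⟨x, hx⟩ := exists_prime_orderOf_dvd_card' 2 hdvd
    refine ⟨x, x.2, ?_⟩
    rw [← hx]; exact (Subgroup.orderOf_coe x)
  have ht1 : t ≠ 1 := by
    intro h1; rw [h1, orderOf_one] at ht2; omega
  have htt : t * t = 1 := by
    rw [← pow_two, ← ht2, pow_orderOf_eq_one]
  have htinv : t⁻¹ = t := by
    rw [inv_eq_iff_mul_eq_one]; exact htt
  have htN : t ∈ N := hTN htT
  set y' := t * d * t⁻¹ with hy'
  have hy'P : y' ∈ (P : Subgroup G) := (mem_normalizer_iff.mp htN d).mp hdP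
  by_cases hw : d * y' = 1
  · -- t inverts d
    have : y' = d⁻¹ := by
      rw [eq_inv_iff_mul_eq_one, ← hw]
      exact sylow3_comm h P y' d hy'P hdP
    exact hu3 t htT this
  · have hwP : d * y' ∈ (P : Subgroup G) := (P : Subgroup G).mul_mem hdP hy'P
    have hwt : t * (d * y') * t⁻¹ = d * y' := by
      have h1 : t * (d * y') * t⁻¹ = (t * d * t⁻¹) * (t * y' * t⁻¹) := by group
      have h2 : t * y' * t⁻¹ = d := by
        rw [hy', htinv]
        calc t * (t * d * t) * t = (t * t) * d * (t * t) := by group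
          _ = d := by rw [htt]; group
      rw [h1, h2, ← hy']
      exact sylow3_comm h P y' d hy'P hdP
    obtain ⟨s, hsT, b, hsb⟩ := hcover (d * y') hwP hw
    have huT : s⁻¹ * t * s ∈ T := T.mul_mem (T.mul_mem (T.inv_mem hsT) htT) hsT
    have hue : (s⁻¹ * t * s) * e b * (s⁻¹ * t * s)⁻¹ = e b := by
      have : (s⁻¹ * t * s) * e b * (s⁻¹ * t * s)⁻¹ = s⁻¹ * (t * (s * e b * s⁻¹) * t⁻¹) * s := by
        group
      rw [this, ← hsb, hwt, hsb]; group
    have hu' : s⁻¹ * t * s = 1 := by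
      cases b
      · exact hu2 _ huT (by simpa [e] using hue)
      · exact hu1 _ huT (by simpa [e] using hue)
    apply ht1
    have : t = s * (s⁻¹ * t * s) * s⁻¹ := by group
    rw [this, hu']; group

end Cfsg.Agent.Lib.Helper5.Ord360
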