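import Mathlib
import Cfsg.Agent.Lib.Helper5.Ord360C

set_option autoImplicit false

namespace Cfsg.Agent.Lib.Helper5.Ord360

open Subgroup MulAction

variable {G : Type*} [Group G] [Finite G] [IsSimpleGroup G]

theorem smul_self_of_mem (P : Sylow 3 G) (x : G) (hx : x ∈ (P : Subgroup G)) : x • P = P :=
  Sylow.smul_eq_iff_mem_normalizer.mpr (Subgroup.le_normalizer hx)

theorem eq_one_of_smul_eq (h : Nat.card G = 360) (P R : Sylow 3 G) (hPR : P ≠ R) (x : G)
    (hx : x ∈ (P : Subgroup G)) (hxR : x • R = R) : x = 1 := by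
  have h1 : x ∈ normalizer ((R : Subgroup G) : Set G) := Sylow.smul_eq_iff_mem_normalizer.mp hxR
  have h2 : x ∈ (P : Subgroup G) ⊓ (R : Subgroup G) := by
    rw [← P.2.inf_normalizer_sylow R]; exact ⟨hx, h1⟩
  rw [sylow3_TI h P R hPR] at h2
  exact Subgroup.mem_bot.mp h2

theorem smul_inj (h : Nat.card G = 360) (P R : Sylow 3 G) (hPR : P ≠ R) (x x' : G)
    (hx : x ∈ (P : Subgroup G)) (hx' : x' ∈ (P : Subgroup G)) (hxx : x • R = x' • R) :
    x = x' := by
  have h1 : (x'⁻¹ * x) • R = R := by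
    rw [mul_smul, hxx, inv_smul_smul]
  have h2 := eq_one_of_smul_eq h P R hPR (x'⁻¹ * x)
    ((P : Subgroup G).mul_mem ((P : Subgroup G).inv_mem hx') hx) h1
  have : x = x' * (x'⁻¹ * x) := by group
  rw [this, h2, mul_one]

theorem exists_smul_eq_of_ne (h : Nat.card G = 360) (P R S : Sylow 3 G) (hPR : P ≠ R)
    (hPS : P ≠ S) : ∃ x ∈ (P : Subgroup G), x • R = S := by
  classical
  let f : ↥(P : Subgroup G) → Sylow 3 G := fun x => (x : G) • R
  have hfinj : Function.Injective f := by
    intro x x' hxx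
    exact Subtype.ext (smul_inj h P R hPR x x' x.2 x'.2 hxx)
  have hsub : Set.range f ⊆ (Set.univ : Set (Sylow 3 G)) \ {P} := by
    rintro _ ⟨x, rfl⟩
    refine ⟨Set.mem_univ _, ?_⟩
    intro hxP
    rw [Set.mem_singleton_iff] at hxP
    apply hPR
    have hxP' : (x : G) • R = P := hxP
    have : R = (x : G)⁻¹ • P := by
      rw [eq_inv_smul_iff]; exact hxP'
    rw [this, smul_self_of_mem P _ ((P : Subgroup G).inv_mem x.2)]
  have hcard : ((Set.univ : Set (Sylow 3 G)) \ {P}).ncard = 9 := by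
    rw [Set.ncard_diff_singleton_of_mem (Set.mem_univ P), Set.ncard_univ, card_sylow3_eq_ten h]
  have hrange : Set.range f = (Set.univ : Set (Sylow 3 G)) \ {P} := by
    apply Set.eq_of_subset_of_ncard_le hsub _ (Set.toFinite _)
    rw [hcard, ← Nat.card_coe_set_eq, Nat.card_range_of_injective hfinj]
    exact (card_sylow3 h P).ge
  have : S ∈ Set.range f := by
    rw [hrange]
    exact ⟨Set.mem_univ _, fun hS => hPS (Set.mem_singleton_iff.mp hS).symm⟩
  obtain ⟨x, rfl⟩ := this
  exact ⟨x, x.2, rfl⟩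

theorem two_transitive (h : Nat.card G = 360) : IsMultiplyPretransitive G (Sylow 3 G) 2 := by
  rw [is_two_pretransitive_iff]
  intro a b c d hab hcd
  obtain ⟨g1, hg1⟩ := MulAction.exists_smul_eq G a c
  have hne : c ≠ g1 • b := by
    intro hc
    apply hab
    rw [← hg1] at hc
    exact smul_left_cancel g1 hc
  obtain ⟨x, hxc, hx⟩ := exists_smul_eq_of_ne h c (g1 • b) d hne hcd
  refine ⟨x * g1, ?_, ?_⟩
  · rw [mul_smul, hg1, smul_self_of_mem c x hxc]
  · rw [mul_smul, hx]

theorem toPermHom_ker_eq_bot (h : Nat.card G = 360) :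
    (MulAction.toPermHom G (Sylow 3 G)).ker = ⊥ := by
  rcases (MonoidHom.normal_ker (MulAction.toPermHom G (Sylow 3 G))).eq_bot_or_eq_top with h1 | h1
  · exact h1
  · exfalso
    obtain ⟨P⟩ : Nonempty (Sylow 3 G) := inferInstance
    have htop : normalizer ((P : Subgroup G) : Set G) = ⊤ := by
      rw [eq_top_iff]
      intro g _
      have hg : g ∈ (MulAction.toPermHom G (Sylow 3 G)).ker := by rw [h1]; trivial
      rw [MonoidHom.mem_ker] at hg
      have : g • P = P := by
        have := congrArg (fun σ : Equiv.Perm (Sylow 3 G) => σ P) hg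
        simpa using this
      exact Sylow.smul_eq_iff_mem_normalizer.mp this
    have := card_normalizer_sylow3 h P
    rw [htop, Subgroup.card_top, h] at this
    omega

theorem faithful (h : Nat.card G = 360) : FaithfulSMul G (Sylow 3 G) := by
  refine ⟨fun {g g'} hgg => ?_⟩
  have hmem : g'⁻¹ * g ∈ (MulAction.toPermHom G (Sylow 3 G)).ker := by
    rw [MonoidHom.mem_ker]
    ext a
    simp only [MulAction.toPermHom_apply, MulAction.toPerm_apply, Equiv.Perm.coe_one, id_eq]
    rw [mul_smul, hgg a, inv_smul_smul]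
  rw [toPermHom_ker_eq_bot h, Subgroup.mem_bot] at hmem
  have : g = g' * (g'⁻¹ * g) := by group
  rw [this, hmem, mul_one]

theorem sign_eq_one (h : Nat.card G = 360) [Fintype (Sylow 3 G)] [DecidableEq (Sylow 3 G)]
    (g : G) : Equiv.Perm.sign (MulAction.toPermHom G (Sylow 3 G) g) = 1 := by
  set φ := MulAction.toPermHom G (Sylow 3 G) with hφ
  have hker : (Equiv.Perm.sign.comp φ).ker = ⊤ := by
    rcases (MonoidHom.normal_ker (Equiv.Perm.sign.comp φ)).eq_bot_or_eq_top with h1 | h1
    · exfalso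
      have hinj2 : Function.Injective (Equiv.Perm.sign.comp φ) :=
        (MonoidHom.ker_eq_bot_iff _).mp h1
      have := Nat.card_le_card_of_injective _ hinj2
      have h2 : Nat.card ℤˣ = 2 := by
        rw [Nat.card_eq_fintype_card]; rfl
      omega
    · exact h1
  have : g ∈ (Equiv.Perm.sign.comp φ).ker := by rw [hker]; trivial
  exact this

end Cfsg.Agent.Lib.Helper5.Ord360
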