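import Mathlib
import Cfsg.Agent.Lib.Helper5.Ord360D

set_option autoImplicit false

namespace Cfsg.Agent.Lib.Helper5.Ord360

open Subgroup MulAction

variable {G : Type*} [Group G] [Finite G] [IsSimpleGroup G]

theorem mem_of_mem_normalizer_of_orderOf_three (P : Sylow 3 G) (x : G)
    (hx : x ∈ normalizer ((P : Subgroup G) : Set G)) (hord : orderOf x = 3) :
    x ∈ (P : Subgroup G) := by
  have hp : IsPGroup 3 (zpowers x) := by
    apply IsPGroup.of_card (n := 1)
    rw [Nat.card_zpowers, hord]; norm_num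
  have h2 : x ∈ zpowers x ⊓ (P : Subgroup G) := by
    rw [← hp.inf_normalizer_sylow P]
    exact ⟨mem_zpowers x, hx⟩
  exact h2.2

theorem card_two_point (h : Nat.card G = 360) (P R : Sylow 3 G) (hPR : P ≠ R) :
    Nat.card ↥(stabilizer G P ⊓ stabilizer G R) = 4 := by
  classical
  set H2 := stabilizer G P ⊓ stabilizer G R with hH2
  set N := normalizer ((P : Subgroup G) : Set G) with hN
  have hNcard : Nat.card N = 36 := card_normalizer_sylow3 h P
  have hstabP : stabilizer G P = N := Sylow.stabilizer_eq_normalizer P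
  have hH2N : H2 ≤ N := by
    rw [hH2, hstabP]; exact inf_le_left
  have hH2R : ∀ g ∈ H2, g • R = R := fun g hg => mem_stabilizer_iff.mp hg.2
  have h3 : ¬ 3 ∣ Nat.card H2 := by
    intro hdvd
    obtain ⟨x, hx⟩ := exists_prime_orderOf_dvd_card' 3 hdvd
    have hxo : orderOf (x : G) = 3 := by rw [Subgroup.orderOf_coe, hx]
    have hxP : (x : G) ∈ (P : Subgroup G) :=
      mem_of_mem_normalizer_of_orderOf_three P x (hH2N x.2) hxo
    have hx1 : (x : G) = 1 := eq_one_of_smul_eq h P R hPR x hxP (hH2R x x.2)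
    rw [hx1, orderOf_one] at hxo
    omega
  have hdvd4 : Nat.card H2 ∣ 4 := by
    have h36 : Nat.card H2 ∣ 4 * 9 := by
      have := Subgroup.card_dvd_of_le hH2N
      rwa [hNcard] at this
    have hcop : Nat.Coprime (Nat.card H2) 9 := by
      have : Nat.Coprime 3 (Nat.card H2) := (Nat.Prime.coprime_iff_not_dvd Nat.prime_three).mpr h3
      have h9 : (9 : ℕ) = 3 ^ 2 := by norm_num
      rw [h9]
      exact (Nat.Coprime.pow_left 2 this).symm
    exact Nat.Coprime.dvd_of_dvd_mul_right hcop h36
  have hge : 36 ≤ 9 * Nat.card H2 := by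
    have hex : ∀ g : N, ∃ x ∈ (P : Subgroup G), x • R = (g : G) • R := by
      intro g
      apply exists_smul_eq_of_ne h P R _ hPR
      intro hP
      apply hPR
      have hgP : (g : G) • P = P := Sylow.smul_eq_iff_mem_normalizer.mpr g.2
      have : (g : G) • P = (g : G) • R := by rw [hgP]; exact hP
      exact smul_left_cancel _ this
    choose xf hxP hxR using hex
    have hmem : ∀ g : N, (xf g)⁻¹ * (g : G) ∈ H2 := by
      intro g
      refine ⟨?_, ?_⟩
      · rw [hstabP]
        exact N.mul_mem (N.inv_mem (Subgroup.le_normalizer (hxP g))) g.2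
      · show (xf g)⁻¹ * (g : G) ∈ stabilizer G R
        rw [mem_stabilizer_iff, mul_smul, ← hxR g, inv_smul_smul]
    let φ : N → ↥(P : Subgroup G) × H2 := fun g => (⟨xf g, hxP g⟩, ⟨(xf g)⁻¹ * (g : G), hmem g⟩)
    have hφ : Function.Injective φ := by
      intro g g' hgg
      simp only [φ, Prod.mk.injEq, Subtype.mk.injEq] at hgg
      obtain ⟨h1, h2⟩ := hgg
      apply Subtype.ext
      rw [h1] at h2
      exact mul_left_cancel h2
    have := Nat.card_le_card_of_injective φ hφ
    rw [Nat.card_prod, hNcard, card_sylow3 h P] at this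
    exact this
  have hle : Nat.card H2 ≤ 4 := Nat.le_of_dvd (by norm_num) hdvd4
  omega

theorem centralizer_trivial (h : Nat.card G = 360) (P R : Sylow 3 G) (hPR : P ≠ R) (t : G)
    (ht2 : orderOf t = 2) (htP : t • P = P) (htR : t • R = R) :
    ∀ x ∈ (P : Subgroup G), t * x * t⁻¹ = x → x = 1 := by
  classical
  haveI : Fintype (Sylow 3 G) := Fintype.ofFinite _
  set φ := MulAction.toPermHom G (Sylow 3 G) with hφ
  set σ := φ t with hσ
  have hφinj : Function.Injective φ := (MonoidHom.ker_eq_bot_iff _).mp (toPermHom_ker_eq_bot h)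
  have hsign : Equiv.Perm.sign σ = 1 := sign_eq_one h t
  have hordσ : orderOf σ = 2 := by
    rw [hσ, orderOf_injective φ hφinj, ht2]
  obtain ⟨n, hn⟩ := Equiv.Perm.cycleType_prime_order (σ := σ) (by rw [hordσ]; exact Nat.prime_two)
  rw [hordσ] at hn
  have hsupp : σ.support.card = (n + 1) * 2 := by
    rw [← Equiv.Perm.sum_cycleType, hn, Multiset.sum_replicate, smul_eq_mul]
  have heven : Even (n + 1) := by
    have hs := Equiv.Perm.sign_of_cycleType σ
    rw [hsign, hn, Multiset.sum_replicate, smul_eq_mul, Multiset.card_replicate] at hs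
    have h1 : (-1 : ℤˣ) ^ ((n + 1) * 2 + (n + 1)) = 1 := hs.symm
    have hne : (-1 : ℤˣ) ≠ 1 := by decide
    have := (neg_one_pow_eq_one_iff_even hne).mp h1
    rcases Nat.even_or_odd (n + 1) with he | ho
    · exact he
    · exfalso
      have : Odd ((n + 1) * 2 + (n + 1)) := by
        obtain ⟨k, hk⟩ := ho
        exact ⟨3 * k + 1, by rw [hk]; ring⟩
      exact (Nat.not_even_iff_odd.mpr this) ‹_›
  -- fixed point set
  set C : Subgroup G := (P : Subgroup G) ⊓ centralizer ({t} : Set G) with hC
  have hCmem : ∀ x, x ∈ C ↔ x ∈ (P : Subgroup G) ∧ t * x * t⁻¹ = x := by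
    intro x
    rw [hC, Subgroup.mem_inf, mem_centralizer_iff]
    constructor
    · rintro ⟨h1, h2⟩
      refine ⟨h1, ?_⟩
      rw [h2 t (Set.mem_singleton t)]; group
    · rintro ⟨h1, h2⟩
      refine ⟨h1, ?_⟩
      intro y hy
      rw [Set.mem_singleton_iff] at hy
      rw [hy]
      calc t * x = (t * x * t⁻¹) * t := by group
        _ = x * t := by rw [h2]
  have htN : t ∈ normalizer ((P : Subgroup G) : Set G) := Sylow.smul_eq_iff_mem_normalizer.mp htP
  let f : C → Sylow 3 G := fun x => (x : G) • R
  have hfinj : Function.Injective f := by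
    intro x x' hxx
    exact Subtype.ext (smul_inj h P R hPR x x' ((hCmem x).mp x.2).1 ((hCmem x').mp x'.2).1 hxx)
  have hF : {S : Sylow 3 G | t • S = S} = insert P (Set.range f) := by
    ext S
    simp only [Set.mem_setOf_eq, Set.mem_insert_iff, Set.mem_range]
    constructor
    · intro hS
      by_cases hSP : S = P
      · exact Or.inl hSP
      · right
        obtain ⟨x, hxP, hxS⟩ := exists_smul_eq_of_ne h P R S hPR (fun e => hSP e.symm)
        have hconj : (t * x * t⁻¹) • R = x • R := by
          rw [mul_smul, mul_smul]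
          have : t⁻¹ • R = R := by rw [inv_smul_eq_iff, htR]
          rw [this, hxS, hS]
        have hcP : t * x * t⁻¹ ∈ (P : Subgroup G) := (mem_normalizer_iff.mp htN x).mp hxP
        have := smul_inj h P R hPR _ _ hcP hxP hconj
        exact ⟨⟨x, (hCmem x).mpr ⟨hxP, this⟩⟩, hxS⟩
    · rintro (rfl | ⟨x, rfl⟩)
      · exact htP
      · simp only [f]
        have hx := ((hCmem x).mp x.2).2
        rw [← mul_smul]
        have : t * (x : G) = (x : G) * t := by
          calc t * (x : G) = (t * x * t⁻¹) * t := by group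
            _ = x * t := by rw [hx]
        rw [this, mul_smul, htR]
  have hPnot : P ∉ Set.range f := by
    rintro ⟨x, hx⟩
    apply hPR
    have hxP : (x : G) ∈ (P : Subgroup G) := ((hCmem x).mp x.2).1
    have hx' : (x : G) • R = P := hx
    have : R = (x : G)⁻¹ • P := by rw [eq_inv_smul_iff]; exact hx'
    rw [this, smul_self_of_mem P _ ((P : Subgroup G).inv_mem hxP)]
  have hFcard : {S : Sylow 3 G | t • S = S}.ncard = Nat.card C + 1 := by
    rw [hF, Set.ncard_insert_of_notMem hPnot (Set.toFinite _), ← Nat.card_coe_set_eq,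
      Nat.card_range_of_injective hfinj]
  have hFsupp : {S : Sylow 3 G | t • S = S} = ((σ.supportᶜ : Finset (Sylow 3 G)) : Set (Sylow 3 G)) := by
    ext S
    simp only [Set.mem_setOf_eq, Finset.coe_compl, Set.mem_compl_iff, Finset.mem_coe,
      Equiv.Perm.mem_support, not_not]
    rfl
  have hFcard2 : {S : Sylow 3 G | t • S = S}.ncard = 10 - σ.support.card := by
    rw [hFsupp, Set.ncard_coe_finset, Finset.card_compl, ← Nat.card_eq_fintype_card,
      card_sylow3_eq_ten h]
  have hCdvd : Nat.card C ∣ 9 := by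
    have := Subgroup.card_dvd_of_le (inf_le_left : C ≤ (P : Subgroup G))
    rwa [card_sylow3 h P] at this
  have hsle : σ.support.card ≤ 10 := by
    have := Finset.card_le_univ σ.support
    rwa [← Nat.card_eq_fintype_card, card_sylow3_eq_ten h] at this
  have hC1 : Nat.card C = 1 := by
    have hcases : Nat.card C = 1 ∨ Nat.card C = 3 ∨ Nat.card C = 9 := by
      have hmem : Nat.card C ∈ Nat.divisors 9 := Nat.mem_divisors.mpr ⟨hCdvd, by norm_num⟩
      have hd : Nat.divisors 9 = {1, 3, 9} := by decide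
      rw [hd] at hmem
      simpa using hmem
    obtain ⟨k, hk⟩ := heven
    have e1 : Nat.card C + 1 = 10 - σ.support.card := by rw [← hFcard, hFcard2]
    rcases hcases with hc | hc | hc
    · exact hc
    · exfalso; omega
    · exfalso; omega
  intro x hxP hx
  have hxC : x ∈ C := (hCmem x).mpr ⟨hxP, hx⟩
  have hbot : C = ⊥ := Subgroup.card_eq_one.mp hC1
  rw [hbot] at hxC
  exact Subgroup.mem_bot.mp hxC

end Cfsg.Agent.Lib.Helper5.Ord360
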