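import Mathlib
import Cfsg.Agent.Lib.Helper5.Ord360E
import Cfsg.Agent.S0742
import Cfsg.Agent.S0254

set_option autoImplicit false

namespace Cfsg.Agent.Lib.Helper5.Ord360

open Subgroup MulAction

variable {G : Type*} [Group G] [Finite G] [IsSimpleGroup G]

omit [Finite G] [IsSimpleGroup G] in
theorem pow_smul_eq {α : Type*} [MulAction G α] (g : G) (a : α) (ha : g • a = a) (k : ℕ) :
    g ^ k • a = a := by
  induction k with
  | zero => simp
  | succ k ih => rw [pow_succ, mul_smul, ha, ih]

theorem eq_one_of_fix_three (h : Nat.card G = 360) (g : G) (a b c : Sylow 3 G) (hab : a ≠ b)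
    (hbc : b ≠ c) (hac : a ≠ c) (ha : g • a = a) (hb : g • b = b) (hc : g • c = c) : g = 1 := by
  by_contra hg1
  have hgH : g ∈ stabilizer G a ⊓ stabilizer G b :=
    ⟨mem_stabilizer_iff.mpr ha, mem_stabilizer_iff.mpr hb⟩
  have hcard := card_two_point h a b hab
  have hord : orderOf g ∣ 4 := by
    rw [← hcard]; exact Subgroup.orderOf_dvd_natCard _ hgH
  have hord1 : orderOf g ≠ 1 := fun h1 => hg1 (orderOf_eq_one_iff.mp h1)
  have h2 : 2 ∣ orderOf g := by
    have hle : orderOf g ≤ 4 := Nat.le_of_dvd (by norm_num) hord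
    have hpos : 0 < orderOf g := orderOf_pos g
    interval_cases ho : orderOf g <;> simp_all
  set t := g ^ (orderOf g / 2) with ht
  have ht2 : orderOf t = 2 := orderOf_pow_orderOf_div (orderOf_pos g).ne' h2
  have hta : t • a = a := pow_smul_eq g a ha _
  have htb : t • b = b := pow_smul_eq g b hb _
  have htc : t • c = c := pow_smul_eq g c hc _
  obtain ⟨x, hxa, hxc⟩ := exists_smul_eq_of_ne h a b c hab hac
  have hx1 : x ≠ 1 := by
    intro h1
    rw [h1, one_smul] at hxc
    exact hbc hxc
  have htN : t ∈ normalizer ((a : Subgroup G) : Set G) := Sylow.smul_eq_iff_mem_normalizer.mp hta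
  have hconj : (t * x * t⁻¹) • b = x • b := by
    rw [mul_smul, mul_smul]
    have : t⁻¹ • b = b := by rw [inv_smul_eq_iff, htb]
    rw [this, hxc, htc]
  have hcP : t * x * t⁻¹ ∈ (a : Subgroup G) := (mem_normalizer_iff.mp htN x).mp hxa
  have hcomm := smul_inj h a b hab _ _ hcP hxa hconj
  exact hx1 (centralizer_trivial h a b hab t ht2 hta htb x hxa hcomm)

theorem zassenhaus (h : Nat.card G = 360) : Cfsg.IsZassenhausGroup G (Sylow 3 G) := by
  refine ⟨faithful h, two_transitive h, ?_, ?_, ?_⟩
  · intro g a b c hab hbc hac ha hb hc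
    exact eq_one_of_fix_three h g a b c hab hbc hac ha hb hc
  · have h10 := card_sylow3_eq_ten h
    have hnt : Nontrivial (Sylow 3 G) := by
      rw [← Finite.one_lt_card_iff_nontrivial]; omega
    obtain ⟨a, b, hab⟩ := hnt
    have hcard := card_two_point h a b hab
    have hne : (stabilizer G a ⊓ stabilizer G b) ≠ ⊥ := by
      intro hbot
      rw [hbot, Subgroup.card_bot] at hcard
      omega
    obtain ⟨g, hg, hg1⟩ : ∃ g ∈ stabilizer G a ⊓ stabilizer G b, g ≠ 1 := by
      by_contra hcon
      apply hne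
      rw [Subgroup.eq_bot_iff_forall]
      intro x hx
      by_contra hx1
      exact hcon ⟨x, hx, hx1⟩
    exact ⟨g, hg1, a, b, hab, mem_stabilizer_iff.mp hg.1, mem_stabilizer_iff.mp hg.2⟩
  · intro N hN htrans
    have h10 := card_sylow3_eq_ten h
    have hnt : Nontrivial (Sylow 3 G) := by
      rw [← Finite.one_lt_card_iff_nontrivial]; omega
    obtain ⟨a, b, hab⟩ := hnt
    rcases hN.eq_bot_or_eq_top with hbot | htop
    · exfalso
      obtain ⟨n, hn⟩ := htrans.exists_smul_eq a b
      have hn1 : (n : G) = 1 := by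
        have hle : N ≤ ⊥ := le_of_eq hbot
        exact Subgroup.mem_bot.mp (hle n.2)
      have : (n : G) • a = b := hn
      rw [hn1, one_smul] at this
      exact hab this
    · refine ⟨a, ?_⟩
      obtain ⟨x, hxa, hx1⟩ : ∃ x ∈ (a : Subgroup G), x ≠ 1 := by
        by_contra hcon
        apply sylow3_ne_bot h a
        rw [Subgroup.eq_bot_iff_forall]
        intro x hx
        by_contra hx1
        exact hcon ⟨x, hx, hx1⟩
      intro hstab
      have hxN : x ∈ N := by rw [htop]; trivial
      have hmem : (⟨x, hxN⟩ : N) ∈ stabilizer N a := by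
        rw [mem_stabilizer_iff]
        exact smul_self_of_mem a x hxa
      rw [hstab, Subgroup.mem_bot] at hmem
      apply hx1
      exact congrArg Subtype.val hmem

theorem iso_alt6 (h : Nat.card G = 360) : Nonempty (G ≃* alternatingGroup (Fin 6)) := by
  classical
  haveI : Fintype (Sylow 3 G) := Fintype.ofFinite _
  have h10 := card_sylow3_eq_ten h
  have hcardΩ : Fintype.card (Sylow 3 G) = 10 := by rw [← Nat.card_eq_fintype_card, h10]
  have hnt : Nontrivial (Sylow 3 G) := by
    rw [← Finite.one_lt_card_iff_nontrivial]; omega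
  obtain ⟨a, b, hab⟩ := hnt
  have hcard := card_two_point h a b hab
  obtain ⟨p, f, K, instK, instFK, hp, hp2, hK, hΩ, ⟨e⟩⟩ :=
    Cfsg.Agent.S0742.result (zassenhaus h) hab (by rw [hcard]; decide)
      (by rw [hcard, hcardΩ])
  have hK9 : Fintype.card K = 9 := by
    rw [hK]; rw [hcardΩ] at hΩ; omega
  obtain ⟨e2⟩ := Cfsg.Agent.S0254.result (F := K) hK9
  exact ⟨e.trans e2⟩

end Cfsg.Agent.Lib.Helper5.Ord360
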