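import Mathlib
import Cfsg.Agent.Lib.Helper5.GLBruhat2

/-!
The double cosets of two standard parabolic subgroups of `GL_n` correspond to the double cosets
of the matching Young subgroups.
-/

namespace Cfsg.Agent.Lib.Helper5.GLBruhat

open Matrix Finset
open Cfsg.Agent.Lib.Helper5.YoungDC

section diff
variable {X : Type*} [DecidableEq X]

theorem card_filter_eq_of_le (A B : Finset X) (f g : X → ℕ)
    (h : ∀ k, (A.filter fun x => f x ≤ k).card = (B.filter fun x => g x ≤ k).card) (k : ℕ) :
    (A.filter fun x => f x = k).card = (B.filter fun x => g x = k).card := by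
  have key : ∀ (C : Finset X) (e : X → ℕ),
      (C.filter fun x => e x ≤ k).card
        = (C.filter fun x => e x = k).card + (C.filter fun x => e x < k).card := by
    intro C e
    rw [← Finset.card_filter_add_card_filter_not (s := C.filter fun x => e x ≤ k)
      (p := fun x => e x = k), Finset.filter_filter, Finset.filter_filter]
    congr 2
    · ext x
      simp only [Finset.mem_filter]
      constructor
      · rintro ⟨hx, _, h2⟩; exact ⟨hx, h2⟩
      · rintro ⟨hx, h2⟩; exact ⟨hx, h2.le, h2⟩
    · ext x
      simp only [Finset.mem_filter]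
      constructor
      · rintro ⟨hx, h1, h2⟩; exact ⟨hx, lt_of_le_of_ne h1 h2⟩
      · rintro ⟨hx, h2⟩; exact ⟨hx, h2.le, h2.ne⟩
  have hlt : (A.filter fun x => f x < k).card = (B.filter fun x => g x < k).card := by
    cases k with
    | zero => simp
    | succ k =>
      have := h k
      simp only [Nat.lt_succ_iff]
      exact this
  have h1 := key A f
  have h2 := key B g
  rw [h k, h2, hlt] at h1
  omega

end diff

variable {n : ℕ} {F : Type*} [Field F]

theorem cm_eq_of_mem_doubleCoset (a b : Fin n → ℕ) (σ τ : Equiv.Perm (Fin n))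
    (h : ∃ p ∈ Cfsg.parabolicGL n F a, ∃ p' ∈ Cfsg.parabolicGL n F b,
      (permGL τ : GL (Fin n) F) = p * permGL σ * p') :
    cm (Cfsg.compLabel a) (Cfsg.compLabel b) τ = cm (Cfsg.compLabel a) (Cfsg.compLabel b) σ := by
  obtain ⟨p, hp, p', hp', heq⟩ := h
  have hmat : (pmat τ : Matrix (Fin n) (Fin n) F)
      = (p : Matrix (Fin n) (Fin n) F) * pmat σ * (p' : Matrix (Fin n) (Fin n) F) := by
    have := congrArg (fun g : GL (Fin n) F => (g : Matrix (Fin n) (Fin n) F)) heq
    simpa [coe_permGL] using this
  have hdinv : ∀ i j : ℕ,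
      dinv (pmat τ : Matrix (Fin n) (Fin n) F) (univ.filter fun y => Cfsg.compLabel b y ≤ j)
          (univ.filter fun x => Cfsg.compLabel a x ≤ i)
        = dinv (pmat σ : Matrix (Fin n) (Fin n) F) (univ.filter fun y => Cfsg.compLabel b y ≤ j)
          (univ.filter fun x => Cfsg.compLabel a x ≤ i) := by
    intro i j
    rw [hmat, dinv_mul_right _ _ _ _
      (map_coordSub_of_blockTriangular (Cfsg.compLabel b) p' hp'
        ((Cfsg.parabolicGL n F b).inv_mem hp') j),
      dinv_mul_left _ _ _ _ (mulVecLin_injective_of_GL p)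
        (map_coordSub_of_blockTriangular (Cfsg.compLabel a) p hp
          ((Cfsg.parabolicGL n F a).inv_mem hp) i)]
  have hcount : ∀ i j : ℕ,
      ((univ.filter fun y => Cfsg.compLabel b y ≤ j).filter
          fun y => Cfsg.compLabel a (τ y) ≤ i).card
        = ((univ.filter fun y => Cfsg.compLabel b y ≤ j).filter
          fun y => Cfsg.compLabel a (σ y) ≤ i).card := by
    intro i j
    have := hdinv i j
    rw [dinv_pmat, dinv_pmat] at this
    simpa using this
  have hstep1 : ∀ i j : ℕ,
      ((univ.filter fun y => Cfsg.compLabel b y ≤ j).filter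
          fun y => Cfsg.compLabel a (τ y) = i).card
        = ((univ.filter fun y => Cfsg.compLabel b y ≤ j).filter
          fun y => Cfsg.compLabel a (σ y) = i).card := by
    intro i j
    exact card_filter_eq_of_le _ _ (fun y => Cfsg.compLabel a (τ y))
      (fun y => Cfsg.compLabel a (σ y)) (fun k => hcount k j) i
  funext i j
  unfold cm
  have hstep2 := card_filter_eq_of_le (univ.filter fun y => Cfsg.compLabel a (τ y) = i)
    (univ.filter fun y => Cfsg.compLabel a (σ y) = i) (Cfsg.compLabel b) (Cfsg.compLabel b)
    (fun k => by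
      have := hstep1 i k
      rw [Finset.filter_filter, Finset.filter_filter] at this ⊢
      simpa [and_comm] using this) j
  rw [Finset.filter_filter, Finset.filter_filter] at hstep2
  simpa [and_comm] using hstep2

/-- The double cosets of standard parabolic subgroups of `GL_n` are counted by the double
cosets of the matching Young subgroups. -/
theorem card_dc_parabolic (a b : Fin n → ℕ) :
    Nat.card (DoubleCoset.Quotient (Cfsg.youngSubgroup a : Set (Equiv.Perm (Fin n)))
        (Cfsg.youngSubgroup b))
      = Nat.card (DoubleCoset.Quotient (Cfsg.parabolicGL n F a : Set (GL (Fin n) F))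
        (Cfsg.parabolicGL n F b)) := by
  apply card_dc_eq (Cfsg.parabolicGL n F a) (Cfsg.parabolicGL n F b) (Cfsg.youngSubgroup a)
    (Cfsg.youngSubgroup b) (fun σ => (permGL σ : GL (Fin n) F))
  · intro g
    obtain ⟨σ, p, hp, p', hp', hg⟩ := exists_bruhat_GL g
    exact ⟨σ, p, upperTriangularGL_le_parabolicGL a hp, p', upperTriangularGL_le_parabolicGL b hp',
      hg⟩
  · intro σ τ
    constructor
    · rintro ⟨u, hu, v, hv, rfl⟩
      refine ⟨permGL u, permGL_mem_parabolicGL a hu, permGL v, permGL_mem_parabolicGL b hv, ?_⟩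
      rw [map_mul, map_mul]
    · intro h
      have hcm := cm_eq_of_mem_doubleCoset a b σ τ h
      obtain ⟨u, hu, v, hv, hτ⟩ := exists_mul_of_cm_eq (Cfsg.compLabel a) (Cfsg.compLabel b) σ τ
        hcm.symm
      exact ⟨u, hu, v, hv, hτ⟩

end Cfsg.Agent.Lib.Helper5.GLBruhat
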