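import Mathlib
import Cfsg.Agent.Lib.Helper5.UnipCent1

set_option autoImplicit false

/-!
Invertibility criterion for matrices commuting with a unipotent matrix of given Jordan type.
-/

namespace Cfsg.Agent.Lib.Helper5.UnipCent

open Matrix

variable {F : Type*} [Field F] {t : ℕ} (d : Fin t → ℕ) (hd : ∀ k, 1 ≤ d k)

/-- the matrix of generator coordinates -/
def top (X : Matrix (Idx d) (Idx d) F) : Matrix (Fin t) (Fin t) F :=
  Matrix.of fun k l => X (zeroI d hd k) (zeroI d hd l)

theorem top_blockTriangular (X : Matrix (Idx d) (Idx d) F) (hX : X * Nmat d = Nmat d * X) :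
    (top d hd X).BlockTriangular d := by
  intro k l hlk
  unfold top
  rw [Matrix.of_apply]
  apply support d hd X hX
  show 0 + d l < d k
  omega

theorem top_one : top d hd (1 : Matrix (Idx d) (Idx d) F) = 1 := by
  ext k l
  unfold top
  rw [Matrix.of_apply]
  by_cases h : k = l
  · subst h
    rw [Matrix.one_apply_eq, Matrix.one_apply_eq]
  · rw [Matrix.one_apply_ne h, Matrix.one_apply_ne]
    intro h'
    exact h (congrArg Sigma.fst h')

theorem top_mul (X Y : Matrix (Idx d) (Idx d) F) (hX : X * Nmat d = Nmat d * X) :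
    top d hd (X * Y) = top d hd X * top d hd Y := by
  classical
  ext k l
  unfold top
  rw [Matrix.of_apply, Matrix.mul_apply, Matrix.mul_apply, Fintype.sum_sigma]
  refine Finset.sum_congr rfl fun k' _ => ?_
  rw [Finset.sum_eq_single (⟨0, hd k'⟩ : Fin (d k'))]
  · rfl
  · intro i _ hi
    rw [toeplitz' d hd X hX, if_neg, zero_mul]
    show ¬ ((i : ℕ) ≤ 0)
    intro h0
    apply hi
    apply Fin.ext
    show (i : ℕ) = 0
    omega
  · intro h
    exact absurd (Finset.mem_univ _) h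

theorem inv_comm (X : Matrix (Idx d) (Idx d) F) (hX : X * Nmat d = Nmat d * X)
    (hdet : X.det ≠ 0) : X⁻¹ * Nmat d = Nmat d * X⁻¹ := by
  have hu : IsUnit X.det := isUnit_iff_ne_zero.2 hdet
  have h1 : X⁻¹ * X = 1 := Matrix.nonsing_inv_mul X hu
  have h2 : X * X⁻¹ = 1 := Matrix.mul_nonsing_inv X hu
  calc X⁻¹ * Nmat d = X⁻¹ * Nmat d * (X * X⁻¹) := by rw [h2, mul_one]
    _ = X⁻¹ * (Nmat d * X) * X⁻¹ := by simp only [mul_assoc]
    _ = X⁻¹ * (X * Nmat d) * X⁻¹ := by rw [hX]
    _ = (X⁻¹ * X) * Nmat d * X⁻¹ := by simp only [mul_assoc]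
    _ = Nmat d * X⁻¹ := by rw [h1, one_mul]

theorem top_det_ne_zero (X : Matrix (Idx d) (Idx d) F) (hX : X * Nmat d = Nmat d * X)
    (hdet : X.det ≠ 0) : (top d hd X).det ≠ 0 := by
  have hu : IsUnit X.det := isUnit_iff_ne_zero.2 hdet
  have h2 : X * X⁻¹ = 1 := Matrix.mul_nonsing_inv X hu
  have h3 : top d hd X * top d hd X⁻¹ = 1 := by
    rw [← top_mul d hd X X⁻¹ hX, h2, top_one]
  intro h0
  have := congrArg Matrix.det h3
  rw [Matrix.det_mul, h0, zero_mul, Matrix.det_one] at this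
  exact zero_ne_one this

theorem block_det_ne_zero_of_det (X : Matrix (Idx d) (Idx d) F)
    (hX : X * Nmat d = Nmat d * X) (hdet : X.det ≠ 0) (i : ℕ) :
    ((top d hd X).toSquareBlock d i).det ≠ 0 := by
  classical
  have h1 := top_det_ne_zero d hd X hX hdet
  rw [(top_blockTriangular d hd X hX).det] at h1
  by_cases hi : i ∈ Finset.univ.image d
  · exact (Finset.prod_ne_zero_iff.1 h1) i hi
  · have : IsEmpty {k // d k = i} := ⟨fun k => hi (Finset.mem_image.2 ⟨k.1, Finset.mem_univ _, k.2⟩)⟩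
    rw [Matrix.det_isEmpty]
    exact one_ne_zero

theorem mulVec_eq_zero_of_blocks (X : Matrix (Idx d) (Idx d) F)
    (hX : X * Nmat d = Nmat d * X)
    (hb : ∀ i, ((top d hd X).toSquareBlock d i).det ≠ 0) (v : Idx d → F)
    (hv : X *ᵥ v = 0) : v = 0 := by
  classical
  by_contra hne
  obtain ⟨a, ha⟩ : ∃ a, v a ≠ 0 := by
    by_contra hcon
    push Not at hcon
    exact hne (funext hcon)
  set S : Finset (Idx d) := Finset.univ.filter (fun a => v a ≠ 0) with hS
  have hSne : S.Nonempty := ⟨a, Finset.mem_filter.2 ⟨Finset.mem_univ _, ha⟩⟩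
  obtain ⟨a₀, ha₀, hmin⟩ := S.exists_min_image (fun a => (a.2 : ℕ)) hSne
  set j₀ : ℕ := (a₀.2 : ℕ) with hj₀
  set S₁ : Finset (Idx d) := S.filter (fun a => (a.2 : ℕ) = j₀) with hS₁
  have hS₁ne : S₁.Nonempty := ⟨a₀, Finset.mem_filter.2 ⟨ha₀, rfl⟩⟩
  obtain ⟨a₁, ha₁, hmax⟩ := S₁.exists_max_image (fun a => d a.1) hS₁ne
  set i₁ : ℕ := d a₁.1 with hi₁
  have hva₁ : v a₁ ≠ 0 := (Finset.mem_filter.1 (Finset.mem_filter.1 ha₁).1).2
  have hja₁ : (a₁.2 : ℕ) = j₀ := (Finset.mem_filter.1 ha₁).2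
  have hj : j₀ < i₁ := by
    rw [← hja₁]
    exact a₁.2.2
  have hmin' : ∀ c : Idx d, v c ≠ 0 → j₀ ≤ (c.2 : ℕ) := fun c hc =>
    hmin c (Finset.mem_filter.2 ⟨Finset.mem_univ _, hc⟩)
  have hmax' : ∀ c : Idx d, v c ≠ 0 → (c.2 : ℕ) = j₀ → d c.1 ≤ i₁ := fun c hc hcj =>
    hmax c (Finset.mem_filter.2 ⟨Finset.mem_filter.2 ⟨Finset.mem_univ _, hc⟩, hcj⟩)
  -- the embedding of the block into the index set at level `j₀`
  let g : {k // d k = i₁} → Idx d := fun k => ⟨k.1, ⟨j₀, by rw [k.2]; exact hj⟩⟩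
  have hg : Function.Injective g := by
    intro k l hkl
    exact Subtype.ext (congrArg Sigma.fst hkl)
  set u : {k // d k = i₁} → F := fun k => v (g k) with hu
  have hblock : (top d hd X).toSquareBlock d i₁ *ᵥ u = 0 := by
    funext k
    have h0 := congrFun hv (g k)
    rw [Matrix.mulVec, dotProduct] at h0
    rw [Matrix.mulVec, dotProduct, Pi.zero_apply]
    rw [Pi.zero_apply] at h0
    rw [← h0]
    have hsub : ∀ c ∈ (Finset.univ : Finset (Idx d)),
        c ∉ Finset.univ.map ⟨g, hg⟩ → X (g k) c * v c = 0 := by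
      intro c _ hc
      rcases Nat.lt_trichotomy (c.2 : ℕ) j₀ with h | h | h
      · have : v c = 0 := by
          by_contra hvc
          have := hmin' c hvc
          omega
        rw [this, mul_zero]
      · by_cases hdc : d c.1 = i₁
        · exfalso
          apply hc
          rw [Finset.mem_map]
          refine ⟨⟨c.1, hdc⟩, Finset.mem_univ _, ?_⟩
          exact idx_ext d (by rfl) h.symm
        · rcases Nat.lt_or_gt_of_ne hdc with hlt | hgt
          · rw [toeplitz' d hd X hX (g k) c, if_pos (by show (c.2 : ℕ) ≤ j₀; omega)]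
            have e : subI d (g k) (c.2 : ℕ) = zeroI d hd k.1 := by
              refine idx_ext d (by rfl) ?_
              show j₀ - (c.2 : ℕ) = 0
              omega
            rw [e, support d hd X hX (zeroI d hd k.1) c.1, zero_mul]
            show 0 + d c.1 < d k.1
            rw [k.2]
            omega
          · have : v c = 0 := by
              by_contra hvc
              have := hmax' c hvc h
              omega
            rw [this, mul_zero]
      · rw [toeplitz' d hd X hX (g k) c, if_neg (by show ¬ ((c.2 : ℕ) ≤ j₀); omega), zero_mul]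
    rw [← Finset.sum_subset (Finset.subset_univ _) hsub, Finset.sum_map]
    refine Finset.sum_congr rfl fun l _ => ?_
    show (top d hd X) k.1 l.1 * v (g l) = X (g k) (g l) * v (g l)
    congr 1
    rw [toeplitz' d hd X hX (g k) (g l), if_pos (le_refl _)]
    have e : subI d (g k) ((g l).2 : ℕ) = zeroI d hd k.1 := by
      refine idx_ext d (by rfl) ?_
      show j₀ - j₀ = 0
      omega
    rw [e]
    rfl
  have hu0 := Matrix.eq_zero_of_mulVec_eq_zero (hb i₁) hblock
  apply hva₁
  have h1 := congrFun hu0 ⟨a₁.1, rfl⟩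
  have h2 : g ⟨a₁.1, rfl⟩ = a₁ := idx_ext d (by rfl) hja₁.symm
  rw [hu] at h1
  simp only [Pi.zero_apply] at h1
  rw [h2] at h1
  exact h1

theorem det_ne_zero_of_blocks (X : Matrix (Idx d) (Idx d) F)
    (hX : X * Nmat d = Nmat d * X)
    (hb : ∀ i, ((top d hd X).toSquareBlock d i).det ≠ 0) : X.det ≠ 0 := by
  rw [← isUnit_iff_ne_zero, ← Matrix.isUnit_iff_isUnit_det, ← Matrix.mulVec_injective_iff_isUnit]
  intro v w hvw
  have h1 : X *ᵥ (v - w) = 0 := by
    rw [Matrix.mulVec_sub, hvw, sub_self]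
  have := mulVec_eq_zero_of_blocks d hd X hX hb (v - w) h1
  exact sub_eq_zero.1 this

theorem det_ne_zero_iff (X : Matrix (Idx d) (Idx d) F) (hX : X * Nmat d = Nmat d * X) :
    X.det ≠ 0 ↔ ∀ i, ((top d hd X).toSquareBlock d i).det ≠ 0 :=
  ⟨fun h => block_det_ne_zero_of_det d hd X hX h, det_ne_zero_of_blocks d hd X hX⟩

end Cfsg.Agent.Lib.Helper5.UnipCent
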