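import Mathlib
import Cfsg.Agent.Lib.Helper5.UnipCent2

set_option autoImplicit false

/-!
Parametrisation of the centraliser of a unipotent matrix of given Jordan type.
-/

namespace Cfsg.Agent.Lib.Helper5.UnipCent

open Matrix

variable {F : Type*} [Field F] {t : ℕ} (d : Fin t → ℕ) (hd : ∀ k, 1 ≤ d k)

/-- index set of the diagonal coordinates -/
abbrev Del : Type := {kl : Fin t × Fin t // d kl.1 = d kl.2}

/-- index set of the free coordinates -/
abbrev Lam : Type :=
  {x : Idx d × Fin t // d x.1.1 ≤ (x.1.2 : ℕ) + d x.2 ∧ ¬ ((x.1.2 : ℕ) = 0 ∧ d x.1.1 = d x.2)}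

/-- the centraliser of the nilpotent part in the matrix algebra -/
abbrev Cen (F : Type*) [Field F] {t : ℕ} (d : Fin t → ℕ) : Type _ :=
  {X : Matrix (Idx d) (Idx d) F // X * Nmat d = Nmat d * X}

/-- coefficient function attached to a pair of coordinate functions -/
def coef (f : Lam d → F) (g : Del d → F) : Idx d → Fin t → F := fun a l =>
  if h1 : (a.2 : ℕ) = 0 ∧ d a.1 = d l then g ⟨(a.1, l), h1.2⟩
  else if h2 : d a.1 ≤ (a.2 : ℕ) + d l then f ⟨(a, l), ⟨h2, h1⟩⟩ else 0

theorem coef_support (f : Lam d → F) (g : Del d → F) (a : Idx d) (l : Fin t)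
    (h : (a.2 : ℕ) + d l < d a.1) : coef d f g a l = 0 := by
  unfold coef
  rw [dif_neg, dif_neg]
  · omega
  · rintro ⟨-, h2⟩
    omega

/-- the parametrisation -/
noncomputable def cenEquiv : Cen F d ≃ (Lam d → F) × (Del d → F) where
  toFun X := (fun x => X.1 x.1.1 (zeroI d hd x.1.2),
    fun kl => X.1 (zeroI d hd kl.1.1) (zeroI d hd kl.1.2))
  invFun p := ⟨T d (coef d p.1 p.2), T_comm d _ (coef_support d p.1 p.2)⟩
  left_inv X := by
    apply Subtype.ext
    show T d (coef d _ _) = X.1
    have : coef d (fun x : Lam d => X.1 x.1.1 (zeroI d hd x.1.2))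
        (fun kl : Del d => X.1 (zeroI d hd kl.1.1) (zeroI d hd kl.1.2)) =
        fun a l => X.1 a (zeroI d hd l) := by
      funext a l
      unfold coef
      by_cases h1 : (a.2 : ℕ) = 0 ∧ d a.1 = d l
      · rw [dif_pos h1]
        show X.1 (zeroI d hd a.1) (zeroI d hd l) = X.1 a (zeroI d hd l)
        have : zeroI d hd a.1 = a := idx_ext d (by rfl) h1.1.symm
        rw [this]
      · rw [dif_neg h1]
        by_cases h2 : d a.1 ≤ (a.2 : ℕ) + d l
        · rw [dif_pos h2]
        · rw [dif_neg h2]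
          symm
          apply support d hd X.1 X.2
          omega
    rw [this]
    exact T_eq d hd X.1 X.2
  right_inv p := by
    obtain ⟨f, g⟩ := p
    apply Prod.ext
    · funext x
      show T d (coef d f g) x.1.1 (zeroI d hd x.1.2) = f x
      rw [T_zero]
      unfold coef
      rw [dif_neg x.2.2, dif_pos x.2.1]
    · funext kl
      show T d (coef d f g) (zeroI d hd kl.1.1) (zeroI d hd kl.1.2) = g kl
      rw [T_zero]
      unfold coef
      rw [dif_pos ⟨rfl, kl.2⟩]
      rfl

/-- the diagonal blocks attached to the diagonal coordinates -/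
def blk (g : Del d → F) (i : ℕ) : Matrix {k // d k = i} {k // d k = i} F :=
  Matrix.of fun k l => g ⟨(k.1, l.1), k.2.trans l.2.symm⟩

theorem toSquareBlock_top (X : Cen F d) (i : ℕ) :
    (top d hd X.1).toSquareBlock d i = blk d (cenEquiv d hd X).2 i := by
  ext k l
  rfl

theorem det_ne_zero_iff' (X : Cen F d) :
    X.1.det ≠ 0 ↔ ∀ i, (blk d (cenEquiv d hd X).2 i).det ≠ 0 := by
  rw [det_ne_zero_iff d hd X.1 X.2]
  refine forall_congr' fun i => ?_
  rw [toSquareBlock_top]

/-- the centraliser in `GL` as a subtype of the matrix centraliser -/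
noncomputable def glEquiv :
    {g : GL (Idx d) F // (g : Matrix (Idx d) (Idx d) F) * Cfsg.jordanTypeMatrix d F =
      Cfsg.jordanTypeMatrix d F * (g : Matrix (Idx d) (Idx d) F)} ≃
    {X : Cen F d // X.1.det ≠ 0} where
  toFun g := ⟨⟨(g.1 : Matrix (Idx d) (Idx d) F), (commute_iff d _).1 g.2⟩, by
    have := (Matrix.isUnit_iff_isUnit_det _).1 g.1.isUnit
    exact this.ne_zero⟩
  invFun X := ⟨Matrix.GeneralLinearGroup.mkOfDetNeZero X.1.1 X.2, (commute_iff d _).2 X.1.2⟩
  left_inv g := by
    apply Subtype.ext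
    apply Units.ext
    rfl
  right_inv X := by
    apply Subtype.ext
    apply Subtype.ext
    rfl

/-- subtype of a product with a predicate on the second factor -/
def prodSnd {α β : Type*} (p : β → Prop) : {s : α × β // p s.2} ≃ α × {b // p b} where
  toFun x := (x.1.1, ⟨x.1.2, x.2⟩)
  invFun y := ⟨(y.1, y.2.1), y.2.2⟩
  left_inv _ := rfl
  right_inv _ := rfl

include hd in
theorem card_centralizer_eq [Fintype F] :
    Nat.card {g : GL (Idx d) F // (g : Matrix (Idx d) (Idx d) F) * Cfsg.jordanTypeMatrix d F =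
      Cfsg.jordanTypeMatrix d F * (g : Matrix (Idx d) (Idx d) F)} =
      Fintype.card F ^ Nat.card (Lam d) *
        Nat.card {g : Del d → F // ∀ i, (blk d g i).det ≠ 0} := by
  classical
  have e2 : {X : Cen F d // X.1.det ≠ 0} ≃
      {p : (Lam d → F) × (Del d → F) // ∀ i, (blk d p.2 i).det ≠ 0} :=
    (cenEquiv d hd).subtypeEquiv (fun X => det_ne_zero_iff' d hd X)
  rw [Nat.card_congr ((glEquiv d).trans (e2.trans
    (prodSnd (fun g : Del d → F => ∀ i, (blk d g i).det ≠ 0)))), Nat.card_prod, Nat.card_fun,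
    Nat.card_eq_fintype_card (α := F)]

end Cfsg.Agent.Lib.Helper5.UnipCent
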