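import Mathlib
import Cfsg.Agent.Lib.Helper5.UnipCent3

set_option autoImplicit false

/-!
Counting the free coordinates of the centraliser of a unipotent matrix of given Jordan type.
-/

namespace Cfsg.Agent.Lib.Helper5.UnipCent

open Matrix

variable {t : ℕ} (d : Fin t → ℕ)

/-- number of free coordinates in the block `(k, l)` -/
def Rf (n e : ℕ) : ℕ := if n = e then n - 1 else min n e

theorem card_filter_range (n e : ℕ) :
    ((Finset.range n).filter (fun m => n ≤ m + e ∧ ¬ (m = 0 ∧ n = e))).card = Rf n e := by
  unfold Rf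
  by_cases h : n = e
  · subst h
    rw [if_pos rfl]
    have : (Finset.range n).filter (fun m => n ≤ m + n ∧ ¬ (m = 0 ∧ n = n)) = Finset.Ico 1 n := by
      ext m
      simp only [Finset.mem_filter, Finset.mem_range, Finset.mem_Ico]
      constructor
      · rintro ⟨h1, -, h3⟩
        refine ⟨?_, h1⟩
        by_contra h0
        exact h3 ⟨by omega, trivial⟩
      · rintro ⟨h1, h2⟩
        exact ⟨h2, by omega, fun h => by omega⟩
    rw [this, Nat.card_Ico]
  · rw [if_neg h]
    rcases Nat.lt_or_gt_of_ne h with hlt | hgt
    · have : (Finset.range n).filter (fun m => n ≤ m + e ∧ ¬ (m = 0 ∧ n = e)) = Finset.range n := by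
        ext m
        simp only [Finset.mem_filter, Finset.mem_range]
        constructor
        · exact fun h => h.1
        · intro h1
          exact ⟨h1, by omega, fun h' => h h'.2⟩
      rw [this, Finset.card_range, min_eq_left hlt.le]
    · have : (Finset.range n).filter (fun m => n ≤ m + e ∧ ¬ (m = 0 ∧ n = e)) =
          Finset.Ico (n - e) n := by
        ext m
        simp only [Finset.mem_filter, Finset.mem_range, Finset.mem_Ico]
        constructor
        · rintro ⟨h1, h2, -⟩
          exact ⟨by omega, h1⟩
        · rintro ⟨h1, h2⟩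
          exact ⟨h2, by omega, fun h' => h h'.2⟩
      rw [this, Nat.card_Ico, min_eq_right hgt.le]
      omega

theorem card_Lam : Nat.card (Lam d) = ∑ k : Fin t, ∑ l : Fin t, Rf (d k) (d l) := by
  classical
  rw [Nat.card_eq_fintype_card, Fintype.card_subtype, Finset.card_filter, Fintype.sum_prod_type,
    Fintype.sum_sigma]
  refine Finset.sum_congr rfl fun k _ => ?_
  rw [Finset.sum_comm]
  refine Finset.sum_congr rfl fun l _ => ?_
  rw [← card_filter_range, Finset.card_filter, ← Fin.sum_univ_eq_sum_range
    (fun m => if d k ≤ m + d l ∧ ¬ (m = 0 ∧ d k = d l) then 1 else 0) (d k)]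

theorem sum_fib (h : ℕ → ℕ) :
    ∑ k : Fin t, h (d k) = ∑ i ∈ Finset.range (Finset.univ.sup d + 1),
      (Finset.univ.filter (fun k : Fin t => d k = i)).card * h i := by
  classical
  have hmaps : ∀ k ∈ (Finset.univ : Finset (Fin t)), d k ∈ Finset.range (Finset.univ.sup d + 1) :=
    fun k _ => Finset.mem_range.2 (Nat.lt_succ_of_le (Finset.le_sup (Finset.mem_univ _)))
  rw [← Finset.sum_fiberwise_of_maps_to hmaps]
  refine Finset.sum_congr rfl fun i _ => ?_
  rw [Finset.sum_congr rfl (g := fun _ => h i) (fun k hk => by rw [(Finset.mem_filter.1 hk).2]),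
    Finset.sum_const, smul_eq_mul]

theorem sum_Rf :
    ∑ k : Fin t, ∑ l : Fin t, Rf (d k) (d l) =
      2 * (∑ i ∈ Finset.range (Finset.univ.sup d + 1),
        ∑ j ∈ Finset.range (Finset.univ.sup d + 1),
          if i < j then i * (Finset.univ.filter (fun k : Fin t => d k = i)).card *
            (Finset.univ.filter (fun k : Fin t => d k = j)).card else 0) +
      ∑ i ∈ Finset.range (Finset.univ.sup d + 1),
        (i - 1) * (Finset.univ.filter (fun k : Fin t => d k = i)).card ^ 2 := by
  classical
  set s := Finset.univ.sup d + 1 with hs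
  set a : ℕ → ℕ := fun i => (Finset.univ.filter (fun k : Fin t => d k = i)).card with ha
  have h1 : ∑ k : Fin t, ∑ l : Fin t, Rf (d k) (d l) =
      ∑ i ∈ Finset.range s, ∑ j ∈ Finset.range s, a i * a j * Rf i j := by
    rw [sum_fib d (fun n => ∑ l : Fin t, Rf n (d l))]
    refine Finset.sum_congr rfl fun i _ => ?_
    rw [sum_fib d (fun e => Rf i e), Finset.mul_sum]
    refine Finset.sum_congr rfl fun j _ => ?_
    ring
  have h2 : ∀ i j : ℕ, a i * a j * Rf i j =
      (if i < j then i * a i * a j else 0) + (if j < i then j * a j * a i else 0) +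
        (if i = j then (i - 1) * a i ^ 2 else 0) := by
    intro i j
    unfold Rf
    rcases Nat.lt_trichotomy i j with h | h | h
    · rw [if_pos h, if_neg (by omega), if_neg (by omega), if_neg (by omega), min_eq_left h.le]
      ring
    · subst h
      simp only [lt_irrefl, if_false, if_true]
      ring
    · rw [if_neg (by omega), if_pos h, if_neg (by omega), if_neg (by omega), min_eq_right h.le]
      ring
  rw [h1]
  simp_rw [h2, Finset.sum_add_distrib]
  have h3 : ∑ i ∈ Finset.range s, ∑ j ∈ Finset.range s, (if j < i then j * a j * a i else 0) =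
      ∑ i ∈ Finset.range s, ∑ j ∈ Finset.range s, (if i < j then i * a i * a j else 0) := by
    rw [Finset.sum_comm]
  have h4 : ∑ i ∈ Finset.range s, ∑ j ∈ Finset.range s,
      (if i = j then (i - 1) * a i ^ 2 else 0) = ∑ i ∈ Finset.range s, (i - 1) * a i ^ 2 := by
    refine Finset.sum_congr rfl fun i hi => ?_
    rw [Finset.sum_ite_eq, if_pos hi]
  rw [h3, h4]
  ring

end Cfsg.Agent.Lib.Helper5.UnipCent
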