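import Mathlib
import Cfsg.Agent.Lib.Helper5.UnipCent5
import Cfsg.Agent.Lib.Helper5.Wall3

set_option autoImplicit false

/-!
Shared definitions for the centraliser of a unipotent element in the general unitary group (S2646).
-/

namespace Cfsg.Agent.Lib.Helper5.GUC

open Matrix Cfsg.Agent.S0278

variable {K : Type*} [Field K] [Fintype K] {q : ℕ}

/-- conjugate transpose (with respect to `x ↦ x ^ q`) of a square matrix over any index type. -/
def cT (hK : Fintype.card K = q ^ 2) {ι : Type*} (X : Matrix ι ι K) : Matrix ι ι K :=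
  (X.map (powQ hK))ᵀ

theorem cT_apply (hK : Fintype.card K = q ^ 2) {ι : Type*} (X : Matrix ι ι K) (i j : ι) :
    cT hK X i j = (X j i) ^ q := rfl

theorem cT_add (hK : Fintype.card K = q ^ 2) {ι : Type*} (X Y : Matrix ι ι K) :
    cT hK (X + Y) = cT hK X + cT hK Y := by
  unfold cT
  rw [Matrix.map_add _ (map_add (powQ hK)), Matrix.transpose_add]

theorem cT_sub (hK : Fintype.card K = q ^ 2) {ι : Type*} (X Y : Matrix ι ι K) :
    cT hK (X - Y) = cT hK X - cT hK Y := by
  unfold cT
  rw [Matrix.map_sub _ (map_sub (powQ hK)), Matrix.transpose_sub]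

theorem cT_zero (hK : Fintype.card K = q ^ 2) {ι : Type*} : cT hK (0 : Matrix ι ι K) = 0 := by
  ext i j
  rw [cT_apply, Matrix.zero_apply, Matrix.zero_apply]
  exact map_zero (powQ hK)

theorem cT_neg (hK : Fintype.card K = q ^ 2) {ι : Type*} (X : Matrix ι ι K) :
    cT hK (-X) = -cT hK X := by
  have h := cT_sub hK (0 : Matrix ι ι K) X
  rwa [cT_zero, zero_sub, zero_sub] at h

theorem cT_mul (hK : Fintype.card K = q ^ 2) {ι : Type*} [Fintype ι] (X Y : Matrix ι ι K) :
    cT hK (X * Y) = cT hK Y * cT hK X := by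
  unfold cT
  rw [Matrix.map_mul, Matrix.transpose_mul]

theorem cT_one (hK : Fintype.card K = q ^ 2) {ι : Type*} [DecidableEq ι] :
    cT hK (1 : Matrix ι ι K) = 1 := by
  unfold cT
  rw [Matrix.map_one _ (map_zero _) (map_one _), Matrix.transpose_one]

theorem pow_q_pow_q (hK : Fintype.card K = q ^ 2) (x : K) : (x ^ q) ^ q = x := by
  rw [← pow_mul, ← sq, ← hK, FiniteField.pow_card]

theorem cT_cT (hK : Fintype.card K = q ^ 2) {ι : Type*} (X : Matrix ι ι K) :
    cT hK (cT hK X) = X := by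
  ext i j
  rw [cT_apply, cT_apply]
  exact pow_q_pow_q hK _

theorem cT_smul (hK : Fintype.card K = q ^ 2) {ι : Type*} (c : K) (X : Matrix ι ι K) :
    cT hK (c • X) = (c ^ q) • cT hK X := by
  ext i j
  rw [cT_apply, Matrix.smul_apply, Matrix.smul_apply, cT_apply, smul_eq_mul, smul_eq_mul, mul_pow]

theorem cT_eq_ct (hK : Fintype.card K = q ^ 2) {n : ℕ} (X : Matrix (Fin n) (Fin n) K) :
    cT hK X = Cfsg.Agent.Lib.Helper5.Wall.ct hK X := rfl

theorem cT_reindex (hK : Fintype.card K = q ^ 2) {ι κ : Type*} (e : ι ≃ κ) (X : Matrix ι ι K) :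
    cT hK (Matrix.reindex e e X) = Matrix.reindex e e (cT hK X) := by
  ext i j
  rfl

/-- the anti-involution attached to an invertible Hermitian matrix `M`: `X ↦ M⁻¹ X* M`. -/
noncomputable def tauM (hK : Fintype.card K = q ^ 2) {ι : Type*} [Fintype ι] [DecidableEq ι]
    (M : Matrix ι ι K) (X : Matrix ι ι K) : Matrix ι ι K :=
  M⁻¹ * cT hK X * M

end Cfsg.Agent.Lib.Helper5.GUC
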