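import Mathlib
import Cfsg.Agent.Lib.Helper5.GUC0

set_option autoImplicit false

/-!
The centraliser algebra of a unipotent matrix of given Jordan type and its semisimple quotient.
-/

namespace Cfsg.Agent.Lib.Helper5.GUC

open Matrix Cfsg.Agent.Lib.Helper5.UnipCent

variable {K : Type*} [Field K] {t : ℕ} (d : Fin t → ℕ) (hd : ∀ k, 1 ≤ d k)

/-- the centraliser algebra of the nilpotent part. -/
def CenAlg (K : Type*) [Field K] {t : ℕ} (d : Fin t → ℕ) :
    Subalgebra K (Matrix (Idx d) (Idx d) K) :=
  Subalgebra.centralizer K {Nmat d}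

theorem mem_CenAlg {X : Matrix (Idx d) (Idx d) K} :
    X ∈ CenAlg K d ↔ X * Nmat d = Nmat d * X := by
  unfold CenAlg
  rw [Subalgebra.mem_centralizer_iff]
  constructor
  · intro h
    exact (h _ rfl).symm
  · intro h g hg
    rw [Set.mem_singleton_iff] at hg
    rw [hg]
    exact h.symm

/-- the semisimple quotient. -/
abbrev SS (K : Type*) [Field K] {t : ℕ} (d : Fin t → ℕ) : Type _ :=
  (i : Fin (Finset.univ.sup d + 1)) → Matrix {k // d k = i.1} {k // d k = i.1} K

theorem toSquareBlock_mul_of_blockTriangular {A B : Matrix (Fin t) (Fin t) K}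
    (hA : A.BlockTriangular d) (hB : B.BlockTriangular d) (i : ℕ) :
    (A * B).toSquareBlock d i = A.toSquareBlock d i * B.toSquareBlock d i := by
  classical
  ext k l
  show (A * B) k.1 l.1 = _
  rw [Matrix.mul_apply, Matrix.mul_apply]
  have hsub : ∀ m ∈ (Finset.univ : Finset (Fin t)),
      m ∉ (Finset.univ : Finset {k // d k = i}).map ⟨Subtype.val, Subtype.val_injective⟩ →
      A k.1 m * B m l.1 = 0 := by
    intro m _ hm
    have hmi : d m ≠ i := by
      intro h
      apply hm
      rw [Finset.mem_map]
      exact ⟨⟨m, h⟩, Finset.mem_univ _, rfl⟩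
    rcases Nat.lt_or_gt_of_ne hmi with h | h
    · rw [hA (show d m < d k.1 by rw [k.2]; exact h), zero_mul]
    · rw [hB (show d l.1 < d m by rw [l.2]; exact h), mul_zero]
  rw [← Finset.sum_subset (Finset.subset_univ _) hsub, Finset.sum_map]
  rfl

/-- the projection onto the semisimple quotient. -/
noncomputable def piHom : CenAlg K d →ₐ[K] SS K d where
  toFun X := fun i => (top d hd X.1).toSquareBlock d i.1
  map_one' := by
    funext i
    show (top d hd (1 : Matrix (Idx d) (Idx d) K)).toSquareBlock d i.1 = 1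
    rw [top_one]
    ext k l
    show (1 : Matrix (Fin t) (Fin t) K) k.1 l.1 = (1 : Matrix _ _ K) k l
    by_cases h : k = l
    · subst h
      rw [Matrix.one_apply_eq, Matrix.one_apply_eq]
    · rw [Matrix.one_apply_ne h, Matrix.one_apply_ne]
      intro h'
      exact h (Subtype.ext h')
  map_mul' X Y := by
    funext i
    show (top d hd (X.1 * Y.1)).toSquareBlock d i.1 = _
    rw [top_mul d hd X.1 Y.1 ((mem_CenAlg d).1 X.2)]
    exact toSquareBlock_mul_of_blockTriangular d
      (top_blockTriangular d hd X.1 ((mem_CenAlg d).1 X.2))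
      (top_blockTriangular d hd Y.1 ((mem_CenAlg d).1 Y.2)) i.1
  map_zero' := by
    funext i
    ext k l
    rfl
  map_add' X Y := by
    funext i
    ext k l
    rfl
  commutes' c := by
    funext i
    ext k l
    show (algebraMap K (Matrix (Idx d) (Idx d) K) c) (zeroI d hd k.1) (zeroI d hd l.1) =
      (algebraMap K (Matrix {k // d k = i.1} {k // d k = i.1} K) c) k l
    rw [Matrix.algebraMap_matrix_apply, Matrix.algebraMap_matrix_apply]
    by_cases h : k = l
    · subst h
      rw [if_pos rfl, if_pos rfl]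
    · rw [if_neg h, if_neg]
      intro h'
      exact h (Subtype.ext (congrArg Sigma.fst h'))

theorem piHom_apply (X : CenAlg K d) (i : Fin (Finset.univ.sup d + 1)) (k l : {k // d k = i.1}) :
    piHom d hd X i k l = X.1 (zeroI d hd k.1) (zeroI d hd l.1) := rfl

end Cfsg.Agent.Lib.Helper5.GUC
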