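import Mathlib
import Cfsg.Agent.Lib.Helper5.UnipCent3

set_option autoImplicit false

/-!
Counting the diagonal part of the centraliser of a unipotent matrix of given Jordan type.
-/

namespace Cfsg.Agent.Lib.Helper5.UnipCent

open Matrix

variable {F : Type*} [Field F] {t : ℕ} (d : Fin t → ℕ)

theorem card_det_ne_zero {ι : Type*} [Fintype ι] [DecidableEq ι] [Fintype F] (n : ℕ)
    (hn : Fintype.card ι = n) :
    Nat.card {M : Matrix ι ι F // M.det ≠ 0} =
      ∏ j : Fin n, (Fintype.card F ^ n - Fintype.card F ^ (j : ℕ)) := by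
  subst hn
  let e := Fintype.equivFin ι
  have e1 : {M : Matrix ι ι F // M.det ≠ 0} ≃
      {M : Matrix (Fin (Fintype.card ι)) (Fin (Fintype.card ι)) F // M.det ≠ 0} :=
    (Matrix.reindex e e).subtypeEquiv (fun M => by rw [Matrix.det_reindex_self])
  have e2 : GL (Fin (Fintype.card ι)) F ≃
      {M : Matrix (Fin (Fintype.card ι)) (Fin (Fintype.card ι)) F // M.det ≠ 0} :=
    { toFun := fun g => ⟨g.1, ((Matrix.isUnit_iff_isUnit_det _).1 g.isUnit).ne_zero⟩
      invFun := fun M => Matrix.GeneralLinearGroup.mkOfDetNeZero M.1 M.2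
      left_inv := fun g => Units.ext rfl
      right_inv := fun M => Subtype.ext rfl }
  rw [Nat.card_congr (e1.trans e2.symm), Matrix.card_GL_field]

/-- the diagonal coordinates as a family of square matrices -/
noncomputable def delEquiv : (Del d → F) ≃
    ((i : Fin (Finset.univ.sup d + 1)) → Matrix {k // d k = i.1} {k // d k = i.1} F) where
  toFun g := fun i => blk d g i.1
  invFun M := fun kl => M ⟨d kl.1.1, Nat.lt_succ_of_le (Finset.le_sup (Finset.mem_univ _))⟩
    ⟨kl.1.1, rfl⟩ ⟨kl.1.2, kl.2.symm⟩
  left_inv g := by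
    funext kl
    rfl
  right_inv M := by
    funext i
    ext k l
    obtain ⟨i, hi⟩ := i
    obtain ⟨k, hk⟩ := k
    obtain ⟨l, hl⟩ := l
    simp only at hk hl
    subst hk
    rfl

theorem card_del [Fintype F] :
    Nat.card {g : Del d → F // ∀ i, (blk d g i).det ≠ 0} =
      ∏ i ∈ Finset.range (Finset.univ.sup d + 1),
        ∏ j : Fin ((Finset.univ.filter (fun k : Fin t => d k = i)).card),
          (Fintype.card F ^ (Finset.univ.filter (fun k : Fin t => d k = i)).card -
            Fintype.card F ^ (j : ℕ)) := by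
  classical
  have hiff : ∀ g : Del d → F, (∀ i, (blk d g i).det ≠ 0) ↔
      ∀ i : Fin (Finset.univ.sup d + 1), (delEquiv d g i).det ≠ 0 := by
    intro g
    constructor
    · intro h i
      exact h i.1
    · intro h i
      by_cases hi : i < Finset.univ.sup d + 1
      · exact h ⟨i, hi⟩
      · have : IsEmpty {k // d k = i} := by
          refine ⟨fun k => hi ?_⟩
          rw [← k.2]
          exact Nat.lt_succ_of_le (Finset.le_sup (Finset.mem_univ _))
        rw [Matrix.det_isEmpty]
        exact one_ne_zero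
  have e1 : {g : Del d → F // ∀ i, (blk d g i).det ≠ 0} ≃
      {M : (i : Fin (Finset.univ.sup d + 1)) →
        Matrix {k // d k = i.1} {k // d k = i.1} F // ∀ i, (M i).det ≠ 0} :=
    (delEquiv d).subtypeEquiv hiff
  have e3 : {M : (i : Fin (Finset.univ.sup d + 1)) →
        Matrix {k // d k = i.1} {k // d k = i.1} F // ∀ i, (M i).det ≠ 0} ≃
      ((i : Fin (Finset.univ.sup d + 1)) →
        {M : Matrix {k // d k = i.1} {k // d k = i.1} F // M.det ≠ 0}) :=
    Equiv.subtypePiEquivPi (β := fun i : Fin (Finset.univ.sup d + 1) =>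
      Matrix {k // d k = i.1} {k // d k = i.1} F) (p := fun _ M => M.det ≠ 0)
  rw [Nat.card_congr (e1.trans e3), Nat.card_pi,
    ← Fin.prod_univ_eq_prod_range (fun i =>
      ∏ j : Fin ((Finset.univ.filter (fun k : Fin t => d k = i)).card),
        (Fintype.card F ^ (Finset.univ.filter (fun k : Fin t => d k = i)).card -
          Fintype.card F ^ (j : ℕ)))]
  refine Finset.prod_congr rfl fun i _ => ?_
  apply card_det_ne_zero
  rw [Fintype.card_subtype]

end Cfsg.Agent.Lib.Helper5.UnipCent
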