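import Mathlib
import Cfsg.Agent.Lib.Helper5.GUC1
import Cfsg.Agent.Lib.Helper5.UnipCent4

set_option autoImplicit false

/-!
Surjectivity, kernel and nilpotency for the projection of the centraliser algebra.
-/

namespace Cfsg.Agent.Lib.Helper5.GUC

open Matrix Cfsg.Agent.Lib.Helper5.UnipCent

variable {K : Type*} [Field K] {t : ℕ} (d : Fin t → ℕ) (hd : ∀ k, 1 ≤ d k)

/-- the centraliser algebra as the subtype used in the parametrisation. -/
def cenAlgEquiv : CenAlg K d ≃ Cen K d where
  toFun X := ⟨X.1, (mem_CenAlg d).1 X.2⟩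
  invFun X := ⟨X.1, (mem_CenAlg d).2 X.2⟩
  left_inv _ := rfl
  right_inv _ := rfl

theorem piHom_eq (X : CenAlg K d) :
    piHom d hd X = delEquiv d (cenEquiv d hd (cenAlgEquiv d X)).2 := by
  funext i
  show (top d hd X.1).toSquareBlock d i.1 = blk d (cenEquiv d hd (cenAlgEquiv d X)).2 i.1
  exact toSquareBlock_top d hd (cenAlgEquiv d X) i.1

theorem piHom_surjective : Function.Surjective (piHom (K := K) d hd) := by
  intro Y
  refine ⟨(cenAlgEquiv d).symm ((cenEquiv d hd).symm (0, (delEquiv d).symm Y)), ?_⟩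
  rw [piHom_eq, Equiv.apply_symm_apply, Equiv.apply_symm_apply, Equiv.apply_symm_apply]

/-- the kernel of the projection is parametrised by the free coordinates. -/
noncomputable def kerEquiv : {X : CenAlg K d // piHom d hd X = 0} ≃ (Lam d → K) where
  toFun X := (cenEquiv d hd (cenAlgEquiv d X.1)).1
  invFun f := ⟨(cenAlgEquiv d).symm ((cenEquiv d hd).symm (f, 0)), by
    rw [piHom_eq, Equiv.apply_symm_apply, Equiv.apply_symm_apply]
    funext i
    ext k l
    rfl⟩
  left_inv X := by
    apply Subtype.ext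
    apply (cenAlgEquiv d).injective
    apply (cenEquiv d hd).injective
    rw [Equiv.apply_symm_apply, Equiv.apply_symm_apply]
    apply Prod.ext
    · rfl
    · have h := X.2
      rw [piHom_eq] at h
      have h2 : (cenEquiv d hd (cenAlgEquiv d X.1)).2 = (delEquiv d).symm 0 :=
        (Equiv.eq_symm_apply _).2 h
      rw [h2]
      funext kl
      rfl
  right_inv f := by
    show (cenEquiv d hd (cenAlgEquiv d ((cenAlgEquiv d).symm ((cenEquiv d hd).symm (f, 0))))).1 = f
    rw [Equiv.apply_symm_apply, Equiv.apply_symm_apply]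

theorem card_ker [Fintype K] :
    Nat.card {X : CenAlg K d // piHom d hd X = 0} = Fintype.card K ^ Nat.card (Lam d) := by
  rw [Nat.card_congr (kerEquiv d hd), Nat.card_fun, Nat.card_eq_fintype_card (α := K)]

/-! ### nilpotency of the kernel -/

/-- weight of an index. -/
def wt (a : Idx d) : ℕ :=
  (d a.1 - (a.2 : ℕ)) * (Finset.univ.sup d + 1) + (Finset.univ.sup d - d a.1)

theorem wt_lt_of_ne_zero (X : CenAlg K d) (hX : piHom d hd X = 0) (a b : Idx d)
    (hab : X.1 a b ≠ 0) : wt d a < wt d b := by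
  have hc := (mem_CenAlg d).1 X.2
  have hda : d a.1 ≤ Finset.univ.sup d := Finset.le_sup (Finset.mem_univ _)
  have hdb : d b.1 ≤ Finset.univ.sup d := Finset.le_sup (Finset.mem_univ _)
  have ha2 := a.2.2
  have hb2 := b.2.2
  rw [toeplitz' d hd X.1 hc a b] at hab
  by_cases h1 : (b.2 : ℕ) ≤ (a.2 : ℕ)
  · rw [if_pos h1] at hab
    -- support
    have h2 : ¬ (((subI d a b.2).2 : ℕ) + d b.1 < d (subI d a b.2).1) := by
      intro h
      exact hab (support d hd X.1 hc (subI d a b.2) b.1 h)
    have h2' : d a.1 ≤ (a.2 : ℕ) - (b.2 : ℕ) + d b.1 := by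
      have : ((subI d a b.2).2 : ℕ) = (a.2 : ℕ) - (b.2 : ℕ) := rfl
      have h3 : (subI d a b.2).1 = a.1 := rfl
      rw [this, h3] at h2
      omega
    unfold wt
    set D := Finset.univ.sup d with hD
    by_cases h3 : d a.1 - (a.2 : ℕ) < d b.1 - (b.2 : ℕ)
    · have h4 : (d a.1 - (a.2 : ℕ) + 1) * (D + 1) ≤ (d b.1 - (b.2 : ℕ)) * (D + 1) :=
        Nat.mul_le_mul_right _ h3
      have h5 : (d a.1 - (a.2 : ℕ) + 1) * (D + 1) = (d a.1 - (a.2 : ℕ)) * (D + 1) + (D + 1) := by
        ring
      omega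
    · have h4 : d a.1 - (a.2 : ℕ) = d b.1 - (b.2 : ℕ) := by omega
      rw [h4]
      have h5 : d b.1 ≠ d a.1 := by
        intro h5
        have h6 : (a.2 : ℕ) = (b.2 : ℕ) := by omega
        apply hab
        have e : subI d a b.2 = zeroI d hd a.1 := by
          refine idx_ext d (by rfl) ?_
          show (a.2 : ℕ) - (b.2 : ℕ) = 0
          omega
        rw [e]
        have hi : d a.1 < Finset.univ.sup d + 1 := Nat.lt_succ_of_le hda
        have h7 := congrFun hX ⟨d a.1, hi⟩
        have h8 := congrFun (congrFun h7 ⟨a.1, rfl⟩) ⟨b.1, h5⟩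
        exact h8
      omega
  · rw [if_neg h1] at hab
    exact absurd rfl hab

theorem pow_apply_ne_zero {ι : Type*} [Fintype ι] [DecidableEq ι] (w : ι → ℕ) (X : Matrix ι ι K)
    (hX : ∀ a b, X a b ≠ 0 → w a < w b) :
    ∀ (m : ℕ) (a b : ι), (X ^ m) a b ≠ 0 → w a + m ≤ w b := by
  intro m
  induction m with
  | zero =>
    intro a b hab
    rw [pow_zero] at hab
    by_cases h : a = b
    · rw [h]; omega
    · rw [Matrix.one_apply_ne h] at hab
      exact absurd rfl hab
  | succ m ih =>
    intro a b hab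
    rw [pow_succ, Matrix.mul_apply] at hab
    obtain ⟨c, -, hc⟩ := Finset.exists_ne_zero_of_sum_ne_zero hab
    have h1 : (X ^ m) a c ≠ 0 := left_ne_zero_of_mul hc
    have h2 : X c b ≠ 0 := right_ne_zero_of_mul hc
    have := ih a c h1
    have := hX c b h2
    omega

theorem isNilpotent_of_piHom_eq_zero (X : CenAlg K d) (hX : piHom d hd X = 0) : IsNilpotent X := by
  classical
  set B := (Finset.univ.sup d + 1) * (Finset.univ.sup d + 1) + Finset.univ.sup d + 1 with hB
  refine ⟨B, ?_⟩
  apply Subtype.ext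
  show (X ^ B).1 = 0
  rw [SubmonoidClass.coe_pow]
  ext a b
  rw [Matrix.zero_apply]
  by_contra hne
  have h1 := pow_apply_ne_zero (wt d) X.1 (wt_lt_of_ne_zero d hd X hX) B a b hne
  have h2 : wt d b < B := by
    unfold wt
    have hdb : d b.1 ≤ Finset.univ.sup d := Finset.le_sup (Finset.mem_univ _)
    have h3 : (d b.1 - (b.2 : ℕ)) * (Finset.univ.sup d + 1) ≤
        (Finset.univ.sup d + 1) * (Finset.univ.sup d + 1) :=
      Nat.mul_le_mul_right _ (by omega)
    omega
  omega

end Cfsg.Agent.Lib.Helper5.GUC
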