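import Mathlib
import Cfsg.Agent.Lib.Helper5.GUC1

set_option autoImplicit false

/-!
Orthogonality relations for a Hermitian form invariant under a unipotent matrix in Jordan form.
-/

namespace Cfsg.Agent.Lib.Helper5.GUC

open Matrix Cfsg.Agent.S0278 Cfsg.Agent.Lib.Helper5.UnipCent

variable {K : Type*} [Field K] [Fintype K] {q : ℕ} {t : ℕ} (d : Fin t → ℕ)

theorem cT_Nmat (hK : Fintype.card K = q ^ 2) : cT hK (Nmat (F := K) d) = (Nmat (F := K) d)ᵀ := by
  ext a b
  rw [cT_apply, Matrix.transpose_apply]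
  unfold Nmat
  rw [Matrix.of_apply]
  split_ifs
  · exact one_pow q
  · exact map_zero (powQ hK)

theorem NmatT_mul_apply (X : Matrix (Idx d) (Idx d) K) (a b : Idx d) :
    ((Nmat (F := K) d)ᵀ * X) a b = if h : (a.2 : ℕ) + 1 < d a.1 then X (sucI d a h) b else 0 := by
  have h1 : (Nmat (F := K) d)ᵀ * X = (Xᵀ * Nmat (F := K) d)ᵀ := by
    rw [Matrix.transpose_mul, Matrix.transpose_transpose]
  rw [h1, Matrix.transpose_apply, mul_Nmat_apply]
  rfl

/-- the key identity. -/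
theorem key_identity (hK : Fintype.card K = q ^ 2) (M : Matrix (Idx d) (Idx d) K)
    (hinv : cT hK (1 + Nmat d) * M * (1 + Nmat d) = M) :
    (Nmat (F := K) d)ᵀ * M = -((1 + (Nmat (F := K) d)ᵀ) * (M * Nmat d)) := by
  rw [cT_add, cT_one, cT_Nmat] at hinv
  have h1 : (1 + (Nmat (F := K) d)ᵀ) * M * (1 + Nmat d) =
      M + ((Nmat (F := K) d)ᵀ * M + (1 + (Nmat (F := K) d)ᵀ) * (M * Nmat d)) := by
    simp only [mul_add, mul_one, add_mul, one_mul, Matrix.mul_assoc]
    abel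
  rw [h1] at hinv
  have h2 : (Nmat (F := K) d)ᵀ * M + (1 + (Nmat (F := K) d)ᵀ) * (M * Nmat d) = 0 := by
    have := sub_eq_zero.2 hinv
    rwa [add_sub_cancel_left] at this
  exact eq_neg_of_add_eq_zero_left h2

/-- padded entries. -/
def Mx (M : Matrix (Idx d) (Idx d) K) (k l : Fin t) (a b : ℕ) : K :=
  if h : a < d k ∧ b < d l then M ⟨k, ⟨a, h.1⟩⟩ ⟨l, ⟨b, h.2⟩⟩ else 0

theorem Mx_eq (M : Matrix (Idx d) (Idx d) K) (p r : Idx d) :
    Mx d M p.1 r.1 p.2 r.2 = M p r := by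
  unfold Mx
  rw [dif_pos ⟨p.2.2, r.2.2⟩]

theorem Mx_of_not_left (M : Matrix (Idx d) (Idx d) K) (k l : Fin t) (a b : ℕ) (h : ¬ a < d k) :
    Mx d M k l a b = 0 := by
  unfold Mx
  rw [dif_neg]
  exact fun h' => h h'.1

theorem Mx_of_not_right (M : Matrix (Idx d) (Idx d) K) (k l : Fin t) (a b : ℕ) (h : ¬ b < d l) :
    Mx d M k l a b = 0 := by
  unfold Mx
  rw [dif_neg]
  exact fun h' => h h'.2

theorem Mx_rec (M : Matrix (Idx d) (Idx d) K)
    (hkey : (Nmat (F := K) d)ᵀ * M = -((1 + (Nmat (F := K) d)ᵀ) * (M * Nmat d)))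
    (k l : Fin t) (a b : ℕ) :
    Mx d M k l (a + 1) b = -(Mx d M k l a (b + 1) + Mx d M k l (a + 1) (b + 1)) := by
  by_cases hb : b < d l
  · by_cases ha : a < d k
    · have h := congrFun (congrFun hkey ⟨k, ⟨a, ha⟩⟩) ⟨l, ⟨b, hb⟩⟩
      rw [Matrix.neg_apply, add_mul, one_mul, Matrix.add_apply, NmatT_mul_apply, NmatT_mul_apply,
        mul_Nmat_apply] at h
      have e1 : Mx d M k l (a + 1) b =
          (if h : ((⟨k, ⟨a, ha⟩⟩ : Idx d).2 : ℕ) + 1 < d (⟨k, ⟨a, ha⟩⟩ : Idx d).1 then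
            M (sucI d ⟨k, ⟨a, ha⟩⟩ h) ⟨l, ⟨b, hb⟩⟩ else 0) := by
        by_cases h1 : a + 1 < d k
        · rw [dif_pos h1]
          unfold Mx
          rw [dif_pos ⟨h1, hb⟩]
          rfl
        · rw [dif_neg h1]
          exact Mx_of_not_left d M k l _ _ h1
      have e2 : Mx d M k l a (b + 1) =
          (if h : ((⟨l, ⟨b, hb⟩⟩ : Idx d).2 : ℕ) + 1 < d (⟨l, ⟨b, hb⟩⟩ : Idx d).1 then
            M ⟨k, ⟨a, ha⟩⟩ (sucI d ⟨l, ⟨b, hb⟩⟩ h) else 0) := by
        by_cases h1 : b + 1 < d l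
        · rw [dif_pos h1]
          unfold Mx
          rw [dif_pos ⟨ha, h1⟩]
          rfl
        · rw [dif_neg h1]
          exact Mx_of_not_right d M k l _ _ h1
      have e3 : Mx d M k l (a + 1) (b + 1) =
          (if h : ((⟨k, ⟨a, ha⟩⟩ : Idx d).2 : ℕ) + 1 < d (⟨k, ⟨a, ha⟩⟩ : Idx d).1 then
            (M * Nmat (F := K) d) (sucI d ⟨k, ⟨a, ha⟩⟩ h) ⟨l, ⟨b, hb⟩⟩ else 0) := by
        by_cases h1 : a + 1 < d k
        · rw [dif_pos h1, mul_Nmat_apply]
          by_cases h2 : b + 1 < d l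
          · rw [dif_pos h2]
            unfold Mx
            rw [dif_pos ⟨h1, h2⟩]
            rfl
          · rw [dif_neg h2]
            exact Mx_of_not_right d M k l _ _ h2
        · rw [dif_neg h1]
          exact Mx_of_not_left d M k l _ _ h1
      rw [e1, e2, e3]
      exact h
    · rw [Mx_of_not_left d M k l (a + 1) b (by omega), Mx_of_not_left d M k l a (b + 1) ha,
        Mx_of_not_left d M k l (a + 1) (b + 1) (by omega), add_zero, neg_zero]
  · rw [Mx_of_not_right d M k l (a + 1) b hb, Mx_of_not_right d M k l a (b + 1) (by omega),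
      Mx_of_not_right d M k l (a + 1) (b + 1) (by omega), add_zero, neg_zero]

/-- first orthogonality relation. -/
theorem Mx_orth_right (M : Matrix (Idx d) (Idx d) K)
    (hkey : (Nmat (F := K) d)ᵀ * M = -((1 + (Nmat (F := K) d)ᵀ) * (M * Nmat d)))
    (k l : Fin t) : ∀ (j b : ℕ), b + j = d l → ∀ a : ℕ, d l ≤ a + b → Mx d M k l a b = 0 := by
  intro j
  induction j with
  | zero =>
    intro b hb a _
    exact Mx_of_not_right d M k l a b (by omega)
  | succ j ih =>
    intro b hb a hab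
    cases a with
    | zero => exact Mx_of_not_right d M k l 0 b (by omega)
    | succ a =>
      rw [Mx_rec d M hkey, ih (b + 1) (by omega) a (by omega), ih (b + 1) (by omega) (a + 1) (by omega),
        add_zero, neg_zero]

theorem Mx_orth_right' (M : Matrix (Idx d) (Idx d) K)
    (hkey : (Nmat (F := K) d)ᵀ * M = -((1 + (Nmat (F := K) d)ᵀ) * (M * Nmat d)))
    (k l : Fin t) (a b : ℕ) (hab : d l ≤ a + b) : Mx d M k l a b = 0 := by
  by_cases hb : b < d l
  · exact Mx_orth_right d M hkey k l (d l - b) b (by omega) a hab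
  · exact Mx_of_not_right d M k l a b hb

theorem Mx_herm (hK : Fintype.card K = q ^ 2) (M : Matrix (Idx d) (Idx d) K)
    (hM : cT hK M = M) (k l : Fin t) (a b : ℕ) : Mx d M k l a b = (Mx d M l k b a) ^ q := by
  unfold Mx
  by_cases h : a < d k ∧ b < d l
  · rw [dif_pos h, dif_pos ⟨h.2, h.1⟩]
    have := congrFun (congrFun hM ⟨k, ⟨a, h.1⟩⟩) ⟨l, ⟨b, h.2⟩⟩
    rw [cT_apply] at this
    exact this.symm
  · rw [dif_neg h, dif_neg (fun h' => h ⟨h'.2, h'.1⟩), zero_pow]
    have := Cfsg.Agent.Lib.Helper1.HermCount.two_le_q hK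
    omega

/-- second orthogonality relation. -/
theorem Mx_orth_left (hK : Fintype.card K = q ^ 2) (M : Matrix (Idx d) (Idx d) K)
    (hM : cT hK M = M)
    (hkey : (Nmat (F := K) d)ᵀ * M = -((1 + (Nmat (F := K) d)ᵀ) * (M * Nmat d)))
    (k l : Fin t) (a b : ℕ) (hab : d k ≤ a + b) : Mx d M k l a b = 0 := by
  rw [Mx_herm d hK M hM, Mx_orth_right' d M hkey l k b a (by omega), zero_pow]
  have := Cfsg.Agent.Lib.Helper1.HermCount.two_le_q hK
  omega

/-- the sign rule on the last antidiagonal. -/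
theorem Mx_antidiag (M : Matrix (Idx d) (Idx d) K)
    (hkey : (Nmat (F := K) d)ᵀ * M = -((1 + (Nmat (F := K) d)ᵀ) * (M * Nmat d)))
    (k l : Fin t) : ∀ (a b : ℕ), a + b + 1 = d l → Mx d M k l a b = (-1) ^ a * Mx d M k l 0 (a + b) := by
  intro a
  induction a with
  | zero =>
    intro b _
    rw [pow_zero, one_mul, zero_add]
  | succ a ih =>
    intro b hab
    rw [Mx_rec d M hkey, Mx_orth_right' d M hkey k l (a + 1) (b + 1) (by omega), add_zero,
      ih (b + 1) (by omega), pow_succ]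
    have : a + (b + 1) = a + 1 + b := by omega
    rw [this]
    ring

end Cfsg.Agent.Lib.Helper5.GUC
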