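import Mathlib
import Cfsg.Agent.Lib.Helper5.GUC0

set_option autoImplicit false

/-!
Package A for S2646: counting the unitary elements of a finite algebra with a semilinear
anti-involution, modulo a nil ideal.
-/

namespace Cfsg.Agent.Lib.Helper5.GUC

open Cfsg.Agent.S0278

/-- counting via fibres of constant size. -/
theorem card_eq_mul_of_fibers {X Y : Type*} [Finite X] (f : X → Y) (hf : Function.Surjective f)
    (n : ℕ) (hfib : ∀ y, Nat.card {x : X // f x = y} = n) : Nat.card X = Nat.card Y * n := by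
  classical
  haveI : Finite Y := Finite.of_surjective f hf
  haveI := Fintype.ofFinite Y
  rw [Nat.card_congr (Equiv.sigmaFiberEquiv f).symm, Nat.card_sigma]
  simp only [hfib, Finset.sum_const, Finset.card_univ, smul_eq_mul, Nat.card_eq_fintype_card]

/-- counting via fibres of constant size, for subtypes. -/
theorem card_subtype_eq_mul_of_fibers {X Y : Type*} [Finite X] (P : X → Prop) (Q : Y → Prop)
    (f : X → Y) (hPQ : ∀ x, P x → Q (f x)) (hsurj : ∀ y, Q y → ∃ x, P x ∧ f x = y) (n : ℕ)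
    (hfib : ∀ y, Q y → Nat.card {x : X // P x ∧ f x = y} = n) :
    Nat.card {x : X // P x} = Nat.card {y : Y // Q y} * n := by
  refine card_eq_mul_of_fibers (fun x : {x : X // P x} => (⟨f x.1, hPQ x.1 x.2⟩ : {y : Y // Q y}))
    ?_ n ?_
  · rintro ⟨y, hy⟩
    obtain ⟨x, hx, hxy⟩ := hsurj y hy
    exact ⟨⟨x, hx⟩, Subtype.ext hxy⟩
  · rintro ⟨y, hy⟩
    rw [← hfib y hy]
    refine Nat.card_congr ?_
    exact
      { toFun := fun x => ⟨x.1.1, x.1.2, congrArg Subtype.val x.2⟩
        invFun := fun x => ⟨⟨x.1, x.2.1⟩, Subtype.ext x.2.2⟩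
        left_inv := fun x => rfl
        right_inv := fun x => rfl }

variable {K : Type*} [Field K] [Fintype K] {q : ℕ}

theorem exists_trace_one (hK : Fintype.card K = q ^ 2) : ∃ c : K, c + c ^ q = 1 := by
  obtain ⟨θ, hθ⟩ := Cfsg.Agent.Lib.Helper5.Wall.exists_pow_ne hK
  have h1 : θ - θ ^ q ≠ 0 := sub_ne_zero.2 (Ne.symm hθ)
  refine ⟨θ / (θ - θ ^ q), ?_⟩
  have h2 : (θ - θ ^ q) ^ q = θ ^ q - θ := by
    have := map_sub (powQ hK) θ (θ ^ q)
    have h3 : (θ ^ q) ^ q = θ := pow_q_pow_q hK θ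
    rw [← h3]
    rw [h3]
    calc (θ - θ ^ q) ^ q = θ ^ q - (θ ^ q) ^ q := this
      _ = θ ^ q - θ := by rw [h3]
  have h4 : θ ^ q - θ ≠ 0 := sub_ne_zero.2 hθ
  rw [div_pow, h2]
  field_simp
  ring

/-- The data of Package A. -/
structure Datum (K : Type*) [Field K] (q : ℕ) (A S : Type*) [Ring A] [Algebra K A] [Ring S]
    [Algebra K S] where
  τ : A → A
  τS : S → S
  τ_add : ∀ x y, τ (x + y) = τ x + τ y
  τ_mul : ∀ x y, τ (x * y) = τ y * τ x
  τ_one : τ 1 = 1
  τ_inv : ∀ x, τ (τ x) = x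
  τ_smul : ∀ (c : K) x, τ (c • x) = (c ^ q) • τ x
  π : A →ₐ[K] S
  hπ : Function.Surjective π
  hcomp : ∀ x, π (τ x) = τS (π x)
  hnil : ∀ x, π x = 0 → IsNilpotent x

namespace Datum

variable {A S : Type*} [Ring A] [Algebra K A] [Ring S] [Algebra K S] (D : Datum K q A S)

theorem τ_zero : D.τ 0 = 0 := by
  have h := D.τ_add 0 0
  rw [add_zero] at h
  exact left_eq_add.1 h

theorem τ_neg (x : A) : D.τ (-x) = -D.τ x :=
  eq_neg_of_add_eq_zero_left (by rw [← D.τ_add, neg_add_cancel, D.τ_zero])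

theorem τ_sub (x y : A) : D.τ (x - y) = D.τ x - D.τ y := by
  rw [sub_eq_add_neg, D.τ_add, D.τ_neg, ← sub_eq_add_neg]

theorem τ_pow (x : A) (n : ℕ) : D.τ (x ^ n) = D.τ x ^ n := by
  induction n with
  | zero => rw [pow_zero, pow_zero, D.τ_one]
  | succ n ih => rw [pow_succ, D.τ_mul, ih, ← pow_succ']

theorem poly_identity (c c' : K) (hc : c + c' = 1) :
    (1 - Polynomial.C c' * Polynomial.X) * (1 + Polynomial.X) * (1 - Polynomial.C c * Polynomial.X) =
      1 + (Polynomial.C (c * c' - 1) * Polynomial.X ^ 2 +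
        Polynomial.C (c * c') * Polynomial.X ^ 3) := by
  have hC : (Polynomial.C c : Polynomial K) + Polynomial.C c' = 1 := by
    rw [← Polynomial.C_add, hc, Polynomial.C_1]
  simp only [Polynomial.C_sub, Polynomial.C_mul, Polynomial.C_1]
  linear_combination (-(Polynomial.X * (1 + Polynomial.X))) * hC

theorem alg_identity (c c' : K) (hc : c + c' = 1) (s : A) :
    (1 - c' • s) * (1 + s) * (1 - c • s) = 1 + ((c * c' - 1) • s ^ 2 + (c * c') • s ^ 3) := by
  have := congrArg (Polynomial.aeval s) (poly_identity c c' hc)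
  simp only [map_mul, map_sub, map_add, map_one, Polynomial.aeval_X, Polynomial.aeval_C,
    map_pow] at this
  simp only [Algebra.smul_def]
  simpa only [map_mul, map_sub, map_one] using this

include D in
theorem exists_normalize (hK : Fintype.card K = q ^ 2) : ∀ (k : ℕ) (s : A), D.τ s = s → D.π s = 0 →
    s ^ k = 0 → ∃ r : A, D.π r = 1 ∧ D.τ r * (1 + s) * r = 1 := by
  intro k
  induction k using Nat.strong_induction_on with
  | _ k ih =>
    intro s hτs hπs hsk
    by_cases hk : k ≤ 1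
    · have hs0 : s = 0 := by
        interval_cases k
        · rw [pow_zero] at hsk
          calc s = s * 1 := (mul_one s).symm
            _ = 0 := by rw [hsk, mul_zero]
        · rwa [pow_one] at hsk
      refine ⟨1, map_one _, ?_⟩
      rw [hs0, D.τ_one, add_zero, one_mul, one_mul]
    · push Not at hk
      obtain ⟨c, hc⟩ := exists_trace_one hK
      set N : K := c * c ^ q with hN
      have hNq : N ^ q = N := by
        rw [hN, mul_pow, pow_q_pow_q hK, mul_comm]
      have hN1q : (N - 1) ^ q = N - 1 := by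
        have := map_sub (powQ hK) N 1
        rw [map_one] at this
        calc (N - 1) ^ q = N ^ q - 1 := this
          _ = N - 1 := by rw [hNq]
      set r1 : A := 1 - c • s with hr1
      set s2 : A := (N - 1) • s ^ 2 + N • s ^ 3 with hs2
      have hτr1 : D.τ r1 = 1 - c ^ q • s := by
        rw [hr1, D.τ_sub, D.τ_one, D.τ_smul, hτs]
      have hid : D.τ r1 * (1 + s) * r1 = 1 + s2 := by
        rw [hτr1, hr1, hs2, hN]
        exact alg_identity c (c ^ q) hc s
      have hτs2 : D.τ s2 = s2 := by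
        rw [hs2, D.τ_add, D.τ_smul, D.τ_smul, D.τ_pow, D.τ_pow, hτs, hNq, hN1q]
      have hπs2 : D.π s2 = 0 := by
        rw [hs2, map_add, map_smul, map_smul, map_pow, map_pow, hπs, zero_pow (by norm_num),
          zero_pow (by norm_num), smul_zero, smul_zero, add_zero]
      set u : A := (N - 1) • (1 : A) + N • s with hu
      have hs2u : s2 = s ^ 2 * u := by
        rw [hs2, hu, mul_add, mul_smul_comm, mul_smul_comm, mul_one, ← pow_succ]
      have hcomm : Commute (s ^ 2) u := by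
        rw [hu]
        refine Commute.add_right ?_ ?_
        · exact Commute.smul_right (Commute.one_right _) _
        · exact Commute.smul_right (Commute.pow_left (Commute.refl s) 2) _
      have hk' : (k + 1) / 2 < k := by omega
      have hs2k : s2 ^ ((k + 1) / 2) = 0 := by
        rw [hs2u, hcomm.mul_pow, ← pow_mul]
        have : 2 * ((k + 1) / 2) = k + (2 * ((k + 1) / 2) - k) := by omega
        rw [this, pow_add, hsk, zero_mul, zero_mul]
      obtain ⟨r2, hπr2, hr2⟩ := ih ((k + 1) / 2) hk' s2 hτs2 hπs2 hs2k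
      refine ⟨r1 * r2, ?_, ?_⟩
      · rw [map_mul, hπr2, mul_one, hr1, map_sub, map_one, map_smul, hπs, smul_zero, sub_zero]
      · rw [D.τ_mul]
        calc D.τ r2 * D.τ r1 * (1 + s) * (r1 * r2) = D.τ r2 * (D.τ r1 * (1 + s) * r1) * r2 := by
              simp only [mul_assoc]
          _ = 1 := by rw [hid, hr2]

include D in
theorem exists_inverse_of_pi_one (x : A) (hx : D.π x = 1) :
    ∃ z : A, x * z = 1 ∧ z * x = 1 ∧ D.π z = 1 := by
  have h1 : D.π (x - 1) = 0 := by rw [map_sub, hx, map_one, sub_self]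
  have h2 : IsUnit (x - 1 + 1) := (D.hnil _ h1).isUnit_add_one
  rw [sub_add_cancel] at h2
  obtain ⟨u, rfl⟩ := h2
  refine ⟨((u⁻¹ : Aˣ) : A), u.mul_inv, u.inv_mul, ?_⟩
  have h3 : D.π (u : A) * D.π ((u⁻¹ : Aˣ) : A) = 1 := by rw [← map_mul, u.mul_inv, map_one]
  rwa [hx, one_mul] at h3

include D in
/-- Lemma T': every symmetric element congruent to `1` is of the form `τ x * x`. -/
theorem exists_sqrt (hK : Fintype.card K = q ^ 2) (h : A) (hτ : D.τ h = h) (hπ : D.π h = 1) :
    ∃ x : A, D.π x = 1 ∧ D.τ x * x = h := by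
  have hs1 : D.τ (h - 1) = h - 1 := by rw [D.τ_sub, hτ, D.τ_one]
  have hs2 : D.π (h - 1) = 0 := by rw [map_sub, hπ, map_one, sub_self]
  obtain ⟨k, hk⟩ := D.hnil _ hs2
  obtain ⟨r, hπr, hr⟩ := D.exists_normalize hK k (h - 1) hs1 hs2 hk
  rw [add_sub_cancel] at hr
  obtain ⟨z, hrz, hzr, hπz⟩ := D.exists_inverse_of_pi_one r hπr
  refine ⟨z, hπz, ?_⟩
  calc D.τ z * z = D.τ z * (D.τ r * h * r) * z := by rw [hr, mul_one]
    _ = (D.τ z * D.τ r) * h * (r * z) := by simp only [mul_assoc]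
    _ = h := by rw [← D.τ_mul, hrz, D.τ_one, one_mul, mul_one]

include D in
theorem exists_lift (hK : Fintype.card K = q ^ 2) (y : S) (hy : D.τS y * y = 1) :
    ∃ x : A, D.τ x * x = 1 ∧ D.π x = y := by
  obtain ⟨x0, hx0⟩ := D.hπ y
  have h1 : D.τ (D.τ x0 * x0) = D.τ x0 * x0 := by rw [D.τ_mul, D.τ_inv]
  have h2 : D.π (D.τ x0 * x0) = 1 := by rw [map_mul, D.hcomp, hx0, hy]
  have hs1 : D.τ (D.τ x0 * x0 - 1) = D.τ x0 * x0 - 1 := by rw [D.τ_sub, h1, D.τ_one]
  have hs2 : D.π (D.τ x0 * x0 - 1) = 0 := by rw [map_sub, h2, map_one, sub_self]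
  obtain ⟨k, hk⟩ := D.hnil _ hs2
  obtain ⟨r, hπr, hr⟩ := D.exists_normalize hK k _ hs1 hs2 hk
  rw [add_sub_cancel] at hr
  refine ⟨x0 * r, ?_, ?_⟩
  · rw [D.τ_mul]
    calc D.τ r * D.τ x0 * (x0 * r) = D.τ r * (D.τ x0 * x0) * r := by simp only [mul_assoc]
      _ = 1 := hr
  · rw [map_mul, hπr, mul_one, hx0]

/-- fibres of `π` on the unitary elements. -/
theorem card_fiber_pi [Finite A] (hK : Fintype.card K = q ^ 2) (y : S) (hy : D.τS y * y = 1) :
    Nat.card {x : A // D.τ x * x = 1 ∧ D.π x = y} =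
      Nat.card {x : A // D.τ x * x = 1 ∧ D.π x = 1} := by
  obtain ⟨x0, hx0, hπx0⟩ := D.exists_lift hK y hy
  have hx0' : x0 * D.τ x0 = 1 := mul_eq_one_comm.1 hx0
  refine (Nat.card_congr ?_).symm
  exact
    { toFun := fun u => ⟨x0 * u.1, by
        rw [D.τ_mul]
        calc D.τ u.1 * D.τ x0 * (x0 * u.1) = D.τ u.1 * (D.τ x0 * x0) * u.1 := by
              simp only [mul_assoc]
          _ = 1 := by rw [hx0, mul_one, u.2.1], by
        rw [map_mul, u.2.2, mul_one, hπx0]⟩
      invFun := fun x => ⟨D.τ x0 * x.1, by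
        rw [D.τ_mul, D.τ_inv]
        calc D.τ x.1 * x0 * (D.τ x0 * x.1) = D.τ x.1 * (x0 * D.τ x0) * x.1 := by
              simp only [mul_assoc]
          _ = 1 := by rw [hx0', mul_one, x.2.1], by
        rw [map_mul, D.hcomp, hπx0, x.2.2, hy]⟩
      left_inv := fun u => Subtype.ext (by
        show D.τ x0 * (x0 * u.1) = u.1
        rw [← mul_assoc, hx0, one_mul])
      right_inv := fun x => Subtype.ext (by
        show x0 * (D.τ x0 * x.1) = x.1
        rw [← mul_assoc, hx0', one_mul]) }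

/-- fibres of `x ↦ τ x * x` on `1 + J`. -/
theorem card_fiber_norm (h : A) (x0 : A) (hπx0 : D.π x0 = 1) (hx0 : D.τ x0 * x0 = h) :
    Nat.card {x : A // D.π x = 1 ∧ D.τ x * x = h} =
      Nat.card {x : A // D.τ x * x = 1 ∧ D.π x = 1} := by
  obtain ⟨z, hxz, hzx, hπz⟩ := D.exists_inverse_of_pi_one x0 hπx0
  refine (Nat.card_congr ?_).symm
  exact
    { toFun := fun u => ⟨u.1 * x0, by
        rw [map_mul, u.2.2, hπx0, mul_one], by
        rw [D.τ_mul]
        calc D.τ x0 * D.τ u.1 * (u.1 * x0) = D.τ x0 * (D.τ u.1 * u.1) * x0 := by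
              simp only [mul_assoc]
          _ = h := by rw [u.2.1, mul_one, hx0]⟩
      invFun := fun x => ⟨x.1 * z, by
        rw [D.τ_mul]
        calc D.τ z * D.τ x.1 * (x.1 * z) = D.τ z * (D.τ x.1 * x.1) * z := by
              simp only [mul_assoc]
          _ = (D.τ z * D.τ x0) * (x0 * z) := by rw [x.2.2, ← hx0]; simp only [mul_assoc]
          _ = 1 := by rw [← D.τ_mul, hxz, D.τ_one, one_mul], by
        rw [map_mul, x.2.1, hπz, mul_one]⟩
      left_inv := fun u => Subtype.ext (by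
        show u.1 * x0 * z = u.1
        rw [mul_assoc, hxz, mul_one])
      right_inv := fun x => Subtype.ext (by
        show x.1 * z * x0 = x.1
        rw [mul_assoc, hzx, mul_one]) }

theorem π_τ_of_one (x : A) (hx : D.π x = 1) : D.π (D.τ x) = 1 := by
  have h1 : D.π (D.τ 1) = 1 := by rw [D.τ_one, map_one]
  rw [D.hcomp, map_one] at h1
  rw [D.hcomp, hx, h1]

theorem π_τ_of_zero (x : A) (hx : D.π x = 0) : D.π (D.τ x) = 0 := by
  have h1 : D.π (D.τ 0) = 0 := by rw [D.τ_zero, map_zero]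
  rw [D.hcomp, map_zero] at h1
  rw [D.hcomp, hx, h1]

theorem card_one_add_ker :
    Nat.card {x : A // D.π x = 1} = Nat.card {x : A // D.π x = 0} := by
  refine Nat.card_congr ?_
  exact
    { toFun := fun x => ⟨x.1 - 1, by rw [map_sub, x.2, map_one, sub_self]⟩
      invFun := fun x => ⟨x.1 + 1, by rw [map_add, x.2, map_one, zero_add]⟩
      left_inv := fun x => Subtype.ext (sub_add_cancel _ _)
      right_inv := fun x => Subtype.ext (add_sub_cancel_right _ _) }

theorem card_sym_one_add_ker :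
    Nat.card {h : A // D.τ h = h ∧ D.π h = 1} = Nat.card {s : A // D.τ s = s ∧ D.π s = 0} := by
  refine Nat.card_congr ?_
  exact
    { toFun := fun x => ⟨x.1 - 1, by rw [D.τ_sub, x.2.1, D.τ_one], by
        rw [map_sub, x.2.2, map_one, sub_self]⟩
      invFun := fun x => ⟨x.1 + 1, by rw [D.τ_add, x.2.1, D.τ_one], by
        rw [map_add, x.2.2, map_one, zero_add]⟩
      left_inv := fun x => Subtype.ext (sub_add_cancel _ _)
      right_inv := fun x => Subtype.ext (add_sub_cancel_right _ _) }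

/-- Galois descent for the kernel: `|J| = |Sym J| ^ 2`. -/
theorem card_ker_eq_sq (hK : Fintype.card K = q ^ 2) :
    Nat.card {x : A // D.π x = 0} =
      Nat.card {s : A // D.τ s = s ∧ D.π s = 0} * Nat.card {s : A // D.τ s = s ∧ D.π s = 0} := by
  obtain ⟨θ, hθ⟩ := Cfsg.Agent.Lib.Helper5.Wall.exists_pow_ne hK
  have hδ : θ - θ ^ q ≠ 0 := sub_ne_zero.2 (Ne.symm hθ)
  have hδq : (θ - θ ^ q) ^ q = -(θ - θ ^ q) := by
    have := map_sub (powQ hK) θ (θ ^ q)
    have h3 : (θ ^ q) ^ q = θ := pow_q_pow_q hK θ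
    calc (θ - θ ^ q) ^ q = θ ^ q - (θ ^ q) ^ q := this
      _ = -(θ - θ ^ q) := by rw [h3]; ring
  have hδiq : ((θ - θ ^ q)⁻¹) ^ q = -(θ - θ ^ q)⁻¹ := by
    rw [inv_pow, hδq, inv_neg]
  rw [← Nat.card_prod]
  refine (Nat.card_eq_of_bijective
    (fun p : {s : A // D.τ s = s ∧ D.π s = 0} × {s : A // D.τ s = s ∧ D.π s = 0} =>
      (⟨p.1.1 + θ • p.2.1, by
        rw [map_add, map_smul, p.1.2.2, p.2.2.2, smul_zero, add_zero]⟩ : {x : A // D.π x = 0}))
    ⟨?_, ?_⟩).symm
  · rintro ⟨⟨a, ha1, ha2⟩, ⟨b, hb1, hb2⟩⟩ ⟨⟨a', ha1', ha2'⟩, ⟨b', hb1', hb2'⟩⟩ h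
    have h1 : a + θ • b = a' + θ • b' := congrArg Subtype.val h
    have h2 : a + θ ^ q • b = a' + θ ^ q • b' := by
      have := congrArg D.τ h1
      rwa [D.τ_add, D.τ_add, D.τ_smul, D.τ_smul, ha1, hb1, ha1', hb1'] at this
    have h3 : (θ - θ ^ q) • b = (θ - θ ^ q) • b' := by
      rw [sub_smul, sub_smul]
      have : a + θ • b - (a + θ ^ q • b) = a' + θ • b' - (a' + θ ^ q • b') := by rw [h1, h2]
      rwa [add_sub_add_left_eq_sub, add_sub_add_left_eq_sub] at this
    have h4 : b = b' := by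
      have := congrArg (fun x => (θ - θ ^ q)⁻¹ • x) h3
      simpa only [smul_smul, inv_mul_cancel₀ hδ, one_smul] using this
    subst h4
    have h5 : a = a' := add_right_cancel h1
    subst h5
    rfl
  · rintro ⟨j, hj⟩
    have hτj : D.π (D.τ j) = 0 := D.π_τ_of_zero j hj
    set b : A := (θ - θ ^ q)⁻¹ • (j - D.τ j) with hb
    have hb1 : D.τ b = b := by
      rw [hb, D.τ_smul, D.τ_sub, D.τ_inv, hδiq, neg_smul, ← smul_neg, neg_sub]
    have hb2 : D.π b = 0 := by
      rw [hb, map_smul, map_sub, hj, hτj, sub_zero, smul_zero]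
    have hδb : (θ - θ ^ q) • b = j - D.τ j := by
      rw [hb, smul_smul, mul_inv_cancel₀ hδ, one_smul]
    have ha1 : D.τ (j - θ • b) = j - θ • b := by
      rw [D.τ_sub, D.τ_smul, hb1]
      have : j - θ • b - (D.τ j - θ ^ q • b) = 0 := by
        have h := hδb
        rw [sub_smul] at h
        rw [sub_sub_sub_comm, h, sub_self]
      exact (sub_eq_zero.1 this).symm
    have ha2 : D.π (j - θ • b) = 0 := by
      rw [map_sub, map_smul, hj, hb2, smul_zero, sub_zero]
    refine ⟨(⟨j - θ • b, ha1, ha2⟩, ⟨b, hb1, hb2⟩), Subtype.ext ?_⟩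
    show j - θ • b + θ • b = j
    exact sub_add_cancel _ _

/-- the number of unitary elements congruent to `1`. -/
theorem card_unitary_ker [Finite A] (hK : Fintype.card K = q ^ 2) (m : ℕ)
    (hker : Nat.card {x : A // D.π x = 0} = q ^ (2 * m)) :
    Nat.card {x : A // D.τ x * x = 1 ∧ D.π x = 1} = q ^ m := by
  have hq := Cfsg.Agent.Lib.Helper1.HermCount.two_le_q hK
  have h1 : Nat.card {x : A // D.π x = 1} =
      Nat.card {h : A // D.τ h = h ∧ D.π h = 1} *
        Nat.card {x : A // D.τ x * x = 1 ∧ D.π x = 1} := by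
    refine card_subtype_eq_mul_of_fibers (fun x : A => D.π x = 1)
      (fun h : A => D.τ h = h ∧ D.π h = 1) (fun x => D.τ x * x) ?_ ?_ _ ?_
    · intro x hx
      exact ⟨by rw [D.τ_mul, D.τ_inv], by rw [map_mul, D.π_τ_of_one x hx, hx, mul_one]⟩
    · intro h hh
      obtain ⟨x, hx1, hx2⟩ := D.exists_sqrt hK h hh.1 hh.2
      exact ⟨x, hx1, hx2⟩
    · intro h hh
      obtain ⟨x, hx1, hx2⟩ := D.exists_sqrt hK h hh.1 hh.2
      exact D.card_fiber_norm h x hx1 hx2
  rw [D.card_one_add_ker, D.card_sym_one_add_ker, hker] at h1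
  have h2 := D.card_ker_eq_sq hK
  rw [hker] at h2
  set σ := Nat.card {s : A // D.τ s = s ∧ D.π s = 0} with hσ
  have h3 : σ = q ^ m := by
    have h4 : σ ^ 2 = (q ^ m) ^ 2 := by
      rw [sq, ← h2, ← pow_mul, mul_comm]
    exact Nat.pow_left_injective (by norm_num : 2 ≠ 0) h4
  rw [h3, two_mul, pow_add] at h1
  exact (Nat.eq_of_mul_eq_mul_left (pow_pos (by omega) m) h1).symm

end Datum

/-- PACKAGE A (abstract).  -/
theorem card_unitary_of_nilpotent_kernel (hK : Fintype.card K = q ^ 2)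
    {A S : Type*} [Ring A] [Algebra K A] [Finite A] [Ring S] [Algebra K S]
    (τ : A → A) (τS : S → S)
    (τ_add : ∀ x y, τ (x + y) = τ x + τ y) (τ_mul : ∀ x y, τ (x * y) = τ y * τ x)
    (τ_one : τ 1 = 1) (τ_inv : ∀ x, τ (τ x) = x) (τ_smul : ∀ (c : K) x, τ (c • x) = (c ^ q) • τ x)
    (π : A →ₐ[K] S) (hπ : Function.Surjective π) (hcomp : ∀ x, π (τ x) = τS (π x))
    (hnil : ∀ x, π x = 0 → IsNilpotent x) (m : ℕ)
    (hker : Nat.card {x : A // π x = 0} = q ^ (2 * m)) :
    Nat.card {x : A // τ x * x = 1} = Nat.card {y : S // τS y * y = 1} * q ^ m := by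
  let D : Datum K q A S :=
    { τ := τ, τS := τS, τ_add := τ_add, τ_mul := τ_mul, τ_one := τ_one, τ_inv := τ_inv,
      τ_smul := τ_smul, π := π, hπ := hπ, hcomp := hcomp, hnil := hnil }
  rw [← D.card_unitary_ker hK m hker]
  refine card_subtype_eq_mul_of_fibers (fun x : A => τ x * x = 1) (fun y : S => τS y * y = 1)
    (fun x => π x) ?_ ?_ _ ?_
  · intro x hx
    rw [← hcomp, ← map_mul, hx, map_one]
  · intro y hy
    exact D.exists_lift hK y hy
  · intro y hy
    exact D.card_fiber_pi hK y hy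

end Cfsg.Agent.Lib.Helper5.GUC
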