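import Mathlib
import Cfsg.Agent.Lib.Helper5.GUC0
import Cfsg.Agent.S2588

set_option autoImplicit false

/-!
Package D for S2646: the isometry group of an invertible (skew-)Hermitian matrix has the order
of the general unitary group.
-/

namespace Cfsg.Agent.Lib.Helper5.GUC

open Matrix Cfsg.Agent.S0278 Cfsg.Agent.Lib.Helper5.Wall

variable {K : Type*} [Field K] [Fintype K] {q n : ℕ}

/-- unitary matrices versus `GU`. -/
theorem card_unitary_matrices (hK : Fintype.card K = q ^ 2) :
    Nat.card {W : Matrix (Fin n) (Fin n) K // ct hK W * W = 1} = Nat.card (Cfsg.GU n K q) := by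
  refine Nat.card_congr ?_
  exact
    { toFun := fun W => ⟨⟨W.1, ct hK W.1, mul_eq_one_comm.1 W.2, W.2⟩, (mem_GU_iff hK _).2 W.2⟩
      invFun := fun g => ⟨((g.1 : GL (Fin n) K) : Matrix (Fin n) (Fin n) K),
        (mem_GU_iff hK g.1).1 g.2⟩
      left_inv := fun W => rfl
      right_inv := fun g => Subtype.ext (Units.ext rfl) }

theorem card_isometry_herm (hK : Fintype.card K = q ^ 2) (B : Matrix (Fin n) (Fin n) K)
    (hB : IsUnit B) (hH : ct hK B = B) :
    Nat.card {Z : Matrix (Fin n) (Fin n) K // ct hK Z * B * Z = B} =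
      Nat.card (Cfsg.GU n K q) := by
  obtain ⟨X, hXu, hXB⟩ := Cfsg.Agent.S2588.exists_ct_mul_self hK B hH hB
  obtain ⟨Xu, rfl⟩ := hXu
  set Xm : Matrix (Fin n) (Fin n) K := (Xu : Matrix (Fin n) (Fin n) K) with hXm
  set X' : Matrix (Fin n) (Fin n) K :=
    ((Xu⁻¹ : (Matrix (Fin n) (Fin n) K)ˣ) : Matrix (Fin n) (Fin n) K) with hX'
  have hXX' : Xm * X' = 1 := Units.mul_inv Xu
  have hX'X : X' * Xm = 1 := Units.inv_mul Xu
  have hcX : ct hK X' * ct hK Xm = 1 := by rw [← ct_mul, hXX', ct_one]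
  rw [← card_unitary_matrices hK]
  refine Nat.card_congr ?_
  exact
    { toFun := fun Z => ⟨Xm * Z.1 * X', by
        rw [ct_mul, ct_mul]
        calc ct hK X' * (ct hK Z.1 * ct hK Xm) * (Xm * Z.1 * X')
            = ct hK X' * (ct hK Z.1 * (ct hK Xm * Xm) * Z.1) * X' := by simp only [mul_assoc]
          _ = ct hK X' * (ct hK Xm * Xm) * X' := by rw [hXB, Z.2]
          _ = (ct hK X' * ct hK Xm) * (Xm * X') := by simp only [mul_assoc]
          _ = 1 := by rw [hcX, hXX', mul_one]⟩
      invFun := fun W => ⟨X' * W.1 * Xm, by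
        rw [ct_mul, ct_mul, ← hXB]
        calc ct hK Xm * (ct hK W.1 * ct hK X') * (ct hK Xm * Xm) * (X' * W.1 * Xm)
            = ct hK Xm * (ct hK W.1 * ((ct hK X' * ct hK Xm) * (Xm * X')) * W.1) * Xm := by
              simp only [mul_assoc]
          _ = ct hK Xm * Xm := by rw [hcX, hXX', mul_one, mul_one, W.2, mul_one]⟩
      left_inv := fun Z => Subtype.ext (by
        show X' * (Xm * Z.1 * X') * Xm = Z.1
        calc X' * (Xm * Z.1 * X') * Xm = (X' * Xm) * Z.1 * (X' * Xm) := by simp only [mul_assoc]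
          _ = Z.1 := by rw [hX'X, one_mul, mul_one])
      right_inv := fun W => Subtype.ext (by
        show Xm * (X' * W.1 * Xm) * X' = W.1
        calc Xm * (X' * W.1 * Xm) * X' = (Xm * X') * W.1 * (Xm * X') := by simp only [mul_assoc]
          _ = W.1 := by rw [hXX', one_mul, mul_one]) }

theorem card_isometry_fin (hK : Fintype.card K = q ^ 2) (B : Matrix (Fin n) (Fin n) K)
    (hB : IsUnit B) (hε : ct hK B = B ∨ ct hK B = -B) :
    Nat.card {Z : Matrix (Fin n) (Fin n) K // ct hK Z * B * Z = B} =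
      Nat.card (Cfsg.GU n K q) := by
  rcases hε with h | h
  · exact card_isometry_herm hK B hB h
  · obtain ⟨θ, hθ⟩ := exists_pow_ne hK
    have hδ : θ - θ ^ q ≠ 0 := sub_ne_zero.2 (Ne.symm hθ)
    have hδq : (θ - θ ^ q) ^ q = -(θ - θ ^ q) := by
      have := map_sub (powQ hK) θ (θ ^ q)
      have h3 : (θ ^ q) ^ q = θ := pow_q_pow_q hK θ
      calc (θ - θ ^ q) ^ q = θ ^ q - (θ ^ q) ^ q := this
        _ = -(θ - θ ^ q) := by rw [h3]; ring
    have hu : IsUnit ((θ - θ ^ q) • B) := by
      rw [Matrix.isUnit_iff_isUnit_det, Matrix.det_smul]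
      exact IsUnit.mul (IsUnit.pow _ hδ.isUnit) ((Matrix.isUnit_iff_isUnit_det _).1 hB)
    have hh : ct hK ((θ - θ ^ q) • B) = (θ - θ ^ q) • B := by
      rw [ct_smul, hδq, h, neg_smul_neg]
    rw [← card_isometry_herm hK _ hu hh]
    refine Nat.card_congr (Equiv.subtypeEquivRight fun Z => ?_)
    rw [Matrix.mul_smul, Matrix.smul_mul]
    constructor
    · intro h1
      rw [h1]
    · intro h1
      exact smul_right_injective _ hδ h1

/-- PACKAGE D. -/
theorem card_isometry (hK : Fintype.card K = q ^ 2) {ι : Type*} [Fintype ι] [DecidableEq ι]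
    (B : Matrix ι ι K) (hB : IsUnit B) (hε : cT hK B = B ∨ cT hK B = -B) :
    Nat.card {Z : Matrix ι ι K // cT hK Z * B * Z = B} =
      Nat.card (Cfsg.GU (Fintype.card ι) K q) := by
  set e := Fintype.equivFin ι with he
  have hBu : IsUnit (Matrix.reindex e e B) := by
    rw [Matrix.isUnit_iff_isUnit_det, Matrix.det_reindex_self]
    exact (Matrix.isUnit_iff_isUnit_det _).1 hB
  have hε' : ct hK (Matrix.reindex e e B) = Matrix.reindex e e B ∨
      ct hK (Matrix.reindex e e B) = -Matrix.reindex e e B := by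
    rw [← cT_eq_ct, cT_reindex]
    rcases hε with h | h
    · left
      rw [h]
    · right
      rw [h]
      rfl
  rw [← card_isometry_fin hK (Matrix.reindex e e B) hBu hε']
  refine Nat.card_congr ((Matrix.reindex e e).subtypeEquiv fun Z => ?_)
  rw [← cT_eq_ct, cT_reindex]
  simp only [Matrix.reindex_apply, Matrix.submatrix_mul_equiv]
  constructor
  · intro h1
    rw [h1]
  · intro h1
    have := congrArg (fun X => X.submatrix e e) h1
    simpa only [Matrix.submatrix_submatrix, Equiv.symm_comp_self, Matrix.submatrix_id_id] using this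

end Cfsg.Agent.Lib.Helper5.GUC
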