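import Mathlib
import Cfsg.Agent.Lib.Helper5.GUC2
import Cfsg.Agent.Lib.Helper5.GUC4
import Cfsg.Agent.Lib.Helper5.GUCA
import Cfsg.Agent.Lib.Helper5.GUCD

set_option autoImplicit false

/-!
The order of the unitary part of the centraliser algebra, in Jordan coordinates.
-/

namespace Cfsg.Agent.Lib.Helper5.GUC

open Matrix Cfsg.Agent.S0278 Cfsg.Agent.Lib.Helper5.UnipCent

variable {K : Type*} [Field K] [Fintype K] {q : ℕ} {t : ℕ} (d : Fin t → ℕ) (hd : ∀ k, 1 ≤ d k)

variable (hK : Fintype.card K = q ^ 2) (M M' : Matrix (Idx d) (Idx d) K)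

/-- the adjoint of a matrix commuting with `N` commutes with `N`. -/
theorem adjoint_comm (hMM' : M * M' = 1)
    (hinv : cT hK (1 + Nmat d) * M * (1 + Nmat d) = M) (X : Matrix (Idx d) (Idx d) K)
    (hX : X * Nmat d = Nmat d * X) :
    (M' * cT hK X * M) * Nmat d = Nmat d * (M' * cT hK X * M) := by
  have hM'M : M' * M = 1 := mul_eq_one_comm.1 hMM'
  set u : Matrix (Idx d) (Idx d) K := 1 + Nmat d with hu
  set V : Matrix (Idx d) (Idx d) K := M * u * M' with hV
  have h1 : cT hK u * V = 1 := by
    rw [hV]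
    calc cT hK u * (M * u * M') = (cT hK u * M * u) * M' := by simp only [mul_assoc]
      _ = 1 := by rw [hinv, hMM']
  have h2 : V * cT hK u = 1 := mul_eq_one_comm.1 h1
  have h3 : M * u = V * M := by
    rw [hV]
    calc M * u = M * u * (M' * M) := by rw [hM'M, mul_one]
      _ = M * u * M' * M := by simp only [mul_assoc]
  have h4 : u * M' = M' * V := by
    rw [hV]
    calc u * M' = (M' * M) * u * M' := by rw [hM'M, one_mul]
      _ = M' * (M * u * M') := by simp only [mul_assoc]
  have hXu : X * u = u * X := by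
    rw [hu, mul_add, add_mul, mul_one, one_mul, hX]
  have h5 : cT hK u * cT hK X = cT hK X * cT hK u := by
    rw [← cT_mul, ← cT_mul, hXu]
  have h6 : V * cT hK X = cT hK X * V := by
    calc V * cT hK X = V * cT hK X * (cT hK u * V) := by rw [h1, mul_one]
      _ = V * (cT hK X * cT hK u) * V := by simp only [mul_assoc]
      _ = V * (cT hK u * cT hK X) * V := by rw [h5]
      _ = (V * cT hK u) * cT hK X * V := by simp only [mul_assoc]
      _ = cT hK X * V := by rw [h2, one_mul]
  have h7 : (M' * cT hK X * M) * u = u * (M' * cT hK X * M) := by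
    calc (M' * cT hK X * M) * u = M' * cT hK X * (M * u) := by simp only [mul_assoc]
      _ = M' * (cT hK X * V) * M := by rw [h3]; simp only [mul_assoc]
      _ = M' * (V * cT hK X) * M := by rw [h6]
      _ = (M' * V) * cT hK X * M := by simp only [mul_assoc]
      _ = u * (M' * cT hK X * M) := by rw [← h4]; simp only [mul_assoc]
  rw [hu, mul_add, add_mul, mul_one, one_mul] at h7
  exact add_left_cancel h7

theorem cT_inverse (hMM' : M * M' = 1) (hM : cT hK M = M) : cT hK M' = M' := by
  have hM'M : M' * M = 1 := mul_eq_one_comm.1 hMM'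
  have h1 : cT hK M' * M = 1 := by
    have := congrArg (cT hK) hMM'
    rwa [cT_mul, cT_one, hM] at this
  calc cT hK M' = cT hK M' * (M * M') := by rw [hMM', mul_one]
    _ = (cT hK M' * M) * M' := by simp only [mul_assoc]
    _ = M' := by rw [h1, one_mul]

/-- the adjoint anti-involution on the centraliser algebra. -/
def tauCen (hMM' : M * M' = 1) (hinv : cT hK (1 + Nmat d) * M * (1 + Nmat d) = M)
    (X : CenAlg K d) : CenAlg K d :=
  ⟨M' * cT hK X.1 * M, (mem_CenAlg d).2
    (adjoint_comm d hK M M' hMM' hinv X.1 ((mem_CenAlg d).1 X.2))⟩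

/-- the induced anti-involution on the semisimple quotient. -/
noncomputable def tauSS (Y : SS K d) : SS K d :=
  fun i => (Bmat d hd M i.1)⁻¹ * cT hK (Y i) * Bmat d hd M i.1

include hd in
theorem card_unitary_cen (hMM' : M * M' = 1) (hM : cT hK M = M)
    (hinv : cT hK (1 + Nmat d) * M * (1 + Nmat d) = M) :
    Nat.card {X : Matrix (Idx d) (Idx d) K // X * Nmat d = Nmat d * X ∧ cT hK X * M * X = M} =
      (∏ i : Fin (Finset.univ.sup d + 1),
        Nat.card (Cfsg.GU (Fintype.card {k // d k = i.1}) K q)) * q ^ Nat.card (Lam d) := by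
  classical
  have hM'M : M' * M = 1 := mul_eq_one_comm.1 hMM'
  have hM' : cT hK M' = M' := cT_inverse d hK M M' hMM' hM
  have hkey := key_identity d hK M hinv
  have hMdet : M.det ≠ 0 := by
    intro h0
    have := congrArg Matrix.det hMM'
    rw [Matrix.det_mul, h0, zero_mul, Matrix.det_one] at this
    exact zero_ne_one this
  have hBdet : ∀ i : ℕ, IsUnit (Bmat d hd M i).det := fun i =>
    (det_Bmat_ne_zero d hd hK M hM hkey hMdet i).isUnit
  have hB1 : ∀ i : ℕ, Bmat d hd M i * (Bmat d hd M i)⁻¹ = 1 := fun i =>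
    Matrix.mul_nonsing_inv _ (hBdet i)
  have hB2 : ∀ i : ℕ, (Bmat d hd M i)⁻¹ * Bmat d hd M i = 1 := fun i =>
    Matrix.nonsing_inv_mul _ (hBdet i)
  -- Package A
  have hA := card_unitary_of_nilpotent_kernel hK (A := CenAlg K d) (S := SS K d)
    (tauCen d hK M M' hMM' hinv) (tauSS d hd hK M)
    (by
      intro X Y
      apply Subtype.ext
      show M' * cT hK (X.1 + Y.1) * M = M' * cT hK X.1 * M + M' * cT hK Y.1 * M
      rw [cT_add, mul_add, add_mul])
    (by
      intro X Y
      apply Subtype.ext
      show M' * cT hK (X.1 * Y.1) * M = (M' * cT hK Y.1 * M) * (M' * cT hK X.1 * M)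
      rw [cT_mul]
      calc M' * (cT hK Y.1 * cT hK X.1) * M = M' * cT hK Y.1 * 1 * cT hK X.1 * M := by
            simp only [mul_assoc, one_mul]
        _ = (M' * cT hK Y.1 * M) * (M' * cT hK X.1 * M) := by
            rw [← hMM']; simp only [mul_assoc])
    (by
      apply Subtype.ext
      show M' * cT hK (1 : Matrix (Idx d) (Idx d) K) * M = 1
      rw [cT_one, mul_one, hM'M])
    (by
      intro X
      apply Subtype.ext
      show M' * cT hK (M' * cT hK X.1 * M) * M = X.1
      rw [cT_mul, cT_mul, cT_cT, hM, hM']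
      calc M' * (M * (X.1 * M')) * M = (M' * M) * X.1 * (M' * M) := by simp only [mul_assoc]
        _ = X.1 := by rw [hM'M, one_mul, mul_one])
    (by
      intro c X
      apply Subtype.ext
      show M' * cT hK (c • X.1) * M = c ^ q • (M' * cT hK X.1 * M)
      rw [cT_smul, Matrix.mul_smul, Matrix.smul_mul])
    (piHom d hd) (piHom_surjective d hd)
    (by
      intro X
      funext i
      have h1 := Bmat_mul_piHom d hd hK M hM hkey X (tauCen d hK M M' hMM' hinv X) (by
        show M * (M' * cT hK X.1 * M) = cT hK X.1 * M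
        calc M * (M' * cT hK X.1 * M) = (M * M') * cT hK X.1 * M := by simp only [mul_assoc]
          _ = cT hK X.1 * M := by rw [hMM', one_mul]) i
      show piHom d hd (tauCen d hK M M' hMM' hinv X) i =
        (Bmat d hd M i.1)⁻¹ * cT hK (piHom d hd X i) * Bmat d hd M i.1
      calc piHom d hd (tauCen d hK M M' hMM' hinv X) i
          = ((Bmat d hd M i.1)⁻¹ * Bmat d hd M i.1) *
              piHom d hd (tauCen d hK M M' hMM' hinv X) i := by rw [hB2, one_mul]
        _ = (Bmat d hd M i.1)⁻¹ * (Bmat d hd M i.1 *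
              piHom d hd (tauCen d hK M M' hMM' hinv X) i) := by rw [mul_assoc]
        _ = (Bmat d hd M i.1)⁻¹ * cT hK (piHom d hd X i) * Bmat d hd M i.1 := by
            rw [h1, mul_assoc])
    (isNilpotent_of_piHom_eq_zero d hd) (Nat.card (Lam d))
    (by rw [card_ker, hK, ← pow_mul])
  -- left-hand side
  have hL : Nat.card {X : Matrix (Idx d) (Idx d) K //
      X * Nmat d = Nmat d * X ∧ cT hK X * M * X = M} =
      Nat.card {X : CenAlg K d // tauCen d hK M M' hMM' hinv X * X = 1} := by
    refine Nat.card_congr ?_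
    exact
      { toFun := fun X => ⟨⟨X.1, (mem_CenAlg d).2 X.2.1⟩, by
          apply Subtype.ext
          show M' * cT hK X.1 * M * X.1 = 1
          calc M' * cT hK X.1 * M * X.1 = M' * (cT hK X.1 * M * X.1) := by simp only [mul_assoc]
            _ = 1 := by rw [X.2.2, hM'M]⟩
        invFun := fun X => ⟨X.1.1, (mem_CenAlg d).1 X.1.2, by
          have h1 : M' * cT hK X.1.1 * M * X.1.1 = 1 := congrArg Subtype.val X.2
          calc cT hK X.1.1 * M * X.1.1 = (M * M') * (cT hK X.1.1 * M * X.1.1) := by
                rw [hMM', one_mul]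
            _ = M * (M' * cT hK X.1.1 * M * X.1.1) := by simp only [mul_assoc]
            _ = M := by rw [h1, mul_one]⟩
        left_inv := fun X => rfl
        right_inv := fun X => rfl }
  -- right-hand side
  have hR : Nat.card {Y : SS K d // tauSS d hd hK M Y * Y = 1} =
      ∏ i : Fin (Finset.univ.sup d + 1),
        Nat.card (Cfsg.GU (Fintype.card {k // d k = i.1}) K q) := by
    have h1 : {Y : SS K d // tauSS d hd hK M Y * Y = 1} ≃
        {Y : SS K d // ∀ i, cT hK (Y i) * Bmat d hd M i.1 * Y i = Bmat d hd M i.1} := by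
      refine Equiv.subtypeEquivRight fun Y => ?_
      rw [funext_iff]
      refine forall_congr' fun i => ?_
      show (Bmat d hd M i.1)⁻¹ * cT hK (Y i) * Bmat d hd M i.1 * Y i = 1 ↔ _
      constructor
      · intro h
        calc cT hK (Y i) * Bmat d hd M i.1 * Y i
            = (Bmat d hd M i.1 * (Bmat d hd M i.1)⁻¹) * (cT hK (Y i) * Bmat d hd M i.1 * Y i) := by
              rw [hB1, one_mul]
          _ = Bmat d hd M i.1 * ((Bmat d hd M i.1)⁻¹ * cT hK (Y i) * Bmat d hd M i.1 * Y i) := by
              simp only [mul_assoc]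
          _ = Bmat d hd M i.1 := by rw [h, mul_one]
      · intro h
        calc (Bmat d hd M i.1)⁻¹ * cT hK (Y i) * Bmat d hd M i.1 * Y i
            = (Bmat d hd M i.1)⁻¹ * (cT hK (Y i) * Bmat d hd M i.1 * Y i) := by
              simp only [mul_assoc]
          _ = 1 := by rw [h, hB2]
    rw [Nat.card_congr h1, Nat.card_congr (Equiv.subtypePiEquivPi
      (p := fun (i : Fin (Finset.univ.sup d + 1))
        (Z : Matrix {k // d k = i.1} {k // d k = i.1} K) =>
        cT hK Z * Bmat d hd M i.1 * Z = Bmat d hd M i.1)), Nat.card_pi]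
    refine Finset.prod_congr rfl fun i _ => ?_
    refine card_isometry hK (Bmat d hd M i.1) ?_ ?_
    · exact (Matrix.isUnit_iff_isUnit_det _).2 (hBdet i.1)
    · rw [cT_Bmat d hd hK M hkey i.1 hM]
      rcases neg_one_pow_eq_or K (i.1 - 1) with h | h
      · left
        rw [h, one_smul]
      · right
        rw [h, neg_smul, one_smul]
  rw [hL, hA, hR]

end Cfsg.Agent.Lib.Helper5.GUC
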