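import Mathlib
import Cfsg.Agent.Lib.Helper5.GUC5
import Cfsg.Agent.S0277

set_option autoImplicit false

/-!
Transport of the centraliser of a unipotent element of `GU` to Jordan coordinates, and the
numerical form of the order of `GU`.
-/

namespace Cfsg.Agent.Lib.Helper5.GUC

open Matrix Cfsg.Agent.S0278 Cfsg.Agent.Lib.Helper5.UnipCent Cfsg.Agent.Lib.Helper5.Wall

variable {K : Type*} [Field K] [Fintype K] {q n : ℕ}

/-- Stage 1: the centraliser in `GU` as a set of matrices. -/
theorem card_centralizer_GU (hK : Fintype.card K = q ^ 2) (u : ↥(Cfsg.GU n K q)) :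
    Nat.card ↥(Subgroup.centralizer ({u} : Set ↥(Cfsg.GU n K q))) =
      Nat.card {Z : Matrix (Fin n) (Fin n) K // ct hK Z * Z = 1 ∧
        Z * ((u : GL (Fin n) K) : Matrix (Fin n) (Fin n) K) =
          ((u : GL (Fin n) K) : Matrix (Fin n) (Fin n) K) * Z} := by
  refine Nat.card_congr ?_
  exact
    { toFun := fun g => ⟨((g.1 : GL (Fin n) K) : Matrix (Fin n) (Fin n) K),
        (mem_GU_iff hK _).1 g.1.2, by
          have h := Subgroup.mem_centralizer_iff.1 g.2 u rfl
          have h' := congrArg
            (fun x : ↥(Cfsg.GU n K q) => ((x : GL (Fin n) K) : Matrix (Fin n) (Fin n) K)) h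
          exact h'.symm⟩
      invFun := fun Z => ⟨⟨⟨Z.1, ct hK Z.1, mul_eq_one_comm.1 Z.2.1, Z.2.1⟩,
        (mem_GU_iff hK _).2 Z.2.1⟩, by
          rw [Subgroup.mem_centralizer_iff]
          intro h hh
          rw [Set.mem_singleton_iff] at hh
          subst hh
          apply Subtype.ext
          apply Units.ext
          exact Z.2.2.symm⟩
      left_inv := fun g => Subtype.ext (Subtype.ext (Units.ext rfl))
      right_inv := fun Z => rfl }

/-- Stage 2: conjugation. -/
theorem card_conj (hK : Fintype.card K = q ^ 2) (cm c' um J' : Matrix (Fin n) (Fin n) K)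
    (h1 : cm * c' = 1) (hc : cm * J' = um * cm) :
    Nat.card {Z : Matrix (Fin n) (Fin n) K // ct hK Z * Z = 1 ∧ Z * um = um * Z} =
      Nat.card {W : Matrix (Fin n) (Fin n) K // W * J' = J' * W ∧
        ct hK W * (ct hK cm * cm) * W = ct hK cm * cm} := by
  have h2 : c' * cm = 1 := mul_eq_one_comm.1 h1
  have hJ : J' * c' = c' * um := by
    calc J' * c' = (c' * cm) * J' * c' := by rw [h2, one_mul]
      _ = c' * (cm * J') * c' := by simp only [mul_assoc]
      _ = c' * um * (cm * c') := by rw [hc]; simp only [mul_assoc]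
      _ = c' * um := by rw [h1, mul_one]
  have hcc : ct hK c' * ct hK cm = 1 := by rw [← ct_mul, h1, ct_one]
  refine Nat.card_congr ?_
  exact
    { toFun := fun Z => ⟨c' * Z.1 * cm, by
          calc c' * Z.1 * cm * J' = c' * Z.1 * (cm * J') := by simp only [mul_assoc]
            _ = c' * (Z.1 * um) * cm := by rw [hc]; simp only [mul_assoc]
            _ = (c' * um) * Z.1 * cm := by rw [Z.2.2]; simp only [mul_assoc]
            _ = J' * (c' * Z.1 * cm) := by rw [← hJ]; simp only [mul_assoc], by
          rw [ct_mul, ct_mul]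
          calc ct hK cm * (ct hK Z.1 * ct hK c') * (ct hK cm * cm) * (c' * Z.1 * cm)
              = ct hK cm * (ct hK Z.1 * ((ct hK c' * ct hK cm) * (cm * c')) * Z.1) * cm := by
                simp only [mul_assoc]
            _ = ct hK cm * cm := by rw [hcc, h1, mul_one, mul_one, Z.2.1, mul_one]⟩
      invFun := fun W => ⟨cm * W.1 * c', by
          rw [ct_mul, ct_mul]
          calc ct hK c' * (ct hK W.1 * ct hK cm) * (cm * W.1 * c')
              = ct hK c' * (ct hK W.1 * (ct hK cm * cm) * W.1) * c' := by simp only [mul_assoc]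
            _ = (ct hK c' * ct hK cm) * (cm * c') := by rw [W.2.2]; simp only [mul_assoc]
            _ = 1 := by rw [hcc, h1, mul_one], by
          calc cm * W.1 * c' * um = cm * W.1 * (c' * um) := by simp only [mul_assoc]
            _ = cm * (W.1 * J') * c' := by rw [← hJ]; simp only [mul_assoc]
            _ = (cm * J') * W.1 * c' := by rw [W.2.1]; simp only [mul_assoc]
            _ = um * (cm * W.1 * c') := by rw [hc]; simp only [mul_assoc]⟩
      left_inv := fun Z => Subtype.ext (by
        show cm * (c' * Z.1 * cm) * c' = Z.1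
        calc cm * (c' * Z.1 * cm) * c' = (cm * c') * Z.1 * (cm * c') := by simp only [mul_assoc]
          _ = Z.1 := by rw [h1, one_mul, mul_one])
      right_inv := fun W => Subtype.ext (by
        show c' * (cm * W.1 * c') * cm = W.1
        calc c' * (cm * W.1 * c') * cm = (c' * cm) * W.1 * (c' * cm) := by simp only [mul_assoc]
          _ = W.1 := by rw [h2, one_mul, mul_one]) }

/-- Stage 3: reindexing. -/
theorem card_reindex (hK : Fintype.card K = q ^ 2) {ι : Type*} [Fintype ι] [DecidableEq ι]
    (e : ι ≃ Fin n) (J M : Matrix ι ι K) :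
    Nat.card {W : Matrix (Fin n) (Fin n) K //
        W * Matrix.reindex e e J = Matrix.reindex e e J * W ∧
        ct hK W * Matrix.reindex e e M * W = Matrix.reindex e e M} =
      Nat.card {X : Matrix ι ι K // X * J = J * X ∧ cT hK X * M * X = M} := by
  refine (Nat.card_congr ((Matrix.reindex e e).subtypeEquiv fun X => ?_)).symm
  rw [← cT_eq_ct, cT_reindex]
  simp only [Matrix.reindex_apply, Matrix.submatrix_mul_equiv]
  have key : ∀ P Q : Matrix ι ι K, P.submatrix e.symm e.symm = Q.submatrix e.symm e.symm ↔ P = Q := by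
    intro P Q
    constructor
    · intro h1
      have := congrArg (fun X => X.submatrix e e) h1
      simpa only [Matrix.submatrix_submatrix, Equiv.symm_comp_self, Matrix.submatrix_id_id] using this
    · intro h1
      rw [h1]
  rw [key, key]

theorem card_GU_int (hK : Fintype.card K = q ^ 2) (a : ℕ) :
    (Nat.card (Cfsg.GU a K q) : ℤ) = (q : ℤ) ^ (a * (a - 1) / 2) *
      ∏ j : Fin a, ((q : ℤ) ^ ((j : ℕ) + 1) - (-1) ^ ((j : ℕ) + 1)) := by
  have hq := Cfsg.Agent.Lib.Helper1.HermCount.two_le_q hK
  rw [Cfsg.Agent.S0277.result hK a, Nat.cast_mul, Nat.cast_pow, Nat.cast_prod,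
    Fin.prod_univ_eq_prod_range (fun j => (q : ℤ) ^ (j + 1) - (-1) ^ (j + 1)) a]
  congr 1
  refine Finset.prod_congr rfl fun j _ => ?_
  by_cases hj : Even j
  · rw [if_pos hj, (hj.add_one).neg_one_pow]
    push_cast
    ring
  · rw [if_neg hj]
    have h1 : Even (j + 1) := by
      rw [Nat.even_add_one]
      exact hj
    have h2 : 1 ≤ q ^ (j + 1) := Nat.one_le_pow _ _ (by omega)
    rw [h1.neg_one_pow, Nat.cast_sub h2]
    push_cast
    ring

/-- the order of the centraliser of a unipotent element of `GU`, first form. -/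
theorem card_centralizer_unipotent (hK : Fintype.card K = q ^ 2) {t : ℕ} (d : Fin t → ℕ)
    (hd : ∀ k, 1 ≤ d k) (e : Idx d ≃ Fin n) (u : ↥(Cfsg.GU n K q))
    (hu : IsConj (Matrix.reindex e e (Cfsg.jordanTypeMatrix d K))
      ((u : GL (Fin n) K) : Matrix (Fin n) (Fin n) K)) :
    Nat.card ↥(Subgroup.centralizer ({u} : Set ↥(Cfsg.GU n K q))) =
      (∏ i : Fin (Finset.univ.sup d + 1),
        Nat.card (Cfsg.GU (Fintype.card {k // d k = i.1}) K q)) * q ^ Nat.card (Lam d) := by
  classical
  obtain ⟨c, hc⟩ := hu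
  set cm : Matrix (Fin n) (Fin n) K := (c : Matrix (Fin n) (Fin n) K) with hcm
  set c' : Matrix (Fin n) (Fin n) K :=
    ((c⁻¹ : (Matrix (Fin n) (Fin n) K)ˣ) : Matrix (Fin n) (Fin n) K) with hc'
  set um : Matrix (Fin n) (Fin n) K := ((u : GL (Fin n) K) : Matrix (Fin n) (Fin n) K) with hum
  set J : Matrix (Idx d) (Idx d) K := Cfsg.jordanTypeMatrix d K with hJ
  have h1 : cm * c' = 1 := Units.mul_inv c
  have h2 : c' * cm = 1 := Units.inv_mul c
  have hc2 : cm * Matrix.reindex e e J = um * cm := hc
  have huu : ct hK um * um = 1 := (mem_GU_iff hK _).1 u.2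
  have hcc : ct hK c' * ct hK cm = 1 := by rw [← ct_mul, h1, ct_one]
  set M₀ : Matrix (Fin n) (Fin n) K := ct hK cm * cm with hM₀
  set M : Matrix (Idx d) (Idx d) K := (Matrix.reindex e e).symm M₀ with hM
  have hMre : Matrix.reindex e e M = M₀ := Equiv.apply_symm_apply _ _
  have hJ' : Matrix.reindex e e J = c' * um * cm := by
    calc Matrix.reindex e e J = (c' * cm) * Matrix.reindex e e J := by rw [h2, one_mul]
      _ = c' * (cm * Matrix.reindex e e J) := by rw [mul_assoc]
      _ = c' * um * cm := by rw [hc2, mul_assoc]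
  have hinv₀ : ct hK (Matrix.reindex e e J) * M₀ * Matrix.reindex e e J = M₀ := by
    rw [hJ', ct_mul, ct_mul, hM₀]
    calc ct hK cm * (ct hK um * ct hK c') * (ct hK cm * cm) * (c' * um * cm)
        = ct hK cm * (ct hK um * ((ct hK c' * ct hK cm) * (cm * c')) * um) * cm := by
          simp only [mul_assoc]
      _ = ct hK cm * cm := by rw [hcc, h1, mul_one, mul_one, huu, mul_one]
  have hsymm : ∀ P : Matrix (Fin n) (Fin n) K,
      (Matrix.reindex e e).symm P = Matrix.reindex e.symm e.symm P := fun P => rfl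
  have hMherm : cT hK M = M := by
    rw [hM, hsymm, cT_reindex, cT_eq_ct, hM₀, ct_mul, ct_ct]
  have hMinv : cT hK (1 + Nmat d) * M * (1 + Nmat d) = M := by
    rw [← jordanTypeMatrix_eq]
    have h3 : (Matrix.reindex e e).symm (ct hK (Matrix.reindex e e J) * M₀ * Matrix.reindex e e J) =
        cT hK J * M * J := by
      rw [← cT_eq_ct, cT_reindex, hM, hsymm, hsymm]
      simp only [Matrix.reindex_apply, Equiv.symm_symm]
      rw [Matrix.submatrix_mul _ _ e e e e.bijective, Matrix.submatrix_mul _ _ e e e e.bijective]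
      simp only [Matrix.submatrix_submatrix, Equiv.symm_comp_self, Matrix.submatrix_id_id]
    rw [← h3, hinv₀]
  have hMdet : IsUnit M.det := by
    have h4 : M.det = M₀.det := by
      rw [hM, hsymm]
      exact Matrix.det_reindex_self e.symm M₀
    rw [h4, hM₀, Matrix.det_mul]
    have h5 : IsUnit cm.det := (Matrix.isUnit_iff_isUnit_det _).1 ⟨c, rfl⟩
    have h6 : IsUnit (ct hK cm).det := by
      have : ct hK c' * ct hK cm = 1 := hcc
      exact (Matrix.isUnit_iff_isUnit_det _).1
        ⟨⟨ct hK cm, ct hK c', mul_eq_one_comm.1 this, this⟩, rfl⟩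
    exact h6.mul h5
  have hMM' : M * M⁻¹ = 1 := Matrix.mul_nonsing_inv _ hMdet
  have e1 := card_centralizer_GU hK u
  have e2 := card_conj hK cm c' um (Matrix.reindex e e J) h1 hc2
  have e3 := card_reindex hK e J M
  rw [hMre] at e3
  have e4 := card_unitary_cen d hd hK M M⁻¹ hMM' hMherm hMinv
  refine e1.trans (e2.trans (e3.trans (Eq.trans ?_ e4)))
  refine Nat.card_congr (Equiv.subtypeEquivRight fun X => ?_)
  rw [hJ, commute_iff]

end Cfsg.Agent.Lib.Helper5.GUC
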