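import Mathlib
import Cfsg.Agent.Lib.Helper5.GlAut3
import Cfsg.Agent.Lib.Helper8.GlAutZ

/-!
# Theorem G (Glauberman 1966), package P3: `step3` (exact stub signature) from `step3_of_step5` and `step5`
-/

set_option autoImplicit false
open scoped commutatorElement

namespace Cfsg.Agent.Lib.Helper8.GlAut

universe u

variable {Γ : Type u} [Group Γ]

theorem step3 {n : ℕ} (ih : IH.{u} n) [Finite Γ] {K : Subgroup Γ} [K.Normal] {S Q : Subgroup Γ} {x : Γ}
    (hn : Nat.card ↥K = n) (hyp : Hyp K S Q x) (h1 : oc K = ⊥)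
    (hs : ∀ E : Subgroup Γ, E ≤ K → K ≤ Subgroup.normalizer (E : Set Γ) → E = ⊥ ∨ E = K) :
    Concl K Q x :=
  step3_of_step5 (fun _ _ _ _ _ _ _ _ hn' hyp' h1' hs' hC' => step5 ih hn' hyp' h1' hs' hC') hn hyp h1 hs

end Cfsg.Agent.Lib.Helper8.GlAut
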