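import Mathlib

set_option autoImplicit false

/-! Subgroups of a product whose projections are injective, and Sylow subgroups from the order. -/

namespace Cfsg.Agent.Lib.Helper5.GraphIso

section graph

variable {X Y : Type*} [Group X] [Group Y]

/-- a subgroup is isomorphic to its image under a homomorphism that is injective on it -/
noncomputable def equivMap {G H : Type*} [Group G] [Group H] (f : G →* H) (Γ : Subgroup G)
    (h : ∀ w ∈ Γ, f w = 1 → w = 1) : ↥Γ ≃* ↥(Γ.map f) :=
  have hinj : Function.Injective (f.comp Γ.subtype) := by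
    rw [injective_iff_map_eq_one]
    intro w hw
    exact Subtype.ext (h w.1 w.2 hw)
  (MonoidHom.ofInjective hinj).trans (MulEquiv.subgroupCongr (by
    rw [MonoidHom.range_comp, Subgroup.range_subtype]))

theorem card_map {G H : Type*} [Group G] [Group H] (f : G →* H) (Γ : Subgroup G)
    (h : ∀ w ∈ Γ, f w = 1 → w = 1) : Nat.card ↥(Γ.map f) = Nat.card ↥Γ :=
  (Nat.card_congr (equivMap f Γ h).toEquiv).symm

/-- the two projections of a graph are isomorphic -/
noncomputable def fstEquivSnd (Γ : Subgroup (X × Y)) (h1 : ∀ w ∈ Γ, w.1 = 1 → w = 1)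
    (h2 : ∀ w ∈ Γ, w.2 = 1 → w = 1) :
    ↥(Γ.map (MonoidHom.fst X Y)) ≃* ↥(Γ.map (MonoidHom.snd X Y)) :=
  (equivMap (MonoidHom.fst X Y) Γ h1).symm.trans (equivMap (MonoidHom.snd X Y) Γ h2)

end graph

section sylow

variable {G : Type*} [Group G] [Finite G]

/-- a subgroup whose order is the full power of `p` is isomorphic to every Sylow `p`-subgroup -/
theorem sylow_equiv_of_card {p : ℕ} [hp : Fact p.Prime] (H : Subgroup G) (k m : ℕ)
    (hH : Nat.card H = p ^ k) (hG : Nat.card G = p ^ k * m) (hm : ¬ p ∣ m) (P : Sylow p G) :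
    Nonempty (↥(P : Subgroup G) ≃* ↥H) := by
  have hHp : IsPGroup p H := IsPGroup.of_card hH
  obtain ⟨Q, hQ⟩ := hHp.exists_le_sylow
  have hm0 : m ≠ 0 := by
    rintro rfl
    exact hm (dvd_zero p)
  have hcQ : Nat.card Q = p ^ k := by
    rw [Sylow.card_eq_multiplicity, hG, Nat.factorization_mul (pow_ne_zero _ hp.out.ne_zero) hm0,
      Nat.factorization_pow]
    simp [hp.out.factorization_self, Nat.factorization_eq_zero_of_not_dvd hm]
  have hHQ : H = (Q : Subgroup G) := by
    apply Subgroup.eq_of_le_of_card_ge hQ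
    rw [hcQ, hH]
  exact ⟨(P.equiv Q).trans (MulEquiv.subgroupCongr hHQ.symm)⟩

end sylow

end Cfsg.Agent.Lib.Helper5.GraphIso
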