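import Mathlib
import Cfsg.Agent.S2700
import Cfsg.Agent.S2618
import Cfsg.Agent.Lib.Helper5.QuadOdd

set_option autoImplicit false

/-!
Involutory graph automorphisms of `PSL_n`, `n` odd: odd characteristic.
-/

namespace Cfsg.Agent.Lib.Helper5.GraphOdd

open Matrix Module Matrix.SpecialLinearGroup Cfsg.Agent.Lib.Helper5.SLnAut Cfsg.Agent.Lib.Helper5.SLnBN
  Cfsg.Agent.Lib.Helper5.PSLCoset Cfsg.Agent.Lib.Helper5.QuadGlue Cfsg.Agent.Lib.Helper5.QuadEmbed
  Cfsg.Agent.Lib.Helper5.GraphInv Cfsg.Agent.S2703 Cfsg.Agent.S2700 Cfsg.Agent.Lib.Helper5.QuadOdd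
  QuadraticMap

section glue
variable {F : Type*} [Field F] {V : Type*} [AddCommGroup V] [Module F V]

theorem odd_glue {m : ℕ} (Q : QuadraticForm F V) (b : Basis (Unit ⊕ (Fin m ⊕ Fin m)) F V) (ν : F)
    (hν : Q (b (Sum.inl ())) = ν)
    (h1 : ∀ i, polar Q (b (Sum.inl ())) (b (Sum.inr (Sum.inl i))) = 0 ∧
      polar Q (b (Sum.inl ())) (b (Sum.inr (Sum.inr i))) = 0)
    (h2 : ∀ i, Q (b (Sum.inr (Sum.inl i))) = 0 ∧ Q (b (Sum.inr (Sum.inr i))) = 0)
    (h3 : ∀ i j, polar Q (b (Sum.inr (Sum.inl i))) (b (Sum.inr (Sum.inr j))) =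
      if i = j then ν else 0)
    (h4 : ∀ i j, polar Q (b (Sum.inr (Sum.inl i))) (b (Sum.inr (Sum.inl j))) = 0 ∧
      polar Q (b (Sum.inr (Sum.inr i))) (b (Sum.inr (Sum.inr j))) = 0)
    (v : V) : Q v = ν * Cfsg.quadFormOdd m F (b.equivFun v) := by
  classical
  rw [← QO_apply]
  have hs : ∀ i : Unit ⊕ (Fin m ⊕ Fin m), QO m F (Pi.single i 1) =
      if i = Sum.inl () then 1 else 0 := by
    intro i
    rw [QO_apply]
    rcases i with ⟨⟩ | a | a <;> simp [Cfsg.quadFormOdd]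
  have hp : ∀ i j : Unit ⊕ (Fin m ⊕ Fin m), i ≠ j →
      polar (⇑(QO m F)) (Pi.single i 1) (Pi.single j 1) =
        match i, j with
        | Sum.inr (Sum.inl a), Sum.inr (Sum.inr c) => if a = c then 1 else 0
        | Sum.inr (Sum.inr a), Sum.inr (Sum.inl c) => if a = c then 1 else 0
        | _, _ => 0 := by
    intro i j hij
    rw [polar_odd]
    rcases i with ⟨⟩ | a | a <;> rcases j with ⟨⟩ | c | c
    · exact absurd rfl hij
    · simp
    · simp
    · simp
    · simp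
    · simp [Pi.single_apply, Finset.sum_ite_eq, eq_comm]
    · simp
    · simp [Pi.single_apply, Finset.sum_ite_eq, eq_comm]
    · simp
  have key : ∀ v, Q v = (ν • (QO m F).comp b.equivFun.toLinearMap) v := by
    refine ext_basis' Q (ν • (QO m F).comp b.equivFun.toLinearMap) b ?_ ?_
    · intro i
      rw [QuadraticMap.smul_apply, QuadraticMap.comp_apply, LinearEquiv.coe_coe, equivFun_basis,
        hs, smul_eq_mul]
      rcases i with ⟨⟩ | a | a
      · rw [if_pos rfl, mul_one]; exact hν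
      · rw [if_neg (by simp), mul_zero]; exact (h2 a).1
      · rw [if_neg (by simp), mul_zero]; exact (h2 a).2
    · intro i j hij
      have e : polar (⇑(ν • (QO m F).comp b.equivFun.toLinearMap)) (b i) (b j) =
          ν * polar (⇑(QO m F)) (Pi.single i 1) (Pi.single j 1) := by
        unfold polar
        simp only [QuadraticMap.smul_apply, QuadraticMap.comp_apply, LinearEquiv.coe_coe, map_add,
          equivFun_basis, smul_eq_mul]
        ring
      rw [e, hp i j hij]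
      rcases i with ⟨⟩ | a | a <;> rcases j with ⟨⟩ | c | c
      · exact absurd rfl hij
      · rw [(h1 c).1]; simp
      · rw [(h1 c).2]; simp
      · rw [polar_comm, (h1 a).1]; simp
      · rw [(h4 a c).1]; simp
      · rw [h3]; simp
      · rw [polar_comm, (h1 a).2]; simp
      · rw [polar_comm, h3]; simp [eq_comm]
      · rw [(h4 a c).2]; simp
  rw [key, QuadraticMap.smul_apply, QuadraticMap.comp_apply, LinearEquiv.coe_coe, smul_eq_mul]

end glue

section classify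
variable {F : Type*} [Field F] [Fintype F]

/-- Symmetric invertible matrices of odd size over a finite field of odd order. -/
theorem odd_classify (hodd : Odd (Fintype.card F)) {n m : ℕ} (hnm : n = 2 * m + 1)
    (c : Matrix (Fin n) (Fin n) F) (hc : cᵀ = c) (hdet : c.det ≠ 0) :
    ∃ (ν : F) (E : (Fin n → F) ≃ₗ[F] (Unit ⊕ (Fin m ⊕ Fin m) → F)), ν ≠ 0 ∧
      ∀ v, ν * Cfsg.quadFormOdd m F (E v) = matQ c v := by
  classical
  have h2 : (2 : F) ≠ 0 := two_ne_zero_of_odd hodd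
  have hV : Module.finrank F (Fin n → F) = 2 * m + 1 := by
    rw [Module.finrank_fin_fun, hnm]
  have hcoe : ∀ v, c.toQuadraticForm' v = matQ c v := dot_toQuadraticMap' c
  obtain ⟨b, hν, h1, h2', h3, h4⟩ :=
    Cfsg.Agent.S2618.result hV c.toQuadraticForm' (matQ_nondegenerate h2 c hc hdet)
  set ν := c.toQuadraticForm' (b (Sum.inl ())) with hνdef
  let w : Unit ⊕ (Fin m ⊕ Fin m) → Fˣ := fun k =>
    match k with
    | Sum.inr (Sum.inr _) => Units.mk0 ν hν
    | _ => 1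
  let b' := b.unitsSMul w
  have hb0 : b' (Sum.inl ()) = b (Sum.inl ()) := by
    rw [Basis.unitsSMul_apply]; exact one_smul _ _
  have hbl : ∀ i, b' (Sum.inr (Sum.inl i)) = b (Sum.inr (Sum.inl i)) := by
    intro i
    rw [Basis.unitsSMul_apply]; exact one_smul _ _
  have hbr : ∀ i, b' (Sum.inr (Sum.inr i)) = ν • b (Sum.inr (Sum.inr i)) := by
    intro i
    rw [Basis.unitsSMul_apply]; rfl
  refine ⟨ν, b'.equivFun, hν, fun v => ?_⟩
  rw [← hcoe]
  symm
  apply odd_glue c.toQuadraticForm' b' ν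
  · rw [hb0]
  · intro i
    rw [hb0, hbl, hbr, QuadraticMap.polar_smul_right, (h1 i).1, (h1 i).2, smul_zero]
    exact ⟨rfl, rfl⟩
  · intro i
    rw [hbl, hbr, QuadraticMap.map_smul, (h2' i).1, (h2' i).2, smul_zero]
    exact ⟨rfl, rfl⟩
  · intro i j
    rw [hbl, hbr, QuadraticMap.polar_smul_right, h3, smul_eq_mul, mul_ite, mul_one, mul_zero]
  · intro i j
    rw [hbl, hbl, hbr, hbr, QuadraticMap.polar_smul_right, QuadraticMap.polar_smul_left, (h4 i j).1,
      (h4 i j).2, smul_zero, smul_zero]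
    exact ⟨rfl, rfl⟩

end classify

section pgo
variable {ι : Type} [Fintype ι] [DecidableEq ι] {F : Type*} [Field F]

theorem quadSim_smul (Q : (ι → F) → F) (ν : F) (hν : ν ≠ 0) :
    Cfsg.Geo.quadSimilarityGroup (fun v => ν * Q v) = Cfsg.Geo.quadSimilarityGroup Q := by
  ext g
  constructor
  · rintro ⟨c, hc⟩
    refine ⟨c, fun v => ?_⟩
    have := hc v
    beta_reduce at this
    apply mul_left_cancel₀ hν
    rw [this]; ring
  · rintro ⟨c, hc⟩
    refine ⟨c, fun v => ?_⟩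
    show ν * Q _ = c * (ν * Q v)
    rw [hc v]; ring

theorem pgo_smul (Q : (ι → F) → F) (ν : F) (hν : ν ≠ 0) :
    Nonempty (Cfsg.PGO F (fun v => ν * Q v) ≃* Cfsg.PGO F Q) := by
  unfold Cfsg.PGO
  rw [quadSim_smul Q ν hν]
  exact ⟨MulEquiv.refl _⟩

end pgo

section conj
variable {F : Type*} [Field F] {n : ℕ}

theorem matQ_smul (z : F) (c : Matrix (Fin n) (Fin n) F) (v : Fin n → F) :
    matQ (z • c) v = z * matQ c v := by
  unfold matQ
  rw [Matrix.smul_mulVec, dotProduct_smul, smul_eq_mul]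

theorem isConj_of_congr_smul [Finite F] [Nontrivial (Fin n)] (c c' P : GL (Fin n) F) (z : F)
    (hz : z ≠ 0)
    (h : (P : Matrix (Fin n) (Fin n) F)ᵀ * (c' : Matrix (Fin n) (Fin n) F)
      * (P : Matrix (Fin n) (Fin n) F) = z • (c : Matrix (Fin n) (Fin n) F)) :
    Cfsg.IsConjUnder (Cfsg.inndiagPSL n F) (gam c) (gam c') := by
  rw [isConjUnder_gam_iff]
  refine ⟨tauGL P, z, hz, ?_⟩
  have e1 : ((P⁻¹ : GL (Fin n) F) : Matrix (Fin n) (Fin n) F)ᵀ * (P : Matrix (Fin n) (Fin n) F)ᵀ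
      = 1 := by
    rw [← Matrix.transpose_mul, ← Units.val_mul, mul_inv_cancel, Units.val_one,
      Matrix.transpose_one]
  have e2 : (P : Matrix (Fin n) (Fin n) F) * ((P⁻¹ : GL (Fin n) F) : Matrix (Fin n) (Fin n) F)
      = 1 := by
    rw [← Units.val_mul, mul_inv_cancel, Units.val_one]
  rw [tauGL_coe, Matrix.transpose_transpose]
  have e3 : z • (((P⁻¹ : GL (Fin n) F) : Matrix (Fin n) (Fin n) F)ᵀ *
      (c : Matrix (Fin n) (Fin n) F) * ((P⁻¹ : GL (Fin n) F) : Matrix (Fin n) (Fin n) F)) =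
      ((P⁻¹ : GL (Fin n) F) : Matrix (Fin n) (Fin n) F)ᵀ *
      (z • (c : Matrix (Fin n) (Fin n) F)) * ((P⁻¹ : GL (Fin n) F) : Matrix (Fin n) (Fin n) F) := by
    rw [Matrix.mul_smul, Matrix.smul_mul]
  rw [e3, ← h]
  calc (c' : Matrix (Fin n) (Fin n) F)
      = (((P⁻¹ : GL (Fin n) F) : Matrix (Fin n) (Fin n) F)ᵀ * (P : Matrix (Fin n) (Fin n) F)ᵀ)
        * (c' : Matrix (Fin n) (Fin n) F) * ((P : Matrix (Fin n) (Fin n) F)
          * ((P⁻¹ : GL (Fin n) F) : Matrix (Fin n) (Fin n) F)) := by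
        rw [e1, e2, Matrix.one_mul, Matrix.mul_one]
    _ = _ := by simp only [Matrix.mul_assoc]

end conj

end Cfsg.Agent.Lib.Helper5.GraphOdd
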