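import Mathlib
import Cfsg.Agent.Lib.Helper5.QuadOdd
import Cfsg.Agent.Lib.Helper5.GraphInv

set_option autoImplicit false

/-!
Characteristic two: the similarity group of the symmetric form `x₀y₀ + polar` and of the
quadratic form `x₀² + Σ xᵢyᵢ` have the same projective quotient.
-/

namespace Cfsg.Agent.Lib.Helper5.GraphOdd

open Matrix Module Cfsg.Agent.Lib.Helper5.QuadOdd QuadraticMap

section sqrt
variable {F : Type*} [Field F] [CharP F 2]

theorem add_self' (a : F) : a + a = 0 := CharTwo.add_self_eq_zero a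

theorem sub_eq_add' (a b : F) : a - b = a + b := CharTwo.sub_eq_add a b

theorem add_sq' (a b : F) : (a + b) ^ 2 = a ^ 2 + b ^ 2 := CharTwo.add_sq a b

theorem sq_inj' {a b : F} (h : a ^ 2 = b ^ 2) : a = b := by
  have h1 : (a + b) ^ 2 = 0 := by rw [add_sq', h, add_self']
  have h2 : a + b = 0 := pow_eq_zero_iff (two_ne_zero) |>.1 h1
  calc a = a + (b + b) := by rw [add_self', add_zero]
    _ = (a + b) + b := by ring
    _ = b := by rw [h2, zero_add]

variable [Finite F]

theorem exists_sqrt (a : F) : ∃ b : F, b ^ 2 = a := by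
  have : Fact (Nat.Prime 2) := ⟨Nat.prime_two⟩
  have hinj : Function.Injective (fun b : F => b ^ 2) := fun x y h => sq_inj' h
  exact (Finite.injective_iff_surjective.1 hinj) a

/-- the square root in a finite field of characteristic two -/
noncomputable def rt (a : F) : F := Classical.choose (exists_sqrt a)

theorem rt_sq (a : F) : rt a ^ 2 = a := Classical.choose_spec (exists_sqrt a)

theorem rt_eq {a b : F} (h : b ^ 2 = a) : rt a = b := sq_inj' (by rw [rt_sq, h])

theorem rt_add (a b : F) : rt (a + b) = rt a + rt b :=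
  rt_eq (by rw [add_sq', rt_sq, rt_sq])

theorem rt_sq_mul (t a : F) : rt (t ^ 2 * a) = t * rt a :=
  rt_eq (by rw [mul_pow, rt_sq])

theorem rt_zero : rt (0 : F) = 0 := rt_eq (by rw [zero_pow two_ne_zero])

end sqrt

section form
variable {F : Type*} [Field F] {m : ℕ}

/-- the coordinate functional `x₀` -/
def x0 (v : Unit ⊕ (Fin m ⊕ Fin m) → F) : F := v (Sum.inl ())

/-- the vector `e₀` -/
def e0 (m : ℕ) (F : Type*) [Field F] : Unit ⊕ (Fin m ⊕ Fin m) → F := Pi.single (Sum.inl ()) 1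

/-- the symmetric non-alternating form -/
def B0 (u v : Unit ⊕ (Fin m ⊕ Fin m) → F) : F :=
  x0 u * x0 v + polar (Cfsg.quadFormOdd m F) u v

theorem x0_add (u v : Unit ⊕ (Fin m ⊕ Fin m) → F) : x0 (u + v) = x0 u + x0 v := rfl

theorem x0_smul (t : F) (v : Unit ⊕ (Fin m ⊕ Fin m) → F) : x0 (t • v) = t * x0 v := rfl

theorem x0_e0 : x0 (e0 m F) = 1 := by
  unfold x0 e0
  rw [Pi.single_eq_same]

theorem Q_add (u v : Unit ⊕ (Fin m ⊕ Fin m) → F) :
    Cfsg.quadFormOdd m F (u + v) = Cfsg.quadFormOdd m F u + Cfsg.quadFormOdd m F v +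
      polar (Cfsg.quadFormOdd m F) u v := by
  unfold polar
  ring

theorem Q_smul (t : F) (v : Unit ⊕ (Fin m ⊕ Fin m) → F) :
    Cfsg.quadFormOdd m F (t • v) = t ^ 2 * Cfsg.quadFormOdd m F v := by
  rw [← QO_coe, QuadraticMap.map_smul, smul_eq_mul, pow_two]

theorem Q_e0 : Cfsg.quadFormOdd m F (e0 m F) = 1 := by
  unfold Cfsg.quadFormOdd e0
  simp

theorem polar_add_left' (u u' v : Unit ⊕ (Fin m ⊕ Fin m) → F) :
    polar (Cfsg.quadFormOdd m F) (u + u') v =
      polar (Cfsg.quadFormOdd m F) u v + polar (Cfsg.quadFormOdd m F) u' v := by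
  rw [← QO_coe]; exact QuadraticMap.polar_add_left _ _ _ _

theorem polar_add_right' (u v v' : Unit ⊕ (Fin m ⊕ Fin m) → F) :
    polar (Cfsg.quadFormOdd m F) u (v + v') =
      polar (Cfsg.quadFormOdd m F) u v + polar (Cfsg.quadFormOdd m F) u v' := by
  rw [← QO_coe]; exact QuadraticMap.polar_add_right _ _ _ _

theorem polar_smul_left' (t : F) (u v : Unit ⊕ (Fin m ⊕ Fin m) → F) :
    polar (Cfsg.quadFormOdd m F) (t • u) v = t * polar (Cfsg.quadFormOdd m F) u v := by
  rw [← QO_coe]; exact QuadraticMap.polar_smul_left _ _ _ _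

theorem polar_smul_right' (t : F) (u v : Unit ⊕ (Fin m ⊕ Fin m) → F) :
    polar (Cfsg.quadFormOdd m F) u (t • v) = t * polar (Cfsg.quadFormOdd m F) u v := by
  rw [← QO_coe]; exact QuadraticMap.polar_smul_right _ _ _ _

variable [CharP F 2]

theorem polar_eq (u v : Unit ⊕ (Fin m ⊕ Fin m) → F) :
    polar (Cfsg.quadFormOdd m F) u v =
      ∑ i : Fin m, (u (.inr (.inl i)) * v (.inr (.inr i)) + v (.inr (.inl i)) * u (.inr (.inr i))) := by
  rw [← QO_coe, polar_odd, CharTwo.two_eq_zero, zero_mul, zero_mul, zero_add]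

theorem polar_self' (v : Unit ⊕ (Fin m ⊕ Fin m) → F) : polar (Cfsg.quadFormOdd m F) v v = 0 := by
  rw [polar_eq]
  exact Finset.sum_eq_zero (fun i _ => add_self' _)

theorem polar_e0_left (v : Unit ⊕ (Fin m ⊕ Fin m) → F) :
    polar (Cfsg.quadFormOdd m F) (e0 m F) v = 0 := by
  rw [polar_eq]
  apply Finset.sum_eq_zero
  intro i _
  unfold e0
  simp

theorem polar_e0_right (v : Unit ⊕ (Fin m ⊕ Fin m) → F) :
    polar (Cfsg.quadFormOdd m F) v (e0 m F) = 0 := by
  rw [polar_comm, polar_e0_left]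

theorem Q_add_e0 (v : Unit ⊕ (Fin m ⊕ Fin m) → F) (t : F) :
    Cfsg.quadFormOdd m F (v + t • e0 m F) = Cfsg.quadFormOdd m F v + t ^ 2 := by
  rw [Q_add, Q_smul, Q_e0, polar_smul_right', polar_e0_right, mul_zero, add_zero, mul_one]

theorem B0_self (v : Unit ⊕ (Fin m ⊕ Fin m) → F) : B0 v v = x0 v ^ 2 := by
  unfold B0
  rw [polar_self', add_zero, pow_two]

theorem B0_e0_left (v : Unit ⊕ (Fin m ⊕ Fin m) → F) : B0 (e0 m F) v = x0 v := by
  unfold B0
  rw [polar_e0_left, add_zero, x0_e0, one_mul]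

theorem B0_comm (u v : Unit ⊕ (Fin m ⊕ Fin m) → F) : B0 u v = B0 v u := by
  unfold B0
  rw [polar_comm, mul_comm]

theorem B0_add_left (u u' v : Unit ⊕ (Fin m ⊕ Fin m) → F) : B0 (u + u') v = B0 u v + B0 u' v := by
  unfold B0
  rw [polar_add_left', x0_add]
  ring

theorem B0_sub_left (u u' v : Unit ⊕ (Fin m ⊕ Fin m) → F) : B0 (u - u') v = B0 u v - B0 u' v := by
  have h := B0_add_left (u - u') u' v
  rw [sub_add_cancel] at h
  rw [h]; ring

theorem B0_smul_left (t : F) (u v : Unit ⊕ (Fin m ⊕ Fin m) → F) : B0 (t • u) v = t * B0 u v := by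
  unfold B0
  rw [polar_smul_left', x0_smul]
  ring

/-- the radical of the polar form is spanned by `e₀` -/
theorem eq_smul_e0_of_polar (w : Unit ⊕ (Fin m ⊕ Fin m) → F)
    (h : ∀ v, polar (Cfsg.quadFormOdd m F) w v = 0) : w = x0 w • e0 m F := by
  classical
  funext j
  rcases j with ⟨⟩ | i | i
  · unfold x0 e0
    simp
  · have h1 := h (Pi.single (Sum.inr (Sum.inr i)) 1)
    rw [polar_eq, Finset.sum_eq_single i] at h1
    · simp only [Pi.single_eq_same, mul_one, ne_eq, reduceCtorEq, not_false_eq_true,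
        Pi.single_eq_of_ne, zero_mul, add_zero, Sum.inr.injEq] at h1
      rw [h1]
      unfold e0
      simp
    · intro j _ hji
      simp [Pi.single_apply, hji]
    · intro h'; exact absurd (Finset.mem_univ _) h'
  · have h1 := h (Pi.single (Sum.inr (Sum.inl i)) 1)
    rw [polar_eq, Finset.sum_eq_single i] at h1
    · simp only [ne_eq, reduceCtorEq, not_false_eq_true, Pi.single_eq_of_ne, mul_zero,
        Pi.single_eq_same, one_mul, zero_add, Sum.inr.injEq] at h1
      rw [h1]
      unfold e0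
      simp
    · intro j _ hji
      simp [Pi.single_apply, hji]
    · intro h'; exact absurd (Finset.mem_univ _) h'

theorem B0_nondeg (w : Unit ⊕ (Fin m ⊕ Fin m) → F) (h : ∀ v, B0 w v = 0) : w = 0 := by
  have h0 : x0 w = 0 := by
    have := h (e0 m F)
    rw [B0_comm, B0_e0_left] at this
    exact this
  have h1 : ∀ v, polar (Cfsg.quadFormOdd m F) w v = 0 := by
    intro v
    have := h v
    unfold B0 at this
    rw [h0, zero_mul, zero_add] at this
    exact this
  rw [eq_smul_e0_of_polar w h1, h0, zero_smul]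

end form

end Cfsg.Agent.Lib.Helper5.GraphOdd
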