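import Mathlib
import Cfsg.Agent.Lib.Helper5.GraphOdd2

set_option autoImplicit false

/-!
Characteristic two: from similarities of the symmetric form to similarities of the quadratic form.
-/

namespace Cfsg.Agent.Lib.Helper5.GraphOdd

open Matrix Module Cfsg.Agent.Lib.Helper5.QuadOdd QuadraticMap

section sim
variable {F : Type*} [Field F] [CharP F 2] [Finite F] {m : ℕ}

/-- the index type -/
abbrev II (m : ℕ) : Type := Unit ⊕ (Fin m ⊕ Fin m)

theorem add_e0_inj (w : II m → F) (a a' : F)
    (h : Cfsg.quadFormOdd m F (w + a • e0 m F) = Cfsg.quadFormOdd m F (w + a' • e0 m F)) :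
    a = a' := by
  rw [Q_add_e0, Q_add_e0] at h
  exact sq_inj' (add_left_cancel h)

section basic
variable (g : Matrix (II m) (II m) F) (lam : F)
  (hg : ∀ u v, B0 (g *ᵥ u) (g *ᵥ v) = lam * B0 u v)
include hg

theorem sim_x0 (v : II m → F) : x0 (g *ᵥ v) = rt lam * x0 v := by
  apply sq_inj'
  rw [← B0_self, hg, B0_self, mul_pow, rt_sq]

theorem sim_polar (u v : II m → F) :
    polar (Cfsg.quadFormOdd m F) (g *ᵥ u) (g *ᵥ v) = lam * polar (Cfsg.quadFormOdd m F) u v := by
  have h := hg u v
  unfold B0 at h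
  rw [sim_x0 g lam hg, sim_x0 g lam hg] at h
  have h2 : rt lam * x0 u * (rt lam * x0 v) = lam * (x0 u * x0 v) := by
    have := rt_sq lam
    linear_combination (x0 u * x0 v) * this
  rw [h2, mul_add] at h
  exact add_left_cancel h

theorem sim_e0 (hsurj : Function.Surjective g.mulVec) : g *ᵥ e0 m F = rt lam • e0 m F := by
  rw [← sub_eq_zero]
  apply B0_nondeg
  intro v'
  obtain ⟨v, rfl⟩ := hsurj v'
  rw [B0_sub_left, hg, B0_smul_left, B0_e0_left, B0_e0_left, sim_x0 g lam hg]
  have := rt_sq lam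
  linear_combination (-x0 v) * this

end basic

/-- the correction functional -/
noncomputable def ellFun (g : Matrix (II m) (II m) F) (lam : F) (v : II m → F) : F :=
  rt (lam * Cfsg.quadFormOdd m F v + Cfsg.quadFormOdd m F (g *ᵥ v))

/-- the corrected map -/
noncomputable def TTfun (g : Matrix (II m) (II m) F) (lam : F) (v : II m → F) : II m → F :=
  g *ᵥ v + ellFun g lam v • e0 m F

theorem ellFun_sq (g : Matrix (II m) (II m) F) (lam : F) (v : II m → F) :
    ellFun g lam v ^ 2 = lam * Cfsg.quadFormOdd m F v + Cfsg.quadFormOdd m F (g *ᵥ v) := rt_sq _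

theorem Q_TTfun (g : Matrix (II m) (II m) F) (lam : F) (v : II m → F) :
    Cfsg.quadFormOdd m F (TTfun g lam v) = lam * Cfsg.quadFormOdd m F v := by
  unfold TTfun
  rw [Q_add_e0, ellFun_sq, add_comm (lam * _), ← add_assoc, add_self', zero_add]

section lin
variable (g : Matrix (II m) (II m) F) (lam : F)
  (hp : ∀ u v, polar (Cfsg.quadFormOdd m F) (g *ᵥ u) (g *ᵥ v) =
    lam * polar (Cfsg.quadFormOdd m F) u v)
include hp

theorem ellFun_add (u v : II m → F) : ellFun g lam (u + v) = ellFun g lam u + ellFun g lam v := by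
  unfold ellFun
  rw [← rt_add]
  congr 1
  rw [Matrix.mulVec_add, Q_add, Q_add, hp]
  have := add_self' (lam * polar (Cfsg.quadFormOdd m F) u v)
  linear_combination this

omit hp in
theorem ellFun_smul (t : F) (v : II m → F) : ellFun g lam (t • v) = t * ellFun g lam v := by
  unfold ellFun
  rw [← rt_sq_mul]
  congr 1
  rw [Matrix.mulVec_smul, Q_smul, Q_smul]
  ring

theorem TTfun_add (u v : II m → F) : TTfun g lam (u + v) = TTfun g lam u + TTfun g lam v := by
  unfold TTfun
  rw [ellFun_add g lam hp, Matrix.mulVec_add, add_smul]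
  abel

omit hp in
theorem TTfun_smul (t : F) (v : II m → F) : TTfun g lam (t • v) = t • TTfun g lam v := by
  unfold TTfun
  rw [ellFun_smul, Matrix.mulVec_smul, smul_add, smul_smul]

/-- the corrected map as a linear map -/
noncomputable def TTlin : (II m → F) →ₗ[F] (II m → F) :=
  IsLinearMap.mk' (TTfun g lam) ⟨TTfun_add g lam hp, TTfun_smul g lam⟩

theorem TTlin_apply (v : II m → F) : TTlin g lam hp v = TTfun g lam v := rfl

end lin

/-- composition of corrected maps -/
theorem TTfun_comp (g h : Matrix (II m) (II m) F) (lam mu : F)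
    (hge : g *ᵥ e0 m F = rt lam • e0 m F) (v : II m → F) :
    TTfun g lam (TTfun h mu v) = TTfun (g * h) (lam * mu) v := by
  have h1 : ∃ d : F, TTfun g lam (TTfun h mu v) = (g * h) *ᵥ v + d • e0 m F := by
    refine ⟨rt lam * ellFun h mu v + ellFun g lam (TTfun h mu v), ?_⟩
    conv_lhs => rw [TTfun]
    conv_lhs => enter [1]; rw [TTfun, Matrix.mulVec_add, Matrix.mulVec_smul, hge,
      Matrix.mulVec_mulVec]
    rw [smul_smul, add_assoc, ← add_smul, mul_comm]
  obtain ⟨d, hd⟩ := h1
  have h2 : Cfsg.quadFormOdd m F ((g * h) *ᵥ v + d • e0 m F) =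
      Cfsg.quadFormOdd m F ((g * h) *ᵥ v + ellFun (g * h) (lam * mu) v • e0 m F) := by
    rw [← hd, Q_TTfun, Q_TTfun]
    have := Q_TTfun (g * h) (lam * mu) v
    unfold TTfun at this
    rw [this, mul_assoc]
  rw [hd, add_e0_inj _ _ _ h2]
  rfl

theorem TTfun_one (v : II m → F) : TTfun (1 : Matrix (II m) (II m) F) 1 v = v := by
  unfold TTfun ellFun
  rw [Matrix.one_mulVec, one_mul, add_self', rt_zero, zero_smul, add_zero]

theorem TTfun_scalar (a : F) (v : II m → F) :
    TTfun (a • (1 : Matrix (II m) (II m) F)) (a ^ 2) v = a • v := by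
  unfold TTfun ellFun
  rw [Matrix.smul_mulVec, Matrix.one_mulVec, Q_smul, add_self', rt_zero, zero_smul, add_zero]

end sim

end Cfsg.Agent.Lib.Helper5.GraphOdd
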