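import Mathlib
import Cfsg.Agent.Lib.Helper5.GraphOdd3

set_option autoImplicit false

/-!
Characteristic two: the projective similarity groups of the symmetric form and of the quadratic
form are isomorphic.
-/

namespace Cfsg.Agent.Lib.Helper5.GraphOdd

open Matrix Module Cfsg.Agent.Lib.Helper5.QuadOdd QuadraticMap

section generic
variable {ι : Type} [Fintype ι] [DecidableEq ι] {F : Type*} [Field F]

/-- a surjective homomorphism between matrix groups reflecting scalars induces an isomorphism of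
projective quotients -/
theorem projQuot_of_hom (H₁ H₂ : Subgroup (GL ι F)) (ρ : ↥H₁ →* ↥H₂)
    (hsurj : Function.Surjective ρ)
    (hscal : ∀ g : ↥H₁, ((ρ g : ↥H₂) : GL ι F) ∈ Cfsg.Geo.scalars ι F ↔
      (g : GL ι F) ∈ Cfsg.Geo.scalars ι F) :
    Nonempty (Cfsg.projQuot H₁ ≃* Cfsg.projQuot H₂) := by
  let θ : ↥H₁ →* Cfsg.projQuot H₂ := (QuotientGroup.mk' _).comp ρ
  have hθ : Function.Surjective θ := by
    intro x
    obtain ⟨h, rfl⟩ := QuotientGroup.mk_surjective x
    obtain ⟨g, rfl⟩ := hsurj h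
    exact ⟨g, rfl⟩
  have hker : θ.ker = (Cfsg.Geo.scalars ι F).subgroupOf H₁ := by
    ext g
    rw [MonoidHom.mem_ker, Subgroup.mem_subgroupOf]
    show QuotientGroup.mk (ρ g) = 1 ↔ _
    rw [QuotientGroup.eq_one_iff, Subgroup.mem_subgroupOf]
    exact hscal g
  exact ⟨(QuotientGroup.quotientMulEquivOfEq hker).symm.trans
    (QuotientGroup.quotientKerEquivOfSurjective θ hθ)⟩

theorem mulVec_surj (g : GL ι F) : Function.Surjective (g : Matrix ι ι F).mulVec := by
  intro v
  refine ⟨((g⁻¹ : GL ι F) : Matrix ι ι F) *ᵥ v, ?_⟩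
  rw [Matrix.mulVec_mulVec, ← Units.val_mul, mul_inv_cancel, Units.val_one, Matrix.one_mulVec]

theorem matrix_ext_mulVec (A B : Matrix ι ι F) (h : ∀ v, A *ᵥ v = B *ᵥ v) : A = B :=
  Matrix.toLin'.injective (LinearMap.ext fun v => h v)

end generic

section theta
variable {F : Type*} [Field F] [CharP F 2] [Finite F] {m : ℕ}

/-- similarities of the symmetric form -/
abbrev SB (m : ℕ) (F : Type*) [Field F] : Subgroup (GL (II m) F) :=
  Cfsg.Geo.similarityGroup (B0 (m := m) (F := F))

/-- similarities of the quadratic form -/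
abbrev SQ (m : ℕ) (F : Type*) [Field F] : Subgroup (GL (II m) F) :=
  Cfsg.Geo.quadSimilarityGroup (Cfsg.quadFormOdd m F)

/-- the multiplier of a similarity of the symmetric form -/
def lamOf (g : GL (II m) F) : F :=
  B0 ((g : Matrix (II m) (II m) F) *ᵥ e0 m F) ((g : Matrix (II m) (II m) F) *ᵥ e0 m F)

theorem B0_e0_e0 : B0 (e0 m F) (e0 m F) = 1 := by rw [B0_e0_left, x0_e0]

theorem sim_lamOf (g : GL (II m) F) (hg : g ∈ SB m F) (u v : II m → F) :
    B0 ((g : Matrix (II m) (II m) F) *ᵥ u) ((g : Matrix (II m) (II m) F) *ᵥ v) =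
      lamOf g * B0 u v := by
  obtain ⟨c, hc⟩ := hg
  unfold lamOf
  rw [hc, hc, B0_e0_e0, mul_one]

theorem lamOf_ne_zero (g : GL (II m) F) (hg : g ∈ SB m F) : lamOf g ≠ 0 := by
  obtain ⟨c, hc⟩ := hg
  unfold lamOf
  rw [hc, B0_e0_e0, mul_one]
  exact c.ne_zero

theorem lamOf_mul (g h : GL (II m) F) (hg : g ∈ SB m F) :
    lamOf (g * h) = lamOf g * lamOf h := by
  unfold lamOf
  rw [Units.val_mul, ← Matrix.mulVec_mulVec, sim_lamOf g hg]
  rfl

theorem lamOf_one : lamOf (1 : GL (II m) F) = 1 := by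
  unfold lamOf
  rw [Units.val_one, Matrix.one_mulVec, B0_e0_e0]

theorem gl_e0 (g : GL (II m) F) (hg : g ∈ SB m F) :
    (g : Matrix (II m) (II m) F) *ᵥ e0 m F = rt (lamOf g) • e0 m F :=
  sim_e0 _ _ (sim_lamOf g hg) (mulVec_surj g)

/-- the linear map attached to a similarity of the symmetric form -/
noncomputable def thetaLin (g : ↥(SB m F)) : (II m → F) →ₗ[F] (II m → F) :=
  TTlin ((g : GL (II m) F) : Matrix (II m) (II m) F) (lamOf (g : GL (II m) F))
    (sim_polar _ _ (sim_lamOf g.1 g.2))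

theorem thetaLin_apply (g : ↥(SB m F)) (v : II m → F) :
    thetaLin g v = TTfun ((g : GL (II m) F) : Matrix (II m) (II m) F) (lamOf (g : GL (II m) F)) v :=
  rfl

theorem thetaLin_mul (g h : ↥(SB m F)) : thetaLin (g * h) = thetaLin g ∘ₗ thetaLin h := by
  apply LinearMap.ext
  intro v
  rw [LinearMap.comp_apply, thetaLin_apply, thetaLin_apply, thetaLin_apply,
    TTfun_comp _ _ _ _ (gl_e0 g.1 g.2)]
  congr 1
  exact lamOf_mul g.1 h.1 g.2

theorem thetaLin_one : thetaLin (1 : ↥(SB m F)) = LinearMap.id := by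
  apply LinearMap.ext
  intro v
  rw [thetaLin_apply, LinearMap.id_apply]
  have h1 : lamOf ((1 : ↥(SB m F)) : GL (II m) F) = 1 := lamOf_one
  rw [h1]
  exact TTfun_one v

/-- the matrix attached to a similarity of the symmetric form -/
noncomputable def thetaGL (g : ↥(SB m F)) : GL (II m) F :=
  ⟨LinearMap.toMatrix' (thetaLin g), LinearMap.toMatrix' (thetaLin g⁻¹), by
    rw [← LinearMap.toMatrix'_comp, ← thetaLin_mul, mul_inv_cancel, thetaLin_one,
      LinearMap.toMatrix'_id], by
    rw [← LinearMap.toMatrix'_comp, ← thetaLin_mul, inv_mul_cancel, thetaLin_one,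
      LinearMap.toMatrix'_id]⟩

theorem thetaGL_mulVec (g : ↥(SB m F)) (v : II m → F) :
    ((thetaGL g : GL (II m) F) : Matrix (II m) (II m) F) *ᵥ v =
      TTfun ((g : GL (II m) F) : Matrix (II m) (II m) F) (lamOf (g : GL (II m) F)) v := by
  show LinearMap.toMatrix' (thetaLin g) *ᵥ v = _
  rw [LinearMap.toMatrix'_mulVec, thetaLin_apply]

theorem thetaGL_mem (g : ↥(SB m F)) : thetaGL g ∈ SQ m F := by
  refine ⟨Units.mk0 _ (lamOf_ne_zero g.1 g.2), fun v => ?_⟩
  rw [thetaGL_mulVec, Q_TTfun, Units.val_mk0]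

/-- the homomorphism from similarities of the symmetric form to similarities of the quadratic
form -/
noncomputable def theta : ↥(SB m F) →* ↥(SQ m F) where
  toFun g := ⟨thetaGL g, thetaGL_mem g⟩
  map_one' := by
    apply Subtype.ext
    apply Units.ext
    show LinearMap.toMatrix' (thetaLin 1) = 1
    rw [thetaLin_one, LinearMap.toMatrix'_id]
  map_mul' g h := by
    apply Subtype.ext
    apply Units.ext
    show LinearMap.toMatrix' (thetaLin (g * h)) =
      LinearMap.toMatrix' (thetaLin g) * LinearMap.toMatrix' (thetaLin h)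
    rw [thetaLin_mul, LinearMap.toMatrix'_comp]

theorem theta_coe (g : ↥(SB m F)) : ((theta g : ↥(SQ m F)) : GL (II m) F) = thetaGL g := rfl

end theta

end Cfsg.Agent.Lib.Helper5.GraphOdd
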