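import Mathlib
import Cfsg.Agent.Lib.Helper5.GraphOdd4

set_option autoImplicit false

/-!
Characteristic two: surjectivity and scalars; the isomorphism of projective quotients.
-/

namespace Cfsg.Agent.Lib.Helper5.GraphOdd

open Matrix Module Cfsg.Agent.Lib.Helper5.QuadOdd QuadraticMap

section surj
variable {F : Type*} [Field F] [CharP F 2] [Finite F] {m : ℕ}

section quad
variable (g' : GL (II m) F) (c : F) (hc0 : c ≠ 0)
  (hc : ∀ v, Cfsg.quadFormOdd m F ((g' : Matrix (II m) (II m) F) *ᵥ v) =
    c * Cfsg.quadFormOdd m F v)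
include hc

theorem qsim_polar (u v : II m → F) :
    polar (Cfsg.quadFormOdd m F) ((g' : Matrix (II m) (II m) F) *ᵥ u)
      ((g' : Matrix (II m) (II m) F) *ᵥ v) = c * polar (Cfsg.quadFormOdd m F) u v := by
  unfold polar
  rw [← Matrix.mulVec_add, hc, hc, hc]
  ring

theorem qsim_e0 : (g' : Matrix (II m) (II m) F) *ᵥ e0 m F = rt c • e0 m F := by
  have h1 : ∀ v', polar (Cfsg.quadFormOdd m F) ((g' : Matrix (II m) (II m) F) *ᵥ e0 m F) v' = 0 := by
    intro v'
    obtain ⟨v, rfl⟩ := mulVec_surj g' v'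
    rw [qsim_polar g' c hc, polar_e0_left, mul_zero]
  have h2 := eq_smul_e0_of_polar _ h1
  have h3 := hc (e0 m F)
  rw [h2, Q_smul, Q_e0, mul_one, mul_one] at h3
  rw [h2, ← rt_eq h3]

/-- the linear map with the zeroth coordinate corrected -/
noncomputable def corrLin : (II m → F) →ₗ[F] (II m → F) :=
  Matrix.toLin' (g' : Matrix (II m) (II m) F) +
    ((rt c • LinearMap.proj (Sum.inl ()) +
      (LinearMap.proj (Sum.inl ())).comp (Matrix.toLin' (g' : Matrix (II m) (II m) F))).smulRight
        (e0 m F))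

omit hc in
theorem corrLin_apply (v : II m → F) :
    corrLin g' c v = (g' : Matrix (II m) (II m) F) *ᵥ v +
      (rt c * x0 v + x0 ((g' : Matrix (II m) (II m) F) *ᵥ v)) • e0 m F := rfl

omit hc in
theorem x0_corrLin (v : II m → F) : x0 (corrLin g' c v) = rt c * x0 v := by
  rw [corrLin_apply, x0_add, x0_smul, x0_e0, mul_one, add_comm (rt c * x0 v), ← add_assoc,
    add_self', zero_add]

theorem polar_corrLin (u v : II m → F) :
    polar (Cfsg.quadFormOdd m F) (corrLin g' c u) (corrLin g' c v) =
      c * polar (Cfsg.quadFormOdd m F) u v := by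
  rw [corrLin_apply, corrLin_apply, polar_add_left', polar_add_right', polar_add_right',
    polar_smul_left', polar_smul_left', polar_smul_right', polar_smul_right', polar_e0_left,
    polar_e0_left, polar_e0_right, qsim_polar g' c hc]
  ring

theorem B0_corrLin (u v : II m → F) : B0 (corrLin g' c u) (corrLin g' c v) = c * B0 u v := by
  unfold B0
  rw [x0_corrLin, x0_corrLin, polar_corrLin g' c hc]
  have := rt_sq c
  linear_combination (x0 u * x0 v) * this

include hc0 in
theorem corrLin_injective : Function.Injective (corrLin g' c) := by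
  rw [← LinearMap.ker_eq_bot, LinearMap.ker_eq_bot']
  intro v hv
  apply B0_nondeg
  intro u
  have h := B0_corrLin g' c hc v u
  rw [hv] at h
  have h0 : B0 (0 : II m → F) (corrLin g' c u) = 0 := by
    have := B0_smul_left (0 : F) (0 : II m → F) (corrLin g' c u)
    rw [zero_smul, zero_mul] at this
    exact this
  rw [h0] at h
  exact (mul_eq_zero.1 h.symm).resolve_left hc0

/-- the corrected similarity as an invertible matrix -/
noncomputable def corrGL : GL (II m) F :=
  Matrix.GeneralLinearGroup.mk'' (LinearMap.toMatrix' (corrLin g' c)) (by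
    rw [← Matrix.isUnit_iff_isUnit_det, ← Matrix.mulVec_injective_iff_isUnit]
    intro u v huv
    rw [LinearMap.toMatrix'_mulVec, LinearMap.toMatrix'_mulVec] at huv
    exact corrLin_injective g' c hc0 hc huv)

theorem corrGL_mulVec (v : II m → F) :
    ((corrGL g' c hc0 hc : GL (II m) F) : Matrix (II m) (II m) F) *ᵥ v = corrLin g' c v := by
  show LinearMap.toMatrix' (corrLin g' c) *ᵥ v = _
  rw [LinearMap.toMatrix'_mulVec]

theorem corrGL_mem : corrGL g' c hc0 hc ∈ SB m F := by
  refine ⟨Units.mk0 c hc0, fun u v => ?_⟩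
  rw [corrGL_mulVec, corrGL_mulVec, Units.val_mk0]
  exact B0_corrLin g' c hc u v

theorem lamOf_corrGL : lamOf (corrGL g' c hc0 hc) = c := by
  unfold lamOf
  rw [corrGL_mulVec, B0_corrLin g' c hc, B0_e0_e0, mul_one]

theorem theta_corrGL :
    thetaGL ⟨corrGL g' c hc0 hc, corrGL_mem g' c hc0 hc⟩ = g' := by
  apply Units.ext
  apply matrix_ext_mulVec
  intro v
  rw [thetaGL_mulVec]
  show TTfun ((corrGL g' c hc0 hc : GL (II m) F) : Matrix (II m) (II m) F)
    (lamOf (corrGL g' c hc0 hc)) v = _
  rw [lamOf_corrGL]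
  have h1 := Q_TTfun ((corrGL g' c hc0 hc : GL (II m) F) : Matrix (II m) (II m) F) c v
  unfold TTfun at h1 ⊢
  rw [corrGL_mulVec, corrLin_apply, add_assoc, ← add_smul] at h1 ⊢
  have h2 : Cfsg.quadFormOdd m F ((g' : Matrix (II m) (II m) F) *ᵥ v + (0 : F) • e0 m F) =
      c * Cfsg.quadFormOdd m F v := by
    rw [zero_smul, add_zero, hc]
  rw [← h2] at h1
  rw [add_e0_inj _ _ _ h1, zero_smul, add_zero]

end quad

theorem theta_surjective : Function.Surjective (theta (m := m) (F := F)) := by
  rintro ⟨g', c, hc⟩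
  refine ⟨⟨corrGL g' (c : F) c.ne_zero hc, corrGL_mem g' (c : F) c.ne_zero hc⟩, ?_⟩
  apply Subtype.ext
  exact theta_corrGL g' (c : F) c.ne_zero hc

theorem theta_scalar_iff (hm : 1 ≤ m) (g : ↥(SB m F)) :
    ((theta g : ↥(SQ m F)) : GL (II m) F) ∈ Cfsg.Geo.scalars (II m) F ↔
      (g : GL (II m) F) ∈ Cfsg.Geo.scalars (II m) F := by
  classical
  rw [Cfsg.Geo.mem_scalars_iff, Cfsg.Geo.mem_scalars_iff, theta_coe]
  constructor
  · rintro ⟨a, ha⟩
    have hT : ∀ v, TTfun ((g : GL (II m) F) : Matrix (II m) (II m) F)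
        (lamOf (g : GL (II m) F)) v = (a : F) • v := by
      intro v
      rw [← thetaGL_mulVec, ha, Matrix.smul_mulVec, Matrix.one_mulVec]
    have hgv : ∀ v, ((g : GL (II m) F) : Matrix (II m) (II m) F) *ᵥ v = (a : F) • v +
        ellFun ((g : GL (II m) F) : Matrix (II m) (II m) F) (lamOf (g : GL (II m) F)) v •
          e0 m F := by
      intro v
      have h := hT v
      unfold TTfun at h
      rw [← h, add_assoc, ← add_smul, add_self', zero_smul, add_zero]
    -- the multiplier is `a ^ 2`
    let i0 : Fin m := ⟨0, by omega⟩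
    have hpol := sim_polar _ _ (sim_lamOf g.1 g.2) (Pi.single (Sum.inr (Sum.inl i0)) (1 : F))
      (Pi.single (Sum.inr (Sum.inr i0)) (1 : F))
    have hp1 : polar (Cfsg.quadFormOdd m F) (Pi.single (Sum.inr (Sum.inl i0)) (1 : F))
        (Pi.single (Sum.inr (Sum.inr i0)) (1 : F)) = 1 := by
      rw [polar_eq, Finset.sum_eq_single i0]
      · simp
      · intro j _ hj
        simp [Pi.single_apply, hj]
      · intro h'; exact absurd (Finset.mem_univ _) h'
    rw [hgv, hgv] at hpol
    simp only [polar_add_left', polar_add_right', polar_smul_left', polar_smul_right',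
      polar_e0_left, polar_e0_right, hp1, mul_zero, add_zero, mul_one] at hpol
    have hlam : lamOf (g : GL (II m) F) = (a : F) ^ 2 := by linear_combination -hpol
    have hrt : rt (lamOf (g : GL (II m) F)) = (a : F) := rt_eq hlam.symm
    have hell : ∀ v, ellFun ((g : GL (II m) F) : Matrix (II m) (II m) F)
        (lamOf (g : GL (II m) F)) v = 0 := by
      intro v
      have h1 := sim_x0 _ _ (sim_lamOf g.1 g.2) v
      rw [hgv, x0_add, x0_smul, x0_smul, x0_e0, mul_one, hrt] at h1
      exact add_left_cancel (a := (a : F) * x0 v) (by rw [h1, add_zero])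
    refine ⟨a, ?_⟩
    apply matrix_ext_mulVec
    intro v
    rw [hgv, hell, zero_smul, add_zero, Matrix.smul_mulVec, Matrix.one_mulVec]
  · rintro ⟨a, ha⟩
    refine ⟨a, ?_⟩
    apply matrix_ext_mulVec
    intro v
    rw [thetaGL_mulVec, Matrix.smul_mulVec, Matrix.one_mulVec]
    have hlam : lamOf (g : GL (II m) F) = (a : F) ^ 2 := by
      unfold lamOf
      rw [ha, Matrix.smul_mulVec, Matrix.one_mulVec, B0_smul_left, B0_comm, B0_smul_left,
        B0_e0_e0]
      ring
    rw [hlam, ha]
    exact TTfun_scalar (a : F) v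

/-- In characteristic two the projective similarity group of the symmetric form `x₀y₀ + polar`
is the projective conformal orthogonal group of `x₀² + Σ xᵢyᵢ`. -/
theorem projQuot_SB (hm : 1 ≤ m) :
    Nonempty (Cfsg.projQuot (SB m F) ≃* Cfsg.PGO F (Cfsg.quadFormOdd m F)) :=
  projQuot_of_hom (SB m F) (SQ m F) theta theta_surjective (theta_scalar_iff hm)

end surj

end Cfsg.Agent.Lib.Helper5.GraphOdd
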