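import Mathlib
import Cfsg.Prelude.Def_Blocks
import Cfsg.Prelude.Def_BlockRank
import Cfsg.Agent.Lib.Helper8.DO18
import Cfsg.Agent.Lib.Helper8.DO19
import Cfsg.Agent.Lib.Helper8.BF10
import Cfsg.Agent.Lib.Helper8.HKS_Defs

/-!
# S4588 swarm, PK-Do: the basic set of the principal block for a Sylow subgroup of odd prime order
-/

set_option autoImplicit false

namespace Cfsg.Agent.Lib.Helper8.HKS

open Cfsg
open scoped ComplexConjugate
open Cfsg.Agent.Lib.Helper1 Cfsg.Agent.Lib.Helper4 Cfsg.Agent.Lib.Helper8 Cfsg.Agent.Lib.Helper8.MJ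

universe u

namespace PkDo

section Core

variable {K : Type u} [Group K] [Fintype K] {p : ℕ}

/-- the proportion of `p`-singular elements -/
noncomputable def sing (p : ℕ) (K : Type u) [Group K] [Fintype K] : ℂ :=
  (Nat.card {g : K // p ∣ orderOf g} : ℂ) / (Nat.card K : ℂ)

theorem sing_ne_one (hp : p.Prime) : sing p K ≠ 1 := by
  classical
  intro h
  unfold sing at h
  have hK0 : (Nat.card K : ℂ) ≠ 0 := Nat.cast_ne_zero.2 Nat.card_pos.ne'
  rw [div_eq_one_iff_eq hK0] at h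
  have h2 : Nat.card {g : K // p ∣ orderOf g} = Nat.card K := by exact_mod_cast h
  rw [Nat.card_eq_fintype_card, Nat.card_eq_fintype_card] at h2
  have h3 : Fintype.card {g : K // p ∣ orderOf g} < Fintype.card K := by
    apply Fintype.card_subtype_lt (x := (1 : K))
    rw [orderOf_one]
    intro h1
    exact hp.one_lt.ne' (Nat.dvd_one.1 h1)
  omega

theorem card_sing_eq_sum [DecidablePred fun g : K => p ∣ orderOf g] :
    (Nat.card {g : K // p ∣ orderOf g} : ℂ) = ∑ s : K, if p ∣ orderOf s then (1 : ℂ) else 0 := by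
  rw [Nat.card_eq_fintype_card, Fintype.card_subtype, Finset.card_filter]
  push_cast
  rfl

/-- two irreducible characters that are constant (integers) on the `p`-singular elements -/
theorem mreg_of_const {χ ψ : IrrCharacter K} {a b : ℤ}
    (hχ : ∀ g : K, p ∣ orderOf g → (χ : K → ℂ) g = (a : ℂ))
    (hψ : ∀ g : K, p ∣ orderOf g → (ψ : K → ℂ) g = (b : ℂ)) :
    mreg p (χ : K → ℂ) (ψ : K → ℂ) =
      (if χ = ψ then 1 else 0) - (a : ℂ) * (b : ℂ) * sing p K := by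
  classical
  have h1 : classInner (χ : K → ℂ) (ψ : K → ℂ) = if χ = ψ then 1 else 0 := by
    rw [classInner_irr χ.2 ψ.2]
    by_cases h : χ = ψ
    · rw [if_pos h, if_pos (congrArg Subtype.val h)]
    · rw [if_neg h, if_neg (fun h' => h (Subtype.ext h'))]
  have hK0 : (Nat.card K : ℂ) ≠ 0 := Nat.cast_ne_zero.2 Nat.card_pos.ne'
  have hsplit : ∑ s : K, (χ : K → ℂ) s * conj ((ψ : K → ℂ) s) =
      (∑ s : K, if p ∣ orderOf s then 0 else (χ : K → ℂ) s * conj ((ψ : K → ℂ) s)) +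
      (Nat.card {g : K // p ∣ orderOf g} : ℂ) * ((a : ℂ) * (b : ℂ)) := by
    rw [card_sing_eq_sum, Finset.sum_mul, ← Finset.sum_add_distrib]
    refine Finset.sum_congr rfl fun s _ => ?_
    by_cases hs : p ∣ orderOf s
    · rw [if_pos hs, if_pos hs, hχ s hs, hψ s hs, map_intCast]
      ring
    · rw [if_neg hs, if_neg hs]
      ring
  rw [← h1, mreg_eq_sum_ite, classInner_def, hsplit]
  unfold sing
  field_simp
  ring

/-- the exceptional characters against a non-exceptional one -/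
theorem mreg_exc (Xf : Finset (IrrCharacter K)) (εX : IrrCharacter K → ℤ) {ε : ℤ}
    (hε : ε = 1 ∨ ε = -1) (θ χ₁ : IrrCharacter K)
    (hθ : ∀ g : K, ¬ p ∣ orderOf g →
      (ε : ℂ) * (θ : K → ℂ) g = ∑ χ ∈ Xf, (εX χ : ℂ) * (χ : K → ℂ) g) :
    mreg p (χ₁ : K → ℂ) (θ : K → ℂ) =
      (ε : ℂ) * ∑ χ ∈ Xf, (εX χ : ℂ) * mreg p (χ₁ : K → ℂ) (χ : K → ℂ) := by
  classical
  have hε2 : (ε : ℂ) * (ε : ℂ) = 1 := by
    rcases hε with h | h <;> simp [h]
  have key : ∀ s : K, (if p ∣ orderOf s then 0 else (χ₁ : K → ℂ) s * conj ((θ : K → ℂ) s)) =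
      ∑ χ ∈ Xf, (ε : ℂ) * (εX χ : ℂ) *
        (if p ∣ orderOf s then 0 else (χ₁ : K → ℂ) s * conj ((χ : K → ℂ) s)) := by
    intro s
    by_cases hs : p ∣ orderOf s
    · simp [hs]
    · simp only [if_neg hs]
      have h1 : (θ : K → ℂ) s = (ε : ℂ) * ∑ χ ∈ Xf, (εX χ : ℂ) * (χ : K → ℂ) s := by
        rw [← hθ s hs, ← mul_assoc, hε2, one_mul]
      rw [h1, map_mul, map_sum, map_intCast, Finset.mul_sum, Finset.mul_sum]
      refine Finset.sum_congr rfl fun χ _ => ?_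
      rw [map_mul, map_intCast]
      ring
  rw [mreg_eq_sum_ite]
  simp_rw [mreg_eq_sum_ite]
  simp_rw [key]
  calc (Nat.card K : ℂ)⁻¹ * ∑ s : K, ∑ χ ∈ Xf, (ε : ℂ) * (εX χ : ℂ) *
          (if p ∣ orderOf s then 0 else (χ₁ : K → ℂ) s * conj ((χ : K → ℂ) s))
      = (Nat.card K : ℂ)⁻¹ * ∑ χ ∈ Xf, ∑ s : K, (ε : ℂ) * (εX χ : ℂ) *
          (if p ∣ orderOf s then 0 else (χ₁ : K → ℂ) s * conj ((χ : K → ℂ) s)) := by
        rw [Finset.sum_comm]
    _ = ∑ χ ∈ Xf, ((ε : ℂ) * (εX χ : ℂ)) * ((Nat.card K : ℂ)⁻¹ * ∑ s : K,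
          (if p ∣ orderOf s then 0 else (χ₁ : K → ℂ) s * conj ((χ : K → ℂ) s))) := by
        rw [Finset.mul_sum]
        refine Finset.sum_congr rfl fun χ _ => ?_
        rw [← Finset.mul_sum]
        ring
    _ = _ := by
        rw [Finset.mul_sum]
        refine Finset.sum_congr rfl fun χ _ => ?_
        ring

end Core


section Main

variable {K : Type u} [Group K] [Fintype K] {p : ℕ} [Fact p.Prime] {M : Ideal AlgInt}

/-- the arithmetic of the quadratic relation -/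
theorem sigma_eq {e t : ℕ} (hp : p.Prime) (he1 : 1 ≤ e) (hedvd : e ∣ p - 1) (het : e * t + 1 = p)
    {σ : ℂ} (hσ1 : σ ≠ 1)
    (hquad : (1 - σ) ^ 2 + ((e : ℂ) - 1) * σ ^ 2 + (t : ℂ) * (1 - (e : ℂ) * σ) ^ 2 = 1 - σ)
    (hint : ∃ n : ℤ, (p : ℂ) * (1 - σ) = n) : σ = (t : ℂ) / (p : ℂ) := by
  have hpet : (p : ℂ) = (e : ℂ) * (t : ℂ) + 1 := by exact_mod_cast het.symm
  have hp0 : (p : ℂ) ≠ 0 := Nat.cast_ne_zero.2 hp.ne_zero
  have hq : ((e : ℂ) * σ - 1) * ((p : ℂ) * σ - (t : ℂ)) = 0 := by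
    rw [hpet]
    linear_combination hquad
  rcases mul_eq_zero.1 hq with h1 | h1
  · exfalso
    obtain ⟨n, hn⟩ := hint
    have heσ : (e : ℂ) * σ = 1 := by linear_combination h1
    -- p (e - 1) = n e
    have h2 : (p : ℂ) * ((e : ℂ) - 1) = (n : ℂ) * (e : ℂ) := by
      have : (p : ℂ) * ((e : ℂ) - 1) = (p : ℂ) * (1 - σ) * (e : ℂ) := by
        linear_combination (p : ℂ) * heσ
      rw [this, hn]
    have h3 : (p : ℤ) * ((e : ℤ) - 1) = n * (e : ℤ) := by exact_mod_cast h2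
    have hcop : IsCoprime (e : ℤ) ((e : ℤ) - 1) := ⟨1, -1, by ring⟩
    have hdvd : (e : ℤ) ∣ (p : ℤ) * ((e : ℤ) - 1) := ⟨n, by rw [h3]; ring⟩
    have hdvd2 : (e : ℤ) ∣ (p : ℤ) := hcop.dvd_of_dvd_mul_right hdvd
    have hdvd3 : e ∣ p := by exact_mod_cast hdvd2
    have hp1 : 0 < p - 1 := by have := hp.two_le; omega
    have hele : e ≤ p - 1 := Nat.le_of_dvd hp1 hedvd
    rcases (Nat.dvd_prime hp).1 hdvd3 with h4 | h4
    · apply hσ1
      rw [h4] at heσ
      simpa using heσ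
    · omega
  · rw [eq_div_iff hp0]
    linear_combination h1

/-- PK-Do -/
theorem hasSmallBasicSet_of_odd_aux (hM : IsPModular p M) (hodd : p ≠ 2)
    (h : (Nat.card K).factorization p = 1) : HasSmallBasicSet p M K := by
  classical
  have hp : p.Prime := Fact.out
  have hMp := isPModular_isPrime hM
  haveI : Fintype (IrrCharacter K) := Fintype.ofFinite _
  obtain ⟨P⟩ : Nonempty (Sylow p K) := inferInstance
  have hP : Nat.card P = p := by rw [P.card_eq_multiplicity, h, pow_one]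
  obtain ⟨x, hx, hPx, hsq⟩ := d1_sylow_data p P hP
  obtain ⟨-, X, Y, hXY, hdisj, hXc, hYc, εX, ε, hXp, hε, -, -, hYX⟩ :=
    d1_principal p M hM (P : Subgroup K) x hx hPx hsq _ rfl
  set e := (Subgroup.centralizer ((P : Subgroup K) : Set K)).relIndex
    (Subgroup.normalizer ((P : Subgroup K) : Set K)) with he
  -- `e ∣ p - 1`
  have hedvd : e ∣ p - 1 := by
    haveI : Fintype (Subgroup.centralizer ((Subgroup.zpowers x : Subgroup K) : Set K)) :=
      Fintype.ofFinite _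
    have ctx := d1_principal_ctx (M := M) hM hx hsq
    have h1 := ctx.e_dvd
    rw [ctx.e_eq_of_triv] at h1
    rw [he, hPx]
    exact h1
  have hp1 : 0 < p - 1 := by have := hp.two_le; omega
  have he1 : 1 ≤ e := Nat.pos_of_ne_zero (fun h0 => by rw [h0] at hedvd; omega)
  set t := (p - 1) / e with ht
  have het : e * t + 1 = p := by
    rw [ht, Nat.mul_div_cancel' hedvd]; omega
  have ht1 : 1 ≤ t := by
    rw [ht]
    exact Nat.div_pos (Nat.le_of_dvd hp1 hedvd) he1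
  have hetle : e + t ≤ p := by nlinarith
  -- finsets
  haveI : Fintype ↥X := Fintype.ofFinite _
  haveI : Fintype ↥Y := Fintype.ofFinite _
  have hXfc : X.toFinset.card = e := by
    rw [Set.toFinset_card, ← Nat.card_eq_fintype_card, hXc]
  have hYfc : Y.toFinset.card = t := by
    rw [Set.toFinset_card, ← Nat.card_eq_fintype_card, hYc]
  have hXB : ∀ χ ∈ X, χ ∈ principalBlock M K := fun χ hχ => by rw [hXY]; exact Or.inl hχ
  have hYB : ∀ χ ∈ Y, χ ∈ principalBlock M K := fun χ hχ => by rw [hXY]; exact Or.inr hχ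
  -- values on singular elements
  have hsingX : ∀ χ ∈ X, ∀ g : K, p ∣ orderOf g → (χ : K → ℂ) g = (εX χ : ℂ) := by
    intro χ hχ g hg
    obtain ⟨t', u, y, hconj, hu, hu1, hyx, hyp⟩ := d1_exists_conj_decomp hx hsq hg
    rw [← (isClassFunction_irr χ.2) g t', hconj]
    refine (hXp χ hχ).2.2 u ?_ hu1 y ?_ hyp
    · rw [hPx]; exact hu
    · rw [hPx, d1_mem_centralizer_zpowers]; exact hyx
  have hεX2 : ∀ χ ∈ X, (εX χ : ℂ) * (εX χ : ℂ) = 1 := by
    intro χ hχ
    rcases (hXp χ hχ).1 with h1 | h1 <;> simp [h1]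
  have hε2 : (ε : ℂ) * (ε : ℂ) = 1 := by
    rcases hε with h1 | h1 <;> simp [h1]
  set σ := sing p K with hσ
  have mregXX : ∀ χ ∈ X, ∀ ψ ∈ X, mreg p (χ : K → ℂ) (ψ : K → ℂ) =
      (if χ = ψ then 1 else 0) - (εX χ : ℂ) * (εX ψ : ℂ) * σ :=
    fun χ hχ ψ hψ => mreg_of_const (hsingX χ hχ) (hsingX ψ hψ)
  have hYX' : ∀ θ ∈ Y, ∀ g : K, ¬ p ∣ orderOf g →
      (ε : ℂ) * (θ : K → ℂ) g = ∑ χ ∈ X.toFinset, (εX χ : ℂ) * (χ : K → ℂ) g := by
    intro θ hθ g hg
    rw [hYX θ hθ g hg, finsum_mem_eq_toFinset_sum]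
  have mregXY : ∀ χ₁ ∈ X, ∀ θ ∈ Y, mreg p (χ₁ : K → ℂ) (θ : K → ℂ) =
      (ε : ℂ) * (εX χ₁ : ℂ) * (1 - (e : ℂ) * σ) := by
    intro χ₁ hχ₁ θ hθ
    rw [mreg_exc X.toFinset εX hε θ χ₁ (hYX' θ hθ)]
    have : ∑ χ ∈ X.toFinset, (εX χ : ℂ) * mreg p (χ₁ : K → ℂ) (χ : K → ℂ) =
        (εX χ₁ : ℂ) * (1 - (e : ℂ) * σ) := by
      have h1 : ∀ χ ∈ X.toFinset, (εX χ : ℂ) * mreg p (χ₁ : K → ℂ) (χ : K → ℂ) =
          (if χ₁ = χ then (εX χ : ℂ) else 0) - (εX χ₁ : ℂ) * σ := by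
        intro χ hχ
        have hχ' : χ ∈ X := Set.mem_toFinset.1 hχ
        rw [mregXX χ₁ hχ₁ χ hχ']
        by_cases hc : χ₁ = χ
        · rw [if_pos hc, if_pos hc]
          linear_combination (-(εX χ₁ : ℂ) * σ) * hεX2 χ hχ'
        · rw [if_neg hc, if_neg hc]
          linear_combination (-(εX χ₁ : ℂ) * σ) * hεX2 χ hχ'
      rw [Finset.sum_congr rfl h1, Finset.sum_sub_distrib, Finset.sum_ite_eq,
        if_pos (Set.mem_toFinset.2 hχ₁), Finset.sum_const, hXfc, nsmul_eq_mul]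
      ring
    rw [this]
    ring
  -- the quadratic relation
  obtain ⟨χ₁, hχ₁f⟩ : X.toFinset.Nonempty := by
    rw [← Finset.card_pos, hXfc]; exact he1
  have hχ₁ : χ₁ ∈ X := Set.mem_toFinset.1 hχ₁f
  have hquad : (1 - σ) ^ 2 + ((e : ℂ) - 1) * σ ^ 2 + (t : ℂ) * (1 - (e : ℂ) * σ) ^ 2 = 1 - σ := by
    have h1 := sum_mreg_mul_mreg (p := p) (χ := (χ₁ : K → ℂ)) (χ' := (χ₁ : K → ℂ))
      (isClassFunction_irr χ₁.2)
    have hdisjf : Disjoint X.toFinset Y.toFinset := by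
      rw [Set.disjoint_toFinset]; exact hdisj
    rw [← Finset.sum_subset (Finset.subset_univ (X.toFinset ∪ Y.toFinset)),
      Finset.sum_union hdisjf] at h1
    · have hX : ∑ ψ ∈ X.toFinset, mreg p (χ₁ : K → ℂ) (ψ : K → ℂ) * mreg p (ψ : K → ℂ) (χ₁ : K → ℂ) =
          (1 - σ) ^ 2 + ((e : ℂ) - 1) * σ ^ 2 := by
        rw [← Finset.add_sum_erase _ _ hχ₁f]
        congr 1
        · rw [mregXX χ₁ hχ₁ χ₁ hχ₁, if_pos rfl]
          linear_combination (σ ^ 2 * ((εX χ₁ : ℂ) * (εX χ₁ : ℂ) + 1) - 2 * σ) * hεX2 χ₁ hχ₁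
        · have h2 : ∀ ψ ∈ X.toFinset.erase χ₁,
              mreg p (χ₁ : K → ℂ) (ψ : K → ℂ) * mreg p (ψ : K → ℂ) (χ₁ : K → ℂ) = σ ^ 2 := by
            intro ψ hψ
            have hψ' : ψ ∈ X := Set.mem_toFinset.1 (Finset.mem_of_mem_erase hψ)
            have hne : ψ ≠ χ₁ := Finset.ne_of_mem_erase hψ
            rw [mregXX χ₁ hχ₁ ψ hψ', mregXX ψ hψ' χ₁ hχ₁, if_neg hne, if_neg hne.symm]
            have a := hεX2 χ₁ hχ₁
            have b := hεX2 ψ hψ'
            linear_combination (σ ^ 2 * (εX ψ : ℂ) * (εX ψ : ℂ)) * a + σ ^ 2 * b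
          rw [Finset.sum_congr rfl h2, Finset.sum_const, Finset.card_erase_of_mem hχ₁f, hXfc,
            nsmul_eq_mul, Nat.cast_sub he1, Nat.cast_one]
      have hY : ∑ ψ ∈ Y.toFinset, mreg p (χ₁ : K → ℂ) (ψ : K → ℂ) * mreg p (ψ : K → ℂ) (χ₁ : K → ℂ) =
          (t : ℂ) * (1 - (e : ℂ) * σ) ^ 2 := by
        have h2 : ∀ ψ ∈ Y.toFinset,
            mreg p (χ₁ : K → ℂ) (ψ : K → ℂ) * mreg p (ψ : K → ℂ) (χ₁ : K → ℂ) =
              (1 - (e : ℂ) * σ) ^ 2 := by
          intro ψ hψ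
          have hψ' : ψ ∈ Y := Set.mem_toFinset.1 hψ
          rw [mreg_symm (p := p) (isCharacter_of_irr ψ.2) (isCharacter_of_irr χ₁.2),
            mregXY χ₁ hχ₁ ψ hψ']
          have a := hεX2 χ₁ hχ₁
          linear_combination ((1 - (e : ℂ) * σ) ^ 2 * (εX χ₁ : ℂ) * (εX χ₁ : ℂ)) * hε2 +
            (1 - (e : ℂ) * σ) ^ 2 * a
        rw [Finset.sum_congr rfl h2, Finset.sum_const, hYfc, nsmul_eq_mul]
      rw [hX, hY, mregXX χ₁ hχ₁ χ₁ hχ₁, if_pos rfl] at h1
      linear_combination h1 - σ * hεX2 χ₁ hχ₁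
    · intro ψ _ hψ
      have hψB : ψ ∉ principalBlock M K := by
        intro hB
        apply hψ
        rw [hXY] at hB
        rcases hB with hB | hB
        · exact Finset.mem_union_left _ (Set.mem_toFinset.2 hB)
        · exact Finset.mem_union_right _ (Set.mem_toFinset.2 hB)
      have hns : ¬ SameBlock M (χ₁ : K → ℂ) (ψ : K → ℂ) := by
        intro hs
        apply hψB
        rw [eq_blockOf_of_mem hMp (isPBlock_principalBlock (M := M) (G := K)) (hXB χ₁ hχ₁)]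
        exact hs
      have : mreg p (χ₁ : K → ℂ) (ψ : K → ℂ) = 0 := classInner_pRegularPart_eq_zero hM hns
      rw [this, zero_mul]
  have hint : ∃ n : ℤ, (p : ℂ) * (1 - σ) = n := by
    obtain ⟨n, hn⟩ := exists_int_mreg (p := p) hp χ₁.2 (isCharacter_of_irr χ₁.2)
    refine ⟨n, ?_⟩
    rw [← hn, h, pow_one, mregXX χ₁ hχ₁ χ₁ hχ₁, if_pos rfl]
    linear_combination ((p : ℂ) * σ) * hεX2 χ₁ hχ₁
  have hσeq : σ = (t : ℂ) / (p : ℂ) := sigma_eq hp he1 hedvd het (sing_ne_one hp) hquad hint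
  -- the basic set
  let f : ↥X ≃ Fin e := Finite.equivFinOfCardEq hXc
  set u : Fin e → K → ℂ := fun i =>
    ((εX (f.symm i).1 : ℤ) : ℂ) • pRegularPart p ((f.symm i).1 : K → ℂ) with hu
  have hu_apply : ∀ i, u i =
      ((εX (f.symm i).1 : ℤ) : ℂ) • pRegularPart p ((f.symm i).1 : K → ℂ) := fun i => rfl
  have hmem : ∀ i, u i ∈ AddSubgroup.closure (Set.range u) :=
    fun i => AddSubgroup.subset_closure ⟨i, rfl⟩
  refine ⟨e, t, u, he1, ?_, ?_, ?_, ?_, ?_⟩
  · rw [h, pow_one]; exact het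
  · rw [h, pow_one]; exact hetle
  · intro i
    rw [hu_apply, Int.cast_smul_eq_zsmul]
    exact AddSubgroup.zsmul_mem _ (pReg_mem_lat (hXB _ (f.symm i).2)) _
  · intro ψ hψ
    rw [hXY] at hψ
    rcases hψ with hψ | hψ
    · have : pRegularPart p (ψ : K → ℂ) = (εX ψ : ℤ) • u (f ⟨ψ, hψ⟩) := by
        rw [hu_apply, Equiv.symm_apply_apply]
        funext g
        simp only [Pi.smul_apply, smul_eq_mul, zsmul_eq_mul]
        linear_combination (-(pRegularPart p (ψ : K → ℂ) g)) * hεX2 ψ hψ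
      rw [this]
      exact AddSubgroup.zsmul_mem _ (hmem _) _
    · have : pRegularPart p (ψ : K → ℂ) = (ε : ℤ) • ∑ i : Fin e, u i := by
        funext g
        simp only [Pi.smul_apply, smul_eq_mul, zsmul_eq_mul, Finset.sum_apply, hu_apply]
        by_cases hg : p ∣ orderOf g
        · rw [pRegularPart_of_dvd _ hg]
          symm
          rw [Finset.sum_eq_zero]
          · simp
          · intro i _
            rw [pRegularPart_of_dvd _ hg, mul_zero]
        · rw [pRegularPart_of_not_dvd _ hg]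
          have h1 : ∑ i : Fin e, ((εX (f.symm i).1 : ℤ) : ℂ) *
              pRegularPart p ((f.symm i).1 : K → ℂ) g =
              ∑ χ ∈ X.toFinset, (εX χ : ℂ) * (χ : K → ℂ) g := by
            rw [Equiv.sum_comp f.symm (fun x : ↥X => ((εX x.1 : ℤ) : ℂ) *
              pRegularPart p (x.1 : K → ℂ) g)]
            rw [Finset.sum_set_coe X (f := fun χ => ((εX χ : ℤ) : ℂ) * pRegularPart p (χ : K → ℂ) g)]
            refine Finset.sum_congr rfl fun χ _ => ?_
            rw [pRegularPart_of_not_dvd _ hg]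
          rw [h1, ← hYX' ψ hψ g hg]
          linear_combination (-((ψ : K → ℂ) g)) * hε2
      rw [this]
      exact AddSubgroup.zsmul_mem _ (AddSubgroup.sum_mem _ (fun i _ => hmem i)) _
  · intro i j
    rw [hu_apply, hu_apply, classInner_smul_left, classInner_smul_right, map_intCast,
      ← classInner_pRegularPart_left]
    show ((εX (f.symm i).1 : ℤ) : ℂ) * (((εX (f.symm j).1 : ℤ) : ℂ) *
      mreg p ((f.symm i).1 : K → ℂ) ((f.symm j).1 : K → ℂ)) = _
    rw [mregXX _ (f.symm i).2 _ (f.symm j).2, h, pow_one, ← hσeq]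
    have a := hεX2 _ (f.symm i).2
    have b := hεX2 _ (f.symm j).2
    by_cases hij : i = j
    · subst hij
      rw [if_pos rfl, if_pos rfl]
      linear_combination (1 - σ * ((εX (f.symm i).1 : ℂ) * (εX (f.symm i).1 : ℂ) + 1)) * a
    · have hne : ((f.symm i).1 : IrrCharacter K) ≠ (f.symm j).1 := by
        intro hc
        exact hij (f.symm.injective (Subtype.ext hc))
      rw [if_neg hij, if_neg hne]
      linear_combination (-σ * (εX (f.symm j).1 : ℂ) * (εX (f.symm j).1 : ℂ)) * a - σ * b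

end Main

end PkDo

open PkDo in
/-- PK-Do -/
theorem hasSmallBasicSet_of_odd {K : Type u} [Group K] [Fintype K] {p : ℕ} [Fact p.Prime]
    {M : Ideal AlgInt} (hM : IsPModular p M) (hodd : p ≠ 2)
    (h : (Nat.card K).factorization p = 1) : HasSmallBasicSet p M K :=
  hasSmallBasicSet_of_odd_aux hM hodd h

end Cfsg.Agent.Lib.Helper8.HKS
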