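import Mathlib

set_option autoImplicit false

namespace Cfsg.Agent.Lib.Helper8.HKS

namespace PkE

/-- the `e + 1` difference vectors of the `A_e` form: `c⁰ = e₀`, `cʲ = eⱼ - eⱼ₋₁`, `cᵉ = - eₑ₋₁` -/
def cvec (e : ℕ) (j : Fin (e + 1)) (i : Fin e) : ℤ :=
  (if (i : ℕ) = (j : ℕ) then 1 else 0) - (if (i : ℕ) + 1 = (j : ℕ) then 1 else 0)

/-- extension by zero -/
noncomputable def ext {e : ℕ} (v : Fin e → ℂ) (n : ℕ) : ℂ := if h : n < e then v ⟨n, h⟩ else 0

theorem sum_ind_left {e : ℕ} (j : ℕ) (v : Fin e → ℂ) :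
    ∑ i : Fin e, (if (i : ℕ) = j then (1 : ℂ) else 0) * v i = ext v j := by
  unfold ext
  by_cases h : j < e
  · rw [dif_pos h, Finset.sum_eq_single (⟨j, h⟩ : Fin e)]
    · simp
    · intro b _ hb
      rw [if_neg, zero_mul]
      intro hbj
      exact hb (Fin.ext hbj)
    · simp
  · rw [dif_neg h]
    apply Finset.sum_eq_zero
    intro i _
    rw [if_neg, zero_mul]
    have := i.2
    omega

theorem sum_ind_right {e : ℕ} (j : ℕ) (v : Fin e → ℂ) :
    ∑ i : Fin e, (if (i : ℕ) + 1 = j then (1 : ℂ) else 0) * v i =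
      if j = 0 then 0 else ext v (j - 1) := by
  by_cases hj : j = 0
  · rw [if_pos hj]
    apply Finset.sum_eq_zero
    intro i _
    rw [if_neg, zero_mul]
    omega
  · rw [if_neg hj, ← sum_ind_left (j - 1) v]
    apply Finset.sum_congr rfl
    intro i _
    have : ((i : ℕ) + 1 = j) ↔ ((i : ℕ) = j - 1) := by omega
    simp only [this]

theorem eval {e : ℕ} (v : Fin e → ℂ) (j : Fin (e + 1)) :
    ∑ i : Fin e, ((cvec e j i : ℤ) : ℂ) * v i =
      ext v j - (if (j : ℕ) = 0 then 0 else ext v ((j : ℕ) - 1)) := by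
  rw [← sum_ind_left, ← sum_ind_right, ← Finset.sum_sub_distrib]
  apply Finset.sum_congr rfl
  intro i _
  unfold cvec
  push_cast
  ring

theorem ext_eq_zero_of {e : ℕ} (v : Fin e → ℂ)
    (h : ∀ j : Fin (e + 1), ∑ i : Fin e, ((cvec e j i : ℤ) : ℂ) * v i = 0) :
    ∀ n : ℕ, ext v n = 0 := by
  intro n
  induction n with
  | zero =>
    by_cases h0 : 0 < e + 1
    · have := h ⟨0, h0⟩
      rw [eval] at this
      simpa using this
    · omega
  | succ n ih =>
    by_cases hn : n + 1 < e + 1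
    · have := h ⟨n + 1, hn⟩
      rw [eval] at this
      simp only [Nat.add_one_ne_zero, if_false, Nat.add_sub_cancel] at this
      rw [ih, sub_zero] at this
      exact this
    · unfold ext
      rw [dif_neg]
      omega

theorem eq_zero_of {e : ℕ} (v : Fin e → ℂ)
    (h : ∀ j : Fin (e + 1), ∑ i : Fin e, ((cvec e j i : ℤ) : ℂ) * v i = 0) (i : Fin e) :
    v i = 0 := by
  have := ext_eq_zero_of v h i
  unfold ext at this
  rw [dif_pos i.2] at this
  exact this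

theorem sum_cvec (e : ℕ) (i : Fin e) : ∑ j : Fin (e + 1), cvec e j i = 0 := by
  unfold cvec
  rw [Finset.sum_sub_distrib]
  have h1 : ∑ j : Fin (e + 1), (if (i : ℕ) = (j : ℕ) then (1 : ℤ) else 0) = 1 := by
    rw [Finset.sum_eq_single (⟨i, by have := i.2; omega⟩ : Fin (e + 1))]
    · simp
    · intro b _ hb
      rw [if_neg]
      intro hbj
      exact hb (Fin.ext hbj.symm)
    · simp
  have h2 : ∑ j : Fin (e + 1), (if (i : ℕ) + 1 = (j : ℕ) then (1 : ℤ) else 0) = 1 := by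
    rw [Finset.sum_eq_single (⟨i + 1, by have := i.2; omega⟩ : Fin (e + 1))]
    · simp
    · intro b _ hb
      rw [if_neg]
      intro hbj
      exact hb (Fin.ext hbj.symm)
    · simp
  rw [h1, h2, sub_self]

theorem sum_eval {e : ℕ} (v : Fin e → ℂ) :
    ∑ j : Fin (e + 1), ∑ i : Fin e, ((cvec e j i : ℤ) : ℂ) * v i = 0 := by
  rw [Finset.sum_comm]
  apply Finset.sum_eq_zero
  intro i _
  rw [← Finset.sum_mul]
  have := sum_cvec e i
  have h2 : ∑ j : Fin (e + 1), ((cvec e j i : ℤ) : ℂ) = ((∑ j : Fin (e + 1), cvec e j i : ℤ) : ℂ) := by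
    push_cast; rfl
  rw [h2, this]
  simp

/-- squared length of the difference vectors -/
theorem sum_sq_cvec (e : ℕ) (j : Fin (e + 1)) :
    ∑ i : Fin e, ((cvec e j i : ℤ) : ℝ) ^ 2 =
      (if (j : ℕ) < e then 1 else 0) + (if (j : ℕ) = 0 then 0 else 1) := by
  have h : ∀ i : Fin e, ((cvec e j i : ℤ) : ℝ) ^ 2 =
      (if (i : ℕ) = (j : ℕ) then (1 : ℝ) else 0) + (if (i : ℕ) + 1 = (j : ℕ) then (1 : ℝ) else 0) := by
    intro i
    unfold cvec
    by_cases h1 : (i : ℕ) = (j : ℕ)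
    · have h2 : ¬ ((i : ℕ) + 1 = (j : ℕ)) := by omega
      simp [h1, h2]
    · by_cases h2 : (i : ℕ) + 1 = (j : ℕ)
      · simp [h1, h2]
      · simp [h1, h2]
  simp_rw [h]
  rw [Finset.sum_add_distrib]
  congr 1
  · by_cases hj : (j : ℕ) < e
    · rw [if_pos hj, Finset.sum_eq_single (⟨j, hj⟩ : Fin e)]
      · simp
      · intro b _ hb
        rw [if_neg]
        intro hbj
        exact hb (Fin.ext hbj)
      · simp
    · rw [if_neg hj]
      apply Finset.sum_eq_zero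
      intro i _
      rw [if_neg]
      have := i.2
      omega
  · by_cases hj : (j : ℕ) = 0
    · rw [if_pos hj]
      apply Finset.sum_eq_zero
      intro i _
      rw [if_neg]
      omega
    · rw [if_neg hj]
      have hlt : (j : ℕ) - 1 < e := by have := j.2; omega
      rw [Finset.sum_eq_single (⟨(j : ℕ) - 1, hlt⟩ : Fin e)]
      · rw [if_pos]
        show (j : ℕ) - 1 + 1 = (j : ℕ)
        omega
      · intro b _ hb
        rw [if_neg]
        intro hbj
        apply hb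
        apply Fin.ext
        show (b : ℕ) = (j : ℕ) - 1
        omega
      · simp

/-- coordinate sum of the difference vectors -/
theorem sum_cvec_coord (e : ℕ) (j : Fin (e + 1)) :
    ∑ i : Fin e, ((cvec e j i : ℤ) : ℝ) =
      (if (j : ℕ) < e then 1 else 0) - (if (j : ℕ) = 0 then 0 else 1) := by
  have h : ∀ i : Fin e, ((cvec e j i : ℤ) : ℝ) =
      (if (i : ℕ) = (j : ℕ) then (1 : ℝ) else 0) - (if (i : ℕ) + 1 = (j : ℕ) then (1 : ℝ) else 0) := by
    intro i
    unfold cvec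
    push_cast
    rfl
  simp_rw [h]
  rw [Finset.sum_sub_distrib]
  congr 1
  · by_cases hj : (j : ℕ) < e
    · rw [if_pos hj, Finset.sum_eq_single (⟨j, hj⟩ : Fin e)]
      · simp
      · intro b _ hb
        rw [if_neg]
        intro hbj
        exact hb (Fin.ext hbj)
      · simp
    · rw [if_neg hj]
      apply Finset.sum_eq_zero
      intro i _
      rw [if_neg]
      have := i.2
      omega
  · by_cases hj : (j : ℕ) = 0
    · rw [if_pos hj]
      apply Finset.sum_eq_zero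
      intro i _
      rw [if_neg]
      omega
    · rw [if_neg hj]
      have hlt : (j : ℕ) - 1 < e := by have := j.2; omega
      rw [Finset.sum_eq_single (⟨(j : ℕ) - 1, hlt⟩ : Fin e)]
      · rw [if_pos]
        show (j : ℕ) - 1 + 1 = (j : ℕ)
        omega
      · intro b _ hb
        rw [if_neg]
        intro hbj
        apply hb
        apply Fin.ext
        show (b : ℕ) = (j : ℕ) - 1
        omega
      · simp

/-- total cost of the `e + 1` difference vectors -/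
theorem total_cost (e : ℕ) (he : 1 ≤ e) (t : ℝ) :
    ∑ j : Fin (e + 1), (∑ i : Fin e, ((cvec e j i : ℤ) : ℝ) ^ 2 +
      t * (∑ i : Fin e, ((cvec e j i : ℤ) : ℝ)) ^ 2) = 2 * ((e : ℝ) + t) := by
  simp_rw [sum_sq_cvec, sum_cvec_coord]
  have hsq : ∀ j : Fin (e + 1),
      (((if (j : ℕ) < e then (1 : ℝ) else 0) - (if (j : ℕ) = 0 then 0 else 1)) ^ 2 : ℝ) =
        (if (j : ℕ) = 0 then 1 else 0) + (if (j : ℕ) = e then 1 else 0) := by
    intro j
    have := j.2
    by_cases h0 : (j : ℕ) = 0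
    · have h1 : (j : ℕ) < e := by omega
      have h2 : ¬ ((j : ℕ) = e) := by omega
      rw [if_pos h1, if_pos h0, if_pos h0, if_neg h2]
      norm_num
    · by_cases h1 : (j : ℕ) = e
      · have h2 : ¬ ((j : ℕ) < e) := by omega
        rw [if_neg h2, if_neg h0, if_neg h0, if_pos h1]
        norm_num
      · have h2 : (j : ℕ) < e := by omega
        rw [if_pos h2, if_neg h0, if_neg h0, if_neg h1]
        norm_num
  simp_rw [hsq]
  rw [Finset.sum_add_distrib, Finset.sum_add_distrib, ← Finset.mul_sum, Finset.sum_add_distrib]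
  have e1 : ∑ j : Fin (e + 1), (if (j : ℕ) < e then (1 : ℝ) else 0) = e := by
    rw [Fin.sum_univ_eq_sum_range (fun n => if n < e then (1 : ℝ) else 0) (e + 1),
      Finset.sum_range_succ]
    rw [if_neg (lt_irrefl e), add_zero]
    rw [Finset.sum_congr rfl (fun n hn => if_pos (Finset.mem_range.1 hn))]
    simp
  have e2 : ∑ j : Fin (e + 1), (if (j : ℕ) = 0 then (0 : ℝ) else 1) = e := by
    rw [Fin.sum_univ_eq_sum_range (fun n => if n = 0 then (0 : ℝ) else 1) (e + 1),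
      Finset.sum_range_succ']
    simp
  have e3 : ∑ j : Fin (e + 1), (if (j : ℕ) = 0 then (1 : ℝ) else 0) = 1 := by
    rw [Fin.sum_univ_eq_sum_range (fun n => if n = 0 then (1 : ℝ) else 0) (e + 1),
      Finset.sum_range_succ']
    simp
  have e4 : ∑ j : Fin (e + 1), (if (j : ℕ) = e then (1 : ℝ) else 0) = 1 := by
    rw [Fin.sum_univ_eq_sum_range (fun n => if n = e then (1 : ℝ) else 0) (e + 1),
      Finset.sum_range_succ]
    rw [if_pos rfl]
    rw [Finset.sum_congr rfl (fun n hn => if_neg (ne_of_lt (Finset.mem_range.1 hn)))]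
    simp
  rw [e1, e2, e3, e4]
  ring

end PkE

open PkE in
theorem card_le_of_frames {I : Type*} [Fintype I] (S : Finset I) {e : ℕ} (he : 1 ≤ e)
    (K : Finset ℕ) (y : I → ℕ → Fin e → ℂ) (φ : ℝ) (hφ : 0 < φ) (hK : (K.card : ℝ) = φ)
    (z t : ℕ)
    (hframe : ∀ k ∈ K, ∀ c : Fin e → ℤ,
      ∑ ζ : I, Complex.normSq (∑ i, (c i : ℂ) * y ζ k i) =
        (z : ℝ) * (∑ i, (c i : ℝ) ^ 2 + (t : ℝ) * (∑ i, (c i : ℝ)) ^ 2))
    (hgal : ∀ ζ : I, ∀ c : Fin e → ℤ, ∑ i, (c i : ℂ) * y ζ 1 i ≠ 0 →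
      φ ≤ ∑ k ∈ K, Complex.normSq (∑ i, (c i : ℂ) * y ζ k i))
    (hne : ∀ ζ ∈ S, ∃ i, y ζ 1 i ≠ 0) :
    S.card ≤ z * (e + t) := by
  classical
  set T : I → ℝ := fun ζ => ∑ j : Fin (e + 1), ∑ k ∈ K,
    Complex.normSq (∑ i, ((cvec e j i : ℤ) : ℂ) * y ζ k i) with hT
  have hTnn : ∀ ζ, 0 ≤ T ζ := fun ζ =>
    Finset.sum_nonneg (fun j _ => Finset.sum_nonneg (fun k _ => Complex.normSq_nonneg _))
  -- lower bound on `S`
  have hlow : ∀ ζ ∈ S, 2 * φ ≤ T ζ := by
    intro ζ hζ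
    obtain ⟨i0, hi0⟩ := hne ζ hζ
    have hex : ∃ j₁ : Fin (e + 1), ∑ i, ((cvec e j₁ i : ℤ) : ℂ) * y ζ 1 i ≠ 0 := by
      by_contra hcon
      push_neg at hcon
      exact hi0 (eq_zero_of (y ζ 1) hcon i0)
    obtain ⟨j₁, hj₁⟩ := hex
    have hex2 : ∃ j₂ : Fin (e + 1), j₂ ≠ j₁ ∧ ∑ i, ((cvec e j₂ i : ℤ) : ℂ) * y ζ 1 i ≠ 0 := by
      by_contra hcon
      push_neg at hcon
      have hs := sum_eval (y ζ 1)
      rw [Finset.sum_eq_single j₁ (fun b _ hb => hcon b hb) (by simp)] at hs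
      exact hj₁ hs
    obtain ⟨j₂, hj₂₁, hj₂⟩ := hex2
    have h1 := hgal ζ (cvec e j₁) hj₁
    have h2 := hgal ζ (cvec e j₂) hj₂
    have hsub : ∑ j ∈ ({j₁, j₂} : Finset (Fin (e + 1))), ∑ k ∈ K,
        Complex.normSq (∑ i, ((cvec e j i : ℤ) : ℂ) * y ζ k i) ≤ T ζ := by
      apply Finset.sum_le_sum_of_subset_of_nonneg (Finset.subset_univ _)
      intro j _ _
      exact Finset.sum_nonneg (fun k _ => Complex.normSq_nonneg _)
    rw [Finset.sum_pair hj₂₁.symm] at hsub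
    linarith
  -- total
  have htot : ∑ ζ : I, T ζ = φ * ((z : ℝ) * (2 * ((e : ℝ) + (t : ℝ)))) := by
    simp only [hT]
    rw [Finset.sum_comm]
    have : ∀ j : Fin (e + 1), ∑ ζ : I, ∑ k ∈ K,
        Complex.normSq (∑ i, ((cvec e j i : ℤ) : ℂ) * y ζ k i) =
        φ * ((z : ℝ) * (∑ i : Fin e, ((cvec e j i : ℤ) : ℝ) ^ 2 +
          (t : ℝ) * (∑ i : Fin e, ((cvec e j i : ℤ) : ℝ)) ^ 2)) := by
      intro j
      rw [Finset.sum_comm]
      rw [Finset.sum_congr rfl (fun k hk => hframe k hk (cvec e j))]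
      rw [Finset.sum_const, nsmul_eq_mul, hK]
    rw [Finset.sum_congr rfl (fun j _ => this j)]
    rw [← Finset.mul_sum, ← Finset.mul_sum, total_cost e he]
  have hS : ∑ ζ ∈ S, T ζ ≤ ∑ ζ : I, T ζ :=
    Finset.sum_le_sum_of_subset_of_nonneg (Finset.subset_univ _) (fun ζ _ _ => hTnn ζ)
  have hS2 : (S.card : ℝ) * (2 * φ) ≤ ∑ ζ ∈ S, T ζ := by
    have := Finset.card_nsmul_le_sum S T (2 * φ) hlow
    rwa [nsmul_eq_mul] at this
  have hfin : (S.card : ℝ) * (2 * φ) ≤ φ * ((z : ℝ) * (2 * ((e : ℝ) + (t : ℝ)))) := by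
    linarith
  have hfin2 : (S.card : ℝ) ≤ (z : ℝ) * ((e : ℝ) + (t : ℝ)) := by
    have h2φ : 0 < 2 * φ := by linarith
    have : (S.card : ℝ) * (2 * φ) ≤ ((z : ℝ) * ((e : ℝ) + (t : ℝ))) * (2 * φ) := by
      calc (S.card : ℝ) * (2 * φ) ≤ φ * ((z : ℝ) * (2 * ((e : ℝ) + (t : ℝ)))) := hfin
        _ = ((z : ℝ) * ((e : ℝ) + (t : ℝ))) * (2 * φ) := by ring
    exact le_of_mul_le_mul_right this h2φ
  exact_mod_cast hfin2

end Cfsg.Agent.Lib.Helper8.HKS
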