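import Cfsg.Agent.Lib.Helper1.HSM2
import Cfsg.Agent.Lib.Helper5.Chain1

set_option autoImplicit false
set_option maxRecDepth 100000

/-! # The Higman–Sims group (even automorphisms of the standard graph on 100 vertices) as a
permutation model: four letters, the two generators and their inverses -/

namespace Cfsg.Agent.Lib.Helper5.HSOut

open Cfsg Equiv Cfsg.Agent.Lib.Helper1 Cfsg.Agent.Lib.Helper1.HSG Cfsg.Agent.Lib.Helper1.HSI
  Cfsg.Agent.Lib.Helper1.HSM Cfsg.Agent.Lib.Helper1.MatCode
  Cfsg.Agent.Lib.Helper6.TC Cfsg.Agent.Lib.Helper6.PM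

/-- the tables of the inverses of the letters -/
def tabs (c : ℕ) : List ℕ := [aInvL, bInvL, aL, bL].getD c []

/-- the right action of the letters -/
def px (c q : ℕ) : ℕ := (tabs c).getD q 0

/-- the letters -/
noncomputable def LT : List Gh := [gA, gB, gA⁻¹, gB⁻¹]

/-- the element of a word -/
noncomputable def elt (w : List ℕ) : Gh := wordProd LT w

theorem px_lt : ∀ c < 4, ∀ q < 100, px c q < 100 := by decide +kernel

theorem φ_gA (x : Fin 100) : (φ gA x).val = aL.getD x.val 0 := φ0_autOfList aL aInvL a_perm a_adj x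

theorem φ_gB (x : Fin 100) : (φ gB x).val = bL.getD x.val 0 := φ0_autOfList bL bInvL b_perm b_adj x

theorem φ_inv_of_tbl (g : Gh) (l l' : List ℕ) (hp : TblPerm l l')
    (hg : ∀ x : Fin 100, (φ g x).val = l.getD x.val 0) (x : Fin 100) :
    ((φ g)⁻¹ x).val = l'.getD x.val 0 := by
  obtain ⟨-, h2, -, h4⟩ := hp x.val x.isLt
  have : (φ g)⁻¹ x = ⟨l'.getD x.val 0, h2⟩ := by
    rw [Equiv.Perm.inv_eq_iff_eq]
    apply Fin.ext
    rw [hg]
    exact h4.symm
  rw [this]

theorem phi_inv_letter (c : ℕ) (hc : c < 4) (x : Fin 100) :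
    ((φ (LT.getD c 1))⁻¹ x).val = px c x.val := by
  interval_cases c
  · exact φ_inv_of_tbl gA aL aInvL a_perm φ_gA x
  · exact φ_inv_of_tbl gB bL bInvL b_perm φ_gB x
  · show ((φ gA⁻¹)⁻¹ x).val = _
    rw [map_inv, inv_inv]
    exact φ_gA x
  · show ((φ gB⁻¹)⁻¹ x).val = _
    rw [map_inv, inv_inv]
    exact φ_gB x

theorem phi_inv_val (w : List ℕ) (hw : ∀ c ∈ w, c < 4) (x : Fin 100) :
    ((φ (elt w))⁻¹ x).val = wapp px w x.val := by
  induction w generalizing x with
  | nil =>
    show ((φ (wordProd LT []))⁻¹ x).val = _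
    rw [wordProd_nil, map_one, inv_one]
    rfl
  | cons c w ih =>
    show ((φ (wordProd LT (c :: w)))⁻¹ x).val = _
    rw [wordProd_cons, map_mul, mul_inv_rev, Equiv.Perm.mul_apply, wapp_cons]
    have hc : c < 4 := hw c List.mem_cons_self
    have h1 := ih (fun c' hc' => hw c' (List.mem_cons_of_mem _ hc')) ((φ (LT.getD c 1))⁻¹ x)
    rw [phi_inv_letter c hc x] at h1
    exact h1

theorem closure_letters : Subgroup.closure {g : Gh | ∃ c < 4, g = elt [c]} = ⊤ := by
  rw [eq_top_iff, ← hgen352]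
  apply Subgroup.closure_mono
  rintro g ⟨i, hi, rfl⟩
  have hi2 : i < 2 := hi
  refine ⟨i, by omega, ?_⟩
  show _ = wordProd LT [i]
  rw [wordProd_cons, wordProd_nil, mul_one]
  interval_cases i <;> rfl

/-- the model -/
noncomputable def hsModel : PModel where
  G := Gh
  n := 100
  nl := 4
  px := px
  elt := elt
  phi := φ
  elt_nil := wordProd_nil LT
  elt_append := wordProd_append LT
  px_lt := px_lt
  phi_inv_val := phi_inv_val
  phi_injective := φ_injective
  closure_letters := closure_letters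

end Cfsg.Agent.Lib.Helper5.HSOut
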