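import Cfsg.Agent.Lib.Helper5.HSOut2

set_option autoImplicit false
set_option maxRecDepth 100000

namespace Cfsg.Agent.Lib.Helper5.HSOut

open Cfsg.Agent.Lib.Helper6.TC Cfsg.Agent.Lib.Helper6.PM Cfsg.Agent.Lib.Helper2.PMS
open Cfsg.Agent.Lib.Helper5.Chain Cfsg.Agent.Lib.Helper1.HSM

theorem hsM_n : hsM.n = 100 := rfl
theorem hsM_nl : hsM.nl = 31 := by
  show (slpModel hsModel ds pm chk_slp).nl = 31
  rw [slpModel_nl]
  rfl
theorem hsM_px : hsM.px = pm := rfl

theorem card_hsM : Nat.card hsM.G = 44352000 := card_Gh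

theorem factsA : ChainFacts hsM DA where
  hbase := by
    rw [hsM_n]
    decide
  hlet := by
    rw [hsM_nl]
    exact letters_of_chkLet 31 DA.levels (by decide +kernel)
  hchain := by
    rw [hsM_px]
    exact isChain_of_chk pm DA.base DA.levels (by decide +kernel)
  hcard := by
    rw [card_hsM]
    decide +kernel

theorem factsB : ChainFacts hsM DB where
  hbase := by
    rw [hsM_n]
    decide
  hlet := by
    rw [hsM_nl]
    exact letters_of_chkLet 31 DB.levels (by decide +kernel)
  hchain := by
    rw [hsM_px]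
    exact isChain_of_chk pm DB.base DB.levels (by decide +kernel)
  hcard := by
    rw [card_hsM]
    decide +kernel

end Cfsg.Agent.Lib.Helper5.HSOut
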