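import Cfsg.Agent.Lib.Helper5.HSOut3
import Cfsg.Agent.Lib.Helper5.Chain3

set_option autoImplicit false
set_option maxRecDepth 100000

/-! # The Higman–Sims group: an element of order 11, its normalizer, and the centralizer of an
element of order 5 -/

namespace Cfsg.Agent.Lib.Helper5.HSOut

open Cfsg.Agent.Lib.Helper6.TC Cfsg.Agent.Lib.Helper6.PM Cfsg.Agent.Lib.Helper2.PMS
open Cfsg.Agent.Lib.Helper5.Chain Cfsg.Agent.Lib.Helper1.HSM

/-- the element of order 11 -/
noncomputable def gp : hsM.G := hsM.elt [1]

/-- the element of order 5 normalizing it -/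
noncomputable def gh : hsM.G := hsM.elt [14]

/-- the third generator, of order 5 -/
noncomputable def gv : hsM.G := hsM.elt [29]

theorem eq_of_chk (w w' : List ℕ) (h : chkEq hsM w w' = true) : hsM.elt w = hsM.elt w' :=
  elt_eq_of_chk hsM w w' h

theorem gp_pow : gp ^ 11 = 1 := by
  rw [gp, ← elt_replicate, ← hsM.elt_nil]
  exact eq_of_chk _ _ (by decide +kernel)

theorem gp_ne : gp ≠ 1 := by
  rw [gp, ← hsM.elt_nil]
  exact elt_ne_of_chk hsM _ _ (by decide +kernel)

theorem orderOf_gp : orderOf gp = 11 := by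
  haveI : Fact (Nat.Prime 11) := ⟨by norm_num⟩
  exact orderOf_eq_prime gp_pow gp_ne

theorem gh_pow : gh ^ 5 = 1 := by
  rw [gh, ← elt_replicate, ← hsM.elt_nil]
  exact eq_of_chk _ _ (by decide +kernel)

theorem gh_ne : gh ≠ 1 := by
  rw [gh, ← hsM.elt_nil]
  exact elt_ne_of_chk hsM _ _ (by decide +kernel)

theorem orderOf_gh : orderOf gh = 5 := by
  haveI : Fact (Nat.Prime 5) := ⟨by norm_num⟩
  exact orderOf_eq_prime gh_pow gh_ne

theorem gh_inv : gh⁻¹ = hsM.elt [15] := by
  have h : gh * hsM.elt [15] = 1 := by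
    rw [gh, ← hsM.elt_append, ← hsM.elt_nil]
    exact eq_of_chk _ _ (by decide +kernel)
  exact (eq_inv_of_mul_eq_one_right h).symm ▸ rfl

theorem rel_ph : gh⁻¹ * gp * gh = gp ^ 3 := by
  rw [gh_inv, gp, gh, ← hsM.elt_append, ← hsM.elt_append, ← elt_replicate]
  exact eq_of_chk _ _ (by decide +kernel)

theorem elt_pows (i j : ℕ) :
    hsM.elt (List.replicate i 1 ++ List.replicate j 14) = gp ^ i * gh ^ j := by
  rw [hsM.elt_append, elt_replicate, elt_replicate]
  rfl

theorem elt_pows' (a b : ℕ) :
    hsM.elt (List.replicate a 14 ++ List.replicate b 29) = gh ^ a * gv ^ b := by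
  rw [hsM.elt_append, elt_replicate, elt_replicate]
  rfl

/-- the images of the base points of the first chain under an element normalizing `⟨p⟩` -/
noncomputable def csA (k z : ℕ) : List ℕ :=
  32 :: (List.range 5).map fun j => wappS pm (List.replicate (k * j) 1) z

/-- the words of the elements of the normalizer -/
def NL : List (List ℕ) :=
  (List.range 11).flatMap fun i => (List.range 5).map fun j =>
    List.replicate i 1 ++ List.replicate j 14

/-- the test of a candidate element of the normalizer -/
noncomputable def goodN (k : ℕ) (u : List ℕ) : Bool :=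
  !(chkEq hsM (1 :: u) (u ++ List.replicate k 1)) || NL.any fun w' => chkEq hsM u w'

theorem normA_chk : ((List.range 11).all fun k => k == 0 || (List.range 100).all fun z =>
    match sift hsM DA (csA k z) with
    | none => true
    | some u => goodN k u) = true := by decide +kernel

theorem normA (k : ℕ) (hk : k < 11) (hk0 : k ≠ 0) (z : ℕ) (hz : z < 100) (u : List ℕ)
    (h : sift hsM DA (csA k z) = some u) : goodN k u = true := by
  have h1 := normA_chk
  simp only [List.all_eq_true, List.mem_range, Bool.or_eq_true, beq_iff_eq] at h1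
  have h2 := (h1 k hk).resolve_left hk0 z hz
  rw [h] at h2
  exact h2

theorem fixA_chk : ((List.range 11).all fun k => k == 0 || (List.range 100).all fun q =>
    (wappS pm (List.replicate k 1) q != q) || q == 32) = true := by decide +kernel

theorem fixA (k : ℕ) (hk : k < 11) (hk0 : k ≠ 0) (q : ℕ) (hq : q < 100)
    (h : wapp pm (List.replicate k 1) q = q) : q = 32 := by
  have h1 := fixA_chk
  simp only [List.all_eq_true, List.mem_range, Bool.or_eq_true, beq_iff_eq, bne_iff_ne,
    wappS_eq] at h1
  rcases (h1 k hk).resolve_left hk0 q hq with h2 | h2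
  · exact absurd h h2
  · exact h2

theorem lt31 (w : List ℕ) (h : w.all (fun c => decide (c < 31)) = true) : ∀ c ∈ w, c < hsM.nl := by
  rw [hsM_nl]
  simpa using h

theorem replicate_lt (k c : ℕ) (hc : c < 31) : ∀ c' ∈ List.replicate k c, c' < hsM.nl := by
  intro c' hc'
  rw [List.mem_replicate] at hc'
  rw [hc'.2, hsM_nl]
  exact hc

theorem ract_gp_pow (j q : ℕ) (hq : q < 100) :
    ract hsM (gp ^ j) q = wapp pm (List.replicate j 1) q := by
  rw [gp, ← elt_replicate, ract_elt hsM _ (replicate_lt j 1 (by norm_num)) q hq]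
  rfl

theorem ract_gh_pow (j q : ℕ) (hq : q < 100) :
    ract hsM (gh ^ j) q = wapp pm (List.replicate j 14) q := by
  rw [gh, ← elt_replicate, ract_elt hsM _ (replicate_lt j 14 (by norm_num)) q hq]
  rfl

/-- the normalizer of `⟨p⟩` -/
theorem normalizer_gp (n : hsM.G) (hn : ∃ k : ℕ, n⁻¹ * gp * n = gp ^ k) :
    ∃ i j : ℕ, n = gp ^ i * gh ^ j := by
  obtain ⟨k, hk⟩ := hn
  have hk' : n⁻¹ * gp * n = gp ^ (k % 11) := by
    rw [hk, ← orderOf_gp, pow_mod_orderOf]
  have hklt : k % 11 < 11 := Nat.mod_lt _ (by norm_num)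
  have key : gp * n = n * gp ^ (k % 11) := by
    rw [← hk']
    group
  have hk0 : k % 11 ≠ 0 := by
    intro h0
    rw [h0, pow_zero, mul_one] at key
    exact gp_ne (mul_right_cancel (key.trans (one_mul n).symm))
  set k' := k % 11 with hk'def
  set z := ract hsM n 2 with hz
  have hzlt : z < 100 := ract_lt hsM n 2
  -- the images of the base points
  have h32 : ract hsM n 32 = 32 := by
    apply fixA k' hklt hk0 _ (ract_lt hsM n 32)
    have e32 : ract hsM gp 32 = 32 := by
      have := ract_gp_pow 1 32 (by norm_num)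
      rw [pow_one] at this
      rw [this]
      rfl
    rw [← ract_gp_pow k' _ (ract_lt hsM n 32), ← ract_of_rel key, e32]
  have hj : ∀ j : ℕ, ract hsM n (wapp pm (List.replicate j 1) 2) =
      wapp pm (List.replicate (k' * j) 1) z := by
    intro j
    rw [← ract_gp_pow j 2 (by norm_num), ract_of_rel (pow_rel key j), ← pow_mul,
      ract_gp_pow (k' * j) z hzlt]
  have himgs : DA.base.map (ract hsM n) = csA k' z := by
    show [ract hsM n 32, ract hsM n 2, ract hsM n 94, ract hsM n 87, ract hsM n 47,
      ract hsM n 68] = _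
    have e0 := hj 0
    have e1 := hj 1
    have e2 := hj 2
    have e3 := hj 3
    have e4 := hj 4
    rw [h32]
    unfold csA
    simp only [List.range, List.range.loop, List.map_cons, List.map_nil, wappS_eq]
    rw [← e0, ← e1, ← e2, ← e3, ← e4]
    rfl
  obtain ⟨u, hs, hu, hlu⟩ := factsA.sift_spec n
  rw [himgs] at hs
  have hg := normA k' hklt hk0 z hzlt u hs
  unfold goodN at hg
  rw [Bool.or_eq_true] at hg
  rcases hg with hg | hg
  · exfalso
    have hlu' : ∀ c ∈ u, c < hsM.nl := hlu
    have h1 : chkEq hsM (1 :: u) (u ++ List.replicate k' 1) = true := by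
      apply chkEq_of_elt_eq
      · intro c hc
        rcases List.mem_cons.mp hc with rfl | hc
        · rw [hsM_nl]; norm_num
        · exact hlu' c hc
      · intro c hc
        rcases List.mem_append.mp hc with hc | hc
        · exact hlu' c hc
        · exact replicate_lt k' 1 (by norm_num) c hc
      · rw [hsM.elt_cons, hsM.elt_append, elt_replicate, hu]
        exact key
    rw [h1] at hg
    simp at hg
  · rw [List.any_eq_true] at hg
    obtain ⟨w', hw', he⟩ := hg
    have h2 := eq_of_chk u w' he
    rw [hu] at h2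
    unfold NL at hw'
    rw [List.mem_flatMap] at hw'
    obtain ⟨i, _, hw'⟩ := hw'
    rw [List.mem_map] at hw'
    obtain ⟨j, _, rfl⟩ := hw'
    exact ⟨i, j, by rw [h2, elt_pows]⟩

end Cfsg.Agent.Lib.Helper5.HSOut
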