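import Cfsg.Agent.Lib.Helper5.HSOut4
import Cfsg.Agent.Lib.Helper5.Rigid1

set_option autoImplicit false
set_option maxRecDepth 100000

/-! # The Higman–Sims group: the centralizer of the element of order 5, generation, rigidity -/

namespace Cfsg.Agent.Lib.Helper5.HSOut

open Cfsg.Agent.Lib.Helper6.TC Cfsg.Agent.Lib.Helper6.PM Cfsg.Agent.Lib.Helper2.PMS
open Cfsg.Agent.Lib.Helper5.Chain Cfsg.Agent.Lib.Helper1.HSM

/-- the images of the base points of the second chain under an element centralizing `h` -/
noncomputable def csB (z : ℕ) : List ℕ :=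
  (List.range 5).map fun j => wappS pm (List.replicate j 14) z

/-- the words of the elements of the centralizer -/
def CL : List (List ℕ) :=
  (List.range 5).flatMap fun a => (List.range 5).map fun b =>
    List.replicate a 14 ++ List.replicate b 29

/-- the test of a candidate element of the centralizer -/
noncomputable def goodC (u : List ℕ) : Bool :=
  !(chkEq hsM (14 :: u) (u ++ [14])) || CL.any fun w' => chkEq hsM u w'

theorem centB_chk : ((List.range 100).all fun z =>
    match sift hsM DB (csB z) with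
    | none => true
    | some u => goodC u) = true := by decide +kernel

theorem centB (z : ℕ) (hz : z < 100) (u : List ℕ)
    (h : sift hsM DB (csB z) = some u) : goodC u = true := by
  have h1 := centB_chk
  simp only [List.all_eq_true, List.mem_range] at h1
  have h2 := h1 z hz
  rw [h] at h2
  exact h2

/-- the centralizer of `h` -/
theorem centralizer_gh (c : hsM.G) (hc : c * gh = gh * c) :
    ∃ a < 5, ∃ b < 5, c = gh ^ a * gv ^ b := by
  have key : gh * c = c * gh := hc.symm
  set z := ract hsM c 6 with hz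
  have hzlt : z < 100 := ract_lt hsM c 6
  have hj : ∀ j : ℕ, ract hsM c (wapp pm (List.replicate j 14) 6) =
      wapp pm (List.replicate j 14) z := by
    intro j
    rw [← ract_gh_pow j 6 (by norm_num), ract_of_rel (pow_rel key j), ract_gh_pow j z hzlt]
  have himgs : DB.base.map (ract hsM c) = csB z := by
    show [ract hsM c 6, ract hsM c 87, ract hsM c 46, ract hsM c 15, ract hsM c 58] = _
    have e0 := hj 0
    have e1 := hj 1
    have e2 := hj 2
    have e3 := hj 3
    have e4 := hj 4
    unfold csB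
    simp only [List.range, List.range.loop, List.map_cons, List.map_nil, wappS_eq]
    rw [← e0, ← e1, ← e2, ← e3, ← e4]
    rfl
  obtain ⟨u, hs, hu, hlu⟩ := factsB.sift_spec c
  rw [himgs] at hs
  have hg := centB z hzlt u hs
  unfold goodC at hg
  rw [Bool.or_eq_true] at hg
  rcases hg with hg | hg
  · exfalso
    have hlu' : ∀ c ∈ u, c < hsM.nl := hlu
    have h1 : chkEq hsM (14 :: u) (u ++ [14]) = true := by
      apply chkEq_of_elt_eq
      · intro c hc
        rcases List.mem_cons.mp hc with rfl | hc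
        · rw [hsM_nl]; norm_num
        · exact hlu' c hc
      · intro c hc
        rcases List.mem_append.mp hc with hc | hc
        · exact hlu' c hc
        · rw [List.mem_singleton] at hc
          rw [hc, hsM_nl]; norm_num
      · rw [hsM.elt_cons, hsM.elt_append, hu]
        exact key
    rw [h1] at hg
    simp at hg
  · rw [List.any_eq_true] at hg
    obtain ⟨w', hw', he⟩ := hg
    have h2 := eq_of_chk u w' he
    rw [hu] at h2
    unfold CL at hw'
    rw [List.mem_flatMap] at hw'
    obtain ⟨a, ha, hw'⟩ := hw'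
    rw [List.mem_map] at hw'
    obtain ⟨b, hb, rfl⟩ := hw'
    exact ⟨a, List.mem_range.mp ha, b, List.mem_range.mp hb, by rw [h2, elt_pows']⟩

theorem gv_gh : gv * gh = gh * gv := by
  rw [gv, gh, ← hsM.elt_append, ← hsM.elt_append]
  exact eq_of_chk _ _ (by decide +kernel)

theorem inv_of_chk (c c' : ℕ) (h : chkEq hsM [c, c'] [] = true) :
    hsM.elt [c'] = (hsM.elt [c])⁻¹ := by
  have h1 : hsM.elt [c] * hsM.elt [c'] = 1 := by
    rw [← hsM.elt_append, ← hsM.elt_nil]
    exact eq_of_chk _ _ h
  exact eq_inv_of_mul_eq_one_right h1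

/-- the three elements generate the group -/
theorem closure_gens : Subgroup.closure ({gp, gh, gv} : Set hsM.G) = ⊤ := by
  set K := Subgroup.closure ({gp, gh, gv} : Set hsM.G) with hK
  have hp : hsM.elt [1] ∈ K := Subgroup.subset_closure (Set.mem_insert _ _)
  have hh : hsM.elt [14] ∈ K :=
    Subgroup.subset_closure (Set.mem_insert_of_mem _ (Set.mem_insert _ _))
  have hv : hsM.elt [29] ∈ K :=
    Subgroup.subset_closure (Set.mem_insert_of_mem _ (Set.mem_insert_of_mem _ rfl))
  have hpi : hsM.elt [3] ∈ K := by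
    rw [inv_of_chk 1 3 (by decide +kernel)]
    exact K.inv_mem hp
  have hvi : hsM.elt [30] ∈ K := by
    rw [inv_of_chk 29 30 (by decide +kernel)]
    exact K.inv_mem hv
  have ha : hsM.elt [0] ∈ K := by
    rw [eq_of_chk [0] [14, 30, 3, 3, 29, 29, 3, 3, 30, 1, 30, 3, 3] (by decide +kernel)]
    apply elt_mem_of_letters
    intro c hc
    have hc' : c = 14 ∨ c = 30 ∨ c = 3 ∨ c = 29 ∨ c = 1 := by
      simp only [List.mem_cons, List.not_mem_nil, or_false] at hc
      omega
    rcases hc' with h | h | h | h | h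
    · rw [h]; exact hh
    · rw [h]; exact hvi
    · rw [h]; exact hpi
    · rw [h]; exact hv
    · rw [h]; exact hp
  have hai : hsM.elt [2] ∈ K := by
    rw [inv_of_chk 0 2 (by decide +kernel)]
    exact K.inv_mem ha
  have htop : (⊤ : Subgroup hsM.G) =
      Subgroup.closure {g : hsM.G | ∃ c < 4, g = hsModel.elt [c]} := hsModel.closure_letters.symm
  rw [eq_top_iff, htop, Subgroup.closure_le]
  rintro g ⟨c, hc, rfl⟩
  have hc4 : c < 4 := hc
  have e : hsModel.elt [c] = hsM.elt [c] := (slpModel_elt_old hsModel ds pm chk_slp c hc).symm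
  show hsModel.elt [c] ∈ K
  rw [e]
  have hc' : c = 0 ∨ c = 1 ∨ c = 2 ∨ c = 3 := by omega
  rcases hc' with h | h | h | h
  · rw [h]; exact ha
  · rw [h]; exact hp
  · rw [h]; exact hai
  · rw [h]; exact hpi

/-- the words of the candidate images of `v` -/
def hvW (a b : ℕ) : List ℕ := List.replicate a 14 ++ List.replicate b 29

theorem rig_chk : ((List.range 5).all fun a => (List.range 5).all fun b =>
    (a == 0 && b == 1) || chkNe hsM (rep 12 (1 :: hvW a b)) [] ||
      chkNe hsM (rep 6 (1 :: 1 :: hvW a b)) [] || chkNe hsM (rep 8 (1 :: 14 :: hvW a b)) []) = true := by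
  decide +kernel

theorem rel1 : (gp * gv) ^ 12 = 1 := by
  rw [gp, gv, ← hsM.elt_append, ← elt_rep, ← hsM.elt_nil]
  exact eq_of_chk _ _ (by decide +kernel)

theorem rel2 : (gp * gp * gv) ^ 6 = 1 := by
  rw [gp, gv, ← hsM.elt_append, ← hsM.elt_append, ← elt_rep, ← hsM.elt_nil]
  exact eq_of_chk _ _ (by decide +kernel)

theorem rel3 : (gp * gh * gv) ^ 8 = 1 := by
  rw [gp, gh, gv, ← hsM.elt_append, ← hsM.elt_append, ← elt_rep, ← hsM.elt_nil]
  exact eq_of_chk _ _ (by decide +kernel)

/-- an automorphism fixing `p` and `h` fixes `v` -/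
theorem rigid (α : MulAut hsM.G) (hp : α gp = gp) (hh : α gh = gh) : α gv = gv := by
  have hc : α gv * gh = gh * α gv := by
    have : α (gv * gh) = α (gh * gv) := by rw [gv_gh]
    rwa [map_mul, map_mul, hh] at this
  obtain ⟨a, ha, b, hb, hab⟩ := centralizer_gh (α gv) hc
  have r1 : (gp * α gv) ^ 12 = 1 := by
    have : α ((gp * gv) ^ 12) = 1 := by rw [rel1, map_one]
    rwa [map_pow, map_mul, hp] at this
  have r2 : (gp * gp * α gv) ^ 6 = 1 := by
    have : α ((gp * gp * gv) ^ 6) = 1 := by rw [rel2, map_one]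
    rwa [map_pow, map_mul, map_mul, hp] at this
  have r3 : (gp * gh * α gv) ^ 8 = 1 := by
    have : α ((gp * gh * gv) ^ 8) = 1 := by rw [rel3, map_one]
    rwa [map_pow, map_mul, map_mul, hp, hh] at this
  have hw : hsM.elt (hvW a b) = α gv := by
    rw [hab]
    exact elt_pows' a b
  have h1 := rig_chk
  simp only [List.all_eq_true, List.mem_range, Bool.or_eq_true, Bool.and_eq_true, beq_iff_eq] at h1
  rcases h1 a ha b hb with ((⟨rfl, rfl⟩ | h2) | h2) | h2
  · rw [hab, pow_zero, pow_one, one_mul]
  · exfalso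
    apply elt_ne_of_chk hsM _ _ h2
    rw [elt_rep, hsM.elt_cons 1 (hvW a b), hw, hsM.elt_nil]
    exact r1
  · exfalso
    apply elt_ne_of_chk hsM _ _ h2
    rw [elt_rep, hsM.elt_cons 1 (1 :: hvW a b), hsM.elt_cons 1 (hvW a b), hw, hsM.elt_nil,
      ← mul_assoc]
    exact r2
  · exfalso
    apply elt_ne_of_chk hsM _ _ h2
    rw [elt_rep, hsM.elt_cons 1 (14 :: hvW a b), hsM.elt_cons 14 (hvW a b), hw, hsM.elt_nil,
      ← mul_assoc]
    exact r3

end Cfsg.Agent.Lib.Helper5.HSOut
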