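import Cfsg.Agent.Lib.Helper5.HSOut5
import Cfsg.Agent.Lib.Helper9.OutEx1

set_option autoImplicit false
set_option maxRecDepth 100000

/-! # The outer automorphism group of the Higman–Sims group has order two -/

namespace Cfsg.Agent.Lib.Helper5.HSOut

open Cfsg Equiv Cfsg.Agent.Lib.Helper1 Cfsg.Agent.Lib.Helper1.HSG Cfsg.Agent.Lib.Helper1.HSI
  Cfsg.Agent.Lib.Helper1.HSM Cfsg.Agent.Lib.Helper1.MatCode
open Cfsg.Agent.Lib.Helper6.TC Cfsg.Agent.Lib.Helper6.PM Cfsg.Agent.Lib.Helper2.PMS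
open Cfsg.Agent.Lib.Helper5.Chain Cfsg.Agent.Lib.Helper5.Rigid

/-- the table of an odd automorphism of the graph, an involution inverting `p` and centralizing
`h` -/
def tL : List ℕ := [19, 61, 74, 62, 47, 73, 99, 45, 72, 87, 60, 88, 49, 89, 43, 59, 46, 50, 90, 0, 44, 71, 48, 34, 41, 25, 54, 38, 70, 97, 55, 83, 32, 92, 23, 80, 63, 75, 27, 68, 40, 24, 64, 14, 20, 7, 16, 4, 22, 12, 17, 86, 98, 67, 26, 30, 56, 69, 76, 15, 10, 1, 3, 36, 42, 84, 81, 53, 39, 57, 28, 21, 8, 5, 2, 37, 58, 85, 91, 79, 35, 66, 96, 31, 65, 77, 51, 9, 11, 13, 18, 78, 33, 93, 95, 94, 82, 29, 52, 6]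

theorem t_perm : TblPerm tL tL := by
  unfold TblPerm
  decide +kernel

set_option maxRecDepth 1000000 in
theorem t_adj : TblAdj tL := by
  unfold TblAdj
  decide +kernel

/-- the odd automorphism -/
def gT : GA S22 := autOfList tL tL t_perm t_adj

theorem φ0_gT (x : Fin 100) : (φ0 gT x).val = tL.getD x.val 0 := φ0_autOfList tL tL t_perm t_adj x

theorem φ0_gT_inv (x : Fin 100) : ((φ0 gT)⁻¹ x).val = tL.getD x.val 0 := by
  obtain ⟨-, h2, -, h4⟩ := t_perm x.val x.isLt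
  have : (φ0 gT)⁻¹ x = ⟨tL.getD x.val 0, h2⟩ := by
    rw [Equiv.Perm.inv_eq_iff_eq]
    apply Fin.ext
    rw [φ0_gT]
    exact h4.symm
  rw [this]

instance normal_H0 : (H0 : Subgroup (GA S22)).Normal := by
  unfold H0
  infer_instance

/-- the outer automorphism -/
noncomputable def beta : MulAut Gh := MulAut.conjNormal gT

theorem conj_eq_of_tbl (g g' : GA S22) (f f' : ℕ → ℕ)
    (hg : ∀ x : Fin 100, (φ0 g x).val = f x.val) (hg' : ∀ x : Fin 100, (φ0 g' x).val = f' x.val)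
    (h : ∀ x < 100, tL.getD (f (tL.getD x 0)) 0 = f' x) : gT * g * gT⁻¹ = g' := by
  apply φ0_injective
  apply Equiv.ext
  intro x
  apply Fin.ext
  rw [map_mul, map_mul, map_inv, Perm.mul_apply, Perm.mul_apply, φ0_gT, hg, φ0_gT_inv, hg']
  exact h x.val x.isLt

/-- the elements as elements of the subgroup -/
noncomputable def gpG : Gh := gp

/-- the elements as elements of the subgroup -/
noncomputable def ghG : Gh := gh

theorem gp_eq : gpG = gB := by
  show hsM.elt [1] = gB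
  rw [show hsM.elt [1] = hsModel.elt [1] from slpModel_elt_old hsModel ds pm chk_slp 1 (by decide)]
  show wordProd LT [1] = gB
  rw [wordProd_cons, wordProd_nil, mul_one]
  rfl

theorem beta_gp_chk : ∀ x < 100, tL.getD (fT 1 (tL.getD x 0)) 0 = iterT 1 10 x := by decide +kernel

theorem beta_gpG : beta gpG = gpG ^ 10 := by
  apply Subtype.ext
  rw [beta, MulAut.conjNormal_apply, gp_eq]
  show gT * gB0 * gT⁻¹ = gB0 ^ 10
  exact conj_eq_of_tbl gB0 (gB0 ^ 10) (fT 1) (iterT 1 10) φ0_gB0 (φ0_pow_gB0 10) beta_gp_chk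

theorem beta_gp : beta gp = gp ^ 10 := beta_gpG

theorem φ_gh (x : Fin 100) : (φ ghG x).val = pm 15 x.val := by
  have h2 : (((φ (ghG⁻¹ : Gh))⁻¹ : Perm (Fin 100)) x).val = pm 15 x.val := by
    have h3 : (ghG⁻¹ : Gh) = hsM.elt [15] := gh_inv
    rw [h3]
    exact hsM.phi_inv_val [15] (by rw [hsM_nl]; simp) x
  rw [map_inv, inv_inv] at h2
  exact h2

theorem beta_gh_chk : ∀ x < 100, tL.getD (pm 15 (tL.getD x 0)) 0 = pm 15 x := by decide +kernel

theorem beta_ghG : beta ghG = ghG := by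
  apply Subtype.ext
  rw [beta, MulAut.conjNormal_apply]
  exact conj_eq_of_tbl ghG.1 ghG.1 (pm 15) (pm 15) φ_gh φ_gh beta_gh_chk

theorem beta_gh : beta gh = gh := beta_ghG

theorem pow3_mod (j : ℕ) : 3 ^ j % 11 = 3 ^ (j % 5) % 11 := by
  conv_lhs => rw [← Nat.div_add_mod j 5]
  rw [pow_add, pow_mul, Nat.mul_mod, Nat.pow_mod]
  norm_num

theorem card_out_Gh : Nat.card (Cfsg.Out Gh) = 2 := by
  haveI : Fact (Nat.Prime 11) := ⟨by norm_num⟩
  refine rigid_out (G := hsM.G) 11 3 10 5 4032000 gp gh gv (by rw [card_hsM]) (by norm_num)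
    orderOf_gp orderOf_gh (by norm_num) rel_ph ?_ ?_ ?_ normalizer_gp closure_gens rigid beta
    beta_gp beta_gh
  · intro j hj
    rw [pow3_mod] at hj
    have h5 : j % 5 < 5 := Nat.mod_lt _ (by norm_num)
    have : j % 5 = 0 := by
      interval_cases (j % 5) <;> simp_all
    exact Nat.dvd_of_mod_eq_zero this
  · intro j hj
    rw [pow3_mod] at hj
    have h5 : j % 5 < 5 := Nat.mod_lt _ (by norm_num)
    interval_cases (j % 5) <;> simp_all
  · intro k hk0 hk
    interval_cases k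
    · exact ⟨0, by norm_num⟩
    · exact ⟨3, by norm_num⟩
    · exact ⟨4, by norm_num⟩
    · exact ⟨1, by norm_num⟩
    · exact ⟨2, by norm_num⟩
    · exact ⟨2, by norm_num⟩
    · exact ⟨1, by norm_num⟩
    · exact ⟨4, by norm_num⟩
    · exact ⟨3, by norm_num⟩
    · exact ⟨0, by norm_num⟩

/-- the outer automorphism group of the Higman–Sims group -/
theorem card_out_HS : Nat.card (Cfsg.Out ↥Cfsg.Spor.HS) = 2 := by
  rw [Nat.card_congr (Cfsg.Agent.H9Out.outCongr nonempty_HS_equiv.1.some).toEquiv]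
  exact card_out_Gh

end Cfsg.Agent.Lib.Helper5.HSOut
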