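import Mathlib
import Cfsg.Agent.Lib.Helper2.HermFrames

set_option autoImplicit false

namespace Cfsg.Agent.Lib.Helper5.Herm3

open Module Cfsg.Agent.Lib.Helper5.PSLCoset Cfsg.Agent.Lib.Helper2.HermDecomp
  Cfsg.Agent.Lib.Helper2.HermFrames

variable {F : Type*} [Field F] {σ : F ≃+* F} {V : Type*} [AddCommGroup V] [Module F V]
  {H : V → V → F}

/-- linear independence of an adapted triple -/
theorem linIndep_triple (h : IsHerm σ H) (w z y : V) (hw0 : w ≠ 0) (hwz : H w z = 0)
    (hww : H w w = 0) (hwy : H w y ≠ 0) (hz : z ∉ Submodule.span F {w}) :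
    LinearIndependent F ![w, z, y] := by
  rw [Fintype.linearIndependent_iff]
  intro c hc
  rw [Fin.sum_univ_three] at hc
  simp only [Matrix.cons_val_zero, Matrix.cons_val_one, Matrix.cons_val_two, Matrix.head_cons,
    Matrix.tail_cons] at hc
  have h2 : c 2 = 0 := by
    have := congrArg (H w) hc
    rw [h.add_right, h.add_right, h.smul_right, h.smul_right, h.smul_right, hww, hwz,
      h.zero_right, mul_zero, mul_zero, zero_add, zero_add] at this
    rcases mul_eq_zero.mp this with h' | h'
    · exact (map_eq_zero σ).mp h'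
    · exact absurd h' hwy
  rw [h2, zero_smul, add_zero] at hc
  have h1 : c 1 = 0 := by
    by_contra hne
    apply hz
    rw [Submodule.mem_span_singleton]
    refine ⟨-(c 1)⁻¹ * c 0, ?_⟩
    have : c 1 • z = -(c 0 • w) := eq_neg_of_add_eq_zero_right hc
    calc (-(c 1)⁻¹ * c 0) • w = (c 1)⁻¹ • (-(c 0 • w)) := by
          rw [mul_smul, neg_smul, smul_neg]
      _ = (c 1)⁻¹ • (c 1 • z) := by rw [this]
      _ = z := by rw [smul_smul, inv_mul_cancel₀ hne, one_smul]
  rw [h1, zero_smul, add_zero] at hc
  have h0 : c 0 = 0 := by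
    rcases smul_eq_zero.mp hc with h' | h'
    · exact h'
    · exact absurd h' hw0
  intro i
  fin_cases i <;> assumption

section dim3

variable [FiniteDimensional F V] [Finite F]

/-- The adapted data attached to a nonzero isotropic vector in a 3-dimensional nondegenerate
Hermitian space: `z ∈ w^⊥ \ ⟨w⟩`, `y ∉ w^⊥`, and `w^⊥ = ⟨w, z⟩`. -/
theorem exists_adapted (hσ : orderOf σ = 2) (h : IsHerm σ H)
    (hnd : ∀ v, (∀ w, H v w = 0) → v = 0) (h3 : finrank F V = 3)
    (w : V) (hw0 : w ≠ 0) (hww : H w w = 0) :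
    ∃ z y : V, H w z = 0 ∧ H w y ≠ 0 ∧ z ∉ Submodule.span F {w} ∧
      ∀ x, H w x = 0 → ∃ a b : F, x = a • w + b • z := by
  classical
  set W := Submodule.span F {w} with hW
  have hfW : finrank F W = 1 := finrank_span_singleton hw0
  have hfp := finrank_orthoCompl hσ h hnd W
  rw [hfW, h3] at hfp
  have hmem : ∀ x, x ∈ orthoCompl h W ↔ H w x = 0 := by
    intro x
    rw [mem_orthoCompl]
    constructor
    · intro hx
      exact hx w (Submodule.mem_span_singleton_self w)
    · intro hx u hu
      obtain ⟨c, rfl⟩ := Submodule.mem_span_singleton.mp hu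
      rw [h.smul_left, hx, mul_zero]
  have hexz : ∃ z ∈ orthoCompl h W, z ∉ W := by
    by_contra hcon
    push Not at hcon
    have hle : orthoCompl h W ≤ W := hcon
    have := Submodule.finrank_mono hle
    omega
  obtain ⟨z, hz1, hz2⟩ := hexz
  have hexy : ∃ y, H w y ≠ 0 := by
    by_contra hcon
    push Not at hcon
    exact hw0 (hnd w hcon)
  obtain ⟨y, hy⟩ := hexy
  refine ⟨z, y, (hmem z).mp hz1, hy, hz2, ?_⟩
  have hli := linIndep_triple h w z y hw0 ((hmem z).mp hz1) hww hy hz2
  have hli2 : LinearIndependent F ![w, z] := by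
    have := hli.comp (Fin.castSucc : Fin 2 → Fin 3) (Fin.castSucc_injective 2)
    convert this using 1
    ext i
    fin_cases i <;> rfl
  have hspan : Submodule.span F (Set.range ![w, z]) = orthoCompl h W := by
    apply Submodule.eq_of_le_of_finrank_eq
    · rw [Submodule.span_le]
      rintro _ ⟨i, rfl⟩
      fin_cases i
      · exact (hmem w).mpr hww
      · exact hz1
    · rw [finrank_span_eq_card hli2, Fintype.card_fin]
      omega
  intro x hx
  have hx' : x ∈ Submodule.span F (Set.range ![w, z]) := by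
    rw [hspan]; exact (hmem x).mpr hx
  have hr : Set.range ![w, z] = {w, z} := by
    ext v
    simp only [Set.mem_range, Set.mem_insert_iff, Set.mem_singleton_iff]
    constructor
    · rintro ⟨i, rfl⟩
      fin_cases i
      · left; rfl
      · right; rfl
    · rintro (rfl | rfl)
      · exact ⟨0, rfl⟩
      · exact ⟨1, rfl⟩
  rw [hr, Submodule.mem_span_pair] at hx'
  obtain ⟨a, b, hab⟩ := hx'
  exact ⟨a, b, hab.symm⟩

/-- An isometry of determinant one fixing a nonzero isotropic vector is unipotent. -/
theorem unipotent_of_fixes (hσ : orderOf σ = 2) (h : IsHerm σ H)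
    (hnd : ∀ v, (∀ w, H v w = 0) → v = 0) (h3 : finrank F V = 3)
    (g : V →ₗ[F] V) (hg : ∀ x y, H (g x) (g y) = H x y) (hdet : LinearMap.det g = 1)
    (w : V) (hw0 : w ≠ 0) (hww : H w w = 0) (hgw : g w = w) :
    (g - 1) ^ 3 = 0 := by
  classical
  obtain ⟨z, y, hwz, hwy, hzW, hexp⟩ := exists_adapted hσ h hnd h3 w hw0 hww
  have hli := linIndep_triple h w z y hw0 hwz hww hwy hzW
  set b : Basis (Fin 3) F V := basisOfLinearIndependentOfCardEqFinrank hli (by simp [h3]) with hb
  have hb0 : b 0 = w := by simp [hb]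
  have hb1 : b 1 = z := by simp [hb]
  have hb2 : b 2 = y := by simp [hb]
  -- g z
  have hgz : H w (g z) = 0 := by
    rw [← hgw, hg, hwz]
  obtain ⟨α, μ, hgz'⟩ := hexp (g z) hgz
  have hgy : H w (g y - y) = 0 := by
    rw [h.sub_right]
    nth_rewrite 1 [← hgw]
    rw [hg, sub_self]
  obtain ⟨a, c, hgy'⟩ := hexp (g y - y) hgy
  have hgy'' : g y = a • w + c • z + y := by
    rw [← hgy']; abel
  -- the matrix
  have hM : LinearMap.toMatrix b b g = !![1, α, a; 0, μ, c; 0, 0, 1] := by
    ext i j
    rw [LinearMap.toMatrix_apply]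
    fin_cases j
    · simp only [Fin.zero_eta, hb0, hgw]
      rw [← hb0, Basis.repr_self]
      fin_cases i <;> simp [Finsupp.single_apply]
    · simp only [Fin.mk_one, hb1, hgz']
      rw [← hb0, ← hb1, map_add, map_smul, map_smul, Basis.repr_self, Basis.repr_self]
      fin_cases i <;> simp [Finsupp.single_apply]
    · simp only [Fin.reduceFinMk, hb2, hgy'']
      rw [← hb0, ← hb1, ← hb2, map_add, map_add, map_smul, map_smul, Basis.repr_self,
        Basis.repr_self, Basis.repr_self]
      fin_cases i <;> simp [Finsupp.single_apply]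
  have hdetM := LinearMap.det_toMatrix b g
  rw [hM, hdet, Matrix.det_fin_three] at hdetM
  simp at hdetM
  subst hdetM
  rw [one_smul] at hgz'
  -- nilpotency on the basis
  have hNw : (g - 1) w = 0 := by
    rw [LinearMap.sub_apply, Module.End.one_apply, hgw, sub_self]
  have hNz : (g - 1) z = α • w := by
    rw [LinearMap.sub_apply, Module.End.one_apply, hgz']; abel
  have hNy : (g - 1) y = a • w + c • z := by
    rw [LinearMap.sub_apply, Module.End.one_apply, hgy'']; abel
  apply b.ext
  intro i
  rw [pow_succ, pow_two, Module.End.mul_apply, Module.End.mul_apply, LinearMap.zero_apply]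
  fin_cases i
  · simp only [Fin.zero_eta, hb0, hNw, map_zero]
  · simp only [Fin.mk_one, hb1, hNz, map_smul, hNw, smul_zero, map_zero]
  · simp only [Fin.reduceFinMk, hb2, hNy, map_add, map_smul, hNw, hNz, smul_zero, zero_add,
      map_zero]

/-- Two linearly independent isotropic vectors are not orthogonal (dimension three). -/
theorem herm_ne_zero_of_indep (hσ : orderOf σ = 2) (h : IsHerm σ H)
    (hnd : ∀ v, (∀ w, H v w = 0) → v = 0) (h3 : finrank F V = 3)
    (w w' : V) (hww : H w w = 0) (hww' : H w' w' = 0) (hli : LinearIndependent F ![w, w']) :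
    H w w' ≠ 0 := by
  classical
  intro h0
  have h0' : H w' w = 0 := by rw [h.symm w w', h0, map_zero]
  set W := Submodule.span F (Set.range ![w, w']) with hW
  have hfW : finrank F W = 2 := by
    rw [finrank_span_eq_card hli, Fintype.card_fin]
  have hfp := finrank_orthoCompl hσ h hnd W
  have hle : W ≤ orthoCompl h W := by
    rw [hW, Submodule.span_le]
    rintro _ ⟨i, rfl⟩
    rw [SetLike.mem_coe, mem_orthoCompl]
    intro u hu
    refine Submodule.span_induction (p := fun u _ => H u (![w, w'] i) = 0) ?_ ?_ ?_ ?_ hu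
    · rintro _ ⟨j, rfl⟩
      fin_cases i <;> fin_cases j <;> simp [hww, hww', h0, h0']
    · exact h.zero_left _
    · intro a b _ _ ha hb
      rw [h.add_left, ha, hb, add_zero]
    · intro c a _ ha
      rw [h.smul_left, ha, mul_zero]
  have := Submodule.finrank_mono hle
  omega

/-- An isometry of determinant one fixing two linearly independent isotropic vectors is trivial. -/
theorem eq_one_of_fixes_two (hσ : orderOf σ = 2) (h : IsHerm σ H)
    (hnd : ∀ v, (∀ w, H v w = 0) → v = 0) (h3 : finrank F V = 3)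
    (g : V →ₗ[F] V) (hg : ∀ x y, H (g x) (g y) = H x y) (hdet : LinearMap.det g = 1)
    (w w' : V) (hww : H w w = 0) (hww' : H w' w' = 0) (hli : LinearIndependent F ![w, w'])
    (hgw : g w = w) (hgw' : g w' = w') : g = 1 := by
  classical
  have hne := herm_ne_zero_of_indep hσ h hnd h3 w w' hww hww' hli
  have hne' : H w' w ≠ 0 := by
    rw [h.symm w w']
    exact (map_ne_zero σ).mpr hne
  have hw0 : w ≠ 0 := by
    have := hli.ne_zero 0
    simpa using this
  set W := Submodule.span F (Set.range ![w, w']) with hW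
  have hfW : finrank F W = 2 := by
    rw [finrank_span_eq_card hli, Fintype.card_fin]
  have hfp := finrank_orthoCompl hσ h hnd W
  rw [hfW, h3] at hfp
  have hpos : 0 < finrank F (orthoCompl h W) := by omega
  obtain ⟨⟨x, hxW⟩, hx0⟩ := Module.finrank_pos_iff_exists_ne_zero.mp hpos
  have hx0' : x ≠ 0 := fun hx => hx0 (Subtype.ext hx)
  have hwx : H w x = 0 := hxW w (Submodule.subset_span ⟨0, rfl⟩)
  have hw'x : H w' x = 0 := hxW w' (Submodule.subset_span ⟨1, rfl⟩)
  have hxw : x ∉ Submodule.span F {w} := by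
    intro hx
    obtain ⟨c, rfl⟩ := Submodule.mem_span_singleton.mp hx
    rw [h.smul_right] at hw'x
    rcases mul_eq_zero.mp hw'x with h' | h'
    · rw [(map_eq_zero σ).mp h', zero_smul] at hx0'
      exact hx0' rfl
    · exact hne' h'
  have hli3 := linIndep_triple h w x w' hw0 hwx hww hne hxw
  set b : Basis (Fin 3) F V := basisOfLinearIndependentOfCardEqFinrank hli3 (by simp [h3]) with hb
  have hb0 : b 0 = w := by simp [hb]
  have hb1 : b 1 = x := by simp [hb]
  have hb2 : b 2 = w' := by simp [hb]
  -- expand g x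
  have hexp : g x = (b.repr (g x) 0) • w + (b.repr (g x) 1) • x + (b.repr (g x) 2) • w' := by
    conv_lhs => rw [← b.sum_repr (g x), Fin.sum_univ_three, hb0, hb1, hb2]
  have hgx1 : H w (g x) = 0 := by rw [← hgw, hg, hwx]
  have hgx2 : H w' (g x) = 0 := by rw [← hgw', hg, hw'x]
  have hc2 : b.repr (g x) 2 = 0 := by
    rw [hexp, h.add_right, h.add_right, h.smul_right, h.smul_right, h.smul_right, hww, hwx,
      mul_zero, mul_zero, zero_add, zero_add] at hgx1
    rcases mul_eq_zero.mp hgx1 with h' | h'
    · exact (map_eq_zero σ).mp h'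
    · exact absurd h' hne
  have hc0 : b.repr (g x) 0 = 0 := by
    rw [hexp, h.add_right, h.add_right, h.smul_right, h.smul_right, h.smul_right, hww', hw'x,
      mul_zero, mul_zero, add_zero, add_zero] at hgx2
    rcases mul_eq_zero.mp hgx2 with h' | h'
    · exact (map_eq_zero σ).mp h'
    · exact absurd h' hne'
  rw [hc0, hc2, zero_smul, zero_smul, zero_add, add_zero] at hexp
  set ν := b.repr (g x) 1 with hν
  have hM : LinearMap.toMatrix b b g = !![1, 0, 0; 0, ν, 0; 0, 0, 1] := by
    ext i j
    rw [LinearMap.toMatrix_apply]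
    fin_cases j
    · simp only [Fin.zero_eta, hb0, hgw]
      rw [← hb0, Basis.repr_self]
      fin_cases i <;> simp
    · simp only [Fin.mk_one, hb1]
      rw [hexp, ← hb1, map_smul, Basis.repr_self]
      fin_cases i <;> simp
    · simp only [Fin.reduceFinMk, hb2, hgw']
      rw [← hb2, Basis.repr_self]
      fin_cases i <;> simp
  have hdetM := LinearMap.det_toMatrix b g
  rw [hM, hdet, Matrix.det_fin_three] at hdetM
  simp at hdetM
  rw [hdetM, one_smul] at hexp
  apply b.ext
  intro i
  rw [Module.End.one_apply]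
  fin_cases i
  · simp only [Fin.zero_eta, hb0, hgw]
  · simp only [Fin.mk_one, hb1, hexp]
  · simp only [Fin.reduceFinMk, hb2, hgw']

end dim3

end Cfsg.Agent.Lib.Helper5.Herm3
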