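import Mathlib
import Cfsg.Agent.Lib.Helper5.Herm3a

set_option autoImplicit false

namespace Cfsg.Agent.Lib.Helper5.Herm3

open Module Cfsg.Agent.Lib.Helper5.PSLCoset Cfsg.Agent.Lib.Helper2.HermDecomp
  Cfsg.Agent.Lib.Helper2.HermFrames

variable {F : Type*} [Field F] {σ : F ≃+* F} {V : Type*} [AddCommGroup V] [Module F V]
  {H : V → V → F}

/-- A group acting faithfully on `V` by isometries of determinant one. -/
structure IsSU3 {G : Type*} [Group G] (ρ : G →* (V ≃ₗ[F] V)) (H : V → V → F) : Prop where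
  inj : Function.Injective ρ
  isom : ∀ g x y, H (ρ g x) (ρ g y) = H x y
  det : ∀ g, LinearMap.det ((ρ g : V ≃ₗ[F] V) : V →ₗ[F] V) = 1

section fixed

variable [Finite F] [FiniteDimensional F V] {G : Type*} [Group G] (ρ : G →* (V ≃ₗ[F] V))
  (p : ℕ) [hp : Fact p.Prime] [CharP F p]

include hp in
theorem prime_dvd_card_submodule (D : Submodule F V) (hD0 : D ≠ ⊥) : p ∣ Nat.card D := by
  classical
  haveI : Fintype F := Fintype.ofFinite F
  haveI : Finite V := Module.finite_of_finite F
  haveI : Fintype D := Fintype.ofFinite D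
  obtain ⟨n, _, hn⟩ := FiniteField.card F p
  rw [Nat.card_eq_fintype_card, Module.card_eq_pow_finrank (K := F) (V := D), hn, ← pow_mul]
  have hpos : 0 < finrank F D := by
    rw [Module.finrank_pos_iff_exists_ne_zero]
    obtain ⟨v, hv, hv0⟩ := Submodule.exists_mem_ne_zero_of_ne_bot hD0
    exact ⟨⟨v, hv⟩, fun h => hv0 (congrArg Subtype.val h)⟩
  exact dvd_pow_self p (by positivity)

/-- A `p`-group stabilising a nonzero subspace (characteristic `p`) fixes a nonzero vector of it. -/
theorem exists_fixed_ne_zero (T : Subgroup G) (hT : IsPGroup p T) (D : Submodule F V) (hD0 : D ≠ ⊥)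
    (hD : ∀ t ∈ T, ∀ v ∈ D, ρ t v ∈ D) :
    ∃ v ∈ D, v ≠ 0 ∧ ∀ t ∈ T, ρ t v = v := by
  classical
  haveI : Finite V := Module.finite_of_finite F
  letI : SMul T D := ⟨fun t v => ⟨ρ t.1 v.1, hD t.1 t.2 v.1 v.2⟩⟩
  letI : MulAction T D :=
    { one_smul := fun v => Subtype.ext (by
        change ρ (1 : T).1 v.1 = v.1
        simp)
      mul_smul := fun s t v => Subtype.ext (by
        change ρ (s * t).1 v.1 = ρ s.1 (ρ t.1 v.1)
        simp [map_mul]) }
  have hsmul : ∀ (t : T) (v : D), ((t • v : D) : V) = ρ t.1 v.1 := fun _ _ => rfl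
  have h0 : (0 : D) ∈ MulAction.fixedPoints T D := by
    intro t
    apply Subtype.ext
    rw [hsmul]
    simp
  obtain ⟨b, hb, hb0⟩ := hT.exists_fixed_point_of_prime_dvd_card_of_fixed_point (α := D)
    (prime_dvd_card_submodule p D hD0) h0
  refine ⟨b.1, b.2, fun h => hb0 (Subtype.ext h.symm), ?_⟩
  intro t ht
  have := hb ⟨t, ht⟩
  rw [← hsmul ⟨t, ht⟩ b, this]

end fixed

theorem linearEquiv_coe_pow (e : V ≃ₗ[F] V) (n : ℕ) :
    ((e ^ n : V ≃ₗ[F] V) : V →ₗ[F] V) = ((e : V ≃ₗ[F] V) : V →ₗ[F] V) ^ n := by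
  induction n with
  | zero => rfl
  | succ n ih =>
    rw [pow_succ, pow_succ, ← ih]
    rfl

section main

variable [Finite F] [FiniteDimensional F V] {G : Type*} [Group G] {ρ : G →* (V ≃ₗ[F] V)}
  (p : ℕ) [hp : Fact p.Prime] [CharP F p]

/-- A nontrivial `p`-subgroup fixes a nonzero isotropic vector. -/
theorem exists_fixed_isotropic (hσ : orderOf σ = 2) (h : IsHerm σ H)
    (hnd : ∀ v, (∀ w, H v w = 0) → v = 0) (h3 : finrank F V = 3) (hρ : IsSU3 ρ H)
    (T : Subgroup G) (hT : IsPGroup p T) (hT1 : T ≠ ⊥) :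
    ∃ w : V, w ≠ 0 ∧ H w w = 0 ∧ ∀ t ∈ T, ρ t w = w := by
  classical
  -- the fixed subspace
  let C : Submodule F V :=
    { carrier := {v | ∀ t ∈ T, ρ t v = v}
      add_mem' := by
        intro a b ha hb t ht
        rw [map_add, ha t ht, hb t ht]
      zero_mem' := by
        intro t _
        exact map_zero _
      smul_mem' := by
        intro c v hv t ht
        rw [map_smul, hv t ht] }
  have hCmem : ∀ v, v ∈ C ↔ ∀ t ∈ T, ρ t v = v := fun _ => Iff.rfl
  have hCtop : C ≠ ⊤ := by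
    intro hC
    apply hT1
    rw [Subgroup.eq_bot_iff_forall]
    intro t ht
    apply hρ.inj
    rw [map_one]
    ext v
    have : v ∈ C := by rw [hC]; trivial
    exact this t ht
  have hfC : finrank F C < finrank F V := Submodule.finrank_lt hCtop
  have hfp := finrank_orthoCompl hσ h hnd C
  have hD0 : orthoCompl h C ≠ ⊥ := by
    intro h0
    rw [h0, finrank_bot] at hfp
    omega
  have hinv : ∀ t ∈ T, ∀ v ∈ orthoCompl h C, ρ t v ∈ orthoCompl h C := by
    intro t ht v hv c hc
    have h1 : ρ t⁻¹ c = c := hc t⁻¹ (T.inv_mem ht)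
    have h2 : ρ t (ρ t⁻¹ c) = c := by
      rw [← LinearEquiv.mul_apply, ← map_mul, mul_inv_cancel, map_one]
      rfl
    rw [← h2, hρ.isom, h1]
    exact hv c hc
  obtain ⟨v, hvD, hv0, hvfix⟩ := exists_fixed_ne_zero ρ p T hT (orthoCompl h C) hD0 hinv
  exact ⟨v, hv0, hvD v hvfix, hvfix⟩

/-- An element of `p`-power order scaling a nonzero vector fixes it. -/
theorem fixes_of_ppow_of_smul (x : G) (k : ℕ) (hx : x ^ p ^ k = 1) (w : V) (hw0 : w ≠ 0) (c : F)
    (hc : ρ x w = c • w) : ρ x w = w := by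
  have hpow : ∀ m : ℕ, ρ (x ^ m) w = c ^ m • w := by
    intro m
    induction m with
    | zero => simp
    | succ m ih =>
      rw [pow_succ, map_mul, LinearEquiv.mul_apply, hc, map_smul, ih, smul_smul, pow_succ, mul_comm]
  have h1 := hpow (p ^ k)
  rw [hx, map_one] at h1
  have h2 : (c ^ p ^ k - 1) • w = 0 := by
    rw [sub_smul, one_smul, ← h1]
    simp
  have h3 : c ^ p ^ k - 1 = 0 := by
    rcases smul_eq_zero.mp h2 with h' | h'
    · exact h'
    · exact absurd h' hw0
  have h4 : (c - 1) ^ p ^ k = 0 := by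
    rw [sub_pow_char_pow, one_pow, h3]
  have h5 : c = 1 := by
    have := pow_eq_zero_iff (pow_ne_zero k hp.out.ne_zero) |>.mp h4
    exact sub_eq_zero.mp this
  rw [hc, h5, one_smul]

/-- In a group of isometries of determinant one of a three-dimensional Hermitian space in odd
characteristic `p`, the product of two `p`-elements normalising a nontrivial `p`-subgroup has order
dividing `p`. -/
theorem mul_pow_eq_one_of_mem_normalizer (hσ : orderOf σ = 2) (h : IsHerm σ H)
    (hnd : ∀ v, (∀ w, H v w = 0) → v = 0) (h3 : finrank F V = 3) (hρ : IsSU3 ρ H) (hp2 : p ≠ 2)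
    (T : Subgroup G) (hT : IsPGroup p T) (hT1 : T ≠ ⊥) (x y : G)
    (hx : x ∈ Subgroup.normalizer (T : Set G)) (hy : y ∈ Subgroup.normalizer (T : Set G))
    (hxp : ∃ k, x ^ p ^ k = 1) (hyp : ∃ k, y ^ p ^ k = 1) : (x * y) ^ p = 1 := by
  classical
  obtain ⟨w, hw0, hww, hwfix⟩ := exists_fixed_isotropic p hσ h hnd h3 hρ T hT hT1
  -- the normalizer stabilises the line
  have hline : ∀ n ∈ Subgroup.normalizer (T : Set G), ∃ c : F, ρ n w = c • w := by
    intro n hn
    set w' := ρ n w with hw'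
    have hw'w' : H w' w' = 0 := by rw [hw', hρ.isom, hww]
    have hw'fix : ∀ t ∈ T, ρ t w' = w' := by
      intro t ht
      have hmem : n⁻¹ * t * n ∈ T := by
        have := (Subgroup.mem_normalizer_iff.mp ((Subgroup.normalizer (T : Set G)).inv_mem hn) t).mp ht
        simpa using this
      have h1 := hwfix _ hmem
      have h2 : t * n = n * (n⁻¹ * t * n) := by group
      rw [hw', ← LinearEquiv.mul_apply, ← map_mul, h2, map_mul, LinearEquiv.mul_apply, h1]
    by_cases hli : LinearIndependent F ![w, w']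
    · exfalso
      apply hT1
      rw [Subgroup.eq_bot_iff_forall]
      intro t ht
      apply hρ.inj
      rw [map_one]
      have := eq_one_of_fixes_two hσ h hnd h3 ((ρ t : V ≃ₗ[F] V) : V →ₗ[F] V)
        (fun a b => hρ.isom t a b) (hρ.det t) w w' hww hw'w' hli (hwfix t ht) (hw'fix t ht)
      ext v
      have := congrArg (fun f : V →ₗ[F] V => f v) this
      simpa using this
    · rw [LinearIndependent.pair_iff] at hli
      push Not at hli
      obtain ⟨s, t, hst, hne⟩ := hli
      have ht0 : t ≠ 0 := by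
        intro ht0
        rw [ht0, zero_smul, add_zero] at hst
        rcases smul_eq_zero.mp hst with h' | h'
        · exact hne h' ht0
        · exact hw0 h'
      refine ⟨-t⁻¹ * s, ?_⟩
      have : t • w' = -(s • w) := eq_neg_of_add_eq_zero_right hst
      calc w' = t⁻¹ • (t • w') := by rw [smul_smul, inv_mul_cancel₀ ht0, one_smul]
        _ = t⁻¹ • (-(s • w)) := by rw [this]
        _ = (-t⁻¹ * s) • w := by rw [mul_smul, neg_smul, smul_neg]
  obtain ⟨kx, hkx⟩ := hxp
  obtain ⟨ky, hky⟩ := hyp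
  obtain ⟨cx, hcx⟩ := hline x hx
  obtain ⟨cy, hcy⟩ := hline y hy
  have hxw := fixes_of_ppow_of_smul p x kx hkx w hw0 cx hcx
  have hyw := fixes_of_ppow_of_smul p y ky hky w hw0 cy hcy
  have hxyw : ρ (x * y) w = w := by
    rw [map_mul, LinearEquiv.mul_apply, hyw, hxw]
  have hnil := unipotent_of_fixes hσ h hnd h3 ((ρ (x * y) : V ≃ₗ[F] V) : V →ₗ[F] V)
    (fun a b => hρ.isom (x * y) a b) (hρ.det (x * y)) w hw0 hww hxyw
  apply hρ.inj
  rw [map_pow, map_one]
  set g : V →ₗ[F] V := ((ρ (x * y) : V ≃ₗ[F] V) : V →ₗ[F] V) with hg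
  haveI : CharP (V →ₗ[F] V) p := Module.charP_end (R := F) (M := V) ⟨w, by
    rw [Ideal.torsionOf_eq_bot_iff_of_noZeroSMulDivisors]; exact hw0⟩
  have hp3 : 3 ≤ p := by
    have := hp.out.two_le
    omega
  have hgp : g ^ p = 1 := by
    have h1 : g = 1 + (g - 1) := by abel
    rw [h1, add_pow_char_of_commute _ (Commute.one_left _), one_pow]
    have : (g - 1) ^ p = 0 := by
      rw [← Nat.sub_add_cancel hp3, pow_add, hnil, mul_zero]
    rw [this, add_zero]
  ext v
  have := congrArg (fun f : V →ₗ[F] V => f v) hgp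
  simp only [hg] at this
  rw [← linearEquiv_coe_pow] at this
  exact this

end main

end Cfsg.Agent.Lib.Helper5.Herm3
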