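import Mathlib

set_option autoImplicit false

/-!
# Higman's theorem on `SL₂(2ⁿ)`-modules with a fixed-point-free element of order three: definitions

Shared by the packages of S3050 (see `notes/S3050_paper_helper5.md`).
-/

namespace Cfsg.Agent.Lib.Helper5.Hig

open Matrix

/-- the group `SL₂(K)` -/
abbrev SL (K : Type*) [Field K] := Matrix.SpecialLinearGroup (Fin 2) K

section elements

variable {K : Type*} [Field K]

/-- upper unitriangular matrix -/
def uu (b : K) : SL K := ⟨!![1, b; 0, 1], by simp [Matrix.det_fin_two]⟩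

/-- lower unitriangular matrix -/
def ll (c : K) : SL K := ⟨!![1, 0; c, 1], by simp [Matrix.det_fin_two]⟩

/-- the Weyl element (equal to `!![0, 1; 1, 0]` in characteristic two) -/
def ww : SL K := ⟨!![0, 1; -1, 0], by simp [Matrix.det_fin_two]⟩

/-- diagonal matrix `diag(a, a⁻¹)`; junk value `1` at `a = 0` -/
noncomputable def hh (a : K) : SL K := by
  classical
  exact if h : a = 0 then 1 else ⟨!![a, 0; 0, a⁻¹], by simp [Matrix.det_fin_two, h]⟩

theorem uu_val (b : K) : (uu b : Matrix (Fin 2) (Fin 2) K) = !![1, b; 0, 1] := rfl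
theorem ll_val (c : K) : (ll c : Matrix (Fin 2) (Fin 2) K) = !![1, 0; c, 1] := rfl
theorem ww_val : ((ww : SL K) : Matrix (Fin 2) (Fin 2) K) = !![0, 1; -1, 0] := rfl
theorem hh_val {a : K} (h : a ≠ 0) : (hh a : Matrix (Fin 2) (Fin 2) K) = !![a, 0; 0, a⁻¹] := by
  simp [hh, h]

/-- first basis vector scaled -/
def e1 (α : K) : Fin 2 → K := ![α, 0]
/-- second basis vector scaled -/
def e2 (β : K) : Fin 2 → K := ![0, β]

end elements

section modules

variable {K : Type*} [Field K] {V : Type*} [AddCommGroup V]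

/-- an `F₂ SL₂(K)`-module in which every element of order three satisfies `1 + d + d² = 0` -/
structure CMod (ρ : SL K →* AddMonoid.End V) : Prop where
  two : ∀ v : V, v + v = 0
  c3 : ∀ d : SL K, orderOf d = 3 → ∀ v : V, v + ρ d v + ρ d (ρ d v) = 0

/-- the weaker hypothesis for abelian groups of arbitrary exponent -/
def C3 (ρ : SL K →* AddMonoid.End V) : Prop :=
  ∀ d : SL K, orderOf d = 3 → ∀ v : V, v + ρ d v + ρ d (ρ d v) = 0

theorem CMod.toC3 {ρ : SL K →* AddMonoid.End V} (h : CMod ρ) : C3 ρ := h.c3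

/-- a vector fixed by the upper unitriangular group -/
def SFix (ρ : SL K →* AddMonoid.End V) (v : V) : Prop := ∀ b : K, ρ (uu b) v = v

/-- an invariant additive subgroup -/
def Invt (ρ : SL K →* AddMonoid.End V) (U : AddSubgroup V) : Prop :=
  ∀ g : SL K, ∀ v ∈ U, ρ g v ∈ U

/-- an equivariant additive map from the natural module -/
def IsNat (ρ : SL K →* AddMonoid.End V) (f : (Fin 2 → K) →+ V) : Prop :=
  ∀ (g : SL K) (n : Fin 2 → K), f (g • n) = ρ g (f n)

/-- the sum map of a family of maps from the natural module -/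
def sumMap {k : ℕ} (f : Fin k → ((Fin 2 → K) →+ V)) : (Fin k → Fin 2 → K) →+ V where
  toFun n := ∑ i, f i (n i)
  map_zero' := by simp
  map_add' a b := by simp [Finset.sum_add_distrib]

@[simp] theorem sumMap_apply {k : ℕ} (f : Fin k → ((Fin 2 → K) →+ V)) (n : Fin k → Fin 2 → K) :
    sumMap f n = ∑ i, f i (n i) := rfl

/-- the module is a direct sum of copies of the natural module -/
def NatSum (ρ : SL K →* AddMonoid.End V) : Prop :=
  ∃ (k : ℕ) (f : Fin k → ((Fin 2 → K) →+ V)), (∀ i, IsNat ρ (f i)) ∧ Function.Bijective (sumMap f)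

@[simp] theorem end_mul_apply (f g : AddMonoid.End V) (v : V) : (f * g) v = f (g v) := rfl
@[simp] theorem end_add_apply (f g : AddMonoid.End V) (v : V) : (f + g) v = f v + g v := rfl
@[simp] theorem end_one_apply (v : V) : (1 : AddMonoid.End V) v = v := rfl
@[simp] theorem end_zero_apply (v : V) : (0 : AddMonoid.End V) v = 0 := rfl

theorem rep_inv_apply (ρ : SL K →* AddMonoid.End V) (g : SL K) (v : V) : ρ g⁻¹ (ρ g v) = v := by
  rw [← end_mul_apply, ← map_mul, inv_mul_cancel, map_one, end_one_apply]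

theorem rep_apply_inv (ρ : SL K →* AddMonoid.End V) (g : SL K) (v : V) : ρ g (ρ g⁻¹ v) = v := by
  rw [← end_mul_apply, ← map_mul, mul_inv_cancel, map_one, end_one_apply]

theorem rep_injective (ρ : SL K →* AddMonoid.End V) (g : SL K) : Function.Injective (ρ g) :=
  Function.LeftInverse.injective (rep_inv_apply ρ g)

theorem rep_surjective (ρ : SL K →* AddMonoid.End V) (g : SL K) : Function.Surjective (ρ g) :=
  Function.RightInverse.surjective (rep_apply_inv ρ g)

theorem rep_mul_apply (ρ : SL K →* AddMonoid.End V) (g h : SL K) (v : V) :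
    ρ (g * h) v = ρ g (ρ h v) := by
  rw [map_mul, end_mul_apply]

theorem rep_one_apply (ρ : SL K →* AddMonoid.End V) (v : V) : ρ 1 v = v := by
  rw [map_one, end_one_apply]

/-- the representation on an invariant subgroup -/
def subRep (ρ : SL K →* AddMonoid.End V) (U : AddSubgroup V) (hU : Invt ρ U) :
    SL K →* AddMonoid.End U where
  toFun g :=
    ({ toFun := fun u => ⟨ρ g u, hU g u u.2⟩
       map_zero' := Subtype.ext (map_zero (ρ g))
       map_add' := fun a b => Subtype.ext (map_add (ρ g) (a : V) (b : V)) } : ↥U →+ ↥U)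
  map_one' := by
    apply AddMonoid.End.ext
    intro u
    apply Subtype.ext
    show ρ 1 (u : V) = u
    exact rep_one_apply ρ u
  map_mul' a b := by
    apply AddMonoid.End.ext
    intro u
    apply Subtype.ext
    show ρ (a * b) (u : V) = ρ a (ρ b u)
    exact rep_mul_apply ρ a b u

@[simp] theorem subRep_coe (ρ : SL K →* AddMonoid.End V) (U : AddSubgroup V) (hU : Invt ρ U)
    (g : SL K) (u : U) : ((subRep ρ U hU g u : U) : V) = ρ g u := rfl

/-- the representation on the quotient by an invariant subgroup -/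
def quotRep (ρ : SL K →* AddMonoid.End V) (U : AddSubgroup V) (hU : Invt ρ U) :
    SL K →* AddMonoid.End (V ⧸ U) where
  toFun g := (QuotientAddGroup.map U U (show V →+ V from ρ g) (fun v hv => hU g v hv) :
    V ⧸ U →+ V ⧸ U)
  map_one' := by
    apply AddMonoid.End.ext
    intro y
    induction y using QuotientAddGroup.induction_on with
    | H y =>
      show QuotientAddGroup.mk (ρ 1 y) = _
      rw [rep_one_apply]
      rfl
  map_mul' a b := by
    apply AddMonoid.End.ext
    intro y
    induction y using QuotientAddGroup.induction_on with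
    | H y =>
      show QuotientAddGroup.mk (ρ (a * b) y) = _
      rw [rep_mul_apply]
      rfl

@[simp] theorem quotRep_mk (ρ : SL K →* AddMonoid.End V) (U : AddSubgroup V) (hU : Invt ρ U)
    (g : SL K) (v : V) :
    quotRep ρ U hU g (QuotientAddGroup.mk v) = QuotientAddGroup.mk (ρ g v) := rfl

theorem C3.sub {ρ : SL K →* AddMonoid.End V} (h : C3 ρ) (U : AddSubgroup V) (hU : Invt ρ U) :
    C3 (subRep ρ U hU) := fun d hd u => Subtype.ext (h d hd u)

theorem CMod.sub {ρ : SL K →* AddMonoid.End V} (h : CMod ρ) (U : AddSubgroup V) (hU : Invt ρ U) :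
    CMod (subRep ρ U hU) where
  two u := Subtype.ext (h.two u)
  c3 := h.toC3.sub U hU

theorem CMod.quot {ρ : SL K →* AddMonoid.End V} (h : CMod ρ) (U : AddSubgroup V) (hU : Invt ρ U) :
    CMod (quotRep ρ U hU) where
  two y := by
    induction y using QuotientAddGroup.induction_on with
    | H y =>
      rw [← QuotientAddGroup.mk_add, h.two]
      rfl
  c3 d hd y := by
    induction y using QuotientAddGroup.induction_on with
    | H y =>
      rw [quotRep_mk, quotRep_mk, ← QuotientAddGroup.mk_add, ← QuotientAddGroup.mk_add, h.c3 d hd]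
      rfl

/-- scalar action on fixed vectors: `hv ρ a v = h(a) v` for `a ≠ 0` and `0` for `a = 0` -/
noncomputable def hv (ρ : SL K →* AddMonoid.End V) (a : K) (v : V) : V := by
  classical
  exact if a = 0 then 0 else ρ (hh a) v

theorem hv_zero (ρ : SL K →* AddMonoid.End V) (v : V) : hv ρ 0 v = 0 := by
  simp [hv]

theorem hv_of_ne (ρ : SL K →* AddMonoid.End V) {a : K} (ha : a ≠ 0) (v : V) :
    hv ρ a v = ρ (hh a) v := by
  simp [hv, ha]

/-- the image of `⊕ K e₁` under the sum map -/
def plusPart {k : ℕ} (f : Fin k → ((Fin 2 → K) →+ V)) : AddSubgroup V :=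
  AddSubgroup.map (sumMap f)
    { carrier := {n | ∀ i, n i 1 = 0}
      zero_mem' := fun _ => rfl
      add_mem' := fun {a b} ha hb i => by
        show a i 1 + b i 1 = 0
        rw [ha i, hb i, add_zero]
      neg_mem' := fun {a} ha i => by
        show - a i 1 = 0
        rw [ha i, neg_zero] }

theorem mem_plusPart {k : ℕ} (f : Fin k → ((Fin 2 → K) →+ V)) (v : V) :
    v ∈ plusPart f ↔ ∃ n : Fin k → Fin 2 → K, (∀ i, n i 1 = 0) ∧ sumMap f n = v := Iff.rfl

end modules

section smul

variable {K : Type*} [Field K]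

theorem smul_eq (g : SL K) (n : Fin 2 → K) :
    g • n = ![g 0 0 * n 0 + g 0 1 * n 1, g 1 0 * n 0 + g 1 1 * n 1] := by
  show (g : Matrix (Fin 2) (Fin 2) K).mulVec n = _
  ext i
  fin_cases i <;> simp [Matrix.mulVec, dotProduct, Fin.sum_univ_two]

end smul

section config

open scoped IsMulCommutative

variable {K : Type*} [Field K] {Γ : Type*} [Group Γ]

/-- `Ω₁(Z(Q))` as a subgroup of the ambient group -/
def omZ (Q : Subgroup Γ) : Subgroup Γ where
  carrier := {z | z ∈ Q ∧ z ^ 2 = 1 ∧ ∀ q ∈ Q, q * z = z * q}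
  one_mem' := ⟨Q.one_mem, one_pow 2, fun q _ => by rw [mul_one, one_mul]⟩
  mul_mem' := by
    rintro a b ⟨ha, ha2, hac⟩ ⟨hb, hb2, hbc⟩
    refine ⟨Q.mul_mem ha hb, ?_, fun q hq => ?_⟩
    · have : a * b = b * a := (hbc a ha)
      rw [pow_two, mul_assoc, ← mul_assoc b a b, ← this, mul_assoc a b b, ← mul_assoc, ← pow_two,
        ← pow_two b, ha2, hb2, one_mul]
    · rw [← mul_assoc, hac q hq, mul_assoc, hbc q hq, mul_assoc]
  inv_mem' := by
    rintro a ⟨ha, ha2, hac⟩
    refine ⟨Q.inv_mem ha, ?_, fun q hq => ?_⟩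
    · rw [inv_pow, ha2, inv_one]
    · exact (Commute.inv_right (show Commute q a from hac q hq)).eq

theorem mem_omZ {Q : Subgroup Γ} {z : Γ} :
    z ∈ omZ Q ↔ z ∈ Q ∧ z ^ 2 = 1 ∧ ∀ q ∈ Q, q * z = z * q := Iff.rfl

variable {Q : Subgroup Γ} [Q.Normal]

/-- the data of the configuration of the theorem -/
structure Cfg (K : Type*) [Field K] (Γ : Type*) [Group Γ] (Q : Subgroup Γ) [Q.Normal] where
  /-- the isomorphism of the quotient with `SL₂(K)` -/
  e : Γ ⧸ Q ≃* SL K
  /-- the element of order three -/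
  x : Γ

/-- the hypotheses on the configuration -/
def Cfg.Ok (c : Cfg K Γ Q) : Prop :=
  orderOf c.x = 3 ∧ ∀ q ∈ Q, c.x * q * c.x⁻¹ = q → q = 1

instance map_mk_normal (Z : Subgroup Γ) [Z.Normal] : (Q.map (QuotientGroup.mk' Z)).Normal :=
  Subgroup.Normal.map inferInstance _ (QuotientGroup.mk'_surjective Z)

/-- the quotient configuration -/
noncomputable def Cfg.quot (c : Cfg K Γ Q) (Z : Subgroup Γ) [Z.Normal] (hZ : Z ≤ Q) :
    Cfg K (Γ ⧸ Z) (Q.map (QuotientGroup.mk' Z)) :=
  ⟨(QuotientGroup.quotientQuotientEquivQuotient Z Q hZ).trans c.e, (c.x : Γ ⧸ Z)⟩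

theorem Cfg.quot_x (c : Cfg K Γ Q) (Z : Subgroup Γ) [Z.Normal] (hZ : Z ≤ Q) :
    (c.quot Z hZ).x = (c.x : Γ ⧸ Z) := rfl

theorem Cfg.quot_e (c : Cfg K Γ Q) (Z : Subgroup Γ) [Z.Normal] (hZ : Z ≤ Q) (γ : Γ) :
    (c.quot Z hZ).e (((γ : Γ ⧸ Z)) : (Γ ⧸ Z) ⧸ (Q.map (QuotientGroup.mk' Z))) =
      c.e (γ : Γ ⧸ Q) := rfl

/-- an automorphism of a commutative group as an additive endomorphism -/
def autToEnd (U : Type*) [CommGroup U] : MulAut U →* AddMonoid.End (Additive U) where
  toFun φ := (MonoidHom.toAdditive (φ : U →* U) : Additive U →+ Additive U)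
  map_one' := rfl
  map_mul' _ _ := rfl

@[simp] theorem autToEnd_apply (U : Type*) [CommGroup U] (φ : MulAut U) (u : Additive U) :
    autToEnd U φ u = Additive.ofMul (φ (Additive.toMul u)) := rfl

/-- conjugation action of the ambient group on a normal subgroup, trivial on `Q` -/
theorem conjNormal_eq_one_of_mem (U : Subgroup Γ) [U.Normal]
    (hUQ : Q ≤ Subgroup.centralizer (U : Set Γ)) {q : Γ} (hq : q ∈ Q) :
    (MulAut.conjNormal q : MulAut U) = 1 := by
  ext u
  have h := hUQ hq (u : Γ) u.2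
  rw [MulAut.conjNormal_apply, MulAut.one_apply]
  rw [← h, mul_inv_cancel_right]

/-- the action of `SL₂(K) ≅ Γ/Q` on an abelian normal subgroup centralized by `Q` -/
noncomputable def secRep (e : Γ ⧸ Q ≃* SL K) (U : Subgroup Γ) [U.Normal] [IsMulCommutative U]
    (hUQ : Q ≤ Subgroup.centralizer (U : Set Γ)) : SL K →* AddMonoid.End (Additive U) :=
  (autToEnd U).comp
    ((QuotientGroup.lift Q (MulAut.conjNormal : Γ →* MulAut U)
      (fun _ hq => conjNormal_eq_one_of_mem U hUQ hq)).comp e.symm.toMonoidHom)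

theorem secRep_apply (e : Γ ⧸ Q ≃* SL K) (U : Subgroup Γ) [U.Normal] [IsMulCommutative U]
    (hUQ : Q ≤ Subgroup.centralizer (U : Set Γ)) (γ : Γ) (u : U) :
    ((Additive.toMul (secRep e U hUQ (e (γ : Γ ⧸ Q)) (Additive.ofMul u)) : U) : Γ) =
      γ * u * γ⁻¹ := by
  have h1 : secRep e U hUQ (e (γ : Γ ⧸ Q)) (Additive.ofMul u) =
      Additive.ofMul ((MulAut.conjNormal γ : MulAut U) u) := by
    show autToEnd U ((QuotientGroup.lift Q (MulAut.conjNormal : Γ →* MulAut U)
      (fun _ hq => conjNormal_eq_one_of_mem U hUQ hq))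
      (e.symm (e (γ : Γ ⧸ Q)))) (Additive.ofMul u) = _
    rw [MulEquiv.symm_apply_apply]
    rfl
  rw [h1, toMul_ofMul, MulAut.conjNormal_apply]

end config

end Cfsg.Agent.Lib.Helper5.Hig
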