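import Mathlib
import Cfsg.Agent.Lib.Helper5.HigDefs
import Cfsg.Agent.Lib.Helper8.HigMatA

set_option autoImplicit false

/-!
# Higman's theorem, package M3: the operator identities (†) and (‡)
-/

namespace Cfsg.Agent.Lib.Helper5.Hig

open Matrix

namespace Dag

variable {V : Type*} [AddCommGroup V]

theorem eq_of_add_eq_zero (h2 : ∀ v : V, v + v = 0) {a b : V} (h : a + b = 0) : a = b := by
  have := eq_neg_of_add_eq_zero_left h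
  rwa [neg_eq_of_add_eq_zero_left (h2 b)] at this

end Dag

variable {K : Type*} [Field K] [CharP K 2] {V : Type*} [AddCommGroup V]
  (ρ : SL K →* AddMonoid.End V)

theorem dagger (hρ : CMod ρ) {c : K} (hc : c ≠ 0) (v : V) :
    ρ (uu c) (ρ ww v) = ρ (hh c) v + ρ ww (ρ (uu c⁻¹) v) := by
  have h2 := hρ.two
  have hb : c⁻¹ ≠ 0 := inv_ne_zero hc
  set d : SL K := uu c⁻¹ * hh c⁻¹ * ww with hd
  have hord : orderOf d = 3 := orderOf_dd hb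
  have hdd : d * d = d⁻¹ := by
    have h3 : d ^ 3 = 1 := by rw [← hord]; exact pow_orderOf_eq_one d
    rw [eq_inv_iff_mul_eq_one, ← h3, pow_succ, pow_two]
  have hdinv : d⁻¹ = hh c⁻¹ * ww * uu c⁻¹ := dd_inv hb
  have h3 := hρ.c3 d hord v
  rw [← rep_mul_apply ρ d d, hdd, hdinv] at h3
  -- apply `h(c)`
  have h4 := congrArg (ρ (hh c)) h3
  rw [map_add, map_add, map_zero, ← rep_mul_apply, ← rep_mul_apply] at h4
  have e1 : hh c * d = uu c * ww := by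
    rw [hd, ← mul_assoc, ← mul_assoc]
    have : hh c * uu c⁻¹ * hh c⁻¹ = uu c := by
      rw [← hh_inv hc, hh_uu_inv hc]
      congr 1
      field_simp
    rw [this]
  have e2 : hh c * (hh c⁻¹ * ww * uu c⁻¹) = ww * uu c⁻¹ := by
    rw [← mul_assoc, ← mul_assoc, hh_mul hc hb, mul_inv_cancel₀ hc, hh_one, one_mul]
  rw [e1, e2, rep_mul_apply, rep_mul_apply] at h4
  -- `h4 : h(c) v + u(c) w v + w u(1/c) v = 0`
  apply Dag.eq_of_add_eq_zero h2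
  rw [← h4]
  abel

theorem ddagger (hρ : CMod ρ) {c c' : K} (hc : c ≠ 0) (hc' : c' ≠ 0) (hcc : c + c' ≠ 0) (v : V) :
    ρ ww (ρ (uu (c + c')⁻¹) (v + ρ (uu (c⁻¹ + c'⁻¹ + (c + c')⁻¹)) v)) =
      ρ (uu c') (ρ (hh c) v) + ρ (hh c') (ρ (uu c⁻¹) v) + ρ (hh (c + c')) v := by
  have h2 := hρ.two
  have hL : ρ (uu c') (ρ (uu c) (ρ ww v)) = ρ (uu (c + c')) (ρ ww v) := by
    rw [← rep_mul_apply, uu_mul, add_comm]
  rw [dagger ρ hρ hc v, map_add, dagger ρ hρ hc' (ρ (uu c⁻¹) v), ← rep_mul_apply ρ (uu c'⁻¹),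
    uu_mul, dagger ρ hρ hcc v] at hL
  -- target
  have hT : ρ ww (ρ (uu (c + c')⁻¹) (v + ρ (uu (c⁻¹ + c'⁻¹ + (c + c')⁻¹)) v)) =
      ρ ww (ρ (uu (c + c')⁻¹) v) + ρ ww (ρ (uu (c'⁻¹ + c⁻¹)) v) := by
    rw [map_add, map_add, ← rep_mul_apply ρ (uu (c + c')⁻¹), uu_mul]
    congr 5
    have : (c + c')⁻¹ + (c + c')⁻¹ = 0 := CharTwo.add_self_eq_zero _
    calc (c + c')⁻¹ + (c⁻¹ + c'⁻¹ + (c + c')⁻¹) = c'⁻¹ + c⁻¹ + ((c + c')⁻¹ + (c + c')⁻¹) := by ring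
      _ = c'⁻¹ + c⁻¹ := by rw [this, add_zero]
  rw [hT]
  apply Dag.eq_of_add_eq_zero h2
  set X1 := ρ (uu c') (ρ (hh c) v)
  set X2 := ρ (hh c') (ρ (uu c⁻¹) v)
  set X3 := ρ ww (ρ (uu (c'⁻¹ + c⁻¹)) v)
  set X4 := ρ (hh (c + c')) v
  set X5 := ρ ww (ρ (uu (c + c')⁻¹) v)
  have : X5 + X3 + (X1 + X2 + X4) = (X1 + (X2 + X3)) + (X4 + X5) := by abel
  rw [this, hL, h2]

end Cfsg.Agent.Lib.Helper5.Hig
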