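import Mathlib
import Cfsg.Agent.Lib.Helper5.HigDefs
import Cfsg.Agent.Lib.Helper8.HigMatA

set_option autoImplicit false

/-!
# Higman's theorem, package M6: structure of sums of natural modules
-/

namespace Cfsg.Agent.Lib.Helper5.Hig

open Matrix

variable {K : Type*} [Field K] [Fintype K] [CharP K 2] {V : Type*} [AddCommGroup V]
  (ρ : SL K →* AddMonoid.End V) {k : ℕ} (f : Fin k → ((Fin 2 → K) →+ V))

namespace Sum

omit [Fintype K] [CharP K 2] in
theorem rep_sumMap (hf : ∀ i, IsNat ρ (f i)) (g : SL K) (n : Fin k → Fin 2 → K) :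
    ρ g (sumMap f n) = sumMap f (fun i => g • n i) := by
  rw [sumMap_apply, sumMap_apply, map_sum]
  exact Finset.sum_congr rfl (fun i _ => (hf i g (n i)).symm)

omit [Fintype K] [CharP K 2] in
theorem vec_eta (n : Fin 2 → K) : ![n 0, n 1] = n := by
  ext i; fin_cases i <;> rfl

end Sum

open Sum

omit [Fintype K] [CharP K 2] in
theorem range_invt (hf : ∀ i, IsNat ρ (f i)) : Invt ρ (sumMap f).range := by
  rintro g _ ⟨n, rfl⟩
  exact ⟨_, (rep_sumMap ρ f hf g n).symm⟩

omit [Fintype K] [CharP K 2] in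
theorem plusPart_le : plusPart f ≤ (sumMap f).range := by
  rintro v ⟨n, -, rfl⟩
  exact ⟨n, rfl⟩

omit [Fintype K] [CharP K 2] in
theorem plusPart_sfix (hf : ∀ i, IsNat ρ (f i)) {v : V} (hv' : v ∈ plusPart f) : SFix ρ v := by
  obtain ⟨n, hn, rfl⟩ := (mem_plusPart f v).mp hv'
  intro b
  rw [rep_sumMap ρ f hf]
  congr 1
  funext i
  rw [uu_smul, hn i, mul_zero, add_zero]
  conv_rhs => rw [← vec_eta (n i), hn i]

omit [Fintype K] [CharP K 2] in
theorem fix_range_iff (hf : ∀ i, IsNat ρ (f i)) (hinj : Function.Injective (sumMap f)) {b : K}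
    (hb : b ≠ 0) {v : V} (hv' : v ∈ (sumMap f).range) : ρ (uu b) v = v ↔ v ∈ plusPart f := by
  constructor
  · intro hfix
    obtain ⟨n, rfl⟩ := hv'
    rw [rep_sumMap ρ f hf] at hfix
    have h1 := hinj hfix
    refine (mem_plusPart f _).mpr ⟨n, fun i => ?_, rfl⟩
    have h2 := congrFun (congrFun h1 i) 0
    rw [uu_smul] at h2
    have h3 : n i 0 + b * n i 1 = n i 0 := h2
    have h4 : b * n i 1 = 0 := by
      have := congrArg (fun t => t - n i 0) h3
      simpa using this
    exact (mul_eq_zero.mp h4).resolve_left hb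
  · intro h
    exact plusPart_sfix ρ f hf h b

omit [CharP K 2] in
theorem card_plusPart_sq [Finite V] (hinj : Function.Injective (sumMap f)) :
    Nat.card (plusPart f) ^ 2 = Nat.card (sumMap f).range := by
  classical
  -- the range
  have h1 : Nat.card (sumMap f).range = Nat.card (Fin k → Fin 2 → K) :=
    (Nat.card_congr (AddMonoidHom.ofInjective hinj).toEquiv).symm
  -- the plus part
  let e : (Fin k → K) → plusPart f := fun m =>
    ⟨sumMap f (fun i => ![m i, 0]), (mem_plusPart f _).mpr ⟨_, fun i => rfl, rfl⟩⟩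
  have he : Function.Bijective e := by
    constructor
    · intro m m' h
      have h2 := hinj (congrArg Subtype.val h)
      funext i
      exact congrFun (congrFun h2 i) 0
    · rintro ⟨v, hv⟩
      obtain ⟨n, hn, rfl⟩ := (mem_plusPart f v).mp hv
      refine ⟨fun i => n i 0, Subtype.ext ?_⟩
      show sumMap f (fun i => ![n i 0, 0]) = sumMap f n
      congr 1
      funext i
      conv_rhs => rw [← vec_eta (n i), hn i]
  have h2 : Nat.card (plusPart f) = Nat.card (Fin k → K) :=
    (Nat.card_congr (Equiv.ofBijective e he)).symm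
  rw [h1, h2, Nat.card_eq_fintype_card, Nat.card_eq_fintype_card, Fintype.card_fun,
    Fintype.card_fun, Fintype.card_fun, Fintype.card_fin, Fintype.card_fin, ← pow_mul, ← pow_mul,
    mul_comm]

omit [Fintype K] in
theorem plusPart_inter_ww (hf : ∀ i, IsNat ρ (f i)) (hinj : Function.Injective (sumMap f)) {v : V}
    (hv' : v ∈ plusPart f) (hw : ρ ww v ∈ plusPart f) : v = 0 := by
  obtain ⟨n, hn, rfl⟩ := (mem_plusPart f v).mp hv'
  obtain ⟨m, hm, hmeq⟩ := (mem_plusPart f _).mp hw
  rw [rep_sumMap ρ f hf] at hmeq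
  have h1 := hinj hmeq
  have hn0 : n = 0 := by
    funext i
    have h2 := congrFun (congrFun h1 i) 1
    rw [ww_smul] at h2
    have h3 : m i 1 = n i 0 := h2
    rw [hm i] at h3
    conv_lhs => rw [← vec_eta (n i), hn i, ← h3]
    ext j; fin_cases j <;> rfl
  rw [hn0, map_zero]

omit [Fintype K] [CharP K 2] in
theorem plusPart_hh (hf : ∀ i, IsNat ρ (f i)) {v : V} (hv' : v ∈ plusPart f) {a : K} (ha : a ≠ 0) :
    ρ (hh a) v ∈ plusPart f := by
  obtain ⟨n, hn, rfl⟩ := (mem_plusPart f v).mp hv'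
  rw [rep_sumMap ρ f hf]
  refine (mem_plusPart f _).mpr ⟨_, fun i => ?_, rfl⟩
  rw [hh_smul ha]
  show a⁻¹ * n i 1 = 0
  rw [hn i, mul_zero]

omit [Fintype K] in
/-- every element of the range is `y + w y'` with `y, y'` in the plus part -/
theorem range_decomp (hf : ∀ i, IsNat ρ (f i)) {v : V} (hv' : v ∈ (sumMap f).range) :
    ∃ y ∈ plusPart f, ∃ y' ∈ plusPart f, v = y + ρ ww y' := by
  obtain ⟨n, rfl⟩ := hv'
  refine ⟨sumMap f (fun i => ![n i 0, 0]), (mem_plusPart f _).mpr ⟨_, fun i => rfl, rfl⟩,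
    sumMap f (fun i => ![n i 1, 0]), (mem_plusPart f _).mpr ⟨_, fun i => rfl, rfl⟩, ?_⟩
  rw [rep_sumMap ρ f hf, ← map_add]
  congr 1
  funext i
  rw [Pi.add_apply, ww_smul]
  ext j
  fin_cases j <;> simp

omit [Fintype K] [CharP K 2] in
/-- in a sum of natural modules the plus part is exactly the set of `S`-fixed vectors -/
theorem sfix_iff_of_natSum (hf : ∀ i, IsNat ρ (f i)) (hbij : Function.Bijective (sumMap f))
    (v : V) : SFix ρ v ↔ v ∈ plusPart f := by
  constructor
  · intro h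
    have hr : v ∈ (sumMap f).range := by
      obtain ⟨n, hn⟩ := hbij.2 v
      exact ⟨n, hn⟩
    exact (fix_range_iff ρ f hf hbij.1 one_ne_zero hr).mp (h 1)
  · exact plusPart_sfix ρ f hf

end Cfsg.Agent.Lib.Helper5.Hig
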