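import Mathlib
import Cfsg.Agent.Lib.Helper5.HigDefs
import Cfsg.Agent.Lib.Helper8.HigMatA
import Cfsg.Agent.Lib.Helper8.HigMatB
import Cfsg.Agent.Lib.Helper5.HigDag
import Cfsg.Agent.Lib.Helper5.HigSum
import Cfsg.Agent.Lib.Helper8.HigFix

set_option autoImplicit false

/-!
# Higman's theorem, package E4 (duplicate of `Helper8/HigExt4.lean`, which is the canonical one;
the theorems here carry the suffix `_alt`)
-/

namespace Cfsg.Agent.Lib.Helper5.Hig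

open Matrix

namespace Ext4

variable {K : Type*} [Field K] [CharP K 2] {V : Type*} [AddCommGroup V]
  (ρ : SL K →* AddMonoid.End V)

/-- the operator `1 + u(c)` -/
def ee (c : K) : AddMonoid.End V := 1 + ρ (uu c)

theorem ee_apply (c : K) (v : V) : ee ρ c v = v + ρ (uu c) v := rfl

theorem two_eq_zero (h2 : ∀ v : V, v + v = 0) : (1 + 1 : AddMonoid.End V) = 0 := by
  apply AddMonoid.End.ext
  intro v
  exact h2 v

theorem add_self (h2 : ∀ v : V, v + v = 0) (x : AddMonoid.End V) : x + x = 0 := by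
  apply AddMonoid.End.ext
  intro v
  exact h2 (x v)

theorem ee_sq (h2 : ∀ v : V, v + v = 0) (c : K) : ee ρ c * ee ρ c = 0 := by
  have h1 : ρ (uu c) * ρ (uu c) = 1 := by rw [← map_mul, uu_sq, map_one]
  unfold ee
  rw [mul_add, add_mul, add_mul, one_mul, mul_one, one_mul, h1]
  have : (1 : AddMonoid.End V) + ρ (uu c) + (ρ (uu c) + 1) = (1 + 1) + (ρ (uu c) + ρ (uu c)) := by
    abel
  rw [this, two_eq_zero h2, add_self h2, add_zero]

theorem ee_comm (c c' : K) : ee ρ c * ee ρ c' = ee ρ c' * ee ρ c := by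
  have h1 : ρ (uu c) * ρ (uu c') = ρ (uu c') * ρ (uu c) := by
    rw [← map_mul, ← map_mul, uu_mul, uu_mul, add_comm]
  unfold ee
  rw [mul_add, add_mul, add_mul, mul_add, add_mul, add_mul, h1]
  simp only [one_mul, mul_one]
  abel

theorem ee_zero (h2 : ∀ v : V, v + v = 0) : ee ρ (0 : K) = 0 := by
  unfold ee
  rw [uu_zero, map_one, two_eq_zero h2]

/-- the facts about a primitive cube root of unity `ζ` -/
theorem root_facts (hρ : CMod ρ) {ζ : K} (hζ : ζ ^ 2 + ζ + 1 = 0) :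
    ζ ≠ 0 ∧ 1 + ζ = ζ ^ 2 ∧ ζ * ζ ^ 2 = 1 ∧ (ζ ^ 2) ^ 2 + ζ ^ 2 + 1 = 0 ∧ (ζ ^ 2) ^ 2 = ζ := by
  have h2K : (2 : K) = 0 := CharTwo.two_eq_zero
  have h0 : ζ ≠ 0 := by
    rintro rfl
    simp at hζ
  have h1 : 1 + ζ = ζ ^ 2 := by linear_combination (-1 : K) * hζ + (ζ + 1) * h2K
  have h3 : ζ * ζ ^ 2 = 1 := by linear_combination (ζ - 1) * hζ
  have h4 : (ζ ^ 2) ^ 2 = ζ := by
    calc (ζ ^ 2) ^ 2 = ζ * (ζ * ζ ^ 2) := by ring
      _ = ζ := by rw [h3, mul_one]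
  refine ⟨h0, h1, h3, ?_, h4⟩
  rw [h4]
  linear_combination hζ

/-- (K3): `E_ζ = H_ζ E_1` -/
theorem ee_root (hρ : CMod ρ) {ζ : K} (hζ : ζ ^ 2 + ζ + 1 = 0) :
    ee ρ ζ = ρ (hh ζ) * ee ρ 1 := by
  have h2 := hρ.two
  obtain ⟨h0, h1, h3, -, -⟩ := root_facts ρ hρ hζ
  have hz2 : ζ ^ 2 ≠ 0 := pow_ne_zero 2 h0
  apply AddMonoid.End.ext
  intro v
  have hdd := ddagger ρ hρ (one_ne_zero (α := K)) h0 (by rw [h1]; exact hz2) v
  have hγ : (1 : K)⁻¹ + ζ⁻¹ + (1 + ζ)⁻¹ = 0 := by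
    have e1 : ζ⁻¹ = ζ ^ 2 := inv_eq_of_mul_eq_one_right h3
    have e2 : (1 + ζ)⁻¹ = ζ := by
      rw [h1, inv_eq_of_mul_eq_one_left h3]
    rw [e1, e2, inv_one]
    linear_combination hζ
  rw [hγ, uu_zero, rep_one_apply, h2, map_zero, map_zero, hh_one, rep_one_apply, inv_one, h1] at hdd
  -- `hdd : 0 = u(ζ) v + h(ζ) (u(1) v) + h(ζ²) v`
  have hc3 := hρ.c3 (hh ζ) (orderOf_hh_three hζ) v
  rw [← rep_mul_apply ρ (hh ζ) (hh ζ), hh_mul h0 h0, ← pow_two] at hc3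
  -- `hc3 : v + h(ζ) v + h(ζ²) v = 0`
  show v + ρ (uu ζ) v = ρ (hh ζ) (v + ρ (uu 1) v)
  rw [map_add]
  have e : v + ρ (uu ζ) v + (ρ (hh ζ) v + ρ (hh ζ) (ρ (uu 1) v)) =
      (v + ρ (hh ζ) v + ρ (hh (ζ ^ 2)) v) +
        (ρ (uu ζ) v + ρ (hh ζ) (ρ (uu 1) v) + ρ (hh (ζ ^ 2)) v) -
        (ρ (hh (ζ ^ 2)) v + ρ (hh (ζ ^ 2)) v) := by abel
  have := Dag.eq_of_add_eq_zero h2 (a := v + ρ (uu ζ) v)
    (b := ρ (hh ζ) v + ρ (hh ζ) (ρ (uu 1) v))
    (by rw [e, hc3, ← hdd, add_zero, h2 (ρ (hh (ζ ^ 2)) v), sub_zero])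
  exact this

/-- (K5): `E_1 H_ζ = H_{ζ²} E_1` -/
theorem ee_one_hh (hρ : CMod ρ) {ζ : K} (hζ : ζ ^ 2 + ζ + 1 = 0) :
    ee ρ 1 * ρ (hh ζ) = ρ (hh (ζ ^ 2)) * ee ρ 1 := by
  obtain ⟨h0, h1, h3, hζ2, h4⟩ := root_facts ρ hρ hζ
  have hz2 : ζ ^ 2 ≠ 0 := pow_ne_zero 2 h0
  -- `H_ζ E_1 = E_{ζ²} H_ζ`
  have hk4 : ρ (hh ζ) * ee ρ 1 = ee ρ (ζ ^ 2) * ρ (hh ζ) := by
    unfold ee
    rw [mul_add, add_mul, mul_one, one_mul, ← map_mul, ← map_mul, hh_uu h0, mul_one]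
  rw [ee_root ρ hρ hζ2] at hk4
  -- `hk4 : H_ζ E_1 = H_{ζ²} E_1 H_ζ`; multiply by `H_ζ` on the left
  have hA : ρ (hh ζ) * (ρ (hh ζ) * ee ρ 1) = ρ (hh (ζ ^ 2)) * ee ρ 1 := by
    rw [← mul_assoc, ← map_mul, hh_mul h0 h0, ← pow_two]
  have hB : ρ (hh ζ) * (ρ (hh (ζ ^ 2)) * ee ρ 1 * ρ (hh ζ)) = ee ρ 1 * ρ (hh ζ) := by
    rw [← mul_assoc, ← mul_assoc, ← map_mul, hh_mul h0 hz2, h3, hh_one, map_one, one_mul]
  rw [← hB, ← hk4, hA]

end Ext4

open Ext4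

variable {K : Type*} [Field K] [Fintype K] [CharP K 2] {V : Type*} [AddCommGroup V] [Finite V]
  (ρ : SL K →* AddMonoid.End V) {k : ℕ} (f : Fin k → ((Fin 2 → K) →+ V))

/-- quadratic action when `q = 4` -/
theorem quadratic_four_alt (hρ : CMod ρ) (h4 : Fintype.card K = 4) (b b' : K) (v : V) :
    v + ρ (uu b) v + ρ (uu b') v + ρ (uu b) (ρ (uu b') v) = 0 := by
  have h2 := hρ.two
  obtain ⟨ω, hω0, hω1, hω, hall⟩ := exists_omega (K := K) h4
  obtain ⟨-, -, h3, hω2, hsq⟩ := root_facts ρ hρ hω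
  have hz2 : ω ^ 2 ≠ 0 := pow_ne_zero 2 hω0
  -- the products
  have p1 : ∀ ζ : K, ζ ^ 2 + ζ + 1 = 0 → ee ρ 1 * ee ρ ζ = 0 := by
    intro ζ hζ
    rw [ee_root ρ hρ hζ, ← mul_assoc, ee_one_hh ρ hρ hζ, mul_assoc, ee_sq ρ h2, mul_zero]
  have p2 : ee ρ ω * ee ρ (ω ^ 2) = 0 := by
    rw [ee_root ρ hρ hω, ee_root ρ hρ hω2, mul_assoc, ← mul_assoc (ee ρ 1), ee_one_hh ρ hρ hω2,
      mul_assoc, ee_sq ρ h2, mul_zero, mul_zero]
  have key : ∀ c c' : K, ee ρ c * ee ρ c' = 0 := by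
    intro c c'
    rcases hall c with rfl | rfl | rfl | rfl <;> rcases hall c' with rfl | rfl | rfl | rfl
    all_goals first
      | rw [ee_zero ρ h2, zero_mul]
      | rw [ee_zero ρ h2, mul_zero]
      | exact ee_sq ρ h2 _
      | exact p1 _ hω
      | exact p1 _ hω2
      | exact p2
      | (rw [ee_comm]; first | exact p1 _ hω | exact p1 _ hω2 | exact p2)
  have := congrArg (fun x : AddMonoid.End V => x v) (key b b')
  simp only [end_mul_apply, ee_apply, end_zero_apply, map_add] at this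
  rw [← this]
  abel

theorem ext_four_alt (hρ : CMod ρ) (h4 : Fintype.card K = 4) (hf : ∀ i, IsNat ρ (f i))
    (hinj : Function.Injective (sumMap f)) (hne : (sumMap f).range ≠ ⊤) :
    ∃ x : V, SFix ρ x ∧ x ∉ (sumMap f).range := by
  classical
  have h2 := hρ.two
  by_contra hcon
  push_neg at hcon
  set U := (sumMap f).range with hU
  -- the map `E_1`
  let φ : V →+ V := (ee ρ (1 : K) : AddMonoid.End V)
  have hφ : ∀ v, φ v = v + ρ (uu 1) v := fun v => rfl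
  have hSF : ∀ v, SFix ρ (φ v) := by
    intro v c
    have := quadratic_four_alt ρ hρ h4 c 1 v
    rw [hφ, map_add]
    apply (Dag.eq_of_add_eq_zero h2 _).symm
    rw [← this]; abel
  have hrange : φ.range ≤ plusPart f := by
    rintro _ ⟨v, rfl⟩
    exact (fix_range_iff ρ f hf hinj one_ne_zero (hcon _ (hSF v))).mp (hSF v 1)
  have hker : Nat.card φ.ker = Nat.card {v : V // ρ (uu 1) v = v} := by
    apply Nat.card_congr
    refine Equiv.subtypeEquivRight (fun v => ?_)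
    rw [AddMonoidHom.mem_ker, hφ]
    constructor
    · intro h; exact (Dag.eq_of_add_eq_zero h2 h).symm
    · intro h; rw [h]; exact h2 v
  have hfix : Nat.card {v : V // ρ (uu 1) v = v} ^ 2 = Nat.card V :=
    card_fix_uu_sq ρ hρ.toC3 (fun v => by
      rw [show (4 : ℕ) = 2 + 2 by norm_num, add_nsmul, two_nsmul, h2 v, add_zero]) one_ne_zero
  have hP : Nat.card (plusPart f) ^ 2 = Nat.card U := card_plusPart_sq f hinj
  have hUlt : Nat.card U < Nat.card V := by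
    have hss : (U : Set V) ⊂ Set.univ := by
      rw [Set.ssubset_univ_iff]
      intro h
      apply hne
      exact SetLike.coe_injective (by rw [h]; rfl)
    have := Set.ncard_lt_ncard hss (Set.toFinite _)
    rwa [← Nat.card_coe_set_eq, Set.ncard_univ] at this
  have hmul : Nat.card V = Nat.card (V ⧸ φ.ker) * Nat.card φ.ker :=
    AddSubgroup.card_eq_card_quotient_mul_card_addSubgroup φ.ker
  have hq : Nat.card (V ⧸ φ.ker) = Nat.card φ.range :=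
    Nat.card_congr (QuotientAddGroup.quotientKerEquivRange φ).toEquiv
  have hle : Nat.card φ.range ≤ Nat.card (plusPart f) := AddSubgroup.card_le_of_le hrange
  -- arithmetic
  set a := Nat.card {v : V // ρ (uu 1) v = v}
  set p := Nat.card (plusPart f)
  have h5 : Nat.card V ≤ p * a := by
    rw [hmul, hq, hker]
    exact Nat.mul_le_mul_right _ hle
  have h6 : Nat.card V * Nat.card V ≤ Nat.card U * Nat.card V := by
    calc Nat.card V * Nat.card V ≤ (p * a) * (p * a) := Nat.mul_le_mul h5 h5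
      _ = p ^ 2 * a ^ 2 := by ring
      _ = Nat.card U * Nat.card V := by rw [hP, hfix]
  have hpos : 0 < Nat.card V := Nat.card_pos
  have := Nat.le_of_mul_le_mul_right h6 hpos
  omega

end Cfsg.Agent.Lib.Helper5.Hig
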