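import Mathlib
import Cfsg.Agent.Lib.Helper5.HigDefs
import Cfsg.Agent.Lib.Helper8.HigMatA
import Cfsg.Agent.Lib.Helper8.HigMatB
import Cfsg.Agent.Lib.Helper5.HigDag

set_option autoImplicit false

/-!
# Higman's theorem, package M4: a fixed vector of the unitriangular group generates a natural module
-/

namespace Cfsg.Agent.Lib.Helper5.Hig

open Matrix

variable {K : Type*} [Field K] [Fintype K] [CharP K 2] {V : Type*} [AddCommGroup V]
  (ρ : SL K →* AddMonoid.End V)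

omit [Fintype K] [CharP K 2] in
theorem sfix_hh {v : V} (hv' : SFix ρ v) {a : K} (ha : a ≠ 0) : SFix ρ (ρ (hh a) v) := by
  intro b
  have h1 : uu b * hh a = hh a * uu ((a ^ 2)⁻¹ * b) := by
    rw [hh_uu ha, ← mul_assoc, mul_inv_cancel₀ (pow_ne_zero 2 ha), one_mul]
  rw [← rep_mul_apply, h1, rep_mul_apply, hv']

omit [Fintype K] in
theorem sfix_ww (hρ : CMod ρ) {v : V} (hv' : SFix ρ v) {b : K} (hb : b ≠ 0) :
    ρ (uu b) (ρ ww v) = ρ ww v + ρ (hh b) v := by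
  rw [dagger ρ hρ hb v, hv', add_comm]

omit [Fintype K] in
theorem hv_add (hρ : CMod ρ) {v : V} (hv' : SFix ρ v) (a b : K) :
    hv ρ (a + b) v = hv ρ a v + hv ρ b v := by
  have h2 := hρ.two
  by_cases ha : a = 0
  · rw [ha, zero_add, hv_zero, zero_add]
  by_cases hb : b = 0
  · rw [hb, add_zero, hv_zero, add_zero]
  by_cases hab : a + b = 0
  · have : a = b := CharTwo.add_eq_zero.mp hab
    rw [hab, hv_zero, this, h2]
  rw [hv_of_ne ρ ha, hv_of_ne ρ hb, hv_of_ne ρ hab]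
  -- compute `u(a+b) (w v)` in two ways
  have e1 : ρ (uu (a + b)) (ρ ww v) = ρ ww v + ρ (hh (a + b)) v := sfix_ww ρ hρ hv' hab
  have e2 : ρ (uu (a + b)) (ρ ww v) = ρ ww v + ρ (hh a) v + ρ (hh b) v := by
    rw [← uu_mul, rep_mul_apply, sfix_ww ρ hρ hv' hb, map_add, sfix_ww ρ hρ hv' ha,
      sfix_hh ρ hv' hb a]
  rw [e1, add_assoc] at e2
  exact add_left_cancel e2

omit [Fintype K] [CharP K 2] in
theorem hv_mul {v : V} {a : K} (ha : a ≠ 0) (b : K) : ρ (hh a) (hv ρ b v) = hv ρ (a * b) v := by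
  by_cases hb : b = 0
  · rw [hb, mul_zero, hv_zero, map_zero]
  · rw [hv_of_ne ρ hb, hv_of_ne ρ (mul_ne_zero ha hb), ← rep_mul_apply, hh_mul ha hb]

omit [Fintype K] [CharP K 2] in
theorem hv_sfix {v : V} (hv' : SFix ρ v) (a : K) : SFix ρ (hv ρ a v) := by
  by_cases ha : a = 0
  · rw [ha, hv_zero]
    intro b
    exact map_zero _
  · rw [hv_of_ne ρ ha]
    exact sfix_hh ρ hv' ha

theorem exists_nat (hρ : CMod ρ) {v : V} (hv' : SFix ρ v) :
    ∃ f : (Fin 2 → K) →+ V, IsNat ρ f ∧ f (e1 1) = v ∧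
      ∀ α β : K, f ![α, β] = hv ρ α v + ρ ww (hv ρ β v) := by
  have h2 := hρ.two
  let f : (Fin 2 → K) →+ V :=
    { toFun := fun n => hv ρ (n 0) v + ρ ww (hv ρ (n 1) v)
      map_zero' := by
        show hv ρ 0 v + ρ ww (hv ρ 0 v) = 0
        rw [hv_zero, map_zero, add_zero]
      map_add' := fun n m => by
        show hv ρ (n 0 + m 0) v + ρ ww (hv ρ (n 1 + m 1) v) = _
        rw [hv_add ρ hρ hv', hv_add ρ hρ hv', map_add]
        abel }
  have hfdef : ∀ n : Fin 2 → K, f n = hv ρ (n 0) v + ρ ww (hv ρ (n 1) v) := fun n => rfl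
  -- equivariance for the generators
  have hmul : ∀ g h : SL K, (∀ n, f (g • n) = ρ g (f n)) → (∀ n, f (h • n) = ρ h (f n)) →
      ∀ n, f ((g * h) • n) = ρ (g * h) (f n) := by
    intro g h hg hh' n
    rw [mul_smul, hg, hh', rep_mul_apply]
  have hU : ∀ c : K, ∀ n, f (uu c • n) = ρ (uu c) (f n) := by
    intro c n
    rw [uu_smul, hfdef, hfdef, map_add, hv_sfix ρ hv' (n 0) c]
    show hv ρ (n 0 + c * n 1) v + ρ ww (hv ρ (n 1) v) = _
    by_cases hc : c = 0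
    · rw [hc, zero_mul, add_zero, uu_zero, rep_one_apply]
    · rw [sfix_ww ρ hρ (hv_sfix ρ hv' (n 1)) hc, hv_mul ρ hc, hv_add ρ hρ hv']
      abel
  have hW : ∀ n, f ((ww : SL K) • n) = ρ ww (f n) := by
    intro n
    rw [ww_smul, hfdef, hfdef, map_add, ← rep_mul_apply ρ ww ww, ww_sq, rep_one_apply]
    show hv ρ (n 1) v + ρ ww (hv ρ (n 0) v) = _
    abel
  have hH : ∀ a : K, a ≠ 0 → ∀ n, f (hh a • n) = ρ (hh a) (f n) := by
    intro a ha n
    rw [hh_smul ha, hfdef, hfdef, map_add, hv_mul ρ ha]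
    show hv ρ (a * n 0) v + ρ ww (hv ρ (a⁻¹ * n 1) v) = _
    congr 1
    have : hh a * ww = ww * hh a⁻¹ := by
      rw [ww_hh (inv_ne_zero ha), inv_inv]
    rw [← rep_mul_apply ρ (hh a) ww, this, rep_mul_apply, hv_mul ρ (inv_ne_zero ha)]
  refine ⟨f, ?_, ?_, ?_⟩
  · intro g n
    rcases bruhat g with ⟨a, b, ha, rfl⟩ | ⟨p, r, s, hr, rfl⟩
    · exact hmul _ _ (hH a ha) (hU b) n
    · exact hmul _ _ (hmul _ _ (hmul _ _ (hU p) hW) (hH r hr)) (hU s) n
  · rw [hfdef]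
    show hv ρ 1 v + ρ ww (hv ρ 0 v) = v
    rw [hv_zero, map_zero, add_zero, hv_of_ne ρ one_ne_zero, hh_one, rep_one_apply]
  · intro α β
    rfl

end Cfsg.Agent.Lib.Helper5.Hig
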