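import Mathlib
import Cfsg.Agent.Lib.Helper5.HigDefs
import Cfsg.Agent.Lib.Helper8.HigMatA
import Cfsg.Agent.Lib.Helper8.HigMatB
import Cfsg.Agent.Lib.Helper5.HigDag
import Cfsg.Agent.Lib.Helper5.HigPhi
import Cfsg.Agent.Lib.Helper5.HigSum
import Cfsg.Agent.Lib.Helper8.HigSimple
import Cfsg.Agent.Lib.Helper8.HigFixVec

set_option autoImplicit false

/-!
# Higman's theorem, package E8: the extension lemma for `q ≥ 8`
-/

namespace Cfsg.Agent.Lib.Helper5.Hig

open Matrix

namespace Ext8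

variable {K : Type*} [Field K] [Fintype K] [CharP K 2] {V : Type*} [AddCommGroup V]
  (ρ : SL K →* AddMonoid.End V)

theorem odd_nsmul {v : V} (h2 : v + v = 0) {n : ℕ} (hn : Odd n) : n • v = v := by
  obtain ⟨j, rfl⟩ := hn
  have : (2 * j) • v = 0 := by rw [mul_comm, mul_nsmul', two_nsmul, h2, nsmul_zero]
  rw [add_nsmul, one_nsmul, this, zero_add]

theorem neg_eq_self (h2 : ∀ v : V, v + v = 0) (v : V) : -v = v :=
  neg_eq_of_add_eq_zero_left (h2 v)

theorem eq_of_add_eq_zero (h2 : ∀ v : V, v + v = 0) {a b : V} (h : a + b = 0) : a = b := by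
  have := eq_neg_of_add_eq_zero_left h
  rwa [neg_eq_self h2] at this

theorem add_eq_zero_of_eq (h2 : ∀ v : V, v + v = 0) {a b : V} (h : a = b) : a + b = 0 := by
  rw [h]; exact h2 b

theorem card_units_odd (K : Type*) [Field K] [Fintype K] [CharP K 2] : Odd (Nat.card Kˣ) := by
  classical
  obtain ⟨m, hm⟩ := exists_card_pow (K := K)
  rw [Nat.card_eq_fintype_card, Fintype.card_units, hm]
  have hm0 : m ≠ 0 := by
    rintro rfl
    have := Fintype.one_lt_card (α := K)
    omega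
  obtain ⟨j, rfl⟩ := Nat.exists_eq_succ_of_ne_zero hm0
  refine ⟨2 ^ j - 1, ?_⟩
  have : 1 ≤ 2 ^ j := Nat.one_le_two_pow
  rw [pow_succ]
  omega

theorem hh_comm {a b : K} (ha : a ≠ 0) (hb : b ≠ 0) : hh a * hh b = hh b * hh a := by
  rw [hh_mul ha hb, hh_mul hb ha, mul_comm]

theorem rep_hh_comm {a b : K} (ha : a ≠ 0) (hb : b ≠ 0) (v : V) :
    ρ (hh a) (ρ (hh b) v) = ρ (hh b) (ρ (hh a) v) := by
  rw [← rep_mul_apply, ← rep_mul_apply, hh_comm ha hb]

theorem rep_hh_inv_cancel {a : K} (ha : a ≠ 0) (v : V) : ρ (hh a) (ρ (hh a⁻¹) v) = v := by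
  rw [← rep_mul_apply, hh_mul ha (inv_ne_zero ha), mul_inv_cancel₀ ha, hh_one, rep_one_apply]

/-- Maschke for the odd group of diagonal matrices -/
theorem exists_proj [Finite V] (h2 : ∀ v : V, v + v = 0) (U : AddSubgroup V) (hU : Invt ρ U) :
    ∃ π : V →+ V, (∀ v, π v ∈ U) ∧ (∀ u ∈ U, π u = u) ∧
      ∀ a : K, a ≠ 0 → ∀ v, ρ (hh a) (π v) = π (ρ (hh a) v) := by
  classical
  letI : Module (ZMod 2) V := AddCommGroup.zmodModule (n := 2) (fun v => by
    rw [two_nsmul]; exact h2 v)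
  let U' : Submodule (ZMod 2) V := AddSubgroup.toZModSubmodule 2 U
  have hU' : ∀ v, v ∈ U' ↔ v ∈ U := fun v => Iff.rfl
  obtain ⟨C0, hC0⟩ := Submodule.exists_isCompl U'
  let p0 : V →ₗ[ZMod 2] U' := Submodule.linearProjOfIsCompl U' C0 hC0
  have hp0 : ∀ u : V, u ∈ U → ((p0 u : U') : V) = u := by
    intro u hu
    have := Submodule.linearProjOfIsCompl_apply_left hC0 (⟨u, (hU' u).mpr hu⟩ : U')
    exact congrArg Subtype.val this
  let π : V →+ V :=
    { toFun := fun v => ∑ a : Kˣ, ρ (hh (a : K)) ((p0 (ρ (hh ((a : K)⁻¹)) v) : U') : V)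
      map_zero' := by simp
      map_add' := fun v w => by
        simp only [map_add, Submodule.coe_add]
        rw [Finset.sum_add_distrib] }
  have hπ : ∀ v, π v = ∑ a : Kˣ, ρ (hh (a : K)) ((p0 (ρ (hh ((a : K)⁻¹)) v) : U') : V) :=
    fun v => rfl
  refine ⟨π, ?_, ?_, ?_⟩
  · intro v
    rw [hπ]
    refine AddSubgroup.sum_mem U (fun a _ => ?_)
    exact hU _ _ ((hU' _).mp (p0 _).2)
  · intro u hu
    rw [hπ]
    have : ∀ a : Kˣ, ρ (hh (a : K)) ((p0 (ρ (hh ((a : K)⁻¹)) u) : U') : V) = u := by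
      intro a
      rw [hp0 _ (hU _ _ hu)]
      exact rep_hh_inv_cancel ρ a.ne_zero u
    rw [Finset.sum_congr rfl (fun a _ => this a), Finset.sum_const, Finset.card_univ,
      ← Nat.card_eq_fintype_card]
    exact odd_nsmul (h2 u) (card_units_odd K)
  · intro b hb v
    rw [hπ, hπ, map_sum]
    let bu : Kˣ := Units.mk0 b hb
    refine Fintype.sum_equiv (Equiv.mulLeft bu) _ _ (fun a => ?_)
    have ha : (a : K) ≠ 0 := a.ne_zero
    have h1 : (((Equiv.mulLeft bu) a : Kˣ) : K) = b * a := rfl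
    have h3 : ρ (hh ((b * (a : K))⁻¹)) (ρ (hh b) v) = ρ (hh ((a : K)⁻¹)) v := by
      rw [← rep_mul_apply, hh_mul (inv_ne_zero (mul_ne_zero hb ha)) hb]
      congr 3
      field_simp
    rw [h1, h3, ← rep_mul_apply, hh_mul hb ha]

end Ext8

open Ext8

variable {K : Type*} [Field K] [Fintype K] [CharP K 2] {V : Type*} [AddCommGroup V] [Finite V]
  (ρ : SL K →* AddMonoid.End V) {k : ℕ} (f : Fin k → ((Fin 2 → K) →+ V))

theorem ext_eight (hρ : CMod ρ) (h8 : 8 ≤ Fintype.card K) (hf : ∀ i, IsNat ρ (f i))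
    (hinj : Function.Injective (sumMap f)) (hne : (sumMap f).range ≠ ⊤) :
    ∃ x : V, SFix ρ x ∧ x ∉ (sumMap f).range := by
  classical
  have h2 := hρ.two
  set U : AddSubgroup V := (sumMap f).range with hUdef
  have hU : Invt ρ U := range_invt ρ f hf
  have hq : CMod (quotRep ρ U hU) := hρ.quot U hU
  have hmk0 : ∀ v : V, (QuotientAddGroup.mk v : V ⧸ U) = 0 ↔ v ∈ U :=
    fun v => QuotientAddGroup.eq_zero_iff v
  have hnt : Nontrivial (V ⧸ U) := by
    by_contra hcon
    rw [not_nontrivial_iff_subsingleton] at hcon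
    apply hne
    rw [eq_top_iff]
    intro v _
    rw [← hmk0]
    exact Subsingleton.elim _ _
  obtain ⟨xb, hxb, hxb0⟩ := exists_sfix_ne_zero (quotRep ρ U hU) hq.two hnt
  obtain ⟨fb, hfb, hfb1, -⟩ := exists_nat (quotRep ρ U hU) hq hxb
  -- the basic facts about `plusPart`
  have hplusU : ∀ z ∈ plusPart f, z ∈ U := fun z hz => plusPart_le f hz
  have hplusS : ∀ z ∈ plusPart f, SFix ρ z := fun z hz => plusPart_sfix ρ f hf hz
  -- `E_s` maps the range into the plus part
  have hErange : ∀ u ∈ U, ∀ s : K, u + ρ (uu s) u ∈ plusPart f := by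
    intro u hu s
    obtain ⟨y1, hy1, y2, hy2, rfl⟩ := range_decomp ρ f hf hu
    by_cases hs : s = 0
    · subst hs
      rw [uu_zero, rep_one_apply, h2]
      exact (plusPart f).zero_mem
    · have e1' : ρ (uu s) (y1 + ρ ww y2) = y1 + (ρ ww y2 + ρ (hh s) y2) := by
        rw [map_add, hplusS y1 hy1 s, sfix_ww ρ hρ (hplusS y2 hy2) hs]
      have e2' : y1 + ρ ww y2 + (y1 + (ρ ww y2 + ρ (hh s) y2)) =
          (y1 + y1) + (ρ ww y2 + ρ ww y2) + ρ (hh s) y2 := by abel
      rw [e1', e2', h2, h2, zero_add, zero_add]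
      exact plusPart_hh ρ f hf hy2 hs
  -- the predicate `P`
  let P : V → Prop := fun x => ∃ α : K, (QuotientAddGroup.mk x : V ⧸ U) = fb (e1 α)
  have hmkρ : ∀ (g : SL K) (v : V), (QuotientAddGroup.mk (ρ g v) : V ⧸ U) =
      quotRep ρ U hU g (QuotientAddGroup.mk v) := fun g v => rfl
  -- claim B
  have hB : ∀ x, P x → ∀ s : K, x + ρ (uu s) x ∈ plusPart f := by
    rintro x ⟨α, hα⟩ s
    obtain ⟨v2, hv2⟩ := QuotientAddGroup.mk_surjective (s := U) (fb (e2 α))
    set y : V := v2 + ρ (uu 1) v2 with hy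
    have hy1 : ρ (uu 1) y = y := by
      rw [hy, map_add, ← rep_mul_apply, uu_sq, rep_one_apply, add_comm]
    have hymk : (QuotientAddGroup.mk y : V ⧸ U) = fb (e1 α) := by
      rw [hy, QuotientAddGroup.mk_add, hmkρ, hv2, ← hfb, ← map_add]
      congr 1
      rw [uu_smul]
      ext i
      fin_cases i
      · simp [e1, e2]
      · simp [e1, e2, CharTwo.add_self_eq_zero]
    -- `x + y ∈ U`
    have hxy : x + y ∈ U := by
      rw [← hmk0, QuotientAddGroup.mk_add, hα, hymk]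
      exact hq.two _
    -- `E_s y ∈ plusPart`
    have hEy : y + ρ (uu s) y ∈ plusPart f := by
      have hmem : y + ρ (uu s) y ∈ U := by
        rw [← hmk0, QuotientAddGroup.mk_add, hmkρ, hymk, ← hfb, ← map_add]
        have : e1 α + uu s • e1 α = (0 : Fin 2 → K) := by
          rw [uu_smul]
          ext i
          fin_cases i
          · simp [e1, CharTwo.add_self_eq_zero]
          · simp [e1]
        rw [this, map_zero]
      have hfix : ρ (uu 1) (y + ρ (uu s) y) = y + ρ (uu s) y := by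
        rw [map_add, hy1, ← rep_mul_apply, uu_mul, add_comm (1 : K) s, ← uu_mul, rep_mul_apply,
          hy1]
      exact (fix_range_iff ρ f hf hinj one_ne_zero hmem).mp hfix
    have hExy := hErange (x + y) hxy s
    have : x + ρ (uu s) x = (x + y + ρ (uu s) (x + y)) + (y + ρ (uu s) y) := by
      rw [map_add]
      have : x + y + (ρ (uu s) x + ρ (uu s) y) + (y + ρ (uu s) y) =
          x + ρ (uu s) x + (y + y) + (ρ (uu s) y + ρ (uu s) y) := by abel
      rw [this, h2, h2, add_zero, add_zero]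
    rw [this]
    exact (plusPart f).add_mem hExy hEy
  -- `P` is stable under the torus
  have hPh : ∀ x, P x → ∀ a : K, a ≠ 0 → P (ρ (hh a) x) := by
    rintro x ⟨α, hα⟩ a ha
    refine ⟨a * α, ?_⟩
    rw [hmkρ, hα, ← hfb]
    congr 1
    rw [hh_smul ha]
    ext i
    fin_cases i <;> simp [e1]
  -- additivity predicate
  let A : V → Prop := fun x => ∀ d d' : K, d ≠ 0 → d' ≠ 0 → d + d' ≠ 0 →
    ρ (hh (d + d')) x = ρ (hh d) x + ρ (hh d') x
  have hAh : ∀ x, A x → ∀ a : K, a ≠ 0 → A (ρ (hh a) x) := by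
    intro x hx a ha d d' hd hd' hdd
    rw [rep_hh_comm ρ hdd ha, rep_hh_comm ρ hd ha, rep_hh_comm ρ hd' ha, hx d d' hd hd' hdd,
      map_add]
  -- the good parameter
  obtain ⟨c, hc0, hc1, hc3⟩ := exists_good (K := K) h8
  have hc1' : c + 1 ≠ 0 := by
    intro h
    apply hc1
    have := CharTwo.add_eq_zero.mp h
    exact this
  set γ : K := c⁻¹ + 1⁻¹ + (c + 1)⁻¹ with hγ
  have hγ0 : γ ≠ 0 := by
    intro h
    apply hc3
    have h2K : (2 : K) = 0 := CharTwo.two_eq_zero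
    have : γ * (c * (c + 1)) = c ^ 2 + c + 1 := by
      rw [hγ]
      field_simp
      linear_combination c * h2K
    rw [← this, h, zero_mul]
  -- main claim
  have hmain : ∀ x, P x → A x → x + ρ (uu γ) x = 0 := by
    intro x hPx hAx
    set z := x + ρ (uu γ) x with hz
    have hzP : z ∈ plusPart f := hB x hPx γ
    have hdd := ddagger ρ hρ hc0 one_ne_zero hc1' x
    rw [← hγ, ← hz, hplusS z hzP, hh_one, rep_one_apply] at hdd
    set z1 := ρ (hh c) x + ρ (uu 1) (ρ (hh c) x) with hz1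
    have hz1P : z1 ∈ plusPart f := hB _ (hPh x hPx c hc0) 1
    set z2 := x + ρ (uu c⁻¹) x with hz2
    have hz2P : z2 ∈ plusPart f := hB x hPx c⁻¹
    have e1' : ρ (uu 1) (ρ (hh c) x) = ρ (hh c) x + z1 := by
      rw [hz1, ← add_assoc, h2, zero_add]
    have e2' : ρ (uu c⁻¹) x = x + z2 := by
      rw [hz2, ← add_assoc, h2, zero_add]
    have e3' : ρ (hh (c + 1)) x = ρ (hh c) x + x := by
      rw [hAx c 1 hc0 one_ne_zero hc1', hh_one, rep_one_apply]
    rw [e1', e2', e3'] at hdd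
    have e4' : ρ (hh c) x + z1 + (x + z2) + (ρ (hh c) x + x) =
        (ρ (hh c) x + ρ (hh c) x) + (x + x) + (z1 + z2) := by abel
    rw [e4', h2, h2, zero_add, zero_add] at hdd
    have hw : ρ ww z ∈ plusPart f := by
      rw [hdd]
      exact (plusPart f).add_mem hz1P hz2P
    exact plusPart_inter_ww ρ f hf hinj hzP hw
  -- the vector
  obtain ⟨π, hπU, hπid, hπh⟩ := exists_proj ρ h2 U hU
  obtain ⟨y0, hy0⟩ := QuotientAddGroup.mk_surjective (s := U) xb
  obtain ⟨y1, hy1⟩ : ∃ y1 : V, y1 = y0 + π y0 := ⟨_, rfl⟩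
  have hπy1 : π y1 = 0 := by
    rw [hy1, map_add, hπid _ (hπU y0), h2]
  have hy1mk : (QuotientAddGroup.mk y1 : V ⧸ U) = fb (e1 1) := by
    rw [hy1, QuotientAddGroup.mk_add, (hmk0 _).mpr (hπU y0), add_zero, hy0, hfb1]
  have hP1 : P y1 := ⟨1, hy1mk⟩
  have hA1 : A y1 := by
    intro d d' hd hd' hdd
    set D := ρ (hh (d + d')) y1 + (ρ (hh d) y1 + ρ (hh d') y1) with hD
    have hDU : D ∈ U := by
      rw [← hmk0, hD, QuotientAddGroup.mk_add, QuotientAddGroup.mk_add, hmkρ, hmkρ, hmkρ, hy1mk,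
        ← hfb, ← hfb, ← hfb, ← map_add, ← map_add]
      have : hh (d + d') • e1 (1 : K) + (hh d • e1 (1 : K) + hh d' • e1 (1 : K)) =
          (0 : Fin 2 → K) := by
        rw [hh_smul hdd, hh_smul hd, hh_smul hd']
        ext i
        fin_cases i
        · simp [e1, CharTwo.add_self_eq_zero]
        · simp [e1]
      rw [this, map_zero]
    have hπD : π D = 0 := by
      have e1' : π (ρ (hh (d + d')) y1) = 0 := by rw [← hπh _ hdd, hπy1, map_zero]
      have e2' : π (ρ (hh d) y1) = 0 := by rw [← hπh _ hd, hπy1, map_zero]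
      have e3' : π (ρ (hh d') y1) = 0 := by rw [← hπh _ hd', hπy1, map_zero]
      rw [hD, map_add π, map_add π, e1', e2', e3', add_zero, add_zero]
    have : D = 0 := by rw [← hπid D hDU, hπD]
    exact eq_of_add_eq_zero h2 this
  -- `y1` is fixed
  refine ⟨y1, ?_, ?_⟩
  · intro b
    by_cases hb : b = 0
    · rw [hb, uu_zero, rep_one_apply]
    · obtain ⟨s, hs⟩ := isSquare_all (K := K) (b * γ⁻¹)
      have hs0 : s ≠ 0 := by
        rintro rfl
        rw [zero_pow (by norm_num)] at hs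
        exact mul_ne_zero hb (inv_ne_zero hγ0) hs.symm
      have hbs : uu b = hh s * uu γ * (hh s)⁻¹ := by
        rw [hh_uu_inv hs0, hs, mul_assoc, inv_mul_cancel₀ hγ0, mul_one]
      rw [hbs, hh_inv hs0, rep_mul_apply, rep_mul_apply]
      set x' := ρ (hh s⁻¹) y1 with hx'
      have hx'P : P x' := hPh y1 hP1 s⁻¹ (inv_ne_zero hs0)
      have hx'A : A x' := hAh y1 hA1 s⁻¹ (inv_ne_zero hs0)
      have := hmain x' hx'P hx'A
      have h3 : ρ (uu γ) x' = x' := (eq_of_add_eq_zero h2 this).symm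
      rw [h3, hx']
      exact rep_hh_inv_cancel ρ hs0 y1
  · intro hmem
    apply hxb0
    rw [← hfb1, ← hy1mk]
    exact (hmk0 _).mpr hmem

end Cfsg.Agent.Lib.Helper5.Hig
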