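import Mathlib
import Cfsg.Agent.Lib.Helper5.HigDefs
import Cfsg.Agent.Lib.Helper8.HigMatA
import Cfsg.Agent.Lib.Helper8.HigMatB
import Cfsg.Agent.Lib.Helper5.HigPhi
import Cfsg.Agent.Lib.Helper5.HigSum
import Cfsg.Agent.Lib.Helper5.HigExt8
import Cfsg.Agent.Lib.Helper8.HigExt4
import Cfsg.Agent.Lib.Helper8.HigSimple

set_option autoImplicit false

/-!
# Higman's theorem, package I: every module in the class is a direct sum of natural modules
-/

namespace Cfsg.Agent.Lib.Helper5.Hig

open Matrix

variable {K : Type*} [Field K] [Fintype K] [CharP K 2] {V : Type*} [AddCommGroup V] [Finite V]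
  (ρ : SL K →* AddMonoid.End V)

namespace ThmI

omit [Fintype K] [CharP K 2] [Finite V] in
theorem sumMap_snoc {k : ℕ} (f : Fin k → ((Fin 2 → K) →+ V)) (fx : (Fin 2 → K) →+ V)
    (n : Fin (k + 1) → Fin 2 → K) :
    sumMap (Fin.snoc f fx : Fin (k + 1) → ((Fin 2 → K) →+ V)) n =
      sumMap f (fun i => n i.castSucc) + fx (n (Fin.last k)) := by
  rw [sumMap_apply, sumMap_apply, Fin.sum_univ_castSucc]
  simp only [Fin.snoc_castSucc, Fin.snoc_last]

/-- one extension step -/
theorem step (hρ : CMod ρ) (h4 : 4 ≤ Fintype.card K) {k : ℕ} (f : Fin k → ((Fin 2 → K) →+ V))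
    (hf : ∀ i, IsNat ρ (f i)) (hinj : Function.Injective (sumMap f))
    (hne : (sumMap f).range ≠ ⊤) :
    ∃ f' : Fin (k + 1) → ((Fin 2 → K) →+ V), (∀ i, IsNat ρ (f' i)) ∧
      Function.Injective (sumMap f') ∧ (sumMap f).range < (sumMap f').range := by
  obtain ⟨x, hxS, hxU⟩ : ∃ x : V, SFix ρ x ∧ x ∉ (sumMap f).range := by
    rcases card_four_or (K := K) h4 with h | h
    · exact ext_four ρ f hρ h hf hinj hne
    · exact ext_eight ρ f hρ h hf hinj hne
  obtain ⟨fx, hfx, hfx1, -⟩ := exists_nat ρ hρ hxS
  have hU : Invt ρ (sumMap f).range := range_invt ρ f hf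
  refine ⟨Fin.snoc f fx, ?_, ?_, ?_⟩
  · intro i
    refine Fin.lastCases ?_ (fun j => ?_) i
    · rw [Fin.snoc_last]; exact hfx
    · rw [Fin.snoc_castSucc]; exact hf j
  · rw [injective_iff_map_eq_zero]
    intro n hn
    rw [sumMap_snoc] at hn
    have hmem : fx (n (Fin.last k)) ∈ (sumMap f).range := by
      have : fx (n (Fin.last k)) = -sumMap f (fun i => n i.castSucc) :=
        eq_neg_of_add_eq_zero_right hn
      rw [this]
      exact (sumMap f).range.neg_mem ⟨_, rfl⟩
    have hlast : n (Fin.last k) = 0 := by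
      by_contra hcon
      exact nat_not_mem ρ hfx hU (by rw [hfx1]; exact hxU) hcon hmem
    rw [hlast, map_zero, add_zero] at hn
    have hinit : (fun i : Fin k => n i.castSucc) = 0 := hinj (by rw [hn, map_zero])
    funext i
    refine Fin.lastCases ?_ (fun j => ?_) i
    · exact hlast
    · exact congrFun hinit j
  · refine lt_of_le_of_ne ?_ ?_
    · rintro _ ⟨n, rfl⟩
      refine ⟨Fin.snoc n 0, ?_⟩
      rw [sumMap_snoc]
      simp only [Fin.snoc_castSucc, Fin.snoc_last, map_zero, add_zero]
    · intro heq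
      apply hxU
      rw [heq]
      refine ⟨Fin.snoc (fun _ : Fin k => (0 : Fin 2 → K)) (e1 1), ?_⟩
      rw [sumMap_snoc]
      simp only [Fin.snoc_castSucc, Fin.snoc_last, hfx1]
      have h0 : (fun _ : Fin k => (0 : Fin 2 → K)) = 0 := rfl
      rw [h0, map_zero, zero_add]

end ThmI

open ThmI

theorem natSum_of_cmod (hρ : CMod ρ) (h4 : 4 ≤ Fintype.card K) : NatSum ρ := by
  classical
  -- induction on the codimension
  have key : ∀ m : ℕ, ∀ (k : ℕ) (f : Fin k → ((Fin 2 → K) →+ V)), (∀ i, IsNat ρ (f i)) →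
      Function.Injective (sumMap f) → Nat.card V - Nat.card (sumMap f).range ≤ m → NatSum ρ := by
    intro m
    induction m with
    | zero =>
      intro k f hf hinj hm
      have hle : Nat.card V ≤ Nat.card (sumMap f).range := by omega
      have htop : (sumMap f).range = ⊤ := by
        apply AddSubgroup.eq_top_of_le_card
        exact hle
      refine ⟨k, f, hf, hinj, ?_⟩
      intro v
      have : v ∈ (sumMap f).range := by rw [htop]; trivial
      obtain ⟨n, hn⟩ := this
      exact ⟨n, hn⟩
    | succ m ih =>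
      intro k f hf hinj hm
      by_cases htop : (sumMap f).range = ⊤
      · refine ⟨k, f, hf, hinj, ?_⟩
        intro v
        have : v ∈ (sumMap f).range := by rw [htop]; trivial
        obtain ⟨n, hn⟩ := this
        exact ⟨n, hn⟩
      · obtain ⟨f', hf', hinj', hlt⟩ := step ρ hρ h4 f hf hinj htop
        apply ih (k + 1) f' hf' hinj'
        have h1 : Nat.card (sumMap f).range < Nat.card (sumMap f').range := by
          have hss : ((sumMap f).range : Set V) ⊂ ((sumMap f').range : Set V) :=
            SetLike.coe_ssubset_coe.mpr hlt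
          have := Set.ncard_lt_ncard hss (Set.toFinite _)
          rwa [← Nat.card_coe_set_eq, ← Nat.card_coe_set_eq] at this
        have h2 : Nat.card (sumMap f').range ≤ Nat.card V := AddSubgroup.card_le_card_addGroup _
        omega
  -- start with the empty family
  refine key (Nat.card V) 0 (fun i => i.elim0) (fun i => i.elim0) ?_ (Nat.sub_le _ _)
  intro a b _
  exact Subsingleton.elim _ _

end Cfsg.Agent.Lib.Helper5.Hig
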