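import Mathlib
import Cfsg.Agent.Lib.Helper5.HigDefs
import Cfsg.Agent.Lib.Helper8.HigMatA
import Cfsg.Agent.Lib.Helper8.HigMatB
import Cfsg.Agent.Lib.Helper5.HigPhi
import Cfsg.Agent.Lib.Helper5.HigSum
import Cfsg.Agent.Lib.Helper5.HigThmI
import Cfsg.Agent.Lib.Helper8.HigFix

set_option autoImplicit false

/-!
# Higman's theorem, package Kd: an abelian group of exponent four on which `SL₂(q)`, `q ≥ 4`, acts
with all elements of order three satisfying `1 + d + d² = 0` has exponent two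
-/

namespace Cfsg.Agent.Lib.Helper5.Hig

open Matrix

namespace Kill

variable {K : Type*} [Field K] [Fintype K] [CharP K 2]

theorem hh_pow {b : K} (hb : b ≠ 0) (n : ℕ) : (hh b) ^ n = hh (b ^ n) := by
  induction n with
  | zero => rw [pow_zero, pow_zero, hh_one]
  | succ n ih => rw [pow_succ, pow_succ, ih, hh_mul (pow_ne_zero n hb) hb]

theorem hh_pow_card {b : K} (hb : b ≠ 0) : (hh b) ^ Fintype.card K = hh b := by
  rw [hh_pow hb, FiniteField.pow_card]

theorem card_even : ∃ j : ℕ, Fintype.card K = 2 * j := by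
  obtain ⟨m, hm⟩ := exists_card_pow (K := K)
  have hm0 : m ≠ 0 := by
    rintro rfl
    have := Fintype.one_lt_card (α := K)
    omega
  obtain ⟨j, rfl⟩ := Nat.exists_eq_succ_of_ne_zero hm0
  exact ⟨2 ^ j, by rw [hm, pow_succ, mul_comm]⟩

theorem exists_ne_zero_one (h4 : 4 ≤ Fintype.card K) : ∃ b : K, b ≠ 0 ∧ b ≠ 1 := by
  classical
  by_contra hcon
  push_neg at hcon
  have : Fintype.card K ≤ 2 := by
    have hsub : (Finset.univ : Finset K) ⊆ {0, 1} := by
      intro x _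
      by_cases hx : x = 0
      · simp [hx]
      · simp [hcon x hx]
    calc Fintype.card K = (Finset.univ : Finset K).card := rfl
      _ ≤ ({0, 1} : Finset K).card := Finset.card_le_card hsub
      _ ≤ 2 := Finset.card_le_two
  omega

end Kill

open Kill

variable {K : Type*} [Field K] [Fintype K] [CharP K 2] {A : Type*} [AddCommGroup A] [Finite A]
  (ρ : SL K →* AddMonoid.End A)

theorem kill (hρ : C3 ρ) (h4 : 4 ≤ Fintype.card K) (hA : ∀ a : A, (4 : ℕ) • a = 0) :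
    ∀ a : A, a + a = 0 := by
  classical
  -- the subgroup of elements of order at most two
  let Z : AddSubgroup A :=
    { carrier := {a | a + a = 0}
      zero_mem' := by simp
      add_mem' := fun {a b} ha hb => by
        show a + b + (a + b) = 0
        have : a + b + (a + b) = (a + a) + (b + b) := by abel
        rw [this, ha, hb, add_zero]
      neg_mem' := fun {a} ha => by
        show -a + -a = 0
        rw [← neg_add, ha, neg_zero] }
  have hZmem : ∀ a : A, a ∈ Z ↔ a + a = 0 := fun a => Iff.rfl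
  have hZ : Invt ρ Z := by
    intro g a ha
    show ρ g a + ρ g a = 0
    rw [← map_add, (hZmem a).mp ha, map_zero]
  have hdouble : ∀ a : A, a + a ∈ Z := by
    intro a
    show a + a + (a + a) = 0
    have := hA a
    rw [show (4 : ℕ) • a = a + a + (a + a) by
      rw [show (4 : ℕ) = 2 + 2 by norm_num, add_nsmul, two_nsmul]] at this
    exact this
  have hZneg : ∀ z ∈ Z, -z = z := fun z hz => neg_eq_of_add_eq_zero_left ((hZmem z).mp hz)
  -- the two modules
  have hCZ : CMod (subRep ρ Z hZ) :=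
    ⟨fun z => Subtype.ext ((hZmem z).mp z.2), hρ.sub Z hZ⟩
  have hmk0 : ∀ a : A, (QuotientAddGroup.mk a : A ⧸ Z) = 0 ↔ a ∈ Z :=
    fun a => QuotientAddGroup.eq_zero_iff a
  have hmkρ : ∀ (g : SL K) (a : A), (QuotientAddGroup.mk (ρ g a) : A ⧸ Z) =
      quotRep ρ Z hZ g (QuotientAddGroup.mk a) := fun g a => rfl
  have hCV : CMod (quotRep ρ Z hZ) := by
    refine ⟨fun v => ?_, fun d hd v => ?_⟩
    · induction v using QuotientAddGroup.induction_on with
      | H a =>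
        rw [← QuotientAddGroup.mk_add]
        exact (hmk0 _).mpr (hdouble a)
    · induction v using QuotientAddGroup.induction_on with
      | H a =>
        rw [← hmkρ, ← hmkρ, ← QuotientAddGroup.mk_add, ← QuotientAddGroup.mk_add, hρ d hd a]
        rfl
  obtain ⟨kZ, fZ, hfZ, hbijZ⟩ := natSum_of_cmod (subRep ρ Z hZ) hCZ h4
  obtain ⟨kV, fV, hfV, hbijV⟩ := natSum_of_cmod (quotRep ρ Z hZ) hCV h4
  have hrangeZ : ∀ z : Z, z ∈ (sumMap fZ).range := fun z => by
    obtain ⟨n, hn⟩ := hbijZ.2 z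
    exact ⟨n, hn⟩
  have hrangeV : ∀ v : A ⧸ Z, v ∈ (sumMap fV).range := fun v => by
    obtain ⟨n, hn⟩ := hbijV.2 v
    exact ⟨n, hn⟩
  -- notation
  obtain ⟨b, hb0, hb1⟩ := exists_ne_zero_one (K := K) h4
  have hb1' : 1 + b ≠ 0 := by
    intro h
    apply hb1
    exact (CharTwo.add_eq_zero.mp h).symm
  have hUcomm : ∀ (c c' : K) (w : A), ρ (uu c) (ρ (uu c') w) = ρ (uu c') (ρ (uu c) w) := by
    intro c c' w
    rw [← rep_mul_apply, ← rep_mul_apply, uu_mul, uu_mul, add_comm]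
  -- (L-Z): elements of `Z` fixed by `u(1)` are fixed by all `u(b')`
  have hLZ : ∀ δ : A, δ ∈ Z → ρ (uu 1) δ = δ → ∀ b' : K, ρ (uu b') δ = δ := by
    intro δ hδ hfix b'
    have h1 : subRep ρ Z hZ (uu 1) ⟨δ, hδ⟩ = ⟨δ, hδ⟩ := Subtype.ext hfix
    have h2 := (fix_range_iff (subRep ρ Z hZ) fZ hfZ hbijZ.1 one_ne_zero (hrangeZ _)).mp h1
    have h3 := plusPart_sfix (subRep ρ Z hZ) fZ hfZ h2 b'
    exact congrArg Subtype.val h3
  -- (L-Z'): `s W z = W z + h z` for such elements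
  have hLZ' : ∀ δ : A, δ ∈ Z → ρ (uu 1) δ = δ →
      ρ (uu b) (ρ ww δ) = ρ ww δ + ρ (hh b) δ := by
    intro δ hδ hfix
    have h1 : subRep ρ Z hZ (uu 1) ⟨δ, hδ⟩ = ⟨δ, hδ⟩ := Subtype.ext hfix
    have h2 := (fix_range_iff (subRep ρ Z hZ) fZ hfZ hbijZ.1 one_ne_zero (hrangeZ _)).mp h1
    have h3 := plusPart_sfix (subRep ρ Z hZ) fZ hfZ h2
    have h4' := sfix_ww (subRep ρ Z hZ) hCZ h3 hb0
    exact congrArg Subtype.val h4'
  -- (L-V): elements of the quotient fixed by `u(1)` are in the plus part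
  have hLV : ∀ v : A ⧸ Z, quotRep ρ Z hZ (uu 1) v = v → v ∈ plusPart fV := fun v hv =>
    (fix_range_iff (quotRep ρ Z hZ) fV hfV hbijV.1 one_ne_zero (hrangeV v)).mp hv
  have hmkY : ∀ y : A, ρ (uu 1) y = y → (QuotientAddGroup.mk y : A ⧸ Z) ∈ plusPart fV := by
    intro y hy
    apply hLV
    rw [← hmkρ, hy]
  -- Step 1: lifting
  have hlift : ∀ v ∈ plusPart fV, ∃ y : A, ρ (uu 1) y = y ∧ (QuotientAddGroup.mk y : A ⧸ Z) = v := by
    intro v hv
    obtain ⟨n, hn, rfl⟩ := (mem_plusPart fV v).mp hv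
    obtain ⟨v2, hv2⟩ := QuotientAddGroup.mk_surjective (s := Z)
      (sumMap fV (fun i => ![0, n i 0]))
    refine ⟨v2 + ρ (uu 1) v2, ?_, ?_⟩
    · rw [map_add, ← rep_mul_apply, uu_sq, rep_one_apply, add_comm]
    · rw [QuotientAddGroup.mk_add, hmkρ, hv2, sumMap_apply, sumMap_apply, map_sum,
        ← Finset.sum_add_distrib]
      refine Finset.sum_congr rfl (fun i _ => ?_)
      rw [← hfV i, ← map_add]
      congr 1
      rw [uu_smul]
      ext j
      fin_cases j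
      · simp
      · simp [hn i, CharTwo.add_self_eq_zero]
  -- uniqueness of the decomposition in the quotient
  have huniqV : ∀ p ∈ plusPart fV, ∀ r ∈ plusPart fV,
      p + quotRep ρ Z hZ ww r = 0 → p = 0 ∧ r = 0 := by
    intro p hp r hr h
    have hr0 : r = 0 := by
      apply plusPart_inter_ww (quotRep ρ Z hZ) fV hfV hbijV.1 hr
      have : quotRep ρ Z hZ ww r = -p := (neg_eq_of_add_eq_zero_right h).symm ▸ rfl
      rw [this]
      exact (plusPart fV).neg_mem hp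
    rw [hr0, map_zero, add_zero] at h
    exact ⟨h, hr0⟩
  -- (F-a)
  have hFa : ∀ y y' : A, ρ (uu 1) y = y → ρ (uu 1) y' = y' →
      (QuotientAddGroup.mk y : A ⧸ Z) = QuotientAddGroup.mk y' →
      ρ (uu b) y - y = ρ (uu b) y' - y' := by
    intro y y' hy hy' hmk
    have hδ : y - y' ∈ Z := by
      rw [← hmk0, QuotientAddGroup.mk_sub, hmk, sub_self]
    have hfix : ρ (uu 1) (y - y') = y - y' := by rw [map_sub, hy, hy']
    have := hLZ (y - y') hδ hfix b
    rw [map_sub] at this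
    rw [sub_eq_sub_iff_add_eq_add]
    have h2 : ρ (uu b) y = ρ (uu b) y' + (y - y') := by
      rw [← this]; abel
    rw [h2]; abel
  have hdbl : ∀ a a' : A, (QuotientAddGroup.mk a : A ⧸ Z) = QuotientAddGroup.mk a' →
      a + a = a' + a' := by
    intro a a' h
    have hδ : a - a' ∈ Z := by
      rw [← hmk0, QuotientAddGroup.mk_sub, h, sub_self]
    have := (hZmem _).mp hδ
    have h2 : a + a = a' + a' + ((a - a') + (a - a')) := by abel
    rw [h2, this, add_zero]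
  -- the element `η y` lies in `Z` and is fixed by `u(1)`
  have hηZ : ∀ y : A, ρ (uu 1) y = y → ρ (uu b) y - y ∈ Z ∧
      ρ (uu 1) (ρ (uu b) y - y) = ρ (uu b) y - y := by
    intro y hy
    constructor
    · rw [← hmk0, QuotientAddGroup.mk_sub, hmkρ,
        plusPart_sfix (quotRep ρ Z hZ) fV hfV (hmkY y hy) b, sub_self]
    · rw [map_sub, hy, hUcomm 1 b y, hy]
  -- (R2)
  have hR2 : ∀ y a : A, ρ (uu 1) y = y → ρ (uu 1) a = a →
      (QuotientAddGroup.mk a : A ⧸ Z) = quotRep ρ Z hZ (hh b) (QuotientAddGroup.mk y) →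
      (ρ (uu b) a - a) + ρ (hh b) (ρ (uu b) y - y) = (a + a) + ρ (hh b) (a + a) := by
    intro y a hy ha hmka
    obtain ⟨hdec, -⟩ := decomp_uu_ww ρ hρ hA
    obtain ⟨a', β, ha', hβ, hsW⟩ := hdec (ρ (uu b) (ρ ww y))
    -- identify the images
    have hyP := hmkY y hy
    have himg : (QuotientAddGroup.mk a' : A ⧸ Z) + quotRep ρ Z hZ ww (QuotientAddGroup.mk β) =
        quotRep ρ Z hZ (hh b) (QuotientAddGroup.mk y) +
          quotRep ρ Z hZ ww (QuotientAddGroup.mk y) := by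
      rw [← hmkρ, ← QuotientAddGroup.mk_add, ← hsW, hmkρ, hmkρ,
        sfix_ww (quotRep ρ Z hZ) hCV (plusPart_sfix (quotRep ρ Z hZ) fV hfV hyP) hb0, add_comm]
    have hTy : quotRep ρ Z hZ (hh b) (QuotientAddGroup.mk y) ∈ plusPart fV :=
      plusPart_hh (quotRep ρ Z hZ) fV hfV hyP hb0
    have huq := huniqV ((QuotientAddGroup.mk a' : A ⧸ Z) -
        quotRep ρ Z hZ (hh b) (QuotientAddGroup.mk y))
      ((plusPart fV).sub_mem (hmkY a' ha') hTy)
      ((QuotientAddGroup.mk β : A ⧸ Z) - QuotientAddGroup.mk y)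
      ((plusPart fV).sub_mem (hmkY β hβ) hyP) (by
        rw [map_sub]
        have := sub_eq_zero.mpr himg
        rw [← this]; abel)
    have hmka' : (QuotientAddGroup.mk a' : A ⧸ Z) =
        quotRep ρ Z hZ (hh b) (QuotientAddGroup.mk y) := sub_eq_zero.mp huq.1
    have hmkβ : (QuotientAddGroup.mk β : A ⧸ Z) = QuotientAddGroup.mk y := sub_eq_zero.mp huq.2
    -- reduce to `a'`
    have hηa : ρ (uu b) a - a = ρ (uu b) a' - a' := hFa a a' ha ha' (hmka.trans hmka'.symm)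
    have h2a : a + a = a' + a' := hdbl a a' (hmka.trans hmka'.symm)
    rw [hηa, h2a]
    -- `z2`
    set z2 := β - y with hz2
    have hz2Z : z2 ∈ Z := by
      rw [← hmk0, hz2, QuotientAddGroup.mk_sub, hmkβ, sub_self]
    have hz2fix : ρ (uu 1) z2 = z2 := by rw [hz2, map_sub, hβ, hy]
    -- (E1)
    have hcomm : ρ (uu 1) (ρ (uu b) (ρ ww y)) = ρ (uu b) (ρ (uu 1) (ρ ww y)) :=
      hUcomm 1 b (ρ ww y)
    have hE1 : a' + a' = β - ρ (uu b) y := by
      have l : ρ (uu 1) (ρ (uu b) (ρ ww y)) = a' + (-ρ ww β - β) := by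
        rw [hsW, map_add, ha', uu_ww_fix ρ hρ hβ]
      have r : ρ (uu b) (ρ (uu 1) (ρ ww y)) = -(a' + ρ ww β) - ρ (uu b) y := by
        rw [uu_ww_fix ρ hρ hy, map_sub, map_neg, hsW]
      rw [l, r] at hcomm
      have : a' + a' = (a' + (-ρ ww β - β)) - (-(a' + ρ ww β) - ρ (uu b) y) + (β - ρ (uu b) y) := by
        abel
      rw [this, hcomm, sub_self, zero_add]
    -- (E2)
    have hss : ρ (uu b) (ρ (uu b) (ρ ww y)) = ρ ww y := by
      rw [← rep_mul_apply, uu_sq, rep_one_apply]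
    have hβy : β = y + z2 := by rw [hz2]; abel
    have hWz : ρ ww z2 + ρ ww z2 = 0 := by
      rw [← map_add, (hZmem z2).mp hz2Z, map_zero]
    have hE2 : (a' + a') + (ρ (uu b) a' - a') + ρ (hh b) z2 = 0 := by
      have h1 : ρ (uu b) (ρ ww β) = a' + ρ ww β + (ρ ww z2 + ρ (hh b) z2) := by
        have : ρ (uu b) (ρ ww β) = ρ (uu b) (ρ ww y) + ρ (uu b) (ρ ww z2) := by
          rw [hβy, map_add, map_add]
        rw [this, hsW, hLZ' z2 hz2Z hz2fix]
      have h2 : ρ ww y = ρ (uu b) a' + ρ (uu b) (ρ ww β) := by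
        rw [← map_add, ← hsW, hss]
      have h3 : ρ ww β = ρ ww y + ρ ww z2 := by rw [hβy, map_add]
      rw [h1, h3] at h2
      have : (a' + a') + (ρ (uu b) a' - a') + ρ (hh b) z2 =
          (ρ (uu b) a' + (a' + (ρ ww y + ρ ww z2) + (ρ ww z2 + ρ (hh b) z2))) - ρ ww y -
            (ρ ww z2 + ρ ww z2) := by abel
      rw [this, ← h2, sub_self, hWz, sub_zero]
    -- conclusion
    have hz2eq : z2 = (a' + a') + (ρ (uu b) y - y) := by
      rw [hE1, hz2]; abel
    have hmemZ : (a' + a') + ρ (hh b) (a' + a') ∈ Z :=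
      Z.add_mem (hdouble a') (hZ _ _ (hdouble a'))
    have h5 : (ρ (uu b) a' - a') + ρ (hh b) (ρ (uu b) y - y) =
        -((a' + a') + ρ (hh b) (a' + a')) := by
      rw [hz2eq, map_add] at hE2
      rw [eq_neg_iff_add_eq_zero, ← hE2]
      abel
    rw [h5, hZneg _ hmemZ]
  -- the chain
  have hchain : ∀ (j : ℕ) (y y' : A), ρ (uu 1) y = y → ρ (uu 1) y' = y' →
      (QuotientAddGroup.mk y' : A ⧸ Z) =
        quotRep ρ Z hZ ((hh b) ^ (2 * j)) (QuotientAddGroup.mk y) →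
      ρ (uu b) y' - y' = ρ ((hh b) ^ (2 * j)) (ρ (uu b) y - y) := by
    intro j
    induction j with
    | zero =>
      intro y y' hy hy' hmk
      rw [Nat.mul_zero, pow_zero, rep_one_apply] at hmk
      rw [Nat.mul_zero, pow_zero, rep_one_apply]
      exact hFa y' y hy' hy hmk
    | succ j ih =>
      intro y y' hy hy' hmk
      have hyP := hmkY y hy
      obtain ⟨a, ha, hmka⟩ := hlift _ (plusPart_hh (quotRep ρ Z hZ) fV hfV hyP hb0)
      have haP := hmkY a ha
      obtain ⟨a2, ha2, hmka2⟩ := hlift _ (plusPart_hh (quotRep ρ Z hZ) fV hfV haP hb0)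
      have r1 := hR2 y a hy ha hmka
      have r2 := hR2 a a2 ha ha2 hmka2
      have h2a2 : a2 + a2 = ρ (hh b) (a + a) := by
        rw [map_add]
        apply hdbl
        rw [hmka2, hmkρ]
      obtain ⟨F, hF⟩ : ∃ F : A, F = ρ (uu b) y - y := ⟨_, rfl⟩
      obtain ⟨E, hE⟩ : ∃ E : A, E = ρ (uu b) a - a := ⟨_, rfl⟩
      obtain ⟨G, hG⟩ : ∃ G : A, G = ρ (uu b) a2 - a2 := ⟨_, rfl⟩
      obtain ⟨Pp, hPp⟩ : ∃ Pp : A, Pp = a + a := ⟨_, rfl⟩
      have hFZ : F ∈ Z := hF ▸ (hηZ y hy).1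
      have hEZ : E ∈ Z := hE ▸ (hηZ a ha).1
      have hPZ : Pp ∈ Z := hPp ▸ hdouble a
      have hhF : ρ (hh b) F ∈ Z := hZ _ _ hFZ
      have hhhF : ρ (hh b) (ρ (hh b) F) ∈ Z := hZ _ _ hhF
      have hhE : ρ (hh b) E ∈ Z := hZ _ _ hEZ
      rw [h2a2, ← hE, ← hG, ← hPp] at r2
      rw [← hE, ← hF, ← hPp] at r1
      -- `E = Pp + h Pp + h F`
      have eE : E = Pp + ρ (hh b) Pp + ρ (hh b) F := by
        have : E = Pp + ρ (hh b) Pp + -(ρ (hh b) F) := by rw [← r1]; abel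
        rw [this, hZneg _ hhF]
      have eG : G = ρ (hh b) (ρ (hh b) F) := by
        have h1 : G = ρ (hh b) Pp + ρ (hh b) (ρ (hh b) Pp) + -(ρ (hh b) E) := by rw [← r2]; abel
        rw [h1, eE, map_add (ρ (hh b)), map_add (ρ (hh b))]
        have h2 : ρ (hh b) Pp + ρ (hh b) (ρ (hh b) Pp) +
            -(ρ (hh b) Pp + ρ (hh b) (ρ (hh b) Pp) + ρ (hh b) (ρ (hh b) F)) =
            -(ρ (hh b) (ρ (hh b) F)) := by abel
        rw [h2, hZneg _ hhhF]
      have hmk2 : (QuotientAddGroup.mk a2 : A ⧸ Z) =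
          quotRep ρ Z hZ ((hh b) ^ 2) (QuotientAddGroup.mk y) := by
        rw [hmka2, hmka, pow_two, rep_mul_apply]
      have hmk' : (QuotientAddGroup.mk y' : A ⧸ Z) =
          quotRep ρ Z hZ ((hh b) ^ (2 * j)) (QuotientAddGroup.mk a2) := by
        rw [hmk, hmk2, ← rep_mul_apply, ← pow_add]
        congr 3
      rw [ih a2 y' ha2 hy' hmk', ← hG, eG, ← hF, ← rep_mul_apply, ← rep_mul_apply]
      have hpw : hh b ^ (2 * j) * hh b * hh b = hh b ^ (2 * (j + 1)) := by
        rw [Nat.mul_succ, pow_add, pow_two, mul_assoc]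
      rw [hpw]
  -- the plus part of the quotient is trivial
  have hPV : ∀ v ∈ plusPart fV, v = 0 := by
    intro v hv
    obtain ⟨y, hy, rfl⟩ := hlift v hv
    obtain ⟨a, ha, hmka⟩ := hlift _ (plusPart_hh (quotRep ρ Z hZ) fV hfV hv hb0)
    obtain ⟨j, hj⟩ := card_even (K := K)
    have hpow : (hh b) ^ (2 * j) = hh b := by rw [← hj, hh_pow_card hb0]
    have hc := hchain j y a hy ha (by rw [hpow, hmka])
    rw [hpow] at hc
    have r := hR2 y a hy ha hmka
    rw [hc] at r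
    have hFZ : ρ (hh b) (ρ (uu b) y - y) ∈ Z := hZ _ _ (hηZ y hy).1
    rw [(hZmem _).mp hFZ] at r
    have haZ : a + ρ (hh b) a ∈ Z := by
      show a + ρ (hh b) a + (a + ρ (hh b) a) = 0
      have : a + ρ (hh b) a + (a + ρ (hh b) a) = a + a + ρ (hh b) (a + a) := by
        rw [map_add]; abel
      rw [this, ← r]
    have h1 : quotRep ρ Z hZ (hh b)
        ((QuotientAddGroup.mk y : A ⧸ Z) + quotRep ρ Z hZ (hh b) (QuotientAddGroup.mk y)) = 0 := by
      rw [map_add, ← hmka, ← hmkρ, ← QuotientAddGroup.mk_add]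
      exact (hmk0 _).mpr haZ
    have h2 : (QuotientAddGroup.mk y : A ⧸ Z) + quotRep ρ Z hZ (hh b) (QuotientAddGroup.mk y) = 0 :=
      rep_injective (quotRep ρ Z hZ) (hh b) (by rw [h1, map_zero])
    have hS := plusPart_sfix (quotRep ρ Z hZ) fV hfV hv
    have h3 := hv_add (quotRep ρ Z hZ) hCV hS 1 b
    rw [hv_of_ne _ hb1', hv_of_ne _ one_ne_zero, hv_of_ne _ hb0, hh_one, rep_one_apply, h2] at h3
    exact rep_injective (quotRep ρ Z hZ) (hh (1 + b)) (by rw [h3, map_zero])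
  -- conclusion
  intro a
  rw [← hZmem, ← hmk0]
  obtain ⟨p, hp, r, hr, hpr⟩ := range_decomp (quotRep ρ Z hZ) fV hfV (hrangeV (QuotientAddGroup.mk a))
  rw [hpr, hPV p hp, hPV r hr, map_zero, add_zero]

end Cfsg.Agent.Lib.Helper5.Hig
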