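import Mathlib
import Cfsg.Agent.Lib.Helper7.HkkDefs

set_option autoImplicit false

/-! # HKK package P3: a `ZMod 3`-graded Lie ring with trivial zero component has class at most 2 -/

namespace Cfsg.Agent.Lib.Helper7.Hkk

namespace C3

variable {n : ℕ} [NeZero n] {L : Type*} [LieRing L]

theorem hom_zero (gr : PGrading n L) {x : L} (hx : gr.π 0 x = x) : x = 0 := by
  rw [← hx]; exact gr.zero x

theorem hom_lie (gr : PGrading n L) {i j : ZMod n} {x y : L} (hx : gr.π i x = x)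
    (hy : gr.π j y = y) : gr.π (i + j) ⁅x, y⁆ = ⁅x, y⁆ := by
  have := gr.lie i j x y
  rwa [hx, hy] at this

theorem hom_pi (gr : PGrading n L) (i : ZMod n) (x : L) : gr.π i (gr.π i x) = gr.π i x := by
  rw [gr.idem, if_pos rfl]

theorem arith3 : ∀ i j k : ZMod 3, i ≠ 0 → j ≠ 0 → k ≠ 0 → i + j ≠ 0 → i + j + k ≠ 0 →
    j + k = 0 ∧ i + k = 0 := by decide

theorem triple_zero (gr : PGrading 3 L) {i j k : ZMod 3} {x y z : L} (hx : gr.π i x = x)
    (hy : gr.π j y = y) (hz : gr.π k z = z) : ⁅⁅x, y⁆, z⁆ = 0 := by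
  by_cases hi : i = 0
  · subst hi; rw [hom_zero gr hx, zero_lie, zero_lie]
  by_cases hj : j = 0
  · subst hj; rw [hom_zero gr hy, lie_zero, zero_lie]
  by_cases hk : k = 0
  · subst hk; rw [hom_zero gr hz, lie_zero]
  by_cases hij : i + j = 0
  · have h := hom_lie gr hx hy
    rw [hij] at h
    rw [hom_zero gr h, zero_lie]
  by_cases hijk : i + j + k = 0
  · have h := hom_lie gr (hom_lie gr hx hy) hz
    rw [hijk] at h
    exact hom_zero gr h
  obtain ⟨h1, h2⟩ := arith3 i j k hi hj hk hij hijk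
  have hyz : ⁅y, z⁆ = 0 := by
    have h := hom_lie gr hy hz
    rw [h1] at h
    exact hom_zero gr h
  have hxz : ⁅x, z⁆ = 0 := by
    have h := hom_lie gr hx hz
    rw [h2] at h
    exact hom_zero gr h
  have hJ : ⁅⁅x, y⁆, z⁆ = ⁅x, ⁅y, z⁆⁆ - ⁅y, ⁅x, z⁆⁆ := by
    rw [leibniz_lie x y z]; abel
  rw [hJ, hyz, hxz, lie_zero, lie_zero, sub_zero]

theorem triple_zero' (gr : PGrading 3 L) (a b c : L) : ⁅⁅a, b⁆, c⁆ = 0 := by
  conv_lhs => rw [← gr.sum a, ← gr.sum b, ← gr.sum c]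
  simp only [sum_lie, lie_sum]
  refine Finset.sum_eq_zero fun k _ => Finset.sum_eq_zero fun i _ => Finset.sum_eq_zero fun j _ => ?_
  exact triple_zero gr (hom_pi gr _ a) (hom_pi gr _ b) (hom_pi gr _ c)

theorem brk_eq_bot_of {A B : AddSubgroup L} (h : ∀ a ∈ A, ∀ b ∈ B, ⁅a, b⁆ = 0) : brk A B = ⊥ := by
  rw [eq_bot_iff, brk, AddSubgroup.closure_le]
  rintro z ⟨a, ha, b, hb, rfl⟩
  exact h a ha b hb

end C3

/-- **P3**: `p = 3` gives class at most two. -/
theorem class_three {p : ℕ} [Fact p.Prime] (hp3 : p = 3) {L : Type*} [LieRing L]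
    (gr : PGrading p L) : lcs (⊤ : AddSubgroup L) 2 = ⊥ := by
  subst hp3
  show brk (brk (⊤ : AddSubgroup L) ⊤) ⊤ = ⊥
  apply C3.brk_eq_bot_of
  intro m hm c _
  refine AddSubgroup.closure_induction (p := fun m _ => ⁅m, c⁆ = 0) ?_ ?_ ?_ ?_ hm
  · rintro z ⟨a, _, b, _, rfl⟩
    exact C3.triple_zero' gr a b c
  · exact zero_lie c
  · intro x y _ _ hx hy
    rw [add_lie, hx, hy, add_zero]
  · intro x _ hx
    rw [neg_lie, hx, neg_zero]

end Cfsg.Agent.Lib.Helper7.Hkk
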