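import Mathlib
import Cfsg.Agent.Lib.Helper8.BlockLocal

/-!
# Idempotents of the local group ring have zero class sums on `p`-singular classes

`sum_conj_eq_zero_of_idem`: if `f : G → ℂ` has values in the local ring at a `p`-modular
maximal ideal `M` and is idempotent for convolution, then `∑ x, f (x * g * x⁻¹) = 0`
for every `p`-singular `g`.
-/

set_option autoImplicit false

namespace Cfsg.Agent.Lib.Helper5.IdemPL

open Cfsg Cfsg.Agent.Lib.Helper8

variable {M : Ideal AlgInt}

/-- A square matrix congruent to the identity modulo the local ideal has determinant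
congruent to `1`. -/
theorem det_sub_one_memLocalIdeal {n : Type*} [Fintype n] [DecidableEq n] (hM : M.IsPrime)
    (u : Matrix n n ℂ) (h : ∀ i j, MemLocalIdeal M ((u - 1) i j)) :
    MemLocalIdeal M (u.det - 1) := by
  have hu : ∀ i j, MemLocalRing M (u i j) := by
    intro i j
    have h1 := memLocalRing_of_memLocalIdeal (h i j)
    have h2 : u i j = (u - 1) i j + (1 : Matrix n n ℂ) i j := by simp
    rw [h2]
    refine memLocalRing_add hM h1 ?_
    by_cases hij : i = j
    · subst hij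
      simpa using memLocalRing_one hM.ne_top
    · simpa [Matrix.one_apply_ne hij] using memLocalRing_zero hM.ne_top
  let O := localRing M hM
  let I := localIdeal M hM
  let u' : Matrix n n O := fun i j => ⟨u i j, hu i j⟩
  have hu' : u = O.subtype.mapMatrix u' := by
    ext i j
    rfl
  have hdet : u.det = ((u'.det : O) : ℂ) := by
    rw [hu', ← RingHom.map_det]
    rfl
  have hone : (Ideal.Quotient.mk I).mapMatrix u' = 1 := by
    ext i j
    simp only [RingHom.mapMatrix_apply, Matrix.map_apply]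
    by_cases hij : i = j
    · subst hij
      rw [Matrix.one_apply_eq, ← map_one (Ideal.Quotient.mk I), Ideal.Quotient.eq]
      show MemLocalIdeal M _
      simpa using h i i
    · rw [Matrix.one_apply_ne hij, Ideal.Quotient.eq_zero_iff_mem]
      show MemLocalIdeal M _
      simpa [Matrix.one_apply_ne hij] using h i j
  have h3 : Ideal.Quotient.mk I u'.det = 1 := by
    rw [RingHom.map_det, hone, Matrix.det_one]
  rw [← map_one (Ideal.Quotient.mk I), Ideal.Quotient.eq] at h3
  rw [hdet]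
  exact h3

/-- Two idempotent matrices over the local ring that are congruent modulo the local ideal
have the same trace (they are conjugate). -/
theorem trace_eq_of_idem_congr {n : Type*} [Fintype n] [DecidableEq n] (hM : M.IsPrime)
    (E1 E2 : Matrix n n ℂ) (h1 : E1 * E1 = E1) (h2 : E2 * E2 = E2)
    (hO1 : ∀ i j, MemLocalRing M (E1 i j)) (hO2 : ∀ i j, MemLocalRing M (E2 i j))
    (hc : ∀ i j, MemLocalIdeal M (E1 i j - E2 i j)) : E1.trace = E2.trace := by
  set u : Matrix n n ℂ := E1 * E2 + (1 - E1) * (1 - E2) with hu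
  have hu1 : u - 1 = E1 * (E2 - E1) + (E1 - E2) * E2 := by
    rw [hu]
    simp only [mul_sub, sub_mul, mul_one, one_mul, h1, h2]
    abel
  have hmem : ∀ i j, MemLocalIdeal M ((u - 1) i j) := by
    intro i j
    rw [hu1, Matrix.add_apply, Matrix.mul_apply, Matrix.mul_apply]
    refine memLocalIdeal_add hM (memLocalIdeal_sum hM _ _ ?_) (memLocalIdeal_sum hM _ _ ?_)
    · intro l _
      refine memLocalIdeal_mul_left hM (hO1 i l) ?_
      have := memLocalIdeal_neg (hc l j)
      simpa using this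
    · intro l _
      exact memLocalIdeal_mul_right hM (by simpa using hc i l) (hO2 l j)
  have hdet := det_sub_one_memLocalIdeal hM u hmem
  have hdet0 : u.det ≠ 0 := by
    intro h0
    rw [h0, zero_sub] at hdet
    have := memLocalIdeal_neg hdet
    rw [neg_neg] at this
    exact not_memLocalIdeal_one hM this
  have hunit : IsUnit u.det := isUnit_iff_ne_zero.2 hdet0
  have ha : E1 * (1 - E1) = 0 := by rw [mul_sub, mul_one, h1, sub_self]
  have hb : (1 - E2) * E2 = 0 := by rw [sub_mul, one_mul, h2, sub_self]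
  have e1 : E1 * u = E1 * E2 := by
    rw [hu, mul_add, ← mul_assoc, h1, ← mul_assoc, ha, zero_mul, add_zero]
  have e2 : u * E2 = E1 * E2 := by
    rw [hu, add_mul, mul_assoc, h2, mul_assoc, hb, mul_zero, add_zero]
  have e3 : E2 = u⁻¹ * (E1 * u) := by
    rw [e1, ← e2, ← mul_assoc, Matrix.nonsing_inv_mul _ hunit, one_mul]
  rw [e3, Matrix.trace_mul_comm, mul_assoc, Matrix.mul_nonsing_inv _ hunit, mul_one]

section Coset

variable {G : Type*} [Group G]

/-- Coset representatives times subgroup elements. -/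
noncomputable def cosetMap (H : Subgroup G) : (G ⧸ H) × H → G :=
  fun qh => qh.1.out * (qh.2 : G)

theorem cosetMap_bijective (H : Subgroup G) : Function.Bijective (cosetMap H) := by
  constructor
  · rintro ⟨q, h⟩ ⟨q', h'⟩ heq
    simp only [cosetMap] at heq
    have hq : q = q' := by
      have h1 : (QuotientGroup.mk (q.out * (h : G)) : G ⧸ H) = q := by
        rw [QuotientGroup.mk_mul_of_mem _ h.2, QuotientGroup.out_eq']
      have h2 : (QuotientGroup.mk (q'.out * (h' : G)) : G ⧸ H) = q' := by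
        rw [QuotientGroup.mk_mul_of_mem _ h'.2, QuotientGroup.out_eq']
      rw [← h1, ← h2, heq]
    subst hq
    have : (h : G) = h' := mul_left_cancel heq
    rw [Subtype.ext this]
  · intro x
    have hx : (QuotientGroup.mk x : G ⧸ H).out⁻¹ * x ∈ H := by
      rw [← QuotientGroup.eq, QuotientGroup.out_eq']
    refine ⟨(QuotientGroup.mk x, ⟨_, hx⟩), ?_⟩
    simp [cosetMap]

theorem sum_eq_sum_coset (H : Subgroup G) [Fintype G] [Fintype (G ⧸ H)] [Fintype H]
    (F : G → ℂ) : ∑ x, F x = ∑ q : G ⧸ H, ∑ h : H, F (q.out * (h : G)) := by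
  rw [← Fintype.sum_prod_type']
  exact ((cosetMap_bijective H).sum_comp F).symm

end Coset

section EM

variable {G : Type*} [Group G] [Fintype G]

/-- The convolution idempotent relation in "matrix form". -/
theorem idem_matrix_form (f : G → ℂ) (hidem : ∀ w, ∑ u, f u * f (u⁻¹ * w) = f w) (a b : G) :
    ∑ y, f (a * y⁻¹) * f (y * b⁻¹) = f (a * b⁻¹) := by
  rw [← hidem (a * b⁻¹)]
  refine Fintype.sum_equiv ((Equiv.inv G).trans (Equiv.mulLeft a)) _ _ ?_
  intro y
  simp [mul_assoc]

variable (f : G → ℂ) (H : Subgroup G) [Fintype H] [Fintype (G ⧸ H)] [DecidableEq (G ⧸ H)]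

/-- The `λ`-twisted matrix of `f` on the cosets of `H`. -/
noncomputable def EM (lam : H → ℂ) : Matrix (G ⧸ H) (G ⧸ H) ℂ :=
  fun q q' => ∑ h : H, lam h * f (q.out * (h : G) * (q'.out)⁻¹)

omit [DecidableEq (G ⧸ H)] in
theorem EM_idem (hidem : ∀ w, ∑ u, f u * f (u⁻¹ * w) = f w) (lam : H → ℂ)
    (hlam : ∀ h h', lam (h * h') = lam h * lam h') : EM f H lam * EM f H lam = EM f H lam := by
  ext q q''
  rw [Matrix.mul_apply]
  simp only [EM]
  symm
  calc ∑ l : H, lam l * f (q.out * (l : G) * (q''.out)⁻¹)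
      = ∑ l : H, lam l * ∑ y, f (q.out * (l : G) * y⁻¹) * f (y * (q''.out)⁻¹) := by
        refine Finset.sum_congr rfl fun l _ => ?_
        rw [idem_matrix_form f hidem]
    _ = ∑ l : H, lam l * ∑ q' : G ⧸ H, ∑ h' : H,
          f (q.out * (l : G) * (q'.out * (h' : G))⁻¹) * f (q'.out * (h' : G) * (q''.out)⁻¹) := by
        refine Finset.sum_congr rfl fun l _ => ?_
        rw [sum_eq_sum_coset H]
    _ = ∑ q' : G ⧸ H, ∑ h' : H, ∑ l : H, lam l *
          (f (q.out * (l : G) * (q'.out * (h' : G))⁻¹) * f (q'.out * (h' : G) * (q''.out)⁻¹)) := by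
        simp_rw [Finset.mul_sum]
        rw [Finset.sum_comm]
        refine Finset.sum_congr rfl fun q' _ => ?_
        rw [Finset.sum_comm]
    _ = ∑ q' : G ⧸ H, ∑ h' : H, ∑ h : H, lam (h * h') *
          (f (q.out * ((h * h' : H) : G) * (q'.out * (h' : G))⁻¹) *
            f (q'.out * (h' : G) * (q''.out)⁻¹)) := by
        refine Finset.sum_congr rfl fun q' _ => ?_
        refine Finset.sum_congr rfl fun h' _ => ?_
        exact (Fintype.sum_equiv (Equiv.mulRight h') _ _ (fun h => rfl)).symm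
    _ = ∑ q' : G ⧸ H, (∑ h : H, lam h * f (q.out * (h : G) * (q'.out)⁻¹)) *
          ∑ h' : H, lam h' * f (q'.out * (h' : G) * (q''.out)⁻¹) := by
        refine Finset.sum_congr rfl fun q' _ => ?_
        rw [Finset.sum_mul_sum, Finset.sum_comm]
        refine Finset.sum_congr rfl fun h _ => ?_
        refine Finset.sum_congr rfl fun h' _ => ?_
        rw [hlam]
        have : q.out * ((h * h' : H) : G) * (q'.out * (h' : G))⁻¹ = q.out * (h : G) * (q'.out)⁻¹ := by
          simp [mul_assoc]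
        rw [this]
        ring

omit [Fintype G] [DecidableEq (G ⧸ H)] in
theorem EM_trace (lam : H → ℂ) :
    (EM f H lam).trace = ∑ q : G ⧸ H, ∑ h : H, lam h * f (q.out * (h : G) * (q.out)⁻¹) := by
  simp [Matrix.trace, EM]

omit [Fintype G] [Fintype (G ⧸ H)] [DecidableEq (G ⧸ H)] in
theorem EM_memLocalRing (hM : M.IsPrime) (hf : ∀ g, MemLocalRing M (f g)) (lam : H → ℂ)
    (hl : ∀ h, MemLocalRing M (lam h)) (q q' : G ⧸ H) : MemLocalRing M (EM f H lam q q') := by
  simp only [EM]
  exact memLocalRing_sum hM _ _ fun h _ => memLocalRing_mul hM (hl h) (hf _)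

omit [Fintype G] [Fintype (G ⧸ H)] [DecidableEq (G ⧸ H)] in
theorem EM_sub_memLocalIdeal (hM : M.IsPrime) (hf : ∀ g, MemLocalRing M (f g)) (lam lam' : H → ℂ)
    (hl : ∀ h, MemLocalIdeal M (lam h - lam' h)) (q q' : G ⧸ H) :
    MemLocalIdeal M (EM f H lam q q' - EM f H lam' q q') := by
  simp only [EM]
  rw [← Finset.sum_sub_distrib]
  refine memLocalIdeal_sum hM _ _ fun h _ => ?_
  rw [← sub_mul]
  exact memLocalIdeal_mul_right hM (hl h) (hf _)

end EM

section Chars

variable {G : Type*} [Group G] [Fintype G] (g : G)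

theorem exists_pow_eq (h : Subgroup.zpowers g) : ∃ n : ℕ, g ^ n = (h : G) := by
  have h1 := h.2
  rw [← mem_powers_iff_mem_zpowers] at h1
  exact h1

/-- A discrete logarithm on the cyclic group generated by `g`. -/
noncomputable def dl (h : Subgroup.zpowers g) : ℕ := Classical.choose (exists_pow_eq g h)

theorem pow_dl (h : Subgroup.zpowers g) : g ^ dl g h = (h : G) :=
  Classical.choose_spec (exists_pow_eq g h)

/-- The `k`-th character of the cyclic group generated by `g`. -/
noncomputable def lamk (ζ : ℂ) (k : ℕ) (h : Subgroup.zpowers g) : ℂ := ζ ^ (k * dl g h)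

theorem pow_eq_pow_mod {ζ : ℂ} {N : ℕ} (hζ : IsPrimitiveRoot ζ N) (a : ℕ) :
    ζ ^ a = ζ ^ (a % N) := by
  conv_lhs => rw [← Nat.div_add_mod a N, pow_add, pow_mul, hζ.pow_eq_one, one_pow, one_mul]

theorem pow_eq_of_modEq {ζ : ℂ} {N : ℕ} (hζ : IsPrimitiveRoot ζ N) {a b : ℕ}
    (h : a ≡ b [MOD N]) : ζ ^ a = ζ ^ b := by
  rw [pow_eq_pow_mod hζ a, pow_eq_pow_mod hζ b, h]

theorem modEq_of_pow_eq {ζ : ℂ} {N : ℕ} (hN : 0 < N) (hζ : IsPrimitiveRoot ζ N) {a b : ℕ}
    (h : ζ ^ a = ζ ^ b) : a ≡ b [MOD N] := by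
  rw [pow_eq_pow_mod hζ a, pow_eq_pow_mod hζ b] at h
  exact hζ.pow_inj (Nat.mod_lt _ hN) (Nat.mod_lt _ hN) h

theorem lamk_mul {ζ : ℂ} (hζ : IsPrimitiveRoot ζ (orderOf g)) (k : ℕ)
    (h h' : Subgroup.zpowers g) : lamk g ζ k (h * h') = lamk g ζ k h * lamk g ζ k h' := by
  unfold lamk
  rw [← pow_add, ← mul_add]
  have h1 : g ^ dl g (h * h') = g ^ (dl g h + dl g h') := by
    rw [pow_add, pow_dl, pow_dl, pow_dl]
    rfl
  rw [pow_eq_pow_iff_modEq] at h1
  exact pow_eq_of_modEq hζ (h1.mul_left k)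

theorem lamk_add_order {ζ : ℂ} (hζ : IsPrimitiveRoot ζ (orderOf g)) (k : ℕ)
    (h : Subgroup.zpowers g) : lamk g ζ (k + orderOf g) h = lamk g ζ k h := by
  unfold lamk
  rw [add_mul, pow_add, pow_mul ζ (orderOf g), hζ.pow_eq_one, one_pow, mul_one]

theorem lamk_add (ζ : ℂ) (k k' : ℕ) (h : Subgroup.zpowers g) :
    lamk g ζ (k + k') h = lamk g ζ k h * lamk g ζ k' h := by
  unfold lamk
  rw [add_mul, pow_add]

theorem lamk_pow_eq_one {ζ : ℂ} (hζ : IsPrimitiveRoot ζ (orderOf g)) {p N' : ℕ}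
    (hN : orderOf g = p * N') (h : Subgroup.zpowers g) : (lamk g ζ N' h) ^ p = 1 := by
  unfold lamk
  have h1 : N' * dl g h * p = orderOf g * dl g h := by
    rw [hN]
    ring
  rw [← pow_mul, h1, pow_mul, hζ.pow_eq_one, one_pow]

theorem lamk_isIntegral {ζ : ℂ} (hζ : IsPrimitiveRoot ζ (orderOf g)) (k : ℕ)
    (h : Subgroup.zpowers g) : IsIntegral ℤ (lamk g ζ k h) := by
  have hpos : 0 < orderOf g := orderOf_pos g
  have h1 : (lamk g ζ k h) ^ orderOf g = 1 := by
    unfold lamk
    rw [← pow_mul, mul_comm, pow_mul, hζ.pow_eq_one, one_pow]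
  refine ⟨Polynomial.X ^ orderOf g - 1, Polynomial.monic_X_pow_sub_C 1 hpos.ne', ?_⟩
  simp [h1]

theorem lamk_fourier {ζ : ℂ} (hζ : IsPrimitiveRoot ζ (orderOf g)) (h : Subgroup.zpowers g) :
    ((h : G) = g → ∑ k ∈ Finset.range (orderOf g), lamk g ζ k h * (ζ⁻¹) ^ k = (orderOf g : ℂ)) ∧
    ((h : G) ≠ g → ∑ k ∈ Finset.range (orderOf g), lamk g ζ k h * (ζ⁻¹) ^ k = 0) := by
  have hpos : 0 < orderOf g := orderOf_pos g
  have hζ0 : ζ ≠ 0 := hζ.ne_zero hpos.ne'
  set μ : ℂ := ζ ^ dl g h * ζ⁻¹ with hμ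
  have h1 : ∀ k, lamk g ζ k h * (ζ⁻¹) ^ k = μ ^ k := by
    intro k
    unfold lamk
    rw [hμ, mul_pow, pow_mul']
  simp_rw [h1]
  have hiff : μ = 1 ↔ (h : G) = g := by
    rw [hμ, mul_inv_eq_one₀ hζ0]
    constructor
    · intro h2
      have h3 : ζ ^ dl g h = ζ ^ 1 := by rw [h2, pow_one]
      replace h3 := modEq_of_pow_eq hpos hζ h3
      have h4 : g ^ dl g h = g ^ 1 := pow_eq_pow_iff_modEq.2 h3
      rw [pow_dl, pow_one] at h4
      exact h4
    · intro h2
      have h4 : g ^ dl g h = g ^ 1 := by rw [pow_dl, pow_one, h2]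
      rw [pow_eq_pow_iff_modEq] at h4
      have := pow_eq_of_modEq hζ h4
      rw [this, pow_one]
  refine ⟨fun hc => ?_, fun hc => ?_⟩
  · rw [hiff.2 hc]
    simp
  · have hμ1 : μ ≠ 1 := fun h2 => hc (hiff.1 h2)
    have hμN : μ ^ orderOf g = 1 := by
      rw [hμ, mul_pow, inv_pow, hζ.pow_eq_one, inv_one, mul_one, ← pow_mul, mul_comm, pow_mul,
        hζ.pow_eq_one, one_pow]
    have h5 := geom_sum_mul μ (orderOf g)
    rw [hμN, sub_self] at h5
    rcases mul_eq_zero.1 h5 with h6 | h6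
    · exact h6
    · exact absurd (sub_eq_zero.1 h6) hμ1

end Chars

theorem sum_range_shift (F : ℕ → ℂ) (N : ℕ) (hF : ∀ k, F (k + N) = F k) (a : ℕ) :
    ∑ k ∈ Finset.range N, F (k + a) = ∑ k ∈ Finset.range N, F k := by
  induction a with
  | zero => simp
  | succ a ih =>
    rw [← ih]
    have h1 := Finset.sum_range_succ (fun k => F (k + a)) N
    have h2 := Finset.sum_range_succ' (fun k => F (k + a)) N
    beta_reduce at h1 h2
    rw [h1] at h2
    have h3 : F (N + a) = F (0 + a) := by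
      rw [zero_add, add_comm, hF]
    rw [h3] at h2
    have h4 := add_right_cancel h2
    rw [h4]
    refine Finset.sum_congr rfl fun k _ => ?_
    rw [add_assoc, add_comm a 1]

/-- **(PL)** A convolution idempotent with coefficients in the local ring has zero class sums
on `p`-singular classes. -/
theorem sum_conj_eq_zero_of_idem {G : Type*} [Group G] [Fintype G] {p : ℕ} [Fact p.Prime]
    {M : Ideal AlgInt} (hM : IsPModular p M) (f : G → ℂ) (hf : ∀ g, MemLocalRing M (f g))
    (hidem : ∀ w, ∑ u, f u * f (u⁻¹ * w) = f w) (g : G) (hg : p ∣ orderOf g) :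
    ∑ x : G, f (x * g * x⁻¹) = 0 := by
  classical
  have hMp : M.IsPrime := isPModular_isPrime hM
  have hp : p.Prime := hM.1
  have hNpos : 0 < orderOf g := orderOf_pos g
  obtain ⟨N', hN'⟩ := hg
  have hN'pos : 0 < N' := by
    rcases Nat.eq_zero_or_pos N' with h | h
    · rw [h, mul_zero] at hN'
      omega
    · exact h
  have hN'lt : N' < orderOf g := by
    rw [hN']
    have := hp.two_le
    nlinarith
  obtain ⟨ζ, hζ⟩ : ∃ ζ : ℂ, IsPrimitiveRoot ζ (orderOf g) :=
    ⟨_, Complex.isPrimitiveRoot_exp (orderOf g) hNpos.ne'⟩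
  have hζ0 : ζ ≠ 0 := hζ.ne_zero hNpos.ne'
  have : Fintype (Subgroup.zpowers g) := Fintype.ofFinite _
  have : Fintype (G ⧸ Subgroup.zpowers g) := Fintype.ofFinite _
  have hcard : Fintype.card (Subgroup.zpowers g) = orderOf g := by
    rw [Fintype.card_eq_nat_card, Nat.card_zpowers]
  set r : ℕ → ℂ := fun k => (EM f (Subgroup.zpowers g) (lamk g ζ k)).trace with hr
  -- periodicity modulo the order
  have hr2 : ∀ k, r (k + orderOf g) = r k := by
    intro k
    simp only [hr]
    congr 2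
    funext h
    exact lamk_add_order g hζ k h
  -- periodicity modulo `N'`: congruent idempotents are conjugate
  have hr1 : ∀ k, r (k + N') = r k := by
    intro k
    simp only [hr]
    have hint : ∀ k h, MemLocalRing M (lamk g ζ k h) := fun k h =>
      memLocalRing_of_isIntegral hMp.ne_top (lamk_isIntegral g hζ k h)
    refine trace_eq_of_idem_congr hMp _ _
      (EM_idem f _ hidem _ (lamk_mul g hζ _)) (EM_idem f _ hidem _ (lamk_mul g hζ _))
      (EM_memLocalRing f _ hMp hf _ (hint _)) (EM_memLocalRing f _ hMp hf _ (hint _))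
      (EM_sub_memLocalIdeal f _ hMp hf _ _ ?_)
    intro h
    rw [lamk_add, ← mul_sub_one]
    refine memLocalIdeal_mul_left hMp (hint k h) ?_
    refine memLocalIdeal_sub_one_of_pow_eq_one hM 1 ?_
    rw [pow_one]
    exact lamk_pow_eq_one g hζ hN' h
  set F : ℕ → ℂ := fun k => r k * (ζ⁻¹) ^ k with hF
  have hFper : ∀ k, F (k + orderOf g) = F k := by
    intro k
    simp only [hF]
    rw [hr2, pow_add, inv_pow ζ (orderOf g), hζ.pow_eq_one, inv_one, mul_one]
  have hFshift : ∀ k, F (k + N') = F k * (ζ⁻¹) ^ N' := by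
    intro k
    simp only [hF]
    rw [hr1, pow_add, mul_assoc]
  -- the Fourier sum equals the class sum
  have hS : ∑ k ∈ Finset.range (orderOf g), F k = ∑ x : G, f (x * g * x⁻¹) := by
    have hcomm : ∀ h' : Subgroup.zpowers g, (h' : G) * g * (h' : G)⁻¹ = g := by
      intro h'
      obtain ⟨n, hn⟩ := Subgroup.mem_zpowers_iff.1 h'.2
      rw [← hn]
      have : Commute (g ^ n) g := (Commute.refl g).zpow_left n
      rw [this.eq, mul_assoc, mul_inv_cancel, mul_one]
    have hrhs : ∑ x : G, f (x * g * x⁻¹) =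
        ∑ q : G ⧸ Subgroup.zpowers g, (orderOf g : ℂ) * f (q.out * g * (q.out)⁻¹) := by
      rw [sum_eq_sum_coset (Subgroup.zpowers g)]
      refine Finset.sum_congr rfl fun q _ => ?_
      have : ∀ h' : Subgroup.zpowers g,
          f (q.out * (h' : G) * g * (q.out * (h' : G))⁻¹) = f (q.out * g * (q.out)⁻¹) := by
        intro h'
        congr 1
        rw [mul_inv_rev, mul_assoc, mul_assoc, ← mul_assoc g, ← mul_assoc (h' : G),
          ← mul_assoc (h' : G), hcomm h', mul_assoc]
      simp_rw [this]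
      rw [Finset.sum_const, Finset.card_univ, hcard, nsmul_eq_mul]
    rw [hrhs]
    simp only [hF, hr, EM_trace]
    simp_rw [Finset.sum_mul]
    rw [Finset.sum_comm]
    refine Finset.sum_congr rfl fun q _ => ?_
    rw [Finset.sum_comm]
    have hterm : ∀ h : Subgroup.zpowers g,
        ∑ k ∈ Finset.range (orderOf g),
          lamk g ζ k h * f (q.out * (h : G) * (q.out)⁻¹) * (ζ⁻¹) ^ k =
        (∑ k ∈ Finset.range (orderOf g), lamk g ζ k h * (ζ⁻¹) ^ k) *
          f (q.out * (h : G) * (q.out)⁻¹) := by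
      intro h
      rw [Finset.sum_mul]
      refine Finset.sum_congr rfl fun k _ => ?_
      ring
    simp_rw [hterm]
    rw [Finset.sum_eq_single (⟨g, Subgroup.mem_zpowers g⟩ : Subgroup.zpowers g)]
    · rw [(lamk_fourier g hζ _).1 rfl]
    · intro h _ hne
      have hne' : (h : G) ≠ g := fun hc => hne (Subtype.ext hc)
      rw [(lamk_fourier g hζ h).2 hne', zero_mul]
    · intro hh
      exact absurd (Finset.mem_univ _) hh
  rw [← hS]
  have h1 := sum_range_shift F (orderOf g) hFper N'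
  simp_rw [hFshift] at h1
  rw [← Finset.sum_mul] at h1
  -- `ζ⁻¹ ^ N' ≠ 1`
  have hne : (ζ⁻¹) ^ N' ≠ 1 := by
    intro h2
    rw [inv_pow, inv_eq_one] at h2
    have := (hζ.pow_eq_one_iff_dvd N').1 h2
    exact absurd (Nat.le_of_dvd hN'pos this) (not_le.2 hN'lt)
  have h3 : (∑ k ∈ Finset.range (orderOf g), F k) * ((ζ⁻¹) ^ N' - 1) = 0 := by
    rw [mul_sub, h1, mul_one, sub_self]
  rcases mul_eq_zero.1 h3 with h4 | h4
  · exact h4
  · exact absurd (sub_eq_zero.1 h4) hne

end Cfsg.Agent.Lib.Helper5.IdemPL
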