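import Mathlib
import Cfsg.Prelude

/-!
# Isometry groups over isomorphic fields are isomorphic
(after `Cfsg.Agent.Lib.Helper1.O8Z`)
-/

set_option autoImplicit false

namespace Cfsg.Agent.Lib.Helper5.IsoCongr

open Matrix Equiv

section congr

variable {F F' : Type*} [Field F] [Field F'] {ι : Type} [Fintype ι] [DecidableEq ι]

/-- the isomorphism of general linear groups induced by an isomorphism of fields -/
def glCongr (φ : F ≃+* F') : GL ι F ≃* GL ι F' :=
  Units.mapEquiv (RingEquiv.mapMatrix φ).toMulEquiv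

theorem coe_glCongr (φ : F ≃+* F') (g : GL ι F) :
    ((glCongr φ g : GL ι F') : Matrix ι ι F') = (g : Matrix ι ι F).map φ := rfl

theorem glCongr_symm_apply (φ : F ≃+* F') (g : GL ι F') :
    glCongr φ (glCongr (ι := ι) φ.symm g) = g := by
  apply Units.ext
  rw [coe_glCongr, coe_glCongr]
  ext i j
  simp

theorem glCongr_mulVec (φ : F ≃+* F') (g : GL ι F) (w : ι → F) :
    (Units.coeHom (Matrix ι ι F') (glCongr φ g)) *ᵥ (φ ∘ w) =
      φ ∘ ((Units.coeHom (Matrix ι ι F) g) *ᵥ w) := by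
  ext i
  exact (RingHom.map_mulVec (φ : F →+* F') (g : Matrix ι ι F) w i).symm

theorem glCongr_mem (φ : F ≃+* F') (Q : (ι → F) → F) (Q' : (ι → F') → F')
    (hQ : ∀ v, Q' (φ ∘ v) = φ (Q v)) (g : GL ι F) (hg : g ∈ Cfsg.isometryGroup F Q) :
    glCongr φ g ∈ Cfsg.isometryGroup F' Q' := by
  intro u' _
  have hu : u' = φ ∘ (φ.symm ∘ u') := by ext i; simp
  show Q' ((Units.coeHom (Matrix ι ι F') (glCongr φ g)) *ᵥ u') = Q' u'
  rw [hu, glCongr_mulVec, hQ, hQ]
  exact congrArg φ (hg _ (φ.symm ∘ u'))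

theorem map_isometryGroup (φ : F ≃+* F') (Q : (ι → F) → F) (Q' : (ι → F') → F')
    (hQ : ∀ v, Q' (φ ∘ v) = φ (Q v)) :
    (Cfsg.isometryGroup F Q).map (glCongr φ).toMonoidHom = Cfsg.isometryGroup F' Q' := by
  have hQ' : ∀ v, Q (φ.symm ∘ v) = φ.symm (Q' v) := by
    intro v
    apply φ.injective
    rw [← hQ, RingEquiv.apply_symm_apply]
    congr 1
    ext i; simp
  ext g'
  constructor
  · rintro ⟨g, hg, rfl⟩
    exact glCongr_mem φ Q Q' hQ g hg
  · intro hg'
    exact ⟨glCongr φ.symm g', glCongr_mem φ.symm Q' Q hQ' g' hg', glCongr_symm_apply φ g'⟩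

/-- the isometry groups over isomorphic fields are isomorphic -/
noncomputable def isoCongr (φ : F ≃+* F') (Q : (ι → F) → F) (Q' : (ι → F') → F')
    (hQ : ∀ v, Q' (φ ∘ v) = φ (Q v)) :
    ↥(Cfsg.isometryGroup F Q) ≃* ↥(Cfsg.isometryGroup F' Q') :=
  (MulEquiv.subgroupMap (glCongr φ) (Cfsg.isometryGroup F Q)).trans
    (MulEquiv.subgroupCongr (map_isometryGroup φ Q Q' hQ))

end congr

end Cfsg.Agent.Lib.Helper5.IsoCongr
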