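import Mathlib

/-!
Jacobi–Trudi / bialternant identity over an arbitrary commutative ring:
`det (h_{λ_j - k}) * det (x_i ^ k) = det (x_i ^ λ_j)`, where `h_m` are the complete homogeneous
symmetric expressions in `x`, defined as coefficients of `∏ 1/(1 - x_l t)`.
-/

namespace Cfsg.Agent.Lib.Helper5.JT

open Finset

variable {R : Type*} [CommRing R] {n : ℕ}

/-- The geometric series `∑ a^k t^k`. -/
noncomputable def geo (a : R) : PowerSeries R := PowerSeries.mk fun k => a ^ k

theorem coeff_geo (a : R) (k : ℕ) : PowerSeries.coeff k (geo a) = a ^ k := by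
  simp [geo]

theorem geo_mul_one_sub (a : R) : geo a * (1 - PowerSeries.C a * PowerSeries.X) = 1 := by
  ext k
  rw [mul_sub, mul_one, map_sub, ← mul_assoc]
  cases k with
  | zero => simp [coeff_geo]
  | succ k =>
    rw [PowerSeries.coeff_succ_mul_X, mul_comm (geo a), PowerSeries.coeff_C_mul, coeff_geo, coeff_geo]
    simp [pow_succ, mul_comm]

/-- The complete homogeneous expression `h_m(x)`. -/
noncomputable def hs (x : Fin n → R) (m : ℕ) : R := PowerSeries.coeff m (∏ l, geo (x l))

/-- The polynomial `∏_{l ≠ i} (1 - x_l t)`. -/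
noncomputable def ePoly (x : Fin n → R) (i : Fin n) : Polynomial R :=
  ∏ l ∈ univ.erase i, (1 - Polynomial.C (x l) * Polynomial.X)

theorem natDegree_ePoly_lt (x : Fin n → R) (i : Fin n) : (ePoly x i).natDegree < n := by
  have h1 : (ePoly x i).natDegree ≤ ∑ l ∈ univ.erase i, 1 := by
    unfold ePoly
    refine (Polynomial.natDegree_prod_le _ _).trans (Finset.sum_le_sum fun l _ => ?_)
    refine (Polynomial.natDegree_sub_le _ _).trans ?_
    rw [Polynomial.natDegree_one]
    exact max_le (Nat.zero_le _) ((Polynomial.natDegree_C_mul_le _ _).trans Polynomial.natDegree_X_le)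
  rw [Finset.sum_const, smul_eq_mul, mul_one, Finset.card_erase_of_mem (mem_univ i),
    Finset.card_univ, Fintype.card_fin] at h1
  have : 0 < n := Fin.pos i
  omega

theorem prod_geo_mul_ePoly (x : Fin n → R) (i : Fin n) :
    (∏ l, geo (x l)) * ((ePoly x i : Polynomial R) : PowerSeries R) = geo (x i) := by
  have h1 : ((ePoly x i : Polynomial R) : PowerSeries R)
      = ∏ l ∈ univ.erase i, (1 - PowerSeries.C (x l) * PowerSeries.X) := by
    unfold ePoly
    rw [← Polynomial.coeToPowerSeries.ringHom_apply, map_prod]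
    refine Finset.prod_congr rfl fun l _ => ?_
    simp
  rw [h1, ← Finset.mul_prod_erase univ _ (mem_univ i), mul_assoc, ← Finset.prod_mul_distrib]
  rw [Finset.prod_congr rfl fun l _ => geo_mul_one_sub (x l)]
  simp

theorem sum_hs_mul_coeff (x : Fin n → R) (i : Fin n) (m : ℕ) :
    ∑ k : Fin n, (if (k : ℕ) ≤ m then hs x (m - k) else 0) * (ePoly x i).coeff k = x i ^ m := by
  have h := congrArg (PowerSeries.coeff m) (prod_geo_mul_ePoly x i)
  rw [coeff_geo, mul_comm, PowerSeries.coeff_mul,
    Finset.Nat.sum_antidiagonal_eq_sum_range_succ_mk] at h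
  rw [← h, Fin.sum_univ_eq_sum_range
    (fun k => (if k ≤ m then hs x (m - k) else 0) * (ePoly x i).coeff k) n]
  have e1 : ∑ k ∈ range n, (if k ≤ m then hs x (m - k) else 0) * (ePoly x i).coeff k
      = ∑ k ∈ range (max n (m + 1)), (if k ≤ m then hs x (m - k) else 0) * (ePoly x i).coeff k := by
    apply Finset.sum_subset
    · intro k hk
      rw [mem_range] at hk ⊢
      exact lt_of_lt_of_le hk (le_max_left _ _)
    · intro k _ hk
      rw [mem_range, not_lt] at hk
      rw [Polynomial.coeff_eq_zero_of_natDegree_lt (lt_of_lt_of_le (natDegree_ePoly_lt x i) hk),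
        mul_zero]
  have e2 : ∑ k ∈ range (m + 1), PowerSeries.coeff k ((ePoly x i : Polynomial R) : PowerSeries R) *
        PowerSeries.coeff (m - k) (∏ l, geo (x l))
      = ∑ k ∈ range (max n (m + 1)), (if k ≤ m then hs x (m - k) else 0) * (ePoly x i).coeff k := by
    rw [← Finset.sum_subset (s₁ := range (m + 1)) (s₂ := range (max n (m + 1)))]
    · refine Finset.sum_congr rfl fun k hk => ?_
      rw [mem_range] at hk
      rw [if_pos (by omega), Polynomial.coeff_coe, mul_comm]
      rfl
    · intro k hk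
      rw [mem_range] at hk ⊢
      exact lt_of_lt_of_le hk (le_max_right _ _)
    · intro k _ hk
      rw [mem_range, not_lt] at hk
      rw [if_neg (by omega), zero_mul]
  rw [e1, ← e2]

/-- The matrix `h_{λ_j - k}`. -/
noncomputable def hMat (x : Fin n → R) (lam : Fin n → ℕ) : Matrix (Fin n) (Fin n) R :=
  Matrix.of fun j k => if (k : ℕ) ≤ lam j then hs x (lam j - k) else 0

/-- The generalized Vandermonde matrix `x_i ^ λ_j`. -/
def altMat (x : Fin n → R) (lam : Fin n → ℕ) : Matrix (Fin n) (Fin n) R :=
  Matrix.of fun j i => x i ^ lam j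

theorem hMat_mul (x : Fin n → R) (lam : Fin n → ℕ) :
    hMat x lam * (Matrix.of fun (k : Fin n) (i : Fin n) => (ePoly x i).coeff k) = altMat x lam := by
  ext j i
  rw [Matrix.mul_apply]
  exact sum_hs_mul_coeff x i (lam j)

theorem hs_zero (x : Fin n → R) : hs x 0 = 1 := by
  unfold hs
  rw [PowerSeries.coeff_zero_eq_constantCoeff_apply, map_prod]
  refine Finset.prod_eq_one fun l _ => ?_
  rw [← PowerSeries.coeff_zero_eq_constantCoeff_apply, coeff_geo, pow_zero]

theorem det_hMat_id (x : Fin n → R) : (hMat x fun j => (j : ℕ)).det = 1 := by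
  rw [Matrix.det_of_isLowerTriangular]
  · refine Finset.prod_eq_one fun j _ => ?_
    simp [hMat, hs_zero]
  · intro j k hjk
    simp only [hMat, Matrix.of_apply]
    rw [if_neg]
    exact not_le.mpr hjk

/-- The bialternant identity. -/
theorem det_hMat_mul (x : Fin n → R) (lam : Fin n → ℕ) :
    (hMat x lam).det * (altMat x fun j => (j : ℕ)).det = (altMat x lam).det := by
  have h1 := congrArg Matrix.det (hMat_mul x lam)
  have h2 := congrArg Matrix.det (hMat_mul x fun j => (j : ℕ))
  rw [Matrix.det_mul] at h1 h2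
  rw [det_hMat_id, one_mul] at h2
  rw [← h2, h1]

end Cfsg.Agent.Lib.Helper5.JT
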