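import Mathlib
import Cfsg.Agent.Lib.Helper5.JT1

/-!
Coefficient extraction in `MvPolynomial (Fin n) ℤ` from the bialternant identity: the double
alternating sum of contingency-table counts is a Kronecker delta.
-/

namespace Cfsg.Agent.Lib.Helper5.JT

open Finset

variable {n : ℕ}

theorem hs_eq_sum {R : Type*} [CommRing R] (x : Fin n → R) (m : ℕ) :
    hs x m = ∑ c ∈ finsuppAntidiag univ m, ∏ l, x l ^ (c l) := by
  unfold hs
  rw [PowerSeries.coeff_prod]
  refine Finset.sum_congr rfl fun c _ => ?_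
  exact Finset.prod_congr rfl fun l _ => coeff_geo _ _

/-- Exponent vector attached to a function. -/
noncomputable def toF (a : Fin n → ℕ) : Fin n →₀ ℕ := Finsupp.equivFunOnFinite.symm a

@[simp] theorem toF_apply (a : Fin n → ℕ) (i : Fin n) : toF a i = a i := rfl

theorem toF_injective : Function.Injective (toF : (Fin n → ℕ) → _) :=
  Finsupp.equivFunOnFinite.symm.injective

theorem prod_X_pow (a : Fin n → ℕ) :
    ∏ l, (MvPolynomial.X l : MvPolynomial (Fin n) ℤ) ^ a l = MvPolynomial.monomial (toF a) 1 := by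
  rw [MvPolynomial.monomial_eq, map_one, one_mul, Finsupp.prod_fintype _ _ (fun i => pow_zero _)]
  rfl

theorem hs_X (m : ℕ) : hs (MvPolynomial.X : Fin n → MvPolynomial (Fin n) ℤ) m
    = ∑ c ∈ finsuppAntidiag univ m, MvPolynomial.monomial c 1 := by
  rw [hs_eq_sum]
  refine Finset.sum_congr rfl fun c _ => ?_
  have h1 := prod_X_pow (n := n) (fun l => c l)
  have h2 : toF (fun l => c l) = c := by
    ext i
    rfl
  rw [h1, h2]

/-- Tuples of columns: the `j`-th column is an exponent vector of total degree `b j`. -/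
noncomputable def colSet (b : Fin n → ℕ) : Finset (Fin n → (Fin n →₀ ℕ)) :=
  Fintype.piFinset fun j => finsuppAntidiag univ (b j)

/-- The number of `n × n` matrices of naturals with column sums `b` and row sums `a`. -/
noncomputable def Ncount (a b : Fin n → ℕ) : ℕ :=
  ((colSet b).filter fun M => ∑ j, M j = toF a).card

theorem prod_hs_X (b : Fin n → ℕ) :
    ∏ j, hs (MvPolynomial.X : Fin n → MvPolynomial (Fin n) ℤ) (b j)
      = ∑ M ∈ colSet b, MvPolynomial.monomial (∑ j, M j) 1 := by
  simp_rw [hs_X]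
  rw [Finset.prod_univ_sum]
  refine Finset.sum_congr rfl fun M _ => ?_
  rw [MvPolynomial.monomial_sum_one]

theorem coeff_prod_hs (a b : Fin n → ℕ) :
    MvPolynomial.coeff (toF a) (∏ j, hs (MvPolynomial.X : Fin n → MvPolynomial (Fin n) ℤ) (b j))
      = (Ncount a b : ℤ) := by
  rw [prod_hs_X, MvPolynomial.coeff_sum]
  simp_rw [MvPolynomial.coeff_monomial]
  rw [Finset.sum_boole]
  rfl

theorem toF_le_iff (a b : Fin n → ℕ) : toF a ≤ toF b ↔ ∀ i, a i ≤ b i := by
  rw [Finsupp.le_def]
  rfl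

theorem toF_sub (a b : Fin n → ℕ) : toF b - toF a = toF fun i => b i - a i := by
  ext i
  simp

theorem coeff_det_alt_mul (lam : Fin n → ℕ) (f : MvPolynomial (Fin n) ℤ) :
    MvPolynomial.coeff (toF lam)
        ((altMat (MvPolynomial.X : Fin n → MvPolynomial (Fin n) ℤ) fun j => (j : ℕ)).det * f)
      = ∑ κ : Equiv.Perm (Fin n), if ∀ i, ((κ i : Fin n) : ℕ) ≤ lam i then
          ((Equiv.Perm.sign κ : ℤˣ) : ℤ) * MvPolynomial.coeff (toF fun i => lam i - (κ i : ℕ)) f
        else 0 := by
  rw [Matrix.det_apply, Finset.sum_mul, MvPolynomial.coeff_sum]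
  refine Finset.sum_congr rfl fun κ _ => ?_
  have h1 : ∏ i, altMat (MvPolynomial.X : Fin n → MvPolynomial (Fin n) ℤ) (fun j => (j : ℕ)) (κ i) i
      = MvPolynomial.monomial (toF fun i => ((κ i : Fin n) : ℕ)) 1 := by
    rw [← prod_X_pow]
    rfl
  rw [h1, Units.smul_def, smul_mul_assoc, MvPolynomial.coeff_smul, MvPolynomial.coeff_monomial_mul',
    smul_eq_mul]
  by_cases h : ∀ i, ((κ i : Fin n) : ℕ) ≤ lam i
  · rw [if_pos h, if_pos ((toF_le_iff _ _).mpr h), toF_sub, one_mul]
  · rw [if_neg h, if_neg (fun h' => h ((toF_le_iff _ _).mp h')), mul_zero]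

theorem coeff_det_hMat (a lam' : Fin n → ℕ) :
    MvPolynomial.coeff (toF a)
        (hMat (MvPolynomial.X : Fin n → MvPolynomial (Fin n) ℤ) lam').det
      = ∑ κ' : Equiv.Perm (Fin n), if ∀ j, ((κ' j : Fin n) : ℕ) ≤ lam' j then
          ((Equiv.Perm.sign κ' : ℤˣ) : ℤ) * (Ncount a (fun j => lam' j - (κ' j : ℕ)) : ℤ)
        else 0 := by
  rw [← Matrix.det_transpose, Matrix.det_apply, MvPolynomial.coeff_sum]
  refine Finset.sum_congr rfl fun κ' _ => ?_
  have h0 : ∏ j, (hMat (MvPolynomial.X : Fin n → MvPolynomial (Fin n) ℤ) lam').transpose (κ' j) j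
      = ∏ j, hMat (MvPolynomial.X : Fin n → MvPolynomial (Fin n) ℤ) lam' j (κ' j) := rfl
  have h1 : ∏ j, hMat (MvPolynomial.X : Fin n → MvPolynomial (Fin n) ℤ) lam' j (κ' j)
      = if ∀ j, ((κ' j : Fin n) : ℕ) ≤ lam' j then
          ∏ j, hs (MvPolynomial.X : Fin n → MvPolynomial (Fin n) ℤ) (lam' j - (κ' j : ℕ))
        else 0 := by
    have := Finset.prod_ite_zero (s := (univ : Finset (Fin n)))
      (p := fun j => ((κ' j : Fin n) : ℕ) ≤ lam' j)
      (f := fun j => hs (MvPolynomial.X : Fin n → MvPolynomial (Fin n) ℤ) (lam' j - (κ' j : ℕ)))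
    simp only [mem_univ, forall_true_left] at this
    rw [← this]
    rfl
  rw [h0, h1, Units.smul_def, MvPolynomial.coeff_smul, smul_eq_mul]
  by_cases h : ∀ j, ((κ' j : Fin n) : ℕ) ≤ lam' j
  · rw [if_pos h, if_pos h, coeff_prod_hs]
  · rw [if_neg h, if_neg h, MvPolynomial.coeff_zero, mul_zero]

theorem perm_eq_one_of_strictMono (σ : Equiv.Perm (Fin n)) (h : StrictMono σ) : σ = 1 := by
  ext x
  have h1 := h.id_le x
  have h2 := h.le_id x
  simp only [id] at h1 h2
  rw [Equiv.Perm.one_apply]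
  exact congrArg Fin.val (le_antisymm h2 h1)

theorem coeff_det_altMat (lam lam' : Fin n → ℕ) (hl : StrictMono lam) (hl' : StrictMono lam') :
    MvPolynomial.coeff (toF lam)
        (altMat (MvPolynomial.X : Fin n → MvPolynomial (Fin n) ℤ) lam').det
      = if lam = lam' then 1 else 0 := by
  rw [Matrix.det_apply, MvPolynomial.coeff_sum]
  have key : ∀ σ : Equiv.Perm (Fin n), (toF fun i => lam' (σ i)) = toF lam → σ = 1 := by
    intro σ h
    have h' : ∀ i, lam' (σ i) = lam i := fun i => congrFun (toF_injective h) i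
    apply perm_eq_one_of_strictMono
    intro i j hij
    have := hl hij
    rw [← h' i, ← h' j] at this
    exact hl'.lt_iff_lt.mp this
  have hterm : ∀ σ : Equiv.Perm (Fin n),
      MvPolynomial.coeff (toF lam) (Equiv.Perm.sign σ •
        ∏ i, altMat (MvPolynomial.X : Fin n → MvPolynomial (Fin n) ℤ) lam' (σ i) i)
      = if σ = 1 then (if lam = lam' then 1 else 0) else 0 := by
    intro σ
    have h1 : ∏ i, altMat (MvPolynomial.X : Fin n → MvPolynomial (Fin n) ℤ) lam' (σ i) i
        = MvPolynomial.monomial (toF fun i => lam' (σ i)) 1 := by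
      rw [← prod_X_pow]
      rfl
    rw [h1, Units.smul_def, MvPolynomial.coeff_smul, MvPolynomial.coeff_monomial, smul_eq_mul]
    by_cases hσ : σ = 1
    · subst hσ
      rw [if_pos rfl, Equiv.Perm.sign_one, Units.val_one, one_mul]
      by_cases hll : lam = lam'
      · subst hll
        rw [if_pos rfl, if_pos]
        rfl
      · rw [if_neg hll, if_neg]
        intro h
        exact hll (toF_injective h).symm
    · rw [if_neg hσ, if_neg (fun h => hσ (key σ h)), mul_zero]
  rw [Finset.sum_congr rfl fun σ _ => hterm σ, Finset.sum_ite_eq' univ 1, if_pos (mem_univ _)]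

/-- The orthogonality identity: the doubly alternating sum of contingency-table counts. -/
theorem jt_orth (lam lam' : Fin n → ℕ) (hl : StrictMono lam) (hl' : StrictMono lam') :
    ∑ κ : Equiv.Perm (Fin n), (if ∀ i, ((κ i : Fin n) : ℕ) ≤ lam i then
        ((Equiv.Perm.sign κ : ℤˣ) : ℤ) * ∑ κ' : Equiv.Perm (Fin n),
          (if ∀ j, ((κ' j : Fin n) : ℕ) ≤ lam' j then
            ((Equiv.Perm.sign κ' : ℤˣ) : ℤ) *
              (Ncount (fun i => lam i - (κ i : ℕ)) (fun j => lam' j - (κ' j : ℕ)) : ℤ)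
          else 0)
      else 0) = if lam = lam' then 1 else 0 := by
  rw [← coeff_det_altMat lam lam' hl hl', ← det_hMat_mul, mul_comm, coeff_det_alt_mul]
  refine Finset.sum_congr rfl fun κ _ => ?_
  split_ifs
  · rw [coeff_det_hMat]
  · rfl

end Cfsg.Agent.Lib.Helper5.JT
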