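import Mathlib
import Cfsg.Agent.Lib.Helper5.JT2

/-!
Positivity: the alternating sum of the numbers of contingency tables with all column sums one
(multinomial coefficients) is positive — the number of standard tableaux.
-/

namespace Cfsg.Agent.Lib.Helper5.JT

open Finset

variable {n : ℕ}

theorem hs_X_one : hs (MvPolynomial.X : Fin n → MvPolynomial (Fin n) ℤ) 1
    = ∑ i, MvPolynomial.X i := by
  rw [hs_X]
  symm
  refine Finset.sum_bij (fun i _ => Finsupp.single i 1) ?_ ?_ ?_ ?_
  · intro i _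
    rw [mem_finsuppAntidiag]
    refine ⟨?_, Finset.subset_univ _⟩
    rw [Finset.sum_eq_single i (fun j _ hj => Finsupp.single_eq_of_ne hj)
      (fun h => absurd (mem_univ i) h), Finsupp.single_eq_same]
  · intro i _ j _ h
    by_contra hij
    have := DFunLike.congr_fun h i
    rw [Finsupp.single_eq_same, Finsupp.single_eq_of_ne hij] at this
    exact one_ne_zero this
  · intro c hc
    rw [mem_finsuppAntidiag] at hc
    have hex : ∃ i, c i ≠ 0 := by
      by_contra hne
      push Not at hne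
      have : ∑ i, c i = 0 := Finset.sum_eq_zero fun i _ => hne i
      rw [hc.1] at this
      exact one_ne_zero this
    obtain ⟨i, hi⟩ := hex
    refine ⟨i, mem_univ _, ?_⟩
    have hle : c i ≤ 1 := by
      rw [← hc.1]
      exact Finset.single_le_sum (f := fun j => c j) (fun _ _ => Nat.zero_le _) (mem_univ i)
    have hci : c i = 1 := by omega
    ext j
    by_cases hj : j = i
    · subst hj
      rw [Finsupp.single_eq_same, hci]
    · rw [Finsupp.single_eq_of_ne hj]
      have h2 : c i + c j ≤ 1 := by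
        rw [← hc.1]
        have := Finset.sum_le_sum_of_subset (f := fun j => c j) (Finset.subset_univ {i, j})
        rwa [Finset.sum_pair (Ne.symm hj)] at this
      omega
  · intro i _
    rfl

theorem coeff_sum_X_pow (a : Fin n → ℕ) (ha : ∑ i, a i = n) :
    MvPolynomial.coeff (toF a) ((∑ i, (MvPolynomial.X i : MvPolynomial (Fin n) ℤ)) ^ n)
      = (Nat.multinomial univ a : ℤ) := by
  rw [Finset.sum_pow_eq_sum_piAntidiag, MvPolynomial.coeff_sum]
  rw [Finset.sum_eq_single a]
  · rw [prod_X_pow, ← MvPolynomial.C_eq_coe_nat, MvPolynomial.coeff_C_mul,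
      MvPolynomial.coeff_monomial, if_pos rfl, mul_one]
  · intro k _ hk
    rw [prod_X_pow, ← MvPolynomial.C_eq_coe_nat, MvPolynomial.coeff_C_mul,
      MvPolynomial.coeff_monomial, if_neg (fun h => hk (toF_injective h)), mul_zero]
  · intro h
    exfalso
    apply h
    rw [mem_piAntidiag]
    exact ⟨ha, fun i _ => by simp⟩

theorem Ncount_ones (a : Fin n → ℕ) (ha : ∑ i, a i = n) :
    Ncount a (fun _ => 1) = Nat.multinomial univ a := by
  have h := coeff_prod_hs a (fun _ : Fin n => 1)
  rw [Finset.prod_const, Finset.card_univ, Fintype.card_fin, hs_X_one, coeff_sum_X_pow a ha] at h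
  exact_mod_cast h.symm

/-- The matrix of falling factorials. -/
def dfMat (lam : Fin n → ℕ) : Matrix (Fin n) (Fin n) ℤ :=
  Matrix.of fun i j => ((lam i).descFactorial (j : ℕ) : ℤ)

theorem det_dfMat (lam : Fin n → ℕ) :
    (dfMat lam).det = ∏ i : Fin n, ∏ j ∈ Finset.Ioi i, ((lam j : ℤ) - (lam i : ℤ)) := by
  rw [← Matrix.det_vandermonde]
  rw [Matrix.det_eval_matrixOfPolynomials_eq_det_vandermonde (fun i => (lam i : ℤ))
    (fun j => descPochhammer ℤ (j : ℕ)) (fun i => descPochhammer_natDegree ℤ _)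
    (fun i => monic_descPochhammer ℤ _)]
  congr 1
  ext i j
  simp only [dfMat, Matrix.of_apply]
  rw [descPochhammer_eval_eq_descFactorial]

theorem det_dfMat_pos (lam : Fin n → ℕ) (hl : StrictMono lam) : 0 < (dfMat lam).det := by
  rw [det_dfMat]
  refine Finset.prod_pos fun i _ => Finset.prod_pos fun j hj => ?_
  rw [Finset.mem_Ioi] at hj
  have := hl hj
  omega

theorem sum_perm_val (κ : Equiv.Perm (Fin n)) : ∑ i, ((κ i : Fin n) : ℕ) = ∑ i : Fin n, (i : ℕ) :=
  Equiv.sum_comp κ fun i => (i : ℕ)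

/-- The alternating sum of multinomial counts, scaled by `∏ λ_i !`. -/
theorem alt_sum_ones (lam : Fin n → ℕ) (hsum : ∑ i, lam i = n + ∑ i : Fin n, (i : ℕ)) :
    (∑ κ : Equiv.Perm (Fin n), if ∀ i, ((κ i : Fin n) : ℕ) ≤ lam i then
        ((Equiv.Perm.sign κ : ℤˣ) : ℤ) * (Ncount (fun i => lam i - (κ i : ℕ)) (fun _ => 1) : ℤ)
      else 0) * ∏ i, ((lam i).factorial : ℤ) = (n.factorial : ℤ) * (dfMat lam).det := by
  rw [← Matrix.det_transpose, Matrix.det_apply, Finset.sum_mul, Finset.mul_sum]
  refine Finset.sum_congr rfl fun κ _ => ?_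
  have hprod : ∏ i, (dfMat lam).transpose (κ i) i
      = ∏ i, ((lam i).descFactorial ((κ i : Fin n) : ℕ) : ℤ) := rfl
  rw [hprod, Units.smul_def, smul_eq_mul]
  by_cases h : ∀ i, ((κ i : Fin n) : ℕ) ≤ lam i
  · rw [if_pos h]
    have hs : ∑ i, (lam i - ((κ i : Fin n) : ℕ)) = n := by
      have h1 : ∑ i, (lam i - ((κ i : Fin n) : ℕ)) + ∑ i, ((κ i : Fin n) : ℕ) = ∑ i, lam i := by
        rw [← Finset.sum_add_distrib]
        exact Finset.sum_congr rfl fun i _ => Nat.sub_add_cancel (h i)
      rw [sum_perm_val, hsum] at h1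
      omega
    rw [Ncount_ones _ hs]
    have hm := Nat.multinomial_spec (s := (univ : Finset (Fin n)))
      (f := fun i => lam i - ((κ i : Fin n) : ℕ))
    rw [hs] at hm
    have hf : ∏ i, ((lam i).factorial : ℤ)
        = ∏ i, (((lam i - ((κ i : Fin n) : ℕ)).factorial : ℤ) *
            ((lam i).descFactorial ((κ i : Fin n) : ℕ) : ℤ)) := by
      refine Finset.prod_congr rfl fun i _ => ?_
      exact_mod_cast (Nat.factorial_mul_descFactorial (h i)).symm
    rw [hf, Finset.prod_mul_distrib]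
    have hm' : (∏ i, ((lam i - ((κ i : Fin n) : ℕ)).factorial : ℤ)) *
        (Nat.multinomial univ (fun i => lam i - ((κ i : Fin n) : ℕ)) : ℤ) = (n.factorial : ℤ) := by
      exact_mod_cast hm
    rw [← hm']
    ring
  · rw [if_neg h, zero_mul]
    push Not at h
    obtain ⟨i, hi⟩ := h
    rw [Finset.prod_eq_zero (mem_univ i)]
    · simp
    · rw [Nat.descFactorial_of_lt hi]
      simp

/-- Positivity of the alternating sum. -/
theorem alt_sum_ones_pos (lam : Fin n → ℕ) (hl : StrictMono lam)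
    (hsum : ∑ i, lam i = n + ∑ i : Fin n, (i : ℕ)) :
    0 < ∑ κ : Equiv.Perm (Fin n), if ∀ i, ((κ i : Fin n) : ℕ) ≤ lam i then
        ((Equiv.Perm.sign κ : ℤˣ) : ℤ) * (Ncount (fun i => lam i - (κ i : ℕ)) (fun _ => 1) : ℤ)
      else 0 := by
  have h := alt_sum_ones lam hsum
  have hpos : 0 < (n.factorial : ℤ) * (dfMat lam).det :=
    mul_pos (by exact_mod_cast n.factorial_pos) (det_dfMat_pos lam hl)
  rw [← h] at hpos
  have hf : 0 < ∏ i, ((lam i).factorial : ℤ) :=
    Finset.prod_pos fun i _ => by exact_mod_cast (lam i).factorial_pos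
  exact (mul_pos_iff_of_pos_right hf).mp hpos

end Cfsg.Agent.Lib.Helper5.JT
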