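import Mathlib
import Cfsg.Agent.Lib.Helper1.SimpleIndex

set_option autoImplicit false

/-!
Package PK-END of S3278: the final count.
-/

namespace Cfsg.Agent.Lib.Helper2.KFS

open Subgroup

theorem card_eq_sixty {G : Type*} [Group G] [Finite G] [IsSimpleGroup G] (g₀ : ℕ) (hg₀ : Odd g₀)
    (hG : Nat.card G = 4 * g₀) (H : Subgroup G) (hH : H ≠ ⊤) (c : ℕ) (h4 : 4 ∣ c)
    (h3 : 3 * c ≤ Nat.card H) (hlt : Nat.card G < 18 * c) : Nat.card G = 60 := by
  have hdvd := Cfsg.Agent.Lib.Helper1.card_dvd_factorial_index_of_simple H hH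
  have hmul : H.index * Nat.card H = Nat.card G := Subgroup.index_mul_card H
  have hidx1 : H.index ≠ 1 := fun h => hH (Subgroup.index_eq_one.1 h)
  have hidx0 : H.index ≠ 0 := Subgroup.index_ne_zero_of_finite
  obtain ⟨c', rfl⟩ := h4
  have hc' : 0 < c' := by
    rcases Nat.eq_zero_or_pos c' with h | h
    · subst h
      simp at hlt
    · exact h
  obtain ⟨k, hk⟩ := hg₀
  -- the index is at most 5
  have hn5 : H.index ≤ 5 := by
    by_contra hcon
    push Not at hcon
    have h6 : 6 * Nat.card H ≤ H.index * Nat.card H := Nat.mul_le_mul_right _ hcon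
    omega
  have hcardH : 12 ≤ Nat.card H := by omega
  set n := H.index with hn
  interval_cases n
  · exact absurd rfl hidx0
  · exact absurd rfl hidx1
  · -- n = 2
    have : Nat.card G ≤ 2 := Nat.le_of_dvd (by norm_num) (by simpa using hdvd)
    omega
  · have : Nat.card G ≤ 6 := Nat.le_of_dvd (by norm_num) (by simpa [Nat.factorial] using hdvd)
    omega
  · have : Nat.card G ≤ 24 := Nat.le_of_dvd (by norm_num) (by simpa [Nat.factorial] using hdvd)
    omega
  · have h120 : Nat.card G ∣ 120 := by simpa [Nat.factorial] using hdvd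
    have hle : Nat.card G ≤ 120 := Nat.le_of_dvd (by norm_num) h120
    have hge : 60 ≤ Nat.card G := by omega
    -- `|G| = 5 |H|` divides `120`, so `|H|` divides `24`
    have hH24 : Nat.card H ∣ 24 := by
      rw [← hmul] at h120
      exact Nat.dvd_of_mul_dvd_mul_left (by norm_num : 0 < 5) (by simpa using h120)
    have hHle : Nat.card H ≤ 24 := Nat.le_of_dvd (by norm_num) hH24
    have hcases : Nat.card H = 12 ∨ Nat.card H = 24 := by
      have : Nat.card H ∈ Nat.divisors 24 := Nat.mem_divisors.2 ⟨hH24, by norm_num⟩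
      have hdiv : Nat.divisors 24 = {1, 2, 3, 4, 6, 8, 12, 24} := by decide
      rw [hdiv] at this
      simp only [Finset.mem_insert, Finset.mem_singleton] at this
      omega
    rcases hcases with h | h
    · omega
    · exfalso
      omega

end Cfsg.Agent.Lib.Helper2.KFS
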