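import Mathlib

set_option autoImplicit false

/-!
Package PK-NC3 of S3278: a Klein four Sylow 2-subgroup which is not centralized by its normalizer.
-/

namespace Cfsg.Agent.Lib.Helper2.KFS

open Subgroup

theorem three_mul_card_centralizer_le {G : Type*} [Group G] [Finite G] (P : Sylow 2 G)
    (hcard : Nat.card (P : Subgroup G) = 4) (hsq : ∀ g ∈ (P : Subgroup G), g * g = 1)
    (hN : ¬ normalizer ((P : Subgroup G) : Set G) ≤ centralizer ((P : Subgroup G) : Set G)) :
    3 * Nat.card (centralizer ((P : Subgroup G) : Set G)) ≤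
      Nat.card (normalizer ((P : Subgroup G) : Set G)) := by
  haveI : Fact (Nat.Prime 2) := ⟨Nat.prime_two⟩
  set C := centralizer ((P : Subgroup G) : Set G) with hC
  set N := normalizer ((P : Subgroup G) : Set G) with hNdef
  have hCN : C ≤ N := Subgroup.centralizer_le_normalizer _
  -- `P` is abelian
  have hcomm : ∀ a ∈ (P : Subgroup G), ∀ b ∈ (P : Subgroup G), a * b = b * a := by
    intro a ha b hb
    have h1 := hsq a ha
    have h2 := hsq b hb
    have h3 := hsq (a * b) ((P : Subgroup G).mul_mem ha hb)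
    have ha' : a⁻¹ = a := inv_eq_of_mul_eq_one_left h1
    have hb' : b⁻¹ = b := inv_eq_of_mul_eq_one_left h2
    have hab' : (a * b)⁻¹ = a * b := inv_eq_of_mul_eq_one_left h3
    calc a * b = (a * b)⁻¹ := hab'.symm
      _ = b⁻¹ * a⁻¹ := mul_inv_rev a b
      _ = b * a := by rw [ha', hb']
  have hPC : (P : Subgroup G) ≤ C := by
    intro a ha
    rw [hC, Subgroup.mem_centralizer_iff]
    intro b hb
    exact hcomm b hb a ha
  -- the index `|N : C|` is odd and different from one
  have h1 : (P : Subgroup G).relIndex C * C.relIndex N = (P : Subgroup G).relIndex N :=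
    Subgroup.relIndex_mul_relIndex _ _ _ hPC hCN
  have h2 : (P : Subgroup G).relIndex N * N.index = (P : Subgroup G).index :=
    Subgroup.relIndex_mul_index (hPC.trans hCN)
  have hodd : ¬ 2 ∣ (P : Subgroup G).index := P.not_dvd_index
  have hk2 : ¬ 2 ∣ C.relIndex N := by
    intro h
    apply hodd
    rw [← h2, ← h1]
    exact Dvd.dvd.mul_right (Dvd.dvd.mul_left h _) _
  have hk1 : C.relIndex N ≠ 1 := by
    intro h
    exact hN (Subgroup.relIndex_eq_one.1 h)
  have hk0 : C.relIndex N ≠ 0 := by
    intro h
    apply hk2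
    rw [h]
    exact dvd_zero 2
  have hk3 : 3 ≤ C.relIndex N := by
    have : C.relIndex N ≠ 2 := fun h => hk2 (by rw [h])
    omega
  -- cardinalities
  have hcardN : C.relIndex N * Nat.card C = Nat.card N := by
    have h3 := Subgroup.index_mul_card (C.subgroupOf N)
    have h4 : Nat.card (C.subgroupOf N) = Nat.card C :=
      Nat.card_congr (Subgroup.subgroupOfEquivOfLe hCN).toEquiv
    rw [h4] at h3
    exact h3
  rw [← hcardN]
  exact Nat.mul_le_mul_right _ hk3

end Cfsg.Agent.Lib.Helper2.KFS
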