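import Mathlib
import Cfsg.Prelude.Def_Blocks
import Cfsg.Prelude.Def_BlockRank
import Cfsg.Prelude.Def_BrauerPairs
import Cfsg.Agent.Lib.Helper8.VK5
import Cfsg.Agent.Lib.Helper8.VK9
import Cfsg.Agent.Lib.Helper8.VK10
import Cfsg.Agent.Lib.Helper8.VK13
import Cfsg.Agent.Lib.Helper8.VK14
import Cfsg.Agent.Lib.Helper8.AF1
import Cfsg.Agent.Lib.Helper8.BlockExtFirstMain
import Cfsg.Agent.S4633
import Cfsg.Agent.S4637
import Cfsg.Agent.S4687

/-!
# S4648 swarm, package N1: nilpotency of a rank-one block with `|D| = k(B) ≤ 4`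

* `card_subSec_eq_one_gen`: Helper8 `VK.card_subSec_eq_one` for an arbitrary prime.
* `subsection_rank_one_prime`: subsections of a block with defect group of prime order have
  rank one.
* `nilpotent_of_card_defect_le_four`: the glue (see `notes/S4648_PROOF_helper8.md`, PART III).
-/

set_option autoImplicit false
set_option linter.unusedSectionVars false
set_option maxHeartbeats 1600000

namespace Cfsg.Agent.Lib.Helper5.KulsN1

open Cfsg Cfsg.Agent.Lib.Helper8 Cfsg.Agent.Lib.Helper8.VK
open scoped ComplexConjugate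
open Cfsg.Agent.Lib.Helper1 Cfsg.Agent.Lib.Helper4

universe u

section

/-- A group of order four is cyclic or a Klein four group. -/
theorem isCyclic_or_isKleinFour {H : Type*} [Group H] (h4 : Nat.card H = 4) :
    IsCyclic H ∨ IsKleinFour H := by
  by_cases hc : IsCyclic H
  · exact Or.inl hc
  · right
    have h4' : Nat.card H = 2 ^ 2 := by rw [h4]; norm_num
    exact ⟨h4, (not_isCyclic_iff_exponent_eq_prime Nat.prime_two h4').1 hc⟩

end

section

variable {G : Type u} [Group G] [Fintype G] {M : Ideal AlgInt} {p : ℕ} [Fact p.Prime]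
variable [DecidableEq G]

/-- **Transitive inertial quotient**: exactly one subsection (any prime). -/
theorem card_subSec_eq_one_gen (hM : IsPModular p M) {B : Set (IrrCharacter G)}
    {P : Subgroup G} {c : Set (IrrCharacter (Subgroup.centralizer (P : Set G)))}
    (hmax : IsMaximalBrauerPair p M B P c)
    (hord : ∀ y : G, y ∈ P → y ≠ 1 → ∃ k : ℕ, orderOf y = p ^ k) (X : Finset G)
    (hX : ∀ x ∈ X, ∃ k : ℕ, orderOf x = p ^ k)
    (hXrep : ∀ g : G, (∃ k : ℕ, orderOf g = p ^ k) → ∃! x, x ∈ X ∧ IsConj g x)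
    (hne : ∃ y ∈ P, y ≠ 1)
    (htrans : ∀ y ∈ P, y ≠ 1 → ∀ y' ∈ P, y' ≠ 1 → ∃ t : G,
      t ∈ Subgroup.normalizer (P : Set G) ∧
      StabilizesBlock (Subgroup.centralizer (P : Set G)) c t ∧ t * y * t⁻¹ = y') :
    Nat.card (SubSec M B X) = 1 := by
  have hPe : IsBrauerPair p M P c := hmax.1.1
  have hconj1 : ∀ s z : G, z ≠ 1 → s * z * s⁻¹ ≠ 1 := by
    intro s z hz h
    apply hz
    have : z = s⁻¹ * (s * z * s⁻¹) * s := by group
    rw [this, h]
    group
  rw [Nat.card_eq_one_iff_unique]
  constructor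
  · constructor
    rintro ⟨⟨x, hx⟩, ⟨f, hf⟩⟩ ⟨⟨x', hx'⟩, ⟨f', hf'⟩⟩
    obtain ⟨hx1, hxX⟩ := Finset.mem_erase.1 hx
    obtain ⟨hx'1, hx'X⟩ := Finset.mem_erase.1 hx'
    have hfB := pair_of_induced_zpowers hM (hX x hxX) hf
    have hf'B := pair_of_induced_zpowers hM (hX x' hx'X) hf'
    obtain ⟨g, hgP, hgle⟩ := exists_conj_into hM hmax hfB
    obtain ⟨g', hg'P, hg'le⟩ := exists_conj_into hM hmax hf'B
    obtain ⟨t, htN, htst, ht⟩ := htrans _ hgP (hconj1 g x hx1) _ hg'P (hconj1 g' x' hx'1)
    -- the elements agree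
    have hxx' : x' = x := by
      have hc : IsConj x x' := by
        rw [isConj_iff]
        refine ⟨g'⁻¹ * t * g, ?_⟩
        have e1 : g'⁻¹ * t * g * x * (g'⁻¹ * t * g)⁻¹ = g'⁻¹ * (t * (g * x * g⁻¹) * t⁻¹) * g' := by
          group
        rw [e1, ht]
        group
      obtain ⟨x₀, -, huniq⟩ := hXrep x (hX x hxX)
      rw [huniq x' ⟨hx'X, hc⟩, huniq x ⟨hxX, IsConj.refl x⟩]
    subst hxx'
    -- the two conjugates below the maximal pair
    have hle₁ : Relation.ReflTransGen (NormalSubpairRel p M)
        (pairConj (t * g) ⟨Subgroup.zpowers x', f⟩) ⟨P, c⟩ := by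
      rw [pairConj_mul]
      have := subpairRel_pairConj t hgle
      rwa [pairConj_eq_self_of_stab P c htN htst] at this
    have hfst₁ : (pairConj (t * g) ⟨Subgroup.zpowers x', f⟩).1 =
        Subgroup.zpowers (g' * x' * g'⁻¹) := by
      show (Subgroup.zpowers x').map (MulAut.conj (t * g)).toMonoidHom = _
      rw [map_conj_zpowers, ← ht]
      congr 1
      group
    have hfst₂ : (pairConj g' ⟨Subgroup.zpowers x', f'⟩).1 =
        Subgroup.zpowers (g' * x' * g'⁻¹) := by
      show (Subgroup.zpowers x').map (MulAut.conj g').toMonoidHom = _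
      rw [map_conj_zpowers]
    obtain ⟨f₁, hf₁⟩ := eq_mk_of_fst_eq _ hfst₁
    obtain ⟨f₂, hf₂⟩ := eq_mk_of_fst_eq _ hfst₂
    have hle₁' := hle₁
    have hle₂' := hg'le
    rw [hf₁] at hle₁'
    rw [hf₂] at hle₂'
    have hf₁₂ : f₁ = f₂ := subpairLE_unique hM _ ⟨P, c⟩ hPe le_rfl _ f₁ f₂ hle₁' hle₂'
    have h12 : pairConj (t * g) ⟨Subgroup.zpowers x', f⟩ =
        pairConj g' ⟨Subgroup.zpowers x', f'⟩ := by
      rw [hf₁, hf₂, hf₁₂]
    have h3 : pairConj (g'⁻¹ * (t * g)) ⟨Subgroup.zpowers x', f⟩ =
        ⟨Subgroup.zpowers x', f'⟩ := by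
      rw [pairConj_mul, h12, ← pairConj_mul, inv_mul_cancel, pairConj_one]
    have hcen : g'⁻¹ * (t * g) ∈
        Subgroup.centralizer ((Subgroup.zpowers x' : Subgroup G) : Set G) := by
      rw [mem_centralizer_zpowers_iff]
      have e1 : t * g * x' = g' * x' * g'⁻¹ * (t * g) := by
        rw [← ht]
        group
      calc g'⁻¹ * (t * g) * x' = g'⁻¹ * (t * g * x') := by group
        _ = g'⁻¹ * (g' * x' * g'⁻¹ * (t * g)) := by rw [e1]
        _ = x' * (g'⁻¹ * (t * g)) := by group
    rw [pairConj_eq_self_of_mem_centralizer _ f hcen] at h3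
    have hff' : f = f' := eq_of_heq (Sigma.mk.inj_iff.1 h3).2
    subst hff'
    rfl
  · obtain ⟨y, hyP, hy1⟩ := hne
    obtain ⟨x, g, f, f', hxX, hx1, -, -, -, hind⟩ :=
      exists_subsection_of_mem hM hmax X hXrep hyP hy1 (hord y hyP hy1)
    exact ⟨⟨⟨x, Finset.mem_erase.2 ⟨hx1, hxX⟩⟩, ⟨f', hind⟩⟩⟩

omit [DecidableEq G] in
/-- **Nontrivial subsections of a block with defect groups of prime order** have rank one. -/
theorem subsection_rank_one_prime (hM : IsPModular p M) {B : Set (IrrCharacter G)}
    (hB : IsPBlock M B) {P : Subgroup G} (hPD : IsDefectGroup p M B P) (hcard : Nat.card P = p)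
    {x : G} (hx1 : x ≠ 1) (hx : ∃ k : ℕ, orderOf x = p ^ k)
    (C : Subgroup G) (hC : ∀ t, t ∈ C ↔ t * x = x * t) {b : Set (IrrCharacter C)}
    (hind : IsInducedBlock M C b B) :
    blockRank p b = 1 := by
  classical
  have hp : p.Prime := Fact.out
  have : Fintype C := Fintype.ofFinite _
  have hMp := isPModular_isPrime hM
  have hb := hind.1
  obtain ⟨D, hD⟩ := exists_isDefectGroup (p := p) hMp hb
  have hxC : x ∈ C := (hC x).2 rfl
  set x' : C := ⟨x, hxC⟩ with hx'
  have hzc : ∀ c : C, x' * c = c * x' := by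
    intro c
    apply Subtype.ext
    exact ((hC c).1 c.2).symm
  have hG := zpowers_sup_centralizer_of_central hzc
  have hnorm : (Subgroup.zpowers x').Normal := normal_of_sup_centralizer hG
  have hordx' : orderOf x' = orderOf x := Subgroup.orderOf_mk x hxC
  obtain ⟨k, hk⟩ := hx
  have hQ : IsPGroup p (Subgroup.zpowers x') := by
    apply IsPGroup.of_card (n := k)
    rw [Nat.card_zpowers, hordx', hk]
  have hQD : Subgroup.zpowers x' ≤ D := by
    have h1 : Subgroup.zpowers x' ≤ pCore p C := le_sSup ⟨hnorm, hQ⟩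
    exact h1.trans (Cfsg.Agent.S0912.result p M hM b hb D hD)
  obtain ⟨E, hE, hDE⟩ := Cfsg.Agent.S0917.result p M hM C b hb B hB hind D hD
  have hcardE : Nat.card E = p := by
    rw [card_of_isDefectGroup hM hB hE, ← card_of_isDefectGroup hM hB hPD, hcard]
  have hcardD : Nat.card D ≤ p := by
    rw [← hcardE, ← Subgroup.card_map_of_injective (Subgroup.subtype_injective C)]
    exact Nat.le_of_dvd (by rw [hcardE]; exact hp.pos) (Subgroup.card_dvd_of_le hDE)
  have hk0 : k ≠ 0 := by
    intro h0
    rw [h0, pow_zero, orderOf_eq_one_iff] at hk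
    exact hx1 hk
  have hcardQ : p ≤ Nat.card (Subgroup.zpowers x') := by
    rw [Nat.card_zpowers, hordx', hk]
    calc p = p ^ 1 := (pow_one p).symm
      _ ≤ p ^ k := Nat.pow_le_pow_right hp.pos (Nat.one_le_iff_ne_zero.2 hk0)
  have hDQ : Subgroup.zpowers x' = D := by
    apply Subgroup.eq_of_le_of_card_ge hQD
    exact hcardD.trans hcardQ
  have hPZ : D ≤ Subgroup.center C := by
    rw [← hDQ, Subgroup.zpowers_le, Subgroup.mem_center_iff]
    intro c
    exact (hzc c).symm
  exact Cfsg.Agent.S4669.result p M hM b hb D hD hPZ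

end

section

variable {G : Type u} [Group G] [Fintype G] {M : Ideal AlgInt} {p : ℕ} [Fact p.Prime]

/-- Elements of a `p`-subgroup have prime power order. -/
theorem orderOf_eq_pow_of_mem {P : Subgroup G} (hP : IsPGroup p P) (y : G) (hy : y ∈ P) :
    ∃ k : ℕ, orderOf y = p ^ k := by
  have hp : p.Prime := Fact.out
  obtain ⟨k, hk⟩ := hP ⟨y, hy⟩
  have h1 : orderOf (⟨y, hy⟩ : P) ∣ p ^ k := orderOf_dvd_of_pow_eq_one hk
  rw [Subgroup.orderOf_mk] at h1
  obtain ⟨j, -, hj⟩ := (Nat.dvd_prime_pow hp).1 h1
  exact ⟨j, hj⟩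

/-- The maximal Brauer pair at an abelian defect group, with the block of the centralizer
inducing `B`. -/
theorem exists_maxPair_of_abelian (hM : IsPModular p M) {B : Set (IrrCharacter G)}
    (hB : IsPBlock M B) {D : Subgroup G} (hD : IsDefectGroup p M B D)
    (hab : ∀ x ∈ D, ∀ y ∈ D, x * y = y * x) :
    ∃ c : Set (IrrCharacter (Subgroup.centralizer (D : Set G))),
      IsInducedBlock M (Subgroup.centralizer (D : Set G)) c B ∧
        IsMaximalBrauerPair p M B D c := by
  have hP := isPGroup_of_isDefectGroup hD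
  have hPH : D ≤ Subgroup.centralizer (D : Set G) := by
    intro x hx
    rw [Subgroup.mem_centralizer_iff]
    intro y hy
    exact hab y hy x hx
  obtain ⟨c, -, hc⟩ := extFirstMain_exists hM hB hD (Subgroup.centralizer (D : Set G)) hPH le_rfl
    (Subgroup.centralizer_le_normalizer _)
  have hpair := Cfsg.Agent.Lib.Helper8.AF.pair_of_induced hM D hP hPH hc
  exact ⟨c, hc, Cfsg.Agent.Lib.Helper8.AF.maxPair_of_defect hM hD hpair⟩

/-- Nilpotency from a trivial inertial quotient (abelian defect group). -/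
theorem nilpotent_of_relIndex_one (hM : IsPModular p M) {B : Set (IrrCharacter G)}
    {D : Subgroup G} (hab : ∀ x ∈ D, ∀ y ∈ D, x * y = y * x)
    {c : Set (IrrCharacter (Subgroup.centralizer (D : Set G)))}
    (hmax : IsMaximalBrauerPair p M B D c)
    (h1 : (Subgroup.centralizer (D : Set G)).relIndex
      (pairStab (Subgroup.normalizer (D : Set G)) (Subgroup.centralizer (D : Set G)) c) = 1) :
    IsNilpotentBlock p M B := by
  have hTC := Subgroup.relIndex_eq_one.1 h1
  exact (Cfsg.Agent.S4687.result p M hM B D c hmax hab).2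
    (fun x hxN hxst => hTC ⟨hxN, hxst⟩)

/-- The cyclic case: the inertial index divides `p - 1` and the action is free. -/
theorem cyclic_inertial (hM : IsPModular p M) {B : Set (IrrCharacter G)}
    (hB : IsPBlock M B) {D : Subgroup G} (hD : IsDefectGroup p M B D) (hD1 : D ≠ ⊥)
    (hcyc : IsCyclic D)
    {c : Set (IrrCharacter (Subgroup.centralizer (D : Set G)))}
    (hc : IsInducedBlock M (Subgroup.centralizer (D : Set G)) c B) :
    (Subgroup.centralizer (D : Set G)).relIndex
      (pairStab (Subgroup.normalizer (D : Set G)) (Subgroup.centralizer (D : Set G)) c) ∣ p - 1 ∧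
    ∀ g ∈ pairStab (Subgroup.normalizer (D : Set G)) (Subgroup.centralizer (D : Set G)) c,
      ∀ x ∈ D, x ≠ 1 → g * x * g⁻¹ = x → g ∈ Subgroup.centralizer (D : Set G) := by
  set T := pairStab (Subgroup.normalizer (D : Set G)) (Subgroup.centralizer (D : Set G)) c with hTdef
  have hT : ∀ g : G, g ∈ T ↔ (g ∈ Subgroup.normalizer (D : Set G) ∧
      StabilizesBlock (Subgroup.centralizer (D : Set G)) c g) := fun g => Iff.rfl
  have hTN : T ≤ Subgroup.normalizer (D : Set G) := fun t ht => ((hT t).1 ht).1
  have hTNC : T ≤ Subgroup.normalizer ((Subgroup.centralizer (D : Set G) : Subgroup G) : Set G) :=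
    hTN.trans (Cfsg.Agent.Lib.Helper8.normalizer_le_normalizer_centralizer D)
  have hn : ((Subgroup.centralizer (D : Set G)).subgroupOf T).Normal :=
    Subgroup.normal_subgroupOf_of_le_normalizer hTNC
  exact (Cfsg.Agent.S4633.result p M hM B hB D hD hD1 hcyc c hc T hT).2

end

end Cfsg.Agent.Lib.Helper5.KulsN1

namespace Cfsg.Agent.Lib.Lead.Brandt

open Cfsg Cfsg.Agent.Lib.Helper8 Cfsg.Agent.Lib.Helper8.VK Cfsg.Agent.Lib.Helper5.KulsN1

/-- N1 (helper5): nilpotency glue, see the note PART III. -/
theorem nilpotent_of_card_defect_le_four {G : Type*} [Group G] [Finite G] (p : ℕ) [Fact p.Prime]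
    (M : Ideal AlgInt) (hM : IsPModular p M) (B : Set (IrrCharacter G)) (hB : IsPBlock M B)
    (D : Subgroup G) (hD : IsDefectGroup p M B D) (hD1 : D ≠ ⊥)
    (hl : blockRank p B = 1) (hDk : Nat.card D = Nat.card B) (hk : Nat.card B ≤ 4) :
    IsNilpotentBlock p M B := by
  classical
  have : Fintype G := Fintype.ofFinite G
  have hp : p.Prime := Fact.out
  have hP := isPGroup_of_isDefectGroup hD
  have hcardD := card_of_isDefectGroup hM hB hD
  have hD4 : Nat.card D ≤ 4 := hDk ▸ hk
  have hD2 : 1 < Nat.card D := (Subgroup.one_lt_card_iff_ne_bot D).2 hD1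
  set d := blockDefect p B with hd
  -- the possible orders
  have hcases : (Nat.card D = p ∧ (p = 2 ∨ p = 3)) ∨ (Nat.card D = 4 ∧ p = 2) := by
    have hp2 := hp.two_le
    rw [hcardD] at hD4 hD2 ⊢
    have hd0 : d ≠ 0 := by
      intro h0
      rw [h0, pow_zero] at hD2
      omega
    have hd2 : d ≤ 2 := by
      by_contra hcon
      push Not at hcon
      have h1 : p ^ 3 ≤ p ^ d := Nat.pow_le_pow_right hp.pos hcon
      have h2 : 2 ^ 3 ≤ p ^ 3 := Nat.pow_le_pow_left hp2 3
      omega
    have hd12 : d = 1 ∨ d = 2 := by omega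
    rcases hd12 with h | h
    · rw [h, pow_one] at hD4 ⊢
      left
      refine ⟨rfl, ?_⟩
      have hp4 : p ≠ 4 := by
        intro h4
        rw [h4] at hp
        exact absurd hp (by norm_num)
      omega
    · rw [h] at hD4 ⊢
      right
      have hp2' : p = 2 := by
        by_contra hne
        have h3 : 3 ≤ p := by omega
        have : 3 ^ 2 ≤ p ^ 2 := Nat.pow_le_pow_left h3 2
        omega
      rw [hp2']
      exact ⟨by norm_num, rfl⟩
  -- `D` is abelian
  have hab : ∀ x ∈ D, ∀ y ∈ D, x * y = y * x := by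
    have hcomm : ∀ a b : D, a * b = b * a := by
      rcases hcases with ⟨h1, -⟩ | ⟨h4, h2⟩
      · have hcyc : IsCyclic D := isCyclic_of_prime_card h1
        intro a b
        obtain ⟨g, hg⟩ := hcyc.exists_generator
        obtain ⟨i, rfl⟩ := Subgroup.mem_zpowers_iff.1 (hg a)
        obtain ⟨j, rfl⟩ := Subgroup.mem_zpowers_iff.1 (hg b)
        rw [← zpow_add, ← zpow_add, add_comm]
      · have h4' : Nat.card D = p ^ 2 := by rw [h4, h2]; norm_num
        have hmc : IsMulCommutative D := IsPGroup.isMulCommutative_of_card_eq_prime_sq h4'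
        exact fun a b => hmc.is_comm.comm a b
    intro x hx y hy
    exact congrArg Subtype.val (hcomm ⟨x, hx⟩ ⟨y, hy⟩)
  obtain ⟨c, hc, hmax⟩ := exists_maxPair_of_abelian hM hB hD hab
  apply nilpotent_of_relIndex_one hM hab hmax
  set T := pairStab (Subgroup.normalizer (D : Set G)) (Subgroup.centralizer (D : Set G)) c with hTdef
  have hT : ∀ g : G, g ∈ T ↔ (g ∈ Subgroup.normalizer (D : Set G) ∧
      StabilizesBlock (Subgroup.centralizer (D : Set G)) c g) := fun g => Iff.rfl
  rcases hcases with ⟨h1, h23⟩ | ⟨h4, h2⟩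
  · -- prime order
    have hcyc : IsCyclic D := isCyclic_of_prime_card h1
    obtain ⟨hdvd, hfree⟩ := cyclic_inertial hM hB hD hD1 hcyc hc
    rcases h23 with h2 | h3
    · rw [h2] at hdvd
      exact Nat.dvd_one.1 hdvd
    · -- `p = 3`
      subst h3
      have hdvd2 : (Subgroup.centralizer (D : Set G)).relIndex T ∣ 2 := hdvd
      rcases (Nat.dvd_prime Nat.prime_two).1 hdvd2 with h | h
      · exact h
      · exfalso
        -- an element of `T` outside the centralizer
        have hnle : ¬ T ≤ Subgroup.centralizer (D : Set G) := by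
          intro hle
          have := Subgroup.relIndex_eq_one.2 hle
          omega
        obtain ⟨t, htT, htC⟩ := SetLike.not_le_iff_exists.1 hnle
        obtain ⟨y, hyD, hy1⟩ : ∃ y ∈ D, y ≠ 1 := by
          by_contra hcon
          push Not at hcon
          exact hD1 ((Subgroup.eq_bot_iff_forall D).2 hcon)
        have hordy : orderOf y = 3 := by
          have h1' : orderOf (⟨y, hyD⟩ : D) ∣ Nat.card D := orderOf_dvd_natCard _
          rw [Subgroup.orderOf_mk, h1] at h1'
          rcases (Nat.dvd_prime Nat.prime_three).1 h1' with h0 | h0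
          · exact absurd (orderOf_eq_one_iff.1 h0) hy1
          · exact h0
        have hzD : Subgroup.zpowers y = D := by
          apply Subgroup.eq_of_le_of_card_ge ((Subgroup.zpowers_le).2 hyD)
          rw [Nat.card_zpowers, hordy, h1]
        have hy3 : y ^ 3 = 1 := by rw [← hordy]; exact pow_orderOf_eq_one y
        have hel : ∀ z ∈ D, z = 1 ∨ z = y ∨ z = y ^ 2 := by
          intro z hz
          rw [← hzD] at hz
          obtain ⟨k, rfl⟩ := Subgroup.mem_zpowers_iff.1 hz
          have hk : y ^ k = y ^ (k % 3) := by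
            have := zpow_mod_orderOf y k
            rw [hordy] at this
            exact this.symm
          have hk0 : 0 ≤ k % 3 := Int.emod_nonneg k (by norm_num)
          have hk3 : k % 3 < 3 := Int.emod_lt_of_pos k (by norm_num)
          rw [hk]
          obtain ⟨n, hn⟩ := Int.eq_ofNat_of_zero_le hk0
          rw [hn, zpow_natCast]
          have hn3 : n < 3 := by omega
          interval_cases n
          · left; exact pow_zero y
          · right; left; exact pow_one y
          · right; right; rfl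
        have htN : t ∈ Subgroup.normalizer (D : Set G) := ((hT t).1 htT).1
        have hty : t * y * t⁻¹ = y ^ 2 := by
          have hmem : t * y * t⁻¹ ∈ D := (Subgroup.mem_normalizer_iff.1 htN y).1 hyD
          rcases hel _ hmem with h0 | h0 | h0
          · exfalso
            apply hy1
            have : y = t⁻¹ * (t * y * t⁻¹) * t := by group
            rw [this, h0]
            group
          · exact absurd (hfree t htT y hyD hy1 h0) htC
          · exact h0
        have hty2 : t * y ^ 2 * t⁻¹ = y := by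
          have e1 : t * y ^ 2 * t⁻¹ = (t * y * t⁻¹) ^ 2 := by
            rw [pow_two, pow_two]; group
          rw [e1, hty, ← pow_mul]
          have : y ^ (2 * 2) = y ^ 3 * y := by rw [← pow_succ]
          rw [this, hy3, one_mul]
        have h1T : (1 : G) ∈ T := T.one_mem
        have htrans : ∀ a ∈ D, a ≠ 1 → ∀ b ∈ D, b ≠ 1 → ∃ s : G,
            s ∈ Subgroup.normalizer (D : Set G) ∧
            StabilizesBlock (Subgroup.centralizer (D : Set G)) c s ∧ s * a * s⁻¹ = b := by
          intro a ha ha1 b hb hb1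
          rcases hel a ha with h0 | h0 | h0
          · exact absurd h0 ha1
          · rcases hel b hb with h0' | h0' | h0'
            · exact absurd h0' hb1
            · exact ⟨1, ((hT 1).1 h1T).1, ((hT 1).1 h1T).2, by rw [h0, h0']; group⟩
            · exact ⟨t, htN, ((hT t).1 htT).2, by rw [h0, h0']; exact hty⟩
          · rcases hel b hb with h0' | h0' | h0'
            · exact absurd h0' hb1
            · exact ⟨t, htN, ((hT t).1 htT).2, by rw [h0, h0']; exact hty2⟩
            · exact ⟨1, ((hT 1).1 h1T).1, ((hT 1).1 h1T).2, by rw [h0, h0']; group⟩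
        obtain ⟨X, hX, hXrep⟩ := exists_pElement_reps (G := G) 3
        have hrank : ∀ x ∈ X, x ≠ 1 → ∀ f : Set (IrrCharacter
            (Subgroup.centralizer ((Subgroup.zpowers x : Subgroup G) : Set G))),
            IsInducedBlock M (Subgroup.centralizer ((Subgroup.zpowers x : Subgroup G) : Set G))
              f B → blockRank 3 f = 1 := fun x hx hx1 f hf =>
          subsection_rank_one_prime hM hB hD h1 hx1 (hX x hx) _
            (mem_centralizer_zpowers_iff x) hf
        have hcount := card_block_eq_rank_add hM hB X hX hXrep hrank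
        have hsig : Nat.card (SubSec M B X) = ∑ x ∈ X.erase 1,
            Nat.card {f : Set (IrrCharacter
              (Subgroup.centralizer ((Subgroup.zpowers x : Subgroup G) : Set G))) //
              IsInducedBlock M
                (Subgroup.centralizer ((Subgroup.zpowers x : Subgroup G) : Set G)) f B} :=
          card_sigma_finset (X.erase 1) (fun x =>
            {f : Set (IrrCharacter
              (Subgroup.centralizer ((Subgroup.zpowers x : Subgroup G) : Set G))) //
              IsInducedBlock M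
                (Subgroup.centralizer ((Subgroup.zpowers x : Subgroup G) : Set G)) f B})
        have h1eq := card_subSec_eq_one_gen hM hmax
          (fun y hy _ => orderOf_eq_pow_of_mem hP y hy) X hX hXrep
          ⟨y, hyD, hy1⟩ htrans
        rw [← hsig, h1eq, hl, ← hDk, h1] at hcount
        omega
  · -- order four
    subst h2
    rcases isCyclic_or_isKleinFour h4 with hcyc | hV
    · obtain ⟨hdvd, -⟩ := cyclic_inertial hM hB hD hD1 hcyc hc
      exact Nat.dvd_one.1 hdvd
    · have h := (Cfsg.Agent.S4637.result M hM B hB D hD hV c hc T hT _ rfl).2.2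
      rw [← h]
      exact hl

end Cfsg.Agent.Lib.Lead.Brandt
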