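import Mathlib
import Cfsg.Prelude
import Cfsg.Agent.Lib.Helper1.U43A
import Cfsg.Agent.Lib.Helper9.L3Fus19

set_option autoImplicit false
set_option maxRecDepth 100000

/-! A subgroup of the special unitary group of degree 3 over the field with 9 elements that
permutes 42 vectors of norm 1, which fall into 7 orthonormal frames, faithfully. -/

namespace Cfsg.Agent.Lib.Helper5.L27U33

open Cfsg.Agent.Lib.Helper1.U43
open Matrix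

set_option synthInstance.maxSize 10000
set_option synthInstance.maxHeartbeats 1000000

/-- vectors of length 3 -/
abbrev V : Type := F9c × F9c × F9c

/-- the product of a matrix and a vector -/
def mv (M : Matrix (Fin 3) (Fin 3) F9c) (v : V) : V :=
  (M 0 0 * v.1 + M 0 1 * v.2.1 + M 0 2 * v.2.2,
   M 1 0 * v.1 + M 1 1 * v.2.1 + M 1 2 * v.2.2,
   M 2 0 * v.1 + M 2 1 * v.2.1 + M 2 2 * v.2.2)

theorem mv_one (v : V) : mv 1 v = v := by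
  obtain ⟨x, y, z⟩ := v
  simp [mv]

theorem mv_mul (M N : Matrix (Fin 3) (Fin 3) F9c) (v : V) : mv (M * N) v = mv M (mv N v) := by
  obtain ⟨x, y, z⟩ := v
  simp only [mv, Matrix.mul_apply, Fin.sum_univ_three]
  refine Prod.ext ?_ (Prod.ext ?_ ?_) <;> ring

/-- the 42 vectors, frame by frame -/
def vecs : List V :=
  [(⟨0, 0⟩, ⟨0, 0⟩, ⟨1, 0⟩),
   (⟨0, 0⟩, ⟨0, 0⟩, ⟨2, 0⟩),
   (⟨0, 0⟩, ⟨1, 0⟩, ⟨0, 0⟩),
   (⟨0, 0⟩, ⟨2, 0⟩, ⟨0, 0⟩),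
   (⟨1, 0⟩, ⟨0, 0⟩, ⟨0, 0⟩),
   (⟨2, 0⟩, ⟨0, 0⟩, ⟨0, 0⟩),
   (⟨0, 0⟩, ⟨1, 1⟩, ⟨1, 1⟩),
   (⟨0, 0⟩, ⟨2, 2⟩, ⟨2, 2⟩),
   (⟨1, 2⟩, ⟨1, 0⟩, ⟨2, 0⟩),
   (⟨1, 2⟩, ⟨2, 0⟩, ⟨1, 0⟩),
   (⟨2, 1⟩, ⟨1, 0⟩, ⟨2, 0⟩),
   (⟨2, 1⟩, ⟨2, 0⟩, ⟨1, 0⟩),
   (⟨0, 0⟩, ⟨1, 1⟩, ⟨2, 2⟩),
   (⟨0, 0⟩, ⟨2, 2⟩, ⟨1, 1⟩),
   (⟨1, 2⟩, ⟨1, 0⟩, ⟨1, 0⟩),
   (⟨1, 2⟩, ⟨2, 0⟩, ⟨2, 0⟩),
   (⟨2, 1⟩, ⟨1, 0⟩, ⟨1, 0⟩),
   (⟨2, 1⟩, ⟨2, 0⟩, ⟨2, 0⟩),
   (⟨1, 0⟩, ⟨1, 0⟩, ⟨1, 2⟩),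
   (⟨1, 0⟩, ⟨1, 0⟩, ⟨2, 1⟩),
   (⟨1, 1⟩, ⟨2, 2⟩, ⟨0, 0⟩),
   (⟨2, 0⟩, ⟨2, 0⟩, ⟨1, 2⟩),
   (⟨2, 0⟩, ⟨2, 0⟩, ⟨2, 1⟩),
   (⟨2, 2⟩, ⟨1, 1⟩, ⟨0, 0⟩),
   (⟨1, 0⟩, ⟨1, 2⟩, ⟨1, 0⟩),
   (⟨1, 0⟩, ⟨2, 1⟩, ⟨1, 0⟩),
   (⟨1, 1⟩, ⟨0, 0⟩, ⟨2, 2⟩),
   (⟨2, 0⟩, ⟨1, 2⟩, ⟨2, 0⟩),
   (⟨2, 0⟩, ⟨2, 1⟩, ⟨2, 0⟩),
   (⟨2, 2⟩, ⟨0, 0⟩, ⟨1, 1⟩),
   (⟨1, 0⟩, ⟨1, 2⟩, ⟨2, 0⟩),
   (⟨1, 0⟩, ⟨2, 1⟩, ⟨2, 0⟩),
   (⟨1, 1⟩, ⟨0, 0⟩, ⟨1, 1⟩),
   (⟨2, 0⟩, ⟨1, 2⟩, ⟨1, 0⟩),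
   (⟨2, 0⟩, ⟨2, 1⟩, ⟨1, 0⟩),
   (⟨2, 2⟩, ⟨0, 0⟩, ⟨2, 2⟩),
   (⟨1, 0⟩, ⟨2, 0⟩, ⟨1, 2⟩),
   (⟨1, 0⟩, ⟨2, 0⟩, ⟨2, 1⟩),
   (⟨1, 1⟩, ⟨1, 1⟩, ⟨0, 0⟩),
   (⟨2, 0⟩, ⟨1, 0⟩, ⟨1, 2⟩),
   (⟨2, 0⟩, ⟨1, 0⟩, ⟨2, 1⟩),
   (⟨2, 2⟩, ⟨2, 2⟩, ⟨0, 0⟩)]

/-- the place of a vector in the list, divided by 6 -/
def fr (v : V) : ℕ := vecs.idxOf v / 6

/-- a vector of each frame -/
def rep (i : Fin 7) : V := vecs.getD (6 * i.1) (0, 0, 0)

theorem vecs_length : vecs.length = 42 := rfl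

theorem fr_lt {v : V} (hv : v ∈ vecs) : fr v < 7 := by
  have h := List.idxOf_lt_length_iff.2 hv
  rw [vecs_length] at h
  unfold fr
  omega

theorem rep_mem : ∀ i : Fin 7, rep i ∈ vecs := by decide +kernel

theorem fr_rep : ∀ i : Fin 7, fr (rep i) = i.1 := by decide +kernel

/-- the matrices of the generators -/
def MA : Matrix (Fin 3) (Fin 3) F9c := !![⟨0, 0⟩, ⟨0, 0⟩, ⟨1, 0⟩; ⟨0, 0⟩, ⟨2, 0⟩, ⟨0, 0⟩; ⟨1, 0⟩, ⟨0, 0⟩, ⟨0, 0⟩]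

def MB : Matrix (Fin 3) (Fin 3) F9c := !![⟨0, 0⟩, ⟨1, 2⟩, ⟨1, 2⟩; ⟨1, 1⟩, ⟨2, 0⟩, ⟨1, 0⟩; ⟨2, 2⟩, ⟨2, 0⟩, ⟨1, 0⟩]

/-- the automorphism of order 2 of the field -/
def conj9 : F9c ≃+* F9c where
  toFun x := ⟨x.re, -x.im⟩
  invFun x := ⟨x.re, -x.im⟩
  left_inv := by decide +kernel
  right_inv := by decide +kernel
  map_mul' := by decide +kernel
  map_add' := by decide +kernel

theorem conj9_pow : ∀ a : F9c, conj9 a = a ^ 3 := by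
  intro a
  rw [pow_succ, pow_two]
  revert a
  decide +kernel

theorem det_MA : MA.det = 1 := by
  rw [Matrix.det_fin_three]
  decide +kernel

theorem det_MB : MB.det = 1 := by
  rw [Matrix.det_fin_three]
  decide +kernel

theorem unit_MA : MAᵀ * MA.map conj9 = 1 := by
  ext i j
  rw [Matrix.mul_apply, Fin.sum_univ_three]
  fin_cases i <;> fin_cases j <;> decide +kernel

theorem unit_MB : MBᵀ * MB.map conj9 = 1 := by
  ext i j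
  rw [Matrix.mul_apply, Fin.sum_univ_three]
  fin_cases i <;> fin_cases j <;> decide +kernel

/-- the group -/
abbrev Gu : Type := ↥(Cfsg.SU 3 F9c 3)

/-- the generators -/
def gA : Gu := ⟨⟨MA, det_MA⟩, (Cfsg.Agent.H9L3.mem_SU_iff_mat conj9 conj9_pow _).2 unit_MA⟩

def gB : Gu := ⟨⟨MB, det_MB⟩, (Cfsg.Agent.H9L3.mem_SU_iff_mat conj9 conj9_pow _).2 unit_MB⟩

/-- the matrix of an element -/
def mat (g : Gu) : Matrix (Fin 3) (Fin 3) F9c := ((g : Matrix.SpecialLinearGroup (Fin 3) F9c) : Matrix (Fin 3) (Fin 3) F9c)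

theorem mat_one : mat 1 = 1 := rfl

theorem mat_mul (g h : Gu) : mat (g * h) = mat g * mat h := rfl

theorem mat_gA : mat gA = MA := rfl

theorem mat_gB : mat gB = MB := rfl

theorem mat_injective : Function.Injective mat := by
  intro g h hgh
  apply Subtype.ext
  apply Subtype.ext
  exact hgh

/-- matrices that permute the 42 vectors and the 7 frames -/
def Good (M : Matrix (Fin 3) (Fin 3) F9c) : Prop :=
  (∀ v ∈ vecs, mv M v ∈ vecs) ∧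
    ∀ v ∈ vecs, ∀ w ∈ vecs, fr v = fr w → fr (mv M v) = fr (mv M w)

theorem good_one : Good 1 := by
  refine ⟨fun v hv => ?_, fun v _ w _ h => ?_⟩
  · rw [mv_one]; exact hv
  · rw [mv_one, mv_one]; exact h

theorem good_mul {M N : Matrix (Fin 3) (Fin 3) F9c} (hM : Good M) (hN : Good N) : Good (M * N) := by
  refine ⟨fun v hv => ?_, fun v hv w hw h => ?_⟩
  · rw [mv_mul]; exact hM.1 _ (hN.1 _ hv)
  · rw [mv_mul, mv_mul]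
    exact hM.2 _ (hN.1 _ hv) _ (hN.1 _ hw) (hN.2 _ hv _ hw h)

theorem good_MA : Good MA := by
  refine ⟨?_, ?_⟩ <;> decide +kernel

theorem good_MB : Good MB := by
  refine ⟨?_, ?_⟩ <;> decide +kernel

/-- the subgroup of the elements that permute the vectors and the frames -/
def K : Subgroup Gu where
  carrier := {g | Good (mat g) ∧ Good (mat g⁻¹)}
  mul_mem' := by
    intro g h hg hh
    refine ⟨?_, ?_⟩
    · rw [mat_mul]; exact good_mul hg.1 hh.1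
    · rw [_root_.mul_inv_rev, mat_mul]; exact good_mul hh.2 hg.2
  one_mem' := by
    refine ⟨?_, ?_⟩
    · rw [mat_one]; exact good_one
    · rw [inv_one, mat_one]; exact good_one
  inv_mem' := by
    intro g hg
    refine ⟨hg.2, ?_⟩
    rw [inv_inv]; exact hg.1

theorem gA_inv : gA⁻¹ = gA := by
  rw [inv_eq_iff_mul_eq_one]
  apply mat_injective
  rw [mat_mul, mat_gA, mat_one]
  ext i j
  rw [Matrix.mul_apply, Fin.sum_univ_three]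
  fin_cases i <;> fin_cases j <;> decide +kernel

theorem gB_inv : gB⁻¹ = gB * gB := by
  rw [inv_eq_iff_mul_eq_one]
  apply mat_injective
  rw [mat_mul, mat_mul, mat_gB, mat_one]
  ext i j
  simp only [Matrix.mul_apply, Fin.sum_univ_three]
  fin_cases i <;> fin_cases j <;> decide +kernel

theorem gA_mem : gA ∈ K := by
  refine ⟨?_, ?_⟩
  · rw [mat_gA]; exact good_MA
  · rw [gA_inv, mat_gA]; exact good_MA

theorem gB_mem : gB ∈ K := by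
  refine ⟨?_, ?_⟩
  · rw [mat_gB]; exact good_MB
  · rw [gB_inv, mat_mul, mat_gB]; exact good_mul good_MB good_MB

/-- the image of a frame -/
def act (g : K) (i : Fin 7) : Fin 7 :=
  ⟨fr (mv (mat g.1) (rep i)), fr_lt (g.2.1.1 _ (rep_mem i))⟩

theorem act_one (i : Fin 7) : act 1 i = i := by
  apply Fin.ext
  show fr (mv (mat 1) (rep i)) = i.1
  rw [mat_one, mv_one, fr_rep]

theorem act_mul (g h : K) (i : Fin 7) : act (g * h) i = act g (act h i) := by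
  apply Fin.ext
  show fr (mv (mat (g.1 * h.1)) (rep i)) = fr (mv (mat g.1) (rep (act h i)))
  rw [mat_mul, mv_mul]
  apply g.2.1.2 _ (h.2.1.1 _ (rep_mem i)) _ (rep_mem _)
  rw [fr_rep]
  rfl

instance : MulAction K (Fin 7) where
  smul := act
  one_smul := act_one
  mul_smul := act_mul

theorem smul_def (g : K) (i : Fin 7) : g • i = act g i := rfl

/-- the action on the frames as a homomorphism -/
def φ : K →* Equiv.Perm (Fin 7) := MulAction.toPermHom K (Fin 7)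

theorem φ_apply (g : K) (i : Fin 7) : φ g i = act g i := rfl

/-- the vectors of the standard basis -/
def e1 : V := (1, 0, 0)

def e2 : V := (0, 1, 0)

def e3 : V := (0, 0, 1)

/-- a column of a matrix -/
def col (M : Matrix (Fin 3) (Fin 3) F9c) (j : Fin 3) : V := (M 0 j, M 1 j, M 2 j)

theorem mv_e1 (M : Matrix (Fin 3) (Fin 3) F9c) : mv M e1 = col M 0 := by
  simp [mv, e1, col]

theorem mv_e2 (M : Matrix (Fin 3) (Fin 3) F9c) : mv M e2 = col M 1 := by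
  simp [mv, e2, col]

theorem mv_e3 (M : Matrix (Fin 3) (Fin 3) F9c) : mv M e3 = col M 2 := by
  simp [mv, e3, col]

/-- a combination of three vectors -/
def comb (c1 c2 c3 v : V) : V :=
  (c1.1 * v.1 + c2.1 * v.2.1 + c3.1 * v.2.2,
   c1.2.1 * v.1 + c2.2.1 * v.2.1 + c3.2.1 * v.2.2,
   c1.2.2 * v.1 + c2.2.2 * v.2.1 + c3.2.2 * v.2.2)

theorem mv_eq_comb (M : Matrix (Fin 3) (Fin 3) F9c) (v : V) :
    mv M v = comb (col M 0) (col M 1) (col M 2) v := rfl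

/-- the determinant of three columns -/
def det3 (c1 c2 c3 : V) : F9c :=
  c1.1 * c2.2.1 * c3.2.2 - c1.1 * c3.2.1 * c2.2.2 - c2.1 * c1.2.1 * c3.2.2
    + c2.1 * c3.2.1 * c1.2.2 + c3.1 * c1.2.1 * c2.2.2 - c3.1 * c2.2.1 * c1.2.2

theorem det_eq_det3 (M : Matrix (Fin 3) (Fin 3) F9c) :
    M.det = det3 (col M 0) (col M 1) (col M 2) := by
  rw [Matrix.det_fin_three]
  rfl

/-- the first frame -/
def frame0 : List V := vecs.take 6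

theorem mem_frame0 : ∀ v ∈ vecs, fr v = 0 → v ∈ frame0 := by decide +kernel

theorem ker_check : ∀ c1 ∈ frame0, ∀ c2 ∈ frame0, ∀ c3 ∈ frame0, det3 c1 c2 c3 = 1 →
    (∀ i : Fin 7, fr (comb c1 c2 c3 (rep i)) = i.1) → c1 = e1 ∧ c2 = e2 ∧ c3 = e3 := by
  decide +kernel

theorem e_mem : e1 ∈ vecs ∧ e2 ∈ vecs ∧ e3 ∈ vecs := by decide +kernel

theorem fr_e : fr e1 = 0 ∧ fr e2 = 0 ∧ fr e3 = 0 := by decide +kernel

theorem φ_injective : Function.Injective φ := by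
  rw [injective_iff_map_eq_one]
  intro g hg
  have hfix : ∀ i : Fin 7, fr (mv (mat g.1) (rep i)) = i.1 := fun i => by
    have h := congrArg (fun p : Equiv.Perm (Fin 7) => (p i).1) hg
    exact h
  have hc : ∀ e ∈ vecs, fr e = 0 → mv (mat g.1) e ∈ frame0 := by
    intro e he hfe
    apply mem_frame0 _ (g.2.1.1 _ he)
    have h := g.2.1.2 e he (rep 0) (rep_mem 0) (by rw [hfe, fr_rep]; rfl)
    rw [h, hfix 0]; rfl
  have h1 := hc e1 e_mem.1 fr_e.1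
  have h2 := hc e2 e_mem.2.1 fr_e.2.1
  have h3 := hc e3 e_mem.2.2 fr_e.2.2
  rw [mv_e1] at h1
  rw [mv_e2] at h2
  rw [mv_e3] at h3
  have hdet : det3 (col (mat g.1) 0) (col (mat g.1) 1) (col (mat g.1) 2) = 1 := by
    rw [← det_eq_det3]
    exact g.1.1.2
  obtain ⟨k1, k2, k3⟩ := ker_check _ h1 _ h2 _ h3 hdet (fun i => by
    rw [← mv_eq_comb]; exact hfix i)
  apply Subtype.ext
  apply mat_injective
  show mat g.1 = 1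
  simp only [col, e1, e2, e3, Prod.mk.injEq] at k1 k2 k3
  ext i j
  fin_cases i <;> fin_cases j <;> simp [k1, k2, k3]

/-- the two permutations of the frames -/
def pa : Equiv.Perm (Fin 7) where
  toFun := ![0, 3, 6, 1, 4, 5, 2]
  invFun := ![0, 3, 6, 1, 4, 5, 2]
  left_inv := by decide
  right_inv := by decide

def pb : Equiv.Perm (Fin 7) where
  toFun := ![2, 0, 1, 3, 5, 6, 4]
  invFun := ![1, 2, 0, 3, 6, 4, 5]
  left_inv := by decide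
  right_inv := by decide

/-- the generators as elements of the subgroup -/
def kA : K := ⟨gA, gA_mem⟩

def kB : K := ⟨gB, gB_mem⟩

theorem fr_MA : ∀ i : Fin 7, fr (mv MA (rep i)) = (pa i).1 := by decide +kernel

theorem fr_MB : ∀ i : Fin 7, fr (mv MB (rep i)) = (pb i).1 := by decide +kernel

theorem φ_kA : φ kA = pa := by
  ext i
  exact fr_MA i

theorem φ_kB : φ kB = pb := by
  ext i
  exact fr_MB i

end Cfsg.Agent.Lib.Helper5.L27U33
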