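import Mathlib
import Cfsg.Prelude
import Cfsg.Agent.Lib.Helper5.L27U33a
import Cfsg.Agent.S0678
import Cfsg.Agent.S0495

set_option autoImplicit false
set_option maxRecDepth 100000

/-! The group generated by two permutations of 7 points is the simple group of order 168. -/

namespace Cfsg.Agent.Lib.Helper5.L27U33

open scoped Pointwise commutatorElement

/-- the group generated by the two permutations -/
def G7 : Subgroup (Equiv.Perm (Fin 7)) := Subgroup.closure {pa, pb}

theorem pa_mem : pa ∈ G7 := Subgroup.subset_closure (by simp)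

theorem pb_mem : pb ∈ G7 := Subgroup.subset_closure (by simp)

/-- the lines of the plane with 7 points -/
def fano : Finset (Finset (Fin 7)) :=
  {{0, 1, 2}, {0, 3, 6}, {0, 4, 5}, {1, 3, 5}, {1, 4, 6}, {2, 3, 4}, {2, 5, 6}}

theorem pa_fano : pa • fano = fano := by decide +kernel

theorem pb_fano : pb • fano = fano := by decide +kernel

theorem G7_le_stab : G7 ≤ MulAction.stabilizer (Equiv.Perm (Fin 7)) fano := by
  unfold G7
  rw [Subgroup.closure_le]
  intro g hg
  rcases hg with rfl | rfl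
  · exact pa_fano
  · exact pb_fano

theorem not_alt_le : ¬ alternatingGroup (Fin 7) ≤ G7 := by
  intro h
  have ht : Equiv.swap (0 : Fin 7) 1 * Equiv.swap 0 2 ∈ alternatingGroup (Fin 7) :=
    Equiv.Perm.IsThreeCycle.mem_alternatingGroup
      (Equiv.Perm.isThreeCycle_swap_mul_swap_same (by decide) (by decide) (by decide))
  have h2 := G7_le_stab (h ht)
  rw [MulAction.mem_stabilizer_iff] at h2
  revert h2
  decide +kernel

instance G7_pretransitive : MulAction.IsPretransitive G7 (Fin 7) := by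
  have hc : pa * pb ∈ G7 := G7.mul_mem pa_mem pb_mem
  have key : ∀ i : Fin 7, ∃ k : Fin 7, ((pa * pb) ^ k.1) 0 = i := by decide +kernel
  have base : ∀ i : Fin 7, ∃ g : G7, g • (0 : Fin 7) = i := by
    intro i
    obtain ⟨k, hk⟩ := key i
    exact ⟨⟨(pa * pb) ^ k.1, G7.pow_mem hc _⟩, hk⟩
  refine ⟨fun x y => ?_⟩
  obtain ⟨g, hg⟩ := base x
  obtain ⟨h, hh⟩ := base y
  refine ⟨h * g⁻¹, ?_⟩
  rw [mul_smul, ← hg, inv_smul_smul, hh]

/-- words in the generators -/
def wx : Equiv.Perm (Fin 7) := [pb, pa, pb, pb, pa, pb, pa, pb, pb].prod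

def wy : Equiv.Perm (Fin 7) := [pb, pb, pa, pb, pa, pb, pb, pa, pb].prod

def wz : Equiv.Perm (Fin 7) := [pa, pb, pa, pb, pa, pb, pb, pa, pb, pa, pb, pa].prod

theorem word_mem (l : List (Equiv.Perm (Fin 7))) (h : ∀ x ∈ l, x = pa ∨ x = pb) : l.prod ∈ G7 := by
  apply Subgroup.list_prod_mem
  intro x hx
  rcases h x hx with rfl | rfl
  · exact pa_mem
  · exact pb_mem

theorem wx_mem : wx ∈ G7 := word_mem _ (by simp)

theorem wy_mem : wy ∈ G7 := word_mem _ (by simp)

theorem wz_mem : wz ∈ G7 := word_mem _ (by simp)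

theorem pa_eq_comm : pa = ⁅wx, wy⁆ := by decide +kernel

theorem pb_eq_comm : pb = ⁅wz, pb⁆ := by decide +kernel

theorem G7_le_comm : G7 ≤ ⁅G7, G7⁆ := by
  conv_lhs => unfold G7
  rw [Subgroup.closure_le]
  intro g hg
  rcases hg with rfl | rfl
  · rw [pa_eq_comm]
    exact Subgroup.commutator_mem_commutator wx_mem wy_mem
  · rw [pb_eq_comm]
    exact Subgroup.commutator_mem_commutator wz_mem pb_mem

theorem G7_not_solvable : ¬ Group.IsSolvable G7 := by
  intro hs
  haveI : Nontrivial G7 := by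
    refine ⟨⟨⟨pa, pa_mem⟩, 1, ?_⟩⟩
    intro h
    have h2 : pa = 1 := congrArg Subtype.val h
    revert h2
    decide +kernel
  have hlt := Group.IsSolvable.commutator_lt_top_of_nontrivial G7
  apply hlt.ne
  apply Subgroup.map_injective G7.subtype_injective
  rw [Subgroup.map_subtype_commutator, ← MonoidHom.range_eq_map, Subgroup.range_subtype]
  exact le_antisymm (Subgroup.commutator_le.2 fun x hx y hy =>
    G7.mul_mem (G7.mul_mem (G7.mul_mem hx hy) (G7.inv_mem hx)) (G7.inv_mem hy)) G7_le_comm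

theorem G7_card_simple : Nat.card G7 = 168 ∧ IsSimpleGroup G7 :=
  Cfsg.Agent.S0678.result (by simp) G7 G7_not_solvable not_alt_le

theorem G7_iso {F : Type*} [Field F] [Fintype F] (hF : Fintype.card F = 7) :
    Nonempty (G7 ≃* Matrix.ProjectiveSpecialLinearGroup (Fin 2) F) := by
  haveI := G7_card_simple.2
  exact Cfsg.Agent.S0495.result G7_card_simple.1 hF

end Cfsg.Agent.Lib.Helper5.L27U33
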