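import Mathlib
import Cfsg.Agent.Lib.Helper5.SpAut4

set_option autoImplicit false

/-! The subgroups attached to a point-line flag of a symplectic space: in characteristic two these
are the centres of the Sylow `2`-subgroups. -/

namespace Cfsg.Agent.Lib.Helper5.SpAut

open Module Cfsg.Agent.Lib.Helper2.IsomDecomp Cfsg.Agent.Lib.Helper5.FTPG

universe u v

section
variable {F : Type*} [Field F] {V : Type*} [AddCommGroup V] [Module F V] {B : V → V → F}

/-- `g` is in the group attached to the flag `(u, ⟨u, w⟩)` -/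
def IsZ (B : V → V → F) (u w : V) (g : V ≃ₗ[F] V) : Prop :=
  IsQ B u g ∧ ∀ x, ∃ a b : F, g x = x + a • u + b • w

theorem isZ_eich (h : AltF B) (u w : V) (b c : F) (hw : B w u = 0) :
    IsZ B u w (eich h u (b • w) c (by rw [h.smul_left, hw, mul_zero])) := by
  refine ⟨isQ_eich h u _ c _, fun x => ⟨B x (b • w) + c * B x u, B x u * b, ?_⟩⟩
  rw [eich_apply]
  module

theorem exists_eich_of_isZ (h : AltF B) {u f : V} (huf : B u f = 1) {w : V} (hw : B w u = 0)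
    {g : V ≃ₗ[F] V} (hg : IsZ B u w g) :
    ∃ b c : F, g = eich h u (b • w) c (by rw [h.smul_left, hw, mul_zero]) := by
  obtain ⟨hQ, hx⟩ := hg
  obtain ⟨y, c, hy, hyf, rfl⟩ := exists_eich_of_isQ h huf hQ
  obtain ⟨a, b, hab⟩ := hx f
  rw [eich_apply_f h huf] at hab
  have hfy : B f y = 0 := by rw [h.swap, hyf, neg_zero]
  rw [hfy, zero_smul, add_zero] at hab
  have hy' : y = (-b) • w + (-(a + c)) • u := by
    have : y = f - c • u - (f + a • u + b • w) := by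
      rw [← hab]
      module
    rw [this]
    module
  refine ⟨-b, c + 2 * (-(a + c)), ?_⟩
  rw [← eich_add_smul h u ((-b) • w) c (-(a + c))]
  exact eich_congr h hy rfl hy' rfl

theorem isZ_one (B : V → V → F) (u w : V) : IsZ B u w 1 :=
  ⟨isQ_one B u, fun x => ⟨0, 0, by rw [zero_smul, zero_smul, add_zero, add_zero]; rfl⟩⟩

theorem IsQ.apply_perp {u : V} {g : V ≃ₗ[F] V} (hg : IsQ B u g) {x : V} (hx : B x u = 0) :
    ∃ a : F, g x = x + a • u := hg.2.2 x hx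

theorem isZ_mul {u w : V} (hw : B w u = 0) {g g' : V ≃ₗ[F] V} (hg : IsZ B u w g)
    (hg' : IsZ B u w g') : IsZ B u w (g * g') := by
  refine ⟨isQ_mul hg.1 hg'.1, fun x => ?_⟩
  obtain ⟨a', b', h'⟩ := hg'.2 x
  obtain ⟨a, b, h1⟩ := hg.2 x
  obtain ⟨e, he⟩ := hg.1.apply_perp hw
  refine ⟨a + a' + b' * e, b + b', ?_⟩
  rw [LinearEquiv.mul_apply, h', map_add, map_add, map_smul, map_smul, hg.1.2.1, he, h1]
  module

theorem isZ_inv {u w : V} (hw : B w u = 0) {g : V ≃ₗ[F] V} (hg : IsZ B u w g) :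
    IsZ B u w g⁻¹ := by
  refine ⟨isQ_inv hg.1, fun x => ?_⟩
  have h1 : ∀ y, g⁻¹ (g y) = y := by
    intro y
    rw [← LinearEquiv.mul_apply, inv_mul_cancel]
    rfl
  obtain ⟨a, b, hab⟩ := hg.2 (g⁻¹ x)
  have h2 : g (g⁻¹ x) = x := by
    rw [← LinearEquiv.mul_apply, mul_inv_cancel]
    rfl
  rw [h2] at hab
  refine ⟨-a, -b, ?_⟩
  have h3 : g⁻¹ x = x - b • w - a • u := by
    rw [eq_sub_iff_add_eq, eq_sub_iff_add_eq]
    exact hab.symm
  rw [h3]
  module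

theorem isQ_smul_iff (h : AltF B) {u : V} {a : F} (ha : a ≠ 0) {g : V ≃ₗ[F] V} :
    IsQ B (a • u) g ↔ IsQ B u g := by
  constructor
  · rintro ⟨h1, h2, h3⟩
    refine ⟨h1, ?_, fun x hx => ?_⟩
    · rw [map_smul] at h2
      exact smul_right_injective V ha h2
    · obtain ⟨c, hc⟩ := h3 x (by rw [h.smul_right, hx, mul_zero])
      exact ⟨c * a, by rw [hc, smul_smul]⟩
  · rintro ⟨h1, h2, h3⟩
    refine ⟨h1, by rw [map_smul, h2], fun x hx => ?_⟩
    rw [h.smul_right] at hx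
    rcases mul_eq_zero.1 hx with hx | hx
    · exact absurd hx ha
    · obtain ⟨c, hc⟩ := h3 x hx
      exact ⟨c * a⁻¹, by rw [hc, smul_smul, inv_mul_cancel_right₀ ha]⟩

/-- the flag group depends only on the flag -/
theorem isZ_change (h : AltF B) {u w : V} {a b c : F} (ha : a ≠ 0) (hc : c ≠ 0)
    {g : V ≃ₗ[F] V} : IsZ B (a • u) (b • u + c • w) g ↔ IsZ B u w g := by
  constructor
  · rintro ⟨h1, h2⟩
    refine ⟨(isQ_smul_iff h ha).1 h1, fun x => ?_⟩
    obtain ⟨a', b', hab⟩ := h2 x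
    refine ⟨a' * a + b' * b, b' * c, ?_⟩
    rw [hab]
    module
  · rintro ⟨h1, h2⟩
    refine ⟨(isQ_smul_iff h ha).2 h1, fun x => ?_⟩
    obtain ⟨a', b', hab⟩ := h2 x
    refine ⟨(a' - b' * c⁻¹ * b) * a⁻¹, b' * c⁻¹, ?_⟩
    rw [hab]
    have e1 : ((a' - b' * c⁻¹ * b) * a⁻¹) • a • u = (a' - b' * c⁻¹ * b) • u := by
      rw [smul_smul, inv_mul_cancel_right₀ ha]
    have e2 : (b' * c⁻¹) • (b • u + c • w) = (b' * c⁻¹ * b) • u + b' • w := by
      rw [smul_add, smul_smul, smul_smul, inv_mul_cancel_right₀ hc]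
    rw [e1, e2]
    module

theorem isQ_conj' {u : V} {g m : V ≃ₗ[F] V} (hg : IsQ B u g) (hm : m ∈ isom B) :
    IsQ B (m u) (m * g * m⁻¹) := by
  have h1 : ∀ x, m (m⁻¹ x) = x := by
    intro x
    rw [← LinearEquiv.mul_apply, mul_inv_cancel]
    rfl
  have h2 : ∀ x, m⁻¹ (m x) = x := by
    intro x
    rw [← LinearEquiv.mul_apply, inv_mul_cancel]
    rfl
  refine ⟨(isom B).mul_mem ((isom B).mul_mem hm hg.1) ((isom B).inv_mem hm), ?_, fun x hx => ?_⟩
  · rw [LinearEquiv.mul_apply, LinearEquiv.mul_apply, h2, hg.2.1]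
  · have hx' : B (m⁻¹ x) u = 0 := by
      rw [← hm, h1]
      exact hx
    obtain ⟨a, ha⟩ := hg.2.2 _ hx'
    refine ⟨a, ?_⟩
    rw [LinearEquiv.mul_apply, LinearEquiv.mul_apply, ha, map_add, map_smul, h1]

theorem isZ_conj {u w : V} {g m : V ≃ₗ[F] V} (hg : IsZ B u w g) (hm : m ∈ isom B) :
    IsZ B (m u) (m w) (m * g * m⁻¹) := by
  have h1 : ∀ x, m (m⁻¹ x) = x := by
    intro x
    rw [← LinearEquiv.mul_apply, mul_inv_cancel]
    rfl
  refine ⟨isQ_conj' hg.1 hm, fun x => ?_⟩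
  obtain ⟨a, b, hab⟩ := hg.2 (m⁻¹ x)
  refine ⟨a, b, ?_⟩
  rw [LinearEquiv.mul_apply, LinearEquiv.mul_apply, hab, map_add, map_add, map_smul, map_smul, h1]

end

section groups
variable {F : Type v} [Field F] [Fintype F] {V : Type u} [AddCommGroup V]
  [Module F V] [FiniteDimensional F V] {B : V → V → F}

/-- the group attached to the flag `(u, ⟨u, w⟩)` -/
def Zg (B : V → V → F) (u w : V) (hw : B w u = 0) : Subgroup ↥(isom B) where
  carrier := {g | IsZ B u w g.1}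
  mul_mem' := fun ha hb => isZ_mul hw ha hb
  one_mem' := isZ_one B u w
  inv_mem' := fun ha => isZ_inv hw ha

theorem mem_Zg (u w : V) (hw : B w u = 0) (g : ↥(isom B)) :
    g ∈ Zg B u w hw ↔ IsZ B u w g.1 := Iff.rfl

theorem Zg_le_Qg (u w : V) (hw : B w u = 0) : Zg B u w hw ≤ Qg B u := fun _ hg => hg.1

theorem Xg_le_Zg (h : AltF B) (u w : V) (hw : B w u = 0) : Xg h u ≤ Zg B u w hw := by
  rintro g ⟨c, hg⟩
  rw [mem_Zg, hg]
  have := isZ_eich h u w 0 c hw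
  have e : eich h u ((0 : F) • w) c (by rw [h.smul_left, hw, mul_zero]) = tv h u c := by
    rw [← eich_zero h u c]
    exact eich_congr h _ rfl (zero_smul F w) rfl
  rwa [e] at this

theorem mem_Zg_iff (d : SData B) {u w : V} (hu0 : u ≠ 0) (hw : B w u = 0) (g : ↥(isom B)) :
    g ∈ Zg B u w hw ↔ ∃ b c : F, g.1 = eich d.alt u (b • w) c
      (by rw [d.alt.smul_left, hw, mul_zero]) := by
  obtain ⟨f, huf⟩ := d.exists_partner hu0
  constructor
  · intro hg
    exact exists_eich_of_isZ d.alt huf hw hg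
  · rintro ⟨b, c, hg⟩
    rw [mem_Zg, hg]
    exact isZ_eich d.alt u w b c hw

theorem Zg_change (h : AltF B) {u w : V} (hw : B w u = 0) {a b c : F} (ha : a ≠ 0) (hc : c ≠ 0) :
    Zg B (a • u) (b • u + c • w) (by
      rw [h.add_left, h.smul_left, h.smul_left, h.smul_right, h.smul_right, h.self, hw]
      ring) = Zg B u w hw := by
  ext g
  rw [mem_Zg, mem_Zg]
  exact isZ_change h ha hc

theorem Zg_conj (u w : V) (hw : B w u = 0) (m : ↥(isom B)) :
    (Zg B u w hw).map (MulAut.conj m).toMonoidHom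
      = Zg B ((m : V ≃ₗ[F] V) u) ((m : V ≃ₗ[F] V) w) (by rw [m.2, hw]) := by
  apply le_antisymm
  · rintro _ ⟨g, hg, rfl⟩
    exact isZ_conj hg m.2
  · intro g hg
    refine ⟨m⁻¹ * g * m, ?_, ?_⟩
    · have h1 := isZ_conj hg (m⁻¹).2
      have e1 : ((m⁻¹ : ↥(isom B)) : V ≃ₗ[F] V) ((m : V ≃ₗ[F] V) u) = u := by
        rw [← LinearEquiv.mul_apply, ← Subgroup.coe_mul, inv_mul_cancel]
        rfl
      have e2 : ((m⁻¹ : ↥(isom B)) : V ≃ₗ[F] V) ((m : V ≃ₗ[F] V) w) = w := by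
        rw [← LinearEquiv.mul_apply, ← Subgroup.coe_mul, inv_mul_cancel]
        rfl
      rw [e1, e2] at h1
      show IsZ B u w ((m⁻¹ * g * m : ↥(isom B)) : V ≃ₗ[F] V)
      have e3 : ((m⁻¹ * g * m : ↥(isom B)) : V ≃ₗ[F] V)
          = ((m⁻¹ : ↥(isom B)) : V ≃ₗ[F] V) * g.1 * ((m⁻¹ : ↥(isom B)) : V ≃ₗ[F] V)⁻¹ := by
        rw [Subgroup.coe_mul, Subgroup.coe_mul, Subgroup.coe_inv, inv_inv]
      rw [e3]
      exact h1
    · show m * (m⁻¹ * g * m) * m⁻¹ = g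
      group

end groups

end Cfsg.Agent.Lib.Helper5.SpAut
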