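import Mathlib
import Cfsg.Agent.Lib.Helper5.SpTwo1

set_option autoImplicit false

/-! The centres of the Sylow `2`-subgroups of a symplectic group in characteristic two. -/

namespace Cfsg.Agent.Lib.Helper5.SpAut

open Module Cfsg.Agent.Lib.Helper2.IsomDecomp Cfsg.Agent.Lib.Helper5.FTPG

universe u v

section
variable {F : Type*} [Field F] {V : Type*} [AddCommGroup V] [Module F V] [FiniteDimensional F V]
  {B : V → V → F}

/-- a vector perpendicular to two given vectors outside a small subspace -/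
theorem exists_perp_not_mem (h : AltF B) (a b : V) (S : Submodule F V)
    (hS : finrank F S + 2 < finrank F V) : ∃ x, x ∉ S ∧ B x a = 0 ∧ B x b = 0 := by
  let φ : V →ₗ[F] F × F := (h.toDual a).prod (h.toDual b)
  have h1 := LinearMap.finrank_range_add_finrank_ker φ
  have h2 : finrank F (LinearMap.range φ) ≤ 2 := by
    have := Submodule.finrank_le (LinearMap.range φ)
    rw [Module.finrank_prod, Module.finrank_self] at this
    exact this
  have h3 : ¬ (LinearMap.ker φ ≤ S) := by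
    intro hle
    have := Submodule.finrank_mono hle
    omega
  obtain ⟨x, hx, hxS⟩ := SetLike.not_le_iff_exists.1 h3
  rw [LinearMap.mem_ker] at hx
  have hx' : (B x a, B x b) = (0, 0) := hx
  exact ⟨x, hxS, (Prod.mk.inj hx').1, (Prod.mk.inj hx').2⟩

theorem finrank_span_pair_le (u w : V) : finrank F (Submodule.span F {u, w}) ≤ 2 := by
  classical
  have := finrank_span_le_card (R := F) ({u, w} : Set V)
  have h2 : ({u, w} : Set V).toFinset.card ≤ 2 := by
    rw [Set.toFinset_insert, Set.toFinset_singleton]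
    exact Finset.card_insert_le _ _ |>.trans (by simp)
  omega

end

section groups
variable {F : Type v} [Field F] [Fintype F] {V : Type u} [AddCommGroup V]
  [Module F V] [FiniteDimensional F V] {B : V → V → F}

/-- the stabilizer of a vector -/
def stabG (B : V → V → F) (u : V) : Subgroup ↥(isom B) where
  carrier := {g | (g : V ≃ₗ[F] V) u = u}
  mul_mem' := by
    intro a b ha hb
    show ((a * b : ↥(isom B)) : V ≃ₗ[F] V) u = u
    rw [Subgroup.coe_mul, LinearEquiv.mul_apply, hb, ha]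
  one_mem' := rfl
  inv_mem' := by
    intro a ha
    show ((a⁻¹ : ↥(isom B)) : V ≃ₗ[F] V) u = u
    have h1 : ((a⁻¹ : ↥(isom B)) : V ≃ₗ[F] V) ((a : V ≃ₗ[F] V) u) = u := by
      rw [← LinearEquiv.mul_apply, ← Subgroup.coe_mul, inv_mul_cancel]
      rfl
    rw [ha] at h1
    exact h1

theorem mem_stabG (u : V) (g : ↥(isom B)) : g ∈ stabG B u ↔ (g : V ≃ₗ[F] V) u = u := Iff.rfl

/-- the vectors fixed by the unipotent radical of a point stabilizer -/
theorem Qg_fix' (d : SData B) {u : V} (hu0 : u ≠ 0) (x : V)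
    (hx : ∀ g ∈ Qg B u, (g : V ≃ₗ[F] V) x = x) : ∃ a : F, x = a • u := by
  have h := d.alt
  obtain ⟨f, huf⟩ := d.exists_partner hu0
  have hxu : B x u = 0 := by
    have hq : tvT h u 1 ∈ Qg B u := Xg_le_Qg h u (tvT_mem h u 1)
    have h1 : tv h u 1 x = x := hx _ hq
    rw [tv_apply, add_eq_left, smul_eq_zero, one_mul] at h1
    rcases h1 with h1 | h1
    · exact h1
    · exact absurd h1 hu0
  refine ⟨B x f, d.perp_perp huf fun w hw => ?_⟩
  have hq : (⟨_, eich_mem_isom h u w 0 hw⟩ : ↥(isom B)) ∈ Qg B u := isQ_eich h u w 0 hw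
  have h3 : eich h u w 0 hw x = x := hx _ hq
  rw [eich_apply, zero_mul, zero_smul, add_zero, add_assoc, add_eq_left, hxu, zero_smul,
    zero_add, smul_eq_zero] at h3
  rcases h3 with h3 | h3
  · exact h3
  · exact absurd h3 hu0

/-- the part of the unipotent radical at `w` fixing `u` -/
def Kg (B : V → V → F) (w u : V) : Subgroup ↥(isom B) := Qg B w ⊓ stabG B u

/-- a vector fixed modulo `u` by `Kg` lies on the line -/
theorem span_of_Kg_fix (d : SData B) {u w : V} (hind : Indep2 (F := F) u w) (hw : B w u = 0)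
    (y : V) (hy : ∀ k ∈ Kg B w u, ∃ a : F, (k : V ≃ₗ[F] V) y = y + a • u) :
    ∃ a b : F, y = a • u + b • w := by
  have h := d.alt
  have huw : B u w = 0 := by rw [h.swap, hw, neg_zero]
  have hyw : B y w = 0 := by
    have hk : tvT h w 1 ∈ Kg B w u := by
      refine Subgroup.mem_inf.2 ⟨Xg_le_Qg h w (tvT_mem h w 1), ?_⟩
      show tv h w 1 u = u
      rw [tv_apply, huw, mul_zero, zero_smul, add_zero]
    obtain ⟨a, ha⟩ := hy _ hk
    have h1 : tv h w 1 y = y + a • u := ha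
    rw [tv_apply, add_right_inj, one_mul] at h1
    have h2 := hind (-a) (B y w) (by rw [h1]; module)
    exact h2.2
  rw [d.mem_span_pair_iff]
  intro x hxu hxw
  have hk : (⟨_, eich_mem_isom h w x 0 hxw⟩ : ↥(isom B)) ∈ Kg B w u := by
    refine Subgroup.mem_inf.2 ⟨isQ_eich h w x 0 hxw, ?_⟩
    show eich h w x 0 hxw u = u
    have hux : B u x = 0 := by rw [h.swap, hxu, neg_zero]
    rw [eich_apply, huw, hux, zero_smul, zero_smul, mul_zero, zero_smul, add_zero, add_zero,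
      add_zero]
  obtain ⟨a, ha⟩ := hy _ hk
  have h1 : eich h w x 0 hxw y = y + a • u := ha
  rw [eich_apply, hyw, zero_smul, mul_zero, zero_smul, add_zero, add_zero, add_right_inj] at h1
  have h2 := hind (-a) (B y x) (by rw [h1]; module)
  rw [h.swap, h2.2, neg_zero]

theorem stab_le_normalizer_Qg (h : AltF B) (u : V) :
    stabG B u ≤ Subgroup.normalizer (Qg B u : Set ↥(isom B)) := by
  intro s hs
  rw [Subgroup.mem_normalizer_iff]
  have hconj : ∀ t : ↥(isom B), (t : V ≃ₗ[F] V) u = u → ∀ g, g ∈ Qg B u →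
      t * g * t⁻¹ ∈ Qg B u := by
    intro t ht g hg
    rw [mem_Qg] at hg ⊢
    exact isQ_conj h hg t.2 one_ne_zero (by rw [one_smul]; exact ht)
  intro g
  constructor
  · exact hconj s hs g
  · intro hg
    have hsinv : ((s⁻¹ : ↥(isom B)) : V ≃ₗ[F] V) u = u := (stabG B u).inv_mem hs
    have := hconj s⁻¹ hsinv _ hg
    have e : s⁻¹ * (s * g * s⁻¹) * s⁻¹⁻¹ = g := by group
    rw [e] at this
    exact this

theorem isPGroup_Pg (d : SData B) (p : ℕ) [Fact p.Prime] [CharP F p] {u w : V} (hu0 : u ≠ 0)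
    (hw0 : w ≠ 0) : IsPGroup p (Kg B w u ⊔ Qg B u : Subgroup ↥(isom B)) := by
  have hK : IsPGroup p (Kg B w u) := (isPGroup_Qg d p w hw0).to_le inf_le_left
  exact hK.to_sup_of_normal_right' (isPGroup_Qg d p u hu0)
    (le_trans inf_le_right (stab_le_normalizer_Qg d.alt u))

/-- an isometry fixing `u` agrees on `f` with an element of the unipotent radical -/
theorem exists_q_of_fix (h : AltF B) {u f : V} (huf : B u f = 1) (s : ↥(isom B))
    (hs : (s : V ≃ₗ[F] V) u = u) :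
    ∃ q ∈ Qg B u, (q : V ≃ₗ[F] V) f = (s : V ≃ₗ[F] V) f := by
  have hv : B (-((s : V ≃ₗ[F] V) f - f)) u = 0 := by
    have h1 : B ((s : V ≃ₗ[F] V) f) u = B f u := by
      conv_lhs => rw [← hs]
      exact s.2 f u
    rw [h.neg_left, h.sub_left, h1, sub_self, neg_zero]
  refine ⟨⟨_, eich_mem_isom h u (-((s : V ≃ₗ[F] V) f - f)) (-B f ((s : V ≃ₗ[F] V) f - f)) hv⟩,
    isQ_eich h u _ _ hv, ?_⟩
  show eich h u (-((s : V ≃ₗ[F] V) f - f)) (-B f ((s : V ≃ₗ[F] V) f - f)) hv f = _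
  rw [eich_apply_f h huf, h.neg_right]
  module

/-- a `p`-group of isometries fixing `u` and containing the unipotent radical fixes a further
vector modulo `u` -/
theorem exists_fixed_mod (d : SData B) (p : ℕ) [Fact p.Prime] [CharP F p]
    (hfr : 3 ≤ finrank F V) {u f : V} (huf : B u f = 1) (S : Subgroup ↥(isom B))
    (hS : IsPGroup p S) (hQS : Qg B u ≤ S) (hfix : ∀ s ∈ S, (s : V ≃ₗ[F] V) u = u) :
    ∃ w' : V, w' ≠ 0 ∧ B w' u = 0 ∧ B w' f = 0 ∧
      ∀ s ∈ S, ∃ a : F, (s : V ≃ₗ[F] V) w' = w' + a • u := by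
  have h := d.alt
  let T : Subgroup ↥(isom B) := S ⊓ stabG B f
  have hT : IsPGroup p (T.map (isom B).subtype) := (hS.to_le inf_le_left).map _
  let W : Submodule F V := LinearMap.ker (h.toDual u) ⊓ LinearMap.ker (h.toDual f)
  have hmemW : ∀ x, x ∈ W ↔ B x u = 0 ∧ B x f = 0 := by
    intro x
    show x ∈ LinearMap.ker (h.toDual u) ⊓ LinearMap.ker (h.toDual f) ↔ _
    rw [Submodule.mem_inf, LinearMap.mem_ker, LinearMap.mem_ker]
    rfl
  have hWinv : ∀ t ∈ T.map (isom B).subtype, ∀ x ∈ W, t x ∈ W := by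
    rintro _ ⟨t, ht, rfl⟩ x hx
    obtain ⟨ht1, ht2⟩ := Subgroup.mem_inf.1 ht
    have htu : (t : V ≃ₗ[F] V) u = u := hfix t ht1
    have htf : (t : V ≃ₗ[F] V) f = f := ht2
    rw [hmemW] at hx ⊢
    constructor
    · have := t.2 x u
      rw [htu] at this
      rw [← hx.1]
      exact this
    · have := t.2 x f
      rw [htf] at this
      rw [← hx.2]
      exact this
  have hWne : W ≠ ⊥ := by
    obtain ⟨x, hx, hxu, hxf⟩ := exists_perp_not_mem h u f ⊥ (by
      rw [finrank_bot]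
      omega)
    intro h0
    apply hx
    rw [← h0, hmemW]
    exact ⟨hxu, hxf⟩
  obtain ⟨w', hw'W, hw'0, hw'fix⟩ := UAut.exists_fixed_in p _ hT W hWinv hWne
  rw [hmemW] at hw'W
  refine ⟨w', hw'0, hw'W.1, hw'W.2, fun s hs => ?_⟩
  obtain ⟨q, hq, hqf⟩ := exists_q_of_fix h huf s (hfix s hs)
  have hqS : q ∈ S := hQS hq
  have ht : q⁻¹ * s ∈ T := by
    refine Subgroup.mem_inf.2 ⟨S.mul_mem (S.inv_mem hqS) hs, ?_⟩
    show ((q⁻¹ * s : ↥(isom B)) : V ≃ₗ[F] V) f = f
    rw [Subgroup.coe_mul, LinearEquiv.mul_apply, ← hqf, ← LinearEquiv.mul_apply,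
      ← Subgroup.coe_mul, inv_mul_cancel]
    rfl
  have h1 : ((q⁻¹ * s : ↥(isom B)) : V ≃ₗ[F] V) w' = w' := hw'fix _ ⟨_, ht, rfl⟩
  obtain ⟨a, ha⟩ := (hq : IsQ B u q.1).apply_perp hw'W.1
  refine ⟨a, ?_⟩
  have h2 : (s : V ≃ₗ[F] V) w' = (q : V ≃ₗ[F] V) (((q⁻¹ * s : ↥(isom B)) : V ≃ₗ[F] V) w') := by
    rw [← LinearEquiv.mul_apply, ← Subgroup.coe_mul, mul_inv_cancel_left]
  rw [h2, h1]
  exact ha

theorem eich_add_smul_two (h : AltF B) (h2 : (2 : F) = 0) (u w : V) (c l : F) (hw : B w u = 0) :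
    eich h u (w + l • u) c (by rw [h.add_left, h.smul_left, hw, h.self, mul_zero, add_zero])
      = eich h u w c hw := by
  rw [eich_add_smul, h2, zero_mul, add_zero]

/-- in characteristic two every flag group is the centre of a Sylow `2`-subgroup -/
theorem exists_sylow_center_two (d : SData B) [CharP F 2] (hfr : 3 ≤ finrank F V)
    {u w : V} (hind : Indep2 (F := F) u w) (hw : B w u = 0) :
    ∃ S : Sylow 2 ↥(isom B), UAut.IsCen (S : Subgroup ↥(isom B)) (Zg B u w hw) := by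
  haveI := finite_T B
  have h := d.alt
  have h2 : (2 : F) = 0 := CharTwo.two_eq_zero
  have hu0 := hind.left_ne
  have hw0 := hind.right_ne
  obtain ⟨f, huf⟩ := d.exists_partner hu0
  obtain ⟨S, hS⟩ := (isPGroup_Pg d 2 hu0 hw0).exists_le_sylow
  have hQS : Qg B u ≤ S := le_trans le_sup_right hS
  have hKS : Kg B w u ≤ S := le_trans le_sup_left hS
  -- `S` fixes `u`
  have hfix : ∀ s ∈ S, (s : V ≃ₗ[F] V) u = u := by
    have hSp : IsPGroup 2 ((S : Subgroup ↥(isom B)).map (isom B).subtype) := S.2.map _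
    have hVne : (⊤ : Submodule F V) ≠ ⊥ := by
      intro h0
      have : u ∈ (⊤ : Submodule F V) := Submodule.mem_top
      rw [h0, Submodule.mem_bot] at this
      exact hu0 this
    obtain ⟨u', -, hu'0, hfix'⟩ := UAut.exists_fixed_in 2 _ hSp ⊤
      (fun _ _ _ _ => Submodule.mem_top) hVne
    obtain ⟨a, ha⟩ := Qg_fix' d hu0 u' (fun g hg => hfix' _ ⟨g, hQS hg, rfl⟩)
    have ha0 : a ≠ 0 := by
      rintro rfl
      rw [zero_smul] at ha
      exact hu'0 ha
    intro s hs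
    have h1 : (s : V ≃ₗ[F] V) u' = u' := hfix' _ ⟨s, hs, rfl⟩
    rw [ha, map_smul] at h1
    exact smul_right_injective V ha0 h1
  -- `S` fixes `w` modulo `u`
  have hfixw : ∀ s ∈ S, ∃ a : F, (s : V ≃ₗ[F] V) w = w + a • u := by
    obtain ⟨w', hw'0, hw'u, hw'f, hw'fix⟩ := exists_fixed_mod d 2 hfr huf S S.2 hQS hfix
    obtain ⟨a, b, hab⟩ := span_of_Kg_fix d hind hw w' (fun k hk => hw'fix k (hKS hk))
    have hb0 : b ≠ 0 := by
      rintro rfl
      rw [zero_smul, add_zero] at hab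
      rw [hab, h.smul_left, huf, mul_one] at hw'f
      rw [hw'f, zero_smul] at hab
      exact hw'0 hab
    intro s hs
    obtain ⟨a', ha'⟩ := hw'fix s hs
    refine ⟨b⁻¹ * a', ?_⟩
    have hw_eq : w = b⁻¹ • (w' - a • u) := by
      rw [hab, add_sub_cancel_left, smul_smul, inv_mul_cancel₀ hb0, one_smul]
    conv_lhs => rw [hw_eq]
    rw [map_smul, map_sub, map_smul, ha', hfix s hs]
    conv_rhs => rw [hw_eq]
    module
  refine ⟨S, fun z => ⟨?_, ?_⟩⟩
  · rintro ⟨hzS, hzc⟩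
    have hzu : (z : V ≃ₗ[F] V) u = u := hfix z hzS
    -- `z` lies in the unipotent radical
    have hzQ : IsQ B u z.1 := by
      refine ⟨z.2, hzu, fun y hy => ?_⟩
      have hq : (⟨_, eich_mem_isom h u y 0 hy⟩ : ↥(isom B)) ∈ Qg B u := isQ_eich h u y 0 hy
      have h1 := hzc _ (hQS hq)
      have h3 : eich h u y 0 hy * (z : V ≃ₗ[F] V) = (z : V ≃ₗ[F] V) * eich h u y 0 hy :=
        congrArg (fun t : ↥(isom B) => (t : V ≃ₗ[F] V)) h1
      have h4 : (z : V ≃ₗ[F] V) * eich h u y 0 hy * (z : V ≃ₗ[F] V)⁻¹ = eich h u y 0 hy := by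
        rw [← h3]
        group
      rw [conj_eich h z.2] at h4
      have h5 := LinearEquiv.congr_fun h4 f
      rw [eich_apply, eich_apply, zero_mul, zero_smul, zero_mul, zero_smul, add_zero, add_zero,
        hzu] at h5
      have hfu : B f u = -1 := by rw [h.swap, huf]
      rw [hfu] at h5
      refine ⟨B f ((z : V ≃ₗ[F] V) y) - B f y, ?_⟩
      linear_combination (norm := module) -h5
    obtain ⟨y, c, hy, hyf, hz⟩ := exists_eich_of_isQ h huf hzQ
    have hyspan : ∃ a b : F, y = a • u + b • w := by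
      apply span_of_Kg_fix d hind hw
      intro k hk
      have hkS := hKS hk
      have hku : (k : V ≃ₗ[F] V) u = u := (Subgroup.mem_inf.1 hk).2
      have h1 := hzc _ hkS
      have h3 : (k : V ≃ₗ[F] V) * (z : V ≃ₗ[F] V) = (z : V ≃ₗ[F] V) * (k : V ≃ₗ[F] V) :=
        congrArg (fun t : ↥(isom B) => (t : V ≃ₗ[F] V)) h1
      have h4 : (k : V ≃ₗ[F] V) * (z : V ≃ₗ[F] V) * (k : V ≃ₗ[F] V)⁻¹ = (z : V ≃ₗ[F] V) := by
        rw [h3]
        group
      rw [hz, conj_eich h k.2] at h4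
      have h5 := LinearEquiv.congr_fun h4 f
      rw [eich_apply, eich_apply, hku] at h5
      have hfu : B f u = -1 := by rw [h.swap, huf]
      rw [hfu] at h5
      refine ⟨B f ((k : V ≃ₗ[F] V) y) - B f y, ?_⟩
      linear_combination (norm := module) -h5
    obtain ⟨a, b, hab⟩ := hyspan
    refine ⟨hzQ, fun x => ?_⟩
    refine ⟨B x u * a + B x y + c * B x u, B x u * b, ?_⟩
    rw [hz, eich_apply]
    have e : B x u • y = (B x u * a) • u + (B x u * b) • w := by
      rw [hab, smul_add, smul_smul, smul_smul]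
    rw [e]
    module
  · intro hz
    have hzS : z ∈ (S : Subgroup ↥(isom B)) := hQS (Zg_le_Qg u w hw hz)
    refine ⟨hzS, fun s hs => ?_⟩
    obtain ⟨b, c, hzbc⟩ := (mem_Zg_iff d hu0 hw z).1 hz
    obtain ⟨a, ha⟩ := hfixw s hs
    apply Subtype.ext
    rw [Subgroup.coe_mul, Subgroup.coe_mul]
    have h1 : (s : V ≃ₗ[F] V) * (z : V ≃ₗ[F] V) * (s : V ≃ₗ[F] V)⁻¹ = (z : V ≃ₗ[F] V) := by
      rw [hzbc, conj_eich h s.2]
      have e1 : (s : V ≃ₗ[F] V) (b • w) = b • w + (b * a) • u := by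
        rw [map_smul, ha, smul_add, smul_smul]
      rw [← eich_add_smul_two h h2 u (b • w) c (b * a)]
      exact eich_congr h _ (hfix s hs) e1 rfl
    calc (s : V ≃ₗ[F] V) * (z : V ≃ₗ[F] V)
        = ((s : V ≃ₗ[F] V) * (z : V ≃ₗ[F] V) * (s : V ≃ₗ[F] V)⁻¹) * (s : V ≃ₗ[F] V) := by group
      _ = (z : V ≃ₗ[F] V) * (s : V ≃ₗ[F] V) := by rw [h1]

end groups

end Cfsg.Agent.Lib.Helper5.SpAut
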