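import Mathlib
import Cfsg.Agent.Lib.Helper5.SpTwo2

set_option autoImplicit false

/-! Every Sylow `2`-subgroup of a symplectic group in characteristic two has a flag group as its
centre; intersections of flag groups. -/

namespace Cfsg.Agent.Lib.Helper5.SpAut

open Module Cfsg.Agent.Lib.Helper2.IsomDecomp Cfsg.Agent.Lib.Helper5.FTPG

universe u v

theorem sylow_smul_eq_map {G : Type*} [Group G] {p : ℕ} (P : Sylow p G) (g : G) :
    ((g • P : Sylow p G) : Subgroup G) = (P : Subgroup G).map (MulAut.conj g).toMonoidHom := by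
  rw [Sylow.coe_subgroup_smul, Subgroup.pointwise_smul_def]
  rfl

section
variable {F : Type*} [Field F] {V : Type*} [AddCommGroup V] [Module F V] [FiniteDimensional F V]
  {B : V → V → F}

theorem exists_flag (h : AltF B) (hfr : 4 ≤ finrank F V) :
    ∃ u w : V, Indep2 (F := F) u w ∧ B w u = 0 := by
  obtain ⟨u, hu, -, -⟩ := exists_perp_not_mem h 0 0 ⊥ (by rw [finrank_bot]; omega)
  have hu0 : u ≠ 0 := by
    intro h0
    apply hu
    rw [h0]
    exact Submodule.zero_mem _
  have h1 : finrank F (Submodule.span F {u}) ≤ 1 := by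
    classical
    have := finrank_span_le_card (R := F) ({u} : Set V)
    rw [Set.toFinset_singleton, Finset.card_singleton] at this
    exact this
  obtain ⟨w, hw, hwu, -⟩ := exists_perp_not_mem h u u (Submodule.span F {u}) (by omega)
  refine ⟨u, w, ?_, hwu⟩
  rw [indep2_iff hu0]
  intro a ha
  apply hw
  rw [ha]
  exact Submodule.smul_mem _ _ (Submodule.subset_span rfl)

/-- a third independent vector perpendicular to a given flag -/
theorem exists_third (h : AltF B) (hfr : 5 ≤ finrank F V) {u w : V}
    (hind : Indep2 (F := F) u w) :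
    ∃ x : V, Indep3 (F := F) u w x ∧ B x u = 0 ∧ B x w = 0 := by
  obtain ⟨x, hx, hxu, hxw⟩ := exists_perp_not_mem h u w (Submodule.span F {u, w}) (by
    have := finrank_span_pair_le (F := F) u w
    omega)
  refine ⟨x, ?_, hxu, hxw⟩
  rw [indep3_iff hind]
  intro a b hab
  apply hx
  rw [hab]
  exact Submodule.add_mem _ (Submodule.smul_mem _ _ (Submodule.subset_span (by simp)))
    (Submodule.smul_mem _ _ (Submodule.subset_span (by simp)))

end

section groups
variable {F : Type v} [Field F] [Fintype F] {V : Type u} [AddCommGroup V]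
  [Module F V] [FiniteDimensional F V] {B : V → V → F}

/-- in characteristic two the centre of every Sylow `2`-subgroup is a flag group -/
theorem sylow_center_two (d : SData B) [CharP F 2] (hfr : 4 ≤ finrank F V)
    (S : Sylow 2 ↥(isom B)) :
    ∃ (u w : V) (hw : B w u = 0), Indep2 (F := F) u w ∧
      UAut.IsCen (S : Subgroup ↥(isom B)) (Zg B u w hw) := by
  haveI := finite_T B
  obtain ⟨u₀, w₀, hind, hw₀⟩ := exists_flag d.alt hfr
  obtain ⟨S₀, hS₀⟩ := exists_sylow_center_two d (by omega) hind hw₀
  obtain ⟨g, hg⟩ := MulAction.exists_smul_eq ↥(isom B) S₀ S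
  have h1 := hS₀.map_equiv (MulAut.conj g)
  rw [← sylow_smul_eq_map, hg, Zg_conj] at h1
  refine ⟨_, _, _, ?_, h1⟩
  intro a b hab
  apply hind a b
  have : (g : V ≃ₗ[F] V) (a • u₀ + b • w₀) = 0 := by
    rw [map_add, map_smul, map_smul]
    exact hab
  exact (LinearEquiv.map_eq_zero_iff _).1 this

end groups

end Cfsg.Agent.Lib.Helper5.SpAut
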