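import Mathlib
import Cfsg.Agent.Lib.Helper5.SpTwo3

set_option autoImplicit false

/-! Intersections of flag groups of a symplectic space in characteristic two. -/

namespace Cfsg.Agent.Lib.Helper5.SpAut

open Module Cfsg.Agent.Lib.Helper2.IsomDecomp Cfsg.Agent.Lib.Helper5.FTPG

universe u v

section
variable {F : Type*} [Field F] {V : Type*} [AddCommGroup V] [Module F V] {B : V → V → F}

/-- `x` lies on the line spanned by `u` and `w` -/
def OnL (u w x : V) : Prop := ∃ a b : F, x = a • u + b • w

theorem onL_left (u w : V) : OnL (F := F) u w u := ⟨1, 0, by rw [one_smul, zero_smul, add_zero]⟩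

theorem onL_right (u w : V) : OnL (F := F) u w w := ⟨0, 1, by rw [one_smul, zero_smul, zero_add]⟩

theorem OnL.trans {u w u' w' x : V} (hu : OnL (F := F) u' w' u) (hw : OnL (F := F) u' w' w)
    (hx : OnL (F := F) u w x) : OnL (F := F) u' w' x := by
  obtain ⟨a, b, rfl⟩ := hx
  obtain ⟨a₁, b₁, rfl⟩ := hu
  obtain ⟨a₂, b₂, rfl⟩ := hw
  exact ⟨a * a₁ + b * a₂, a * b₁ + b * b₂, by module⟩

/-- two independent vectors on a line span it -/
theorem onL_symm {u w u' w' : V} (hind : Indep2 (F := F) u w) (hu : OnL (F := F) u' w' u)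
    (hw : OnL (F := F) u' w' w) : OnL (F := F) u w u' ∧ OnL (F := F) u w w' := by
  obtain ⟨α, β, hu⟩ := hu
  obtain ⟨γ, δ, hw⟩ := hw
  have hΔ : α * δ - β * γ ≠ 0 := by
    intro h0
    have h1 : δ • u + (-β) • w = (α * δ - β * γ) • u' := by
      rw [hu, hw]
      module
    have h2 : (-γ) • u + α • w = (α * δ - β * γ) • w' := by
      rw [hu, hw]
      module
    rw [h0, zero_smul] at h1 h2
    have e1 := hind _ _ h1
    have e2 := hind _ _ h2
    have hα : α = 0 := e2.2
    have hβ : β = 0 := neg_eq_zero.1 e1.2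
    rw [hα, hβ, zero_smul, zero_smul, add_zero] at hu
    exact hind.left_ne hu
  constructor
  · refine ⟨δ / (α * δ - β * γ), -β / (α * δ - β * γ), ?_⟩
    have h1 : δ • u + (-β) • w = (α * δ - β * γ) • u' := by
      rw [hu, hw]
      module
    have : u' = (α * δ - β * γ)⁻¹ • (δ • u + (-β) • w) := by
      rw [h1, smul_smul, inv_mul_cancel₀ hΔ, one_smul]
    rw [this]
    rw [div_eq_mul_inv, div_eq_mul_inv]
    module
  · refine ⟨-γ / (α * δ - β * γ), α / (α * δ - β * γ), ?_⟩
    have h2 : (-γ) • u + α • w = (α * δ - β * γ) • w' := by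
      rw [hu, hw]
      module
    have : w' = (α * δ - β * γ)⁻¹ • ((-γ) • u + α • w) := by
      rw [h2, smul_smul, inv_mul_cancel₀ hΔ, one_smul]
    rw [this]
    rw [div_eq_mul_inv, div_eq_mul_inv]
    module

/-- prescribed values of the form against two independent vectors -/
theorem SData.exists_dual (d : SData B) {u w : V} (hind : Indep2 (F := F) u w) (α β : F) :
    ∃ x, B x u = α ∧ B x w = β := by
  have h := d.alt
  have key : ∀ {a b : V}, Indep2 (F := F) a b → ∃ x, B x a = 1 ∧ B x b = 0 := by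
    intro a b hab
    have h1 : ∃ x, B x b = 0 ∧ B x a ≠ 0 := by
      by_contra hcon
      push Not at hcon
      have := (d.mem_span_pair_iff b b a).2 (fun x hx _ => hcon x hx)
      obtain ⟨s, t, hst⟩ := this
      exact hab.symm.not_smul (s + t) (by rw [hst, add_smul])
    obtain ⟨x, hxb, hxa⟩ := h1
    refine ⟨(B x a)⁻¹ • x, ?_, ?_⟩
    · rw [h.smul_left, inv_mul_cancel₀ hxa]
    · rw [h.smul_left, hxb, mul_zero]
  obtain ⟨x₁, h11, h12⟩ := key hind
  obtain ⟨x₂, h21, h22⟩ := key hind.symm
  refine ⟨α • x₁ + β • x₂, ?_, ?_⟩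
  · rw [h.add_left, h.smul_left, h.smul_left, h11, h22]
    ring
  · rw [h.add_left, h.smul_left, h.smul_left, h12, h21]
    ring

/-- the image of `z - 1` for a non-transvection element of a flag group is the whole line -/
theorem onL_of_eich (d : SData B) {u w : V} (hind : Indep2 (F := F) u w) (hw : B w u = 0)
    {b c : F} (hb : b ≠ 0) {u' w' : V}
    (hz : ∀ x, ∃ a' b' : F, eich d.alt u (b • w) c (by rw [d.alt.smul_left, hw, mul_zero]) x
      = x + a' • u' + b' • w') :
    OnL (F := F) u' w' u ∧ OnL (F := F) u' w' w := by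
  have h := d.alt
  obtain ⟨x₁, h11, h12⟩ := d.exists_dual hind 0 b⁻¹
  obtain ⟨x₂, h21, h22⟩ := d.exists_dual hind b⁻¹ 0
  obtain ⟨a₁, b₁, e₁⟩ := hz x₁
  obtain ⟨a₂, b₂, e₂⟩ := hz x₂
  rw [eich_apply, h11, h.smul_right, h12, zero_smul, mul_zero, zero_smul, add_zero, add_zero,
    mul_inv_cancel₀ hb, one_smul, add_assoc, add_right_inj] at e₁
  rw [eich_apply, h21, h.smul_right, h22, mul_zero, zero_smul, add_zero, smul_smul,
    inv_mul_cancel₀ hb, one_smul, add_assoc, add_assoc, add_right_inj] at e₂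
  have hu : OnL (F := F) u' w' u := ⟨a₁, b₁, e₁⟩
  refine ⟨hu, ?_⟩
  obtain ⟨a₃, b₃, e₃⟩ := hu
  refine ⟨a₂ - c * b⁻¹ * a₃, b₂ - c * b⁻¹ * b₃, ?_⟩
  have : w = a₂ • u' + b₂ • w' - (c * b⁻¹) • u := by
    rw [← e₂]
    module
  rw [this]
  conv_lhs => rw [e₃]
  module

/-- a transvection in the unipotent radical at `u'` has centre `u'` -/
theorem smul_of_tv_isQ (d : SData B) {u u' : V} {c : F} (hc : c ≠ 0)
    (hQ : IsQ B u' (tv d.alt u c)) : ∃ a : F, u = a • u' := by
  have h := d.alt
  by_cases hex : ∃ x, B x u' = 0 ∧ B x u ≠ 0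
  · obtain ⟨x, hxu', hxu⟩ := hex
    obtain ⟨a, ha⟩ := hQ.apply_perp hxu'
    rw [tv_apply, add_right_inj] at ha
    refine ⟨(c * B x u)⁻¹ * a, ?_⟩
    rw [← smul_smul, ← ha, smul_smul, inv_mul_cancel₀ (mul_ne_zero hc hxu), one_smul]
  · push Not at hex
    obtain ⟨s, t, hst⟩ := (d.mem_span_pair_iff u' u' u).2 (fun x hx _ => hex x hx)
    exact ⟨s + t, by rw [hst, add_smul]⟩

theorem onL_perp (h : AltF B) {u w x y : V} (hw : B w u = 0) (hx : OnL (F := F) u w x)
    (hy : OnL (F := F) u w y) : B x y = 0 := by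
  obtain ⟨a, b, rfl⟩ := hx
  obtain ⟨a', b', rfl⟩ := hy
  have huw : B u w = 0 := by rw [h.swap, hw, neg_zero]
  simp only [h.add_left, h.add_right, h.smul_left, h.smul_right, h.self, hw, huw]
  ring

/-- in characteristic two the short root elements of a line lie in all its flag groups -/
theorem isZ_eich_of_onL (d : SData B) (h2 : (2 : F) = 0) {u w : V}
    (hind : Indep2 (F := F) u w) (hw : B w u = 0) (b : F) {u'' w'' : V}
    (hind'' : Indep2 (F := F) u'' w'') (hu'' : OnL (F := F) u w u'')
    (hw'' : OnL (F := F) u w w'') :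
    IsZ B u'' w'' (eich d.alt u (b • w) 0 (by rw [d.alt.smul_left, hw, mul_zero])) := by
  have h := d.alt
  have huw : B u w = 0 := by rw [h.swap, hw, neg_zero]
  obtain ⟨hu, hw'⟩ := onL_symm hind'' hu'' hw''
  have hneg : ∀ a : F, -a = a := by
    intro a
    have : a + a = 0 := by rw [← two_mul, h2, zero_mul]
    exact neg_eq_of_add_eq_zero_left this
  have hline : ∀ x, ∃ a' b' : F,
      eich h u (b • w) 0 (by rw [h.smul_left, hw, mul_zero]) x = x + a' • u'' + b' • w'' := by
    intro x
    have h1 : OnL (F := F) u w ((b * B x w) • u + (b * B x u) • w) := ⟨_, _, rfl⟩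
    obtain ⟨a', b', hab⟩ := OnL.trans hu hw' h1
    refine ⟨a', b', ?_⟩
    rw [eich_apply, h.smul_right, zero_mul, zero_smul, add_zero, add_assoc, add_assoc,
      add_right_inj, ← hab]
    module
  refine ⟨⟨eich_mem_isom h u _ 0 _, ?_, fun x hx => ?_⟩, hline⟩
  · have h1 : B u'' u = 0 := onL_perp h hw hu'' (onL_left u w)
    have h2' : B u'' w = 0 := onL_perp h hw hu'' (onL_right u w)
    rw [eich_apply, h1, h.smul_right, h2', zero_smul, mul_zero, zero_smul, mul_zero, zero_smul,
      add_zero, add_zero, add_zero]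
  · obtain ⟨α, β, hαβ⟩ := hu''
    have hx' : α * B x u + β * B x w = 0 := by
      rw [hαβ, h.add_right, h.smul_right, h.smul_right] at hx
      exact hx
    rw [eich_apply, h.smul_right, zero_mul, zero_smul, add_zero, add_assoc, hαβ]
    by_cases hα : α = 0
    · have hβ : β ≠ 0 := by
        intro hβ
        rw [hα, hβ, zero_smul, zero_smul, add_zero] at hαβ
        exact hind''.left_ne hαβ
      rw [hα, zero_mul, zero_add] at hx'
      have ht : B x w = 0 := by
        rcases mul_eq_zero.1 hx' with h0 | h0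
        · exact absurd h0 hβ
        · exact h0
      refine ⟨b * B x u / β, ?_⟩
      rw [hα, ht, zero_smul, zero_add, mul_zero, zero_smul, add_zero, smul_smul, smul_smul,
        div_mul_cancel₀ _ hβ, mul_comm]
    · refine ⟨b * B x w / α, ?_⟩
      rw [add_right_inj, smul_add, smul_smul, smul_smul, div_mul_cancel₀ _ hα]
      have e : b * B x w / α * β = b * B x u := by
        have : β * B x w = α * B x u := by
          have := hneg (α * B x u)
          linear_combination hx' + this
        field_simp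
        linear_combination b * this
      rw [smul_smul, e, mul_comm (B x u) b, add_comm]

/-- in characteristic two a non-transvection element of two flag groups with different points
on a line is a short root element -/
theorem eich_c_zero (d : SData B) (h2 : (2 : F) = 0) {u w : V}
    (hind : Indep2 (F := F) u w) (hw : B w u = 0) {b c : F} (hb : b ≠ 0) {u' : V}
    (hu' : OnL (F := F) u w u') (hnot : ∀ a : F, u' ≠ a • u)
    (hQ : IsQ B u' (eich d.alt u (b • w) c (by rw [d.alt.smul_left, hw, mul_zero]))) : c = 0 := by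
  have h := d.alt
  obtain ⟨α, β, hαβ⟩ := hu'
  have hβ : β ≠ 0 := by
    intro hβ
    rw [hβ, zero_smul, add_zero] at hαβ
    exact hnot α hαβ
  obtain ⟨x, hxu, hxw⟩ := d.exists_dual hind β (-α)
  have hxu' : B x u' = 0 := by
    rw [hαβ, h.add_right, h.smul_right, h.smul_right, hxu, hxw]
    ring
  obtain ⟨l, hl⟩ := hQ.apply_perp hxu'
  rw [eich_apply, hxu, h.smul_right, hxw, add_assoc, add_assoc, add_right_inj, hαβ] at hl
  have h3 : (b * -α + c * β) • u + (β * b) • w = (l * α) • u + (l * β) • w := by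
    linear_combination (norm := module) hl
  obtain ⟨e1, e2⟩ := hind.eq h3
  have hl' : l = b := by
    have : β * b = β * l := by rw [e2, mul_comm]
    exact (mul_left_cancel₀ hβ this).symm
  rw [hl'] at e1
  have h4 : c * β = 2 * (b * α) := by linear_combination e1
  rw [h2, zero_mul] at h4
  rcases mul_eq_zero.1 h4 with h5 | h5
  · exact h5
  · exact absurd h5 hβ

end

end Cfsg.Agent.Lib.Helper5.SpAut
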