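import Mathlib
import Cfsg.Agent.Lib.Helper5.SpTwo4

set_option autoImplicit false

/-! Short root groups and the intersections of flag groups in characteristic two. -/

namespace Cfsg.Agent.Lib.Helper5.SpAut

open Module Cfsg.Agent.Lib.Helper2.IsomDecomp Cfsg.Agent.Lib.Helper5.FTPG

universe u v

section groups
variable {F : Type v} [Field F] [Fintype F] {V : Type u} [AddCommGroup V]
  [Module F V] [FiniteDimensional F V] {B : V → V → F}

theorem eich_smul_mul (h : AltF B) (u w : V) (hw : B w u = 0) (b b' c c' : F) :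
    eich h u (b • w) c (by rw [h.smul_left, hw, mul_zero])
      * eich h u (b' • w) c' (by rw [h.smul_left, hw, mul_zero])
      = eich h u ((b + b') • w) (c + c') (by rw [h.smul_left, hw, mul_zero]) := by
  rw [eich_mul]
  apply eich_congr h _ rfl (by rw [add_smul])
  rw [h.smul_left, h.smul_right, h.self, mul_zero, mul_zero, add_zero]

theorem eich_zero_smul (h : AltF B) (u w : V) (hw : B w u = 0) (c : F) :
    eich h u ((0 : F) • w) c (by rw [h.smul_left, hw, mul_zero]) = tv h u c := by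
  rw [← eich_zero h u c]
  exact eich_congr h _ rfl (zero_smul F w) rfl

/-- the short root group of a line -/
def Yg (h : AltF B) (u w : V) (hw : B w u = 0) : Subgroup ↥(isom B) where
  carrier := {g | ∃ b : F, g.1 = eich h u (b • w) 0 (by rw [h.smul_left, hw, mul_zero])}
  mul_mem' := by
    rintro x y ⟨b, hx⟩ ⟨b', hy⟩
    refine ⟨b + b', ?_⟩
    rw [Subgroup.coe_mul, hx, hy, eich_smul_mul h u w hw]
    exact eich_congr h _ rfl rfl (add_zero 0)
  one_mem' := ⟨0, by rw [eich_zero_smul h u w hw, tv_zero]; rfl⟩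
  inv_mem' := by
    rintro x ⟨b, hx⟩
    refine ⟨-b, ?_⟩
    rw [Subgroup.coe_inv, hx]
    apply inv_eq_of_mul_eq_one_right
    rw [eich_smul_mul h u w hw]
    have e : eich h u ((b + -b) • w) (0 + 0) (by rw [h.smul_left, hw, mul_zero])
        = eich h u ((0 : F) • w) 0 (by rw [h.smul_left, hw, mul_zero]) :=
      eich_congr h _ rfl (by rw [add_neg_cancel]) (add_zero 0)
    rw [e, eich_zero_smul h u w hw, tv_zero]

theorem mem_Yg (h : AltF B) (u w : V) (hw : B w u = 0) (g : ↥(isom B)) :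
    g ∈ Yg h u w hw ↔ ∃ b : F, g.1 = eich h u (b • w) 0 (by rw [h.smul_left, hw, mul_zero]) :=
  Iff.rfl

/-- the short root group lies in all flag groups of its line (characteristic two) -/
theorem Yg_le_Zg_of_onL (d : SData B) (h2 : (2 : F) = 0) {u w : V}
    (hind : Indep2 (F := F) u w) (hw : B w u = 0) {u'' w'' : V}
    (hind'' : Indep2 (F := F) u'' w'') (hw'' : B w'' u'' = 0) (hu''L : OnL (F := F) u w u'')
    (hw''L : OnL (F := F) u w w'') : Yg d.alt u w hw ≤ Zg B u'' w'' hw'' := by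
  rintro z ⟨b, hz⟩
  rw [mem_Zg, hz]
  exact isZ_eich_of_onL d h2 hind hw b hind'' hu''L hw''L

theorem Yg_le_Zg (d : SData B) (h2 : (2 : F) = 0) {u w : V}
    (hind : Indep2 (F := F) u w) (hw : B w u = 0) : Yg d.alt u w hw ≤ Zg B u w hw :=
  Yg_le_Zg_of_onL d h2 hind hw hind hw (onL_left u w) (onL_right u w)

/-- elements common to two flag groups with different points are short root elements -/
theorem mem_Yg_of_mem_inter (d : SData B) (h2 : (2 : F) = 0) {u w : V}
    (hind : Indep2 (F := F) u w) (hw : B w u = 0) {u' w' : V} (hu'0 : u' ≠ 0)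
    (hw' : B w' u' = 0) (hnot : ∀ a : F, u' ≠ a • u) {z : ↥(isom B)} (hz : z ∈ Zg B u w hw)
    (hz' : z ∈ Zg B u' w' hw') : z ∈ Yg d.alt u w hw := by
  have h := d.alt
  have hu0 := hind.left_ne
  obtain ⟨b, c, hzbc⟩ := (mem_Zg_iff d hu0 hw z).1 hz
  by_cases hb : b = 0
  · subst hb
    rw [eich_zero_smul h u w hw] at hzbc
    by_cases hc : c = 0
    · subst hc
      rw [tv_zero] at hzbc
      have : z = 1 := Subtype.ext hzbc
      rw [this]
      exact Subgroup.one_mem _
    · exfalso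
      have hQ : IsQ B u' (tv h u c) := by
        rw [← hzbc]
        exact hz'.1
      obtain ⟨a, ha⟩ := smul_of_tv_isQ d hc hQ
      have ha0 : a ≠ 0 := by
        rintro rfl
        rw [zero_smul] at ha
        exact hu0 ha
      apply hnot a⁻¹
      rw [ha, smul_smul, inv_mul_cancel₀ ha0, one_smul]
  · have hline : ∀ x, ∃ a' b' : F,
        eich h u (b • w) c (by rw [h.smul_left, hw, mul_zero]) x = x + a' • u' + b' • w' := by
      rw [← hzbc]
      exact hz'.2
    obtain ⟨hu, hw1⟩ := onL_of_eich d hind hw hb hline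
    obtain ⟨hu'L, -⟩ := onL_symm hind hu hw1
    have hQ : IsQ B u' (eich h u (b • w) c (by rw [h.smul_left, hw, mul_zero])) := by
      rw [← hzbc]
      exact hz'.1
    have hc := eich_c_zero d h2 hind hw hb hu'L hnot hQ
    subst hc
    exact ⟨b, hzbc⟩

/-- the short root group depends only on the line (characteristic two) -/
theorem Yg_le_of_onL (d : SData B) (h2 : (2 : F) = 0) {u w : V}
    (hind : Indep2 (F := F) u w) (hw : B w u = 0) {u' w' : V}
    (hind' : Indep2 (F := F) u' w') (hw' : B w' u' = 0) (hu'L : OnL (F := F) u w u')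
    (hw'L : OnL (F := F) u w w') : Yg d.alt u w hw ≤ Yg d.alt u' w' hw' := by
  intro z hz
  have hu'w' : B u' w' = 0 := by rw [d.alt.swap, hw', neg_zero]
  have h1 := Yg_le_Zg_of_onL d h2 hind hw hind' hw' hu'L hw'L hz
  have h3 := Yg_le_Zg_of_onL d h2 hind hw hind'.symm hu'w' hw'L hu'L hz
  exact mem_Yg_of_mem_inter d h2 hind' hw' hind'.right_ne hu'w' (hind'.not_smul) h1 h3

theorem Yg_eq_of_onL (d : SData B) (h2 : (2 : F) = 0) {u w : V}
    (hind : Indep2 (F := F) u w) (hw : B w u = 0) {u' w' : V}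
    (hind' : Indep2 (F := F) u' w') (hw' : B w' u' = 0) (hu'L : OnL (F := F) u w u')
    (hw'L : OnL (F := F) u w w') : Yg d.alt u w hw = Yg d.alt u' w' hw' := by
  apply le_antisymm
  · exact Yg_le_of_onL d h2 hind hw hind' hw' hu'L hw'L
  · obtain ⟨hu, hw1⟩ := onL_symm hind' hu'L hw'L
    exact Yg_le_of_onL d h2 hind' hw' hind hw hu hw1

/-- a flag group containing a short root group has the same line -/
theorem onL_of_Yg_le (d : SData B) {u w : V} (hind : Indep2 (F := F) u w) (hw : B w u = 0)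
    {u' w' : V} (hw' : B w' u' = 0) (hle : Yg d.alt u w hw ≤ Zg B u' w' hw') :
    OnL (F := F) u' w' u ∧ OnL (F := F) u' w' w := by
  have h := d.alt
  have hz : (⟨_, eich_mem_isom h u ((1 : F) • w) 0 (by rw [h.smul_left, hw, mul_zero])⟩ :
      ↥(isom B)) ∈ Yg h u w hw := ⟨1, rfl⟩
  have h1 := hle hz
  exact onL_of_eich d hind hw one_ne_zero h1.2

theorem one_smul_eich_ne_one (d : SData B) {u w : V} (hind : Indep2 (F := F) u w)
    (hw : B w u = 0) :
    eich d.alt u ((1 : F) • w) 0 (by rw [d.alt.smul_left, hw, mul_zero]) ≠ 1 := by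
  have h := d.alt
  intro h1
  obtain ⟨x, hxu, hxw⟩ := d.exists_dual hind 1 0
  have h3 := LinearEquiv.congr_fun h1 x
  rw [eich_apply, hxu, h.smul_right, hxw, mul_zero, zero_smul, mul_one, zero_smul, add_zero,
    add_zero, one_smul, one_smul] at h3
  have h4 : w = 0 := by
    have : x + w = x := h3
    exact add_eq_left.1 this
  exact hind.right_ne h4

/-- the intersection of two different flag groups (characteristic two) -/
theorem inter_cases (d : SData B) (h2 : (2 : F) = 0) {u w : V}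
    (hind : Indep2 (F := F) u w) (hw : B w u = 0) {u' w' : V}
    (hind' : Indep2 (F := F) u' w') (hw' : B w' u' = 0)
    (hne : Zg B u w hw ≠ Zg B u' w' hw') (hnb : Zg B u w hw ⊓ Zg B u' w' hw' ≠ ⊥) :
    ((∃ a : F, u' = a • u) ∧ Zg B u w hw ⊓ Zg B u' w' hw' = Xg d.alt u) ∨
    ((∀ a : F, u' ≠ a • u) ∧ OnL (F := F) u w u' ∧ OnL (F := F) u w w' ∧
      Zg B u w hw ⊓ Zg B u' w' hw' = Yg d.alt u w hw) := by
  have h := d.alt
  have hu0 := hind.left_ne
  have hu'0 := hind'.left_ne
  by_cases hu' : ∃ a : F, u' = a • u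
  · left
    refine ⟨hu', ?_⟩
    obtain ⟨a, rfl⟩ := hu'
    have ha0 : a ≠ 0 := by
      rintro rfl
      rw [zero_smul] at hu'0
      exact hu'0 rfl
    -- the lines are different
    have hnotL : ¬ OnL (F := F) u w w' := by
      rintro ⟨s, t, rfl⟩
      have ht : t ≠ 0 := by
        rintro rfl
        rw [zero_smul, add_zero] at hind'
        exact hind'.not_smul (s * a⁻¹) (by rw [smul_smul, inv_mul_cancel_right₀ ha0])
      exact hne (Zg_change h hw ha0 ht).symm
    have hind3 : Indep3 (F := F) u w w' := by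
      rw [indep3_iff hind]
      intro s t hst
      exact hnotL ⟨s, t, hst⟩
    apply le_antisymm
    · rintro z ⟨hz, hz'⟩
      obtain ⟨b, c, hzbc⟩ := (mem_Zg_iff d hu0 hw z).1 hz
      obtain ⟨f, huf⟩ := d.exists_partner hu0
      obtain ⟨a', b', hab⟩ := hz'.2 f
      have hfu : B f u = -1 := by rw [h.swap, huf]
      rw [hzbc, eich_apply, hfu, h.smul_right] at hab
      have h3 : (b * B f w - c - a' * a) • u + (-b) • w + (-b') • w'
          = (0 : F) • u + (0 : F) • w + (0 : F) • w' := by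
        linear_combination (norm := module) hab
      obtain ⟨-, hb, -⟩ := hind3.eq h3
      have hb0 : b = 0 := neg_eq_zero.1 hb
      subst hb0
      rw [eich_zero_smul h u w hw] at hzbc
      exact ⟨c, hzbc⟩
    · apply le_inf
      · exact Xg_le_Zg h u w hw
      · rw [← Xg_smul h u a ha0]
        exact Xg_le_Zg h (a • u) w' hw'
  · right
    push Not at hu'
    have hle : Zg B u w hw ⊓ Zg B u' w' hw' ≤ Yg h u w hw := by
      rintro z ⟨hz, hz'⟩
      exact mem_Yg_of_mem_inter d h2 hind hw hu'0 hw' hu' hz hz'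
    obtain ⟨z, hzmem, hz1⟩ := (Subgroup.ne_bot_iff_exists_ne_one).1 hnb |>.imp
      (fun z hz => hz) |> fun ⟨z, hz⟩ => (⟨z.1, z.2, fun h0 => hz (Subtype.ext h0)⟩ :
        ∃ z : ↥(isom B), z ∈ Zg B u w hw ⊓ Zg B u' w' hw' ∧ z ≠ 1)
    obtain ⟨b, hzb⟩ := hle hzmem
    have hb0 : b ≠ 0 := by
      rintro rfl
      rw [eich_zero_smul h u w hw, tv_zero] at hzb
      exact hz1 (Subtype.ext hzb)
    have hline : ∀ x, ∃ a' b' : F,
        eich h u (b • w) 0 (by rw [h.smul_left, hw, mul_zero]) x = x + a' • u' + b' • w' := by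
      rw [← hzb]
      exact hzmem.2.2
    obtain ⟨hu, hw1⟩ := onL_of_eich d hind hw hb0 hline
    obtain ⟨hu'L, hw'L⟩ := onL_symm hind hu hw1
    refine ⟨hu', hu'L, hw'L, le_antisymm hle (le_inf ?_ ?_)⟩
    · exact Yg_le_Zg d h2 hind hw
    · exact Yg_le_Zg_of_onL d h2 hind hw hind' hw' hu'L hw'L

/-- the product of two commuting transvection groups -/
def XXg (h : AltF B) (u₁ u₂ : V) (hperp : B u₁ u₂ = 0) : Subgroup ↥(isom B) where
  carrier := {g | ∃ a b : F, g.1 = tv h u₁ a * tv h u₂ b}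
  mul_mem' := by
    rintro x y ⟨a, b, hx⟩ ⟨a', b', hy⟩
    refine ⟨a + a', b + b', ?_⟩
    rw [Subgroup.coe_mul, hx, hy, ← tv_mul_tv, ← tv_mul_tv]
    calc tv h u₁ a * tv h u₂ b * (tv h u₁ a' * tv h u₂ b')
        = tv h u₁ a * (tv h u₂ b * tv h u₁ a') * tv h u₂ b' := by group
      _ = tv h u₁ a * (tv h u₁ a' * tv h u₂ b) * tv h u₂ b' := by
          rw [tv_comm_of_perp h hperp a' b]
      _ = tv h u₁ a * tv h u₁ a' * (tv h u₂ b * tv h u₂ b') := by group
  one_mem' := ⟨0, 0, by rw [tv_zero, tv_zero, mul_one]; rfl⟩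
  inv_mem' := by
    rintro x ⟨a, b, hx⟩
    refine ⟨-a, -b, ?_⟩
    rw [Subgroup.coe_inv, hx, _root_.mul_inv_rev, tv_inv, tv_inv,
      tv_comm_of_perp h hperp (-a) (-b)]

theorem not_Xg_le_sup (d : SData B) {u₁ u₂ : V} (hind : Indep2 (F := F) u₁ u₂)
    (hperp : B u₁ u₂ = 0) {α β : F} (hα : α ≠ 0) (hβ : β ≠ 0) :
    ¬ Xg d.alt (α • u₁ + β • u₂) ≤ Xg d.alt u₁ ⊔ Xg d.alt u₂ := by
  have h := d.alt
  intro hle
  have hsup : Xg h u₁ ⊔ Xg h u₂ ≤ XXg h u₁ u₂ hperp := by
    apply sup_le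
    · rintro g ⟨c, hg⟩
      exact ⟨c, 0, by rw [hg, tv_zero, mul_one]⟩
    · rintro g ⟨c, hg⟩
      exact ⟨0, c, by rw [hg, tv_zero, one_mul]⟩
  obtain ⟨a, b, hab⟩ := hsup (hle (tvT_mem h (α • u₁ + β • u₂) 1))
  have hab' : tv h (α • u₁ + β • u₂) 1 = tv h u₁ a * tv h u₂ b := hab
  obtain ⟨x, hx1, hx2⟩ := d.exists_dual hind 1 0
  have h3 := LinearEquiv.congr_fun hab' x
  have e1 : tv h u₂ b x = x := by rw [tv_apply, hx2, mul_zero, zero_smul, add_zero]
  rw [LinearEquiv.mul_apply, e1, tv_apply, tv_apply,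
    hx1, h.add_right, h.smul_right, h.smul_right, hx1, hx2, add_right_inj] at h3
  have h4 : (1 * (α * 1 + β * 0) * α) • u₁ + (1 * (α * 1 + β * 0) * β) • u₂
      = (a * 1) • u₁ + (0 : F) • u₂ := by
    linear_combination (norm := module) h3
  obtain ⟨-, h5⟩ := hind.eq h4
  have h6 : α * β = 0 := by linear_combination h5
  rcases mul_eq_zero.1 h6 with h7 | h7
  · exact hα h7
  · exact hβ h7

end groups

end Cfsg.Agent.Lib.Helper5.SpAut
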