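import Mathlib
import Cfsg.Agent.Lib.Helper5.SpTwo5

set_option autoImplicit false

/-! A group-theoretic characterization of the long root groups of a symplectic group in
characteristic two (dimension at least six). -/

namespace Cfsg.Agent.Lib.Helper5.SpAut

open Module Cfsg.Agent.Lib.Helper2.IsomDecomp Cfsg.Agent.Lib.Helper5.FTPG

universe u v

section abstract
variable {G : Type*} [Group G] {G' : Type*} [Group G']

/-- the centre of some Sylow `p`-subgroup -/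
def IsSylCen (p : ℕ) (Z : Subgroup G) : Prop :=
  ∃ S : Sylow p G, UAut.IsCen (S : Subgroup G) Z

theorem IsSylCen.map_equiv [Finite G] {p : ℕ} [Fact p.Prime] {Z : Subgroup G}
    (h : IsSylCen p Z) (α : G ≃* G') : IsSylCen p (Z.map α.toMonoidHom) := by
  obtain ⟨S, hS⟩ := h
  have hsurj : Function.Surjective α.toMonoidHom := α.surjective
  exact ⟨S.mapSurjective hsurj, hS.map_equiv α⟩

/-- the configuration of Sylow centres characterizing long root groups -/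
structure LongData (p : ℕ) (R Z₁ Z₂ Z₃ Z₁' Z₂' Z₃' : Subgroup G) : Prop where
  c1 : IsSylCen p Z₁
  c2 : IsSylCen p Z₂
  c3 : IsSylCen p Z₃
  c1' : IsSylCen p Z₁'
  c2' : IsSylCen p Z₂'
  c3' : IsSylCen p Z₃'
  ne12 : Z₁ ≠ Z₂
  ne13 : Z₁ ≠ Z₃
  ne23 : Z₂ ≠ Z₃
  eq : R = Z₁ ⊓ Z₂
  nb : R ≠ ⊥
  le3 : R ≤ Z₃
  ne1 : Z₁ ≠ Z₁'
  ne2 : Z₂ ≠ Z₂'
  ne3 : Z₃ ≠ Z₃'
  nb1 : Z₁ ⊓ Z₁' ≠ ⊥
  nb2 : Z₂ ⊓ Z₂' ≠ ⊥
  nb3 : Z₃ ⊓ Z₃' ≠ ⊥
  nr1 : Z₁ ⊓ Z₁' ≠ R
  nr2 : Z₂ ⊓ Z₂' ≠ R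
  nr3 : Z₃ ⊓ Z₃' ≠ R
  prod : Z₃ ⊓ Z₃' ≤ (Z₁ ⊓ Z₁') ⊔ (Z₂ ⊓ Z₂')

/-- `R` is a long root group, in terms of the Sylow `p`-centres -/
def IsLongRoot (p : ℕ) (R : Subgroup G) : Prop :=
  ∃ Z₁ Z₂ Z₃ Z₁' Z₂' Z₃' : Subgroup G, LongData p R Z₁ Z₂ Z₃ Z₁' Z₂' Z₃'

theorem IsLongRoot.map_equiv [Finite G] {p : ℕ} [Fact p.Prime] {R : Subgroup G}
    (h : IsLongRoot p R) (α : G ≃* G') : IsLongRoot p (R.map α.toMonoidHom) := by
  obtain ⟨Z₁, Z₂, Z₃, Z₁', Z₂', Z₃', D⟩ := h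
  have hinj : Function.Injective α.toMonoidHom := α.injective
  have hmi : Function.Injective (Subgroup.map α.toMonoidHom) := Subgroup.map_injective hinj
  have hinf : ∀ A C : Subgroup G, (A ⊓ C).map α.toMonoidHom
      = A.map α.toMonoidHom ⊓ C.map α.toMonoidHom := fun A C => Subgroup.map_inf A C _ hinj
  have hbot : ∀ A : Subgroup G, A ≠ ⊥ → A.map α.toMonoidHom ≠ ⊥ := by
    intro A hA h0
    apply hA
    exact (Subgroup.map_eq_bot_iff_of_injective A hinj).1 h0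
  refine ⟨Z₁.map α.toMonoidHom, Z₂.map α.toMonoidHom, Z₃.map α.toMonoidHom,
    Z₁'.map α.toMonoidHom, Z₂'.map α.toMonoidHom, Z₃'.map α.toMonoidHom, ?_⟩
  exact
    { c1 := D.c1.map_equiv α
      c2 := D.c2.map_equiv α
      c3 := D.c3.map_equiv α
      c1' := D.c1'.map_equiv α
      c2' := D.c2'.map_equiv α
      c3' := D.c3'.map_equiv α
      ne12 := fun h0 => D.ne12 (hmi h0)
      ne13 := fun h0 => D.ne13 (hmi h0)
      ne23 := fun h0 => D.ne23 (hmi h0)
      eq := by rw [D.eq, hinf]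
      nb := hbot R D.nb
      le3 := Subgroup.map_mono D.le3
      ne1 := fun h0 => D.ne1 (hmi h0)
      ne2 := fun h0 => D.ne2 (hmi h0)
      ne3 := fun h0 => D.ne3 (hmi h0)
      nb1 := by rw [← hinf]; exact hbot _ D.nb1
      nb2 := by rw [← hinf]; exact hbot _ D.nb2
      nb3 := by rw [← hinf]; exact hbot _ D.nb3
      nr1 := by rw [← hinf]; exact fun h0 => D.nr1 (hmi h0)
      nr2 := by rw [← hinf]; exact fun h0 => D.nr2 (hmi h0)
      nr3 := by rw [← hinf]; exact fun h0 => D.nr3 (hmi h0)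
      prod := by
        rw [← hinf, ← hinf, ← hinf, ← Subgroup.map_sup]
        exact Subgroup.map_mono D.prod }

end abstract

section groups
variable {F : Type v} [Field F] [Fintype F] {V : Type u} [AddCommGroup V]
  [Module F V] [FiniteDimensional F V] {B : V → V → F}

/-- flags with the same point and the same line have the same group -/
theorem Zg_eq_of_same_flag (h : AltF B) {u w : V} (hw : B w u = 0) {u' w' : V}
    (hind' : Indep2 (F := F) u' w') (hw' : B w' u' = 0) {a : F} (hu' : u' = a • u)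
    (hw'L : OnL (F := F) u w w') : Zg B u' w' hw' = Zg B u w hw := by
  subst hu'
  obtain ⟨s, t, rfl⟩ := hw'L
  have ha0 : a ≠ 0 := by
    rintro rfl
    rw [zero_smul] at hind'
    exact hind'.left_ne rfl
  have ht : t ≠ 0 := by
    rintro rfl
    rw [zero_smul, add_zero] at hind'
    exact hind'.not_smul (s * a⁻¹) (by rw [smul_smul, inv_mul_cancel_right₀ ha0])
  exact Zg_change h hw ha0 ht

theorem exists_flag_of_isSylCen (d : SData B) [CharP F 2] (hfr : 4 ≤ finrank F V)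
    {Z : Subgroup ↥(isom B)} (hZ : IsSylCen 2 Z) :
    ∃ (u w : V) (hw : B w u = 0), Indep2 (F := F) u w ∧ Z = Zg B u w hw := by
  obtain ⟨S, hS⟩ := hZ
  obtain ⟨u, w, hw, hind, hcen⟩ := sylow_center_two d hfr S
  exact ⟨u, w, hw, hind, hS.unique hcen⟩

theorem isSylCen_Zg (d : SData B) [CharP F 2] (hfr : 3 ≤ finrank F V) {u w : V}
    (hind : Indep2 (F := F) u w) (hw : B w u = 0) : IsSylCen 2 (Zg B u w hw) :=
  exists_sylow_center_two d hfr hind hw

/-- flag groups of different lines are different (characteristic two) -/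
theorem Zg_ne_of_not_onL (d : SData B) (h2 : (2 : F) = 0) {u w : V}
    (hind : Indep2 (F := F) u w) (hw : B w u = 0) {u' w' : V} (hw' : B w' u' = 0)
    (hnot : ¬ (OnL (F := F) u' w' u ∧ OnL (F := F) u' w' w)) :
    Zg B u w hw ≠ Zg B u' w' hw' := by
  intro he
  apply hnot
  apply onL_of_Yg_le d hind hw hw'
  rw [← he]
  exact Yg_le_Zg d h2 hind hw

/-- a transvection group is not contained in a flag group with another point -/
theorem Xg_not_le_Zg (d : SData B) {u w : V} (hind : Indep2 (F := F) u w) (hw' : B u w = 0) :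
    ¬ Xg d.alt u ≤ Zg B w u hw' := by
  intro hle
  have h1 := hle (tvT_mem d.alt u 1)
  obtain ⟨a, ha⟩ := smul_of_tv_isQ d one_ne_zero h1.1
  have ha0 : a ≠ 0 := by
    rintro rfl
    rw [zero_smul] at ha
    exact hind.left_ne ha
  exact hind.not_smul a⁻¹ (by rw [ha, smul_smul, inv_mul_cancel₀ ha0, one_smul])

theorem Xg_ne_bot (d : SData B) {u : V} (hu0 : u ≠ 0) : Xg d.alt u ≠ ⊥ := by
  intro h0
  have h1 : tvT d.alt u 1 ∈ Xg d.alt u := tvT_mem d.alt u 1
  rw [h0, Subgroup.mem_bot] at h1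
  exact tv_ne_one d hu0 one_ne_zero (congrArg Subtype.val h1)

end groups

end Cfsg.Agent.Lib.Helper5.SpAut
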