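import Mathlib
import Cfsg.Agent.Lib.Helper5.SpTwo6

set_option autoImplicit false

/-! Transvection groups are long root groups (characteristic two, dimension at least six). -/

namespace Cfsg.Agent.Lib.Helper5.SpAut

open Module Cfsg.Agent.Lib.Helper2.IsomDecomp Cfsg.Agent.Lib.Helper5.FTPG

universe u v

section groups
variable {F : Type v} [Field F] [Fintype F] {V : Type u} [AddCommGroup V]
  [Module F V] [FiniteDimensional F V] {B : V → V → F}

/-- the flag groups `Zg u w` and `Zg w u` meet in the short root group -/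
theorem inter_swap (d : SData B) (h2 : (2 : F) = 0) {u w : V}
    (hind : Indep2 (F := F) u w) (hw : B w u = 0) (hw' : B u w = 0) :
    Zg B u w hw ≠ Zg B w u hw' ∧ Zg B u w hw ⊓ Zg B w u hw' = Yg d.alt u w hw := by
  have hne : Zg B u w hw ≠ Zg B w u hw' := by
    intro he
    apply Xg_not_le_Zg d hind hw'
    rw [← he]
    exact Xg_le_Zg d.alt u w hw
  refine ⟨hne, ?_⟩
  have hY : Yg d.alt u w hw ≤ Zg B u w hw ⊓ Zg B w u hw' := by
    apply le_inf
    · exact Yg_le_Zg d h2 hind hw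
    · exact Yg_le_Zg_of_onL d h2 hind hw hind.symm hw' (onL_right u w) (onL_left u w)
  have hnb : Zg B u w hw ⊓ Zg B w u hw' ≠ ⊥ := by
    intro h0
    have hz : (⟨_, eich_mem_isom d.alt u ((1 : F) • w) 0
        (by rw [d.alt.smul_left, hw, mul_zero])⟩ : ↥(isom B)) ∈ Yg d.alt u w hw := ⟨1, rfl⟩
    have h1 := hY hz
    rw [h0, Subgroup.mem_bot] at h1
    exact one_smul_eich_ne_one d hind hw (congrArg Subtype.val h1)
  rcases inter_cases d h2 hind hw hind.symm hw' hne hnb with ⟨⟨a, ha⟩, -⟩ | ⟨-, -, -, he⟩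
  · exact absurd ha (hind.not_smul a)
  · exact he

theorem isLongRoot_Xg (d : SData B) [CharP F 2] (hfr : 6 ≤ finrank F V) {u : V} (hu0 : u ≠ 0) :
    IsLongRoot 2 (Xg d.alt u) := by
  have h := d.alt
  have h2 : (2 : F) = 0 := by
    have := CharP.cast_eq_zero F 2
    exact_mod_cast this
  -- choose the three lines
  obtain ⟨w₁, hw₁S, hw₁, -⟩ := exists_perp_not_mem h u u (Submodule.span F {u}) (by
    have h1 : finrank F (Submodule.span F {u}) ≤ 1 := by
      classical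
      have := finrank_span_le_card (R := F) ({u} : Set V)
      rw [Set.toFinset_singleton, Finset.card_singleton] at this
      exact this
    omega)
  have hind₁ : Indep2 (F := F) u w₁ := by
    rw [indep2_iff hu0]
    intro a ha
    apply hw₁S
    rw [ha]
    exact Submodule.smul_mem _ _ (Submodule.mem_span_singleton_self u)
  obtain ⟨w₂, hind3, hw₂, hw₂₁⟩ := exists_third h (by omega) hind₁
  have hind₂ : Indep2 (F := F) u w₂ := hind3.indep13
  have hw₃ : B (w₁ + w₂) u = 0 := by rw [h.add_left, hw₁, hw₂, add_zero]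
  have hind₃ : Indep2 (F := F) u (w₁ + w₂) := by
    rw [indep2_iff hu0]
    intro a ha
    have e : (a) • u + (-1 : F) • w₁ + (-1 : F) • w₂ = (0 : F) • u + (0 : F) • w₁ + (0 : F) • w₂ := by
      linear_combination (norm := module) -ha
    obtain ⟨-, h5, -⟩ := hind3.eq e
    exact one_ne_zero (neg_eq_zero.1 h5)
  have hu₁ : B u w₁ = 0 := by rw [h.swap, hw₁, neg_zero]
  have hu₂ : B u w₂ = 0 := by rw [h.swap, hw₂, neg_zero]
  have hu₃ : B u (w₁ + w₂) = 0 := by rw [h.swap, hw₃, neg_zero]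
  have hfr3 : 3 ≤ finrank F V := by omega
  -- the groups
  obtain ⟨ne1, e1⟩ := inter_swap d h2 hind₁ hw₁ hu₁
  obtain ⟨ne2, e2⟩ := inter_swap d h2 hind₂ hw₂ hu₂
  obtain ⟨ne3, e3⟩ := inter_swap d h2 hind₃ hw₃ hu₃
  have hYnb : ∀ {w : V} (hind : Indep2 (F := F) u w) (hw : B w u = 0), Yg d.alt u w hw ≠ ⊥ := by
    intro w hind hw h0
    have hz : (⟨_, eich_mem_isom d.alt u ((1 : F) • w) 0
        (by rw [d.alt.smul_left, hw, mul_zero])⟩ : ↥(isom B)) ∈ Yg d.alt u w hw := ⟨1, rfl⟩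
    rw [h0, Subgroup.mem_bot] at hz
    exact one_smul_eich_ne_one d hind hw (congrArg Subtype.val hz)
  have hYne : ∀ {w : V} (hind : Indep2 (F := F) u w) (hw : B w u = 0) (hw' : B u w = 0),
      Zg B u w hw ⊓ Zg B w u hw' ≠ Xg d.alt u := by
    intro w hind hw hw' he
    apply Xg_not_le_Zg d hind hw'
    rw [← he]
    exact inf_le_right
  have ne12 : Zg B u w₁ hw₁ ≠ Zg B u w₂ hw₂ := by
    apply Zg_ne_of_not_onL d h2 hind₁ hw₁ hw₂
    rintro ⟨-, a, b, hab⟩
    have e : (a) • u + (-1 : F) • w₁ + (b) • w₂ = (0 : F) • u + (0 : F) • w₁ + (0 : F) • w₂ := by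
      linear_combination (norm := module) -hab
    obtain ⟨-, h5, -⟩ := hind3.eq e
    exact one_ne_zero (neg_eq_zero.1 h5)
  have ne13 : Zg B u w₁ hw₁ ≠ Zg B u (w₁ + w₂) hw₃ := by
    apply Zg_ne_of_not_onL d h2 hind₁ hw₁ hw₃
    rintro ⟨-, a, b, hab⟩
    have e : (a) • u + (b - 1 : F) • w₁ + (b) • w₂ = (0 : F) • u + (0 : F) • w₁ + (0 : F) • w₂ := by
      linear_combination (norm := module) -hab
    obtain ⟨-, h5, h6⟩ := hind3.eq e
    rw [h6] at h5
    exact one_ne_zero (neg_eq_zero.1 (by linear_combination h5))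
  have ne23 : Zg B u w₂ hw₂ ≠ Zg B u (w₁ + w₂) hw₃ := by
    apply Zg_ne_of_not_onL d h2 hind₂ hw₂ hw₃
    rintro ⟨-, a, b, hab⟩
    have e : (a) • u + (b : F) • w₁ + (b - 1) • w₂ = (0 : F) • u + (0 : F) • w₁ + (0 : F) • w₂ := by
      linear_combination (norm := module) -hab
    obtain ⟨-, h5, h6⟩ := hind3.eq e
    rw [h5] at h6
    exact one_ne_zero (neg_eq_zero.1 (by linear_combination h6))
  have heq : Xg d.alt u = Zg B u w₁ hw₁ ⊓ Zg B u w₂ hw₂ := by
    have hle : Xg d.alt u ≤ Zg B u w₁ hw₁ ⊓ Zg B u w₂ hw₂ :=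
      le_inf (Xg_le_Zg h u w₁ hw₁) (Xg_le_Zg h u w₂ hw₂)
    have hnb : Zg B u w₁ hw₁ ⊓ Zg B u w₂ hw₂ ≠ ⊥ := by
      intro h0
      rw [h0, le_bot_iff] at hle
      exact Xg_ne_bot d hu0 hle
    rcases inter_cases d h2 hind₁ hw₁ hind₂ hw₂ ne12 hnb with ⟨-, he⟩ | ⟨hn, -⟩
    · exact he.symm
    · exact absurd (one_smul F u).symm (hn 1)
  refine ⟨Zg B u w₁ hw₁, Zg B u w₂ hw₂, Zg B u (w₁ + w₂) hw₃,
    Zg B w₁ u hu₁, Zg B w₂ u hu₂, Zg B (w₁ + w₂) u hu₃, ?_⟩
  exact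
    { c1 := isSylCen_Zg d hfr3 hind₁ hw₁
      c2 := isSylCen_Zg d hfr3 hind₂ hw₂
      c3 := isSylCen_Zg d hfr3 hind₃ hw₃
      c1' := isSylCen_Zg d hfr3 hind₁.symm hu₁
      c2' := isSylCen_Zg d hfr3 hind₂.symm hu₂
      c3' := isSylCen_Zg d hfr3 hind₃.symm hu₃
      ne12 := ne12
      ne13 := ne13
      ne23 := ne23
      eq := heq
      nb := Xg_ne_bot d hu0
      le3 := Xg_le_Zg h u (w₁ + w₂) hw₃
      ne1 := ne1
      ne2 := ne2
      ne3 := ne3
      nb1 := by rw [e1]; exact hYnb hind₁ hw₁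
      nb2 := by rw [e2]; exact hYnb hind₂ hw₂
      nb3 := by rw [e3]; exact hYnb hind₃ hw₃
      nr1 := hYne hind₁ hw₁ hu₁
      nr2 := hYne hind₂ hw₂ hu₂
      nr3 := hYne hind₃ hw₃ hu₃
      prod := by
        rw [e1, e2, e3]
        rintro z ⟨b, hz⟩
        have hb₁ : B (b • w₁) u = 0 := by rw [h.smul_left, hw₁, mul_zero]
        have hb₂ : B (b • w₂) u = 0 := by rw [h.smul_left, hw₂, mul_zero]
        have hz1 : (⟨_, eich_mem_isom h u (b • w₁) 0 hb₁⟩ : ↥(isom B)) ∈ Yg h u w₁ hw₁ := ⟨b, rfl⟩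
        have hz2 : (⟨_, eich_mem_isom h u (b • w₂) 0 hb₂⟩ : ↥(isom B)) ∈ Yg h u w₂ hw₂ := ⟨b, rfl⟩
        have hmul := Subgroup.mul_mem_sup hz1 hz2
        have e : z = (⟨_, eich_mem_isom h u (b • w₁) 0 hb₁⟩ : ↥(isom B))
            * (⟨_, eich_mem_isom h u (b • w₂) 0 hb₂⟩ : ↥(isom B)) := by
          apply Subtype.ext
          rw [hz, Subgroup.coe_mul]
          show _ = eich h u (b • w₁) 0 hb₁ * eich h u (b • w₂) 0 hb₂
          rw [eich_mul]
          apply eich_congr h _ rfl (smul_add b w₁ w₂)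
          rw [h.smul_left, h.smul_right, hw₂₁, mul_zero, mul_zero, add_zero, add_zero]
        rw [e]
        exact hmul }

end groups

end Cfsg.Agent.Lib.Helper5.SpAut
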