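import Mathlib
import Cfsg.Agent.Lib.Helper5.SpTwo7

set_option autoImplicit false

/-! Long root groups are transvection groups (characteristic two). -/

namespace Cfsg.Agent.Lib.Helper5.SpAut

open Module Cfsg.Agent.Lib.Helper2.IsomDecomp Cfsg.Agent.Lib.Helper5.FTPG

universe u v

section groups
variable {F : Type v} [Field F] [Fintype F] {V : Type u} [AddCommGroup V]
  [Module F V] [FiniteDimensional F V] {B : V → V → F}

theorem inter_eq_Xg_of_line (d : SData B) (h2 : (2 : F) = 0) {u₀ w₀ : V}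
    (hind₀ : Indep2 (F := F) u₀ w₀) (hw₀ : B w₀ u₀ = 0) {u w : V}
    (hind : Indep2 (F := F) u w) (hw : B w u = 0) (huL : OnL (F := F) u₀ w₀ u)
    (hwL : OnL (F := F) u₀ w₀ w) {u' w' : V}
    (hind' : Indep2 (F := F) u' w') (hw' : B w' u' = 0)
    (hne : Zg B u w hw ≠ Zg B u' w' hw') (hnb : Zg B u w hw ⊓ Zg B u' w' hw' ≠ ⊥)
    (hnr : Zg B u w hw ⊓ Zg B u' w' hw' ≠ Yg d.alt u₀ w₀ hw₀) :
    Zg B u w hw ⊓ Zg B u' w' hw' = Xg d.alt u := by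
  rcases inter_cases d h2 hind hw hind' hw' hne hnb with ⟨-, he⟩ | ⟨-, -, -, he⟩
  · exact he
  · exfalso
    apply hnr
    rw [he]
    exact (Yg_eq_of_onL d h2 hind₀ hw₀ hind hw huL hwL).symm

theorem exists_of_isLongRoot (d : SData B) [CharP F 2] (hfr : 4 ≤ finrank F V)
    {R : Subgroup ↥(isom B)} (hR : IsLongRoot 2 R) : ∃ v : V, v ≠ 0 ∧ R = Xg d.alt v := by
  have h := d.alt
  have h2 : (2 : F) = 0 := by
    have := CharP.cast_eq_zero F 2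
    exact_mod_cast this
  obtain ⟨Z₁, Z₂, Z₃, Z₁', Z₂', Z₃', D⟩ := hR
  obtain ⟨u₁, w₁, hw₁, hind₁, rfl⟩ := exists_flag_of_isSylCen d hfr D.c1
  obtain ⟨u₂, w₂, hw₂, hind₂, rfl⟩ := exists_flag_of_isSylCen d hfr D.c2
  obtain ⟨u₃, w₃, hw₃, hind₃, rfl⟩ := exists_flag_of_isSylCen d hfr D.c3
  obtain ⟨u₁', w₁', hw₁', hind₁', rfl⟩ := exists_flag_of_isSylCen d hfr D.c1'
  obtain ⟨u₂', w₂', hw₂', hind₂', rfl⟩ := exists_flag_of_isSylCen d hfr D.c2'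
  obtain ⟨u₃', w₃', hw₃', hind₃', rfl⟩ := exists_flag_of_isSylCen d hfr D.c3'
  have hnb12 : Zg B u₁ w₁ hw₁ ⊓ Zg B u₂ w₂ hw₂ ≠ ⊥ := by
    rw [← D.eq]
    exact D.nb
  rcases inter_cases d h2 hind₁ hw₁ hind₂ hw₂ D.ne12 hnb12 with ⟨-, he⟩ | ⟨hn, hu₂L, hw₂L, he⟩
  · exact ⟨u₁, hind₁.left_ne, by rw [D.eq, he]⟩
  · exfalso
    have hRY : R = Yg d.alt u₁ w₁ hw₁ := by rw [D.eq, he]
    -- the third flag lies on the same line
    have hle3 : Yg d.alt u₁ w₁ hw₁ ≤ Zg B u₃ w₃ hw₃ := by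
      rw [← hRY]
      exact D.le3
    obtain ⟨h31, h32⟩ := onL_of_Yg_le d hind₁ hw₁ hw₃ hle3
    obtain ⟨hu₃L, hw₃L⟩ := onL_symm hind₁ h31 h32
    have e1 := inter_eq_Xg_of_line d h2 hind₁ hw₁ hind₁ hw₁ (onL_left u₁ w₁) (onL_right u₁ w₁)
      hind₁' hw₁' D.ne1 D.nb1 (by rw [← hRY]; exact D.nr1)
    have e2 := inter_eq_Xg_of_line d h2 hind₁ hw₁ hind₂ hw₂ hu₂L hw₂L
      hind₂' hw₂' D.ne2 D.nb2 (by rw [← hRY]; exact D.nr2)
    have e3 := inter_eq_Xg_of_line d h2 hind₁ hw₁ hind₃ hw₃ hu₃L hw₃L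
      hind₃' hw₃' D.ne3 D.nb3 (by rw [← hRY]; exact D.nr3)
    have hprod := D.prod
    rw [e1, e2, e3] at hprod
    -- the three points are on the line spanned by the first two
    have hind₁₂ : Indep2 (F := F) u₁ u₂ := (indep2_iff hind₁.left_ne).2 hn
    obtain ⟨-, hw₁12⟩ := onL_symm hind₁₂ (onL_left u₁ w₁) hu₂L
    have hu₃12 : OnL (F := F) u₁ u₂ u₃ := OnL.trans (onL_left u₁ u₂) hw₁12 hu₃L
    obtain ⟨α, β, hαβ⟩ := hu₃12
    have hperp : B u₁ u₂ = 0 := onL_perp h hw₁ (onL_left u₁ w₁) hu₂L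
    have hβ : β ≠ 0 := by
      rintro rfl
      rw [zero_smul, add_zero] at hαβ
      exact D.ne13 (Zg_eq_of_same_flag h hw₁ hind₃ hw₃ hαβ hw₃L).symm
    have hα : α ≠ 0 := by
      rintro rfl
      rw [zero_smul, zero_add] at hαβ
      obtain ⟨h21, h22⟩ := onL_symm hind₂ hu₂L hw₂L
      have hw₃L2 : OnL (F := F) u₂ w₂ w₃ := OnL.trans h21 h22 hw₃L
      exact D.ne23 (Zg_eq_of_same_flag h hw₂ hind₃ hw₃ hαβ hw₃L2).symm
    apply not_Xg_le_sup d hind₁₂ hperp hα hβ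
    rw [← hαβ]
    exact hprod

/-- isomorphisms of symplectic groups in characteristic two preserve transvection groups -/
theorem map_Xg_two (d : SData B) [CharP F 2] (hfr : 6 ≤ finrank F V)
    (α : ↥(isom B) ≃* ↥(isom B)) {u : V} (hu0 : u ≠ 0) :
    ∃ v : V, v ≠ 0 ∧ (Xg d.alt u).map α.toMonoidHom = Xg d.alt v := by
  haveI := finite_T B
  exact exists_of_isLongRoot d (by omega) ((isLongRoot_Xg d hfr hu0).map_equiv α)

end groups

end Cfsg.Agent.Lib.Helper5.SpAut
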