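import Mathlib
import Cfsg.Agent.Lib.Helper5.SpTwo8
import Cfsg.Agent.Lib.Helper5.SpAut4

set_option autoImplicit false

/-! Automorphisms of the quotient permute the transvection groups (characteristic two). -/

namespace Cfsg.Agent.Lib.Helper5.SpAut

open Module Cfsg.Agent.Lib.Helper2.IsomDecomp Cfsg.Agent.Lib.Helper5.FTPG

universe u v w

section
variable {F : Type v} [Field F] [Fintype F] {V : Type u} [AddCommGroup V]
  [Module F V] [FiniteDimensional F V] {B : V → V → F} {𝔗 : Type w} [Group 𝔗]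
  {ρ : ↥(isom B) →* 𝔗}

/-- in characteristic two the quotient map is injective -/
theorem SQMap.injective_two (q : SQMap B ρ) (d : SData B) [CharP F 2] (hV : ∃ x : V, x ≠ 0) :
    Function.Injective ρ := by
  have h := d.alt
  rw [injective_iff_map_eq_one]
  intro g hg
  obtain ⟨a, ha⟩ := (q.ker g).1 hg
  obtain ⟨x, hx0⟩ := hV
  obtain ⟨f, hxf⟩ := d.exists_partner hx0
  have h1 := g.2 x f
  rw [ha, ha, h.smul_left, h.smul_right, hxf, mul_one] at h1
  have h2 : (2 : F) = 0 := by
    have := CharP.cast_eq_zero F 2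
    exact_mod_cast this
  have h3 : (a - 1) * (a - 1) = 0 := by linear_combination h1 - a * h2 + h2
  have ha1 : a = 1 := by
    rcases mul_eq_zero.1 h3 with h4 | h4 <;> exact sub_eq_zero.1 h4
  apply Subtype.ext
  apply LinearEquiv.ext
  intro z
  rw [ha z, ha1, one_smul]
  rfl

/-- automorphisms permute the images of the transvection groups (characteristic two) -/
theorem SQMap.map_Xb_two (q : SQMap B ρ) (d : SData B) [CharP F 2] (hfr : 6 ≤ finrank F V)
    (α : 𝔗 ≃* 𝔗) (u : V) (hu0 : u ≠ 0) :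
    ∃ v : V, v ≠ 0 ∧ (Xb d.alt ρ u).map α.toMonoidHom = Xb d.alt ρ v := by
  have hinj := q.injective_two d ⟨u, hu0⟩
  let e : ↥(isom B) ≃* 𝔗 := MulEquiv.ofBijective ρ ⟨hinj, q.surj⟩
  let α' : ↥(isom B) ≃* ↥(isom B) := e.trans (α.trans e.symm)
  obtain ⟨v, hv0, hv⟩ := map_Xg_two d hfr α' hu0
  refine ⟨v, hv0, ?_⟩
  unfold Xb
  rw [← hv, Subgroup.map_map, Subgroup.map_map]
  congr 1
  apply MonoidHom.ext
  intro x
  show α (ρ x) = ρ (e.symm (α (e x)))
  have e1 : ρ (e.symm (α (e x))) = e (e.symm (α (e x))) := rfl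
  rw [e1, MulEquiv.apply_symm_apply]
  rfl

end

end Cfsg.Agent.Lib.Helper5.SpAut
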