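import Mathlib
import Cfsg.Agent.Lib.Helper5.SpTwo9
import Cfsg.Agent.Lib.Helper5.PSpAut5

set_option autoImplicit false

/-! Automorphisms of `PSp_{2m}(F)` in characteristic two, `m ≥ 3`, and the general statement. -/

namespace Cfsg.Agent.Lib.Helper5.PSpAut

open Matrix Module Cfsg.Agent.Lib.Helper5.PGO Cfsg.Agent.Lib.Helper2.Symp
  Cfsg.Agent.Lib.Helper1.SpCard Cfsg.Agent.Lib.Helper2.IsomDecomp Cfsg.Agent.Lib.Helper5.SpAut
  Cfsg.Agent.Lib.Helper5.FTPG Cfsg.Agent.Lib.Helper5.UAut Cfsg.Agent.Lib.Helper2.SpIsom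
  Cfsg.Agent.Lib.Helper2.SpFrames

universe u

section
variable {F : Type u} [Field F] [Fintype F] {m : ℕ}

theorem finrank_symp : finrank F (Fin m ⊕ Fin m → F) = 2 * m := by
  rw [Module.finrank_fintype_fun_eq_card, Fintype.card_sum, Fintype.card_fin]
  ring

/-- every automorphism of `PSp_{2m}(F)`, `F` of characteristic two and `m ≥ 3`, is induced by a
semilinear similitude -/
theorem aut_PSp_two (hm : 3 ≤ m) [CharP F 2] (α : MulAut (Cfsg.PSp m F)) :
    ∃ (g : ↥(Cfsg.GSp m F)) (τ : F ≃+* F), α = cjC g * fa τ := by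
  have d := sData_symp (m := m) (F := F)
  have qm := sqMap_rhoSp (m := m) (F := F)
  have hfr : 6 ≤ finrank F (Fin m ⊕ Fin m → F) := by
    rw [finrank_symp]
    omega
  haveI : Fact (Nat.Prime 2) := ⟨Nat.prime_two⟩
  exact aut_PSp_of_perm (by omega) 2 α (fun u hu => qm.map_Xb_two d hfr α u hu)
    (fun u hu => qm.map_Xb_two d hfr (MulEquiv.symm α) u hu)

/-- every automorphism of `PSp_{2m}(F)` is induced by a semilinear similitude, except possibly
for `PSp_4` in characteristic two -/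
theorem aut_PSp_all (hm : 2 ≤ m) (p : ℕ) [Fact p.Prime] [CharP F p] (h4 : m = 2 → p ≠ 2)
    (α : MulAut (Cfsg.PSp m F)) :
    ∃ (g : ↥(Cfsg.GSp m F)) (τ : F ≃+* F), α = cjC g * fa τ := by
  by_cases hp2 : p = 2
  · subst hp2
    have hm3 : 3 ≤ m := by
      by_contra hlt
      have : m = 2 := by omega
      exact h4 this rfl
    exact aut_PSp_two hm3 α
  · exact aut_PSp hm p hp2 α

end

end Cfsg.Agent.Lib.Helper5.PSpAut
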