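import Mathlib
import Cfsg.Agent.Lib.Helper5.SpTwo9

set_option autoImplicit false

/-! Root groups of a symplectic group in characteristic two (dimension at least four) and the
action of automorphisms on them. -/

namespace Cfsg.Agent.Lib.Helper5.SpAut

open Module Cfsg.Agent.Lib.Helper2.IsomDecomp Cfsg.Agent.Lib.Helper5.FTPG

universe u v

section
variable {F : Type*} [Field F] {V : Type*} [AddCommGroup V] [Module F V] [FiniteDimensional F V]
  {B : V → V → F}

/-- a vector perpendicular to a given vector outside a small subspace -/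
theorem exists_perp_not_mem_one (h : AltF B) (a : V) (S : Submodule F V)
    (hS : finrank F S + 1 < finrank F V) : ∃ x, x ∉ S ∧ B x a = 0 := by
  let φ : V →ₗ[F] F := h.toDual a
  have h1 := LinearMap.finrank_range_add_finrank_ker φ
  have h2 : finrank F (LinearMap.range φ) ≤ 1 := by
    have := Submodule.finrank_le (LinearMap.range φ)
    rw [Module.finrank_self] at this
    exact this
  have h3 : ¬ (LinearMap.ker φ ≤ S) := by
    intro hle
    have := Submodule.finrank_mono hle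
    omega
  obtain ⟨x, hx, hxS⟩ := SetLike.not_le_iff_exists.1 h3
  rw [LinearMap.mem_ker] at hx
  exact ⟨x, hxS, hx⟩

end

section abstract
variable {G : Type*} [Group G] {G' : Type*} [Group G']

/-- a nontrivial intersection of two different Sylow centres -/
def IsRootGp (p : ℕ) (R : Subgroup G) : Prop :=
  ∃ Z Z' : Subgroup G, IsSylCen p Z ∧ IsSylCen p Z' ∧ Z ≠ Z' ∧ Z ⊓ Z' ≠ ⊥ ∧ R = Z ⊓ Z'

theorem IsRootGp.map_equiv [Finite G] {p : ℕ} [Fact p.Prime] {R : Subgroup G}
    (h : IsRootGp p R) (α : G ≃* G') : IsRootGp p (R.map α.toMonoidHom) := by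
  obtain ⟨Z, Z', hZ, hZ', hne, hnb, rfl⟩ := h
  have hinj : Function.Injective α.toMonoidHom := α.injective
  have hmi : Function.Injective (Subgroup.map α.toMonoidHom) := Subgroup.map_injective hinj
  refine ⟨Z.map α.toMonoidHom, Z'.map α.toMonoidHom, hZ.map_equiv α, hZ'.map_equiv α,
    fun h0 => hne (hmi h0), ?_, Subgroup.map_inf Z Z' _ hinj⟩
  rw [← Subgroup.map_inf Z Z' _ hinj]
  intro h0
  exact hnb ((Subgroup.map_eq_bot_iff_of_injective _ hinj).1 h0)

end abstract

section groups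
variable {F : Type v} [Field F] [Fintype F] {V : Type u} [AddCommGroup V]
  [Module F V] [FiniteDimensional F V] {B : V → V → F}

theorem two_eq_zero_of_charP [CharP F 2] : (2 : F) = 0 := by
  have := CharP.cast_eq_zero F 2
  exact_mod_cast this

/-- a root group is a long or a short root group -/
theorem isRootGp_cases (d : SData B) [CharP F 2] (hfr : 4 ≤ finrank F V)
    {R : Subgroup ↥(isom B)} (hR : IsRootGp 2 R) :
    (∃ u : V, u ≠ 0 ∧ R = Xg d.alt u) ∨
    (∃ (u w : V) (hw : B w u = 0), Indep2 (F := F) u w ∧ R = Yg d.alt u w hw) := by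
  have h2 : (2 : F) = 0 := two_eq_zero_of_charP
  obtain ⟨Z, Z', hZ, hZ', hne, hnb, rfl⟩ := hR
  obtain ⟨u, w, hw, hind, rfl⟩ := exists_flag_of_isSylCen d hfr hZ
  obtain ⟨u', w', hw', hind', rfl⟩ := exists_flag_of_isSylCen d hfr hZ'
  rcases inter_cases d h2 hind hw hind' hw' hne hnb with ⟨-, he⟩ | ⟨-, -, -, he⟩
  · exact Or.inl ⟨u, hind.left_ne, he⟩
  · exact Or.inr ⟨u, w, hw, hind, he⟩

/-- a point has a perpendicular partner -/
theorem exists_flag_at (h : AltF B) (hfr : 3 ≤ finrank F V) {u : V} (hu0 : u ≠ 0) :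
    ∃ w : V, Indep2 (F := F) u w ∧ B w u = 0 := by
  obtain ⟨w, hwS, hw⟩ := exists_perp_not_mem_one h u (Submodule.span F {u}) (by
    have h1 : finrank F (Submodule.span F {u}) ≤ 1 := by
      classical
      have := finrank_span_le_card (R := F) ({u} : Set V)
      rw [Set.toFinset_singleton, Finset.card_singleton] at this
      exact this
    omega)
  refine ⟨w, ?_, hw⟩
  rw [indep2_iff hu0]
  intro a ha
  apply hwS
  rw [ha]
  exact Submodule.smul_mem _ _ (Submodule.mem_span_singleton_self u)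

/-- a second perpendicular line through a point -/
theorem exists_flag_third (h : AltF B) (hfr : 4 ≤ finrank F V) {u w : V}
    (hind : Indep2 (F := F) u w) :
    ∃ x : V, Indep3 (F := F) u w x ∧ B x u = 0 := by
  obtain ⟨x, hxS, hx⟩ := exists_perp_not_mem_one h u (Submodule.span F {u, w}) (by
    have := finrank_span_pair_le (F := F) u w
    omega)
  refine ⟨x, ?_, hx⟩
  rw [indep3_iff hind]
  intro a b hab
  apply hxS
  rw [hab]
  exact Submodule.add_mem _ (Submodule.smul_mem _ _ (Submodule.subset_span (by simp)))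
    (Submodule.smul_mem _ _ (Submodule.subset_span (by simp)))

theorem isRootGp_Xg (d : SData B) [CharP F 2] (hfr : 4 ≤ finrank F V) {u : V} (hu0 : u ≠ 0) :
    IsRootGp 2 (Xg d.alt u) := by
  have h := d.alt
  have h2 : (2 : F) = 0 := two_eq_zero_of_charP
  obtain ⟨w₁, hind₁, hw₁⟩ := exists_flag_at h (by omega) hu0
  obtain ⟨w₂, hind3, hw₂⟩ := exists_flag_third h hfr hind₁
  have hind₂ : Indep2 (F := F) u w₂ := hind3.indep13
  have ne12 : Zg B u w₁ hw₁ ≠ Zg B u w₂ hw₂ := by
    apply Zg_ne_of_not_onL d h2 hind₁ hw₁ hw₂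
    rintro ⟨-, a, b, hab⟩
    have e : (a) • u + (-1 : F) • w₁ + (b) • w₂ = (0 : F) • u + (0 : F) • w₁ + (0 : F) • w₂ := by
      linear_combination (norm := module) -hab
    obtain ⟨-, h5, -⟩ := hind3.eq e
    exact one_ne_zero (neg_eq_zero.1 h5)
  have hle : Xg d.alt u ≤ Zg B u w₁ hw₁ ⊓ Zg B u w₂ hw₂ :=
    le_inf (Xg_le_Zg h u w₁ hw₁) (Xg_le_Zg h u w₂ hw₂)
  have hnb : Zg B u w₁ hw₁ ⊓ Zg B u w₂ hw₂ ≠ ⊥ := by
    intro h0
    rw [h0, le_bot_iff] at hle
    exact Xg_ne_bot d hu0 hle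
  refine ⟨_, _, isSylCen_Zg d (by omega) hind₁ hw₁, isSylCen_Zg d (by omega) hind₂ hw₂, ne12,
    hnb, ?_⟩
  rcases inter_cases d h2 hind₁ hw₁ hind₂ hw₂ ne12 hnb with ⟨-, he⟩ | ⟨hn, -⟩
  · exact he.symm
  · exact absurd (one_smul F u).symm (hn 1)

theorem isRootGp_Yg (d : SData B) [CharP F 2] (hfr : 3 ≤ finrank F V) {u w : V}
    (hind : Indep2 (F := F) u w) (hw : B w u = 0) : IsRootGp 2 (Yg d.alt u w hw) := by
  have h := d.alt
  have h2 : (2 : F) = 0 := two_eq_zero_of_charP
  have hw' : B u w = 0 := by rw [h.swap, hw, neg_zero]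
  obtain ⟨hne, he⟩ := inter_swap d h2 hind hw hw'
  refine ⟨_, _, isSylCen_Zg d hfr hind hw, isSylCen_Zg d hfr hind.symm hw', hne, ?_, he.symm⟩
  rw [he]
  intro h0
  have hz : (⟨_, eich_mem_isom d.alt u ((1 : F) • w) 0
      (by rw [d.alt.smul_left, hw, mul_zero])⟩ : ↥(isom B)) ∈ Yg d.alt u w hw := ⟨1, rfl⟩
  rw [h0, Subgroup.mem_bot] at hz
  exact one_smul_eich_ne_one d hind hw (congrArg Subtype.val hz)

/-- a long root group in a flag group is the one of its point -/
theorem Xg_eq_of_le_Zg (d : SData B) {u w v : V} (hv0 : v ≠ 0) (hw : B w u = 0)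
    (hle : Xg d.alt v ≤ Zg B u w hw) : Xg d.alt v = Xg d.alt u := by
  have h1 := hle (tvT_mem d.alt v 1)
  obtain ⟨a, ha⟩ := smul_of_tv_isQ d one_ne_zero h1.1
  have ha0 : a ≠ 0 := by
    rintro rfl
    rw [zero_smul] at ha
    exact hv0 ha
  rw [ha, Xg_smul d.alt u a ha0]

/-- a short root group in a flag group is the one of its line -/
theorem Yg_eq_of_le_Zg (d : SData B) (h2 : (2 : F) = 0) {u w : V}
    (hind : Indep2 (F := F) u w) (hw : B w u = 0) {u' w' : V}
    (hind' : Indep2 (F := F) u' w') (hw' : B w' u' = 0)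
    (hle : Yg d.alt u' w' hw' ≤ Zg B u w hw) : Yg d.alt u' w' hw' = Yg d.alt u w hw := by
  obtain ⟨h1, h2'⟩ := onL_of_Yg_le d hind' hw' hw hle
  exact (Yg_eq_of_onL d h2 hind hw hind' hw' h1 h2').symm

/-- long and short root groups are different -/
theorem Xg_ne_Yg (d : SData B) (h2 : (2 : F) = 0) {v : V} (hv0 : v ≠ 0) {u w : V}
    (hind : Indep2 (F := F) u w) (hw : B w u = 0) : Xg d.alt v ≠ Yg d.alt u w hw := by
  intro he
  have hw' : B u w = 0 := by rw [d.alt.swap, hw, neg_zero]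
  have h1 : Xg d.alt v ≤ Zg B u w hw := by
    rw [he]
    exact Yg_le_Zg d h2 hind hw
  have h3 : Xg d.alt v ≤ Zg B w u hw' := by
    rw [he]
    exact Yg_le_Zg_of_onL d h2 hind hw hind.symm hw' (onL_right u w) (onL_left u w)
  have e1 := Xg_eq_of_le_Zg d hv0 hw h1
  rw [e1] at h3
  exact Xg_not_le_Zg d hind hw' h3

/-- the root groups inside a flag group -/
theorem isRootGp_le_Zg (d : SData B) [CharP F 2] (hfr : 4 ≤ finrank F V) {u w : V}
    (hind : Indep2 (F := F) u w) (hw : B w u = 0) {R : Subgroup ↥(isom B)}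
    (hR : IsRootGp 2 R) (hle : R ≤ Zg B u w hw) : R = Xg d.alt u ∨ R = Yg d.alt u w hw := by
  have h2 : (2 : F) = 0 := two_eq_zero_of_charP
  rcases isRootGp_cases d hfr hR with ⟨v, hv0, rfl⟩ | ⟨u', w', hw', hind', rfl⟩
  · exact Or.inl (Xg_eq_of_le_Zg d hv0 hw hle)
  · exact Or.inr (Yg_eq_of_le_Zg d h2 hind hw hind' hw' hle)

end groups

end Cfsg.Agent.Lib.Helper5.SpAut
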