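import Mathlib
import Cfsg.Agent.Lib.Helper5.SpTwo10

set_option autoImplicit false

/-! Automorphisms of odd order of a symplectic group in characteristic two (dimension at least
four) permute the long root groups. -/

namespace Cfsg.Agent.Lib.Helper5.SpAut

open Module Cfsg.Agent.Lib.Helper2.IsomDecomp Cfsg.Agent.Lib.Helper5.FTPG

universe u v w

section groups
variable {F : Type v} [Field F] [Fintype F] {V : Type u} [AddCommGroup V]
  [Module F V] [FiniteDimensional F V] {B : V → V → F}

/-- the image of a flag group and of its two root groups under an automorphism -/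
theorem map_flag (d : SData B) [CharP F 2] (hfr : 4 ≤ finrank F V)
    (α : MulAut ↥(isom B)) {u w : V} (hind : Indep2 (F := F) u w) (hw : B w u = 0) :
    ∃ (u' w' : V) (hw' : B w' u' = 0), Indep2 (F := F) u' w' ∧
      (((Xg d.alt u).map α.toMonoidHom = Xg d.alt u' ∧
        (Yg d.alt u w hw).map α.toMonoidHom = Yg d.alt u' w' hw') ∨
       ((Xg d.alt u).map α.toMonoidHom = Yg d.alt u' w' hw' ∧
        (Yg d.alt u w hw).map α.toMonoidHom = Xg d.alt u')) := by
  haveI := finite_T B
  have h2 : (2 : F) = 0 := two_eq_zero_of_charP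
  have hinj : Function.Injective α.toMonoidHom := α.injective
  have hmi : Function.Injective (Subgroup.map α.toMonoidHom) := Subgroup.map_injective hinj
  obtain ⟨u', w', hw', hind', he⟩ := exists_flag_of_isSylCen d hfr
    ((isSylCen_Zg d (by omega) hind hw).map_equiv α)
  have hne : (Xg d.alt u).map α.toMonoidHom ≠ (Yg d.alt u w hw).map α.toMonoidHom :=
    fun h0 => Xg_ne_Yg d h2 hind.left_ne hind hw (hmi h0)
  have hX := isRootGp_le_Zg d hfr hind' hw'
    ((isRootGp_Xg d hfr hind.left_ne).map_equiv α) (by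
      rw [← he]
      exact Subgroup.map_mono (Xg_le_Zg d.alt u w hw))
  have hY := isRootGp_le_Zg d hfr hind' hw'
    ((isRootGp_Yg d (by omega) hind hw).map_equiv α) (by
      rw [← he]
      exact Subgroup.map_mono (Yg_le_Zg d h2 hind hw))
  refine ⟨u', w', hw', hind', ?_⟩
  rcases hX with hX | hX <;> rcases hY with hY | hY
  · exact absurd (hX.trans hY.symm) hne
  · exact Or.inl ⟨hX, hY⟩
  · exact Or.inr ⟨hX, hY⟩
  · exact absurd (hX.trans hY.symm) hne

/-- the automorphism maps the long root group of `u` to a long root group -/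
def LongAt (d : SData B) (α : MulAut ↥(isom B)) (u : V) : Prop :=
  ∃ v : V, v ≠ 0 ∧ (Xg d.alt u).map α.toMonoidHom = Xg d.alt v

theorem longAt_flag (d : SData B) [CharP F 2] (hfr : 4 ≤ finrank F V)
    (α : MulAut ↥(isom B)) {u w : V} (hind : Indep2 (F := F) u w) (hw : B w u = 0)
    (hu : LongAt d α u) : LongAt d α w := by
  have h2 : (2 : F) = 0 := two_eq_zero_of_charP
  have hw' : B u w = 0 := by rw [d.alt.swap, hw, neg_zero]
  obtain ⟨v, hv0, hv⟩ := hu
  obtain ⟨u', w', hw'', hind', hc⟩ := map_flag d hfr α hind hw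
  have hY : (Yg d.alt u w hw).map α.toMonoidHom = Yg d.alt u' w' hw'' := by
    rcases hc with ⟨-, hY⟩ | ⟨hX, -⟩
    · exact hY
    · rw [hv] at hX
      exact absurd hX (Xg_ne_Yg d h2 hv0 hind' hw'')
  obtain ⟨u'', w'', hw''', hind'', hc'⟩ := map_flag d hfr α hind.symm hw'
  have hYY : Yg d.alt w u hw' = Yg d.alt u w hw :=
    (Yg_eq_of_onL d h2 hind hw hind.symm hw' (onL_right u w) (onL_left u w)).symm
  rcases hc' with ⟨hX, -⟩ | ⟨-, hY'⟩
  · exact ⟨u'', hind''.left_ne, hX⟩
  · rw [hYY, hY] at hY'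
    exact absurd hY'.symm (Xg_ne_Yg d h2 hind''.left_ne hind' hw'')

theorem longAt_all (d : SData B) [CharP F 2] (hfr : 4 ≤ finrank F V)
    (α : MulAut ↥(isom B)) {u v : V} (hu : LongAt d α u) (hu0 : u ≠ 0) (hv0 : v ≠ 0) :
    LongAt d α v := by
  have h := d.alt
  by_cases hdep : ∃ a : F, v = a • u
  · obtain ⟨a, rfl⟩ := hdep
    have ha0 : a ≠ 0 := by
      rintro rfl
      rw [zero_smul] at hv0
      exact hv0 rfl
    unfold LongAt
    rw [Xg_smul h u a ha0]
    exact hu
  · push Not at hdep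
    have hind : Indep2 (F := F) u v := (indep2_iff hu0).2 hdep
    by_cases hperp : B v u = 0
    · exact longAt_flag d hfr α hind hperp hu
    · obtain ⟨x, hxS, hxu, hxv⟩ := exists_perp_not_mem h u v ⊥ (by rw [finrank_bot]; omega)
      have hx0 : x ≠ 0 := by
        intro h0
        apply hxS
        rw [h0]
        exact Submodule.zero_mem _
      have hind₁ : Indep2 (F := F) u x := by
        rw [indep2_iff hu0]
        rintro a rfl
        rw [h.smul_left] at hxv
        have hperp' : B u v ≠ 0 := by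
          intro h0
          apply hperp
          rw [h.swap, h0, neg_zero]
        rcases mul_eq_zero.1 hxv with h1 | h1
        · rw [h1, zero_smul] at hx0
          exact hx0 rfl
        · exact hperp' h1
      have hind₂ : Indep2 (F := F) x v := by
        rw [indep2_iff hx0]
        rintro a rfl
        apply hperp
        rw [h.smul_left, hxu, mul_zero]
      have hvx : B v x = 0 := by rw [h.swap, hxv, neg_zero]
      exact longAt_flag d hfr α hind₂ hvx (longAt_flag d hfr α hind₁ hxu hu)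

theorem longAt_sq (d : SData B) [CharP F 2] (hfr : 4 ≤ finrank F V)
    (α : MulAut ↥(isom B)) (hno : ∀ u : V, u ≠ 0 → ¬ LongAt d α u) {u : V} (hu0 : u ≠ 0) :
    LongAt d (α * α) u := by
  obtain ⟨w, hind, hw⟩ := exists_flag_at d.alt (by omega) hu0
  obtain ⟨u', w', hw', hind', hc⟩ := map_flag d hfr α hind hw
  rcases hc with ⟨hX, -⟩ | ⟨hX, -⟩
  · exact absurd ⟨u', hind'.left_ne, hX⟩ (hno u hu0)
  · obtain ⟨u'', w'', hw'', hind'', hc'⟩ := map_flag d hfr α hind' hw'
    rcases hc' with ⟨hX', -⟩ | ⟨-, hY'⟩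
    · exact absurd ⟨u'', hind''.left_ne, hX'⟩ (hno u' hind'.left_ne)
    · refine ⟨u'', hind''.left_ne, ?_⟩
      have e : (α * α).toMonoidHom = α.toMonoidHom.comp α.toMonoidHom := rfl
      rw [e, ← Subgroup.map_map, hX, hY']

/-- the automorphism permutes the long root groups -/
def LongAll (d : SData B) (α : MulAut ↥(isom B)) : Prop :=
  ∀ u : V, u ≠ 0 → LongAt d α u

theorem longAll_one (d : SData B) : LongAll d (1 : MulAut ↥(isom B)) := by
  intro u hu0
  refine ⟨u, hu0, ?_⟩
  have e : (1 : MulAut ↥(isom B)).toMonoidHom = MonoidHom.id _ := rfl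
  rw [e, Subgroup.map_id]

theorem LongAll.mul (d : SData B) {α β : MulAut ↥(isom B)} (hα : LongAll d α)
    (hβ : LongAll d β) : LongAll d (α * β) := by
  intro u hu0
  obtain ⟨v, hv0, hv⟩ := hβ u hu0
  obtain ⟨v', hv'0, hv'⟩ := hα v hv0
  refine ⟨v', hv'0, ?_⟩
  have e : (α * β).toMonoidHom = α.toMonoidHom.comp β.toMonoidHom := rfl
  rw [e, ← Subgroup.map_map, hv, hv']

theorem LongAll.pow (d : SData B) {α : MulAut ↥(isom B)} (hα : LongAll d α) (k : ℕ) :
    LongAll d (α ^ k) := by
  induction k with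
  | zero => rw [pow_zero]; exact longAll_one d
  | succ k ih => rw [pow_succ]; exact LongAll.mul d ih hα

theorem longAll_sq (d : SData B) [CharP F 2] (hfr : 4 ≤ finrank F V)
    (α : MulAut ↥(isom B)) : LongAll d (α * α) := by
  by_cases hex : ∃ u : V, u ≠ 0 ∧ LongAt d α u
  · obtain ⟨u, hu0, hu⟩ := hex
    have hα : LongAll d α := fun v hv0 => longAt_all d hfr α hu hu0 hv0
    exact LongAll.mul d hα hα
  · push Not at hex
    exact fun u hu0 => longAt_sq d hfr α hex hu0

theorem longAll_of_odd (d : SData B) [CharP F 2] (hfr : 4 ≤ finrank F V)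
    (α : MulAut ↥(isom B)) {n : ℕ} (hn : Odd n) (hαn : α ^ n = 1) : LongAll d α := by
  obtain ⟨k, rfl⟩ := hn
  have e : α = (α * α) ^ (k + 1) := by
    rw [← pow_two, ← pow_mul]
    have : 2 * (k + 1) = (2 * k + 1) + 1 := by ring
    rw [this, pow_succ, hαn, one_mul]
  rw [e]
  exact LongAll.pow d (longAll_sq d hfr α) (k + 1)

end groups

section quotient
variable {F : Type v} [Field F] [Fintype F] {V : Type u} [AddCommGroup V]
  [Module F V] [FiniteDimensional F V] {B : V → V → F} {𝔗 : Type w} [Group 𝔗]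
  {ρ : ↥(isom B) →* 𝔗}

/-- automorphisms of odd order permute the images of the transvection groups (characteristic
two, dimension at least four) -/
theorem SQMap.perm_of_odd (q : SQMap B ρ) (d : SData B) [CharP F 2] (hfr : 4 ≤ finrank F V)
    (α : MulAut 𝔗) {n : ℕ} (hn : Odd n) (hαn : α ^ n = 1) : Perm d ρ α := by
  intro u hu0
  have hinj := q.injective_two d ⟨u, hu0⟩
  let e : ↥(isom B) ≃* 𝔗 := MulEquiv.ofBijective ρ ⟨hinj, q.surj⟩
  let α' : MulAut ↥(isom B) := MulAut.congr e.symm α
  have hα' : α' ^ n = 1 := by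
    show (MulAut.congr e.symm α) ^ n = 1
    rw [← map_pow, hαn, map_one]
  obtain ⟨v, hv0, hv⟩ := longAll_of_odd d hfr α' hn hα' u hu0
  refine ⟨v, hv0, ?_⟩
  unfold Xb
  rw [← hv, Subgroup.map_map, Subgroup.map_map]
  congr 1
  apply MonoidHom.ext
  intro x
  show α (ρ x) = ρ (e.symm (α (e x)))
  have e1 : ρ (e.symm (α (e x))) = e (e.symm (α (e x))) := rfl
  rw [e1, MulEquiv.apply_symm_apply]
  rfl

end quotient

end Cfsg.Agent.Lib.Helper5.SpAut
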