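import Mathlib
import Cfsg.Agent.Lib.Helper5.SpTwo11
import Cfsg.Agent.Lib.Helper5.PSpAut6

set_option autoImplicit false

/-! Automorphisms of odd order of `PSp_{2m}(F)`, including `PSp_4` in characteristic two. -/

namespace Cfsg.Agent.Lib.Helper5.PSpAut

open Matrix Module Cfsg.Agent.Lib.Helper5.PGO Cfsg.Agent.Lib.Helper2.Symp
  Cfsg.Agent.Lib.Helper1.SpCard Cfsg.Agent.Lib.Helper2.IsomDecomp Cfsg.Agent.Lib.Helper5.SpAut
  Cfsg.Agent.Lib.Helper5.FTPG Cfsg.Agent.Lib.Helper5.UAut Cfsg.Agent.Lib.Helper2.SpIsom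
  Cfsg.Agent.Lib.Helper2.SpFrames

universe u

section
variable {F : Type u} [Field F] [Fintype F] {m : ℕ}

/-- every automorphism of odd order of `PSp_{2m}(F)`, `m ≥ 2`, is induced by a semilinear
similitude -/
theorem aut_PSp_of_odd (hm : 2 ≤ m) (p : ℕ) [Fact p.Prime] [CharP F p]
    (α : MulAut (Cfsg.PSp m F)) {n : ℕ} (hn : Odd n) (hαn : α ^ n = 1) :
    ∃ (g : ↥(Cfsg.GSp m F)) (τ : F ≃+* F), α = cjC g * fa τ := by
  by_cases hp2 : p = 2
  · subst hp2
    have d := sData_symp (m := m) (F := F)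
    have qm := sqMap_rhoSp (m := m) (F := F)
    have hfr : 4 ≤ finrank F (Fin m ⊕ Fin m → F) := by
      rw [finrank_symp]
      omega
    have hinv : (MulEquiv.symm α : MulAut (Cfsg.PSp m F)) ^ n = 1 := by
      have e : (MulEquiv.symm α : MulAut (Cfsg.PSp m F)) = α⁻¹ := rfl
      rw [e, inv_pow, hαn, inv_one]
    exact aut_PSp_of_perm hm 2 α (qm.perm_of_odd d hfr α hn hαn)
      (qm.perm_of_odd d hfr (MulEquiv.symm α) hn hinv)
  · exact aut_PSp hm p hp2 α

end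

end Cfsg.Agent.Lib.Helper5.PSpAut
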