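import Mathlib
import Cfsg.Agent.Lib.Helper5.SpTwo11

set_option autoImplicit false

/-! An automorphism fixing a transvection permutes the long root groups (characteristic two,
dimension at least four). -/

namespace Cfsg.Agent.Lib.Helper5.SpAut

open Module Cfsg.Agent.Lib.Helper2.IsomDecomp Cfsg.Agent.Lib.Helper5.FTPG

universe u v w

section groups
variable {F : Type v} [Field F] [Fintype F] {V : Type u} [AddCommGroup V]
  [Module F V] [FiniteDimensional F V] {B : V → V → F}

/-- a nontrivial transvection does not lie in a short root group -/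
theorem tvT_not_mem_Yg (d : SData B) (h2 : (2 : F) = 0) {u : V} (hu0 : u ≠ 0) {c : F}
    (hc : c ≠ 0) {u' w' : V} (hind : Indep2 (F := F) u' w') (hw' : B w' u' = 0) :
    tvT d.alt u c ∉ Yg d.alt u' w' hw' := by
  intro hmem
  have hu' : B u' w' = 0 := by rw [d.alt.swap, hw', neg_zero]
  have h1 := Yg_le_Zg d h2 hind hw' hmem
  have h3 := Yg_le_Zg_of_onL d h2 hind hw' hind.symm hu' (onL_right u' w') (onL_left u' w') hmem
  obtain ⟨a, ha⟩ := smul_of_tv_isQ d hc h1.1
  obtain ⟨b, hb⟩ := smul_of_tv_isQ d hc h3.1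
  have hb0 : b ≠ 0 := by
    rintro rfl
    rw [zero_smul] at hb
    exact hu0 hb
  apply hind.not_smul (b⁻¹ * a)
  rw [← smul_smul, ← ha, hb, smul_smul, inv_mul_cancel₀ hb0, one_smul]

theorem longAll_of_fixes (d : SData B) [CharP F 2] (hfr : 4 ≤ finrank F V)
    (α : MulAut ↥(isom B)) {u : V} (hu0 : u ≠ 0) {c : F} (hc : c ≠ 0)
    (hfix : α (tvT d.alt u c) = tvT d.alt u c) : LongAll d α := by
  haveI := finite_T B
  have h2 : (2 : F) = 0 := two_eq_zero_of_charP
  have hmem : tvT d.alt u c ∈ (Xg d.alt u).map α.toMonoidHom :=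
    ⟨tvT d.alt u c, tvT_mem d.alt u c, hfix⟩
  have hlong : LongAt d α u := by
    rcases isRootGp_cases d hfr ((isRootGp_Xg d hfr hu0).map_equiv α) with
      ⟨v, hv0, hv⟩ | ⟨u', w', hw', hind', he⟩
    · exact ⟨v, hv0, hv⟩
    · rw [he] at hmem
      exact absurd hmem (tvT_not_mem_Yg d h2 hu0 hc hind' hw')
  exact fun v hv0 => longAt_all d hfr α hlong hu0 hv0

end groups

section quotient
variable {F : Type v} [Field F] [Fintype F] {V : Type u} [AddCommGroup V]
  [Module F V] [FiniteDimensional F V] {B : V → V → F} {𝔗 : Type w} [Group 𝔗]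
  {ρ : ↥(isom B) →* 𝔗}

/-- automorphisms fixing the image of a transvection permute the images of the transvection
groups (characteristic two, dimension at least four) -/
theorem SQMap.perm_of_fixes (q : SQMap B ρ) (d : SData B) [CharP F 2] (hfr : 4 ≤ finrank F V)
    (α : MulAut 𝔗) {u₀ : V} (hu0 : u₀ ≠ 0) {c : F} (hc : c ≠ 0)
    (hfix : α (ρ (tvT d.alt u₀ c)) = ρ (tvT d.alt u₀ c)) : Perm d ρ α := by
  intro u hu
  have hinj := q.injective_two d ⟨u, hu⟩
  let e : ↥(isom B) ≃* 𝔗 := MulEquiv.ofBijective ρ ⟨hinj, q.surj⟩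
  let α' : MulAut ↥(isom B) := MulAut.congr e.symm α
  have hα' : α' (tvT d.alt u₀ c) = tvT d.alt u₀ c := by
    show e.symm (α (e (tvT d.alt u₀ c))) = tvT d.alt u₀ c
    have e1 : e (tvT d.alt u₀ c) = ρ (tvT d.alt u₀ c) := rfl
    rw [e1, hfix, ← e1, MulEquiv.symm_apply_apply]
  obtain ⟨v, hv0, hv⟩ := longAll_of_fixes d hfr α' hu0 hc hα' u hu
  refine ⟨v, hv0, ?_⟩
  unfold Xb
  rw [← hv, Subgroup.map_map, Subgroup.map_map]
  congr 1
  apply MonoidHom.ext
  intro x
  show α (ρ x) = ρ (e.symm (α (e x)))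
  have e1 : ρ (e.symm (α (e x))) = e (e.symm (α (e x))) := rfl
  rw [e1, MulEquiv.apply_symm_apply]
  rfl

end quotient

end Cfsg.Agent.Lib.Helper5.SpAut
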