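import Mathlib
import Cfsg.Agent.Lib.Helper5.SpTwo12
import Cfsg.Agent.Lib.Helper5.PSpAut7

set_option autoImplicit false

/-! Automorphisms of `PSp_{2m}(F)` fixing a transvection. -/

namespace Cfsg.Agent.Lib.Helper5.PSpAut

open Matrix Module Cfsg.Agent.Lib.Helper5.PGO Cfsg.Agent.Lib.Helper2.Symp
  Cfsg.Agent.Lib.Helper1.SpCard Cfsg.Agent.Lib.Helper2.IsomDecomp Cfsg.Agent.Lib.Helper5.SpAut
  Cfsg.Agent.Lib.Helper5.FTPG Cfsg.Agent.Lib.Helper5.UAut Cfsg.Agent.Lib.Helper2.SpIsom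
  Cfsg.Agent.Lib.Helper2.SpFrames Cfsg.Agent.Lib.Helper1.SpBasic

universe u

section
variable {F : Type u} [Field F] [Fintype F] {m : ℕ}

/-- every automorphism of `PSp_{2m}(F)`, `m ≥ 2`, fixing the image of a nontrivial transvection is
induced by a semilinear similitude -/
theorem aut_PSp_of_fixes (hm : 2 ≤ m) (p : ℕ) [Fact p.Prime] [CharP F p]
    (α : MulAut (Cfsg.PSp m F)) {u : Fin m ⊕ Fin m → F} (hu0 : u ≠ 0) {c : F} (hc : c ≠ 0)
    (hfix : α (QuotientGroup.mk (T u c)) = QuotientGroup.mk (T u c)) :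
    ∃ (g : ↥(Cfsg.GSp m F)) (τ : F ≃+* F), α = cjC g * fa τ := by
  by_cases hp2 : p = 2
  · subst hp2
    have d := sData_symp (m := m) (F := F)
    have qm := sqMap_rhoSp (m := m) (F := F)
    have hfr : 4 ≤ finrank F (Fin m ⊕ Fin m → F) := by
      rw [finrank_symp]
      omega
    have hfix' : α (rhoSp (tvT (altF_symp (m := m) (F := F)) u c))
        = rhoSp (tvT (altF_symp (m := m) (F := F)) u c) := by
      rw [rhoSp_tv]
      exact hfix
    have hfix'' : (MulEquiv.symm α : MulAut (Cfsg.PSp m F))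
        (rhoSp (tvT (altF_symp (m := m) (F := F)) u c))
        = rhoSp (tvT (altF_symp (m := m) (F := F)) u c) := by
      rw [MulEquiv.symm_apply_eq, hfix']
    exact aut_PSp_of_perm hm 2 α (qm.perm_of_fixes d hfr α hu0 hc hfix')
      (qm.perm_of_fixes d hfr (MulEquiv.symm α) hu0 hc hfix'')
  · exact aut_PSp hm p hp2 α

end

end Cfsg.Agent.Lib.Helper5.PSpAut
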