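import Mathlib
import Cfsg.Agent.Lib.Helper5.PSpField4
import Cfsg.Agent.Lib.Helper5.PSLCoset16
import Cfsg.Agent.Lib.Helper5.SplitConj

set_option autoImplicit false

/-! The number of `PSp`-classes in the inner-diagonal class of a field automorphism. -/

namespace Cfsg.Agent.Lib.Helper5.PSpField

open Matrix Cfsg.Agent.Lib.Helper5.PSLCoset Cfsg.Agent.Lib.Helper2.Symp
  Cfsg.Agent.Lib.Helper5.PSpAut Cfsg.Agent.Lib.Helper5.GraphSplit Cfsg.Agent.Lib.Helper5.PGO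

section
variable {F : Type*} [Field F] [Fintype F] {m : ℕ}

theorem isGS_muS (g : ↥(Cfsg.GSp m F)) :
    IsGS ((g : GL (Fin m ⊕ Fin m) F) : Matrix (Fin m ⊕ Fin m) (Fin m ⊕ Fin m) F) (muS g : F) :=
  (isGS_iff _ _).2 (muS_spec g)

theorem muS_eq_of_isGS (hm : 1 ≤ m) (g : ↥(Cfsg.GSp m F)) (c : F)
    (h : IsGS ((g : GL (Fin m ⊕ Fin m) F) : Matrix (Fin m ⊕ Fin m) (Fin m ⊕ Fin m) F) c) :
    (muS g : F) = c :=
  muS_unique hm g c ((isGS_iff _ _).1 h)

/-- conformal symplectic matrices with square multiplier -/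
noncomputable def sqG (hm : 1 ≤ m) : Subgroup ↥(Cfsg.GSp m F) :=
  ((powMonoidHom 2 : Fˣ →* Fˣ).range).comap (muSHom hm)

instance sqG_normal (hm : 1 ≤ m) : (sqG (F := F) hm).Normal :=
  Subgroup.Normal.comap (Subgroup.normal_of_comm _) _

theorem muSHom_surjective (hm : 1 ≤ m) : Function.Surjective (muSHom (F := F) hm) := by
  intro ν
  refine ⟨⟨dnu m ν, dnu_mem_GSp ν⟩, ?_⟩
  apply Units.ext
  rw [muSHom_apply]
  exact muS_unique hm _ _ (dnu_symp ν)

theorem map_sqG (hm : 1 ≤ m) :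
    (sqG (F := F) hm).map (cjC (m := m) (F := F)) = Cfsg.Inn (Cfsg.PSp m F) := by
  apply le_antisymm
  · rintro _ ⟨g, hg, rfl⟩
    obtain ⟨z, hz⟩ := hg
    have hz' : (z : F) * (z : F) = (muS g : F) := by
      have := congrArg (fun u : Fˣ => (u : F)) hz
      simp only [powMonoidHom_apply, Units.val_pow_eq_pow_val, muSHom_apply] at this
      rw [← this, sq]
    obtain ⟨s, hz0, hs⟩ := exists_smul_sp g (muS g) (muS_spec g) (z : F) hz'
    have h1 : cjC g = cjC (spIncl s) := cjC_eq_of_smul g (spIncl s) (z : F) hz0 hs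
    rw [h1, cjC_spIncl]
    exact ⟨_, rfl⟩
  · rintro _ ⟨x, rfl⟩
    obtain ⟨s, rfl⟩ := QuotientGroup.mk_surjective x
    refine ⟨spIncl s, ?_, cjC_spIncl s⟩
    refine ⟨1, ?_⟩
    apply Units.ext
    rw [muSHom_apply, powMonoidHom_apply, one_pow, Units.val_one]
    symm
    apply muS_unique hm
    intro u v
    rw [one_mul]
    exact (Cfsg.Agent.Lib.Helper1.SpCard.mem_symplectic_iff_form s.1).1 s.2 u v

theorem splitCount_eq (hm : 1 ≤ m) (x : MulAut (Cfsg.PSp m F)) :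
    Cfsg.splitClassCount (Cfsg.inndiagPSp m F) (Cfsg.Inn (Cfsg.PSp m F)) x
      = ((powMonoidHom 2 : Fˣ →* Fˣ).range ⊔ (commSub (cjC (m := m) (F := F)) x).map
        (muSHom hm)).index := by
  rw [inndiagPSp_eq, ← map_sqG hm, splitClassCount_eq]
  have hsurj := muSHom_surjective (F := F) (m := m) hm
  have hker : (muSHom (F := F) hm).ker ≤ sqG hm ⊔ commSub (cjC (m := m) (F := F)) x := by
    intro g hg
    apply Subgroup.mem_sup_left
    rw [sqG, Subgroup.mem_comap, MonoidHom.mem_ker.1 hg]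
    exact Subgroup.one_mem _
  rw [← Subgroup.index_map_eq _ hsurj hker, Subgroup.map_sup]
  unfold sqG
  rw [Subgroup.map_comap_eq_self_of_surjective hsurj]

theorem dnu_mem_commSub (σ : F ≃+* F) (w : Fˣ) (hw : w ∈ fixU σ) :
    (⟨dnu m w, dnu_mem_GSp w⟩ : ↥(Cfsg.GSp m F))
      ∈ commSub (cjC (m := m) (F := F)) (gam σ (1 : ↥(Cfsg.GSp m F))) := by
  rw [mem_commSub, cjC_mul_gam, gam_mul_cjC, mul_one, one_mul]
  congr 1
  apply Subtype.ext
  apply Units.ext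
  rw [mapG_coe]
  show ((dnu m w : GL (Fin m ⊕ Fin m) F) : Matrix (Fin m ⊕ Fin m) (Fin m ⊕ Fin m) F)
    = ((dnu m w : GL (Fin m ⊕ Fin m) F) : Matrix (Fin m ⊕ Fin m) (Fin m ⊕ Fin m) F).map σ
  rw [dnu_coe, Matrix.diagonal_map (map_zero σ)]
  congr 1
  funext k
  rcases k with k | k
  · exact (mem_fixU.1 hw).symm
  · exact (map_one σ).symm

theorem map_mu_commSub (p : ℕ) [Fact p.Prime] [CharP F p] (hm : 1 ≤ m) (σ : F ≃+* F) (r : ℕ)
    (hr : orderOf σ = r) (hr0 : 0 < r) :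
    (powMonoidHom 2 : Fˣ →* Fˣ).range ⊔
      (commSub (cjC (m := m) (F := F)) (gam σ (1 : ↥(Cfsg.GSp m F)))).map (muSHom hm)
      = (powMonoidHom 2 : Fˣ →* Fˣ).range ⊔ fixU σ := by
  classical
  apply le_antisymm
  · rw [sup_le_iff]
    refine ⟨le_sup_left, ?_⟩
    rintro _ ⟨c, hc, rfl⟩
    rw [SetLike.mem_coe, mem_commSub, cjC_mul_gam, gam_mul_cjC, gam_eq_iff p hm, mul_one,
      one_mul] at hc
    obtain ⟨l, hl0, hl⟩ := hc
    have hl' : ((c : GL (Fin m ⊕ Fin m) F) : Matrix (Fin m ⊕ Fin m) (Fin m ⊕ Fin m) F)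
        = l • ((c : GL (Fin m ⊕ Fin m) F) : Matrix (Fin m ⊕ Fin m) (Fin m ⊕ Fin m) F).map σ := hl
    obtain ⟨E, hE⟩ : ∃ E : Subfield F, ∀ a, a ∈ E ↔ σ a = a :=
      ⟨RingHom.eqLocusField (σ : F →+* F) (RingHom.id F), fun a => Iff.rfl⟩
    have hι : ∀ a, σ a = a ↔ a ∈ Set.range E.subtype := by
      intro a
      rw [← hE a]
      constructor
      · intro ha
        exact ⟨⟨a, ha⟩, rfl⟩
      · rintro ⟨b, rfl⟩
        exact b.2
    obtain ⟨b, c₀, ν₀, hb0, hν₀0, -, -, hν₀⟩ :=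
      exists_fixed_smul hι hm r hr hr0 _ (muS c : F) (muS c).ne_zero (isGS_muS c) l hl'
    have hν0 : (ν₀ : F) ≠ 0 := by
      intro h0
      apply hν₀0
      exact Subtype.ext h0
    have hmu : muSHom hm c = (Units.mk0 b hb0)⁻¹ ^ 2 * Units.mk0 (ν₀ : F) hν0 := by
      apply Units.ext
      rw [muSHom_apply, Units.val_mul, Units.val_pow_eq_pow_val, Units.val_inv_eq_inv_val,
        Units.val_mk0, Units.val_mk0]
      have : (ν₀ : F) = b * b * (muS c : F) := hν₀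
      rw [this]
      field_simp
    rw [hmu]
    apply Subgroup.mul_mem
    · exact Subgroup.mem_sup_left ⟨_, rfl⟩
    · apply Subgroup.mem_sup_right
      rw [mem_fixU, Units.val_mk0]
      exact (hE _).1 ν₀.2
  · rw [sup_le_iff]
    refine ⟨le_sup_left, ?_⟩
    intro w hw
    apply Subgroup.mem_sup_right
    refine ⟨⟨dnu m w, dnu_mem_GSp w⟩, dnu_mem_commSub σ w hw, ?_⟩
    apply Units.ext
    rw [muSHom_apply]
    exact muS_unique hm _ _ (dnu_symp w)

/-- parity of a quotient of prime power minus ones -/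
theorem gcd_two_eq {p : ℕ} (hp : p.Prime) (e r : ℕ) (he : e ≠ 0) (hr0 : 0 < r) :
    Nat.gcd ((p ^ (e * r) - 1) / (p ^ e - 1)) 2 = Nat.gcd (Nat.gcd 2 (p ^ (e * r) - 1)) r := by
  have hq2 : 2 ≤ p ^ e := by
    calc 2 ≤ p := hp.two_le
      _ = p ^ 1 := (pow_one p).symm
      _ ≤ p ^ e := Nat.pow_le_pow_right hp.pos (Nat.one_le_iff_ne_zero.2 he)
  have hgeom : (p ^ (e * r) - 1) / (p ^ e - 1) = ∑ k ∈ Finset.range r, (p ^ e) ^ k := by
    rw [pow_mul]
    exact (Nat.geomSum_eq hq2 r).symm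
  rw [hgeom]
  rcases hp.eq_two_or_odd' with h2 | hodd
  · -- `p = 2`
    subst h2
    have hev : Even (2 ^ e) := (Nat.even_pow' he).2 even_two
    have hsum : Odd (∑ k ∈ Finset.range r, (2 ^ e) ^ k) := by
      obtain ⟨r', rfl⟩ : ∃ r', r = r' + 1 := ⟨r - 1, by omega⟩
      rw [Finset.sum_range_succ', pow_zero]
      apply Even.add_one
      apply Finset.even_sum
      intro k _
      exact (Nat.even_pow' (Nat.succ_ne_zero k)).2 hev
    have h1 : Odd (2 ^ (e * r) - 1) := by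
      have h3 : Even (2 ^ (e * r)) :=
        (Nat.even_pow' (Nat.mul_ne_zero he (by omega))).2 even_two
      have h4 : 1 ≤ 2 ^ (e * r) := Nat.one_le_two_pow
      obtain ⟨t, ht⟩ := h3
      exact ⟨t - 1, by omega⟩
    have h5 : Nat.gcd 2 (2 ^ (e * r) - 1) = 1 := by
      rw [Nat.gcd_comm]
      exact Nat.Coprime.gcd_eq_one (Nat.coprime_two_right.2 h1)
    rw [h5, Nat.gcd_one_left]
    exact Nat.Coprime.gcd_eq_one (Nat.coprime_two_right.2 hsum)
  · -- `p` odd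
    have hqodd : Odd (p ^ e) := hodd.pow
    have hsum : (∑ k ∈ Finset.range r, (p ^ e) ^ k) % 2 = r % 2 := by
      rw [Finset.sum_nat_mod]
      have : ∀ k ∈ Finset.range r, (p ^ e) ^ k % 2 = 1 := by
        intro k _
        exact Nat.odd_iff.1 hqodd.pow
      rw [Finset.sum_congr rfl this]
      simp
    have h1 : Even (p ^ (e * r) - 1) := by
      have h3 : Odd (p ^ (e * r)) := hodd.pow
      obtain ⟨t, ht⟩ := h3
      exact ⟨t, by omega⟩
    have h5 : Nat.gcd 2 (p ^ (e * r) - 1) = 2 := Nat.gcd_eq_left (even_iff_two_dvd.1 h1)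
    rw [h5, Nat.gcd_comm, Nat.gcd_rec, hsum, ← Nat.gcd_rec]

theorem splitCount_field {p f : ℕ} [Fact p.Prime] [CharP F p] (hF : Fintype.card F = p ^ f)
    (hm : 1 ≤ m) (σ : F ≃+* F) (r : ℕ) (hσ : orderOf σ = r) (hr0 : 0 < r) :
    Cfsg.splitClassCount (Cfsg.inndiagPSp m F) (Cfsg.Inn (Cfsg.PSp m F))
      (gam σ (1 : ↥(Cfsg.GSp m F))) = Nat.gcd (Nat.gcd 2 (p ^ f - 1)) r := by
  rw [splitCount_eq hm, map_mu_commSub p hm σ r hσ hr0, index_pow_sup,
    index_fixU hF σ r hσ hr0]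
  obtain ⟨hdvd, -⟩ := card_fixed hF σ r hσ hr0
  obtain ⟨e, he⟩ := hdvd
  have h1 : f / r = e := by rw [he, Nat.mul_div_cancel_left _ hr0]
  have he0 : e ≠ 0 := by
    rintro rfl
    rw [mul_zero] at he
    rw [he, pow_zero] at hF
    have := Fintype.one_lt_card (α := F)
    omega
  rw [h1, he, mul_comm r e]
  exact gcd_two_eq (Fact.out : p.Prime) e r he0 hr0

end

end Cfsg.Agent.Lib.Helper5.PSpField
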