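import Mathlib
import Cfsg.Agent.Lib.Helper5.PSpBal1
import Cfsg.Agent.Lib.Helper5.PSpAut7
import Cfsg.Agent.Lib.Helper5.PSpField5

set_option autoImplicit false

/-! Fixed points of a field automorphism on `PSp_{2m}(F)`. -/

namespace Cfsg.Agent.Lib.Helper5.PSpBal

open Matrix Cfsg.Agent.Lib.Helper5.PSpAut Cfsg.Agent.Lib.Helper5.PSpField

section
variable {F : Type*} [Field F] [Fintype F] {m : ℕ}

theorem mk_eq_one_of_scalar (s : ↥(Matrix.symplecticGroup (Fin m) F)) (z : F)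
    (hs : (s : Matrix (Fin m ⊕ Fin m) (Fin m ⊕ Fin m) F) = z • 1) :
    (QuotientGroup.mk s : Cfsg.PSp m F) = 1 := by
  rw [QuotientGroup.eq_one_iff, Subgroup.mem_center_iff]
  intro B
  apply Subtype.ext
  rw [Submonoid.coe_mul, Submonoid.coe_mul, hs, Matrix.mul_smul, Matrix.smul_mul,
    Matrix.mul_one, Matrix.one_mul]

/-- `PSp` has trivial centre -/
theorem conj_injective_PSp (p : ℕ) [Fact p.Prime] [CharP F p] (hm : 1 ≤ m) :
    Function.Injective (MulAut.conj : Cfsg.PSp m F →* MulAut (Cfsg.PSp m F)) := by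
  rw [injective_iff_map_eq_one]
  intro k hk
  obtain ⟨s, rfl⟩ := QuotientGroup.mk_surjective k
  rw [← cjC_spIncl] at hk
  obtain ⟨z, -, hz⟩ := (cjC_eq_one_iff p hm _).1 hk
  exact mk_eq_one_of_scalar s z hz

end

section
variable {F : Type*} [Field F] {m : ℕ}

/-- the symplectic matrices fixed by a field automorphism -/
def fixS (σ : F ≃+* F) : Subgroup ↥(Matrix.symplecticGroup (Fin m) F) where
  carrier := {s | spField σ s = s}
  mul_mem' := by
    intro a b ha hb
    show spField σ (a * b) = a * b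
    rw [map_mul, ha, hb]
  one_mem' := map_one _
  inv_mem' := by
    intro a ha
    show spField σ a⁻¹ = a⁻¹
    rw [map_inv, ha]

theorem mem_fixS (σ : F ≃+* F) (s : ↥(Matrix.symplecticGroup (Fin m) F)) :
    s ∈ fixS σ ↔ spField σ s = s := Iff.rfl

/-- the image of the fixed symplectic matrices in `PSp` -/
noncomputable def P0 (σ : F ≃+* F) : Subgroup (Cfsg.PSp m F) :=
  (fixS σ).map (QuotientGroup.mk' (Subgroup.center ↥(Matrix.symplecticGroup (Fin m) F)))

theorem mk_mem_P0 (σ : F ≃+* F) {s : ↥(Matrix.symplecticGroup (Fin m) F)} (hs : s ∈ fixS σ) :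
    (QuotientGroup.mk s : Cfsg.PSp m F) ∈ P0 σ := ⟨s, hs, rfl⟩

theorem P0_le_fix (σ : F ≃+* F) :
    P0 (m := m) σ ≤ MonoidHom.eqLocus (fa σ : MulAut (Cfsg.PSp m F)).toMonoidHom
      (MonoidHom.id (Cfsg.PSp m F)) := by
  rintro _ ⟨s, hs, rfl⟩
  show (fa σ : MulAut (Cfsg.PSp m F)) (QuotientGroup.mk s) = QuotientGroup.mk s
  rw [fa_mk, (mem_fixS σ s).1 hs]

theorem spField_central (σ : F ≃+* F) {z : ↥(Matrix.symplecticGroup (Fin m) F)}
    (hz : z ∈ Subgroup.center ↥(Matrix.symplecticGroup (Fin m) F)) :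
    spField σ z ∈ Subgroup.center ↥(Matrix.symplecticGroup (Fin m) F) := by
  rw [Subgroup.mem_center_iff] at hz ⊢
  intro g
  have h1 := hz ((spField σ)⁻¹ g)
  have h2 := congrArg (spField σ) h1
  rw [map_mul, map_mul] at h2
  have e : spField σ ((spField σ)⁻¹ g) = g := by
    rw [MulAut.inv_apply, MulEquiv.apply_symm_apply]
  rw [e] at h2
  exact h2

/-- a fixed point of the field automorphism comes from a matrix fixed up to a central factor -/
theorem exists_central_of_fix (σ : F ≃+* F) (s : ↥(Matrix.symplecticGroup (Fin m) F))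
    (hs : (fa σ : MulAut (Cfsg.PSp m F)) (QuotientGroup.mk s) = QuotientGroup.mk s) :
    ∃ z ∈ Subgroup.center ↥(Matrix.symplecticGroup (Fin m) F), spField σ s = s * z := by
  rw [fa_mk] at hs
  have h1 := (QuotientGroup.eq (s := Subgroup.center ↥(Matrix.symplecticGroup (Fin m) F))).1
    hs.symm
  exact ⟨s⁻¹ * spField σ s, h1, by rw [mul_inv_cancel_left]⟩

/-- `P0` is normalized by the fixed points -/
theorem P0_conj_mem (σ : F ≃+* F) {k y : Cfsg.PSp m F}
    (hk : (fa σ : MulAut (Cfsg.PSp m F)) k = k) (hy : y ∈ P0 σ) : k * y * k⁻¹ ∈ P0 σ := by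
  obtain ⟨s, rfl⟩ := QuotientGroup.mk_surjective k
  obtain ⟨t, ht, rfl⟩ := hy
  obtain ⟨z, hz, hsz⟩ := exists_central_of_fix σ s hk
  refine ⟨s * t * s⁻¹, ?_, rfl⟩
  show s * t * s⁻¹ ∈ fixS σ
  rw [mem_fixS, map_mul, map_mul, map_inv, hsz, (mem_fixS σ t).1 ht]
  rw [Subgroup.mem_center_iff] at hz
  have h1 : s * z * t * (s * z)⁻¹ = s * (z * t) * z⁻¹ * s⁻¹ := by group
  rw [h1, ← hz t]
  group

end

section
variable {F : Type*} [Field F] [Fintype F] {m : ℕ}

theorem spField_negOne (σ : F ≃+* F) :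
    spField σ (Cfsg.Agent.S0246.negOne m F) = Cfsg.Agent.S0246.negOne m F := by
  apply Subtype.ext
  rw [spField_coe]
  show (-1 : Matrix (Fin m ⊕ Fin m) (Fin m ⊕ Fin m) F).map σ = -1
  ext i j
  simp only [Matrix.map_apply, Matrix.neg_apply, Matrix.one_apply]
  split_ifs <;> simp

theorem negOne_sq : Cfsg.Agent.S0246.negOne m F * Cfsg.Agent.S0246.negOne m F = 1 := by
  apply Subtype.ext
  show (-1 : Matrix (Fin m ⊕ Fin m) (Fin m ⊕ Fin m) F) * (-1) = 1
  simp

/-- for an automorphism of odd order all fixed points come from fixed matrices -/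
theorem fix_le_P0_of_odd (hm : 1 ≤ m) (σ : F ≃+* F) {n : ℕ} (hn : Odd n) (hσ : σ ^ n = 1) :
    MonoidHom.eqLocus (fa σ : MulAut (Cfsg.PSp m F)).toMonoidHom
      (MonoidHom.id (Cfsg.PSp m F)) ≤ P0 σ := by
  intro k hk
  have hk' : (fa σ : MulAut (Cfsg.PSp m F)) k = k := hk
  obtain ⟨s, rfl⟩ := QuotientGroup.mk_surjective k
  obtain ⟨z, hz, hsz⟩ := exists_central_of_fix σ s hk'
  rcases (Cfsg.Agent.S0246.mem_center_iff hm z).1 hz with rfl | rfl
  · rw [mul_one] at hsz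
    exact mk_mem_P0 σ hsz
  · have hpow : ∀ j : ℕ, spField (σ ^ j) s = s * Cfsg.Agent.S0246.negOne m F ^ j := by
      intro j
      induction j with
      | zero => rw [pow_zero, pow_zero, map_one, mul_one]; rfl
      | succ j ih =>
        rw [pow_succ, map_mul, MulAut.mul_apply, hsz, map_mul, ih, pow_succ]
        have e : spField (σ ^ j) (Cfsg.Agent.S0246.negOne m F)
            = Cfsg.Agent.S0246.negOne m F := spField_negOne _
        rw [e, mul_assoc]
    have h1 := hpow n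
    rw [hσ, map_one] at h1
    obtain ⟨t, rfl⟩ := hn
    have h2 : Cfsg.Agent.S0246.negOne m F ^ (2 * t + 1) = Cfsg.Agent.S0246.negOne m F := by
      rw [pow_succ, pow_mul, pow_two, negOne_sq, one_pow, one_mul]
    rw [h2] at h1
    have h3 : Cfsg.Agent.S0246.negOne m F = 1 := by
      have : s * 1 = s * Cfsg.Agent.S0246.negOne m F := by rw [mul_one]; exact h1
      exact (mul_left_cancel this).symm
    rw [h3, mul_one] at hsz
    exact mk_mem_P0 σ hsz

/-- the image of `J` is an involution of `P0` -/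
theorem two_dvd_card_P0 (hm : 1 ≤ m) (h2 : (2 : F) ≠ 0) (σ : F ≃+* F) :
    2 ∣ Nat.card ↥(P0 (m := m) σ) := by
  let j : ↥(Matrix.symplecticGroup (Fin m) F) := ⟨Matrix.J (Fin m) F, SymplecticGroup.J_mem _ _⟩
  have hj : j ∈ fixS σ := by
    rw [mem_fixS]
    apply Subtype.ext
    rw [spField_coe]
    exact J_map_equiv σ
  have hjP : (QuotientGroup.mk j : Cfsg.PSp m F) ∈ P0 σ := mk_mem_P0 σ hj
  have hsq : j * j = Cfsg.Agent.S0246.negOne m F := by
    apply Subtype.ext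
    show Matrix.J (Fin m) F * Matrix.J (Fin m) F = -1
    exact Matrix.J_squared _ _
  have h1 : (QuotientGroup.mk j : Cfsg.PSp m F) ^ 2 = 1 := by
    rw [pow_two, ← QuotientGroup.mk_mul, hsq, QuotientGroup.eq_one_iff]
    exact Cfsg.Agent.S0246.negOne_mem_center
  have h3 : (QuotientGroup.mk j : Cfsg.PSp m F) ≠ 1 := by
    intro h0
    rw [QuotientGroup.eq_one_iff] at h0
    have hentry : (Matrix.J (Fin m) F) (Sum.inl ⟨0, hm⟩) (Sum.inr ⟨0, hm⟩) = -1 := by
      simp [Matrix.J, Matrix.fromBlocks_apply₁₂]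
    rcases (Cfsg.Agent.S0246.mem_center_iff hm j).1 h0 with h4 | h4
    · have := congrArg (fun A : ↥(Matrix.symplecticGroup (Fin m) F) =>
        (A : Matrix (Fin m ⊕ Fin m) (Fin m ⊕ Fin m) F) (Sum.inl ⟨0, hm⟩) (Sum.inr ⟨0, hm⟩)) h4
      simp only [j, hentry] at this
      have h5 : ((1 : ↥(Matrix.symplecticGroup (Fin m) F)) :
          Matrix (Fin m ⊕ Fin m) (Fin m ⊕ Fin m) F) (Sum.inl ⟨0, hm⟩) (Sum.inr ⟨0, hm⟩) = 0 := by
        show (1 : Matrix (Fin m ⊕ Fin m) (Fin m ⊕ Fin m) F) _ _ = 0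
        simp
      rw [h5] at this
      exact one_ne_zero (neg_eq_zero.1 this)
    · have := congrArg (fun A : ↥(Matrix.symplecticGroup (Fin m) F) =>
        (A : Matrix (Fin m ⊕ Fin m) (Fin m ⊕ Fin m) F) (Sum.inl ⟨0, hm⟩) (Sum.inr ⟨0, hm⟩)) h4
      simp only [j, hentry] at this
      have h5 : ((Cfsg.Agent.S0246.negOne m F : ↥(Matrix.symplecticGroup (Fin m) F)) :
          Matrix (Fin m ⊕ Fin m) (Fin m ⊕ Fin m) F) (Sum.inl ⟨0, hm⟩) (Sum.inr ⟨0, hm⟩) = 0 := by
        show (-1 : Matrix (Fin m ⊕ Fin m) (Fin m ⊕ Fin m) F) _ _ = 0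
        simp
      rw [h5] at this
      exact one_ne_zero (neg_eq_zero.1 this)
  have hord : orderOf (QuotientGroup.mk j : Cfsg.PSp m F) = 2 :=
    orderOf_eq_prime h1 h3
  have h4 : orderOf (⟨_, hjP⟩ : ↥(P0 (m := m) σ)) = 2 := by
    rw [← hord]
    exact Subgroup.orderOf_mk _ hjP
  rw [← h4]
  exact orderOf_dvd_natCard _

end

end Cfsg.Agent.Lib.Helper5.PSpBal
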