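import Mathlib
import Cfsg.Agent.Lib.Helper5.PSpBal2
import Cfsg.Agent.S0270

set_option autoImplicit false

/-! Normal subgroups of the image of the symplectic group over the fixed field. -/

namespace Cfsg.Agent.Lib.Helper5.PSpBal

open Matrix Cfsg.Agent.Lib.Helper5.PSpAut Cfsg.Agent.Lib.Helper5.PSpField
  Cfsg.Agent.Lib.Helper1.SpBasic Cfsg.Agent.Lib.Helper1.SpPoint Cfsg.Agent.Lib.Helper2.Symp

section index
variable {E : Type*} [Field E] [Fintype E] {m : ℕ}

/-- the root group of a vector, as a homomorphism -/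
def tHom (v : Fin m ⊕ Fin m → E) : Multiplicative E →* ↥(Matrix.symplecticGroup (Fin m) E) where
  toFun c := T v (Multiplicative.toAdd c)
  map_one' := T_zero v
  map_mul' c d := (T_add v (Multiplicative.toAdd c) (Multiplicative.toAdd d)).symm

/-- a noncentral normal subgroup of the symplectic group has index dividing the order of the
field -/
theorem index_dvd_of_normal (hm : 1 ≤ m)
    (N : Subgroup (Matrix.symplecticGroup (Fin m) E)) [hN : N.Normal]
    (hNZ : ¬ N ≤ Subgroup.center (Matrix.symplecticGroup (Fin m) E)) :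
    N.index ∣ Fintype.card E := by
  obtain ⟨v₀, hv₀⟩ := exists_ne_vec (F := E) hm
  have hNP : ¬ N ≤ pointStab v₀ :=
    fun hle => hNZ (Cfsg.Agent.S0270.le_center_of_le_pointStab v₀ hv₀ N hle)
  obtain ⟨h, hhN, hhP⟩ := SetLike.not_le_iff_exists.mp hNP
  have hsup : N ⊔ pointStab v₀ = ⊤ :=
    eq_top_of_pointStab_lt v₀ hv₀ _ le_sup_right h (Subgroup.mem_sup_left hhN) hhP
  set R : Subgroup (Matrix.symplecticGroup (Fin m) E) := (tHom v₀).range with hR
  have hT : ∀ (v : Fin m ⊕ Fin m → E) (c : E), T v c ∈ N ⊔ R := by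
    intro v c
    by_cases hv : v = 0
    · rw [hv, T_zero_left]; exact Subgroup.one_mem _
    obtain ⟨g, hg⟩ := Cfsg.Agent.S0271.result m v₀ v hv₀ hv
    have hgtop : g ∈ N ⊔ pointStab v₀ := hsup ▸ Subgroup.mem_top g
    rw [Subgroup.mem_sup_of_normal_left] at hgtop
    obtain ⟨n, hn, p, ⟨a, -, hp⟩, rfl⟩ := hgtop
    have e1 : T v c = n * (p * T v₀ c * p⁻¹) * n⁻¹ := by
      rw [← hg, ← conj_T]; group
    rw [e1, conj_T, hp, T_smul]
    have h1 : T v₀ (a * a * c) ∈ N ⊔ R :=
      Subgroup.mem_sup_right ⟨Multiplicative.ofAdd (a * a * c), rfl⟩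
    have h2 : n ∈ N ⊔ R := Subgroup.mem_sup_left hn
    exact Subgroup.mul_mem _ (Subgroup.mul_mem _ h2 h1) (Subgroup.inv_mem _ h2)
  have hNR : N ⊔ R = ⊤ := by
    rw [eq_top_iff, ← transvGroup_eq_top]
    unfold transvGroup
    rw [Subgroup.closure_le]
    rintro A ⟨w, c, hA⟩
    have : A = T w c := Subtype.ext hA
    rw [this]
    exact hT w c
  have h1 : N.index = N.relIndex R := by
    rw [← Subgroup.relIndex_top_right, ← hNR, sup_comm, Subgroup.relIndex_sup_right]
  rw [h1]
  have h2 : Nat.card R ∣ Nat.card (Multiplicative E) := Subgroup.card_range_dvd (tHom v₀)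
  have h3 : Nat.card (Multiplicative E) = Fintype.card E := by
    rw [Nat.card_eq_fintype_card, Fintype.card_multiplicative]
  rw [h3] at h2
  exact (Subgroup.relIndex_dvd_card N R).trans h2

end index

section embed
variable {F : Type*} [Field F] {m : ℕ}

/-- the symplectic group over a subfield inside the symplectic group -/
def embSp (E : Subfield F) :
    ↥(Matrix.symplecticGroup (Fin m) ↥E) →* ↥(Matrix.symplecticGroup (Fin m) F) where
  toFun A := ⟨A.1.map E.subtype, by
    have h := (SymplecticGroup.mem_iff).1 A.2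
    rw [SymplecticGroup.mem_iff]
    have h1 := congrArg (fun M => M.map E.subtype) h
    simp only [Matrix.map_mul, J_map, Matrix.transpose_map] at h1
    exact h1⟩
  map_one' := by
    apply Subtype.ext
    show (1 : Matrix (Fin m ⊕ Fin m) (Fin m ⊕ Fin m) ↥E).map E.subtype = 1
    exact Matrix.map_one _ (map_zero _) (map_one _)
  map_mul' A A' := by
    apply Subtype.ext
    show (A.1 * A'.1).map E.subtype = A.1.map E.subtype * A'.1.map E.subtype
    exact Matrix.map_mul

theorem embSp_coe (E : Subfield F) (A : ↥(Matrix.symplecticGroup (Fin m) ↥E)) :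
    ((embSp E A : ↥(Matrix.symplecticGroup (Fin m) F)) :
      Matrix (Fin m ⊕ Fin m) (Fin m ⊕ Fin m) F) = A.1.map E.subtype := rfl

theorem range_embSp (σ : F ≃+* F) (E : Subfield F) (hE : ∀ a, a ∈ E ↔ σ a = a) :
    (embSp (m := m) E).range = fixS σ := by
  apply le_antisymm
  · rintro _ ⟨A, rfl⟩
    rw [mem_fixS]
    apply Subtype.ext
    rw [spField_coe, embSp_coe]
    exact map_subtype_fixed σ E (fun a ha => (hE a).1 ha) A.1
  · intro s hs
    rw [mem_fixS] at hs
    have hs' : s.1.map σ = s.1 := by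
      rw [← spField_coe, hs]
    obtain ⟨N, hN⟩ := exists_map_fixed σ E (fun a ha => (hE a).2 ha) s.1 hs'
    have hNmem : N ∈ Matrix.symplecticGroup (Fin m) ↥E := by
      rw [SymplecticGroup.mem_iff]
      have h := (SymplecticGroup.mem_iff).1 s.2
      rw [← hN] at h
      have hinj : Function.Injective
          (fun M : Matrix (Fin m ⊕ Fin m) (Fin m ⊕ Fin m) ↥E => M.map E.subtype) :=
        Matrix.map_injective E.subtype_injective
      apply hinj
      simp only [Matrix.map_mul, J_map, Matrix.transpose_map]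
      exact h
    exact ⟨⟨N, hNmem⟩, Subtype.ext hN⟩

end embed

section normal
variable {F : Type*} [Field F] [Fintype F] {m : ℕ}

/-- the projection of the symplectic group over the fixed field -/
noncomputable def phiE (E : Subfield F) :
    ↥(Matrix.symplecticGroup (Fin m) ↥E) →* Cfsg.PSp m F :=
  (QuotientGroup.mk' (Subgroup.center ↥(Matrix.symplecticGroup (Fin m) F))).comp (embSp E)

theorem range_phiE (σ : F ≃+* F) (E : Subfield F) (hE : ∀ a, a ∈ E ↔ σ a = a) :
    (phiE (m := m) E).range = P0 σ := by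
  unfold phiE P0
  rw [MonoidHom.range_comp, range_embSp σ E hE]

/-- a nontrivial subgroup of `P0` normalized by `P0` has index dividing the order of the fixed
field -/
theorem relIndex_dvd_of_normal (hm : 1 ≤ m) (σ : F ≃+* F) (E : Subfield F)
    (hE : ∀ a, a ∈ E ↔ σ a = a) (D : Subgroup (Cfsg.PSp m F)) (hD : D ≤ P0 σ)
    (hnorm : ∀ k ∈ P0 (m := m) σ, ∀ y ∈ D, k * y * k⁻¹ ∈ D) (hnb : D ≠ ⊥) :
    D.relIndex (P0 σ) ∣ Nat.card ↥E := by
  classical
  haveI : Fintype ↥E := Fintype.ofFinite ↥E
  set N := D.comap (phiE (m := m) E) with hNdef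
  have hN : N.Normal := by
    refine ⟨fun n hn g => ?_⟩
    show phiE E (g * n * g⁻¹) ∈ D
    rw [map_mul, map_mul, map_inv]
    apply hnorm _ _ _ hn
    rw [← range_phiE σ E hE]
    exact ⟨g, rfl⟩
  have hNZ : ¬ N ≤ Subgroup.center (Matrix.symplecticGroup (Fin m) ↥E) := by
    intro hle
    apply hnb
    rw [eq_bot_iff]
    intro y hy
    have hyP := hD hy
    rw [← range_phiE σ E hE] at hyP
    obtain ⟨a, rfl⟩ := hyP
    have ha : a ∈ N := hy
    obtain ⟨z, hz⟩ := Cfsg.Agent.S0246.central_scalar a (hle ha)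
    rw [Subgroup.mem_bot]
    show (QuotientGroup.mk (embSp E a) : Cfsg.PSp m F) = 1
    apply mk_eq_one_of_scalar _ (z : F)
    rw [embSp_coe, hz]
    ext i j
    simp only [Matrix.map_apply, Matrix.smul_apply, Matrix.one_apply, smul_eq_mul]
    split_ifs <;> simp
  have h1 := index_dvd_of_normal hm N hNZ
  have h2 : N.index = D.relIndex (P0 σ) := by
    rw [← Subgroup.relIndex_top_right, hNdef, Subgroup.relIndex_comap, ← MonoidHom.range_eq_map,
      range_phiE σ E hE]
  rw [← h2, Nat.card_eq_fintype_card]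
  exact h1

end normal

end Cfsg.Agent.Lib.Helper5.PSpBal
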