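import Mathlib
import Cfsg.Agent.Lib.Helper5.PSpBal3

set_option autoImplicit false

/-! The centralizer of the fixed points of a field automorphism in the automorphism group. -/

namespace Cfsg.Agent.Lib.Helper5.PSpBal

open Matrix Module Cfsg.Agent.Lib.Helper5.PGO Cfsg.Agent.Lib.Helper2.Symp
  Cfsg.Agent.Lib.Helper1.SpCard Cfsg.Agent.Lib.Helper2.IsomDecomp Cfsg.Agent.Lib.Helper5.SpAut
  Cfsg.Agent.Lib.Helper5.FTPG Cfsg.Agent.Lib.Helper5.UAut Cfsg.Agent.Lib.Helper2.SpIsom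
  Cfsg.Agent.Lib.Helper2.SpFrames Cfsg.Agent.Lib.Helper1.SpBasic
  Cfsg.Agent.Lib.Helper5.GraphSplit Cfsg.Agent.Lib.Helper5.PSpAut

section
variable {F : Type*} [Field F] [Fintype F] {m : ℕ}

theorem T_mem_fixS (σ : F ≃+* F) {u : Fin m ⊕ Fin m → F} {c : F} (hu : ∀ i, σ (u i) = u i)
    (hc : σ c = c) : T u c ∈ fixS σ := by
  rw [mem_fixS, spField_T, hc]
  congr 1
  funext i
  exact hu i

/-- an automorphism centralizing the fixed points of a field automorphism is a field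
automorphism over the fixed field -/
theorem fix_of_centralizes (p : ℕ) [Fact p.Prime] [CharP F p] (hm : 1 ≤ m) (σ : F ≃+* F)
    (g : ↥(Cfsg.GSp m F)) (τ : F ≃+* F)
    (h : ∀ y ∈ P0 (m := m) σ, (cjC g * fa τ : MulAut (Cfsg.PSp m F)) y = y) :
    (∀ a, σ a = a → τ a = a) ∧ ∃ z : F, z ≠ 0 ∧
      ((g : GL (Fin m ⊕ Fin m) F) : Matrix (Fin m ⊕ Fin m) (Fin m ⊕ Fin m) F)
        = z • (1 : Matrix (Fin m ⊕ Fin m) (Fin m ⊕ Fin m) F) := by
  classical
  have d := sData_symp (m := m) (F := F)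
  have hμ : ((muS g : Fˣ) : F) ≠ 0 := (muS g).ne_zero
  have hτ0 : ∀ u : Fin m ⊕ Fin m → F, u ≠ 0 → (fun i => τ (u i)) ≠ 0 := by
    intro u hu h0
    apply hu
    funext i
    have := congrFun h0 i
    exact (map_eq_zero_iff _ τ.injective).1 this
  -- action on transvections
  have key : ∀ (u : Fin m ⊕ Fin m → F) (c : F), u ≠ 0 → (∀ i, σ (u i) = u i) → σ c = c →
      tv (altF_symp (m := m) (F := F))
        (((g : GL (Fin m ⊕ Fin m) F) : Matrix (Fin m ⊕ Fin m) (Fin m ⊕ Fin m) F) *ᵥ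
          (fun i => τ (u i))) (τ c * ((muS g : Fˣ) : F)⁻¹) = tv altF_symp u c := by
    intro u c hu hσu hσc
    have h1 := h _ (mk_mem_P0 σ (T_mem_fixS σ hσu hσc))
    rw [MulAut.mul_apply, fa_mk, cjC_mk, spField_T, spConj_T] at h1
    exact mk_T_inj p hm (mulVec_ne_zero g (hτ0 u hu)) hu h1
  have hpt : ∀ u : Fin m ⊕ Fin m → F, u ≠ 0 → (∀ i, σ (u i) = u i) → ∃ a : F,
      ((g : GL (Fin m ⊕ Fin m) F) : Matrix (Fin m ⊕ Fin m) (Fin m ⊕ Fin m) F) *ᵥ
          (fun i => τ (u i)) = a • u := by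
    intro u hu hσu
    have h1 := key u 1 hu hσu (map_one σ)
    rw [map_one, one_mul] at h1
    exact tv_eq_tv d (mulVec_ne_zero g (hτ0 u hu)) (inv_ne_zero hμ) h1
  -- basis vectors
  have hsingle : ∀ (θ : F ≃+* F) (i : Fin m ⊕ Fin m),
      (fun k => θ ((Pi.single i (1 : F) : Fin m ⊕ Fin m → F) k)) = Pi.single i (1 : F) := by
    intro θ i
    funext k
    by_cases hk : k = i
    · subst hk
      rw [Pi.single_eq_same, map_one]
    · rw [Pi.single_eq_of_ne hk, map_zero]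
  have hsne : ∀ i : Fin m ⊕ Fin m, (Pi.single i (1 : F) : Fin m ⊕ Fin m → F) ≠ 0 := by
    intro i h0
    have := congrFun h0 i
    rw [Pi.single_eq_same] at this
    exact one_ne_zero this
  -- `τ` fixes the fixed field
  have hτ : ∀ a, σ a = a → τ a = a := by
    intro c hσc
    set x₀ : Fin m ⊕ Fin m → F := Pi.single (Sum.inl ⟨0, hm⟩) 1 with hx₀def
    have hx₀ : x₀ ≠ 0 := hsne _
    have hσx₀ : ∀ i, σ (x₀ i) = x₀ i := fun i => congrFun (hsingle σ _) i
    obtain ⟨a, ha⟩ := hpt x₀ hx₀ hσx₀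
    have h1 := key x₀ 1 hx₀ hσx₀ (map_one σ)
    have h2 := key x₀ c hx₀ hσx₀ hσc
    rw [ha, SpAut.tv_smul] at h1 h2
    rw [map_one, one_mul] at h1
    obtain ⟨w, hw⟩ := d.exists_nonperp hx₀
    have e1 := LinearEquiv.congr_fun h1 w
    have e2 := LinearEquiv.congr_fun h2 w
    rw [tv_apply, tv_apply, add_right_inj] at e1 e2
    have hinj : ∀ s t : F, (s * Cfsg.sympForm m F w x₀) • x₀ = (t * Cfsg.sympForm m F w x₀) • x₀ →
        s = t := by
      intro s t hst
      have := smul_left_injective F hx₀ hst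
      exact mul_right_cancel₀ hw this
    have f1 := hinj _ _ e1
    have f2 := hinj _ _ e2
    have f3 : a * a * (τ c * ((muS g : Fˣ) : F)⁻¹) = (a * a * ((muS g : Fˣ) : F)⁻¹) * τ c := by ring
    rw [f3, f1, one_mul] at f2
    exact f2
  refine ⟨hτ, ?_⟩
  -- the matrix is scalar
  set G := ((g : GL (Fin m ⊕ Fin m) F) : Matrix (Fin m ⊕ Fin m) (Fin m ⊕ Fin m) F) with hG
  have hcol : ∀ i : Fin m ⊕ Fin m, ∃ a : F, ∀ k, G k i = a * (if k = i then 1 else 0) := by
    intro i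
    obtain ⟨a, ha⟩ := hpt (Pi.single i 1) (hsne i) (fun k => congrFun (hsingle σ i) k)
    rw [hsingle τ i, Matrix.mulVec_single_one] at ha
    refine ⟨a, fun k => ?_⟩
    have := congrFun ha k
    rw [Matrix.col_apply, Pi.smul_apply, smul_eq_mul, Pi.single_apply] at this
    exact this
  choose a ha using hcol
  have haeq : ∀ i j : Fin m ⊕ Fin m, a i = a j := by
    intro i j
    by_cases hij : i = j
    · rw [hij]
    set u : Fin m ⊕ Fin m → F := Pi.single i 1 + Pi.single j 1 with hu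
    have hσu : ∀ (θ : F ≃+* F) k, θ (u k) = u k := by
      intro θ k
      rw [hu, Pi.add_apply, map_add]
      have e1 := congrFun (hsingle θ i) k
      have e2 := congrFun (hsingle θ j) k
      simp only at e1 e2
      rw [e1, e2]
    have hu0 : u ≠ 0 := by
      intro h0
      have := congrFun h0 i
      rw [hu, Pi.add_apply, Pi.single_eq_same, Pi.single_eq_of_ne hij] at this
      simp at this
    obtain ⟨b, hb⟩ := hpt u hu0 (hσu σ)
    have e : (fun k => τ (u k)) = u := funext (hσu τ)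
    rw [e, hu, Matrix.mulVec_add, Matrix.mulVec_single_one, Matrix.mulVec_single_one] at hb
    have hi := congrFun hb i
    have hj := congrFun hb j
    simp only [Pi.add_apply, Matrix.col_apply, Pi.smul_apply, smul_eq_mul, Pi.single_eq_same,
      Pi.single_eq_of_ne hij, Pi.single_eq_of_ne (Ne.symm hij)] at hi hj
    rw [ha i i, ha j i, if_pos rfl, if_neg hij] at hi
    rw [ha i j, ha j j, if_pos rfl, if_neg (Ne.symm hij)] at hj
    have h1 : a i = b := by linear_combination hi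
    have h2 : a j = b := by linear_combination hj
    rw [h1, h2]
  set i₀ : Fin m ⊕ Fin m := Sum.inl ⟨0, hm⟩ with hi₀
  have hGs : G = a i₀ • (1 : Matrix (Fin m ⊕ Fin m) (Fin m ⊕ Fin m) F) := by
    ext k i
    rw [ha i k, haeq i i₀, Matrix.smul_apply, Matrix.one_apply, smul_eq_mul]
  refine ⟨a i₀, ?_, hGs⟩
  intro h0
  rw [h0, zero_smul] at hGs
  have hx := mulVec_ne_zero g (hsne i₀)
  apply hx
  show G *ᵥ _ = 0
  rw [hGs, Matrix.zero_mulVec]

end

end Cfsg.Agent.Lib.Helper5.PSpBal
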