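import Mathlib
import Cfsg.Agent.Lib.Helper5.PSpBal4
import Cfsg.Agent.Lib.Helper5.PSpBal5
import Cfsg.Agent.Lib.Helper5.PSpAut8

set_option autoImplicit false

/-! The `p'`-core of the centralizer of a field automorphism of order `p` is trivial when `p`
divides the number of fixed points. -/

namespace Cfsg.Agent.Lib.Helper5.PSpBal

open Matrix Cfsg.Agent.Lib.Helper5.PSpAut Cfsg.Agent.Lib.Helper5.PSpField
  Cfsg.Agent.Lib.Helper1.SpBasic

section
variable {F : Type*} [Field F] [Fintype F] {m : ℕ}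

/-- the fixed field of an automorphism -/
def fixF (σ : F ≃+* F) : Subfield F where
  carrier := {a | σ a = a}
  mul_mem' := by
    intro a b ha hb
    show σ (a * b) = a * b
    rw [map_mul, ha, hb]
  one_mem' := map_one σ
  add_mem' := by
    intro a b ha hb
    show σ (a + b) = a + b
    rw [map_add, ha, hb]
  zero_mem' := map_zero σ
  neg_mem' := by
    intro a ha
    show σ (-a) = -a
    rw [map_neg, ha]
  inv_mem' := by
    intro a ha
    show σ a⁻¹ = a⁻¹
    rw [map_inv₀, ha]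

theorem mem_fixF (σ : F ≃+* F) (a : F) : a ∈ fixF σ ↔ σ a = a := Iff.rfl

/-- the order of a subfield is prime to every prime different from the characteristic -/
theorem coprime_card_subfield (r : ℕ) [Fact r.Prime] [CharP F r] (E : Subfield F) {p : ℕ}
    (hp : p.Prime) (hpr : p ≠ r) : (Nat.card ↥E).Coprime p := by
  classical
  haveI : Fintype ↥E := Fintype.ofFinite ↥E
  obtain ⟨n, -, hn⟩ := FiniteField.card F r
  have h1 : Fintype.card F = Fintype.card ↥E ^ Module.finrank ↥E F := Module.card_eq_pow_finrank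
  have h2 : 0 < Module.finrank ↥E F := Module.finrank_pos
  have h3 : Fintype.card ↥E ∣ Fintype.card F := by
    rw [h1]
    exact dvd_pow_self _ (Nat.pos_iff_ne_zero.1 h2)
  rw [Nat.card_eq_fintype_card]
  apply Nat.Coprime.coprime_dvd_left h3
  rw [hn]
  apply Nat.Coprime.pow_left
  exact (Nat.coprime_primes (Fact.out : r.Prime) hp).2 (Ne.symm hpr)

theorem two_ne_zero_of_char (r : ℕ) [Fact r.Prime] [CharP F r] (hr : r ≠ 2) : (2 : F) ≠ 0 := by
  intro h0
  have h1 : ((2 : ℕ) : F) = 0 := by exact_mod_cast h0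
  rw [CharP.cast_eq_zero_iff F r] at h1
  exact hr ((Nat.prime_dvd_prime_iff_eq (Fact.out : r.Prime) Nat.prime_two).1 h1)

theorem e1_ne_zero (hm : 1 ≤ m) :
    (Pi.single (Sum.inl ⟨0, hm⟩) (1 : F) : Fin m ⊕ Fin m → F) ≠ 0 := by
  intro h0
  have := congrFun h0 (Sum.inl ⟨0, hm⟩)
  rw [Pi.single_eq_same] at this
  exact one_ne_zero this

theorem e1_fixed (hm : 1 ≤ m) (σ : F ≃+* F) (i : Fin m ⊕ Fin m) :
    σ ((Pi.single (Sum.inl ⟨0, hm⟩) (1 : F) : Fin m ⊕ Fin m → F) i)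
      = (Pi.single (Sum.inl ⟨0, hm⟩) (1 : F) : Fin m ⊕ Fin m → F) i := by
  by_cases hi : i = Sum.inl ⟨0, hm⟩
  · subst hi
    rw [Pi.single_eq_same, map_one]
  · rw [Pi.single_eq_of_ne hi, map_zero]

/-- the main lemma: no nontrivial normal `p'`-subgroup -/
theorem no_core (p r : ℕ) [Fact p.Prime] [Fact r.Prime] [CharP F r] (hpr : p ≠ r) (hm : 2 ≤ m)
    (σ : F ≃+* F) (hσ : orderOf σ = p) (A : Subgroup (MulAut (Cfsg.PSp m F)))
    (hinn : ∀ k : Cfsg.PSp m F, MulAut.conj k ∈ A)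
    (hdvd : p ∣ Nat.card ↥(MonoidHom.eqLocus (fa σ : MulAut (Cfsg.PSp m F)).toMonoidHom
      (MonoidHom.id (Cfsg.PSp m F))))
    (N : Subgroup (MulAut (Cfsg.PSp m F))) (hN : HasCore p A (fa σ) N) : False := by
  classical
  have hm1 : 1 ≤ m := by omega
  have hp : p.Prime := Fact.out
  obtain ⟨hnb, hle, hnorm, hcop⟩ := hN
  have hc := conj_injective_PSp (F := F) (m := m) r hm1
  set Kσ := MonoidHom.eqLocus (fa σ : MulAut (Cfsg.PSp m F)).toMonoidHom
    (MonoidHom.id (Cfsg.PSp m F)) with hKσ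
  have hmemK : ∀ k : Cfsg.PSp m F, k ∈ Kσ ↔ (fa σ : MulAut (Cfsg.PSp m F)) k = k :=
    fun k => Iff.rfl
  have hconjH : ∀ k ∈ Kσ, MulAut.conj k ∈ A ⊓ Subgroup.centralizer
      ({(fa σ : MulAut (Cfsg.PSp m F))} : Set (MulAut (Cfsg.PSp m F))) :=
    fun k hk => ⟨hinn k, (conj_mem_centralizer_iff hc _ k).2 hk⟩
  set E := fixF σ with hEdef
  have hE : ∀ a, a ∈ E ↔ σ a = a := fun a => Iff.rfl
  -- step 1: `p` divides the order of `P0`
  have hP0K : P0 (m := m) σ ≤ Kσ := P0_le_fix σ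
  have hdvd0 : p ∣ Nat.card ↥(P0 (m := m) σ) := by
    by_cases hp2 : p = 2
    · rw [hp2]
      apply two_dvd_card_P0 hm1 (two_ne_zero_of_char r _) σ
      rw [← hp2]
      exact Ne.symm hpr
    · have hodd : Odd p := hp.odd_of_ne_two hp2
      have hσp : σ ^ p = 1 := by rw [← hσ]; exact pow_orderOf_eq_one σ
      have heq : Kσ = P0 σ := le_antisymm (fix_le_P0_of_odd hm1 σ hodd hσp) hP0K
      rw [← heq]
      exact hdvd
  -- step 2: the part of `N` in the image of the fixed points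
  set D : Subgroup (Cfsg.PSp m F) := N.comap (MulAut.conj : Cfsg.PSp m F →* _) ⊓ Kσ with hD
  have hDnorm : ∀ k ∈ Kσ, ∀ y ∈ D, k * y * k⁻¹ ∈ D := by
    rintro k hk y ⟨hy1, hy2⟩
    refine ⟨?_, Kσ.mul_mem (Kσ.mul_mem hk hy2) (Kσ.inv_mem hk)⟩
    show MulAut.conj (k * y * k⁻¹) ∈ N
    rw [map_mul, map_mul, map_inv]
    exact hnorm _ (hconjH k hk) _ hy1
  have hD1 : D ⊓ P0 σ = ⊥ := by
    by_contra hne
    have h1 := relIndex_dvd_of_normal hm1 σ E hE (D ⊓ P0 σ) inf_le_right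
      (fun k hk y hy => ⟨hDnorm k (hP0K hk) y hy.1,
        (P0 σ).mul_mem ((P0 σ).mul_mem hk hy.2) ((P0 σ).inv_mem hk)⟩) hne
    have h2 : Nat.card ↥(D ⊓ P0 σ) * (D ⊓ P0 σ).relIndex (P0 σ) = Nat.card ↥(P0 (m := m) σ) := by
      have := Subgroup.relIndex_mul_relIndex (⊥ : Subgroup (Cfsg.PSp m F)) (D ⊓ P0 σ) (P0 σ)
        bot_le inf_le_right
      rw [Subgroup.relIndex_bot_left, Subgroup.relIndex_bot_left] at this
      exact this
    have h3 : (Nat.card ↥(D ⊓ P0 σ)).Coprime p := by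
      have hmap : (D ⊓ P0 σ).map (MulAut.conj : Cfsg.PSp m F →* _) ≤ N := by
        rintro _ ⟨y, hy, rfl⟩
        exact hy.1.1
      have h4 := Subgroup.card_dvd_of_le hmap
      rw [Nat.card_congr (Subgroup.equivMapOfInjective _ _ hc).symm.toEquiv] at h4
      exact Nat.Coprime.coprime_dvd_left h4 hcop
    have h5 : ((D ⊓ P0 σ).relIndex (P0 σ)).Coprime p :=
      Nat.Coprime.coprime_dvd_left h1 (coprime_card_subfield r E hp hpr)
    rw [← h2] at hdvd0
    have h6 := (Nat.Coprime.mul_left h3 h5)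
    exact hp.one_lt.ne' (Nat.eq_one_of_dvd_coprimes h6.symm (dvd_refl p) hdvd0)
  -- step 3: `D` centralizes `P0`, hence is trivial
  have hDbot : D = ⊥ := by
    rw [eq_bot_iff]
    intro k hk
    rw [Subgroup.mem_bot]
    have hkK : k ∈ Kσ := hk.2
    have hcomm : ∀ y ∈ P0 (m := m) σ, k * y * k⁻¹ = y := by
      intro y hy
      have h1 : k * (y * k⁻¹ * y⁻¹) ∈ D ⊓ P0 σ := by
        refine ⟨D.mul_mem hk ?_, ?_⟩
        · exact hDnorm y (hP0K hy) _ (D.inv_mem hk)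
        · have h2 : k * y * k⁻¹ ∈ P0 σ := P0_conj_mem σ ((hmemK k).1 hkK) hy
          have h3 : k * (y * k⁻¹ * y⁻¹) = k * y * k⁻¹ * y⁻¹ := by group
          rw [h3]
          exact (P0 σ).mul_mem h2 ((P0 σ).inv_mem hy)
      rw [hD1, Subgroup.mem_bot] at h1
      have h3 : k * y * k⁻¹ = k * (y * k⁻¹ * y⁻¹) * y := by group
      rw [h3, h1, one_mul]
    obtain ⟨s, rfl⟩ := QuotientGroup.mk_surjective k
    have h1 : ∀ y ∈ P0 (m := m) σ,
        (cjC (spIncl s) * fa (1 : F ≃+* F) : MulAut (Cfsg.PSp m F)) y = y := by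
      intro y hy
      rw [map_one, mul_one, cjC_spIncl, MulAut.conj_apply]
      exact hcomm y hy
    obtain ⟨-, z, -, hz⟩ := fix_of_centralizes r hm1 σ (spIncl s) 1 h1
    exact mk_eq_one_of_scalar s z hz
  -- step 4: `N` fixes the fixed points
  have hNfix : ∀ n ∈ N, ∀ k ∈ Kσ, n k = k := by
    intro n hn k hk
    have hnC : (fa σ : MulAut (Cfsg.PSp m F)) * n = n * fa σ := by
      have h0 : n ∈ Subgroup.centralizer
          ({(fa σ : MulAut (Cfsg.PSp m F))} : Set (MulAut (Cfsg.PSp m F))) := (hle hn).2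
      rw [Subgroup.mem_centralizer_iff] at h0
      exact h0 _ rfl
    have hnk : n k ∈ Kσ := by
      rw [hmemK]
      have h1 := congrArg (fun θ : MulAut (Cfsg.PSp m F) => θ k) hnC
      simp only [MulAut.mul_apply] at h1
      rw [(hmemK k).1 hk] at h1
      exact h1
    have h1 : n k * k⁻¹ ∈ D := by
      refine ⟨?_, Kσ.mul_mem hnk (Kσ.inv_mem hk)⟩
      show MulAut.conj (n k * k⁻¹) ∈ N
      have e : MulAut.conj (n k * k⁻¹) = n * (MulAut.conj k * n⁻¹ * (MulAut.conj k)⁻¹) := by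
        rw [map_mul, map_inv, ← mul_assoc, ← mul_assoc, mul_conj_eq]
        group
      rw [e]
      exact N.mul_mem hn (hnorm _ (hconjH k hk) _ (N.inv_mem hn))
    rw [hDbot, Subgroup.mem_bot] at h1
    exact mul_inv_eq_one.1 h1
  -- step 5: `N` consists of field automorphisms over the fixed field
  have hNle : N ≤ (Subgroup.zpowers σ).map (fa : (F ≃+* F) →* MulAut (Cfsg.PSp m F)) := by
    intro n hn
    have hfixP : ∀ y ∈ P0 (m := m) σ, n y = y := fun y hy => hNfix n hn y (hP0K hy)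
    have hT : T (Pi.single (Sum.inl ⟨0, hm1⟩) (1 : F) : Fin m ⊕ Fin m → F) (1 : F) ∈ fixS σ :=
      T_mem_fixS σ (e1_fixed hm1 σ) (map_one σ)
    obtain ⟨g, τ, rfl⟩ := aut_PSp_of_fixes hm r n (e1_ne_zero hm1) one_ne_zero
      (hfixP _ (mk_mem_P0 σ hT))
    obtain ⟨hτ, z, hz0, hz⟩ := fix_of_centralizes r hm1 σ g τ hfixP
    rw [cjC_eq_one_of_scalar g z hz0 hz, one_mul]
    exact ⟨τ, mem_zpowers_of_fixes σ τ hτ, rfl⟩
  have h1 : Nat.card ↥N ∣ p := by
    have h2 := Subgroup.card_dvd_of_le hNle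
    have h3 : Nat.card ↥((Subgroup.zpowers σ).map (fa : (F ≃+* F) →* MulAut (Cfsg.PSp m F)))
        ∣ Nat.card ↥(Subgroup.zpowers σ) := Subgroup.card_map_dvd _ _
    rw [Nat.card_zpowers, hσ] at h3
    exact h2.trans h3
  have h2 : Nat.card ↥N = 1 := Nat.eq_one_of_dvd_coprimes hcop (dvd_refl _) h1
  exact hnb (Subgroup.card_eq_one.1 h2)

end

end Cfsg.Agent.Lib.Helper5.PSpBal
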