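import Mathlib
import Cfsg.Agent.Lib.Helper4.LWB_Defs
import Cfsg.Agent.Lib.Helper1.Jordan5
import Cfsg.Agent.Lib.Helper4.LWB_D

/-!
# Livingstone–Wagner (b), package E (helper5): the group induced by `N_G(P)` on `Fix(P)`

`P` a Sylow 2-subgroup of the pointwise stabiliser of `t` points in a `t`-transitive group `G`.
* `range_subset_FF` : the `t` points are fixed by `P`;
* `nn_trans` : the induced group `NN` is `t`-transitive on `FF` (Witt);
* `nn_odd` : the stabiliser in `NN` of the `t` points has odd order;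
* `struct_small`, `struct_large_of_hall`, `struct_large`.

NOTE (Dec 4): S0747/S0748 use helper4's own copy `Lib/Helper4/LWB_E.lean`; this file is a reserve copy,
moved to its own namespace `Cfsg.Agent.Lib.Helper5.LWBE` so that the two can never clash.
-/

set_option autoImplicit false

namespace Cfsg.Agent.Lib.Helper5.LWBE

open MulAction Cfsg.Agent.Lib.Helper4.LWB

section struct

open Cfsg.Agent.Lib.Helper2.AltGen

variable {α : Type*} [Fintype α] [DecidableEq α]

variable (G : Subgroup (Equiv.Perm α)) {t : ℕ} (δ : Fin t ↪ α)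
  (P : Sylow 2 (fixingSubgroup G (Set.range δ)))

theorem range_subset_FF : ∀ i, δ i ∈ FF G δ P := by
  intro i
  rw [mem_FF]
  intro h hh
  have := wittP_le δ P hh
  rw [mem_fixingSubgroup_iff] at this
  exact this _ ⟨i, rfl⟩

/-- the normaliser of `P` permutes the fixed points of `P` -/
theorem smul_mem_FF {g : G}
    (hg : g ∈ Subgroup.normalizer ((wittP δ P : Subgroup G) : Set G)) {z : α}
    (hz : z ∈ FF G δ P) : g • z ∈ FF G δ P := by
  rw [mem_FF] at hz ⊢
  intro h hh
  have h1 : g⁻¹ * h * g ∈ wittP δ P := by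
    have := (Subgroup.mem_normalizer_iff.mp (Subgroup.inv_mem _ hg) h).mp hh
    simpa using this
  have h3 : (g⁻¹ * h * g) • z = z := hz _ h1
  calc h • g • z = g • (g⁻¹ * h * g) • z := by
        simp only [mul_smul, smul_inv_smul]
    _ = g • z := by rw [h3]

/-- the `t` points as an embedding into `FF` -/
def δF : Fin t ↪ ↥(FF G δ P) :=
  ⟨fun i => ⟨δ i, range_subset_FF G δ P i⟩, fun i j hij => δ.injective (by
    simpa using congrArg Subtype.val hij)⟩

theorem δF_apply (i : Fin t) : ((δF G δ P i : ↥(FF G δ P)) : α) = δ i := rfl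

/-- the homomorphism from the normaliser of `P` to the permutations of `FF` -/
def indHom : ↥(Subgroup.normalizer ((wittP δ P : Subgroup G) : Set G)) →*
    Equiv.Perm ↥(FF G δ P) where
  toFun g := Equiv.Perm.subtypePerm ((g : G) : Equiv.Perm α) (fun x =>
    ⟨fun h => by
      have h2 := smul_mem_FF G δ P (Subgroup.inv_mem _ g.2) h
      have e : ((g : G))⁻¹ • (((g : G) : Equiv.Perm α) x) = x := inv_smul_smul (g : G) x
      rwa [e] at h2,
     fun h => smul_mem_FF G δ P g.2 h⟩)
  map_one' := by
    ext z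
    rfl
  map_mul' := by
    intro g h
    ext z
    rfl

theorem indHom_apply (g : ↥(Subgroup.normalizer ((wittP δ P : Subgroup G) : Set G)))
    (z : ↥(FF G δ P)) : ((indHom G δ P g z : ↥(FF G δ P)) : α) = ((g : G) : Equiv.Perm α) z :=
  rfl

theorem NN_eq_range : NN G δ P = (indHom G δ P).range := by
  ext ν
  rw [mem_NN, MonoidHom.mem_range]
  constructor
  · rintro ⟨g, hg, h⟩
    refine ⟨⟨g, hg⟩, ?_⟩
    ext z
    rw [indHom_apply]
    exact h z
  · rintro ⟨g, rfl⟩
    exact ⟨g.1, g.2, fun z => rfl⟩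

/-- Witt: the induced group is `t`-transitive on `FF` -/
theorem nn_trans [IsMultiplyPretransitive G α t] :
    IsMultiplyPretransitive (NN G δ P) ↥(FF G δ P) t := by
  have key : ∀ e : Fin t ↪ ↥(FF G δ P), ∃ ν : ↥(NN G δ P), ν • e = δF G δ P := by
    intro e
    set e' : Fin t ↪ α := e.trans (Function.Embedding.subtype _) with he'
    have he : ∀ i, ∀ h ∈ wittP δ P, h • e' i = e' i := by
      intro i h hh
      have := (e i).2
      rw [mem_FF] at this
      exact this h hh
    obtain ⟨n, hn, hne⟩ := witt δ P e' he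
    refine ⟨⟨indHom G δ P ⟨n, hn⟩, ?_⟩, ?_⟩
    · rw [NN_eq_range]; exact ⟨_, rfl⟩
    · ext i
      show ((indHom G δ P ⟨n, hn⟩ (e i) : ↥(FF G δ P)) : α) = δ i
      rw [indHom_apply]
      have := congrArg (fun f => f i) hne
      exact this
  refine ⟨fun e e' => ?_⟩
  obtain ⟨ν, hν⟩ := key e
  obtain ⟨ν', hν'⟩ := key e'
  exact ⟨ν'⁻¹ * ν, by
    rw [show (ν'⁻¹ * ν) • e = ν'⁻¹ • ν • e from mul_smul _ _ _, hν, ← hν']
    exact inv_smul_smul _ _⟩

/-- the stabiliser in `NN` of the `t` points has odd order (it is a quotient of `N_K(P)/P`) -/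
theorem nn_odd : Odd (Nat.card (stabilizer (NN G δ P) (δF G δ P))) := by
  classical
  have hWK : wittP δ P ≤ fixingSubgroup G (Set.range δ) := wittP_le δ P
  have hWN : wittP δ P ≤ Subgroup.normalizer ((wittP δ P : Subgroup G) : Set G) :=
    Subgroup.le_normalizer
  have h1 : (stabilizer (NN G δ P) (δF G δ P)).map (NN G δ P).subtype ≤
      ((fixingSubgroup G (Set.range δ)).subgroupOf
        (Subgroup.normalizer ((wittP δ P : Subgroup G) : Set G))).map (indHom G δ P) := by
    rintro _ ⟨s, hs, rfl⟩
    have hsN : (s : Equiv.Perm ↥(FF G δ P)) ∈ (indHom G δ P).range := by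
      rw [← NN_eq_range]
      exact s.2
    obtain ⟨g, hg⟩ := hsN
    refine ⟨g, ?_, hg⟩
    rw [SetLike.mem_coe, Subgroup.mem_subgroupOf, mem_fixingSubgroup_iff]
    rintro _ ⟨i, rfl⟩
    have h2 : s • (δF G δ P) = δF G δ P := hs
    have h3 := congrArg (fun f => ((f i : ↥(FF G δ P)) : α)) h2
    have h4 : ((s • (δF G δ P)) i : ↥(FF G δ P)) = (s : Equiv.Perm ↥(FF G δ P)) (δF G δ P i) :=
      rfl
    simp only [h4, ← hg, indHom_apply, δF_apply] at h3
    exact h3
  have h2 : (wittP δ P).subgroupOf (Subgroup.normalizer ((wittP δ P : Subgroup G) : Set G)) ≤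
      (indHom G δ P).ker := by
    intro g hg
    rw [MonoidHom.mem_ker]
    ext z
    rw [indHom_apply]
    have := z.2
    rw [mem_FF] at this
    exact this _ hg
  have c1 : Nat.card (stabilizer (NN G δ P) (δF G δ P)) =
      Nat.card ((stabilizer (NN G δ P) (δF G δ P)).map (NN G δ P).subtype) :=
    (Subgroup.card_map_of_injective (Subgroup.subtype_injective _)).symm
  have c2 := Subgroup.card_dvd_of_le h1
  have c3 := Subgroup.relIndex_ker (indHom G δ P)
    (K := (fixingSubgroup G (Set.range δ)).subgroupOf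
        (Subgroup.normalizer ((wittP δ P : Subgroup G) : Set G)))
  have c4 := Subgroup.relIndex_dvd_of_le_left ((fixingSubgroup G (Set.range δ)).subgroupOf
        (Subgroup.normalizer ((wittP δ P : Subgroup G) : Set G))) h2
  have c5 : ((wittP δ P).subgroupOf
        (Subgroup.normalizer ((wittP δ P : Subgroup G) : Set G))).relIndex
      ((fixingSubgroup G (Set.range δ)).subgroupOf
        (Subgroup.normalizer ((wittP δ P : Subgroup G) : Set G))) =
      (wittP δ P).relIndex (fixingSubgroup G (Set.range δ) ⊓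
        Subgroup.normalizer ((wittP δ P : Subgroup G) : Set G)) := by
    rw [← Subgroup.inf_subgroupOf_right (fixingSubgroup G (Set.range δ))
      (Subgroup.normalizer ((wittP δ P : Subgroup G) : Set G)),
      Subgroup.relIndex_subgroupOf inf_le_right]
  have c6 : (wittP δ P).relIndex (fixingSubgroup G (Set.range δ) ⊓
        Subgroup.normalizer ((wittP δ P : Subgroup G) : Set G)) ∣
      (wittP δ P).relIndex (fixingSubgroup G (Set.range δ)) := by
    have := Subgroup.relIndex_mul_relIndex (wittP δ P) (fixingSubgroup G (Set.range δ) ⊓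
        Subgroup.normalizer ((wittP δ P : Subgroup G) : Set G)) (fixingSubgroup G (Set.range δ))
        (le_inf hWK hWN) inf_le_left
    exact Dvd.intro _ this
  have c7 : (wittP δ P).relIndex (fixingSubgroup G (Set.range δ)) =
      (P : Subgroup (fixingSubgroup G (Set.range δ))).index := by
    rw [Subgroup.relIndex]
    congr 1
    exact Subgroup.comap_map_eq_self_of_injective (Subgroup.subtype_injective _) _
  have c8 : ¬ 2 ∣ (P : Subgroup (fixingSubgroup G (Set.range δ))).index := P.not_dvd_index
  have c9 : Nat.card (stabilizer (NN G δ P) (δF G δ P)) ∣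
      (P : Subgroup (fixingSubgroup G (Set.range δ))).index := by
    rw [c1]
    refine c2.trans ?_
    rw [← c3]
    refine c4.trans ?_
    rw [c5]
    refine c6.trans ?_
    rw [c7]
  rw [← Nat.not_even_iff_odd, even_iff_two_dvd]
  intro h
  exact c8 (dvd_trans h c9)

/-- if the stabiliser of the `t` points is trivial, so is every `t`-point stabiliser -/
theorem nn_stab_bot [IsMultiplyPretransitive G α t]
    (h : stabilizer (NN G δ P) (δF G δ P) = ⊥) (e : Fin t ↪ ↥(FF G δ P)) :
    stabilizer (NN G δ P) e = ⊥ := by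
  have := nn_trans G δ P
  obtain ⟨ν, hν⟩ := exists_smul_eq (NN G δ P) (δF G δ P) e
  have hc := stabilizer_smul_eq_stabilizer_map_conj ν (δF G δ P)
  rw [h, Subgroup.map_bot] at hc
  rw [← hν]
  exact hc

/-- `t + 1 ≤ |F| ≤ t + 3`: the induced group contains the alternating group -/
theorem struct_small (ht : 4 ≤ t) [IsMultiplyPretransitive G α t]
    (h1 : t + 1 ≤ (FF G δ P).card) (h3 : (FF G δ P).card ≤ t + 3) :
    alternatingGroup ↥(FF G δ P) ≤ NN G δ P := by
  classical
  have htr := nn_trans G δ P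
  have hc : Nat.card ↥(FF G δ P) = (FF G δ P).card := by
    rw [Nat.card_eq_fintype_card, Fintype.card_coe]
  rcases (by omega : (FF G δ P).card = t + 1 ∨ (FF G δ P).card = t + 2 ∨
      (FF G δ P).card = t + 3) with h | h | h
  · have : NN G δ P = ⊤ := by
      apply Equiv.Perm.eq_top_of_isMultiplyPretransitive
      have e : Nat.card ↥(FF G δ P) - 1 = t := by omega
      rw [e]
      exact htr
    rw [this]
    exact le_top
  · apply IsMultiplyPretransitive.alternatingGroup_le
    have e : Nat.card ↥(FF G δ P) - 2 = t := by omega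
    rw [e]
    exact htr
  · have hodd := nn_odd G δ P
    have hcF : Fintype.card ↥(FF G δ P) = t + 3 := by rw [Fintype.card_coe, h]
    -- the stabiliser is non-trivial, by Jordan
    have hne : stabilizer (NN G δ P) (δF G δ P) ≠ ⊥ := by
      intro hbot
      have hsharp := nn_stab_bot G δ P hbot
      rcases (by omega : t = 4 ∨ t = 5 ∨ 6 ≤ t) with rfl | rfl | h6
      · have := Cfsg.Agent.Lib.Helper1.SharpTrans.jordan_four (G := NN G δ P)
          (α := ↥(FF G δ P)) (by omega) hsharp
        omega
      · have := Cfsg.Agent.Lib.Helper1.SharpTrans.jordan_five (G := NN G δ P)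
          (α := ↥(FF G δ P)) (by omega) hsharp
        omega
      · have := Cfsg.Agent.Lib.Helper1.SharpTrans.jordan_large t h6 (NN G δ P)
          ↥(FF G δ P) (by omega) hsharp
        omega
    obtain ⟨s, hs, hs1⟩ : ∃ s ∈ stabilizer (NN G δ P) (δF G δ P), s ≠ 1 := by
      by_contra hcon
      push Not at hcon
      exact hne ((Subgroup.eq_bot_iff_forall _).mpr hcon)
    have hσ1 : (s : Equiv.Perm ↥(FF G δ P)) ≠ 1 := fun h => hs1 (Subtype.ext h)
    have hσfix : ∀ i, (s : Equiv.Perm ↥(FF G δ P)) (δF G δ P i) = δF G δ P i := by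
      intro i
      have h2 : s • (δF G δ P) = δF G δ P := hs
      exact congrArg (fun f => f i) h2
    have hsupp : (s : Equiv.Perm ↥(FF G δ P)).support ⊆
        (Finset.univ.image (δF G δ P))ᶜ := by
      intro z hz
      rw [Finset.mem_compl, Finset.mem_image]
      rintro ⟨i, -, rfl⟩
      exact (Equiv.Perm.mem_support.mp hz) (hσfix i)
    have hcard : (s : Equiv.Perm ↥(FF G δ P)).support.card ≤ 3 := by
      refine (Finset.card_le_card hsupp).trans ?_
      rw [Finset.card_compl, Finset.card_image_of_injective _ (δF G δ P).injective,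
        Finset.card_univ, Fintype.card_fin, hcF]
      omega
    have h0 : (s : Equiv.Perm ↥(FF G δ P)).support.card ≠ 0 := by
      rw [Ne, Finset.card_eq_zero, Equiv.Perm.support_eq_empty_iff]
      exact hσ1
    have h1' : (s : Equiv.Perm ↥(FF G δ P)).support.card ≠ 1 :=
      Equiv.Perm.card_support_ne_one _
    have h2' : (s : Equiv.Perm ↥(FF G δ P)).support.card ≠ 2 := by
      intro h2
      have hswap := Equiv.Perm.card_support_eq_two.mp h2
      have ho : orderOf (s : Equiv.Perm ↥(FF G δ P)) = 2 := hswap.orderOf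
      have ho2 : orderOf (⟨s, hs⟩ : stabilizer (NN G δ P) (δF G δ P)) = 2 := by
        rw [Subgroup.orderOf_mk, ← Subgroup.orderOf_coe, ho]
      have hd : 2 ∣ Nat.card (stabilizer (NN G δ P) (δF G δ P)) := by
        rw [← ho2]
        exact orderOf_dvd_natCard _
      exact (Nat.not_even_iff_odd.mpr hodd) (even_iff_two_dvd.mpr hd)
    have h3' : (s : Equiv.Perm ↥(FF G δ P)).support.card = 3 := by omega
    have h3c := card_support_eq_three_iff.mp h3'
    have hprim : IsPreprimitive (NN G δ P) ↥(FF G δ P) := by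
      have h2t : IsMultiplyPretransitive (NN G δ P) ↥(FF G δ P) 2 :=
        isMultiplyPretransitive_of_le (n := t) (by omega) (by rw [hc]; omega)
      exact isPreprimitive_of_is_two_pretransitive h2t
    exact Equiv.Perm.alternatingGroup_le_of_isPreprimitive_of_isThreeCycle_mem hprim h3c s.2

/-- `t + 4 ≤ |F|`, given the conclusion of M. Hall's theorem for `NN` (package D):
then `|F| = t + 7`, `t ≤ 5` and the induced group is sharply `t`-transitive -/
theorem struct_large_of_hall (_ht : 4 ≤ t) [IsMultiplyPretransitive G α t]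
    (h4 : t + 4 ≤ (FF G δ P).card)
    (hall : Odd (Nat.card (stabilizer (NN G δ P) (δF G δ P))) →
      t + 4 ≤ Fintype.card ↥(FF G δ P) → IsMultiplyPretransitive (NN G δ P) ↥(FF G δ P) t →
      Fintype.card ↥(FF G δ P) = t + 7 ∧
        ∀ e' : Fin t ↪ ↥(FF G δ P), stabilizer (NN G δ P) e' = ⊥) :
    (FF G δ P).card = t + 7 ∧ t ≤ 5 ∧ IsMultiplyPretransitive (NN G δ P) ↥(FF G δ P) t ∧
      ∀ e : Fin t ↪ ↥(FF G δ P), stabilizer (NN G δ P) e = ⊥ := by
  classical
  have htr := nn_trans G δ P
  have hcF : Fintype.card ↥(FF G δ P) = (FF G δ P).card := Fintype.card_coe _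
  obtain ⟨h7, hsharp⟩ := hall (nn_odd G δ P) (by rw [hcF]; exact h4) htr
  refine ⟨by rw [← hcF]; exact h7, ?_, htr, hsharp⟩
  by_contra h5
  have h6 : 6 ≤ t := by omega
  have := Cfsg.Agent.Lib.Helper1.SharpTrans.jordan_large t h6 (NN G δ P)
    ↥(FF G δ P) (by omega) hsharp
  omega

/-- `t + 4 ≤ |F|`: then `|F| = t + 7`, `t ≤ 5` and the induced group is sharply `t`-transitive -/
theorem struct_large (ht : 4 ≤ t) [IsMultiplyPretransitive G α t]
    (h4 : t + 4 ≤ (FF G δ P).card) :
    (FF G δ P).card = t + 7 ∧ t ≤ 5 ∧ IsMultiplyPretransitive (NN G δ P) ↥(FF G δ P) t ∧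
      ∀ e : Fin t ↪ ↥(FF G δ P), stabilizer (NN G δ P) e = ⊥ := by
  classical
  refine struct_large_of_hall G δ P ht h4 (fun ho hc htr => ?_)
  have := htr
  exact hall_t t ht (NN G δ P) ↥(FF G δ P) (δF G δ P) ho hc

end struct

end Cfsg.Agent.Lib.Helper5.LWBE
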