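import Mathlib

set_option autoImplicit false

/-! A finite group generated by a list of elements, certified through an injective homomorphism
to a monoid with decidable equality and a list of the images of its elements. -/

namespace Cfsg.Agent.Lib.Helper5.ListGrp

variable {Z : Type*} [Group Z] {K : Type*} [Monoid K]

/-- the certificate -/
structure Cert (κ : Z →* K) (gens : List Z) (T : List K) : Prop where
  inj : Function.Injective κ
  inv_mem : ∀ g ∈ gens, g⁻¹ ∈ gens
  nodup : T.Nodup
  one_mem : (1 : K) ∈ T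
  step : ∀ g ∈ gens, ∀ t ∈ T, κ g * t ∈ T
  reach : ∀ t ∈ T, ∃ w ∈ Subgroup.closure {g | g ∈ gens}, κ w = t

variable {κ : Z →* K} {gens : List Z} {T : List K}

theorem Cert.mem (C : Cert κ gens T) {w : Z} (hw : w ∈ Subgroup.closure {g | g ∈ gens}) :
    κ w ∈ T := by
  induction hw using Subgroup.closure_induction_left with
  | one => rw [map_one]; exact C.one_mem
  | mul_left x hx y _ ih => rw [map_mul]; exact C.step x hx _ ih
  | inv_mul_cancel x hx y _ ih => rw [map_mul]; exact C.step _ (C.inv_mem x hx) _ ih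

theorem Cert.card (C : Cert κ gens T) :
    Nat.card (Subgroup.closure {g | g ∈ gens}) = T.length := by
  classical
  have h1 : Nat.card (Subgroup.closure {g | g ∈ gens}) = Nat.card {t // t ∈ T} := by
    apply Nat.card_congr
    refine Equiv.ofBijective (fun w => ⟨κ w.1, C.mem w.2⟩) ⟨?_, ?_⟩
    · intro w w' h
      apply Subtype.ext
      apply C.inj
      exact congrArg Subtype.val h
    · rintro ⟨t, ht⟩
      obtain ⟨w, hw, rfl⟩ := C.reach t ht
      exact ⟨⟨w, hw⟩, rfl⟩
  rw [h1]
  have h2 : Nat.card {t // t ∈ T} = T.toFinset.card := by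
    rw [Nat.card_eq_fintype_card]
    exact Fintype.card_of_subtype T.toFinset (fun x => List.mem_toFinset)
  rw [h2, List.toFinset_card_of_nodup C.nodup]

/-- the elements are reached along a tree -/
theorem reach_of_tree (κ : Z →* K) (gens : List Z) (T : List K) (par gi : ℕ → ℕ)
    (h0 : T.getD 0 1 = 1)
    (htree : ∀ k, 0 < k → k < T.length → par k < k ∧ gi k < gens.length ∧
      T.getD k 1 = (gens.map κ).getD (gi k) 1 * T.getD (par k) 1) :
    ∀ t ∈ T, ∃ w ∈ Subgroup.closure {g | g ∈ gens}, κ w = t := by
  have key : ∀ k, k < T.length → ∃ w ∈ Subgroup.closure {g | g ∈ gens}, κ w = T.getD k 1 := by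
    intro k
    induction k using Nat.strong_induction_on with
    | _ k ih =>
      intro hk
      rcases Nat.eq_zero_or_pos k with rfl | hpos
      · exact ⟨1, Subgroup.one_mem _, by rw [map_one, h0]⟩
      · obtain ⟨h1, h2, h3⟩ := htree k hpos hk
        obtain ⟨w, hw, hwk⟩ := ih (par k) h1 (lt_trans h1 hk)
        refine ⟨gens[gi k] * w, Subgroup.mul_mem _ (Subgroup.subset_closure ?_) hw, ?_⟩
        · exact List.getElem_mem h2
        · rw [map_mul, hwk, h3]
          congr 1
          rw [List.getD_eq_getElem _ _ (by rw [List.length_map]; exact h2), List.getElem_map]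
  intro t ht
  obtain ⟨k, hk, rfl⟩ := List.getElem_of_mem ht
  obtain ⟨w, hw, h⟩ := key k hk
  exact ⟨w, hw, by rw [h, List.getD_eq_getElem _ _ hk]⟩

/-- the list is closed under left multiplication by the generators, from a table -/
theorem step_of_table (κ : Z →* K) (gens : List Z) (T : List K) (tau : ℕ → ℕ → ℕ)
    (htab : ∀ s, s < gens.length → ∀ k, k < T.length → tau s k < T.length ∧
      (gens.map κ).getD s 1 * T.getD k 1 = T.getD (tau s k) 1) :
    ∀ g ∈ gens, ∀ t ∈ T, κ g * t ∈ T := by
  intro g hg t ht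
  obtain ⟨s, hs, rfl⟩ := List.getElem_of_mem hg
  obtain ⟨k, hk, rfl⟩ := List.getElem_of_mem ht
  obtain ⟨h1, h2⟩ := htab s hs k hk
  rw [List.getD_eq_getElem _ _ (by rw [List.length_map]; exact hs), List.getElem_map,
    List.getD_eq_getElem _ _ hk, List.getD_eq_getElem _ _ h1] at h2
  rw [h2]
  exact List.getElem_mem h1

end Cfsg.Agent.Lib.Helper5.ListGrp
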