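import Mathlib
import Cfsg.Prelude.Def_Local
import Cfsg.Prelude.Def_Balance
import Cfsg.Agent.Lib.Helper4.LBalTwo
import Cfsg.Agent.Lib.Helper3.PComp6

/-!
# S1305 swarm, package PA: a component of even order of `C_X(a)` lies in `E(X)` (from L-balance S1301)
-/

set_option autoImplicit false

namespace Cfsg.Agent.Lib.MaxComp

open Cfsg Cfsg.Agent.Lib.Helper3
open scoped commutatorElement

variable {X : Type*} [Group X] [Finite X]

/-- if 2-components commute with the core, the 2-layer lies in the layer -/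
theorem pa_pLayer_le_layer (hBX : ⁅pLayer 2 X, oddCore X⁆ = ⊥) : pLayer 2 X ≤ layer X := by
  haveI : Fact (Nat.Prime 2) := ⟨Nat.prime_two⟩
  rw [pLayer_le_iff]
  intro J hJ
  have hq : IsQuasisimple ↥J := by
    rw [IsPComponent.isQuasisimple_iff hJ, eq_bot_iff, ← hBX]
    exact Subgroup.commutator_mono (IsPComponent.le_pLayer hJ)
      (pPrimeCore_map_subtype_le_of_isSubnormal hJ.1)
  exact IsComponent.le_layer ⟨hJ.1, hq⟩

/-- **PA**: a component of even order of `C_X(a)` lies in `E(X)`, if 2-components of `X` are quasisimple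
(`⁅L_{2'}(X), O(X)⁆ = 1`). -/
theorem le_layer_of_component_centralizer (hBX : ⁅pLayer 2 X, oddCore X⁆ = ⊥) (a : X) (ha : orderOf a = 2)
    (K : Subgroup X) (hKa : K ≤ Subgroup.centralizer ({a} : Set X))
    (hK : IsComponent (K.subgroupOf (Subgroup.centralizer ({a} : Set X)))) (h2 : 2 ∣ Nat.card K) :
    K ≤ layer X := by
  haveI : Fact (Nat.Prime 2) := ⟨Nat.prime_two⟩
  -- `K` is a 2-component of `C_X(a)`
  have hcardK : Nat.card ↥(K.subgroupOf (Subgroup.centralizer ({a} : Set X))) = Nat.card ↥K :=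
    Nat.card_congr (Subgroup.subgroupOfEquivOfLe hKa).toEquiv
  have hP : IsPComponent 2 (K.subgroupOf (Subgroup.centralizer ({a} : Set X))) := by
    apply IsComponent.isPComponent_of_map hK
    rcases IsComponent.map_mk'_eq_bot_or (pPrimeCore 2 ↥(Subgroup.centralizer ({a} : Set X))) hK with h | h
    · exfalso
      rw [Subgroup.map_eq_bot_iff, QuotientGroup.ker_mk'] at h
      have hdvd := Subgroup.card_dvd_of_le h
      have hcop := Cfsg.Agent.Lib.Helper6.pPrimeCore_coprime
        (G := ↥(Subgroup.centralizer ({a} : Set X))) 2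
      rw [hcardK] at hdvd
      have h3 : 2 ∣ Nat.card ↥(pPrimeCore 2 ↥(Subgroup.centralizer ({a} : Set X))) := h2.trans hdvd
      have h4 : 2 ∣ Nat.gcd (Nat.card ↥(pPrimeCore 2 ↥(Subgroup.centralizer ({a} : Set X)))) 2 :=
        Nat.dvd_gcd h3 dvd_rfl
      rw [hcop] at h4
      exact absurd h4 (by decide)
    · exact h
  -- L-balance
  have hT : IsPGroup 2 ↥(Subgroup.zpowers a) := by
    rw [IsPGroup.iff_card, Nat.card_zpowers, ha]
    exact ⟨1, by norm_num⟩
  have hcent : Subgroup.centralizer ((Subgroup.zpowers a : Subgroup X) : Set X)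
      = Subgroup.centralizer ({a} : Set X) := by
    rw [Subgroup.zpowers_eq_closure, Subgroup.centralizer_closure]
  have hbal := Cfsg.Agent.Lib.Helper4.LBal.pLayer_centralizer_map_le_two (Subgroup.zpowers a) hT
  have hbal' : (pLayer 2 ↥(Subgroup.centralizer ({a} : Set X))).map
      (Subgroup.centralizer ({a} : Set X)).subtype ≤ pLayer 2 X := by
    have key : ∀ C : Subgroup X, C = Subgroup.centralizer ({a} : Set X) →
        (pLayer 2 ↥C).map C.subtype ≤ pLayer 2 X →
        (pLayer 2 ↥(Subgroup.centralizer ({a} : Set X))).map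
          (Subgroup.centralizer ({a} : Set X)).subtype ≤ pLayer 2 X := by
      intro C hC h
      subst hC
      exact h
    exact key _ hcent hbal
  have h1 : K ≤ pLayer 2 X := by
    intro k hk
    apply hbal'
    exact ⟨⟨k, hKa hk⟩, IsPComponent.le_pLayer hP (Subgroup.mem_subgroupOf.mpr hk), rfl⟩
  exact h1.trans (pa_pLayer_le_layer hBX)

end Cfsg.Agent.Lib.MaxComp
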