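import Mathlib
import Cfsg.Prelude.Def_Local
import Cfsg.Prelude.Def_Balance
import Cfsg.Agent.Lib.Helper3.Components1

/-!
# S1305 swarm, glue part 1: transports between `G` and `X = ↥C_G(b)`
-/

set_option autoImplicit false

namespace Cfsg.Agent.Lib.MaxComp.Glue

open Cfsg Cfsg.Agent.Lib.Helper3
open scoped commutatorElement

variable {G : Type*} [Group G]

theorem isElementaryAbelian_subgroupOf {A : Subgroup G} (H : Subgroup G)
    (hA : IsElementaryAbelian 2 A) : IsElementaryAbelian 2 (A.subgroupOf H) := by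
  obtain ⟨hc, he⟩ := hA
  refine ⟨isMulCommutative_iff.mpr ?_, ?_⟩
  · rintro ⟨x, hx⟩ ⟨y, hy⟩
    have h := isMulCommutative_iff.mp hc ⟨x.1, hx⟩ ⟨y.1, hy⟩
    have h2 : x.1 * y.1 = y.1 * x.1 := congrArg Subtype.val h
    apply Subtype.ext
    apply Subtype.ext
    exact h2
  · intro x hx
    apply Subtype.ext
    have := he x.1 hx
    simpa using this

theorem isElementaryAbelian_map_subtype {H : Subgroup G} {A : Subgroup ↥H}
    (hA : IsElementaryAbelian 2 A) : IsElementaryAbelian 2 (A.map H.subtype) := by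
  obtain ⟨hc, he⟩ := hA
  refine ⟨isMulCommutative_iff.mpr ?_, ?_⟩
  · rintro ⟨_, x, hx, rfl⟩ ⟨_, y, hy, rfl⟩
    have h := isMulCommutative_iff.mp hc ⟨x, hx⟩ ⟨y, hy⟩
    apply Subtype.ext
    have h2 := congrArg Subtype.val (congrArg Subtype.val h)
    simpa using h2
  · rintro _ ⟨x, hx, rfl⟩
    have := he x hx
    have h2 := congrArg Subtype.val this
    simpa using h2

theorem card_subgroupOf_of_le {A H : Subgroup G} (h : A ≤ H) :
    Nat.card ↥(A.subgroupOf H) = Nat.card ↥A :=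
  Nat.card_congr (Subgroup.subgroupOfEquivOfLe h).toEquiv

theorem card_map_subtype {H : Subgroup G} (A : Subgroup ↥H) :
    Nat.card ↥(A.map H.subtype) = Nat.card ↥A :=
  (Nat.card_congr (A.equivMapOfInjective H.subtype H.subtype_injective).toEquiv).symm

theorem map_subtype_subgroupOf {H : Subgroup G} (A : Subgroup ↥H) :
    (A.map H.subtype).subgroupOf H = A := by
  ext x
  rw [Subgroup.mem_subgroupOf]
  constructor
  · rintro ⟨y, hy, hxy⟩
    have : y = x := Subtype.ext hxy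
    rwa [← this]
  · intro hx
    exact ⟨x, hx, rfl⟩

theorem map_subtype_le {H : Subgroup G} (A : Subgroup ↥H) : A.map H.subtype ≤ H := by
  rintro _ ⟨x, _, rfl⟩
  exact x.2

/-- the rank bound given by a maximal elementary abelian subgroup -/
theorem pRankLE_of_max {H B : Subgroup G} (n : ℕ) (hBn : Nat.card ↥B = 2 ^ n)
    (hmax : ∀ B' : Subgroup G, B' ≤ H → IsElementaryAbelian 2 B' → Nat.card ↥B' ≤ Nat.card ↥B) :
    PRankLE 2 n ↥H := by
  intro A hAc hAe
  have h1 := hmax (A.map H.subtype) (map_subtype_le A) (isElementaryAbelian_map_subtype ⟨hAc, hAe⟩)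
  rw [card_map_subtype, hBn] at h1
  exact h1

theorem card_le_of_pRankLE {H V : Subgroup G} {n : ℕ} (h : PRankLE 2 n ↥H) (hV : V ≤ H)
    (hVe : IsElementaryAbelian 2 V) : Nat.card ↥V ≤ 2 ^ n := by
  have h1 := isElementaryAbelian_subgroupOf H hVe
  have h2 := h (V.subgroupOf H) h1.1 h1.2
  rwa [card_subgroupOf_of_le hV] at h2

/-- `¬ PRankLE 2 1 K` gives an elementary abelian subgroup of order `> 2` -/
theorem exists_of_not_pRankLE {K : Subgroup G} (h : ¬ PRankLE 2 1 ↥K) :
    ∃ A : Subgroup G, A ≤ K ∧ IsElementaryAbelian 2 A ∧ 2 < Nat.card ↥A := by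
  unfold PRankLE at h
  push Not at h
  obtain ⟨A, hAc, hAe, hA⟩ := h
  refine ⟨A.map K.subtype, map_subtype_le A, isElementaryAbelian_map_subtype ⟨hAc, hAe⟩, ?_⟩
  rw [card_map_subtype]
  simpa using hA

theorem isPGroup_of_isElementaryAbelian {A : Subgroup G} (hA : IsElementaryAbelian 2 A) :
    IsPGroup 2 ↥A := by
  intro x
  refine ⟨1, ?_⟩
  apply Subtype.ext
  have := hA.2 x.1 x.2
  simpa using this

theorem two_dvd_card_of_lt [Finite G] {A K : Subgroup G} (hAK : A ≤ K) (hA : IsElementaryAbelian 2 A)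
    (h2 : 2 < Nat.card ↥A) : 2 ∣ Nat.card ↥K := by
  haveI : Fact (Nat.Prime 2) := ⟨Nat.prime_two⟩
  obtain ⟨n, hn⟩ := (IsPGroup.iff_card).mp (isPGroup_of_isElementaryAbelian hA)
  have hn1 : n ≠ 0 := by
    intro h0
    rw [h0, pow_zero] at hn
    omega
  have h3 : 2 ∣ Nat.card ↥A := by
    rw [hn]
    exact dvd_pow_self 2 hn1
  exact h3.trans (Subgroup.card_dvd_of_le hAK)

end Cfsg.Agent.Lib.MaxComp.Glue
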