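import Mathlib
import Cfsg.Prelude.Def_Local
import Cfsg.Prelude.Def_Balance
import Cfsg.Agent.Lib.Helper5.MaxCompGlue
import Cfsg.Agent.Lib.Helper5.MaxCompA
import Cfsg.Agent.Lib.Helper9.MaxCompB
import Cfsg.Agent.Lib.Helper3.MaxCompE

/-!
# S1305 swarm, glue part 2: the assembly
-/

set_option autoImplicit false

namespace Cfsg.Agent.Lib.MaxComp.Glue

open Cfsg Cfsg.Agent.Lib.Helper3
open scoped commutatorElement

variable {G : Type*} [Group G]

/-- "Lemma A": a component of `C_G(a)` centralized by `b` is a component of `C_{C_G(b)}(a)`. -/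
theorem isComponent_centralizer_transfer (a b : G) (K : Subgroup G)
    (hKa : K ≤ Subgroup.centralizer ({a} : Set G)) (hKb : K ≤ Subgroup.centralizer ({b} : Set G))
    (hK : IsComponent (K.subgroupOf (Subgroup.centralizer ({a} : Set G))))
    (aX : ↥(Subgroup.centralizer ({b} : Set G))) (haX : (aX : G) = a) :
    IsComponent ((K.subgroupOf (Subgroup.centralizer ({b} : Set G))).subgroupOf
      (Subgroup.centralizer ({aX} : Set ↥(Subgroup.centralizer ({b} : Set G))))) := by
  have hmem : ∀ y : ↥(Subgroup.centralizer ({aX} : Set ↥(Subgroup.centralizer ({b} : Set G)))),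
      ((y : ↥(Subgroup.centralizer ({b} : Set G))) : G) ∈ Subgroup.centralizer ({a} : Set G) := by
    intro y
    rw [Subgroup.mem_centralizer_iff]
    intro h hh
    rw [Set.mem_singleton_iff] at hh
    subst hh
    have h1 := Subgroup.mem_centralizer_iff.mp y.2 aX rfl
    have h2 := congrArg Subtype.val h1
    simpa [haX] using h2
  have hle : K.subgroupOf (Subgroup.centralizer ({b} : Set G)) ≤
      Subgroup.centralizer ({aX} : Set ↥(Subgroup.centralizer ({b} : Set G))) := by
    intro y hy
    rw [Subgroup.mem_centralizer_iff]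
    intro h hh
    rw [Set.mem_singleton_iff] at hh
    subst hh
    have h1 := Subgroup.mem_centralizer_iff.mp (hKa (Subgroup.mem_subgroupOf.mp hy)) a rfl
    apply Subtype.ext
    simpa [haX] using h1
  refine ⟨?_, ?_⟩
  · have h1 := hK.1.comap (((Subgroup.centralizer ({b} : Set G)).subtype.comp
      (Subgroup.centralizer ({aX} : Set ↥(Subgroup.centralizer ({b} : Set G)))).subtype).codRestrict
      (Subgroup.centralizer ({a} : Set G)) hmem)
    convert h1 using 1
    ext y
    simp only [Subgroup.mem_subgroupOf, Subgroup.mem_comap]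
    rfl
  · have e1 : ↥(K.subgroupOf (Subgroup.centralizer ({a} : Set G))) ≃* ↥K :=
      Subgroup.subgroupOfEquivOfLe hKa
    have e2 : ↥((K.subgroupOf (Subgroup.centralizer ({b} : Set G))).subgroupOf
        (Subgroup.centralizer ({aX} : Set ↥(Subgroup.centralizer ({b} : Set G))))) ≃*
        ↥(K.subgroupOf (Subgroup.centralizer ({b} : Set G))) := Subgroup.subgroupOfEquivOfLe hle
    have e3 : ↥(K.subgroupOf (Subgroup.centralizer ({b} : Set G))) ≃* ↥K :=
      Subgroup.subgroupOfEquivOfLe hKb
    exact isQuasisimple_of_mulEquiv (e1.trans (e3.symm.trans e2.symm)) hK.2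

theorem commutator_pLayer_oddCore_eq_bot [Finite G] (hO : oddCore G = ⊥) (hB : HasBProperty G)
    (b : G) (hb : orderOf b = 2) :
    ⁅pLayer 2 ↥(Subgroup.centralizer ({b} : Set G)), oddCore ↥(Subgroup.centralizer ({b} : Set G))⁆ = ⊥ := by
  have h := hB b hb
  rw [hO, le_bot_iff, Subgroup.map_eq_bot_iff_of_injective _ (Subgroup.subtype_injective _)] at h
  exact h

end Cfsg.Agent.Lib.MaxComp.Glue
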