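import Mathlib
import Cfsg.Prelude.Def_Local
import Cfsg.Prelude.Def_Balance
import Cfsg.Agent.Lib.Helper5.MaxCompGlue2

/-!
# S1305 swarm, glue part 3: the main assembly
-/

set_option autoImplicit false

namespace Cfsg.Agent.Lib.MaxComp.Glue

open Cfsg Cfsg.Agent.Lib.Helper3
open scoped commutatorElement

theorem card_le_of_coe_eq_range {X : Type*} [Group X] {ι : Type*} [Finite ι] (H : Subgroup X)
    (f : ι → X) (h : (H : Set X) = Set.range f) : Nat.card ↥H ≤ Nat.card ι := by
  have h1 : Nat.card ↥H = Nat.card ↥(Set.range f) := by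
    rw [← h]; rfl
  rw [h1]; exact Finite.card_range_le f

theorem main {G : Type*} [Group G] [Finite G] (hO : Cfsg.oddCore G = ⊥) (hB : Cfsg.HasBProperty G)
    (a : G) (ha : orderOf a = 2) (K : Subgroup G) (hKa : K ≤ Subgroup.centralizer ({a} : Set G))
    (hK : Cfsg.IsComponent (K.subgroupOf (Subgroup.centralizer ({a} : Set G))))
    (hmax : ∀ y : G, orderOf y = 2 → ∀ K' : Subgroup G, K' ≤ Subgroup.centralizer ({y} : Set G) →
      Cfsg.IsComponent (K'.subgroupOf (Subgroup.centralizer ({y} : Set G))) →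
      Nat.card ↥K' ≤ Nat.card ↥K ∧ (Nat.card ↥K' = Nat.card ↥K → ∀ k : ℕ,
        Cfsg.PRankLE 2 k ↥(Subgroup.centralizer ({a} : Set G) ⊓ Subgroup.centralizer (K : Set G)) →
        Cfsg.PRankLE 2 k ↥(Subgroup.centralizer ({y} : Set G) ⊓ Subgroup.centralizer (K' : Set G))))
    (hrk : ¬ Cfsg.PRankLE 2 1 ↥K) (B : Subgroup G)
    (hBle : B ≤ Subgroup.centralizer ({a} : Set G) ⊓ Subgroup.centralizer (K : Set G))
    (hBel : Cfsg.IsElementaryAbelian 2 B)
    (hBmax : ∀ B' : Subgroup G, B' ≤ Subgroup.centralizer ({a} : Set G) ⊓ Subgroup.centralizer (K : Set G) →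
      Cfsg.IsElementaryAbelian 2 B' → Nat.card ↥B' ≤ Nat.card ↥B)
    (b : G) (hb : b ∈ B) (hb1 : b ≠ 1) :
    K ≤ Subgroup.centralizer ({b} : Set G) ∧
      Cfsg.IsComponent (K.subgroupOf (Subgroup.centralizer ({b} : Set G))) := by
  haveI : Fact (Nat.Prime 2) := ⟨Nat.prime_two⟩
  have hb2 : b ^ 2 = 1 := hBel.2 b hb
  have hbo : orderOf b = 2 := orderOf_eq_prime hb2 hb1
  have hba : b ∈ Subgroup.centralizer ({a} : Set G) := (hBle hb).1
  have hbK : b ∈ Subgroup.centralizer (K : Set G) := (hBle hb).2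
  have hab : a * b = b * a := Subgroup.mem_centralizer_iff.mp hba a rfl
  have hKb : K ≤ Subgroup.centralizer ({b} : Set G) := by
    intro k hk
    rw [Subgroup.mem_centralizer_iff]
    intro h hh
    rw [Set.mem_singleton_iff] at hh
    subst hh
    exact (Subgroup.mem_centralizer_iff.mp hbK k hk).symm
  refine ⟨hKb, ?_⟩
  have haCb : a ∈ Subgroup.centralizer ({b} : Set G) := by
    rw [Subgroup.mem_centralizer_iff]
    intro h hh
    rw [Set.mem_singleton_iff] at hh
    subst hh
    exact hab.symm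
  have haXo : orderOf (⟨a, haCb⟩ : ↥(Subgroup.centralizer ({b} : Set G))) = 2 := by
    rw [Subgroup.orderOf_mk]; exact ha
  have hKX := isComponent_centralizer_transfer a b K hKa hKb hK (⟨a, haCb⟩ : ↥(Subgroup.centralizer ({b} : Set G))) rfl
  have hKXa : K.subgroupOf (Subgroup.centralizer ({b} : Set G)) ≤
      Subgroup.centralizer ({(⟨a, haCb⟩ : ↥(Subgroup.centralizer ({b} : Set G)))} :
        Set ↥(Subgroup.centralizer ({b} : Set G))) := by
    intro y hy
    rw [Subgroup.mem_centralizer_iff]
    intro h hh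
    rw [Set.mem_singleton_iff] at hh
    subst hh
    have h1 := Subgroup.mem_centralizer_iff.mp (hKa (Subgroup.mem_subgroupOf.mp hy)) a rfl
    apply Subtype.ext
    simpa using h1
  have hBX := commutator_pLayer_oddCore_eq_bot hO hB b hbo
  obtain ⟨A, hAK, hAe, hA2⟩ := exists_of_not_pRankLE hrk
  have h2K : 2 ∣ Nat.card ↥K := two_dvd_card_of_lt hAK hAe hA2
  have hcardKX : Nat.card ↥(K.subgroupOf (Subgroup.centralizer ({b} : Set G))) = Nat.card ↥K :=
    card_subgroupOf_of_le hKb
  have hKXE := le_layer_of_component_centralizer hBX (⟨a, haCb⟩ : ↥(Subgroup.centralizer ({b} : Set G))) haXo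
    (K.subgroupOf (Subgroup.centralizer ({b} : Set G))) hKXa hKX (by rw [hcardKX]; exact h2K)
  obtain ⟨D, hD, hcase⟩ := exists_component_of_le_layer (⟨a, haCb⟩ : ↥(Subgroup.centralizer ({b} : Set G))) haXo
    (K.subgroupOf (Subgroup.centralizer ({b} : Set G))) hKXa hKX hKXE
  have hDG : IsComponent ((D.map (Subgroup.centralizer ({b} : Set G)).subtype).subgroupOf
      (Subgroup.centralizer ({b} : Set G))) := by
    rw [map_subtype_subgroupOf]; exact hD
  have hmaxD := hmax b hbo (D.map (Subgroup.centralizer ({b} : Set G)).subtype) (map_subtype_le D) hDG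
  rw [card_map_subtype] at hmaxD
  rcases hcase with ⟨_, hKD⟩ | ⟨hDa, hKD, _⟩
  · have heq : K.subgroupOf (Subgroup.centralizer ({b} : Set G)) = D :=
      Subgroup.eq_of_le_of_card_ge hKD (by rw [hcardKX]; exact hmaxD.1)
    rw [heq]; exact hD
  · exfalso
    have hrange := eq_range_diag (⟨a, haCb⟩ : ↥(Subgroup.centralizer ({b} : Set G))) haXo (K.subgroupOf (Subgroup.centralizer ({b} : Set G))) D
      hD hDa hKXa hKX hKD
    have hle : Nat.card ↥(K.subgroupOf (Subgroup.centralizer ({b} : Set G))) ≤ Nat.card ↥D :=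
      card_le_of_coe_eq_range _ _ hrange
    have hcard : Nat.card ↥(K.subgroupOf (Subgroup.centralizer ({b} : Set G))) = Nat.card ↥D :=
      le_antisymm hle (by rw [hcardKX]; exact hmaxD.1)
    -- `B` inside `X`
    have hBCb : B ≤ Subgroup.centralizer ({b} : Set G) := by
      intro β hβ
      rw [Subgroup.mem_centralizer_iff]
      intro h hh
      rw [Set.mem_singleton_iff] at hh
      subst hh
      have := isMulCommutative_iff.mp hBel.1 ⟨h, hb⟩ ⟨β, hβ⟩
      exact congrArg Subtype.val this
    have hBXa : B.subgroupOf (Subgroup.centralizer ({b} : Set G)) ≤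
        Subgroup.centralizer ({(⟨a, haCb⟩ : ↥(Subgroup.centralizer ({b} : Set G)))} :
          Set ↥(Subgroup.centralizer ({b} : Set G))) := by
      intro y hy
      rw [Subgroup.mem_centralizer_iff]
      intro h hh
      rw [Set.mem_singleton_iff] at hh
      subst hh
      have h1 := Subgroup.mem_centralizer_iff.mp (hBle (Subgroup.mem_subgroupOf.mp hy)).1 a rfl
      apply Subtype.ext
      simpa using h1
    have hBXK : B.subgroupOf (Subgroup.centralizer ({b} : Set G)) ≤
        Subgroup.centralizer ((K.subgroupOf (Subgroup.centralizer ({b} : Set G)) :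
          Subgroup ↥(Subgroup.centralizer ({b} : Set G))) : Set ↥(Subgroup.centralizer ({b} : Set G))) := by
      intro y hy
      rw [Subgroup.mem_centralizer_iff]
      intro k hk
      have h1 := Subgroup.mem_centralizer_iff.mp (hBle (Subgroup.mem_subgroupOf.mp hy)).2 k.1
        (Subgroup.mem_subgroupOf.mp hk)
      apply Subtype.ext
      simpa using h1
    have hBXel := isElementaryAbelian_subgroupOf (Subgroup.centralizer ({b} : Set G)) hBel
    have hA₀K : A.subgroupOf (Subgroup.centralizer ({b} : Set G)) ≤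
        K.subgroupOf (Subgroup.centralizer ({b} : Set G)) := by
      intro y hy
      exact Subgroup.mem_subgroupOf.mpr (hAK (Subgroup.mem_subgroupOf.mp hy))
    have hA₀e := isElementaryAbelian_subgroupOf (Subgroup.centralizer ({b} : Set G)) hAe
    obtain ⟨V, hVD, hVe, hVcard⟩ := exists_elementary_abelian_centralizer (⟨a, haCb⟩ : ↥(Subgroup.centralizer ({b} : Set G))) haXo
      (K.subgroupOf (Subgroup.centralizer ({b} : Set G))) D hD hDa hrange hcard
      (B.subgroupOf (Subgroup.centralizer ({b} : Set G))) hBXa hBXK hBXel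
      (A.subgroupOf (Subgroup.centralizer ({b} : Set G))) hA₀K hA₀e
    rw [card_subgroupOf_of_le hBCb, card_subgroupOf_of_le (hAK.trans hKb)] at hVcard
    obtain ⟨n, hn⟩ := (IsPGroup.iff_card).mp (isPGroup_of_isElementaryAbelian hBel)
    have hr1 : PRankLE 2 n ↥(Subgroup.centralizer ({a} : Set G) ⊓ Subgroup.centralizer (K : Set G)) :=
      pRankLE_of_max n hn hBmax
    have hr2 := hmaxD.2 (by rw [← hcardKX]; exact hcard.symm) n hr1
    have hVG : V.map (Subgroup.centralizer ({b} : Set G)).subtype ≤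
        Subgroup.centralizer ({b} : Set G) ⊓
          Subgroup.centralizer ((D.map (Subgroup.centralizer ({b} : Set G)).subtype : Subgroup G) : Set G) := by
      rintro _ ⟨v, hv, rfl⟩
      refine Subgroup.mem_inf.mpr ⟨v.2, ?_⟩
      refine Subgroup.mem_centralizer_iff.mpr ?_
      rintro _ ⟨d, hd, rfl⟩
      have h1 := Subgroup.mem_centralizer_iff.mp (hVD hv) d hd
      exact congrArg Subtype.val h1
    have h3 := card_le_of_pRankLE hr2 hVG (isElementaryAbelian_map_subtype hVe)
    rw [card_map_subtype] at h3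
    rw [hn] at hVcard
    have hpos : 0 < 2 ^ n := by positivity
    nlinarith

end Cfsg.Agent.Lib.MaxComp.Glue
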