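import Mathlib
import Cfsg.Prelude.Def_Characters
import Cfsg.Agent.Lib.Helper5.SL2Degrees

set_option autoImplicit false

/-!
Counting the families of irreducible characters of `SL₂(q)`, `q` odd.
-/

namespace Cfsg.Agent.Lib.Helper5

open Matrix
open Cfsg.Agent.Lib.Helper1 Cfsg.Agent.Lib.Helper4
open scoped ComplexConjugate

universe u

/-- A family consisting of exactly two irreducible characters. -/
theorem card_irr_pair {G : Type u} [Group G] (P : (G → ℂ) → Prop) (χ₁ χ₂ : G → ℂ)
    (h1 : Cfsg.IsIrrCharacter G χ₁) (h2 : Cfsg.IsIrrCharacter G χ₂) (hne : χ₁ ≠ χ₂)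
    (hP1 : P χ₁) (hP2 : P χ₂)
    (hall : ∀ χ, Cfsg.IsIrrCharacter G χ → P χ → χ = χ₁ ∨ χ = χ₂) :
    Nat.card {χ : Cfsg.IrrCharacter G // P (χ : G → ℂ)} = 2 := by
  classical
  have : Finite {χ : Cfsg.IrrCharacter G // P (χ : G → ℂ)} := by
    apply Finite.of_injective (fun x : {χ : Cfsg.IrrCharacter G // P (χ : G → ℂ)} =>
      (if ((x : Cfsg.IrrCharacter G) : G → ℂ) = χ₁ then (0 : Fin 2) else 1))
    intro x y hxy
    apply Subtype.ext
    apply Subtype.ext
    simp only at hxy
    rcases hall x.1.1 x.1.2 x.2 with hx | hx <;> rcases hall y.1.1 y.1.2 y.2 with hy | hy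
    · rw [hx, hy]
    · exfalso
      rw [if_pos hx, if_neg (by rw [hy]; exact hne.symm)] at hxy
      exact absurd hxy (by decide)
    · exfalso
      rw [if_neg (by rw [hx]; exact hne.symm), if_pos hy] at hxy
      exact absurd hxy (by decide)
    · rw [hx, hy]
  have : Fintype {χ : Cfsg.IrrCharacter G // P (χ : G → ℂ)} := Fintype.ofFinite _
  rw [Nat.card_eq_fintype_card]
  have huniv : (Finset.univ : Finset {χ : Cfsg.IrrCharacter G // P (χ : G → ℂ)}) =
      {⟨⟨χ₁, h1⟩, hP1⟩, ⟨⟨χ₂, h2⟩, hP2⟩} := by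
    ext x
    simp only [Finset.mem_univ, Finset.mem_insert, Finset.mem_singleton, true_iff]
    rcases hall x.1.1 x.1.2 x.2 with hx | hx
    · exact Or.inl (Subtype.ext (Subtype.ext hx))
    · exact Or.inr (Subtype.ext (Subtype.ext hx))
  rw [← Finset.card_univ, huniv, Finset.card_pair]
  intro h
  exact hne (congrArg (fun z : {χ : Cfsg.IrrCharacter G // P (χ : G → ℂ)} =>
    ((z : Cfsg.IrrCharacter G) : G → ℂ)) h)

section
variable {F : Type*} [Field F] [Fintype F]

theorem card_mulChar_ne_inv_odd (hodd : Odd (Fintype.card F)) :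
    Nat.card {β : MulChar F ℂ // β ≠ β⁻¹} = Fintype.card F - 3 := by
  have h1 := card_ne_inv (A := MulChar F ℂ)
  have := isCyclic_mulChar (F := F)
  have heven : Even (Nat.card (MulChar F ℂ)) := by
    rw [card_mulChar]
    obtain ⟨k, hk⟩ := hodd
    exact ⟨k, by omega⟩
  rw [card_self_inv_of_isCyclic_even heven, card_mulChar] at h1
  omega

theorem card_torusHom_ne_inv_odd (hodd : Odd (Fintype.card F))
    (C : Subgroup (SpecialLinearGroup (Fin 2) F)) (hC : IsCyclic C)
    (hcard : Nat.card C = Fintype.card F + 1) :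
    Nat.card {θ : C →* ℂˣ // θ ≠ θ⁻¹} = Fintype.card F - 1 := by
  have h1 := card_ne_inv (A := (C →* ℂˣ))
  have := isCyclic_torusHom C hC
  have heven : Even (Nat.card (C →* ℂˣ)) := by
    rw [card_torusHom C hC, hcard]
    exact hodd.add_one
  have h2 : Nat.card {θ : C →* ℂˣ // θ = θ⁻¹} = 2 := card_self_inv_of_isCyclic_even heven
  rw [h2, card_torusHom C hC, hcard] at h1
  omega

end

end Cfsg.Agent.Lib.Helper5
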