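import Cfsg.Agent.Lib.Helper5.Srch2
import Cfsg.Agent.Lib.Helper5.McLOut3

set_option autoImplicit false
set_option maxRecDepth 100000
set_option maxHeartbeats 0

/-! # The McLaughlin group: certificates of searches and words (generated data) -/

namespace Cfsg.Agent.Lib.Helper5.McLOut

open Cfsg.Agent.Lib.Helper5.Srch

/-- a piece of a certificate -/
noncomputable def cCp_0 : Cert := (Cert.rl [(1, (.step [] (.step [] (.step [] (.step [] (.done [])))))), (1, (.step [6, 10, 15, 7] .fail)), (1, (.step [7, 10, 9] .fail)), (1, (.step [6, 11, 11] (.step [10, 13, 13] (.step [14, 16, 18] .fail)))), (3, .fail), (1, (.step [6, 14, 8] (.step [10, 15] (.step [16, 14] .fail)))), (1, (.step [6, 16, 7] (.step [10, 13] .fail))), (1, .fail), (1, (.step [] (.step [] (.step [] (.step [] (.done [4, 4, 4, 4, 4, 4, 4, 4, 4, 4])))))), (1, .fail), (1, (.step [6, 6, 11, 7] (.step [10, 15, 13] (.step [15, 16, 18] (.step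 [19] (.done [4, 4, 4, 4, 4, 4, 4, 4, 4])))))), (1, (.step [9, 7, 8] (.step [10, 15, 12, 15] (.step [16, 17, 16] .fail)))), (1, .fail), (1, (.step [7, 10, 9] (.step [13, 19, 16] .fail))), (1, (.step [6, 8, 10] .fail)), (1, .fail), (1, (.step [6, 10, 15, 7] .fail)), (1, .fail), (1, (.step [6, 16] (.step [10, 12] (.step [16] .fail)))), (1, .fail), (1, (.step [6, 16, 6] .fail)), (1, (.step [9] (.step [10, 20, 13] (.step [14, 17] .fail)))), (1, (.step [6, 15, 9] (.step [11, 13, 20] (.step [16, 15] .fail)))), (1, .fail), (1, (.step [9, 6, 15] .fail)), (1, (.step [6, 8, 14, 11] (.step [10, 12, 10] (.step [15, 18, 20] .fail)))), (1, (.step [6, 10, 8] .fail)), (5, .fail), (1, (.step [6, 11, 11] (.step [10, 13, 13] (.step [14, 16, 18] .fail)))), (1, (.step [6, 8] .fail)), (1, (.step [7, 7] (.step [10, 10, 16, 12] .fail))), (2, .fail), (1, (.step [6, 16, 6, 9] .fail)), (1, (.step [9] .fail)), (1, .fail), (1,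 (.step [6, 16, 10] (.step [10] (.step [15, 17] .fail)))), (1, (.step [8, 10, 6] (.step [10, 12, 11, 15] (.step [15, 18] (.step [20] (.done [4, 4, 4, 4, 4, 4, 4])))))), (1, (.step [6, 15, 10, 7] .fail)), (4, .fail), (1, (.step [6, 8, 14, 9] .fail)), (1, .fail), (1, (.step [7, 8, 6] (.step [11, 13, 10] (.step [16, 15] .fail)))), (1, (.step [7, 15, 10] .fail)), (1, (.step [6, 11, 7] .fail)), (2, .fail), (1, (.step [6, 9, 6, 9] (.step [12, 19] (.step [18, 20] .fail)))), (1, (.step [6, 10, 16] (.step [10, 19, 11] (.step [15, 16, 17] .fail)))), (3, .fail), (1, (.step [6, 6, 8, 11] (.step [10, 15] (.step [15, 19, 18] .fail)))), (1, .fail), (1, (.step [6, 16, 14] (.step [10, 10, 19] (.step [16, 19] .fail)))), (1, (.step [6, 9, 6, 16] (.step [10, 19, 16] .fail))), (2, .fail), (1, (.step [6, 11, 14] (.step [10, 10, 12, 15] (.step [14, 17, 16] .fail)))), (1, (.step [6, 9, 7, 8] .fail)), (2, .fail), (1, (.step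 [6, 8, 14, 11] (.step [10, 10, 16, 12] .fail))), (1, (.step [6, 16, 14] (.step [10, 10, 20] .fail))), (2, .fail), (1, (.step [7, 10] .fail)), (1, (.step [6, 6, 15] (.step [12, 12, 20] (.step [15, 17, 19] .fail)))), (2, .fail), (1, (.step [6, 9, 7, 11] (.step [13, 15] (.step [16, 14, 18] .fail)))), (1, (.step [6, 16, 10] (.step [10, 12, 11] .fail))), (1, .fail), (1, (.step [7, 8] (.step [11, 15, 11] .fail))), (1, (.step [6, 10, 16] (.step [10, 16, 19] (.step [17, 19, 16] .fail)))), (1, .fail), (1, (.step [6, 9, 9] (.step [13, 13, 14] (.step [14, 19, 17] .fail)))), (1, .fail), (1, (.step [7, 15, 10] (.step [10, 10, 19] (.step [14, 18] .fail)))), (1, (.step [8, 11, 6] (.step [12, 11, 15] (.step [14] (.step [19] (.done [4, 4])))))), (1, (.step [6, 8, 14] .fail)), (1, (.step [6, 8, 15, 8] .fail)), (1, .fail), (1, (.step [8, 7, 7] (.step [] (.step [17, 15] (.step [20] (.done [4, 4, 4, 4, 4, 4, 4, 4])))))),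 (1, .fail), (1, (.step [6, 14, 16] .fail)), (1, (.step [6, 10, 8] (.step [10, 13, 16] (.step [16, 20] .fail)))), (2, .fail), (1, (.step [7, 14] .fail)), (1, (.step [7, 7, 10] (.step [10, 14, 16] (.step [15, 18, 20] .fail)))), (1, .fail), (1, (.step [7, 11, 8] (.step [13] (.step [15, 17, 19] .fail)))), (2, .fail), (1, (.step [8, 6, 9] .fail)), (1, (.step [6, 15, 9] (.step [11, 13, 20] (.step [16, 15] .fail)))), (2, .fail), (1, (.step [7, 10, 8] .fail)), (1, .fail), (1, (.step [6, 11, 15] (.step [10, 10, 19] .fail))), (1, (.step [6, 8] (.step [11, 12, 10] .fail))), (1, (.step [6, 9, 9] .fail)), (3, .fail), (1, (.step [] (.step [] (.step [] (.step [] (.done [4])))))), (1, .fail), (1, (.step [6, 16, 10] (.step [11, 14] .fail))), (1, .fail), (1, (.step [6, 14] (.step [10, 12, 19] (.step [14, 16, 17] .fail)))), (1, (.step [6, 6, 8, 11] (.step [10, 16, 20] (.step [17, 19, 14] .fail)))), (2, .fail), (1,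 (.step [6, 16, 6] .fail)), (1, .fail), (1, (.step [6, 10, 15] (.step [10, 13, 11] .fail))), (1, (.step [7, 8, 6] .fail)), (2, .fail), (1, (.step [6, 8, 6, 14] (.step [10] (.step [17, 16] .fail)))), (1, (.step [6, 11, 11] (.step [10, 13, 13] (.step [14, 16, 18] .fail)))), (1, .fail), (1, (.step [6, 8, 14] (.step [10, 10, 19] (.step [14, 18, 14] .fail)))), (1, (.step [6, 8, 6] (.step [10, 10, 14] (.step [17, 19, 16] .fail)))), (2, .fail), (1, (.step [6, 11, 7, 14] (.step [13, 19, 16] (.step [15, 17] .fail)))), (1, .fail), (1, (.step [6, 9, 15] (.step [10, 14, 16] .fail))), (3, .fail), (1, (.step [7, 16] .fail)), (1, (.step [6, 11, 9, 16] (.step [11, 12, 10] .fail))), (1, (.step [6, 14, 16] .fail)), (1, (.step [9, 7, 14] (.step [10, 14, 20, 10] (.step [16, 17, 16] .fail)))), (1, .fail), (1, (.step [8, 6, 14] (.step [10, 14, 10, 10] (.step [14, 17, 20] .fail)))), (1, (.step [6, 9, 9] .fail)), (1, .fail),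 (1, (.step [6, 14, 10] .fail)), (1, (.step [6, 15, 10] (.step [10, 13, 10] (.step [15, 19] .fail)))), (1, .fail), (1, (.step [7, 7, 10] (.step [12, 11, 15] (.step [17, 16] .fail)))), (2, .fail), (1, (.step [8] (.step [11, 12, 14] (.step [16, 14] .fail)))), (1, (.step [6, 6, 10] (.step [13, 13, 14] (.step [] .fail)))), (2, .fail), (1, (.step [6, 8] (.step [10, 19, 16] (.step [15, 19] .fail)))), (1, (.step [8, 7, 7] .fail)), (1, (.step [6, 6, 14] (.step [10, 10, 19] (.step [14, 19] .fail)))), (1, .fail), (1, (.step [6, 9, 6, 16] (.step [10, 14, 11] (.step [16, 19] .fail)))), (1, (.step [8, 10] .fail)), (1, (.step [6, 10, 10] .fail)), (1, (.step [6, 10, 15] (.step [11, 13, 11] (.step [18, 16, 14] .fail)))), (1, (.step [6, 8, 10] .fail)), (1, (.step [8, 16, 11] .fail)), (1, (.step [6, 16] .fail)), (2, .fail), (1, (.step [8, 6, 14] (.step [12] .fail))), (1, .fail), (1, (.step [6, 16, 10] (.step [11,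 20, 11] .fail))), (1, (.step [6, 10, 16] .fail)), (2, .fail), (1, (.step [7, 10, 9] (.step [13, 11] (.step [14, 16, 20] .fail)))), (4, .fail), (1, (.step [7, 7, 15] (.step [10, 15, 13, 10] (.step [14, 19] (.step [] (.done [4, 4, 4, 4, 4, 4])))))), (1, (.step [6, 16, 10] (.step [10, 12, 11] .fail))), (1, (.step [6, 9, 7, 8] .fail)), (1, (.step [6, 16] .fail)), (1, (.step [6, 8, 6, 14] .fail)), (1, .fail), (1, (.step [6, 16, 15] .fail)), (1, .fail), (1, (.step [6, 6, 8, 11] (.step [10, 16, 10] (.step [14, 20, 15, 18] .fail)))), (1, (.step [6, 6, 8, 11] (.step [11, 15, 20] (.step [15, 19, 17] (.step [] (.done [4, 4, 4, 4, 4])))))), (1, (.step [7, 7, 10] (.step [11, 12, 14] (.step [14, 16, 20, 18] .fail)))), (1, .fail), (1, (.step [6, 11, 14] .fail)), (1, (.step [6, 6, 8, 15] .fail)), (1, (.step [6, 8] (.step [10, 19, 16] (.step [15, 19] .fail)))), (1, (.step [7, 11, 9] (.step [10, 16, 20] (.step [16,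 15] .fail)))), (1, (.step [7, 10, 9] .fail)), (1, (.step [8, 10] (.step [12, 19] .fail))), (1, (.step [8, 11, 6] .fail)), (1, (.step [6, 10, 15] (.step [10, 13, 11] .fail))), (2, .fail), (1, (.step [6, 14, 16] .fail)), (1, (.step [8, 16, 8] .fail)), (1, (.step [6, 8, 14, 11] (.step [10, 20] (.step [16, 19] .fail)))), (1, (.step [8, 6] (.step [11, 13] (.step [14, 20, 15] .fail)))), (1, .fail), (1, (.step [8, 6] .fail)), (1, (.step [6, 11, 9, 16] (.step [12, 20, 12] (.step [18, 14, 16] .fail)))), (1, (.step [6, 6, 14, 8] .fail)), (1, (.step [6, 15, 10, 7] .fail)), (1, (.step [7, 9, 15] .fail)), (1, (.step [6, 8, 10] .fail)), (1, .fail), (1, (.step [6, 9, 7, 11] .fail)), (2, .fail), (1, (.step [7, 15] .fail)), (1, .fail), (1, (.step [6, 8, 7, 9] (.step [11, 11, 11] (.step [14, 16, 17] .fail)))), (2, .fail), (1, (.step [6, 9, 6] .fail)), (1, (.step [6, 8, 14, 9] (.step [10, 10, 12] (.step [18] .fail)))),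 (1, .fail), (1, (.step [6, 16, 14] (.step [11, 14] (.step [17, 19] (.step [] (.done [4, 4, 4])))))), (1, (.step [6, 15, 10] .fail)), (1, (.step [6, 6, 8, 11] (.step [10, 15] (.step [15, 19, 18] .fail)))), (1, (.step [6, 6, 11, 7] (.step [10, 14, 11] (.step [16, 17, 19] .fail)))), (1, .fail), (1, (.step [7, 10] (.step [10, 12, 10] .fail))), (1, (.step [7, 10, 14] (.step [13] (.step [15, 18] .fail)))), (1, (.step [6, 6, 11, 9] .fail)), (1, (.step [8, 6] (.step [11, 13] (.step [14, 20, 15] .fail)))), (1, (.step [8, 16] (.step [11, 19] (.step [16, 17, 20] .fail)))), (1, (.step [7, 11, 9] .fail)), (1, (.step [9, 7, 9] (.step [10, 15, 13, 10] (.step [18, 16] .fail)))), (2, .fail), (1, (.step [6, 16, 7, 16] .fail)), (2, .fail), (1, (.step [7, 10] .fail)), (1, (.step [6, 8, 15, 8] (.step [11, 11] (.step [15, 18, 20] .fail)))), (1, .fail), (1, (.step [9, 6, 15] (.step [11, 11, 13] (.step [15] .fail)))),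 (1, (.step [6, 8, 15, 8] (.step [11, 11] (.step [15, 18, 20] .fail)))), (1, (.step [6] .fail)), (1, .fail), (1, (.step [6, 16, 10] (.step [11, 20, 11] (.step [16, 17] .fail)))), (1, (.step [6, 16, 7] (.step [10, 14, 20] (.step [14, 18, 16] .fail)))), (1, (.step [8, 16, 9] .fail)), (1, .fail), (1, (.step [6, 16, 11] .fail)), (1, .fail), (1, (.step [7, 9, 15] .fail)), (1, (.step [6, 10, 6, 6] .fail)), (1, (.step [6, 6, 8] .fail)), (1, .fail), (1, (.step [9, 7] (.step [10, 14, 10, 10] .fail))), (1, .fail), (1, (.step [6, 16, 7] (.step [10, 13] .fail))), (1, .fail), (1, (.step [9, 7, 8] (.step [12, 11, 15] (.step [14, 18] (.step [19] (.done [4, 4, 4, 4])))))), (1, (.step [6, 9, 15, 11] (.step [10, 12, 19] (.step [14, 17, 19] .fail)))), (1, (.step [7, 8, 15] (.step [11, 11] (.step [14, 20, 17] .fail)))), (1, (.step [6, 6, 15] (.step [13, 13] (.step [18, 20] .fail)))), (1, (.step [6, 6, 10, 8] .fail)),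 (1, .fail), (1, (.step [9, 6] (.step [10, 13, 16] (.step [15, 19] .fail))))])

/-- the pieces of a certificate -/
noncomputable def pcsCp : List (List (List ℕ) × Cert) := [(UA_0, cCp_0)]

/-- a piece of a certificate -/
noncomputable def cT2_0 : Cert := (Cert.rl [(1, (.step [6, 9, 11, 7] .fail)), (2, .fail), (1, (.step [6, 6, 8, 11] (.step [10, 14, 10] (.step [17, 15, 16] .fail)))), (1, (.step [7, 11, 9] (.step [10, 10, 19] (.step [14, 18, 19] .fail)))), (1, (.step [6, 8, 7] (.step [10, 13, 19] .fail))), (1, (.step [6, 6, 11] (.step [10, 15] .fail))), (1, (.step [6, 14, 9] (.step [11, 13] (.step [14, 16, 18] .fail)))), (1, (.step [6, 9, 9] .fail)), (1, .fail), (1, (.step [6, 9, 11, 7] .fail)), (1, .fail), (1, (.step [7, 10, 9] .fail)), (1, (.step [6, 14, 8] (.step [13, 15, 13] (.step [14, 20, 17] .fail)))), (1, .fail), (1, (.step [6, 15, 10, 6] .fail)), (1, .fail), (1, (.step [6, 10, 6] .fail)),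 (2, .fail), (1, (.step [6, 6, 14] (.step [10, 16, 20] (.step [14, 20, 15] .fail)))), (2, .fail), (1, (.step [7, 7, 10] (.step [10, 10, 20] (.step [15, 20, 17] .fail)))), (1, (.step [8, 7, 16] (.step [10, 14, 10, 10] (.step [14, 16, 20, 18] .fail)))), (1, (.step [6, 9, 7, 8] .fail)), (1, .fail), (1, (.step [6, 8, 7, 9] (.step [10, 20] (.step [15] .fail)))), (1, .fail), (1, (.step [7, 16, 11] (.step [11, 19] (.step [18] .fail)))), (1, (.step [6, 8, 7, 9] (.step [11, 14, 19] .fail))), (1, (.step [8, 7, 9] (.step [10, 15, 19] .fail))), (1, .fail), (1, (.step [7, 14, 9] .fail)), (1, (.step [6, 6, 8, 11] (.step [10, 14, 10] (.step [17, 15, 16] .fail)))), (1, .fail), (1, (.step [6, 9, 15, 11] .fail)), (1, (.step [9, 7, 14] (.step [12, 11] (.step [18, 14, 16] .fail)))), (3, .fail), (1, (.step [7, 10, 14] (.step [12, 20, 12] (.step [14, 18] .fail)))), (1, (.step [8, 10] (.step [12, 12, 15] (.step [15, 16,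 17] .fail)))), (1, (.step [6, 16, 14] .fail)), (1, .fail), (1, (.step [6, 8] (.step [11, 14, 10] (.step [14, 19, 17] .fail)))), (1, (.step [6, 8, 14, 9] (.step [13, 10, 12] (.step [16, 17] .fail)))), (1, (.step [6, 9, 7, 11] .fail)), (1, (.step [6, 6, 11] (.step [10, 15] .fail))), (2, .fail), (1, (.step [6, 9, 10, 10] (.step [13, 10] (.step [14, 18, 16] .fail)))), (2, .fail), (1, (.step [6, 8, 7] (.step [13, 19, 16] .fail))), (1, (.step [8, 16] (.step [10, 10, 14] .fail))), (1, (.step [6, 6, 8, 11] (.step [10, 12] (.step [14, 16, 20] .fail)))), (1, (.step [8, 11, 14] .fail)), (1, .fail), (1, (.step [8, 7, 9] (.step [10] .fail))), (1, .fail), (1, (.step [6, 10, 10] (.step [11, 13, 20] (.step [17, 16, 15] .fail)))), (1, (.step [8, 11] (.step [10, 13, 16] (.step [16, 17, 15] .fail)))), (1, (.step [7, 10, 6] (.step [12, 20, 12] (.step [18, 16] .fail)))), (1, (.step [7, 10, 15] .fail)), (2, .fail), (1,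 (.step [6, 6, 8, 15] (.step [10, 20, 10] (.step [14, 16, 17] .fail)))), (1, .fail), (1, (.step [6, 14, 11] (.step [11, 19, 15] (.step [16, 17, 20] .fail)))), (1, (.step [8, 7, 9] .fail)), (1, (.step [7, 8] .fail)), (1, (.step [8, 6, 9] .fail)), (1, .fail), (1, (.step [7, 10, 14] (.step [12, 20, 12] (.step [14, 18] .fail)))), (1, .fail), (1, (.step [7] .fail)), (1, .fail), (1, (.step [7, 14, 9] (.step [11, 15, 20] (.step [15, 16, 17] .fail)))), (1, (.step [6, 6, 14, 11] .fail)), (1, (.step [6, 16, 6, 9] .fail)), (1, (.step [6, 15] (.step [12, 20] .fail))), (1, (.step [6, 6] .fail)), (1, (.step [6, 9, 6, 6] (.step [10, 13, 13] (.step [16, 17, 16] .fail)))), (1, (.step [8, 11] (.step [10, 13, 16] (.step [16, 17, 15] .fail)))), (1, (.step [6, 6, 11, 11] (.step [10, 14, 12] (.step [16, 14] .fail)))), (1, (.step [8, 7, 15] (.step [11, 13, 11] (.step [] .fail)))), (1, (.step [7, 8, 8] .fail)), (1, (.step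 [6, 16, 6, 9] .fail)), (3, .fail), (1, (.step [7, 8, 7] .fail)), (1, (.step [6, 9, 7] .fail)), (1, .fail), (1, (.step [6, 8, 15] (.step [10, 16, 19] (.step [16, 20] .fail)))), (1, (.step [6, 10, 16] .fail)), (1, (.step [6, 8, 7, 9] (.step [11, 19] .fail))), (1, .fail), (1, (.step [6, 8, 6, 15] (.step [11, 19, 15] (.step [16, 19] .fail)))), (1, (.step [8, 16, 7] (.step [13, 14] .fail))), (1, (.step [6, 11, 7, 14] (.step [11, 11, 13] (.step [16, 14] .fail)))), (1, (.step [8, 6] .fail)), (1, (.step [6, 9, 7] .fail)), (1, .fail), (1, (.step [8, 7, 16] (.step [10, 14, 10, 10] (.step [14, 16, 20, 18] .fail)))), (1, .fail), (1, (.step [6, 8, 6, 14] .fail)), (2, .fail), (1, (.step [6, 11, 9] .fail)), (1, (.step [6, 10, 10] .fail)), (4, .fail), (1, (.step [6, 9, 11, 7] .fail)), (1, (.step [6, 16, 6, 9] (.step [11, 13, 10] (.step [14, 16, 20] .fail)))), (1, (.step [6, 9] .fail)), (1, (.step [7, 11] (.step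 [10, 14, 12] .fail))), (1, (.step [6, 14, 8] (.step [13, 19, 16] (.step [14, 18, 19] .fail)))), (1, (.step [6, 6, 10, 8] (.step [11, 14] (.step [14, 16, 18] .fail)))), (1, (.step [6, 10, 15] .fail)), (2, .fail), (1, (.step [6, 8, 6, 14] (.step [10, 13, 14, 10] (.step [14, 18] .fail)))), (1, (.step [7, 8] .fail)), (3, .fail), (1, (.step [6, 6, 15, 6] (.step [11, 14] (.step [14, 18, 19] .fail)))), (1, (.step [6, 6, 8, 11] (.step [10, 14, 10] (.step [17, 15, 16] .fail)))), (1, (.step [6, 11, 7] (.step [13, 15] .fail))), (1, (.step [9, 6, 14] (.step [10, 13] (.step [14, 20] .fail)))), (1, (.step [7, 11] (.step [12, 12] (.step [16] .fail)))), (1, (.step [8, 6] .fail)), (1, (.step [6, 6, 14, 11] (.step [12] (.step [15, 17, 19] .fail)))), (1, (.step [6, 9, 6] (.step [13, 19] (.step [16] .fail)))), (1, .fail), (1, (.step [6, 9] .fail)), (1, .fail), (1, (.step [6, 9, 10, 10] (.step [11, 15] (.step [16, 17,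 20] .fail)))), (1, (.step [6, 8, 14, 9] .fail)), (1, .fail), (1, (.step [6, 10, 16] .fail)), (1, .fail), (1, (.step [6, 9, 6, 6] (.step [11, 11, 11] (.step [14, 16, 17] .fail)))), (1, .fail), (1, (.step [6, 6, 11] (.step [11, 11] (.step [14, 19, 18] .fail)))), (3, .fail), (1, (.step [6, 14, 11] (.step [10, 13, 14, 10] (.step [14, 20] .fail)))), (1, (.step [8, 7, 16] .fail)), (1, (.step [6, 10, 10, 10] (.step [10] (.step [14, 17] .fail)))), (1, .fail), (1, (.step [6, 8, 7] (.step [13, 19, 16] .fail))), (1, (.step [6, 14, 16] (.step [13, 10] (.step [17, 16, 15] .fail)))), (1, (.step [6, 15, 10, 6] (.step [10, 12, 11, 15] (.step [14, 20, 17] .fail)))), (1, .fail), (1, (.step [6, 9, 6] .fail)), (1, (.step [7, 9] (.step [10, 14, 20] (.step [14, 20, 17] .fail)))), (1, .fail), (1, (.step [7, 8, 15] (.step [11, 15, 11] (.step [16, 14, 18] .fail)))), (1, .fail), (1, (.step [6, 16, 15] (.step [13, 15] (.step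 [14, 20, 18] .fail)))), (2, .fail), (1, (.step [6, 9, 15, 11] (.step [10, 15, 12] (.step [16, 15, 17] .fail)))), (3, .fail), (1, (.step [7, 11, 9] (.step [10, 10, 19] (.step [14, 18, 19] .fail)))), (1, (.step [8, 10] (.step [10, 10, 20] (.step [18, 20] .fail)))), (1, (.step [6, 8, 14] .fail)), (1, (.step [6, 16, 6, 9] (.step [11, 13, 10] (.step [14, 16, 20] .fail)))), (1, (.step [9, 6] .fail)), (3, .fail), (1, (.step [7, 10, 8] (.step [11, 11, 11] (.step [18] .fail)))), (1, .fail), (1, (.step [8, 7, 9] (.step [13, 13] .fail))), (1, (.step [7, 8, 7] (.step [11, 13, 20] (.step [15, 19] .fail)))), (1, (.step [6, 14, 8] (.step [12, 20] .fail))), (1, (.step [6, 14, 8] .fail)), (1, (.step [6, 16, 6, 9] .fail)), (5, .fail), (1, (.step [7, 14, 9] .fail)), (1, (.step [6, 15, 10, 6] (.step [12] (.step [14, 19] .fail)))), (1, (.step [7, 10, 6] .fail)), (1, (.step [7, 11, 9] (.step [13, 19] (.step [16, 19]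 .fail)))), (1, (.step [8, 7, 9] (.step [10] .fail))), (2, .fail), (1, (.step [7, 9] (.step [10, 14, 20] (.step [14, 20, 17] .fail)))), (1, (.step [6, 16, 6] (.step [10, 16] (.step [16, 17, 19] .fail)))), (1, .fail), (1, (.step [8, 16, 8] .fail)), (1, .fail), (1, (.step [7, 8] .fail)), (1, (.step [] .fail)), (1, (.step [7, 9, 15] (.step [10] .fail))), (2, .fail), (1, (.step [6, 9, 6] (.step [12, 12, 15] (.step [14, 20, 15, 18] .fail)))), (1, (.step [8, 7, 9] (.step [12, 20, 10] (.step [15, 18, 20] .fail)))), (2, .fail), (1, (.step [6, 9, 11] (.step [12, 20] (.step [14, 17] .fail)))), (7, .fail), (1, (.step [6, 9, 6, 16] .fail)), (1, .fail), (1, (.step [8, 7, 7] (.step [11, 15, 20] .fail))), (1, (.step [6, 6, 8, 11] .fail)), (1, (.step [7, 8, 15] .fail)), (1, (.step [6, 8, 7, 9] (.step [11, 14, 19] .fail))), (1, .fail), (1, (.step [6, 14] (.step [10, 15, 12] (.step [14, 19, 18] .fail)))), (1, .fail),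 (1, (.step [6, 9, 11] .fail)), (1, .fail), (1, (.step [6, 10, 10] (.step [11, 13, 20] (.step [17, 16, 15] .fail)))), (1, (.step [6, 14, 11] (.step [10, 10] (.step [15] .fail)))), (1, (.step [6, 9, 10] (.step [10, 10] (.step [17, 15, 16] .fail)))), (1, (.step [6, 16, 7, 16] .fail)), (1, (.step [7, 10, 7] (.step [10, 20, 10] (.step [14, 19] .fail)))), (1, .fail), (1, (.step [8, 7, 9] (.step [12, 20, 10] (.step [15, 18, 20] .fail)))), (1, (.step [7] .fail)), (1, .fail), (1, (.step [6, 6, 14] .fail)), (1, (.step [6, 9, 10, 10] (.step [11, 15] (.step [16, 17, 20] .fail)))), (1, (.step [6, 6, 15, 6] .fail)), (2, .fail), (1, (.step [6, 8, 10, 16] .fail)), (1, .fail), (1, (.step [6, 16, 6, 9] .fail)), (1, (.step [6, 8, 7] (.step [13, 19, 16] .fail))), (1, (.step [6, 16, 7, 16] (.step [11, 11, 13] (.step [18, 14, 16] .fail)))), (1, (.step [6, 16, 6, 9] .fail)), (1, .fail), (1, (.step [6, 11, 15] .fail)),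 (1, (.step [9, 6] (.step [13, 16] (.step [14, 17] .fail)))), (1, (.step [6, 6, 11, 11] .fail)), (7, .fail), (1, (.step [8, 16, 11] (.step [10, 20, 10] .fail))), (1, (.step [6, 8, 14, 11] .fail)), (1, .fail), (1, (.step [6, 9, 9] .fail)), (1, .fail), (1, (.step [6, 9, 14, 11] .fail)), (1, (.step [6, 10, 8] (.step [10] (.step [16] .fail)))), (1, (.step [6] (.step [10, 10, 12, 15] (.step [16, 17, 20] .fail)))), (1, (.step [6, 6, 8, 8] .fail)), (2, .fail), (1, (.step [8, 16] (.step [12, 20, 10] (.step [14, 18, 14] .fail))))])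

/-- the pieces of a certificate -/
noncomputable def pcsT2 : List (List (List ℕ) × Cert) := [(UA_0, cT2_0)]

/-- a piece of a certificate -/
noncomputable def cCh_0 : Cert := (Cert.rl [(13, (.badPow 13 1)), (1, (Cert.rl [(49, (.badPow 133 1)), (1, (Cert.rl [(37, (.badPow 134 1)), (1, (Cert.rl [(27, (.badPow 228 1)), (1, (Cert.rl [(1, (.step [] (.done []))), (1, (.step [] (.done [34, 33, 34, 33]))), (1, (.step [33] (.done [33, 34]))), (1, (.step [] (.done [34, 33]))), (1, (.step [33] (.done [33, 34, 33, 34])))])), (8, (.badPow 228 1))])), (43, (.badPow 134 1))])), (1, (Cert.rl [(34, (.badPow 134 1)), (1, (Cert.rl [(24, (.badPow 228 1)), (1, (Cert.rl [(5, .fail)])), (11, (.badPow 228 1))])), (46, (.badPow 134 1))])), (61, (.badPow 133 1))])), (119, (.badPow 13 1)), (1, (Cert.rl [(62, (.badPow 133 1)), (1, (Cert.rl [(40, (.badPow 134 1)), (1, (Cert.rl [(10, (.badPow 228 1)), (1, (Cert.rl [(5, .fail)])),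 (25, (.badPow 228 1))])), (40, (.badPow 134 1))])), (32, (.badPow 133 1)), (1, (Cert.rl [(58, (.badPow 134 1)), (1, (Cert.rl [(17, (.badPow 228 1)), (1, (Cert.rl [(1, (.step [] (.done [35]))), (1, (.step [] (.done [34, 33, 34, 33, 31, 34, 31, 30, 34, 29, 26, 23, 23, 0, 3, 2, 1]))), (1, (.step [33] (.done [33, 34, 31, 34, 31, 30, 34, 29, 26, 23, 23, 0, 3, 2, 1]))), (1, (.step [] (.done [34, 33, 31, 34, 31, 30, 34, 29, 26, 23, 23, 0, 3, 2, 1]))), (1, (.step [33] (.done [33, 34, 33, 34, 31, 34, 31, 30, 34, 29, 26, 23, 23, 0, 3, 2, 1])))])), (18, (.badPow 228 1))])), (22, (.badPow 134 1))])), (16, (.badPow 133 1))])), (1, (Cert.rl [(18, (.badPow 133 1)), (1, (Cert.rl [(42, (.badPow 134 1)), (1, (Cert.rl [(24, (.badPow 228 1)), (1, (Cert.rl [(5, .fail)])), (11, (.badPow 228 1))])), (38, (.badPow 134 1))])), (40, (.badPow 133 1)), (1, (Cert.rl [(35, (.badPow 134 1)), (1, (Cert.rl [(32, (.badPow 228 1)),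 (1, (Cert.rl [(1, (.step [33] (.done [33, 31, 31, 33, 30, 34, 27, 23, 25, 25, 24, 0, 3, 2, 1, 0, 3]))), (1, (.step [33] (.done [33, 34, 33, 34, 33, 31, 31, 33, 30, 34, 27, 23, 25, 25, 24, 0, 3, 2, 1, 0, 3]))), (1, (.step [] (.done [34, 31, 31, 33, 30, 34, 27, 23, 25, 25, 24, 0, 3, 2, 1, 0, 3]))), (1, (.step [33] (.done [33, 34, 33, 31, 31, 33, 30, 34, 27, 23, 25, 25, 24, 0, 3, 2, 1, 0, 3]))), (1, (.step [] (.done [34, 33, 34, 31, 31, 33, 30, 34, 27, 23, 25, 25, 24, 0, 3, 2, 1, 0, 3])))])), (3, (.badPow 228 1))])), (45, (.badPow 134 1))])), (52, (.badPow 133 1))])), (93, (.badPow 13 1)), (1, (Cert.rl [(60, (.badPow 133 1)), (1, (Cert.rl [(46, (.badPow 134 1)), (1, (Cert.rl [(29, (.badPow 228 1)), (1, (Cert.rl [(1, (.step [33] (.done [33, 31, 31, 33, 34, 30, 27, 30, 25, 2, 1, 2, 2]))), (1, (.step [33] (.done [33, 34, 33, 34, 33, 31, 31, 33, 34, 30, 27, 30, 25, 2, 1, 2, 2]))), (1, (.step [] (.done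 [34, 31, 31, 33, 34, 30, 27, 30, 25, 2, 1, 2, 2]))), (1, (.step [33] (.done [33, 34, 33, 31, 31, 33, 34, 30, 27, 30, 25, 2, 1, 2, 2]))), (1, (.step [] (.done [34, 33, 34, 31, 31, 33, 34, 30, 27, 30, 25, 2, 1, 2, 2])))])), (6, (.badPow 228 1))])), (34, (.badPow 134 1))])), (28, (.badPow 133 1)), (1, (Cert.rl [(3, (.badPow 134 1)), (1, (Cert.rl [(26, (.badPow 228 1)), (1, (Cert.rl [(5, .fail)])), (9, (.badPow 228 1))])), (77, (.badPow 134 1))])), (22, (.badPow 133 1))])), (4, (.badPow 13 1)), (1, (Cert.rl [(3, (.badPow 133 1)), (1, (Cert.rl [(27, (.badPow 134 1)), (1, (Cert.rl [(19, (.badPow 228 1)), (1, (Cert.rl [(1, (.step [33] (.done [33, 31, 33, 32, 33, 28, 28, 33, 26, 24, 2, 1, 2]))), (1, (.step [33] (.done [33, 34, 33, 34, 33, 31, 33, 32, 33, 28, 28, 33, 26, 24, 2, 1, 2]))), (1, (.step [] (.done [34, 31, 33, 32, 33, 28, 28, 33, 26, 24, 2, 1, 2]))), (1, (.step [33] (.done [33, 34, 33, 31, 33,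 32, 33, 28, 28, 33, 26, 24, 2, 1, 2]))), (1, (.step [] (.done [34, 33, 34, 31, 33, 32, 33, 28, 28, 33, 26, 24, 2, 1, 2])))])), (16, (.badPow 228 1))])), (53, (.badPow 134 1))])), (107, (.badPow 133 1)), (1, (Cert.rl [(19, (.badPow 134 1)), (1, (Cert.rl [(25, (.badPow 228 1)), (1, (Cert.rl [(5, .fail)])), (10, (.badPow 228 1))])), (61, (.badPow 134 1))]))])), (41, (.badPow 13 1))])

/-- the pieces of a certificate -/
noncomputable def pcsCh : List (List (List ℕ) × Cert) := [(UB_0, cCh_0)]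

/-- the old letters as words in good letters -/
def Wl : List (List ℕ) := [
[50, 46, 47, 46, 41, 43, 41, 39, 37, 37, 40, 21, 36, 36], [49, 47, 45, 45, 40, 41, 41, 4, 36, 36, 5], [43, 47, 41, 50, 37, 37, 39, 41, 40, 21, 35, 35],
[50, 46, 43, 47, 44, 41, 41, 37, 39, 37, 36, 4, 21, 35]]

/-- the conjugating element of the outer automorphism -/
def wx : List ℕ := [4, 19, 18, 10, 15, 16, 7, 8, 10, 0, 1, 0, 0]

/-- the images of the letters under the conjugation by the permutation -/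
def Bw : List (List ℕ) := [
[20, 16, 18, 11, 11, 8, 16, 7, 0, 1, 0, 3, 3], [16, 17, 16, 13, 6, 8, 6, 15, 1, 0, 1, 0, 3, 0], [19, 14, 18, 14, 10, 10, 20, 6, 15, 10, 7, 2, 2, 1, 0], [20, 16, 15, 17, 10, 10, 20, 6, 8, 7, 9, 2, 3, 2, 2, 3, 3],
[20, 17, 16, 15, 13, 13, 14, 6, 6, 8, 8, 2, 2, 3, 3, 0, 3], [20, 14, 19, 11, 11, 13, 6, 6, 14, 11, 0, 0, 0, 1, 0], [20, 16, 15, 13, 10, 12, 6, 6, 11, 9, 3, 3, 0, 3, 0, 1], [14, 16, 10, 19, 16, 8, 16, 0, 0, 0],
[20, 16, 19, 11, 15, 20, 7, 8, 1, 0, 1, 0], [14, 17, 16, 10, 20, 10, 6, 15, 10, 3, 3, 0, 3, 3], [14, 11, 15, 12, 6, 9, 7, 11, 2, 1, 0, 0, 0], [19, 14, 19, 10, 15, 13, 6, 6, 15, 10, 1, 2, 3, 3, 0],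
[14, 19, 17, 10, 16, 20, 6, 14, 9, 2, 3, 2, 3, 0], [19, 15, 17, 10, 15, 19, 7, 7, 8, 0, 3, 0, 3, 2, 2], [20, 15, 19, 17, 10, 13, 16, 6, 6, 10, 10, 2, 3, 2, 3], [19, 16, 11, 15, 20, 6, 9, 2, 2, 2, 2, 3],
[19, 18, 16, 14, 12, 20, 12, 6, 10, 7, 1], [20, 14, 10, 10, 16, 6, 8, 15, 6, 0, 3, 2], [20, 15, 16, 12, 8, 11, 2, 1, 0, 1], [18, 20, 11, 20, 6, 8, 6, 3, 3, 3, 0, 0],
[14, 20, 15, 18, 10, 19, 11, 6, 10, 15, 7, 0, 0, 3, 0, 0], [20, 15, 20, 6, 8, 14, 2, 3, 2, 2, 2], [14, 20, 15, 11, 12, 10, 6, 16, 15, 0, 1, 0, 1], [14, 18, 19, 10, 14, 16, 6, 9, 6, 6, 0, 0, 3, 0, 1],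
[20, 16, 20, 12, 12, 20, 6, 16, 7, 0, 1, 1, 2, 3, 3], [19, 16, 17, 19, 10, 19, 16, 9, 6, 0, 1, 1, 1, 2], [20, 15, 16, 11, 20, 6, 14, 10, 0, 3, 0, 3, 2], [17, 19, 16, 10, 15, 16, 6, 16, 11, 0, 0, 1],
[20, 15, 10, 13, 15, 6, 10, 10, 2, 2, 1, 0], [20, 16, 17, 13, 10, 12, 6, 9, 6, 9, 0, 0, 1], [19, 14, 16, 20, 10, 13, 19, 6, 8, 10, 16, 0, 0, 1], [19, 14, 18, 14, 10, 15, 13, 10, 6, 6, 14, 11, 0, 0, 1],
[19, 16, 17, 19, 11, 12, 7, 11, 8, 0, 0, 1], [17, 16, 12, 19, 15, 6, 9, 9, 0, 0, 0, 1, 0], [20, 14, 17, 19, 11, 14, 20, 7, 9, 16], [20, 15, 19, 10, 16, 10, 7, 10, 9, 2, 2, 1, 2],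
[19, 15, 16, 10, 14, 10, 6, 11, 14, 0, 0, 3, 0, 3, 2], [19, 14, 17, 13, 15, 13, 6, 10, 10, 1, 0, 1], [20, 18, 14, 12, 12, 6, 9, 6, 2, 1, 0, 1], [16, 19, 10, 19, 16, 6, 16, 15, 3, 2, 3, 0],
[17, 16, 15, 10, 16, 8, 10, 0, 1, 0, 0, 0], [14, 20, 17, 10, 13, 10, 6, 10, 9, 2, 2, 2, 2], [20, 17, 15, 10, 16, 10, 6, 14, 9, 0, 0, 0, 1, 0], [16, 15, 13, 6, 8, 10, 16, 0, 1, 0, 0, 0],
[19, 10, 14, 16, 6, 6, 10, 0, 1, 1], [18, 14, 16, 11, 11, 13, 8, 16, 8, 0, 0, 0, 1, 1], [20, 17, 16, 11, 12, 10, 8, 7, 9, 2, 2, 2, 2, 3], [20, 17, 16, 15, 10, 16, 10, 7, 9, 16, 1, 1, 0, 3],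
[20, 15, 19, 18, 11, 15, 20, 9, 6, 0, 1, 0, 3, 0], [14, 20, 15, 18, 10, 19, 11, 6, 10, 15, 7, 0, 0, 3, 0, 0], [18, 20, 11, 20, 6, 8, 6, 3, 3, 3, 0, 0]]

/-- the relators -/
def relL : List (List ℕ) := [
[0, 2, 0, 2, 0, 2, 0, 2, 0, 2, 0, 2, 0, 2, 0, 2, 0, 2],
[0, 1, 2, 0, 1, 2, 0, 1, 2, 0, 1, 2, 0, 1, 2, 0, 1, 2, 0, 1, 2, 0, 1, 2, 0, 1, 2, 0, 1, 2, 0, 1, 2]]

/-- the candidates for the image of the third generator -/
def candL : List (List ℕ) := [
[], [34, 33, 34, 33], [33, 34], [34, 33],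
[33, 34, 33, 34], [35], [34, 33, 34, 33, 31, 34, 31, 30, 34, 29, 26, 23, 23, 0, 3, 2, 1], [33, 34, 31, 34, 31, 30, 34, 29, 26, 23, 23, 0, 3, 2, 1],
[34, 33, 31, 34, 31, 30, 34, 29, 26, 23, 23, 0, 3, 2, 1], [33, 34, 33, 34, 31, 34, 31, 30, 34, 29, 26, 23, 23, 0, 3, 2, 1], [33, 31, 31, 33, 30, 34, 27, 23, 25, 25, 24, 0, 3, 2, 1, 0, 3], [33, 34, 33, 34, 33, 31, 31, 33, 30, 34, 27, 23, 25, 25, 24, 0, 3, 2, 1, 0, 3],
[34, 31, 31, 33, 30, 34, 27, 23, 25, 25, 24, 0, 3, 2, 1, 0, 3], [33, 34, 33, 31, 31, 33, 30, 34, 27, 23, 25, 25, 24, 0, 3, 2, 1, 0, 3], [34, 33, 34, 31, 31, 33, 30, 34, 27, 23, 25, 25, 24, 0, 3, 2, 1, 0, 3], [33, 31, 31, 33, 34, 30, 27, 30, 25, 2, 1, 2, 2],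
[33, 34, 33, 34, 33, 31, 31, 33, 34, 30, 27, 30, 25, 2, 1, 2, 2], [34, 31, 31, 33, 34, 30, 27, 30, 25, 2, 1, 2, 2], [33, 34, 33, 31, 31, 33, 34, 30, 27, 30, 25, 2, 1, 2, 2], [34, 33, 34, 31, 31, 33, 34, 30, 27, 30, 25, 2, 1, 2, 2],
[33, 31, 33, 32, 33, 28, 28, 33, 26, 24, 2, 1, 2], [33, 34, 33, 34, 33, 31, 33, 32, 33, 28, 28, 33, 26, 24, 2, 1, 2], [34, 31, 33, 32, 33, 28, 28, 33, 26, 24, 2, 1, 2], [33, 34, 33, 31, 33, 32, 33, 28, 28, 33, 26, 24, 2, 1, 2],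
[34, 33, 34, 31, 33, 32, 33, 28, 28, 33, 26, 24, 2, 1, 2]]

/-- the fate of the candidates, for the exponent 1: kept, or a relator and a point -/
def elim1 : List (List ℕ × ℕ × ℕ × ℕ) := [([], 0, 0, 0),
  ([34, 33, 34, 33], 0, 0, 0),
  ([33, 34], 0, 0, 0),
  ([34, 33], 0, 0, 0),
  ([33, 34, 33, 34], 0, 0, 0),
  ([35], 1, 0, 0),
  ([34, 33, 34, 33, 31, 34, 31, 30, 34, 29, 26, 23, 23, 0, 3, 2, 1], 0, 0, 0),
  ([33, 34, 31, 34, 31, 30, 34, 29, 26, 23, 23, 0, 3, 2, 1], 0, 0, 0),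
  ([34, 33, 31, 34, 31, 30, 34, 29, 26, 23, 23, 0, 3, 2, 1], 0, 0, 0),
  ([33, 34, 33, 34, 31, 34, 31, 30, 34, 29, 26, 23, 23, 0, 3, 2, 1], 0, 0, 0),
  ([33, 31, 31, 33, 30, 34, 27, 23, 25, 25, 24, 0, 3, 2, 1, 0, 3], 1, 0, 0),
  ([33, 34, 33, 34, 33, 31, 31, 33, 30, 34, 27, 23, 25, 25, 24, 0, 3, 2, 1, 0, 3], 0, 0, 0),
  ([34, 31, 31, 33, 30, 34, 27, 23, 25, 25, 24, 0, 3, 2, 1, 0, 3], 0, 0, 0),
  ([33, 34, 33, 31, 31, 33, 30, 34, 27, 23, 25, 25, 24, 0, 3, 2, 1, 0, 3], 0, 0, 0),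
  ([34, 33, 34, 31, 31, 33, 30, 34, 27, 23, 25, 25, 24, 0, 3, 2, 1, 0, 3], 0, 0, 0),
  ([33, 31, 31, 33, 34, 30, 27, 30, 25, 2, 1, 2, 2], 0, 0, 0),
  ([33, 34, 33, 34, 33, 31, 31, 33, 34, 30, 27, 30, 25, 2, 1, 2, 2], 0, 0, 0),
  ([34, 31, 31, 33, 34, 30, 27, 30, 25, 2, 1, 2, 2], 0, 0, 0),
  ([33, 34, 33, 31, 31, 33, 34, 30, 27, 30, 25, 2, 1, 2, 2], 0, 0, 0),
  ([34, 33, 34, 31, 31, 33, 34, 30, 27, 30, 25, 2, 1, 2, 2], 0, 0, 0),
  ([33, 31, 33, 32, 33, 28, 28, 33, 26, 24, 2, 1, 2], 0, 0, 0),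
  ([33, 34, 33, 34, 33, 31, 33, 32, 33, 28, 28, 33, 26, 24, 2, 1, 2], 0, 0, 0),
  ([34, 31, 33, 32, 33, 28, 28, 33, 26, 24, 2, 1, 2], 0, 0, 0),
  ([33, 34, 33, 31, 33, 32, 33, 28, 28, 33, 26, 24, 2, 1, 2], 0, 0, 0),
  ([34, 33, 34, 31, 33, 32, 33, 28, 28, 33, 26, 24, 2, 1, 2], 0, 0, 0)]

/-- the fate of the candidates, for the exponent 2: kept, or a relator and a point -/
def elim2 : List (List ℕ × ℕ × ℕ × ℕ) := [([], 0, 0, 0),
  ([34, 33, 34, 33], 0, 0, 0),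
  ([33, 34], 0, 0, 0),
  ([34, 33], 0, 0, 0),
  ([33, 34, 33, 34], 0, 0, 0),
  ([35], 0, 0, 0),
  ([34, 33, 34, 33, 31, 34, 31, 30, 34, 29, 26, 23, 23, 0, 3, 2, 1], 0, 0, 0),
  ([33, 34, 31, 34, 31, 30, 34, 29, 26, 23, 23, 0, 3, 2, 1], 0, 0, 0),
  ([34, 33, 31, 34, 31, 30, 34, 29, 26, 23, 23, 0, 3, 2, 1], 0, 1, 0),
  ([33, 34, 33, 34, 31, 34, 31, 30, 34, 29, 26, 23, 23, 0, 3, 2, 1], 0, 0, 0),
  ([33, 31, 31, 33, 30, 34, 27, 23, 25, 25, 24, 0, 3, 2, 1, 0, 3], 0, 0, 0),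
  ([33, 34, 33, 34, 33, 31, 31, 33, 30, 34, 27, 23, 25, 25, 24, 0, 3, 2, 1, 0, 3], 0, 0, 0),
  ([34, 31, 31, 33, 30, 34, 27, 23, 25, 25, 24, 0, 3, 2, 1, 0, 3], 0, 1, 0),
  ([33, 34, 33, 31, 31, 33, 30, 34, 27, 23, 25, 25, 24, 0, 3, 2, 1, 0, 3], 0, 0, 0),
  ([34, 33, 34, 31, 31, 33, 30, 34, 27, 23, 25, 25, 24, 0, 3, 2, 1, 0, 3], 0, 0, 0),
  ([33, 31, 31, 33, 34, 30, 27, 30, 25, 2, 1, 2, 2], 0, 0, 0),
  ([33, 34, 33, 34, 33, 31, 31, 33, 34, 30, 27, 30, 25, 2, 1, 2, 2], 0, 0, 0),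
  ([34, 31, 31, 33, 34, 30, 27, 30, 25, 2, 1, 2, 2], 0, 0, 0),
  ([33, 34, 33, 31, 31, 33, 34, 30, 27, 30, 25, 2, 1, 2, 2], 0, 0, 0),
  ([34, 33, 34, 31, 31, 33, 34, 30, 27, 30, 25, 2, 1, 2, 2], 0, 0, 0),
  ([33, 31, 33, 32, 33, 28, 28, 33, 26, 24, 2, 1, 2], 0, 0, 0),
  ([33, 34, 33, 34, 33, 31, 33, 32, 33, 28, 28, 33, 26, 24, 2, 1, 2], 0, 0, 0),
  ([34, 31, 33, 32, 33, 28, 28, 33, 26, 24, 2, 1, 2], 0, 0, 0),
  ([33, 34, 33, 31, 33, 32, 33, 28, 28, 33, 26, 24, 2, 1, 2], 0, 0, 0),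
  ([34, 33, 34, 31, 33, 32, 33, 28, 28, 33, 26, 24, 2, 1, 2], 0, 0, 0)]

end Cfsg.Agent.Lib.Helper5.McLOut
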