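import Cfsg.Agent.Lib.Helper7.McLB8
import Cfsg.Agent.Lib.Helper5.McLOut2
import Cfsg.Agent.Lib.Helper5.McLOut3
import Cfsg.Agent.Lib.Helper5.Srch3

set_option autoImplicit false
set_option maxRecDepth 100000

/-! # The McLaughlin group: the model with more letters, and the two verified stabilizer chains -/

namespace Cfsg.Agent.Lib.Helper5.McLOut

open Cfsg.Spor Cfsg.Agent.Lib.Helper6.TC Cfsg.Agent.Lib.Helper6.PM Cfsg.Agent.Lib.Helper2.PMS
open Cfsg.Agent.Lib.Helper2.PMC Cfsg.Agent.Lib.Helper5.Chain Cfsg.Agent.Lib.Helper5.Srch
open Cfsg.Agent.Lib.Helper7.McLB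
set_option Elab.async false

theorem chk_old_0 : chkRange (chkOld mclM.px 275 pm) 0 4 = true := by decide +kernel
theorem chk_old : chkRange (chkOld mclM.px 275 pm) 0 4 = true :=
  chk_old_0

theorem chk_new_0 : chkRange (chkNew 275 4 ds pm) 0 47 = true := by decide +kernel
theorem chk_new : chkRange (chkNew 275 4 ds pm) 0 47 = true :=
  chk_new_0

theorem chk_slp : chkSLP mclM.px mclM.n mclM.nl ds pm = true :=
  chkSLP_of_pieces mclM.px 275 4 ds pm chk_old chk_new

/-- the model with the new letters -/
noncomputable def M : PModel := slpModel mclM ds pm chk_slp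

theorem card_G : Nat.card M.G = 898128000 := card_McL

theorem M_nl : M.nl = 51 := slpModel_nl mclM ds pm chk_slp

theorem chk_inv_0 : chkRange (chkInv1 M iv) 0 51 = true := by decide +kernel
theorem chk_inv : chkRange (chkInv1 M iv) 0 51 = true :=
  chk_inv_0

theorem invMap : InvMap M iv := invMap_of_pieces M iv chk_inv

theorem chk_lvA : chkLevels M [] lvA = true := by decide +kernel

theorem factsA : ChainFacts M lvA where
  hchk := chk_lvA
  hcard := by
    rw [card_G]
    decide +kernel

theorem chk_msA : chkMasks lvA msA = true := by decide +kernel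

theorem chk_lvB : chkLevels M [] lvB = true := by decide +kernel

theorem factsB : ChainFacts M lvB where
  hchk := chk_lvB
  hcard := by
    rw [card_G]
    decide +kernel

theorem chk_msB : chkMasks lvB msB = true := by decide +kernel

end Cfsg.Agent.Lib.Helper5.McLOut
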