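import Cfsg.Agent.Lib.Helper5.McLOut5
import Cfsg.Agent.Lib.Helper5.McLOut4
import Cfsg.Agent.Lib.Helper2.RigidOut4

set_option autoImplicit false
set_option maxRecDepth 100000

/-! # The McLaughlin group: the normalizer of a Sylow 11-subgroup -/

namespace Cfsg.Agent.Lib.Helper5.McLOut

open Cfsg.Spor Cfsg.Agent.Lib.Helper6.TC Cfsg.Agent.Lib.Helper6.PM Cfsg.Agent.Lib.Helper2.PMS
open Cfsg.Agent.Lib.Helper2.PMC Cfsg.Agent.Lib.Helper5.Chain Cfsg.Agent.Lib.Helper2.RigidOut
open Cfsg.Agent.Lib.Helper5.Srch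

set_option Elab.async false

/-- the element of order 11 -/
def wp : List ℕ := [4]
/-- the element of order 5 normalizing it -/
def wh : List ℕ := [21]
/-- an element of order 5 centralizing the element of order 5 -/
def wv : List ℕ := [35]

/-- the element of order 11 -/
noncomputable def gp : M.G := M.elt wp
/-- the element of order 5 -/
noncomputable def gh : M.G := M.elt wh
/-- the third generator -/
noncomputable def gv : M.G := M.elt wv

theorem lt_wp : ∀ c ∈ wp, c < M.nl := by rw [M_nl]; decide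
theorem lt_wh : ∀ c ∈ wh, c < M.nl := by rw [M_nl]; decide
theorem lt_wv : ∀ c ∈ wv, c < M.nl := by rw [M_nl]; decide

theorem gp_pow (k : ℕ) : gp ^ k = M.elt (rep k wp) := (elt_rep M k wp).symm
theorem gh_pow (k : ℕ) : gh ^ k = M.elt (rep k wh) := (elt_rep M k wh).symm

theorem gp_inv : gp⁻¹ = M.elt (invw iv wp) := (elt_invw M iv invMap wp lt_wp).symm
theorem gh_inv : gh⁻¹ = M.elt (invw iv wh) := (elt_invw M iv invMap wh lt_wh).symm
theorem gv_inv : gv⁻¹ = M.elt (invw iv wv) := (elt_invw M iv invMap wv lt_wv).symm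

theorem chk_p11 : chkBaseL M lvA (rep 11 wp) [] = true := by decide +kernel
theorem chk_p1 : chkNeAt M wp [] 0 = true := by decide +kernel

theorem gp_ne : gp ≠ 1 := by
  have := elt_ne_of_chkNeAt (M := M) _ _ _ chk_p1
  rwa [M.elt_nil] at this

theorem orderOf_gp : orderOf gp = 11 := by
  have : Fact (Nat.Prime 11) := ⟨by norm_num⟩
  apply orderOf_eq_prime
  · rw [gp_pow, ← M.elt_nil]
    exact factsA.elt_eq_of_chk _ _ chk_p11
  · exact gp_ne

theorem chk_h5 : chkBaseL M lvA (rep 5 wh) [] = true := by decide +kernel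
theorem chk_h1 : chkNeAt M wh [] 0 = true := by decide +kernel

theorem orderOf_gh : orderOf gh = 5 := by
  have : Fact (Nat.Prime 5) := ⟨by norm_num⟩
  apply orderOf_eq_prime
  · rw [gh_pow, ← M.elt_nil]
    exact factsA.elt_eq_of_chk _ _ chk_h5
  · have := elt_ne_of_chkNeAt (M := M) _ _ _ chk_h1
    rwa [M.elt_nil] at this

theorem chk_ph : chkBaseL M lvA (invw iv wh ++ wp ++ wh) (rep 3 wp) = true := by decide +kernel

theorem rel_ph : gh⁻¹ * gp * gh = gp ^ 3 := by
  rw [gh_inv, gp_pow]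
  unfold gp gh
  rw [← M.elt_append, ← M.elt_append]
  exact factsA.elt_eq_of_chk _ _ chk_ph

/-! ## The centralizer and the normalizer -/

theorem chk_wp : chkW M wp = true := by decide +kernel
theorem chk_wp2 : chkW M (rep 2 wp) = true := by decide +kernel

theorem chk_srcA : chkSrc M wp [] (LA0 :: lvA') = true := by decide +kernel

theorem chk_Cp_0 : chk M iv wp wp cCp_0 (LA0 :: lvA') msA (some UA_0) [] [] = true := by
  decide +kernel

theorem chk_Cp : ∀ p ∈ pcsCp, chk M iv wp wp p.2 (LA0 :: lvA') msA (some p.1) [] [] = true := by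
  intro p hp
  simp only [pcsCp, List.mem_cons, List.not_mem_nil, or_false] at hp
  rw [hp]
  exact chk_Cp_0

theorem leaves_Cp : (pcsCp.all fun p => (leaves p.2).all fun z =>
    ((List.range 11).map fun i => rep i wp).contains z) = true := by decide +kernel

theorem centralizer_gp (g : M.G) (hg : g⁻¹ * gp * g = gp) : ∃ i : ℕ, g = gp ^ i := by
  obtain ⟨p, hp, z, hz, hgz⟩ := search_pieces (L := LA0) (lv' := lvA') factsA msA chk_msA iv invMap
    wp wp chk_wp chk_wp chk_srcA rfl pcsCp rfl chk_Cp g hg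
  have h1 := leaves_Cp
  rw [List.all_eq_true] at h1
  have h2 := h1 p hp
  rw [List.all_eq_true] at h2
  have h3 := h2 z hz
  rw [List.contains_iff_mem, List.mem_map] at h3
  obtain ⟨i, _, rfl⟩ := h3
  exact ⟨i, by rw [hgz, gp_pow]⟩

theorem chk_T2_0 : chk M iv wp (rep 2 wp) cT2_0 (LA0 :: lvA') msA (some UA_0) [] [] = true := by
  decide +kernel

theorem chk_T2 : ∀ p ∈ pcsT2, chk M iv wp (rep 2 wp) p.2 (LA0 :: lvA') msA (some p.1) [] [] = true := by
  intro p hp
  simp only [pcsT2, List.mem_cons, List.not_mem_nil, or_false] at hp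
  rw [hp]
  exact chk_T2_0

theorem leaves_T2 : (pcsT2.all fun p => (leaves p.2).isEmpty) = true := by decide +kernel

theorem no_sq (g : M.G) : g⁻¹ * gp * g ≠ gp ^ 2 := by
  intro hg
  rw [gp_pow] at hg
  obtain ⟨p, hp, z, hz, _⟩ := search_pieces (L := LA0) (lv' := lvA') factsA msA chk_msA iv invMap
    wp (rep 2 wp) chk_wp chk_wp2 chk_srcA rfl pcsT2 rfl chk_T2 g hg
  have h1 := leaves_T2
  rw [List.all_eq_true] at h1
  have h2 := h1 p hp
  rw [List.isEmpty_iff] at h2
  rw [h2] at hz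
  exact absurd hz List.not_mem_nil

theorem hE : ∀ k < 11, 0 < k → ∃ j, ∃ ε ∈ [1, 2], 3 ^ j * k % 11 = ε % 11 := by
  have h : ∀ k < 11, 0 < k → ∃ j < 5, ∃ ε ∈ [1, 2], 3 ^ j * k % 11 = ε % 11 := by decide
  intro k hk hk0
  obtain ⟨j, _, ε, hε, e⟩ := h k hk hk0
  exact ⟨j, ε, hε, e⟩

theorem normalizer_gp : ∀ n : M.G, (∃ k : ℕ, n⁻¹ * gp * n = gp ^ k) →
    ∃ i j : ℕ, n = gp ^ i * gh ^ j := by
  apply normalizer_of_transporters 11 3 [1, 2] gp gh (by norm_num) orderOf_gp rel_ph hE
    centralizer_gp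
  intro ε hε hne g
  simp only [List.mem_cons, List.not_mem_nil, or_false] at hε
  rcases hε with rfl | rfl
  · exact absurd rfl hne
  · exact no_sq g

end Cfsg.Agent.Lib.Helper5.McLOut
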