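import Mathlib

set_option autoImplicit false

/-! # An automorphism fixing a self-centralizing element of prime order and an element acting
non-trivially on it is not inner, unless trivial -/

namespace Cfsg.Agent.Lib.Helper5.Rigid

variable {G : Type*} [Group G]

theorem not_inner_of_fix (ℓ r : ℕ) [hℓ : Fact ℓ.Prime] (p h : G) (hp : orderOf p = ℓ)
    (hph : h⁻¹ * p * h = p ^ r) (hr : ¬ r ≡ 1 [MOD ℓ])
    (hC : ∀ g : G, g⁻¹ * p * g = p → ∃ i : ℕ, g = p ^ i)
    (β : MulAut G) (hβp : β p = p) (hβh : β h = h) (hne : β ≠ 1) :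
    β ∉ (MulAut.conj : G →* MulAut G).range := by
  rintro ⟨g, rfl⟩
  apply hne
  rw [MulAut.conj_apply] at hβp hβh
  have h1 : g⁻¹ * p * g = p := by
    have h0 : g * p = p * g := by
      have := congrArg (· * g) hβp
      simpa [mul_assoc] using this
    calc g⁻¹ * p * g = g⁻¹ * (p * g) := by rw [mul_assoc]
      _ = g⁻¹ * (g * p) := by rw [h0]
      _ = p := by rw [← mul_assoc, inv_mul_cancel, one_mul]
  obtain ⟨i, rfl⟩ := hC g h1
  have h2 : p ^ i * h = h * p ^ i := by
    have := congrArg (· * p ^ i) hβh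
    simpa [mul_assoc] using this
  have h3 : h⁻¹ * p ^ i * h = p ^ i := by
    calc h⁻¹ * p ^ i * h = h⁻¹ * (p ^ i * h) := by rw [mul_assoc]
      _ = h⁻¹ * (h * p ^ i) := by rw [h2]
      _ = p ^ i := by rw [← mul_assoc, inv_mul_cancel, one_mul]
  have h4 : h⁻¹ * p ^ i * h = (p ^ r) ^ i := by
    rw [← hph]
    have := map_pow (MulAut.conj h⁻¹) p i
    simp only [MulAut.conj_apply, inv_inv] at this
    exact this
  rw [h4, ← pow_mul, pow_eq_pow_iff_modEq, hp] at h3
  by_cases hi : ℓ ∣ i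
  · have : p ^ i = 1 := by
      rw [← hp] at hi
      exact orderOf_dvd_iff_pow_eq_one.mp hi
    rw [this, map_one]
  · exfalso
    apply hr
    have hc : Nat.Coprime ℓ i := (Nat.Prime.coprime_iff_not_dvd hℓ.out).mpr hi
    have h5 : i * r ≡ i * 1 [MOD ℓ] := by
      rw [mul_one, mul_comm]
      exact h3
    exact Nat.ModEq.cancel_left_of_coprime hc h5

end Cfsg.Agent.Lib.Helper5.Rigid
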