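import Cfsg.Agent.Lib.Helper5.McLOut7
import Cfsg.Agent.Lib.Helper5.Rigid2
import Cfsg.Agent.Lib.Helper2.PMConj

set_option autoImplicit false
set_option maxRecDepth 100000
set_option Elab.async false

/-! # The outer automorphism group of the McLaughlin group: the outer automorphism and the count -/

namespace Cfsg.Agent.Lib.Helper5.McLOut

open Cfsg.Spor Cfsg.Agent.Lib.Helper6.TC Cfsg.Agent.Lib.Helper6.PM Cfsg.Agent.Lib.Helper2.PMS
open Cfsg.Agent.Lib.Helper2.PMC Cfsg.Agent.Lib.Helper5.Chain Cfsg.Agent.Lib.Helper2.RigidOut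
open Cfsg.Agent.Lib.Helper5.Srch

theorem M_n : M.n = 275 := rfl

theorem chk_col : chkCol tau tauInv M.n = true := by decide +kernel

theorem chk_Bw : chkLetters M Bw = true := by decide +kernel

theorem len_Bw : Bw.length = M.nl := by rw [M_nl]; decide

theorem chk_conj : chkRange (fun c => chkConj M tau Bw c) 0 51 = true := by decide +kernel

theorem conjFacts : ConjFacts M tau tauInv Bw where
  hcol := chk_col
  hB := chk_Bw
  hlen := len_Bw
  hconj := by
    intro c hc
    rw [M_nl] at hc
    exact chkRange_spec _ 51 0 chk_conj c (Nat.zero_le c) (by omega)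


/-- the automorphism induced by the permutation of the points -/
noncomputable def tauAut : MulAut M.G := conjFacts.aut

/-- the outer automorphism -/
noncomputable def beta : MulAut M.G := MulAut.conj (M.elt wx) * tauAut

theorem lt_wx : ∀ c ∈ wx, c < M.nl := by rw [M_nl]; decide

theorem beta_elt (w : List ℕ) (hw : ∀ c ∈ w, c < M.nl) :
    beta (M.elt w) = M.elt (wx ++ expand Bw w ++ invw iv wx) := by
  unfold beta tauAut
  rw [MulAut.mul_apply, MulAut.conj_apply, conjFacts.aut_elt w hw, M.elt_append, M.elt_append,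
    elt_invw M iv invMap wx lt_wx]

/-- the image of the third generator under the outer automorphism -/
def wzb : List ℕ := [33, 31, 31, 33, 30, 34, 27, 23, 25, 25, 24, 0, 3, 2, 1, 0, 3]

theorem chk_beta_p : chkBaseL M lvA (wx ++ expand Bw wp ++ invw iv wx) wp = true := by
  decide +kernel
theorem chk_beta_h : chkBaseL M lvA (wx ++ expand Bw wh ++ invw iv wx) wh = true := by
  decide +kernel
theorem chk_beta_v : chkBaseL M lvA (wx ++ expand Bw wv ++ invw iv wx) wzb = true := by
  decide +kernel

theorem beta_gp : beta gp = gp := by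
  unfold gp
  rw [beta_elt wp lt_wp]
  exact factsA.elt_eq_of_chk _ _ chk_beta_p

theorem beta_gh : beta gh = gh := by
  unfold gh
  rw [beta_elt wh lt_wh]
  exact factsA.elt_eq_of_chk _ _ chk_beta_h

theorem beta_gv : beta gv = M.elt wzb := by
  unfold gv
  rw [beta_elt wv lt_wv]
  exact factsA.elt_eq_of_chk _ _ chk_beta_v

theorem chk_ne_v : chkNeAt M wzb wv 0 = true := by decide +kernel

theorem beta_ne : beta ≠ 1 := by
  intro h
  have h1 := beta_gv
  rw [h, MulAut.one_apply] at h1
  exact elt_ne_of_chkNeAt (M := M) _ _ _ chk_ne_v h1.symm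

theorem beta_not_inner : beta ∉ (MulAut.conj : M.G →* MulAut M.G).range := by
  haveI : Fact (Nat.Prime 11) := ⟨by norm_num⟩
  refine Cfsg.Agent.Lib.Helper5.Rigid.not_inner_of_fix 11 3 gp gh orderOf_gp rel_ph ?_
    centralizer_gp beta beta_gp beta_gh beta_ne
  decide

theorem kept1 : ∀ t ∈ elim1, t.2.1 = 1 → t.1 = wv ∨ t.1 = wzb := by decide +kernel
theorem kept2 : ∀ t ∈ elim2, t.2.1 ≠ 1 := by decide +kernel


theorem pow3_mod (j : ℕ) : 3 ^ j % 11 = 3 ^ (j % 5) % 11 := by
  conv_lhs => rw [← Nat.div_add_mod j 5]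
  rw [pow_add, pow_mul, Nat.mul_mod, Nat.pow_mod]
  norm_num

theorem normalize (α : MulAut M.G) : ∃ g : M.G, ∃ ε ∈ [1, 2],
    (MulAut.conj g * α) gp = gp ^ ε ∧ (MulAut.conj g * α) gh = gh := by
  haveI : Fact (Nat.Prime 11) := ⟨by norm_num⟩
  refine rigid_normalize_two (G := M.G) 11 3 5 81648000 4 [1, 2] gp gh (by rw [card_G])
    (by norm_num) orderOf_gp orderOf_gh (by norm_num) rel_ph (by norm_num) ?_ hE ?_ (by norm_num)
    normalizer_gp α
  · intro j hj h
    interval_cases j <;> simp_all
  · intro ε hε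
    simp only [List.mem_cons, List.not_mem_nil, or_false] at hε
    rcases hε with rfl | rfl <;> norm_num

theorem classify (α : MulAut M.G) (ε : ℕ) (hε : ε ∈ [1, 2]) (hp : α gp = gp ^ ε)
    (hh : α gh = gh) : α = 1 ∨ α = beta := by
  obtain ⟨z, hz, hv⟩ := image_gv α hh
  simp only [List.mem_cons, List.not_mem_nil, or_false] at hε
  rcases hε with rfl | rfl
  · rw [← cand_elim1, List.mem_map] at hz
    obtain ⟨t, ht, rfl⟩ := hz
    have h1 := chk_elim1
    rw [List.all_eq_true] at h1
    have h2 := kept_of_aut 1 α hp hh t (h1 t ht) hv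
    rw [pow_one] at hp
    rcases kept1 t ht h2 with h3 | h3
    · left
      refine det α 1 ?_ ?_ ?_
      · rw [hp, MulAut.one_apply]
      · rw [hh, MulAut.one_apply]
      · rw [hv, h3, MulAut.one_apply]; rfl
    · right
      refine det α beta ?_ ?_ ?_
      · rw [hp, beta_gp]
      · rw [hh, beta_gh]
      · rw [hv, h3, beta_gv]
  · exfalso
    rw [← cand_elim2, List.mem_map] at hz
    obtain ⟨t, ht, rfl⟩ := hz
    have h1 := chk_elim2
    rw [List.all_eq_true] at h1
    exact kept2 t ht (kept_of_aut 2 α hp hh t (h1 t ht) hv)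

theorem card_out_G : Nat.card (Cfsg.Out M.G) = 2 :=
  card_out_two_of_normalized_two [1, 2] gp gh beta beta_not_inner normalize classify

/-- the outer automorphism group of the McLaughlin group has order two -/
theorem card_out_McL : Nat.card (Cfsg.Out ↥Cfsg.Spor.McL) = 2 := card_out_G

end Cfsg.Agent.Lib.Helper5.McLOut
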