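import Mathlib

set_option autoImplicit false

namespace Cfsg.Agent.Lib.Helper5.NilSym

open Nat

/-- the `2`-adic valuation of `n!` -/
def tt (n : ℕ) : ℕ := padicValNat 2 n.factorial

theorem tt_two_mul (n : ℕ) : tt (2 * n) = tt n + n := padicValNat_factorial_mul n

theorem tt_two_mul_add_one (n : ℕ) : tt (2 * n + 1) = tt n + n := by
  unfold tt
  rw [padicValNat_factorial_mul_add n (by norm_num : 1 < 2)]
  exact padicValNat_factorial_mul n

theorem tt_zero : tt 0 = 0 := by simp [tt]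

theorem tt_one : tt 1 = 0 := by simp [tt]

theorem tt_eq (n : ℕ) : tt n = tt (n / 4) + 3 * (n / 4) + if 2 ≤ n % 4 then 1 else 0 := by
  have h4 : n = 4 * (n / 4) + n % 4 := (Nat.div_add_mod n 4).symm
  have hlt : n % 4 < 4 := Nat.mod_lt _ (by norm_num)
  set q := n / 4 with hq
  set r := n % 4 with hr
  rw [h4]
  clear_value q r
  interval_cases r
  · rw [show 4 * q + 0 = 2 * (2 * q) by ring, tt_two_mul, tt_two_mul]
    simp
    ring
  · rw [show 4 * q + 1 = 2 * (2 * q) + 1 by ring, tt_two_mul_add_one, tt_two_mul]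
    simp
    ring
  · rw [show 4 * q + 2 = 2 * (2 * q + 1) by ring, tt_two_mul, tt_two_mul_add_one]
    simp
    ring
  · rw [show 4 * q + 3 = 2 * (2 * q + 1) + 1 by ring, tt_two_mul_add_one, tt_two_mul_add_one]
    simp
    ring

theorem tt_add_le (a b : ℕ) : tt a + tt b ≤ tt (a + b) := by
  unfold tt
  rw [← padicValNat.mul (Nat.factorial_ne_zero a) (Nat.factorial_ne_zero b)]
  exact (padicValNat_dvd_iff_le (Nat.factorial_ne_zero _)).1
    (pow_padicValNat_dvd.trans (Nat.factorial_mul_factorial_dvd_factorial_add a b))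

theorem tt_mono {a b : ℕ} (h : a ≤ b) : tt a ≤ tt b := by
  obtain ⟨c, rfl⟩ := Nat.exists_eq_add_of_le h
  exact (Nat.le_add_right _ _).trans (tt_add_le a c)

/-- the number of guaranteed carries -/
def cc (a b : ℕ) : ℕ :=
  if a % 4 = 3 ∧ b % 4 = 3 then 2
  else if (a % 4 = 3 ∧ (b % 4 = 1 ∨ b % 4 = 2)) ∨ (b % 4 = 3 ∧ (a % 4 = 1 ∨ a % 4 = 2)) then 1
  else 0

theorem tt_add_carry (a b : ℕ) : tt a + tt b + cc a b ≤ tt (a + b) := by
  have ha := tt_eq a
  have hb := tt_eq b
  have hab := tt_eq (a + b)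
  have hz : tt (a / 4) + tt (b / 4) ≤ tt ((a + b) / 4) :=
    (tt_add_le _ _).trans (tt_mono (by omega))
  have hz' : (a % 4 + b % 4 ≥ 4) → tt (a / 4) + tt (b / 4) ≤ tt ((a + b) / 4) := fun _ => hz
  unfold cc
  split_ifs at * <;> omega

/-- the weight -/
def ww (n : ℕ) : ℕ := if n % 4 = 3 then 3 else 2

/-- the largest order of a nilpotent subgroup of the symmetric group of degree `n` -/
def FF (n : ℕ) : ℕ := if n % 4 = 3 then 3 * 2 ^ (tt n - 1) else 2 ^ tt n

theorem tt_pos_of_mod {n : ℕ} (h : n % 4 = 3) : 1 ≤ tt n := by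
  have := tt_eq n
  rw [h] at this
  simp at this
  omega

theorem two_mul_FF (n : ℕ) : 2 * FF n = ww n * 2 ^ tt n := by
  unfold FF ww
  split_ifs with h
  · have h1 := tt_pos_of_mod h
    obtain ⟨j, hj⟩ : ∃ j, tt n = j + 1 := ⟨tt n - 1, by omega⟩
    rw [hj, Nat.add_sub_cancel, pow_succ]
    ring
  · rfl

theorem FF_of_mod {n : ℕ} (h : n % 4 ≠ 3) : FF n = 2 ^ tt n := by
  unfold FF
  rw [if_neg h]

theorem ww_mul_le (a b : ℕ) : ww a * ww b ≤ 2 * ww (a + b) * 2 ^ cc a b := by
  unfold ww cc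
  have h1 : a % 4 < 4 := Nat.mod_lt _ (by norm_num)
  have h2 : b % 4 < 4 := Nat.mod_lt _ (by norm_num)
  split_ifs <;> norm_num <;> omega

theorem FF_mul_le (a b : ℕ) : FF a * FF b ≤ FF (a + b) := by
  have h : (2 * FF a) * (2 * FF b) ≤ 2 * (2 * FF (a + b)) := by
    rw [two_mul_FF, two_mul_FF, two_mul_FF]
    calc ww a * 2 ^ tt a * (ww b * 2 ^ tt b) = (ww a * ww b) * 2 ^ (tt a + tt b) := by ring
      _ ≤ (2 * ww (a + b) * 2 ^ cc a b) * 2 ^ (tt a + tt b) :=
          Nat.mul_le_mul_right _ (ww_mul_le a b)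
      _ = 2 * (ww (a + b) * 2 ^ (tt a + tt b + cc a b)) := by ring
      _ ≤ 2 * (ww (a + b) * 2 ^ tt (a + b)) := by
          gcongr
          · norm_num
          · exact tt_add_carry a b
  nlinarith

theorem FF_pos (n : ℕ) : 0 < FF n := by
  unfold FF
  split_ifs <;> positivity

theorem FF_zero : FF 0 = 1 := by simp [FF, tt_zero]

theorem FF_one : FF 1 = 1 := by simp [FF, tt_one]

theorem FF_mono {a b : ℕ} (h : a ≤ b) : FF a ≤ FF b := by
  obtain ⟨c, rfl⟩ := Nat.exists_eq_add_of_le h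
  calc FF a = FF a * 1 := (mul_one _).symm
    _ ≤ FF a * FF c := Nat.mul_le_mul_left _ (FF_pos c)
    _ ≤ FF (a + c) := FF_mul_le a c

theorem FF_pow_le (a q : ℕ) : FF a ^ q ≤ FF (a * q) := by
  induction q with
  | zero => simp [FF_zero]
  | succ q ih =>
    rw [pow_succ, Nat.mul_succ]
    exact (Nat.mul_le_mul_right _ ih).trans (FF_mul_le _ _)

theorem two_pow_tt_le (n : ℕ) : 2 ^ tt n ≤ FF n := by
  have := two_mul_FF n
  have hw : 2 ≤ ww n := by
    unfold ww
    split_ifs <;> norm_num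
  nlinarith [Nat.pos_of_ne_zero (pow_ne_zero (tt n) (by norm_num : (2 : ℕ) ≠ 0))]

theorem tt_two : tt 2 = 1 := by
  have := tt_eq 2
  simpa [tt_zero] using this

theorem tt_three : tt 3 = 1 := by
  have := tt_eq 3
  simpa [tt_zero] using this

theorem FF_two : FF 2 = 2 := by simp [FF, tt_two]

theorem FF_three : FF 3 = 3 := by simp [FF, tt_three]

theorem le_FF (n : ℕ) : n ≤ FF n := by
  induction n using Nat.strong_induction_on with
  | _ n ih =>
    match n with
    | 0 => exact Nat.zero_le _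
    | 1 => rw [FF_one]
    | 2 => rw [FF_two]
    | 3 => rw [FF_three]
    | (n + 4) =>
      have h1 := ih (n + 2) (by omega)
      have h2 := FF_mul_le (n + 2) 2
      rw [FF_two, show n + 2 + 2 = n + 4 by ring] at h2
      omega

theorem two_le_FF {n : ℕ} (h : 2 ≤ n) : 2 ≤ FF n := h.trans (le_FF n)

theorem tt_eight : tt 8 = 7 := by
  have := tt_eq 8
  simpa [tt_two] using this

theorem tt_nine : tt 9 = 7 := by
  have := tt_eq 9
  simpa [tt_two] using this

theorem tt_eleven : tt 11 = 8 := by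
  have := tt_eq 11
  simpa [tt_two] using this

theorem tt_thirteen : tt 13 = 10 := by
  have := tt_eq 13
  simpa [tt_three] using this

theorem tt_fifteen : tt 15 = 11 := by
  have := tt_eq 15
  simpa [tt_three] using this

theorem FF_eight : FF 8 = 128 := by simp [FF, tt_eight]

theorem three_pow_le (j : ℕ) (hj : 4 ≤ j) : 3 ^ j ≤ FF (2 * j + 1) := by
  induction j using Nat.strong_induction_on with
  | _ j ih =>
    by_cases h8 : j < 8
    · interval_cases j
      · simp [FF, tt_nine]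
      · simp [FF, tt_eleven]
      · simp [FF, tt_thirteen]
      · simp [FF, tt_fifteen]
    · obtain ⟨i, rfl⟩ : ∃ i, j = i + 4 := ⟨j - 4, by omega⟩
      have h1 := ih i (by omega) (by omega)
      have h2 := FF_mul_le 8 (2 * i + 1)
      rw [FF_eight, show 8 + (2 * i + 1) = 2 * (i + 4) + 1 by ring] at h2
      calc 3 ^ (i + 4) = 81 * 3 ^ i := by ring
        _ ≤ 128 * FF (2 * i + 1) := by nlinarith
        _ ≤ _ := h2

theorem le_two_pow_pred (p : ℕ) (hp : 1 ≤ p) : p ≤ 2 ^ (p - 1) := by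
  have := Nat.lt_two_pow_self (n := p - 1)
  omega

theorem sq_le_three_pow (p : ℕ) (hp : 3 ≤ p) : p ^ 2 ≤ 3 ^ (p - 1) := by
  induction p, hp using Nat.le_induction with
  | base => norm_num
  | succ p hp ih =>
    rw [Nat.add_sub_cancel]
    obtain ⟨q, rfl⟩ : ∃ q, p = q + 1 := ⟨p - 1, by omega⟩
    rw [Nat.add_sub_cancel] at ih
    have hq : 2 ≤ q := by omega
    calc (q + 1 + 1) ^ 2 ≤ 3 * (q + 1) ^ 2 := by nlinarith
      _ ≤ 3 * 3 ^ q := Nat.mul_le_mul_left _ ih
      _ = 3 ^ (q + 1) := by ring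

theorem two_group_bound (j n : ℕ) (h : 2 ^ j ∣ n.factorial) : 2 ^ j ≤ FF n := by
  have h1 : j ≤ tt n := (padicValNat_dvd_iff_le (Nat.factorial_ne_zero _)).1 h
  exact (Nat.pow_le_pow_right (by norm_num) h1).trans (two_pow_tt_le n)

theorem trans_bound (p k a e m n : ℕ) (hp : p.Prime) (hodd : Odd p) (hk : k = p ^ a)
    (ha : 1 ≤ a) (he : p ^ e ∣ k.factorial) (hm : 1 ≤ m) (hkm : k * m ≤ n) :
    p ^ e * FF m ≤ FF n := by
  haveI : Fact p.Prime := ⟨hp⟩
  have hp3 : 3 ≤ p := by
    rcases hodd with ⟨c, hc⟩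
    have := hp.two_le
    omega
  have hk1 : 1 ≤ k := by
    rw [hk]
    exact Nat.one_le_pow _ _ hp.pos
  have h5 : (p - 1) * e ≤ k - 1 := by
    have h1 : e ≤ padicValNat p k.factorial :=
      (padicValNat_dvd_iff_le (Nat.factorial_ne_zero _)).1 he
    have h2 := sub_one_mul_padicValNat_factorial_lt_of_ne_zero p (n := k) (by omega)
    have h3 : (p - 1) * e ≤ (p - 1) * padicValNat p k.factorial := Nat.mul_le_mul_left _ h1
    omega
  by_cases hm2 : 2 ≤ m
  · have h6 : p ^ e ≤ 2 ^ (k - 1) := by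
      calc p ^ e ≤ (2 ^ (p - 1)) ^ e := Nat.pow_le_pow_left (le_two_pow_pred p hp.pos) e
        _ = 2 ^ ((p - 1) * e) := (pow_mul _ _ _).symm
        _ ≤ 2 ^ (k - 1) := Nat.pow_le_pow_right (by norm_num) h5
    have h7 : 2 ^ (k - 1) ≤ FF m ^ (k - 1) := Nat.pow_le_pow_left (two_le_FF hm2) _
    calc p ^ e * FF m ≤ FF m ^ (k - 1) * FF m := Nat.mul_le_mul_right _ (h6.trans h7)
      _ = FF m ^ k := by
          rw [← pow_succ]
          congr 1
          omega
      _ ≤ FF (m * k) := FF_pow_le m k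
      _ ≤ FF n := FF_mono (by rw [mul_comm]; exact hkm)
  · have hm1 : m = 1 := by omega
    subst hm1
    rw [FF_one, mul_one]
    rw [mul_one] at hkm
    refine le_trans ?_ (FF_mono hkm)
    by_cases ha1 : a = 1
    · subst ha1
      rw [pow_one] at hk
      subst hk
      have he1 : e ≤ 1 := by
        by_contra hcon
        have : (k - 1) * 2 ≤ (k - 1) * e := Nat.mul_le_mul_left _ (by omega)
        omega
      calc k ^ e ≤ k ^ 1 := Nat.pow_le_pow_right hk1 he1
        _ = k := pow_one k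
        _ ≤ FF k := le_FF k
    · have hk9 : 9 ≤ k := by
        rw [hk]
        calc 9 ≤ p ^ 2 := by nlinarith
          _ ≤ p ^ a := Nat.pow_le_pow_right hp.pos (by omega)
      have hkodd : Odd k := by
        rw [hk]
        exact hodd.pow
      obtain ⟨j, hj⟩ := hkodd
      have hj4 : 4 ≤ j := by omega
      have h6 : (p ^ e) ^ 2 ≤ (3 ^ j) ^ 2 := by
        calc (p ^ e) ^ 2 = (p ^ 2) ^ e := by rw [← pow_mul, ← pow_mul, mul_comm]
          _ ≤ (3 ^ (p - 1)) ^ e := Nat.pow_le_pow_left (sq_le_three_pow p hp3) e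
          _ = 3 ^ ((p - 1) * e) := (pow_mul _ _ _).symm
          _ ≤ 3 ^ (k - 1) := Nat.pow_le_pow_right (by norm_num) h5
          _ = (3 ^ j) ^ 2 := by
              rw [← pow_mul]
              congr 1
              omega
      have h7 : p ^ e ≤ 3 ^ j := by
        by_contra hcon
        push Not at hcon
        have := Nat.pow_lt_pow_left hcon (by norm_num : 2 ≠ 0)
        omega
      rw [hj]
      exact h7.trans (three_pow_le j hj4)

end Cfsg.Agent.Lib.Helper5.NilSym
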