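import Mathlib
import Cfsg.Agent.Lib.Helper5.NilSym1

set_option autoImplicit false

namespace Cfsg.Agent.Lib.Helper5.NilSym

theorem tt_four : tt 4 = 3 := by
  have := tt_eq 4
  simpa [tt_one] using this

theorem tt_five : tt 5 = 3 := by
  have := tt_eq 5
  simpa [tt_one] using this

theorem tt_six : tt 6 = 4 := by
  have := tt_eq 6
  simpa [tt_one] using this

theorem tt_seven : tt 7 = 4 := by
  have := tt_eq 7
  simpa [tt_one] using this

theorem tt_ten : tt 10 = 8 := by
  have := tt_eq 10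
  simpa [tt_two] using this

theorem tt_twelve : tt 12 = 10 := by
  have := tt_eq 12
  simpa [tt_three] using this

theorem tt_fourteen : tt 14 = 11 := by
  have := tt_eq 14
  simpa [tt_three] using this

theorem tt_sixteen : tt 16 = 15 := by
  have := tt_eq 16
  simpa [tt_four] using this

theorem tt_seventeen : tt 17 = 15 := by
  have := tt_eq 17
  simpa [tt_four] using this

theorem tt_eighteen : tt 18 = 16 := by
  have := tt_eq 18
  simpa [tt_four] using this

theorem tt_nineteen : tt 19 = 16 := by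
  have := tt_eq 19
  simpa [tt_four] using this

theorem tt_twenty : tt 20 = 18 := by
  have := tt_eq 20
  simpa [tt_five] using this

theorem tt_twentyone : tt 21 = 18 := by
  have := tt_eq 21
  simpa [tt_five] using this

theorem tt_twentythree : tt 23 = 19 := by
  have := tt_eq 23
  simpa [tt_five] using this

theorem FF_four : FF 4 = 8 := by simp [FF, tt_four]
theorem FF_five : FF 5 = 8 := by simp [FF, tt_five]
theorem FF_six : FF 6 = 16 := by simp [FF, tt_six]
theorem FF_seven : FF 7 = 24 := by simp [FF, tt_seven]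
theorem FF_nine : FF 9 = 128 := by simp [FF, tt_nine]
theorem FF_ten : FF 10 = 256 := by simp [FF, tt_ten]
theorem FF_eleven : FF 11 = 384 := by simp [FF, tt_eleven]
theorem FF_twelve : FF 12 = 1024 := by simp [FF, tt_twelve]
theorem FF_fourteen : FF 14 = 2048 := by simp [FF, tt_fourteen]
theorem FF_fifteen : FF 15 = 3072 := by simp [FF, tt_fifteen]
theorem FF_seventeen : FF 17 = 32768 := by simp [FF, tt_seventeen]
theorem FF_eighteen : FF 18 = 65536 := by simp [FF, tt_eighteen]
theorem FF_nineteen : FF 19 = 98304 := by simp [FF, tt_nineteen]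
theorem FF_twentyone : FF 21 = 262144 := by simp [FF, tt_twentyone]
theorem FF_twentythree : FF 23 = 786432 := by simp [FF, tt_twentythree]

/-- the exceptional (degree, order) pairs -/
def Bad (n c : ℕ) : Prop :=
  (n = 0 ∧ c = 1) ∨ (n = 1 ∧ c = 1) ∨ (n = 3 ∧ c ≤ 3) ∨ (n = 5 ∧ c ≤ 5) ∨ (n = 6 ∧ c ≤ 9) ∨
    (n = 9 ∧ c ≤ 81)

theorem two_mul_three_pow_le (j : ℕ) (hj : 8 ≤ j) : 2 * 3 ^ j ≤ FF (2 * j + 1) := by
  induction j using Nat.strong_induction_on with
  | _ j ih =>
    by_cases h12 : j < 12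
    · interval_cases j
      · simp [FF_seventeen]
      · simp [FF_nineteen]
      · simp [FF_twentyone]
      · simp [FF_twentythree]
    · obtain ⟨i, rfl⟩ : ∃ i, j = i + 4 := ⟨j - 4, by omega⟩
      have h1 := ih i (by omega) (by omega)
      have h2 := FF_mul_le 8 (2 * i + 1)
      rw [FF_eight, show 8 + (2 * i + 1) = 2 * (i + 4) + 1 by ring] at h2
      calc 2 * 3 ^ (i + 4) = 81 * (2 * 3 ^ i) := by ring
        _ ≤ 128 * FF (2 * i + 1) := by nlinarith
        _ ≤ _ := h2

theorem two_mul_le_FF (n : ℕ) (hn : 6 ≤ n) : 2 * n ≤ FF n := by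
  induction n using Nat.strong_induction_on with
  | _ n ih =>
    by_cases h8 : n < 8
    · interval_cases n
      · simp [FF_six]
      · simp [FF_seven]
    · obtain ⟨i, rfl⟩ : ∃ i, n = i + 2 := ⟨n - 2, by omega⟩
      have h1 := ih i (by omega) (by omega)
      have h2 := FF_mul_le i 2
      rw [FF_two] at h2
      omega

theorem two_pow_le_three_pow (k : ℕ) (hk : 3 ≤ k) : 2 ^ k ≤ 3 ^ (k - 1) := by
  induction k, hk using Nat.le_induction with
  | base => norm_num
  | succ k hk ih =>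
    obtain ⟨q, rfl⟩ : ∃ q, k = q + 1 := ⟨k - 1, by omega⟩
    simp only [Nat.add_sub_cancel] at ih ⊢
    calc 2 ^ (q + 1 + 1) = 2 * 2 ^ (q + 1) := by ring
      _ ≤ 2 * 3 ^ q := Nat.mul_le_mul_left _ ih
      _ ≤ 3 * 3 ^ q := Nat.mul_le_mul_right _ (by norm_num)
      _ = 3 ^ (q + 1) := by ring

theorem three_le_FF {n : ℕ} (h : 3 ≤ n) : 3 ≤ FF n := h.trans (le_FF n)

/-- the numeric bound in the transitive case, with the extra factor `2` -/
theorem trans_bound' (p k a e m n c : ℕ) (hp : p.Prime) (hodd : Odd p) (hk : k = p ^ a)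
    (ha : 1 ≤ a) (he : p ^ e ∣ k.factorial) (hm : 1 ≤ m) (hkm : k * m ≤ n) (hc : c ≤ FF m)
    (hc1 : 1 ≤ c) :
    2 * (p ^ e * c) ≤ FF n ∨ Bad n (p ^ e * c) := by
  haveI : Fact p.Prime := ⟨hp⟩
  have hp3 : 3 ≤ p := by
    rcases hodd with ⟨c, hc⟩
    have := hp.two_le
    omega
  have hk1 : 1 ≤ k := by
    rw [hk]
    exact Nat.one_le_pow _ _ hp.pos
  have hk3 : 3 ≤ k := by
    rw [hk]
    calc 3 ≤ p := hp3
      _ = p ^ 1 := (pow_one p).symm
      _ ≤ p ^ a := Nat.pow_le_pow_right hp.pos ha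
  have h5 : (p - 1) * e ≤ k - 1 := by
    have h1 : e ≤ padicValNat p k.factorial :=
      (padicValNat_dvd_iff_le (Nat.factorial_ne_zero _)).1 he
    have h2 := sub_one_mul_padicValNat_factorial_lt_of_ne_zero p (n := k) (by omega)
    have h3 : (p - 1) * e ≤ (p - 1) * padicValNat p k.factorial := Nat.mul_le_mul_left _ h1
    omega
  have h6 : p ^ e ≤ 2 ^ (k - 1) := by
    calc p ^ e ≤ (2 ^ (p - 1)) ^ e := Nat.pow_le_pow_left (le_two_pow_pred p hp.pos) e
      _ = 2 ^ ((p - 1) * e) := (pow_mul _ _ _).symm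
      _ ≤ 2 ^ (k - 1) := Nat.pow_le_pow_right (by norm_num) h5
  by_cases hm3 : 3 ≤ m
  · left
    have h7 : 2 * p ^ e ≤ FF m ^ (k - 1) := by
      calc 2 * p ^ e ≤ 2 * 2 ^ (k - 1) := Nat.mul_le_mul_left _ h6
        _ = 2 ^ k := by
            rw [← pow_succ']
            congr 1
            omega
        _ ≤ 3 ^ (k - 1) := two_pow_le_three_pow k hk3
        _ ≤ FF m ^ (k - 1) := Nat.pow_le_pow_left (three_le_FF hm3) _
    calc 2 * (p ^ e * c) = 2 * p ^ e * c := by ring
      _ ≤ FF m ^ (k - 1) * FF m := Nat.mul_le_mul h7 hc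
      _ = FF m ^ k := by
          rw [← pow_succ]
          congr 1
          omega
      _ ≤ FF (m * k) := FF_pow_le m k
      _ ≤ FF n := FF_mono (by rw [mul_comm]; exact hkm)
  by_cases hm2 : m = 2
  · left
    subst hm2
    rw [FF_two] at hc
    have hkodd : Odd k := by
      rw [hk]
      exact hodd.pow
    have h8 : FF (2 * k) = 2 ^ (tt k + k) := by
      rw [FF_of_mod (by rcases hkodd with ⟨j, hj⟩; omega), tt_two_mul]
    have h9 : 1 ≤ tt k := by
      have := tt_mono (show 2 ≤ k by omega)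
      rw [tt_two] at this
      exact this
    calc 2 * (p ^ e * c) ≤ 2 * (2 ^ (k - 1) * 2) := by
          apply Nat.mul_le_mul_left
          exact Nat.mul_le_mul h6 hc
      _ = 2 ^ (1 + k) := by
          obtain ⟨q, rfl⟩ : ∃ q, k = q + 1 := ⟨k - 1, by omega⟩
          rw [Nat.add_sub_cancel]
          ring
      _ ≤ 2 ^ (tt k + k) := Nat.pow_le_pow_right (by norm_num) (by omega)
      _ = FF (2 * k) := h8.symm
      _ ≤ FF n := FF_mono (by rw [mul_comm]; exact hkm)
  · have hm1 : m = 1 := by omega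
    subst hm1
    rw [FF_one] at hc
    have hc' : c = 1 := by omega
    subst hc'
    rw [mul_one] at hkm ⊢
    by_cases ha1 : a = 1
    · subst ha1
      rw [pow_one] at hk
      subst hk
      have he1 : e ≤ 1 := by
        by_contra hcon
        have : (k - 1) * 2 ≤ (k - 1) * e := Nat.mul_le_mul_left _ (by omega)
        omega
      have hle : k ^ e ≤ k := by
        calc k ^ e ≤ k ^ 1 := Nat.pow_le_pow_right hk1 he1
          _ = k := pow_one k
      by_cases hk7 : 7 ≤ k
      · left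
        calc 2 * k ^ e ≤ 2 * k := Nat.mul_le_mul_left _ hle
          _ ≤ FF k := two_mul_le_FF k (by omega)
          _ ≤ FF n := FF_mono hkm
      · have hk35 : k = 3 ∨ k = 5 := by
          have h4 : k ≠ 4 := by
            rintro rfl
            exact absurd hp (by norm_num)
          have h6' : k ≠ 6 := by
            rintro rfl
            exact absurd hp (by norm_num)
          omega
        rcases hk35 with rfl | rfl
        · by_cases hn3 : n = 3
          · right
            right; right; left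
            exact ⟨hn3, hle⟩
          · left
            have := FF_mono (show 4 ≤ n by omega)
            rw [FF_four] at this
            omega
        · by_cases hn5 : n = 5
          · right
            right; right; right; left
            exact ⟨hn5, hle⟩
          · left
            have := FF_mono (show 6 ≤ n by omega)
            rw [FF_six] at this
            omega
    · have hk9 : 9 ≤ k := by
        rw [hk]
        calc 9 ≤ p ^ 2 := by nlinarith
          _ ≤ p ^ a := Nat.pow_le_pow_right hp.pos (by omega)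
      have hkodd : Odd k := by
        rw [hk]
        exact hodd.pow
      obtain ⟨j, hj⟩ := hkodd
      have hj4 : 4 ≤ j := by omega
      have h6' : (p ^ e) ^ 2 ≤ (3 ^ j) ^ 2 := by
        calc (p ^ e) ^ 2 = (p ^ 2) ^ e := by rw [← pow_mul, ← pow_mul, mul_comm]
          _ ≤ (3 ^ (p - 1)) ^ e := Nat.pow_le_pow_left (sq_le_three_pow p hp3) e
          _ = 3 ^ ((p - 1) * e) := (pow_mul _ _ _).symm
          _ ≤ 3 ^ (k - 1) := Nat.pow_le_pow_right (by norm_num) h5
          _ = (3 ^ j) ^ 2 := by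
              rw [← pow_mul]
              congr 1
              omega
      have h7 : p ^ e ≤ 3 ^ j := by
        by_contra hcon
        push Not at hcon
        have := Nat.pow_lt_pow_left hcon (by norm_num : 2 ≠ 0)
        omega
      by_cases hk9' : k = 9
      · have hj' : j = 4 := by omega
        subst hj'
        by_cases hn9 : n = 9
        · right
          right; right; right; right; right
          exact ⟨hn9, by simpa using h7⟩
        · left
          have := FF_mono (show 10 ≤ n by omega)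
          rw [FF_ten] at this
          have h7' : p ^ e ≤ 81 := by simpa using h7
          omega
      · left
        have hk25 : 25 ≤ k := by
          by_cases hp5 : 5 ≤ p
          · rw [hk]
            calc 25 ≤ p ^ 2 := by nlinarith
              _ ≤ p ^ a := Nat.pow_le_pow_right hp.pos (by omega)
          · have hp3' : p = 3 := by
              have h4 : p ≠ 4 := by
                rintro rfl
                exact absurd hp (by norm_num)
              omega
            subst hp3'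
            have ha3 : 3 ≤ a := by
              by_contra hcon
              have : a = 2 := by omega
              subst this
              omega
            rw [hk]
            calc 25 ≤ 3 ^ 3 := by norm_num
              _ ≤ 3 ^ a := Nat.pow_le_pow_right (by norm_num) ha3
        calc 2 * p ^ e ≤ 2 * 3 ^ j := Nat.mul_le_mul_left _ h7
          _ ≤ FF (2 * j + 1) := two_mul_three_pow_le j (by omega)
          _ = FF k := by rw [hj]
          _ ≤ FF n := FF_mono hkm

theorem bad_bound {n c : ℕ} (h : Bad n c) (hn : 1 ≤ n) :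
    ∃ b, c ≤ b ∧ ((n = 1 ∧ b = 1) ∨ (n = 3 ∧ b = 3) ∨ (n = 5 ∧ b = 5) ∨ (n = 6 ∧ b = 9) ∨
      (n = 9 ∧ b = 81)) := by
  rcases h with ⟨h0, -⟩ | ⟨h1, hc⟩ | ⟨h1, hc⟩ | ⟨h1, hc⟩ | ⟨h1, hc⟩ | ⟨h1, hc⟩
  · omega
  · exact ⟨1, by omega, Or.inl ⟨h1, rfl⟩⟩
  · exact ⟨3, hc, Or.inr (Or.inl ⟨h1, rfl⟩)⟩
  · exact ⟨5, hc, Or.inr (Or.inr (Or.inl ⟨h1, rfl⟩))⟩
  · exact ⟨9, hc, Or.inr (Or.inr (Or.inr (Or.inl ⟨h1, rfl⟩)))⟩
  · exact ⟨81, hc, Or.inr (Or.inr (Or.inr (Or.inr ⟨h1, rfl⟩)))⟩

/-- combining the bounds on two invariant parts -/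
theorem combine (n₁ n₂ c₁ c₂ c : ℕ) (h1 : 1 ≤ n₁) (h2 : 1 ≤ n₂) (hc1 : c₁ ≤ FF n₁)
    (hc2 : c₂ ≤ FF n₂) (hA1 : 2 * c₁ ≤ FF n₁ ∨ Bad n₁ c₁) (hA2 : 2 * c₂ ≤ FF n₂ ∨ Bad n₂ c₂)
    (hc : c ≤ c₁ * c₂) : 2 * c ≤ FF (n₁ + n₂) ∨ Bad (n₁ + n₂) c := by
  rcases hA1 with g1 | b1
  · left
    calc 2 * c ≤ 2 * (c₁ * c₂) := Nat.mul_le_mul_left _ hc
      _ = (2 * c₁) * c₂ := by ring
      _ ≤ FF n₁ * FF n₂ := Nat.mul_le_mul g1 hc2
      _ ≤ FF (n₁ + n₂) := FF_mul_le _ _
  rcases hA2 with g2 | b2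
  · left
    calc 2 * c ≤ 2 * (c₁ * c₂) := Nat.mul_le_mul_left _ hc
      _ = c₁ * (2 * c₂) := by ring
      _ ≤ FF n₁ * FF n₂ := Nat.mul_le_mul hc1 g2
      _ ≤ FF (n₁ + n₂) := FF_mul_le _ _
  obtain ⟨b₁, hb1, hn1⟩ := bad_bound b1 h1
  obtain ⟨b₂, hb2, hn2⟩ := bad_bound b2 h2
  have hcb : c ≤ b₁ * b₂ := hc.trans (Nat.mul_le_mul hb1 hb2)
  rcases hn1 with ⟨rfl, rfl⟩ | ⟨rfl, rfl⟩ | ⟨rfl, rfl⟩ | ⟨rfl, rfl⟩ | ⟨rfl, rfl⟩ <;>
  rcases hn2 with ⟨rfl, rfl⟩ | ⟨rfl, rfl⟩ | ⟨rfl, rfl⟩ | ⟨rfl, rfl⟩ | ⟨rfl, rfl⟩ <;>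
  simp only [Nat.reduceAdd, Nat.reduceMul, FF_two, FF_four, FF_six, FF_seven, FF_eight, FF_nine,
    FF_ten, FF_eleven, FF_twelve, FF_fourteen, FF_fifteen, FF_eighteen] at hcb ⊢ <;>
  first
  | (left; omega)
  | (right; right; right; right; right; left; exact ⟨rfl, hcb⟩)

end Cfsg.Agent.Lib.Helper5.NilSym
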