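import Mathlib
import Cfsg.Agent.Lib.Helper5.NilSym2

set_option autoImplicit false

namespace Cfsg.Agent.Lib.Helper5.NilSym

universe u

open MulAction

variable {G : Type u} {α : Type u} [Group G] [MulAction G α]

/-- If `G = B A` acts transitively and faithfully and `A`, `B` commute, then `A` acts faithfully
on each of its orbits. -/
theorem eq_one_of_fix_orbit [IsPretransitive G α] [FaithfulSMul G α] (A B : Subgroup G)
    (hcomm : ∀ a ∈ A, ∀ b ∈ B, Commute a b) (hgen : ∀ g : G, ∃ a ∈ A, ∃ b ∈ B, g = b * a)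
    (ω : α) (x : G) (hx : x ∈ A) (hfix : ∀ y ∈ orbit A ω, x • y = y) : x = 1 := by
  apply FaithfulSMul.eq_of_smul_eq_smul (α := α)
  intro y
  obtain ⟨g, rfl⟩ := exists_smul_eq G ω y
  obtain ⟨a, ha, b, hb, rfl⟩ := hgen g
  have h1 : a • ω ∈ orbit A ω := ⟨⟨a, ha⟩, rfl⟩
  rw [one_smul, mul_smul, ← mul_smul x b, (hcomm x hx b hb).eq, mul_smul, hfix _ h1]

theorem orbit_smul_of_comm (A : Subgroup G) (b : G) (hb : ∀ a ∈ A, Commute a b) (ω : α) :
    orbit A (b • ω) = (fun y => b • y) '' orbit A ω := by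
  ext y
  constructor
  · rintro ⟨a, rfl⟩
    refine ⟨a • ω, ⟨a, rfl⟩, ?_⟩
    show b • ((a : G) • ω) = (a : G) • (b • ω)
    rw [← mul_smul, ← mul_smul, (hb a.1 a.2).eq]
  · rintro ⟨_, ⟨a, rfl⟩, rfl⟩
    refine ⟨a, ?_⟩
    show (a : G) • (b • ω) = b • ((a : G) • ω)
    rw [← mul_smul, ← mul_smul, (hb a.1 a.2).eq]

theorem card_orbit_smul_of_comm (A : Subgroup G) (b : G) (hb : ∀ a ∈ A, Commute a b) (ω : α) :
    Nat.card (orbit A (b • ω)) = Nat.card (orbit A ω) := by
  rw [Nat.card_coe_set_eq, Nat.card_coe_set_eq, orbit_smul_of_comm A b hb ω]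
  exact Set.ncard_image_of_injective _ (MulAction.injective b)

/-- all orbits of `A` have the same size -/
theorem card_orbit_eq [IsPretransitive G α] (A B : Subgroup G)
    (hcomm : ∀ a ∈ A, ∀ b ∈ B, Commute a b) (hgen : ∀ g : G, ∃ a ∈ A, ∃ b ∈ B, g = b * a)
    (ω ω' : α) : Nat.card (orbit A ω') = Nat.card (orbit A ω) := by
  obtain ⟨g, rfl⟩ := exists_smul_eq G ω ω'
  obtain ⟨a, ha, b, hb, rfl⟩ := hgen g
  rw [mul_smul, card_orbit_smul_of_comm A b (fun a' ha' => hcomm a' ha' b hb)]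
  have : orbit A (a • ω) = orbit A ω := orbit_smul (⟨a, ha⟩ : A) ω
  rw [this]

/-- the common orbit size divides the degree -/
theorem card_orbit_dvd_card [Finite α] [IsPretransitive G α] (A B : Subgroup G)
    (hcomm : ∀ a ∈ A, ∀ b ∈ B, Commute a b) (hgen : ∀ g : G, ∃ a ∈ A, ∃ b ∈ B, g = b * a)
    (ω : α) : Nat.card (orbit A ω) ∣ Nat.card α := by
  haveI : Fintype (orbitRel.Quotient A α) := Fintype.ofFinite _
  rw [Nat.card_congr (selfEquivSigmaOrbits A α), Nat.card_sigma]
  apply Finset.dvd_sum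
  intro i _
  rw [card_orbit_eq A B hcomm hgen ω (Quotient.out i)]

/-- the order of a group acting faithfully on an orbit divides the factorial of its size -/
theorem card_dvd_factorial_of_faithful [Finite α] (A : Subgroup G) (ω : α)
    (hf : ∀ x ∈ A, (∀ y ∈ orbit A ω, x • y = y) → x = 1) :
    Nat.card A ∣ (Nat.card (orbit A ω)).factorial := by
  rw [← Nat.card_perm]
  apply Subgroup.card_dvd_of_injective (MulAction.toPermHom A (orbit A ω))
  rw [injective_iff_map_eq_one]
  intro x hx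
  apply Subtype.ext
  apply hf x.1 x.2
  intro y hy
  have := congrArg (fun σ : Equiv.Perm (orbit A ω) => (σ ⟨y, hy⟩ : α)) hx
  exact this

theorem card_orbit_dvd_card_group [Finite G] (A : Subgroup G) (ω : α) :
    Nat.card (orbit A ω) ∣ Nat.card A := by
  rw [Nat.card_coe_set_eq, ← index_stabilizer]
  exact Subgroup.index_dvd_card _

end Cfsg.Agent.Lib.Helper5.NilSym
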