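import Mathlib
import Cfsg.Agent.Lib.Helper5.NilSym1
import Cfsg.Agent.Lib.Helper5.NilSym3

set_option autoImplicit false

namespace Cfsg.Agent.Lib.Helper5.NilSym

universe u

open MulAction

/-- the structure of a transitive nilpotent permutation group -/
theorem trans_step {G α : Type u} [Group G] [Finite G] [Group.IsNilpotent G] [MulAction G α]
    [Finite α] [IsPretransitive G α] [FaithfulSMul G α] (p : ℕ) [Fact p.Prime]
    (hp : p ∣ Nat.card G) (ω : α) :
    ∃ (Q : Subgroup G) (k a e : ℕ), k = p ^ a ∧ 1 ≤ a ∧ p ^ e ∣ k.factorial ∧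
      k * Nat.card (orbit Q ω) ∣ Nat.card α ∧ Nat.card G = p ^ e * Nat.card Q ∧
      (∀ x ∈ Q, (∀ y ∈ orbit Q ω, x • y = y) → x = 1) := by
  have hpp : p.Prime := Fact.out
  obtain ⟨P⟩ : Nonempty (Sylow p G) := inferInstance
  obtain ⟨Q, hQ, hcop, hcomm⟩ := exists_compl p P
  have hcomm2 : ∀ b ∈ Q, ∀ a ∈ (P : Subgroup G), Commute b a :=
    fun b hb a ha => (hcomm a ha b hb).symm
  have hgen2 : ∀ g : G, ∃ b ∈ Q, ∃ a ∈ (P : Subgroup G), g = a * b := by
    intro g
    obtain ⟨⟨a, b⟩, hab⟩ := hQ.2 g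
    exact ⟨b.1, b.2, a.1, a.2, hab.symm⟩
  have hgen1 : ∀ g : G, ∃ a ∈ (P : Subgroup G), ∃ b ∈ Q, g = b * a := by
    intro g
    obtain ⟨b, hb, a, ha, rfl⟩ := hgen2 g
    exact ⟨a, ha, b, hb, (hcomm a ha b hb).eq⟩
  obtain ⟨e, he⟩ := IsPGroup.iff_card.1 P.2
  have hfP : ∀ x ∈ (P : Subgroup G), (∀ y ∈ orbit (P : Subgroup G) ω, x • y = y) → x = 1 :=
    fun x hx hfix => eq_one_of_fix_orbit (P : Subgroup G) Q hcomm hgen1 ω x hx hfix
  have hfQ : ∀ x ∈ Q, (∀ y ∈ orbit Q ω, x • y = y) → x = 1 :=
    fun x hx hfix => eq_one_of_fix_orbit Q (P : Subgroup G) hcomm2 hgen2 ω x hx hfix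
  have hk1 : Nat.card (orbit (P : Subgroup G) ω) ∣ p ^ e := by
    rw [← he]
    exact card_orbit_dvd_card_group (P : Subgroup G) ω
  obtain ⟨a, -, hka⟩ := (Nat.dvd_prime_pow hpp).1 hk1
  have ha1 : 1 ≤ a := by
    by_contra hcon
    have ha0 : a = 0 := by omega
    rw [ha0, pow_zero] at hka
    have hsub : Subsingleton (orbit (P : Subgroup G) ω) :=
      (Nat.card_eq_one_iff_unique.1 hka).1
    have hbot : ∀ x ∈ (P : Subgroup G), x = 1 := by
      intro x hx
      apply hfP x hx
      intro y hy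
      have hxy : x • y ∈ orbit (P : Subgroup G) ω := by
        obtain ⟨c, rfl⟩ := hy
        exact ⟨⟨x, hx⟩ * c, mul_smul (⟨x, hx⟩ : (P : Subgroup G)) c ω⟩
      exact congrArg Subtype.val (Subsingleton.elim (⟨x • y, hxy⟩ : orbit (P : Subgroup G) ω)
        ⟨y, hy⟩)
    have hc1 : Nat.card (P : Subgroup G) = 1 := by
      rw [Nat.card_eq_one_iff_unique]
      refine ⟨⟨fun x y => ?_⟩, ⟨1⟩⟩
      apply Subtype.ext
      rw [hbot x.1 x.2, hbot y.1 y.2]
    have := P.dvd_card_of_dvd_card hp
    rw [hc1] at this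
    exact hpp.one_lt.ne' (Nat.dvd_one.1 this)
  refine ⟨Q, Nat.card (orbit (P : Subgroup G) ω), a, e, hka, ha1, ?_, ?_, ?_, hfQ⟩
  · rw [← he]
    exact card_dvd_factorial_of_faithful (P : Subgroup G) ω hfP
  · apply Nat.Coprime.mul_dvd_of_dvd_of_dvd
    · rw [hka]
      apply Nat.Coprime.pow_left
      exact (Nat.Coprime.coprime_dvd_left (card_orbit_dvd_card_group Q ω) hcop).symm
    · exact card_orbit_dvd_card (P : Subgroup G) Q hcomm hgen1 ω
    · exact card_orbit_dvd_card Q (P : Subgroup G) hcomm2 hgen2 ω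
  · rw [← he]
    exact hQ.card_mul_card.symm

theorem faithful_of_fix {G α : Type u} [Group G] [MulAction G α] (Q : Subgroup G) (ω : α)
    (hf : ∀ x ∈ Q, (∀ y ∈ orbit Q ω, x • y = y) → x = 1) : FaithfulSMul Q (orbit Q ω) := by
  constructor
  intro q₁ q₂ h
  have h1 : (q₂⁻¹ * q₁ : Q).1 = 1 := by
    apply hf _ (q₂⁻¹ * q₁).2
    intro y hy
    have := h ⟨y, hy⟩
    have h2 : (q₁ : G) • y = (q₂ : G) • y := congrArg Subtype.val this
    show ((q₂⁻¹ * q₁ : Q) : G) • y = y
    rw [Subgroup.coe_mul, mul_smul, h2, Subgroup.coe_inv, inv_smul_smul]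
  have h3 : q₂⁻¹ * q₁ = 1 := Subtype.ext h1
  exact (inv_mul_eq_one.1 h3).symm

/-- the complement of an invariant set as a sub-action -/
def complSub {G α : Type u} [Group G] [MulAction G α] (s : Set α)
    (hs : ∀ g : G, ∀ x ∈ s, g • x ∈ s) : SubMulAction G α where
  carrier := sᶜ
  smul_mem' := by
    intro g x hx hgx
    apply hx
    have := hs g⁻¹ _ hgx
    rwa [inv_smul_smul] at this

/-- the image of the action on an invariant set -/
theorem card_image_le {G α : Type u} [Group G] [Finite G] [Group.IsNilpotent G] [MulAction G α]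
    [Finite α] (n : ℕ)
    (ih : ∀ m < n, ∀ (G α : Type u) [Group G] [Finite G] [Group.IsNilpotent G] [MulAction G α]
      [Finite α] [FaithfulSMul G α], Nat.card α = m → Nat.card G ≤ FF m)
    (s : SubMulAction G α) (hs : Nat.card s < n) :
    Nat.card (MulAction.toPermHom G s).range ≤ FF (Nat.card s) := by
  haveI : Group.IsNilpotent (MulAction.toPermHom G s).range :=
    Group.nilpotent_of_surjective (MulAction.toPermHom G s).rangeRestrict
      (MulAction.toPermHom G s).rangeRestrict_surjective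
  exact ih _ hs (MulAction.toPermHom G s).range s rfl

/-- **Main bound**: a nilpotent group acting faithfully on `n` points has order at most `FF n`. -/
theorem card_le_FF : ∀ (n : ℕ) (G α : Type u) [Group G] [Finite G] [Group.IsNilpotent G]
    [MulAction G α] [Finite α] [FaithfulSMul G α], Nat.card α = n → Nat.card G ≤ FF n := by
  intro n
  induction n using Nat.strong_induction_on with
  | _ n ih =>
    intro G α _ _ _ _ _ _ hn
    by_cases htriv : Nat.card G = 1
    · rw [htriv]
      exact FF_pos n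
    have hne : Nonempty α := by
      by_contra hcon
      rw [not_nonempty_iff] at hcon
      apply htriv
      rw [Nat.card_eq_one_iff_unique]
      refine ⟨⟨fun x y => ?_⟩, ⟨1⟩⟩
      apply FaithfulSMul.eq_of_smul_eq_smul (α := α)
      intro a
      exact hcon.elim a
    have ω : α := hne.some
    have hnpos : 0 < n := by
      rw [← hn]
      exact Nat.card_pos
    by_cases htr : IsPretransitive G α
    · rcases Nat.eq_two_pow_or_exists_odd_prime_and_dvd (Nat.card G) with
        ⟨j, hj⟩ | ⟨p, hp, hpd, hodd⟩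
      · rw [hj]
        apply two_group_bound
        rw [← hj, ← hn, ← Nat.card_perm]
        exact Subgroup.card_dvd_of_injective (MulAction.toPermHom G α) MulAction.toPerm_injective
      · haveI : Fact p.Prime := ⟨hp⟩
        obtain ⟨Q, k, a, e, hk, ha, he, hdvd, hcard, hfQ⟩ := trans_step p hpd ω
        haveI := faithful_of_fix Q ω hfQ
        haveI : Nonempty (orbit Q ω) := ⟨⟨ω, mem_orbit_self ω⟩⟩
        have hm1 : 1 ≤ Nat.card (orbit Q ω) := Nat.card_pos
        have hk2 : 2 ≤ k := by
          rw [hk]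
          calc 2 ≤ p := hp.two_le
            _ = p ^ 1 := (pow_one p).symm
            _ ≤ p ^ a := Nat.pow_le_pow_right hp.pos ha
        have hle : k * Nat.card (orbit Q ω) ≤ n := by
          rw [← hn]
          exact Nat.le_of_dvd Nat.card_pos hdvd
        have hlt : Nat.card (orbit Q ω) < n := by nlinarith
        have hQ := ih _ hlt Q (orbit Q ω) rfl
        rw [hcard]
        calc p ^ e * Nat.card Q ≤ p ^ e * FF (Nat.card (orbit Q ω)) := Nat.mul_le_mul_left _ hQ
          _ ≤ FF n := trans_bound p k a e _ n hp hodd hk ha he hm1 hle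
    · -- intransitive case
      have hinv : ∀ g : G, ∀ x ∈ orbit G ω, g • x ∈ orbit G ω := by
        rintro g _ ⟨c, rfl⟩
        exact ⟨g * c, mul_smul g c ω⟩
      let s₁ : SubMulAction G α := ⟨orbit G ω, fun g x hx => hinv g x hx⟩
      let s₂ : SubMulAction G α := complSub (orbit G ω) hinv
      have hc1 : Nat.card s₁ = (orbit G ω).ncard := Nat.card_coe_set_eq (orbit G ω)
      have hc2 : Nat.card s₂ = (orbit G ω)ᶜ.ncard := Nat.card_coe_set_eq (orbit G ω)ᶜ
      have hsum : Nat.card s₁ + Nat.card s₂ = n := by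
        rw [hc1, hc2, ← hn]
        exact Set.ncard_add_ncard_compl (orbit G ω)
      have h1pos : 0 < Nat.card s₁ := by
        rw [hc1]
        exact (Set.ncard_pos).2 ⟨ω, mem_orbit_self ω⟩
      have h2pos : 0 < Nat.card s₂ := by
        rw [hc2, Set.ncard_pos]
        by_contra hcon
        rw [Set.not_nonempty_iff_eq_empty, Set.compl_empty_iff] at hcon
        apply htr
        constructor
        intro x y
        have hx : x ∈ orbit G ω := by rw [hcon]; exact Set.mem_univ x
        have hy : y ∈ orbit G ω := by rw [hcon]; exact Set.mem_univ y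
        obtain ⟨g₁, rfl⟩ := hx
        obtain ⟨g₂, rfl⟩ := hy
        refine ⟨g₂ * g₁⁻¹, ?_⟩
        show (g₂ * g₁⁻¹) • (g₁ • ω) = g₂ • ω
        rw [mul_smul, inv_smul_smul]
      have hb1 := card_image_le n ih s₁ (by omega)
      have hb2 := card_image_le n ih s₂ (by omega)
      let ψ : G → (MulAction.toPermHom G s₁).range × (MulAction.toPermHom G s₂).range :=
        fun g => (⟨MulAction.toPermHom G s₁ g, ⟨g, rfl⟩⟩, ⟨MulAction.toPermHom G s₂ g, ⟨g, rfl⟩⟩)
      have hψ : Function.Injective ψ := by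
        intro g h hgh
        apply FaithfulSMul.eq_of_smul_eq_smul (α := α)
        intro x
        have e1 : MulAction.toPermHom G s₁ g = MulAction.toPermHom G s₁ h :=
          congrArg (fun z => (z.1 : Equiv.Perm s₁)) hgh
        have e2 : MulAction.toPermHom G s₂ g = MulAction.toPermHom G s₂ h :=
          congrArg (fun z => (z.2 : Equiv.Perm s₂)) hgh
        by_cases hx : x ∈ orbit G ω
        · have := congrArg (fun σ : Equiv.Perm s₁ => ((σ ⟨x, hx⟩ : s₁) : α)) e1
          exact this
        · have := congrArg (fun σ : Equiv.Perm s₂ => ((σ ⟨x, hx⟩ : s₂) : α)) e2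
          exact this
      calc Nat.card G ≤ Nat.card ((MulAction.toPermHom G s₁).range ×
            (MulAction.toPermHom G s₂).range) := Nat.card_le_card_of_injective ψ hψ
        _ = Nat.card (MulAction.toPermHom G s₁).range *
            Nat.card (MulAction.toPermHom G s₂).range := Nat.card_prod _ _
        _ ≤ FF (Nat.card s₁) * FF (Nat.card s₂) := Nat.mul_le_mul hb1 hb2
        _ ≤ FF (Nat.card s₁ + Nat.card s₂) := FF_mul_le _ _
        _ = FF n := by rw [hsum]

end Cfsg.Agent.Lib.Helper5.NilSym
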