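import Mathlib
import Cfsg.Agent.Lib.Helper5.NilAlt1
import Cfsg.Agent.Lib.Helper5.NilSym4

set_option autoImplicit false

namespace Cfsg.Agent.Lib.Helper5.NilSym

universe u

open MulAction Equiv

section res

variable {G α : Type u} [Group G] [MulAction G α]

/-- restriction of an action to an invariant predicate -/
def resHom (p : α → Prop) (hp : ∀ (g : G) (a : α), p (g • a) ↔ p a) : G →* Perm {a // p a} where
  toFun g := (MulAction.toPerm g).subtypePerm (fun a => hp g a)
  map_one' := by
    ext x
    show (1 : G) • (x : α) = x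
    rw [one_smul]
  map_mul' g h := by
    ext x
    show (g * h) • (x : α) = g • (h • (x : α))
    rw [mul_smul]

theorem resHom_apply (p : α → Prop) (hp : ∀ (g : G) (a : α), p (g • a) ↔ p a) (g : G)
    (x : {a // p a}) : ((resHom p hp g) x : α) = g • (x : α) := rfl

theorem sign_eq_mul [Fintype α] [DecidableEq α] (p : α → Prop) [DecidablePred p]
    (hp : ∀ (g : G) (a : α), p (g • a) ↔ p a) (g : G) :
    Perm.sign (MulAction.toPerm g : Perm α) =
      Perm.sign (resHom p hp g) *
        Perm.sign (resHom (fun a => ¬ p a) (fun g a => not_congr (hp g a)) g) := by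
  rw [← Perm.sign_subtypeCongr]
  congr 1
  ext x
  by_cases hx : p x
  · rw [Perm.subtypeCongr.left_apply _ _ hx]
    rfl
  · rw [Perm.subtypeCongr.right_apply _ _ hx]
    rfl

theorem orbit_pred (ω : α) (g : G) (a : α) : g • a ∈ orbit G ω ↔ a ∈ orbit G ω := by
  rw [← orbit_eq_iff, ← orbit_eq_iff, orbit_smul]

end res

/-- the transitive case of the alternating bound -/
theorem trans_alt {G α : Type u} [Group G] [Finite G] [Group.IsNilpotent G] [MulAction G α]
    [Fintype α] [DecidableEq α] [FaithfulSMul G α] [IsPretransitive G α] (n : ℕ)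
    (hn : Fintype.card α = n) (heven : ∀ g : G, Perm.sign (MulAction.toPerm g : Perm α) = 1) :
    2 * Nat.card G ≤ FF n ∨ Bad n (Nat.card G) := by
  have hn' : Nat.card α = n := by rw [Nat.card_eq_fintype_card, hn]
  by_cases hn1 : n ≤ 1
  · right
    have hsub : Subsingleton α := by
      rw [← Fintype.card_le_one_iff_subsingleton, hn]
      exact hn1
    have hG : Nat.card G = 1 := by
      rw [Nat.card_eq_one_iff_unique]
      refine ⟨⟨fun x y => ?_⟩, ⟨1⟩⟩
      apply FaithfulSMul.eq_of_smul_eq_smul (α := α)
      intro a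
      exact Subsingleton.elim _ _
    rw [hG]
    unfold Bad
    have : n = 0 ∨ n = 1 := by omega
    rcases this with h | h
    · exact Or.inl ⟨h, rfl⟩
    · exact Or.inr (Or.inl ⟨h, rfl⟩)
  · have hnt : Nontrivial α := by
      rw [← Fintype.one_lt_card_iff_nontrivial, hn]
      omega
    have ω : α := hnt.to_nonempty.some
    rcases Nat.eq_two_pow_or_exists_odd_prime_and_dvd (Nat.card G) with
      ⟨j, hj⟩ | ⟨p, hp, hpd, hodd⟩
    · left
      have hinj : Function.Injective ((MulAction.toPermHom G α).codRestrict (alternatingGroup α)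
          (fun g => Perm.mem_alternatingGroup.2 (heven g))) := by
        intro x y hxy
        apply MulAction.toPerm_injective (α := G) (β := α)
        exact congrArg Subtype.val hxy
      have h1 := Subgroup.card_dvd_of_injective _ hinj
      have h2 : 2 * Nat.card (alternatingGroup α) = n.factorial := by
        rw [two_mul_nat_card_alternatingGroup, Nat.card_perm, hn']
      have h3 : 2 ^ (j + 1) ∣ n.factorial := by
        rw [← h2, pow_succ', ← hj]
        exact Nat.mul_dvd_mul_left 2 h1
      have := two_group_bound (j + 1) n h3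
      rw [hj]
      rw [pow_succ'] at this
      exact this
    · haveI : Fact p.Prime := ⟨hp⟩
      obtain ⟨Q, k, a, e, hk, ha, he, hdvd, hcard, hfQ⟩ := trans_step p hpd ω
      haveI := faithful_of_fix Q ω hfQ
      haveI : Nonempty (orbit Q ω) := ⟨⟨ω, mem_orbit_self ω⟩⟩
      have hm1 : 1 ≤ Nat.card (orbit Q ω) := Nat.card_pos
      have hle : k * Nat.card (orbit Q ω) ≤ n := by
        rw [← hn']
        exact Nat.le_of_dvd Nat.card_pos hdvd
      have hQ := card_le_FF _ Q (orbit Q ω) rfl
      rw [hcard]
      exact trans_bound' p k a e _ n _ hp hodd hk ha he hm1 hle hQ Nat.card_pos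

end Cfsg.Agent.Lib.Helper5.NilSym
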