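import Mathlib
import Cfsg.Agent.Lib.Helper5.NilAlt2

set_option autoImplicit false

namespace Cfsg.Agent.Lib.Helper5.NilSym

universe u

open MulAction Equiv

/-- a subgroup of a product that avoids an index-two condition has at most half the order -/
theorem two_mul_card_le {G H : Type u} [Group G] [Group H] [Finite H] (ψ : G →* H)
    (hψ : Function.Injective ψ) (s : H →* ℤˣ) (hs : ∀ g, s (ψ g) = 1) (x₀ : H)
    (hx₀ : s x₀ = -1) : 2 * Nat.card G ≤ Nat.card H := by
  let f : G × Bool → H := fun y => ψ y.1 * (if y.2 then x₀ else 1)
  have hf : Function.Injective f := by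
    rintro ⟨g, b⟩ ⟨g', b'⟩ h
    have h1 : ψ g * (if b then x₀ else 1) = ψ g' * (if b' then x₀ else 1) := h
    have h2 := congrArg s h1
    rw [map_mul, map_mul, hs, hs, one_mul, one_mul] at h2
    have hb : b = b' := by
      cases b <;> cases b' <;> simp [hx₀] at h2 ⊢
    subst hb
    have h3 : ψ g = ψ g' := mul_right_cancel h1
    rw [hψ h3]
  have := Nat.card_le_card_of_injective f hf
  rw [Nat.card_prod, Nat.card_eq_fintype_card (α := Bool), Fintype.card_bool, mul_comm] at this
  exact this

/-- **Alternating bound**: a nilpotent group of even permutations of `n` points has order at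
most `FF n / 2`, apart from a few exceptions. -/
theorem alt_bound : ∀ (n : ℕ) (G α : Type u) [Group G] [Finite G] [Group.IsNilpotent G]
    [MulAction G α] [Fintype α] [DecidableEq α] [FaithfulSMul G α], Fintype.card α = n →
    (∀ g : G, Perm.sign (MulAction.toPerm g : Perm α) = 1) →
    2 * Nat.card G ≤ FF n ∨ Bad n (Nat.card G) := by
  intro n
  induction n using Nat.strong_induction_on with
  | _ n ih =>
    intro G α _ _ _ _ _ _ _ hn heven
    by_cases htr : IsPretransitive G α
    · exact trans_alt n hn heven
    · classical
      have hne : Nonempty α := by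
        by_contra hcon
        rw [not_nonempty_iff] at hcon
        exact htr ⟨fun x => hcon.elim x⟩
      have ω : α := hne.some
      set p : α → Prop := fun a => a ∈ orbit G ω with hp
      have hpinv : ∀ (g : G) (a : α), p (g • a) ↔ p a := fun g a => orbit_pred ω g a
      have hpinv' : ∀ (g : G) (a : α), ¬ p (g • a) ↔ ¬ p a := fun g a => not_congr (hpinv g a)
      set φ₁ := resHom p hpinv with hφ₁
      set φ₂ := resHom (fun a => ¬ p a) hpinv' with hφ₂
      have hsum : Fintype.card {a // p a} + Fintype.card {a // ¬ p a} = n := by
        rw [Fintype.card_subtype_compl, ← hn]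
        have := Fintype.card_subtype_le p
        omega
      have h1pos : 1 ≤ Fintype.card {a // p a} :=
        Fintype.card_pos_iff.2 ⟨⟨ω, mem_orbit_self ω⟩⟩
      have h2pos : 1 ≤ Fintype.card {a // ¬ p a} := by
        rw [Nat.one_le_iff_ne_zero, Ne, Fintype.card_eq_zero_iff]
        intro hempty
        apply htr
        constructor
        intro x y
        have hx : x ∈ orbit G ω := by
          by_contra hcon
          exact hempty.elim ⟨x, hcon⟩
        have hy : y ∈ orbit G ω := by
          by_contra hcon
          exact hempty.elim ⟨y, hcon⟩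
        obtain ⟨g₁, rfl⟩ := hx
        obtain ⟨g₂, rfl⟩ := hy
        refine ⟨g₂ * g₁⁻¹, ?_⟩
        show (g₂ * g₁⁻¹) • (g₁ • ω) = g₂ • ω
        rw [mul_smul, inv_smul_smul]
      -- the two images
      haveI : Group.IsNilpotent φ₁.range :=
        Group.nilpotent_of_surjective φ₁.rangeRestrict φ₁.rangeRestrict_surjective
      haveI : Group.IsNilpotent φ₂.range :=
        Group.nilpotent_of_surjective φ₂.rangeRestrict φ₂.rangeRestrict_surjective
      have hb1 : Nat.card φ₁.range ≤ FF (Fintype.card {a // p a}) :=
        card_le_FF _ φ₁.range {a // p a} (Nat.card_eq_fintype_card)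
      have hb2 : Nat.card φ₂.range ≤ FF (Fintype.card {a // ¬ p a}) :=
        card_le_FF _ φ₂.range {a // ¬ p a} (Nat.card_eq_fintype_card)
      let ψ : G →* φ₁.range × φ₂.range := φ₁.rangeRestrict.prod φ₂.rangeRestrict
      have hψ : Function.Injective ψ := by
        intro g h hgh
        apply FaithfulSMul.eq_of_smul_eq_smul (α := α)
        intro x
        have e1 : φ₁ g = φ₁ h := congrArg (fun z => (z.1 : Perm {a // p a})) hgh
        have e2 : φ₂ g = φ₂ h := congrArg (fun z => (z.2 : Perm {a // ¬ p a})) hgh
        by_cases hx : p x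
        · have := congrArg (fun σ : Perm {a // p a} => ((σ ⟨x, hx⟩ : {a // p a}) : α)) e1
          exact this
        · have := congrArg (fun σ : Perm {a // ¬ p a} => ((σ ⟨x, hx⟩ : {a // ¬ p a}) : α)) e2
          exact this
      let s : φ₁.range × φ₂.range →* ℤˣ :=
        ((Perm.sign.comp φ₁.range.subtype).comp (MonoidHom.fst _ _)) *
          ((Perm.sign.comp φ₂.range.subtype).comp (MonoidHom.snd _ _))
      have hs : ∀ g, s (ψ g) = 1 := by
        intro g
        show Perm.sign (φ₁ g) * Perm.sign (φ₂ g) = 1
        rw [← sign_eq_mul p hpinv g]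
        exact heven g
      have hcle : Nat.card G ≤ Nat.card φ₁.range * Nat.card φ₂.range := by
        rw [← Nat.card_prod]
        exact Nat.card_le_card_of_injective ψ hψ
      by_cases hodd : ∃ x₀, s x₀ = -1
      · obtain ⟨x₀, hx₀⟩ := hodd
        left
        have h3 := two_mul_card_le ψ hψ s hs x₀ hx₀
        rw [Nat.card_prod] at h3
        calc 2 * Nat.card G ≤ Nat.card φ₁.range * Nat.card φ₂.range := h3
          _ ≤ FF (Fintype.card {a // p a}) * FF (Fintype.card {a // ¬ p a}) :=
              Nat.mul_le_mul hb1 hb2
          _ ≤ FF (Fintype.card {a // p a} + Fintype.card {a // ¬ p a}) := FF_mul_le _ _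
          _ = FF n := by rw [hsum]
      · push Not at hodd
        have hs1 : ∀ x, s x = 1 := by
          intro x
          rcases Int.units_eq_one_or (s x) with h | h
          · exact h
          · exact absurd h (hodd x)
        have he1 : ∀ r : φ₁.range, Perm.sign (MulAction.toPerm r : Perm {a // p a}) = 1 := by
          intro r
          have := hs1 (r, 1)
          have h4 : s (r, 1) = Perm.sign (r : Perm {a // p a}) * Perm.sign (1 : Perm {a // ¬ p a}) :=
            rfl
          rw [h4, Perm.sign_one, mul_one] at this
          rw [← this]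
          congr 1
        have he2 : ∀ r : φ₂.range, Perm.sign (MulAction.toPerm r : Perm {a // ¬ p a}) = 1 := by
          intro r
          have := hs1 (1, r)
          have h4 : s (1, r) = Perm.sign (1 : Perm {a // p a}) * Perm.sign (r : Perm {a // ¬ p a}) :=
            rfl
          rw [h4, Perm.sign_one, one_mul] at this
          rw [← this]
          congr 1
        have hA1 := ih (Fintype.card {a // p a}) (by omega) φ₁.range {a // p a} rfl he1
        have hA2 := ih (Fintype.card {a // ¬ p a}) (by omega) φ₂.range {a // ¬ p a} rfl he2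
        have := combine _ _ _ _ _ h1pos h2pos hb1 hb2 hA1 hA2 hcle
        rw [hsum] at this
        exact this

end Cfsg.Agent.Lib.Helper5.NilSym
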