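import Mathlib
import Cfsg.Agent.Lib.Helper5.NilSym4

set_option autoImplicit false

namespace Cfsg.Agent.Lib.Helper5.NilSym

open Equiv Equiv.Perm

theorem tt_sub_three {n : ℕ} (hn : n % 4 = 3) : tt n = tt (n - 3) + 1 := by
  have h1 := tt_eq n
  have h2 := tt_eq (n - 3)
  have e1 : (n - 3) / 4 = n / 4 := by omega
  have e2 : (n - 3) % 4 = 0 := by omega
  rw [e1, e2] at h2
  rw [hn] at h1
  simp at h1 h2
  omega

theorem FF_of_mod3 {n : ℕ} (hn : n % 4 = 3) : FF n = 3 * 2 ^ tt (n - 3) := by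
  unfold FF
  rw [if_pos hn, tt_sub_three hn, Nat.add_sub_cancel]

theorem tt_pred_lt {m : ℕ} (hm : m % 4 = 0) (hm0 : 0 < m) : tt (m - 1) < tt m := by
  have h1 := tt_eq m
  have h2 := tt_eq (m - 1)
  have e1 : (m - 1) / 4 = m / 4 - 1 := by omega
  have e2 : (m - 1) % 4 = 3 := by omega
  rw [e1, e2] at h2
  rw [hm] at h1
  have h3 : tt (m / 4 - 1) ≤ tt (m / 4) := tt_mono (by omega)
  simp at h1 h2
  omega

theorem tt_key {n r : ℕ} (hn : n % 4 = 3) (hr : 2 ≤ r) (h3r : 3 * r ≤ n) :
    tt (n - 3 * r) + tt r < tt (n - 3) := by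
  have h1 : tt (n - 3 * r) + tt r ≤ tt (n - 3 * r + r) := tt_add_le _ _
  have h2 : tt (n - 3 * r + r) ≤ tt (n - 3 - 1) := tt_mono (by omega)
  have h3 : tt (n - 3 - 1) < tt (n - 3) := tt_pred_lt (by omega) (by omega)
  omega

theorem padicVal_two_three_pow (r : ℕ) : padicValNat 2 (3 ^ r) = 0 := by
  apply padicValNat.eq_zero_of_not_dvd
  intro h
  have := (Nat.Prime.dvd_of_dvd_pow Nat.prime_two h)
  omega

theorem card_centralizer_replicate {n : ℕ} (c : Perm (Fin n)) (r : ℕ)
    (hc : c.cycleType = Multiset.replicate (r + 1) 3) :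
    Nat.card (Subgroup.centralizer {c}) = (n - 3 * (r + 1)).factorial * 3 ^ (r + 1) *
      (r + 1).factorial := by
  rw [nat_card_centralizer, hc, Multiset.sum_replicate, Multiset.prod_replicate,
    Multiset.toFinset_replicate, if_neg (Nat.succ_ne_zero r), Finset.prod_singleton,
    Multiset.count_replicate_self, Fintype.card_fin, smul_eq_mul, mul_comm (r + 1) 3]

/-- the structure of a nilpotent subgroup of largest order when `n ≡ 3 mod 4` -/
theorem structure_of_max {n : ℕ} (hn : n % 4 = 3) (N : Subgroup (Perm (Fin n)))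
    [Group.IsNilpotent N] (hcard : Nat.card N = 3 * 2 ^ tt (n - 3)) :
    ∃ (c : Perm (Fin n)) (S : Subgroup (Perm (Fin n))), c.cycleType = {3} ∧
      S ≤ Subgroup.centralizer {c} ∧ Nat.card S = 2 ^ tt (n - 3) ∧
      N = Subgroup.zpowers c ⊔ S := by
  haveI : Fact (Nat.Prime 3) := ⟨Nat.prime_three⟩
  haveI : Fact (Nat.Prime 2) := ⟨Nat.prime_two⟩
  obtain ⟨c₀, hc₀⟩ := exists_prime_orderOf_dvd_card' (G := N) 3 (by rw [hcard]; exact Dvd.intro _ rfl)
  obtain ⟨S₀⟩ : Nonempty (Sylow 2 N) := inferInstance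
  have hS₀card : Nat.card S₀ = 2 ^ tt (n - 3) := by
    rw [S₀.card_eq_multiplicity, hcard]
    congr 1
    rw [Nat.factorization_mul (by norm_num) (by positivity), Nat.factorization_pow]
    simp [Nat.factorization_eq_zero_of_not_dvd (show ¬ 2 ∣ 3 by norm_num),
      Nat.prime_two.factorization_self]
  set c : Perm (Fin n) := (c₀ : Perm (Fin n)) with hcdef
  have hco : orderOf c = 3 := by rw [hcdef, Subgroup.orderOf_coe, hc₀]
  set S : Subgroup (Perm (Fin n)) := (S₀ : Subgroup N).map N.subtype with hSdef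
  have hScard : Nat.card S = 2 ^ tt (n - 3) := by
    rw [hSdef, Subgroup.card_map_of_injective N.subtype_injective, hS₀card]
  have hSle : S ≤ N := by
    rintro _ ⟨s, -, rfl⟩
    exact s.2
  have hScent : S ≤ Subgroup.centralizer {c} := by
    rintro _ ⟨s, hs, rfl⟩
    rw [Subgroup.mem_centralizer_iff]
    intro h hh
    rw [Set.mem_singleton_iff] at hh
    subst hh
    have hcomm : Commute c₀ s := by
      apply commute_of_coprime N c₀ s (isOfFinOrder_of_finite _) (isOfFinOrder_of_finite _)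
      rw [hc₀]
      obtain ⟨k, hk⟩ := (IsPGroup.iff_orderOf.1 S₀.2) ⟨s, hs⟩
      rw [Subgroup.orderOf_mk] at hk
      rw [hk]
      exact Nat.Coprime.pow_right _ (by norm_num)
    have := congrArg (Subtype.val) hcomm.eq
    exact this
  obtain ⟨r, hr⟩ := cycleType_prime_order (σ := c) (by rw [hco]; exact Nat.prime_three)
  rw [hco] at hr
  have hsum : 3 * (r + 1) ≤ n := by
    have := sum_cycleType_le c
    rw [hr, Multiset.sum_replicate, Fintype.card_fin, smul_eq_mul] at this
    omega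
  have hr0 : r = 0 := by
    by_contra hcon
    have h1 : Nat.card S ∣ Nat.card (Subgroup.centralizer {c}) := Subgroup.card_dvd_of_le hScent
    rw [hScard, card_centralizer_replicate c r hr] at h1
    have h2 : tt (n - 3) ≤ padicValNat 2 ((n - 3 * (r + 1)).factorial * 3 ^ (r + 1) *
        (r + 1).factorial) :=
      (padicValNat_dvd_iff_le (by positivity)).1 h1
    rw [padicValNat.mul (by positivity) (by positivity),
      padicValNat.mul (by positivity) (by positivity), padicVal_two_three_pow] at h2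
    have h3 := tt_key hn (show 2 ≤ r + 1 by omega) hsum
    unfold tt at h3 h2
    omega
  subst hr0
  refine ⟨c, S, by simpa using hr, hScent, hScard, ?_⟩
  symm
  have hle : Subgroup.zpowers c ⊔ S ≤ N := by
    apply sup_le _ hSle
    rw [Subgroup.zpowers_le]
    exact c₀.2
  apply Subgroup.eq_of_le_of_card_ge hle
  have h3 : 3 ∣ Nat.card (Subgroup.zpowers c ⊔ S : Subgroup (Perm (Fin n))) := by
    have := Subgroup.card_dvd_of_le (le_sup_left : Subgroup.zpowers c ≤ Subgroup.zpowers c ⊔ S)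
    rwa [Nat.card_zpowers, hco] at this
  have h2 : 2 ^ tt (n - 3) ∣ Nat.card (Subgroup.zpowers c ⊔ S : Subgroup (Perm (Fin n))) := by
    have := Subgroup.card_dvd_of_le (le_sup_right : S ≤ Subgroup.zpowers c ⊔ S)
    rwa [hScard] at this
  rw [hcard]
  apply Nat.le_of_dvd Nat.card_pos
  exact Nat.Coprime.mul_dvd_of_dvd_of_dvd (Nat.Coprime.pow_right _ (by norm_num)) h3 h2

end Cfsg.Agent.Lib.Helper5.NilSym
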