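import Mathlib
import Cfsg.Agent.Lib.Helper5.NilSym5

set_option autoImplicit false

namespace Cfsg.Agent.Lib.Helper5.NilSym

open Equiv Equiv.Perm
open scoped Pointwise

theorem map_conj_mem {G : Type*} [Group G] (S : Subgroup G) (g x : G) :
    x ∈ S.map (MulAut.conj g).toMonoidHom ↔ g⁻¹ * x * g ∈ S := by
  constructor
  · rintro ⟨s, hs, rfl⟩
    simp only [MulEquiv.coe_toMonoidHom, MulAut.conj_apply]
    have : g⁻¹ * (g * s * g⁻¹) * g = s := by group
    rw [this]
    exact hs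
  · intro h
    refine ⟨g⁻¹ * x * g, h, ?_⟩
    simp only [MulEquiv.coe_toMonoidHom, MulAut.conj_apply]
    group

/-- two Sylow-sized 2-subgroups of a finite group are conjugate -/
theorem conj_of_card_eq {K : Type*} [Group K] [Finite K] (p : ℕ) [Fact p.Prime]
    (T₁ T₂ : Subgroup K)
    (h1 : Nat.card T₁ = p ^ (Nat.card K).factorization p)
    (h2 : Nat.card T₂ = p ^ (Nat.card K).factorization p) :
    ∃ h : K, ∀ x, x ∈ T₂ ↔ h⁻¹ * x * h ∈ T₁ := by
  obtain ⟨h, hh⟩ := MulAction.exists_smul_eq K (Sylow.ofCard T₁ h1) (Sylow.ofCard T₂ h2)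
  refine ⟨h, fun x => ?_⟩
  have e1 : T₂ = MulAut.conj h • T₁ := by
    have := congrArg (fun Q : Sylow p K => (Q : Subgroup K)) hh
    exact this.symm
  rw [e1, Subgroup.mem_pointwise_smul_iff_inv_smul_mem]
  simp [MulAut.smul_def, mul_assoc]

/-- any two nilpotent subgroups of the largest order are conjugate, `n ≡ 3 mod 4` -/
theorem conj_of_max {n : ℕ} (hn : n % 4 = 3) (N₁ N₂ : Subgroup (Perm (Fin n)))
    [Group.IsNilpotent N₁] [Group.IsNilpotent N₂]
    (h1 : Nat.card N₁ = 3 * 2 ^ tt (n - 3)) (h2 : Nat.card N₂ = 3 * 2 ^ tt (n - 3)) :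
    ∃ g : Perm (Fin n), N₂ = N₁.map (MulAut.conj g).toMonoidHom := by
  haveI : Fact (Nat.Prime 2) := ⟨Nat.prime_two⟩
  obtain ⟨c₁, S₁, hc₁, hS₁c, hS₁card, hN₁⟩ := structure_of_max hn N₁ h1
  obtain ⟨c₂, S₂, hc₂, hS₂c, hS₂card, hN₂⟩ := structure_of_max hn N₂ h2
  have hconj : IsConj c₁ c₂ := isConj_iff_cycleType_eq.2 (hc₁.trans hc₂.symm)
  obtain ⟨g, hg⟩ := isConj_iff.1 hconj
  set K := Subgroup.centralizer ({c₂} : Set (Perm (Fin n))) with hK
  have hKcard : Nat.card K = (n - 3).factorial * 3 := by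
    have := card_centralizer_replicate c₂ 0 (by simpa using hc₂)
    simpa using this
  have hKfac : (Nat.card K).factorization 2 = tt (n - 3) := by
    rw [hKcard, Nat.factorization_mul (by positivity) (by norm_num)]
    simp [Nat.factorization_eq_zero_of_not_dvd (show ¬ 2 ∣ 3 by norm_num),
      Nat.factorization_def _ Nat.prime_two, tt]
  set S₁' : Subgroup (Perm (Fin n)) := S₁.map (MulAut.conj g).toMonoidHom with hS₁'
  have hS₁'card : Nat.card S₁' = 2 ^ tt (n - 3) := by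
    rw [hS₁', Subgroup.card_map_of_injective (MulAut.conj g).injective, hS₁card]
  have hS₁'K : S₁' ≤ K := by
    intro x hx
    rw [hS₁', map_conj_mem] at hx
    have h3 := hS₁c hx
    rw [Subgroup.mem_centralizer_iff] at h3 ⊢
    intro y hy
    rw [Set.mem_singleton_iff] at hy
    subst hy
    have h4 := h3 c₁ rfl
    rw [← hg]
    have e1 : g * c₁ * g⁻¹ * x = g * (c₁ * (g⁻¹ * x * g)) * g⁻¹ := by group
    have e2 : x * (g * c₁ * g⁻¹) = g * ((g⁻¹ * x * g) * c₁) * g⁻¹ := by group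
    rw [e1, e2, h4]
  have hT₁ : Nat.card (S₁'.subgroupOf K) = 2 ^ (Nat.card K).factorization 2 := by
    rw [Nat.card_congr (Subgroup.subgroupOfEquivOfLe hS₁'K).toEquiv, hS₁'card, hKfac]
  have hT₂ : Nat.card (S₂.subgroupOf K) = 2 ^ (Nat.card K).factorization 2 := by
    rw [Nat.card_congr (Subgroup.subgroupOfEquivOfLe hS₂c).toEquiv, hS₂card, hKfac]
  obtain ⟨h, hh⟩ := conj_of_card_eq 2 _ _ hT₁ hT₂
  have hhc : (h : Perm (Fin n)) * c₂ = c₂ * h := by
    have h7 : (h : Perm (Fin n)) ∈ Subgroup.centralizer ({c₂} : Set (Perm (Fin n))) := h.2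
    rw [Subgroup.mem_centralizer_iff] at h7
    exact (h7 c₂ rfl).symm
  have hS₂ : ∀ x, x ∈ S₂ ↔ (h : Perm (Fin n))⁻¹ * x * h ∈ S₁' := by
    intro x
    constructor
    · intro hx
      have := (hh ⟨x, hS₂c hx⟩).1 (by rw [Subgroup.mem_subgroupOf]; exact hx)
      rw [Subgroup.mem_subgroupOf] at this
      exact this
    · intro hx
      have hxK : x ∈ K := by
        have h5 := hS₁'K hx
        have h6 : x = h * ((h : Perm (Fin n))⁻¹ * x * h) * (h : Perm (Fin n))⁻¹ := by group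
        rw [h6]
        exact K.mul_mem (K.mul_mem h.2 h5) (K.inv_mem h.2)
      have := (hh ⟨x, hxK⟩).2 (by rw [Subgroup.mem_subgroupOf]; exact hx)
      rw [Subgroup.mem_subgroupOf] at this
      exact this
  refine ⟨h * g, ?_⟩
  rw [hN₁, hN₂, Subgroup.map_sup, MonoidHom.map_zpowers]
  have e1 : (MulAut.conj ((h : Perm (Fin n)) * g)).toMonoidHom c₁ = c₂ := by
    simp only [MulEquiv.coe_toMonoidHom, MulAut.conj_apply]
    have : (h : Perm (Fin n)) * g * c₁ * ((h : Perm (Fin n)) * g)⁻¹ =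
        h * (g * c₁ * g⁻¹) * (h : Perm (Fin n))⁻¹ := by group
    rw [this, hg, hhc, mul_inv_cancel_right]
  have e2 : S₁.map (MulAut.conj ((h : Perm (Fin n)) * g)).toMonoidHom = S₂ := by
    ext x
    rw [map_conj_mem, hS₂, hS₁', map_conj_mem]
    have : g⁻¹ * ((h : Perm (Fin n))⁻¹ * x * h) * g =
        ((h : Perm (Fin n)) * g)⁻¹ * x * (h * g) := by group
    rw [this]
  rw [e1, e2]

end Cfsg.Agent.Lib.Helper5.NilSym
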