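import Mathlib
import Cfsg.Agent.Lib.Helper5.NilSym6

set_option autoImplicit false

namespace Cfsg.Agent.Lib.Helper5.NilSym

open Equiv Equiv.Perm

/-- general form of `structure_of_max` -/
theorem structure_gen {n x : ℕ} (N : Subgroup (Perm (Fin n)))
    [Group.IsNilpotent N] (hcard : Nat.card N = 3 * 2 ^ x)
    (hkey : ∀ r, 2 ≤ r → 3 * r ≤ n → tt (n - 3 * r) + tt r < x) :
    ∃ (c : Perm (Fin n)) (S : Subgroup (Perm (Fin n))), c.cycleType = {3} ∧
      S ≤ Subgroup.centralizer {c} ∧ Nat.card S = 2 ^ x ∧ S ≤ N ∧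
      N = Subgroup.zpowers c ⊔ S := by
  haveI : Fact (Nat.Prime 3) := ⟨Nat.prime_three⟩
  haveI : Fact (Nat.Prime 2) := ⟨Nat.prime_two⟩
  obtain ⟨c₀, hc₀⟩ := exists_prime_orderOf_dvd_card' (G := N) 3 (by rw [hcard]; exact Dvd.intro _ rfl)
  obtain ⟨S₀⟩ : Nonempty (Sylow 2 N) := inferInstance
  have hS₀card : Nat.card S₀ = 2 ^ x := by
    rw [S₀.card_eq_multiplicity, hcard]
    congr 1
    rw [Nat.factorization_mul (by norm_num) (by positivity), Nat.factorization_pow]
    simp [Nat.factorization_eq_zero_of_not_dvd (show ¬ 2 ∣ 3 by norm_num),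
      Nat.prime_two.factorization_self]
  set c : Perm (Fin n) := (c₀ : Perm (Fin n)) with hcdef
  have hco : orderOf c = 3 := by rw [hcdef, Subgroup.orderOf_coe, hc₀]
  set S : Subgroup (Perm (Fin n)) := (S₀ : Subgroup N).map N.subtype with hSdef
  have hScard : Nat.card S = 2 ^ x := by
    rw [hSdef, Subgroup.card_map_of_injective N.subtype_injective, hS₀card]
  have hSle : S ≤ N := by
    rintro _ ⟨s, -, rfl⟩
    exact s.2
  have hScent : S ≤ Subgroup.centralizer {c} := by
    rintro _ ⟨s, hs, rfl⟩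
    rw [Subgroup.mem_centralizer_iff]
    intro h hh
    rw [Set.mem_singleton_iff] at hh
    subst hh
    have hcomm : Commute c₀ s := by
      apply commute_of_coprime N c₀ s (isOfFinOrder_of_finite _) (isOfFinOrder_of_finite _)
      rw [hc₀]
      obtain ⟨k, hk⟩ := (IsPGroup.iff_orderOf.1 S₀.2) ⟨s, hs⟩
      rw [Subgroup.orderOf_mk] at hk
      rw [hk]
      exact Nat.Coprime.pow_right _ (by norm_num)
    have := congrArg (Subtype.val) hcomm.eq
    exact this
  obtain ⟨r, hr⟩ := cycleType_prime_order (σ := c) (by rw [hco]; exact Nat.prime_three)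
  rw [hco] at hr
  have hsum : 3 * (r + 1) ≤ n := by
    have := sum_cycleType_le c
    rw [hr, Multiset.sum_replicate, Fintype.card_fin, smul_eq_mul] at this
    omega
  have hr0 : r = 0 := by
    by_contra hcon
    have h1 : Nat.card S ∣ Nat.card (Subgroup.centralizer {c}) := Subgroup.card_dvd_of_le hScent
    rw [hScard, card_centralizer_replicate c r hr] at h1
    have h2 : x ≤ padicValNat 2 ((n - 3 * (r + 1)).factorial * 3 ^ (r + 1) *
        (r + 1).factorial) :=
      (padicValNat_dvd_iff_le (by positivity)).1 h1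
    rw [padicValNat.mul (by positivity) (by positivity),
      padicValNat.mul (by positivity) (by positivity), padicVal_two_three_pow] at h2
    have h3 := hkey (r + 1) (by omega) hsum
    unfold tt at h3
    omega
  subst hr0
  refine ⟨c, S, by simpa using hr, hScent, hScard, hSle, ?_⟩
  symm
  have hle : Subgroup.zpowers c ⊔ S ≤ N := by
    apply sup_le _ hSle
    rw [Subgroup.zpowers_le]
    exact c₀.2
  apply Subgroup.eq_of_le_of_card_ge hle
  have h3 : 3 ∣ Nat.card (Subgroup.zpowers c ⊔ S : Subgroup (Perm (Fin n))) := by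
    have := Subgroup.card_dvd_of_le (le_sup_left : Subgroup.zpowers c ≤ Subgroup.zpowers c ⊔ S)
    rwa [Nat.card_zpowers, hco] at this
  have h2 : 2 ^ x ∣ Nat.card (Subgroup.zpowers c ⊔ S : Subgroup (Perm (Fin n))) := by
    have := Subgroup.card_dvd_of_le (le_sup_right : S ≤ Subgroup.zpowers c ⊔ S)
    rwa [hScard] at this
  rw [hcard]
  apply Nat.le_of_dvd Nat.card_pos
  exact Nat.Coprime.mul_dvd_of_dvd_of_dvd (Nat.Coprime.pow_right _ (by norm_num)) h3 h2

theorem tt_pred_add_two_le {m : ℕ} (hm : m % 4 = 0) (hm0 : 0 < m) : tt (m - 1) + 2 ≤ tt m := by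
  have h1 := tt_eq m
  have h2 := tt_eq (m - 1)
  have e1 : (m - 1) / 4 = m / 4 - 1 := by omega
  have e2 : (m - 1) % 4 = 3 := by omega
  rw [e1, e2] at h2
  rw [hm] at h1
  have h3 : tt (m / 4 - 1) ≤ tt (m / 4) := tt_mono (by omega)
  simp at h1 h2
  omega

theorem tt_key' {n r : ℕ} (hn : n % 4 = 3) (hr : 2 ≤ r) (h3r : 3 * r ≤ n) :
    tt (n - 3 * r) + tt r < tt (n - 3) - 1 := by
  have h1 : tt (n - 3 * r) + tt r ≤ tt (n - 3 * r + r) := tt_add_le _ _
  have h2 : tt (n - 3 * r + r) ≤ tt (n - 3 - 1) := tt_mono (by omega)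
  have h3 : tt (n - 3 - 1) + 2 ≤ tt (n - 3) := tt_pred_add_two_le (by omega) (by omega)
  omega

/-- the even part of a subgroup containing an odd permutation has index two -/
theorem two_mul_card_inf_alt {α : Type*} [Fintype α] [DecidableEq α] (H : Subgroup (Perm α))
    (σ : Perm α) (hσ : σ ∈ H) (hodd : Perm.sign σ = -1) :
    2 * Nat.card (H ⊓ alternatingGroup α : Subgroup (Perm α)) = Nat.card H := by
  set f : H →* ℤˣ := Perm.sign.comp H.subtype with hf
  have hker : f.ker = (alternatingGroup α).subgroupOf H := by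
    ext x
    rw [MonoidHom.mem_ker, Subgroup.mem_subgroupOf, Perm.mem_alternatingGroup]
    rfl
  have hsurj : Function.Surjective f := by
    intro u
    rcases Int.units_eq_one_or u with rfl | rfl
    · exact ⟨1, map_one f⟩
    · exact ⟨⟨σ, hσ⟩, hodd⟩
  have h1 : f.ker.index = 2 := by
    rw [Subgroup.index_ker, MonoidHom.range_eq_top.2 hsurj, Subgroup.card_top,
      Nat.card_eq_fintype_card, Fintype.card_units_int]
  have h2 := Subgroup.card_mul_index f.ker
  rw [h1, hker, ← Subgroup.inf_subgroupOf_left,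
    Nat.card_congr (Subgroup.subgroupOfEquivOfLe (inf_le_left : H ⊓ alternatingGroup α ≤ H)).toEquiv]
    at h2
  omega

end Cfsg.Agent.Lib.Helper5.NilSym
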