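import Mathlib
import Cfsg.Agent.Lib.Helper5.NilAlt4

set_option autoImplicit false

namespace Cfsg.Agent.Lib.Helper5.NilSym

open Equiv Equiv.Perm
open scoped Pointwise

/-- the generic conjugacy argument -/
theorem conj_core {G : Type*} [Group G] [Finite G] (c₁ c₂ : G) (S₁ S₂ : Subgroup G) (g : G)
    (hg : g * c₁ * g⁻¹ = c₂) (K : Subgroup G) (hKc : K ≤ Subgroup.centralizer {c₂}) (x : ℕ)
    (hKfac : (Nat.card K).factorization 2 = x)
    (hS₁K : S₁.map (MulAut.conj g).toMonoidHom ≤ K) (hS₂K : S₂ ≤ K)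
    (hc1 : Nat.card S₁ = 2 ^ x) (hc2 : Nat.card S₂ = 2 ^ x) :
    ∃ h ∈ K, Subgroup.zpowers c₂ ⊔ S₂ =
      (Subgroup.zpowers c₁ ⊔ S₁).map (MulAut.conj (h * g)).toMonoidHom := by
  haveI : Fact (Nat.Prime 2) := ⟨Nat.prime_two⟩
  set S₁' : Subgroup G := S₁.map (MulAut.conj g).toMonoidHom with hS₁'
  have hS₁'card : Nat.card S₁' = 2 ^ x := by
    rw [hS₁', Subgroup.card_map_of_injective (MulAut.conj g).injective, hc1]
  have hT₁ : Nat.card (S₁'.subgroupOf K) = 2 ^ (Nat.card K).factorization 2 := by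
    rw [Nat.card_congr (Subgroup.subgroupOfEquivOfLe hS₁K).toEquiv, hS₁'card, hKfac]
  have hT₂ : Nat.card (S₂.subgroupOf K) = 2 ^ (Nat.card K).factorization 2 := by
    rw [Nat.card_congr (Subgroup.subgroupOfEquivOfLe hS₂K).toEquiv, hc2, hKfac]
  obtain ⟨h, hh⟩ := conj_of_card_eq 2 _ _ hT₁ hT₂
  have hhc : (h : G) * c₂ = c₂ * h := by
    have h7 : (h : G) ∈ Subgroup.centralizer ({c₂} : Set G) := hKc h.2
    rw [Subgroup.mem_centralizer_iff] at h7
    exact (h7 c₂ rfl).symm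
  have hS₂ : ∀ y, y ∈ S₂ ↔ (h : G)⁻¹ * y * h ∈ S₁' := by
    intro y
    constructor
    · intro hy
      have := (hh ⟨y, hS₂K hy⟩).1 (by rw [Subgroup.mem_subgroupOf]; exact hy)
      rw [Subgroup.mem_subgroupOf] at this
      exact this
    · intro hy
      have hyK : y ∈ K := by
        have h5 := hS₁K hy
        have h6 : y = h * ((h : G)⁻¹ * y * h) * (h : G)⁻¹ := by group
        rw [h6]
        exact K.mul_mem (K.mul_mem h.2 h5) (K.inv_mem h.2)
      have := (hh ⟨y, hyK⟩).2 (by rw [Subgroup.mem_subgroupOf]; exact hy)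
      rw [Subgroup.mem_subgroupOf] at this
      exact this
  refine ⟨h, h.2, ?_⟩
  rw [Subgroup.map_sup, MonoidHom.map_zpowers]
  have e1 : (MulAut.conj ((h : G) * g)).toMonoidHom c₁ = c₂ := by
    simp only [MulEquiv.coe_toMonoidHom, MulAut.conj_apply]
    have : (h : G) * g * c₁ * ((h : G) * g)⁻¹ = h * (g * c₁ * g⁻¹) * (h : G)⁻¹ := by group
    rw [this, hg, hhc, mul_inv_cancel_right]
  have e2 : S₁.map (MulAut.conj ((h : G) * g)).toMonoidHom = S₂ := by
    ext y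
    rw [map_conj_mem, hS₂, hS₁', map_conj_mem]
    have : g⁻¹ * ((h : G)⁻¹ * y * h) * g = ((h : G) * g)⁻¹ * y * (h * g) := by group
    rw [this]
  rw [e1, e2]

/-- a three-cycle on at least `5` points commutes with an odd permutation -/
theorem exists_odd_centralizer {n : ℕ} (h5 : 5 ≤ n) (c : Perm (Fin n)) (hc : c.cycleType = {3}) :
    ∃ τ : Perm (Fin n), τ ∈ Subgroup.centralizer ({c} : Set (Perm (Fin n))) ∧
      Perm.sign τ = -1 := by
  have hc3 : c.IsThreeCycle := hc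
  have hsupp : c.support.card = 3 := hc3.card_support
  have hcompl : 1 < (c.supportᶜ).card := by
    rw [Finset.card_compl, hsupp, Fintype.card_fin]
    omega
  obtain ⟨a, ha, b, hb, hab⟩ := Finset.one_lt_card.1 hcompl
  rw [Finset.mem_compl, Perm.mem_support, not_not] at ha hb
  refine ⟨swap a b, ?_, Perm.sign_swap hab⟩
  rw [Subgroup.mem_centralizer_iff]
  intro y hy
  rw [Set.mem_singleton_iff] at hy
  subst hy
  ext z
  simp only [Perm.mul_apply]
  by_cases hza : z = a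
  · subst hza
    rw [swap_apply_left, hb, ha, swap_apply_left]
  by_cases hzb : z = b
  · subst hzb
    rw [swap_apply_right, ha, hb, swap_apply_right]
  · rw [swap_apply_of_ne_of_ne hza hzb]
    have h1 : y z ≠ a := by
      intro h
      apply hza
      apply y.injective
      rw [h, ha]
    have h2 : y z ≠ b := by
      intro h
      apply hzb
      apply y.injective
      rw [h, hb]
    rw [swap_apply_of_ne_of_ne h1 h2]

/-- conjugacy of the extremal nilpotent subgroups of the alternating group, `n ≡ 3 mod 4` -/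
theorem conj_of_max_alt {n : ℕ} (hn : n % 4 = 3) (h7 : 7 ≤ n)
    (N₁ N₂ : Subgroup (alternatingGroup (Fin n)))
    [Group.IsNilpotent N₁] [Group.IsNilpotent N₂]
    (h1 : Nat.card N₁ = 3 * 2 ^ (tt (n - 3) - 1)) (h2 : Nat.card N₂ = 3 * 2 ^ (tt (n - 3) - 1)) :
    ∃ g : alternatingGroup (Fin n), N₂ = N₁.map (MulAut.conj g).toMonoidHom := by
  set N₁' : Subgroup (Perm (Fin n)) := N₁.map (alternatingGroup (Fin n)).subtype with hN₁'
  set N₂' : Subgroup (Perm (Fin n)) := N₂.map (alternatingGroup (Fin n)).subtype with hN₂'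
  haveI : Group.IsNilpotent N₁' :=
    Group.nilpotent_of_mulEquiv (N₁.equivMapOfInjective (alternatingGroup (Fin n)).subtype (alternatingGroup (Fin n)).subtype_injective)
  haveI : Group.IsNilpotent N₂' :=
    Group.nilpotent_of_mulEquiv (N₂.equivMapOfInjective (alternatingGroup (Fin n)).subtype (alternatingGroup (Fin n)).subtype_injective)
  have hc1 : Nat.card N₁' = 3 * 2 ^ (tt (n - 3) - 1) := by
    rw [hN₁', Subgroup.card_map_of_injective (alternatingGroup (Fin n)).subtype_injective, h1]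
  have hc2 : Nat.card N₂' = 3 * 2 ^ (tt (n - 3) - 1) := by
    rw [hN₂', Subgroup.card_map_of_injective (alternatingGroup (Fin n)).subtype_injective, h2]
  have hN₁A : N₁' ≤ (alternatingGroup (Fin n)) := by
    rintro _ ⟨y, -, rfl⟩
    exact y.2
  have hN₂A : N₂' ≤ (alternatingGroup (Fin n)) := by
    rintro _ ⟨y, -, rfl⟩
    exact y.2
  obtain ⟨c₁, S₁, hct₁, hS₁c, hS₁card, hS₁N, hN₁eq⟩ :=
    structure_gen N₁' hc1 (fun r hr h3r => tt_key' hn hr h3r)
  obtain ⟨c₂, S₂, hct₂, hS₂c, hS₂card, hS₂N, hN₂eq⟩ :=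
    structure_gen N₂' hc2 (fun r hr h3r => tt_key' hn hr h3r)
  have hc₁A : c₁ ∈ (alternatingGroup (Fin n)) := hN₁A (by rw [hN₁eq]; exact Subgroup.mem_sup_left (Subgroup.mem_zpowers c₁))
  have hc₂A : c₂ ∈ (alternatingGroup (Fin n)) := hN₂A (by rw [hN₂eq]; exact Subgroup.mem_sup_left (Subgroup.mem_zpowers c₂))
  have hconj : IsConj (⟨c₁, hc₁A⟩ : (alternatingGroup (Fin n))) ⟨c₂, hc₂A⟩ :=
    alternatingGroup.isThreeCycle_isConj (by rw [Nat.card_eq_fintype_card, Fintype.card_fin]; omega)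
      hct₁ hct₂
  obtain ⟨g₀, hg₀⟩ := isConj_iff.1 hconj
  have hg : (g₀ : Perm (Fin n)) * c₁ * (g₀ : Perm (Fin n))⁻¹ = c₂ :=
    congrArg Subtype.val hg₀
  set C := Subgroup.centralizer ({c₂} : Set (Perm (Fin n))) with hC
  set K : Subgroup (Perm (Fin n)) := C ⊓ (alternatingGroup (Fin n)) with hK
  obtain ⟨τ, hτC, hτodd⟩ := exists_odd_centralizer (by omega) c₂ hct₂
  have hKcard : 2 * Nat.card K = (n - 3).factorial * 3 := by
    rw [hK, two_mul_card_inf_alt C τ hτC hτodd]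
    have := card_centralizer_replicate c₂ 0 (by simpa using hct₂)
    simpa using this
  have hKfac : (Nat.card K).factorization 2 = tt (n - 3) - 1 := by
    rw [Nat.factorization_def _ Nat.prime_two]
    have h3 := congrArg (padicValNat 2) hKcard
    rw [padicValNat.mul (by norm_num) Nat.card_pos.ne',
      padicValNat.mul (Nat.factorial_ne_zero _) (by norm_num)] at h3
    have h4 : padicValNat 2 3 = 0 := padicValNat.eq_zero_of_not_dvd (by norm_num)
    have h5 : padicValNat 2 2 = 1 := by simp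
    rw [h4, h5] at h3
    unfold tt
    omega
  have hS₁K : S₁.map (MulAut.conj (g₀ : Perm (Fin n))).toMonoidHom ≤ K := by
    intro y hy
    rw [map_conj_mem] at hy
    refine ⟨?_, ?_⟩
    · have h3 := hS₁c hy
      rw [Subgroup.mem_centralizer_iff] at h3
      show y ∈ Subgroup.centralizer ({c₂} : Set (Perm (Fin n)))
      rw [Subgroup.mem_centralizer_iff]
      intro z hz
      rw [Set.mem_singleton_iff] at hz
      subst hz
      have h4 := h3 c₁ rfl
      rw [← hg]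
      have e1 : (g₀ : Perm (Fin n)) * c₁ * (g₀ : Perm (Fin n))⁻¹ * y =
          g₀ * (c₁ * ((g₀ : Perm (Fin n))⁻¹ * y * g₀)) * (g₀ : Perm (Fin n))⁻¹ := by group
      have e2 : y * ((g₀ : Perm (Fin n)) * c₁ * (g₀ : Perm (Fin n))⁻¹) =
          g₀ * (((g₀ : Perm (Fin n))⁻¹ * y * g₀) * c₁) * (g₀ : Perm (Fin n))⁻¹ := by group
      rw [e1, e2, h4]
    · have h3 : (g₀ : Perm (Fin n))⁻¹ * y * g₀ ∈ (alternatingGroup (Fin n)) := hN₁A (hS₁N hy)
      have h6 : y = g₀ * ((g₀ : Perm (Fin n))⁻¹ * y * g₀) * (g₀ : Perm (Fin n))⁻¹ := by group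
      rw [h6]
      exact (alternatingGroup (Fin n)).mul_mem ((alternatingGroup (Fin n)).mul_mem g₀.2 h3) ((alternatingGroup (Fin n)).inv_mem g₀.2)
  have hS₂K : S₂ ≤ K := fun y hy => ⟨hS₂c hy, hN₂A (hS₂N hy)⟩
  obtain ⟨h, hhK, hfin⟩ := conj_core c₁ c₂ S₁ S₂ (g₀ : Perm (Fin n)) hg K inf_le_left _ hKfac
    hS₁K hS₂K hS₁card hS₂card
  rw [← hN₁eq, ← hN₂eq] at hfin
  have hgA : h * (g₀ : Perm (Fin n)) ∈ (alternatingGroup (Fin n)) := (alternatingGroup (Fin n)).mul_mem hhK.2 g₀.2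
  refine ⟨⟨h * g₀, hgA⟩, ?_⟩
  ext y
  rw [map_conj_mem]
  have e1 : y ∈ N₂ ↔ (y : Perm (Fin n)) ∈ N₂' := by
    rw [hN₂']
    constructor
    · intro hy
      exact ⟨y, hy, rfl⟩
    · rintro ⟨z, hz, hzy⟩
      have : z = y := Subtype.ext hzy
      rw [← this]
      exact hz
  have e2 : (⟨h * g₀, hgA⟩ : (alternatingGroup (Fin n)))⁻¹ * y * ⟨h * g₀, hgA⟩ ∈ N₁ ↔
      (h * (g₀ : Perm (Fin n)))⁻¹ * (y : Perm (Fin n)) * (h * g₀) ∈ N₁' := by
    rw [hN₁']
    constructor
    · intro hy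
      exact ⟨_, hy, rfl⟩
    · rintro ⟨z, hz, hzy⟩
      have : z = (⟨h * g₀, hgA⟩ : (alternatingGroup (Fin n)))⁻¹ * y * ⟨h * g₀, hgA⟩ := Subtype.ext hzy
      rw [← this]
      exact hz
  rw [e1, e2, hfin, map_conj_mem]

end Cfsg.Agent.Lib.Helper5.NilSym
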