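import Mathlib
import Cfsg.Agent.Lib.Helper5.NilSym6

set_option autoImplicit false

namespace Cfsg.Agent.Lib.Helper5.NilSym

open Equiv Equiv.Perm

/-- the embedding of `Perm (Fin m) × Perm (Fin 3)` into `Perm (Fin n)` -/
noncomputable def embProd (m n : ℕ) (h : m + 3 = n) :
    Perm (Fin m) × Perm (Fin 3) →* Perm (Fin n) :=
  ((Equiv.permCongrHom ((finSumFinEquiv (m := m) (n := 3)).trans (finCongr h))).toMonoidHom).comp
    (Equiv.Perm.sumCongrHom (Fin m) (Fin 3))

theorem embProd_injective (m n : ℕ) (h : m + 3 = n) : Function.Injective (embProd m n h) := by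
  unfold embProd
  rw [MonoidHom.coe_comp]
  exact (MulEquiv.injective _).comp sumCongrHom_injective

/-- the rotation action of `ZMod 3` -/
noncomputable def rotHom : Multiplicative (ZMod 3) →* Perm (Fin 3) :=
  MulAction.toPermHom (Multiplicative (ZMod 3)) (ZMod 3)

theorem rotHom_injective : Function.Injective rotHom := by
  intro a b hab
  have := congrArg (fun σ : Perm (Fin 3) => σ (0 : ZMod 3)) hab
  have h2 : (Multiplicative.toAdd a : ZMod 3) + 0 = (Multiplicative.toAdd b : ZMod 3) + 0 := this
  rw [add_zero, add_zero] at h2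
  exact Multiplicative.toAdd.injective h2

/-- the hom defining the extremal nilpotent subgroup -/
noncomputable def extHom (m n : ℕ) (h : m + 3 = n) (P : Subgroup (Perm (Fin m))) :
    P × Multiplicative (ZMod 3) →* Perm (Fin n) :=
  (embProd m n h).comp (MonoidHom.prodMap P.subtype rotHom)

theorem extHom_injective (m n : ℕ) (h : m + 3 = n) (P : Subgroup (Perm (Fin m))) :
    Function.Injective (extHom m n h P) := by
  unfold extHom
  rw [MonoidHom.coe_comp]
  apply (embProd_injective m n h).comp
  intro x y hxy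
  have h1 : P.subtype x.1 = P.subtype y.1 := congrArg Prod.fst hxy
  have h2 : rotHom x.2 = rotHom y.2 := congrArg Prod.snd hxy
  exact Prod.ext (P.subtype_injective h1) (rotHom_injective h2)

/-- existence of a nilpotent subgroup of order `3 |P|` isomorphic to `P × C₃` -/
theorem exists_ext (m n : ℕ) (h : m + 3 = n) (P : Sylow 2 (Perm (Fin m))) :
    ∃ M : Subgroup (Perm (Fin n)), Group.IsNilpotent M ∧ Nat.card M = 3 * Nat.card P ∧
      Nonempty (M ≃* (↥(P : Subgroup (Perm (Fin m))) × Multiplicative (ZMod 3))) := by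
  haveI : Fact (Nat.Prime 2) := ⟨Nat.prime_two⟩
  let e := MonoidHom.ofInjective (extHom_injective m n h (P : Subgroup (Perm (Fin m))))
  haveI : Group.IsNilpotent ↥(P : Subgroup (Perm (Fin m))) := P.2.isNilpotent
  haveI : Group.IsNilpotent (↥(P : Subgroup (Perm (Fin m))) × Multiplicative (ZMod 3)) :=
    Group.isNilpotent_prod
  refine ⟨(extHom m n h (P : Subgroup (Perm (Fin m)))).range, Group.nilpotent_of_mulEquiv e, ?_,
    ⟨e.symm⟩⟩
  rw [← Nat.card_congr e.toEquiv, Nat.card_prod, mul_comm]
  congr 1
  rw [Nat.card_eq_fintype_card]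
  rfl

end Cfsg.Agent.Lib.Helper5.NilSym
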