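import Mathlib
import Cfsg.Agent.Lib.Helper5.NilSym7

set_option autoImplicit false

namespace Cfsg.Agent.Lib.Helper5.NilSym

open Equiv Equiv.Perm

theorem sign_embProd (m n : ℕ) (h : m + 3 = n) (x : Perm (Fin m) × Perm (Fin 3)) :
    Perm.sign (embProd m n h x) = Perm.sign x.1 * Perm.sign x.2 := by
  unfold embProd
  rw [MonoidHom.comp_apply]
  show Perm.sign (Equiv.permCongr _ (sumCongrHom (Fin m) (Fin 3) x)) = _
  rw [Perm.sign_permCongr]
  exact Perm.sign_sumCongr x.1 x.2

theorem sign_rotHom (z : Multiplicative (ZMod 3)) : Perm.sign (rotHom z) = 1 := by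
  have h3 : z ^ 3 = 1 := by
    have := pow_card_eq_one (G := Multiplicative (ZMod 3)) (x := z)
    simpa using this
  have h4 : (Perm.sign (rotHom z)) ^ 3 = 1 := by
    rw [← map_pow, ← map_pow, h3, map_one, map_one]
  rcases Int.units_eq_one_or (Perm.sign (rotHom z)) with h | h
  · exact h
  · rw [h] at h4
    exact absurd h4 (by decide)

/-- the hom defining the extremal nilpotent subgroup of the alternating group -/
noncomputable def extHomA (m n : ℕ) (h : m + 3 = n) (P : Subgroup (alternatingGroup (Fin m))) :
    P × Multiplicative (ZMod 3) →* alternatingGroup (Fin n) :=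
  ((embProd m n h).comp (MonoidHom.prodMap
    ((alternatingGroup (Fin m)).subtype.comp P.subtype) rotHom)).codRestrict
    (alternatingGroup (Fin n)) (fun x => by
      rw [Perm.mem_alternatingGroup, MonoidHom.comp_apply, sign_embProd]
      have h1 : Perm.sign ((x.1 : alternatingGroup (Fin m)) : Perm (Fin m)) = 1 :=
        Perm.mem_alternatingGroup.1 (x.1 : alternatingGroup (Fin m)).2
      have h2 := sign_rotHom x.2
      show Perm.sign ((x.1 : alternatingGroup (Fin m)) : Perm (Fin m)) * Perm.sign (rotHom x.2) = 1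
      rw [h1, h2, one_mul])

theorem extHomA_injective (m n : ℕ) (h : m + 3 = n) (P : Subgroup (alternatingGroup (Fin m))) :
    Function.Injective (extHomA m n h P) := by
  intro x y hxy
  have h0 : embProd m n h (((x.1 : alternatingGroup (Fin m)) : Perm (Fin m)), rotHom x.2) =
      embProd m n h (((y.1 : alternatingGroup (Fin m)) : Perm (Fin m)), rotHom y.2) :=
    congrArg Subtype.val hxy
  have h1 := embProd_injective m n h h0
  have h2 : ((x.1 : alternatingGroup (Fin m)) : Perm (Fin m)) =
      ((y.1 : alternatingGroup (Fin m)) : Perm (Fin m)) := congrArg Prod.fst h1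
  have h3 : rotHom x.2 = rotHom y.2 := congrArg Prod.snd h1
  exact Prod.ext (Subtype.ext (Subtype.ext h2)) (rotHom_injective h3)

/-- existence of a nilpotent subgroup of the alternating group of order `3 |P|` isomorphic to
`P × C₃` -/
theorem exists_ext_alt (m n : ℕ) (h : m + 3 = n) (P : Sylow 2 (alternatingGroup (Fin m))) :
    ∃ M : Subgroup (alternatingGroup (Fin n)), Group.IsNilpotent M ∧
      Nat.card M = 3 * Nat.card P ∧
      Nonempty (M ≃* (↥(P : Subgroup (alternatingGroup (Fin m))) × Multiplicative (ZMod 3))) := by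
  haveI : Fact (Nat.Prime 2) := ⟨Nat.prime_two⟩
  let e := MonoidHom.ofInjective
    (extHomA_injective m n h (P : Subgroup (alternatingGroup (Fin m))))
  haveI : Group.IsNilpotent ↥(P : Subgroup (alternatingGroup (Fin m))) := P.2.isNilpotent
  haveI : Group.IsNilpotent
      (↥(P : Subgroup (alternatingGroup (Fin m))) × Multiplicative (ZMod 3)) :=
    Group.isNilpotent_prod
  refine ⟨(extHomA m n h (P : Subgroup (alternatingGroup (Fin m)))).range,
    Group.nilpotent_of_mulEquiv e, ?_, ⟨e.symm⟩⟩
  rw [← Nat.card_congr e.toEquiv, Nat.card_prod, mul_comm]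
  congr 1
  rw [Nat.card_eq_fintype_card]
  rfl

end Cfsg.Agent.Lib.Helper5.NilSym
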