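import Mathlib
import Cfsg.Agent.Lib.Helper5.NsPt10

set_option autoImplicit false

namespace Cfsg.Agent.Lib.Helper5.NsPt

open Module Matrix Polynomial Cfsg.Agent.Lib.Helper5.SpInv2 Cfsg.Agent.Lib.Helper5.QuadGlue
  Cfsg.Agent.Lib.Helper5.InvSplit2

section final

variable {F : Type*} [Field F] [Fintype F] [CharP F 2]

/-- matrix level: an isometry of odd prime order `r ∣ q^(k+1)+1` without fixed nonsingular vectors -/
theorem exists_matrix_minus (k : ℕ) (a b : F)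
    (hab : ∀ x y : F, x ^ 2 + a * x * y + b * y ^ 2 = 0 → x = 0 ∧ y = 0)
    (r : ℕ) [Fact r.Prime] (hr2 : r ≠ 2) (hdiv : r ∣ Fintype.card F ^ (k + 1) + 1) :
    ∃ X : Matrix ((Fin k ⊕ Fin k) ⊕ Fin 2) ((Fin k ⊕ Fin k) ⊕ Fin 2) F, X ^ r = 1 ∧
      (∀ v, Cfsg.quadFormMinus k F a b (X *ᵥ v) = Cfsg.quadFormMinus k F a b v) ∧
      ∀ v, X *ᵥ v = v → Cfsg.quadFormMinus k F a b v = 0 := by
  classical
  have hr : r.Prime := Fact.out
  have hq1 : 1 ≤ Fintype.card F := Fintype.card_pos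
  obtain ⟨i, t, hi, hord, hd, hodd⟩ :=
    order_of_dvd_add_one (Fintype.card F) (k + 1) r hq1 (by omega) hr hr2 hdiv
  obtain ⟨s, hs⟩ := hodd
  -- `k = 2 s i + (i - 1)`
  have hk : k = 2 * s * i + (i - 1) := by
    have h1 : k + 1 = 2 * s * i + i := by rw [hd, hs]; ring
    omega
  subst hk
  have hdiv1 : 2 * s * i = 0 ∨ r ∣ Fintype.card F ^ (2 * s * i) - 1 := by
    right
    apply (Cfsg.Agent.Lib.Helper9.H9Elus.orderOf_dvd_iff_dvd r _ hq1 (2 * s * i)).1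
    rw [hord]
    exact ⟨s, by ring⟩
  obtain ⟨X₁, hX₁r, hX₁p, hX₁f⟩ := exists_plus_part (F := F) (d := 2 * s * i) r hr2 hdiv1
  obtain ⟨X₂, hX₂r, hX₂p, hX₂f⟩ := exists_fpf_minus (F := F) i hi a b hab r hr2 hord
  refine ⟨blockMat (sigmaSplit (2 * s * i) (i - 1)) X₁ X₂, ?_, ?_, ?_⟩
  · rw [blockMat_pow, hX₁r, hX₂r, blockMat_one]
  · intro v
    rw [quadFormMinus_split, quadFormMinus_split, blockMat_mulVec_inl, blockMat_mulVec_inr,
      hX₁p, hX₂p]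
  · intro v hv
    rw [quadFormMinus_split]
    have h1 := blockMat_mulVec_inl (sigmaSplit (2 * s * i) (i - 1)) X₁ X₂ v
    have h2 := blockMat_mulVec_inr (sigmaSplit (2 * s * i) (i - 1)) X₁ X₂ v
    rw [hv] at h1 h2
    rw [hX₁f _ h1.symm, hX₂f _ h2.symm, zero_add]
    unfold Cfsg.quadFormMinus
    simp

theorem quadFormMinus_single (k : ℕ) (a b : F) :
    Cfsg.quadFormMinus k F a b (Pi.single (Sum.inr 0) 1) = 1 := by
  unfold Cfsg.quadFormMinus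
  simp

/-- group level -/
theorem exists_odd_no_fixed_minus (k : ℕ) (hk : 2 ≤ k) (a b : F)
    (hab : ∀ x y : F, x ^ 2 + a * x * y + b * y ^ 2 = 0 → x = 0 ∧ y = 0)
    (r : ℕ) [Fact r.Prime] (hr2 : r ≠ 2) (hdiv : r ∣ Fintype.card F ^ (k + 1) + 1) :
    ∃ g : ↥(Cfsg.isometryGroup F (Cfsg.quadFormMinus k F a b)),
      g ∈ Cfsg.Omega F (Cfsg.quadFormMinus k F a b) ∧
      ((g : Matrix.GeneralLinearGroup ((Fin k ⊕ Fin k) ⊕ Fin 2) F) :
        Matrix ((Fin k ⊕ Fin k) ⊕ Fin 2) ((Fin k ⊕ Fin k) ⊕ Fin 2) F) ^ r = 1 ∧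
      (∀ z : F, ((g : Matrix.GeneralLinearGroup ((Fin k ⊕ Fin k) ⊕ Fin 2) F) :
        Matrix ((Fin k ⊕ Fin k) ⊕ Fin 2) ((Fin k ⊕ Fin k) ⊕ Fin 2) F) ≠ z • 1) ∧
      ∀ v : (Fin k ⊕ Fin k) ⊕ Fin 2 → F,
        ((g : Matrix.GeneralLinearGroup ((Fin k ⊕ Fin k) ⊕ Fin 2) F) :
        Matrix ((Fin k ⊕ Fin k) ⊕ Fin 2) ((Fin k ⊕ Fin k) ⊕ Fin 2) F) *ᵥ v = v →
        Cfsg.quadFormMinus k F a b v = 0 := by
  classical
  have hr : r.Prime := Fact.out
  have h2 : (2 : F) = 0 := CharTwo.two_eq_zero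
  obtain ⟨X, hXr, hXp, hXf⟩ := exists_matrix_minus k a b hab r hr2 hdiv
  have hr1 : r - 1 + 1 = r := by have := hr.one_lt; omega
  let U : Matrix.GeneralLinearGroup ((Fin k ⊕ Fin k) ⊕ Fin 2) F :=
    ⟨X, X ^ (r - 1), by rw [← pow_succ', hr1, hXr], by rw [← pow_succ, hr1, hXr]⟩
  let g : ↥(Cfsg.isometryGroup F (Cfsg.quadFormMinus k F a b)) := ⟨U, fun u _ => hXp u⟩
  have hg : ((g : Matrix.GeneralLinearGroup ((Fin k ⊕ Fin k) ⊕ Fin 2) F) :
        Matrix ((Fin k ⊕ Fin k) ⊕ Fin 2) ((Fin k ⊕ Fin k) ⊕ Fin 2) F) = X := rfl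
  have hgr : g ^ r = 1 := by
    apply Subtype.ext
    apply Units.ext
    rw [Subgroup.coe_pow, Units.val_pow_eq_pow_val]
    exact hXr
  refine ⟨g, ?_, hXr, ?_, hXf⟩
  · have key : ∀ Q' : ((Fin k ⊕ Fin k) ⊕ Fin 2 → F) → F,
        ⇑(Cfsg.Agent.Lib.Helper2.OrthCard.QMn k a b) = Q' →
        ∀ g : ↥(Cfsg.isometryGroup F Q'), g ^ r = 1 → g ∈ Cfsg.Omega F Q' := by
      intro Q' hQ'
      subst hQ'
      intro g hg
      exact mem_commutator_of_pow_eq_one _ h2 (Cfsg.Agent.Lib.Helper2.OrthCard.QMn_nondeg k a b hab)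
        (by
          right
          rw [Fintype.card_sum, Fintype.card_sum, Fintype.card_fin, Fintype.card_fin]
          omega)
        (by
          rw [Fintype.card_sum, Fintype.card_sum, Fintype.card_fin, Fintype.card_fin]
          omega) g r (hr.odd_of_ne_two hr2) hg
    exact key _ (Cfsg.Agent.Lib.Helper2.OrthCard.QMn_coe k a b) g hgr
  · intro z hz
    rw [hg] at hz
    have h1 := hXp (Pi.single (Sum.inr 0) 1)
    rw [hz, Matrix.smul_mulVec, Matrix.one_mulVec, quadFormMinus_smul, quadFormMinus_single,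
      mul_one] at h1
    have hz1 : z = 1 := by
      have h4 : (z - 1) ^ 2 = 0 := by
        have : (z - 1) ^ 2 = z ^ 2 - 2 * z + 1 := by ring
        rw [this, h1, h2, zero_mul, sub_zero]
        exact CharTwo.add_self_eq_zero 1
      exact sub_eq_zero.1 (pow_eq_zero_iff (by norm_num) |>.1 h4)
    have h3 := hXf (Pi.single (Sum.inr 0) 1) (by rw [hz, hz1, one_smul, Matrix.one_mulVec])
    rw [quadFormMinus_single] at h3
    exact one_ne_zero h3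

end final

end Cfsg.Agent.Lib.Helper5.NsPt
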