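import Mathlib
import Cfsg.Agent.S0289
import Cfsg.Agent.Lib.Helper5.NsPt1

set_option autoImplicit false

namespace Cfsg.Agent.Lib.Helper5.NsPt

open Module

section plus

variable {F : Type*} [Field F] [Fintype F]

theorem quadFormPlus_smul (d : ℕ) (c : F) (v : Fin d ⊕ Fin d → F) :
    Cfsg.quadFormPlus d F (c • v) = c ^ 2 * Cfsg.quadFormPlus d F v := by
  unfold Cfsg.quadFormPlus
  rw [Finset.mul_sum]
  apply Finset.sum_congr rfl
  intro i _
  simp only [Pi.smul_apply, smul_eq_mul]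
  ring

theorem arith_count (q k : ℕ) (hq : 1 ≤ q) :
    q ^ (2 * (k + 1)) - (q ^ (2 * (k + 1) - 1) + q ^ (k + 1) - q ^ (k + 1 - 1)) =
      q ^ k * (q ^ (k + 1) - 1) * (q - 1) := by
  have e1 : 2 * (k + 1) - 1 = 2 * k + 1 := by omega
  have e2 : k + 1 - 1 = k := by omega
  rw [e1, e2]
  obtain ⟨t, rfl⟩ : ∃ t, q = t + 1 := ⟨q - 1, by omega⟩
  have hpos : 1 ≤ (t + 1) ^ k := Nat.one_le_pow _ _ (by omega)
  obtain ⟨a, ha⟩ : ∃ a, (t + 1) ^ k = a + 1 := ⟨(t + 1) ^ k - 1, by omega⟩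
  have p1 : (t + 1) ^ (k + 1) = (a + 1) * (t + 1) := by rw [pow_succ, ha]
  have p2 : (t + 1) ^ (2 * k + 1) = (a + 1) * (a + 1) * (t + 1) := by
    rw [pow_succ, two_mul, pow_add, ha]
  have p3 : (t + 1) ^ (2 * (k + 1)) = (a + 1) * (a + 1) * (t + 1) * (t + 1) := by
    rw [show 2 * (k + 1) = (2 * k + 1) + 1 by ring, pow_succ, p2]
  rw [p1, p2, p3, ha]
  have e3 : (a + 1) * (t + 1) - 1 = a * t + a + t := by
    have : (a + 1) * (t + 1) = a * t + a + t + 1 := by ring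
    omega
  have e4 : t + 1 - 1 = t := by omega
  rw [e3, e4]
  have e5 : (a + 1) * (a + 1) * (t + 1) + (a + 1) * (t + 1) - (a + 1) =
      (a + 1) * (a + 1) * (t + 1) + (a + 1) * t := by
    have : (a + 1) * (t + 1) = (a + 1) * t + (a + 1) := by ring
    omega
  rw [e5]
  have e6 : (a + 1) * (a + 1) * (t + 1) * (t + 1) =
      (a + 1) * (a + 1) * (t + 1) + (a + 1) * t + (a + 1) * (a * t + a + t) * t := by ring
  rw [e6]
  omega

theorem card_nonsing_points {q : ℕ} (hF : Fintype.card F = q) (d : ℕ) (hd : 1 ≤ d) :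
    Nat.card {W : Submodule F (Fin d ⊕ Fin d → F) //
      finrank F W = 1 ∧ ∃ v ∈ W, Cfsg.quadFormPlus d F v ≠ 0} = q ^ (d - 1) * (q ^ d - 1) := by
  classical
  have hq : 2 ≤ q := by rw [← hF]; exact Fintype.one_lt_card
  have h0 : Cfsg.quadFormPlus d F 0 = 0 := by
    unfold Cfsg.quadFormPlus
    simp
  have h1 := card_points_mul (F := F) (Cfsg.quadFormPlus d F) h0 (by
    intro c v hc hv
    rw [quadFormPlus_smul]
    exact mul_ne_zero (pow_ne_zero _ hc) hv)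
  have h2 : Nat.card {v : Fin d ⊕ Fin d → F // Cfsg.quadFormPlus d F v ≠ 0} =
      q ^ (2 * d) - (q ^ (2 * d - 1) + q ^ d - q ^ (d - 1)) := by
    rw [Nat.card_eq_fintype_card, Fintype.card_subtype_compl, ← Nat.card_eq_fintype_card (α := {v : Fin d ⊕ Fin d → F // Cfsg.quadFormPlus d F v = 0}),
      Cfsg.Agent.S0289.result hF d hd, Fintype.card_fun, Fintype.card_sum, Fintype.card_fin, hF]
    congr 2
    ring
  rw [h2, hF] at h1
  obtain ⟨k, rfl⟩ : ∃ k, d = k + 1 := ⟨d - 1, by omega⟩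
  rw [arith_count q k (by omega)] at h1
  have e2 : k + 1 - 1 = k := by omega
  rw [e2]
  exact Nat.eq_of_mul_eq_mul_right (by omega : 0 < q - 1) h1

theorem dvd_cases {p : ℕ} [Fact p.Prime] [CharP F p] {q : ℕ} (hF : Fintype.card F = q) (d : ℕ) (hd : 1 ≤ d)
    (r : ℕ) (hr : r.Prime)
    (h : r ∣ Nat.card {W : Submodule F (Fin d ⊕ Fin d → F) //
      finrank F W = 1 ∧ ∃ v ∈ W, Cfsg.quadFormPlus d F v ≠ 0}) :
    r = p ∨ r ∣ q ^ d - 1 := by
  rw [card_nonsing_points hF d hd] at h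
  rcases (Nat.Prime.dvd_mul hr).1 h with h1 | h1
  · left
    have h2 := hr.dvd_of_dvd_pow h1
    obtain ⟨n, hn⟩ := FiniteField.card F p
    rw [hF] at hn
    rw [hn.2] at h2
    have h3 := hr.dvd_of_dvd_pow h2
    exact (Nat.prime_dvd_prime_iff_eq hr hn.1).1 h3
  · right; exact h1

end plus

end Cfsg.Agent.Lib.Helper5.NsPt
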