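import Mathlib
import Cfsg.Agent.Lib.Helper5.O2Sp
import Cfsg.Agent.Lib.Helper5.InvSplit2
import Cfsg.Agent.Lib.Helper5.ClassCount

set_option autoImplicit false

namespace Cfsg.Agent.Lib.Helper5.O2SpCount

open Matrix Module Cfsg.Agent.Lib.Helper2.Symp Cfsg.Agent.Lib.Helper1.SpBasic
  Cfsg.Agent.Lib.Helper5.SpInv2 Cfsg.Agent.Lib.Helper5.InvConj Cfsg.Agent.S2595
  Cfsg.Agent.Lib.Helper5.O2Sp Cfsg.Agent.Lib.Helper5.InvSplit2 Cfsg.Agent.Lib.Helper5.ClassCount

variable {F : Type*} [Field F] [Fintype F] [CharP F 2] {m : ℕ}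
variable {Qf : QuadraticForm F (Fin m ⊕ Fin m → F)}

/-- the invariant of an involution: rank of `t - 1` and alternating type -/
noncomputable def invQ (h : PolSymp Qf) (g : ↥(Cfsg.isometryGroup F ⇑Qf)) : ℕ × Bool :=
  ((((g : Matrix.GeneralLinearGroup (Fin m ⊕ Fin m) F) :
    Matrix (Fin m ⊕ Fin m) (Fin m ⊕ Fin m) F) - 1).rank, @decide (IsAltInv (toSpQ h g)) (Classical.dec _))

theorem invQ_eq (h : PolSymp Qf) (g : ↥(Cfsg.isometryGroup F ⇑Qf)) :
    invQ h g = ((((toSpQ h g : Matrix.symplecticGroup (Fin m) F) :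
      Matrix (Fin m ⊕ Fin m) (Fin m ⊕ Fin m) F) - 1).rank,
      @decide (IsAltInv (toSpQ h g)) (Classical.dec _)) := rfl

theorem invQ_conj (h : PolSymp Qf) (c g : ↥(Cfsg.isometryGroup F ⇑Qf)) :
    invQ h (c * g * c⁻¹) = invQ h g := by
  rw [invQ_eq, invQ_eq, map_mul, map_mul, map_inv, rank_conj_sub_one]
  congr 1
  rw [decide_eq_decide]
  exact isAltInv_conj _ _

theorem orderOf_toSpQ (h : PolSymp Qf) (g : ↥(Cfsg.isometryGroup F ⇑Qf)) :
    orderOf (toSpQ h g) = orderOf g := orderOf_injective (toSpQ h) (toSpQ_injective h) g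

theorem isConj_iff_invQ (h : PolSymp Qf) (g g' : ↥(Cfsg.isometryGroup F ⇑Qf))
    (hg : orderOf g = 2) (hg' : orderOf g' = 2) : IsConj g g' ↔ invQ h g = invQ h g' := by
  have hsq : ∀ x : F, ∃ y : F, y * y = x := by
    intro x
    obtain ⟨r, hr⟩ := FiniteField.isSquare_of_char_two (ringChar.eq F 2) x
    exact ⟨r, hr.symm⟩
  constructor
  · intro hc
    obtain ⟨c, hc⟩ := isConj_iff.1 hc
    rw [← hc, invQ_conj]
  · intro hgg
    rw [invQ_eq, invQ_eq] at hgg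
    have h1 := (Prod.mk.inj hgg).1
    have h2 := (Prod.mk.inj hgg).2
    rw [decide_eq_decide] at h2
    apply conj_of_sp_conj h g g' hg'
    exact conj_of_same_type hsq _ _
      (Cfsg.Agent.S2593.sq_of_orderOf _ ((orderOf_toSpQ h g).trans hg))
      (Cfsg.Agent.S2593.sq_of_orderOf _ ((orderOf_toSpQ h g').trans hg')) h1 h2


/-- basic restrictions on the invariant -/
theorem invQ_basic (h : PolSymp Qf) (g : ↥(Cfsg.isometryGroup F ⇑Qf)) (hg : orderOf g = 2) :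
    1 ≤ (invQ h g).1 ∧ (invQ h g).1 ≤ m ∧ ((invQ h g).2 = true → 2 ∣ (invQ h g).1) := by
  classical
  have hg' : orderOf (toSpQ h g) = 2 := (orderOf_toSpQ h g).trans hg
  have hg2 := Cfsg.Agent.S2593.sq_of_orderOf _ hg'
  obtain ⟨c, S, hS, hc⟩ := exists_conj_uMat (toSpQ h g) hg2
  have hc' : c * toSpQ h g * c⁻¹ = uS S hS := Subtype.ext hc
  have hrank : (invQ h g).1 = S.rank := by
    rw [invQ_eq]
    show (((toSpQ h g : Matrix.symplecticGroup (Fin m) F) :
      Matrix (Fin m ⊕ Fin m) (Fin m ⊕ Fin m) F) - 1).rank = S.rank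
    rw [← rank_conj_sub_one c, hc']
    exact rank_uMat_sub_one S
  have halt : (invQ h g).2 = true ↔ ∀ y : Fin m → F, y ⬝ᵥ S *ᵥ y = 0 := by
    rw [invQ_eq]
    show @decide (IsAltInv (toSpQ h g)) (Classical.dec _) = true ↔ _
    rw [decide_eq_true_iff, ← isAltInv_conj c, hc', isAltInv_uS]
  rw [hrank]
  refine ⟨?_, ?_, ?_⟩
  · by_contra h0
    have hS0 : S = 0 := Cfsg.Agent.S2593.eq_zero_of_rank_eq_zero S (by omega)
    have h1 : c * toSpQ h g * c⁻¹ = 1 := by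
      rw [hc']
      apply Subtype.ext
      show uMat S = 1
      rw [hS0]
      unfold uMat
      exact Matrix.fromBlocks_one
    have h2 : toSpQ h g = 1 := by
      have : toSpQ h g = c⁻¹ * (c * toSpQ h g * c⁻¹) * c := by group
      rw [this, h1]; group
    rw [h2, orderOf_one] at hg'
    omega
  · have := Matrix.rank_le_card_width S
    rw [Fintype.card_fin] at this
    exact this
  · intro hb
    have halt' := halt.1 hb
    have h3 := Cfsg.Agent.S2166.even_rank_of_isAltInv (uS S hS) (Cfsg.Agent.S2593.uS_mul_self S hS)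
      ((isAltInv_uS S hS).2 halt')
    have h4 : ((uS S hS : Matrix.symplecticGroup (Fin m) F) :
        Matrix (Fin m ⊕ Fin m) (Fin m ⊕ Fin m) F) = uMat S := rfl
    rw [h4, rank_uMat_sub_one] at h3
    exact even_iff_two_dvd.1 h3

/-- the invariant of a conjugate of a block unipotent element lying in `O(Q)` -/
theorem invQ_ofSp_conj_uS (h : PolSymp Qf) (L : Matrix.symplecticGroup (Fin m) F)
    (S : Matrix (Fin m) (Fin m) F) (hS : Sᵀ = S)
    (hc : ∀ v, Qf ((L * uS S hS * L⁻¹).1 *ᵥ v) = Qf v) :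
    invQ h (ofSp (L * uS S hS * L⁻¹) hc) =
      (S.rank, @decide (∀ y : Fin m → F, y ⬝ᵥ S *ᵥ y = 0) (Classical.dec _)) := by
  rw [invQ_eq, toSpQ_ofSp, rank_conj_sub_one]
  congr 1
  · exact rank_uMat_sub_one S
  · rw [decide_eq_decide, isAltInv_conj]
    exact isAltInv_uS S hS

theorem orderOf_ofSp_conj_uS (h : PolSymp Qf) (L : Matrix.symplecticGroup (Fin m) F)
    (S : Matrix (Fin m) (Fin m) F) (hS : Sᵀ = S) (hS0 : S ≠ 0)
    (hc : ∀ v, Qf ((L * uS S hS * L⁻¹).1 *ᵥ v) = Qf v) :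
    orderOf (ofSp (L * uS S hS * L⁻¹) hc) = 2 := by
  rw [← orderOf_toSpQ h, toSpQ_ofSp, orderOf_conj']
  exact Cfsg.Agent.S2593.orderOf_uS S hS hS0


theorem invQ_ofSp_uS (h : PolSymp Qf) (S : Matrix (Fin m) (Fin m) F) (hS : Sᵀ = S)
    (hc : ∀ v, Qf ((uS S hS).1 *ᵥ v) = Qf v) :
    invQ h (ofSp (uS S hS) hc) =
      (S.rank, @decide (∀ y : Fin m → F, y ⬝ᵥ S *ᵥ y = 0) (Classical.dec _)) := by
  rw [invQ_eq, toSpQ_ofSp]
  congr 1
  · exact rank_uMat_sub_one S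
  · rw [decide_eq_decide]
    exact isAltInv_uS S hS

theorem orderOf_ofSp_uS (h : PolSymp Qf) (S : Matrix (Fin m) (Fin m) F) (hS : Sᵀ = S) (hS0 : S ≠ 0)
    (hc : ∀ v, Qf ((uS S hS).1 *ᵥ v) = Qf v) :
    orderOf (ofSp (uS S hS) hc) = 2 := by
  rw [← orderOf_toSpQ h, toSpQ_ofSp]
  exact Cfsg.Agent.S2593.orderOf_uS S hS hS0

/-- counting the classes of involutions of `O(Q)` -/
theorem card_O_classes (h : PolSymp Qf) (T : Finset (ℕ × Bool))
    (hT1 : ∀ g : ↥(Cfsg.isometryGroup F ⇑Qf), orderOf g = 2 → invQ h g ∈ T)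
    (hT2 : ∀ p ∈ T, ∃ g : ↥(Cfsg.isometryGroup F ⇑Qf), orderOf g = 2 ∧ invQ h g = p) :
    Nat.card {C : ConjClasses ↥(Cfsg.isometryGroup F ⇑Qf) //
      ∃ g : ↥(Cfsg.isometryGroup F ⇑Qf), ConjClasses.mk g = C ∧ orderOf g = 2} = T.card :=
  card_classes_of_invariant (fun g => orderOf g = 2) (invQ h) T
    (fun g g' hg hg' => isConj_iff_invQ h g g' hg hg') hT1 hT2

theorem card_iota : Fintype.card (Fin m ⊕ Fin m) = 2 * m := by
  rw [Fintype.card_sum, Fintype.card_fin]; ring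

/-- counting the classes of involutions of `Ω(Q)` -/
theorem card_Omega_classes (h : PolSymp Qf) (hm : 1 ≤ m) (hex : Fintype.card F ≠ 2 ∨ m ≠ 2)
    (T : Finset (ℕ × Bool))
    (hT1 : ∀ g : ↥(Cfsg.isometryGroup F ⇑Qf), orderOf g = 2 → invQ h g ∈ T)
    (hT2 : ∀ p ∈ T, ∃ g : ↥(Cfsg.isometryGroup F ⇑Qf), orderOf g = 2 ∧ invQ h g = p) :
    Nat.card {C : ConjClasses ↥(Cfsg.Omega F ⇑Qf) //
      ∃ g : ↥(Cfsg.Omega F ⇑Qf), ConjClasses.mk g = C ∧ orderOf g = 2} =
      (T.filter (fun p => 2 ∣ p.1)).card + (T.filter (fun p => p = (m, true))).card := by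
  classical
  have h2 : (2 : F) = 0 := CharTwo.two_eq_zero
  have hQ := h.nondeg
  have hex' : Fintype.card F ≠ 2 ∨ Fintype.card (Fin m ⊕ Fin m) ≠ 4 := by
    rcases hex with h' | h'
    · exact Or.inl h'
    · right; rw [card_iota]; omega
  have hn : 2 ≤ Fintype.card (Fin m ⊕ Fin m) := by rw [card_iota]; omega
  have hidx := index_commutator h2 hQ hex' hn
  have hmemΩ := Cfsg.Agent.Lib.Helper5.OmegaCrit.mem_commutator_iff_rank₂ h2 hQ hex' hn
  have hPconj : ∀ x g : ↥(Cfsg.isometryGroup F ⇑Qf), orderOf (x * g * x⁻¹) = 2 ↔ orderOf g = 2 := by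
    intro x g
    rw [orderOf_conj']
  have hfin : Finite ↥(Cfsg.isometryGroup F ⇑Qf) := inferInstance
  have key := card_classes_index_two (commutator ↥(Cfsg.isometryGroup F ⇑Qf)) hidx
    (fun g => orderOf g = 2) hPconj
  have e1 : Nat.card {C : ConjClasses ↥(Cfsg.Omega F ⇑Qf) //
      ∃ g : ↥(Cfsg.Omega F ⇑Qf), ConjClasses.mk g = C ∧ orderOf g = 2} =
      Nat.card {C : ConjClasses ↥(commutator ↥(Cfsg.isometryGroup F ⇑Qf)) //
      ∃ g : ↥(commutator ↥(Cfsg.isometryGroup F ⇑Qf)), ConjClasses.mk g = C ∧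
        orderOf (g : ↥(Cfsg.isometryGroup F ⇑Qf)) = 2} := by
    apply Nat.card_congr
    apply Equiv.subtypeEquivRight
    intro C
    simp only [Subgroup.orderOf_coe]
  rw [e1, key]
  -- the rank/alt translation
  have hlag_iff : ∀ g : ↥(Cfsg.isometryGroup F ⇑Qf),
      (2 * (((g : Matrix.GeneralLinearGroup (Fin m ⊕ Fin m) F) :
        Matrix (Fin m ⊕ Fin m) (Fin m ⊕ Fin m) F) - 1).rank = Fintype.card (Fin m ⊕ Fin m) ∧
      ∀ v : Fin m ⊕ Fin m → F, Qf ((((g : Matrix.GeneralLinearGroup (Fin m ⊕ Fin m) F) :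
        Matrix (Fin m ⊕ Fin m) (Fin m ⊕ Fin m) F) - 1) *ᵥ v) = 0) ↔ invQ h g = (m, true) := by
    intro g
    rw [card_iota]
    unfold invQ
    rw [Prod.mk.injEq, decide_eq_true_iff]
    constructor
    · rintro ⟨hr, hv⟩
      refine ⟨by omega, ?_⟩
      intro v
      rw [toSpQ_coe, ← h]
      have h3 := hv v
      rw [Matrix.sub_mulVec, Matrix.one_mulVec] at h3
      have h4 : Qf (v + ((g : Matrix.GeneralLinearGroup (Fin m ⊕ Fin m) F) :
          Matrix (Fin m ⊕ Fin m) (Fin m ⊕ Fin m) F) *ᵥ v) = 0 := by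
        rw [← h3]
        congr 1
        funext i
        simp only [Pi.add_apply, Pi.sub_apply]
        rw [sub_eq_add_neg, Cfsg.Agent.Lib.Helper5.SpInv2.neg_eq_self, add_comm]
      have h5 : Qf (((g : Matrix.GeneralLinearGroup (Fin m ⊕ Fin m) F) :
          Matrix (Fin m ⊕ Fin m) (Fin m ⊕ Fin m) F) *ᵥ v) = Qf v := g.2 v v
      rw [h4, h5]
      have : (2 : F) * Qf v = 0 := by rw [h2, zero_mul]
      linear_combination -this
    · rintro ⟨hr, halt⟩
      exact ⟨by omega, fun v => Q_sub_of_alt h g halt v⟩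
  congr 1
  · apply card_classes_of_invariant _ (invQ h)
    · rintro g g' ⟨hg, -⟩ ⟨hg', -⟩
      exact isConj_iff_invQ h g g' hg hg'
    · rintro g ⟨hg, hgΩ⟩
      rw [Finset.mem_filter]
      refine ⟨hT1 g hg, ?_⟩
      exact even_iff_two_dvd.1 ((hmemΩ g).1 hgΩ)
    · intro p hp
      rw [Finset.mem_filter] at hp
      obtain ⟨g, hg, hgp⟩ := hT2 p hp.1
      refine ⟨g, ⟨hg, ?_⟩, hgp⟩
      rw [hmemΩ]
      have : (invQ h g).1 = p.1 := by rw [hgp]
      rw [even_iff_two_dvd]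
      show 2 ∣ (invQ h g).1
      rw [this]
      exact hp.2
  · apply card_classes_of_invariant _ (invQ h)
    · rintro g g' ⟨hg, -⟩ ⟨hg', -⟩
      exact isConj_iff_invQ h g g' hg hg'
    · rintro g ⟨hg, hgΩ, hcent⟩
      rw [Finset.mem_filter]
      refine ⟨hT1 g hg, ?_⟩
      rw [← hlag_iff]
      by_contra hnot
      obtain ⟨c, hc, hcΩ⟩ := exists_comm_not_mem h2 hQ hex' hn g
        (Cfsg.Agent.S2593.sq_of_orderOf g hg) hnot
      apply hcΩ
      apply hcent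
      rw [Subgroup.mem_centralizer_singleton_iff]
      exact hc
    · intro p hp
      rw [Finset.mem_filter] at hp
      obtain ⟨g, hg, hgp⟩ := hT2 p hp.1
      have hlag := (hlag_iff g).2 (hgp.trans hp.2)
      refine ⟨g, ⟨hg, ?_, ?_⟩, hgp⟩
      · exact comm_mem_of_lag h2 hQ hex' hn g hlag g rfl
      · intro c hc
        rw [Subgroup.mem_centralizer_singleton_iff] at hc
        exact comm_mem_of_lag h2 hQ hex' hn g hlag c hc

end Cfsg.Agent.Lib.Helper5.O2SpCount
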