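import Mathlib
import Cfsg.Prelude
import Cfsg.Agent.Lib.Helper5.QuadFin

/-!
# S5677: pure quadratic-space facts (helper5)

* `exists_mem_represents`: a nondegenerate subspace of dimension at least `2` over a finite field
  represents every value.
* `exists_pair_same_norm`: a nondegenerate plane (odd characteristic, `q ≥ 5`) contains two
  independent vectors of the same nonzero norm, with trivial common perp inside the plane.
-/

set_option autoImplicit false

namespace Cfsg.Agent.Lib.Helper5.ODecQuad

open Module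

variable {F : Type*} [Field F] {ι : Type} [Fintype ι] [DecidableEq ι]
variable {Q : QuadraticForm F (ι → F)}

/-- nondegeneracy of the restriction of `Q` to a subspace on which the polar form is
non-degenerate -/
theorem nondeg_sub (U : Submodule F (ι → F))
    (hU : Cfsg.Geo.IsNondegenerateOn (QuadraticMap.polar ⇑Q) U) :
    (QuadraticMap.polarBilin (Q.comp U.subtype)).Nondegenerate := by
  constructor
  · intro x hx
    by_contra hx0
    have hx0' : (x : ι → F) ≠ 0 := fun h => hx0 (Subtype.ext h)
    obtain ⟨-, ⟨y, hyU, hy⟩⟩ := hU x x.2 hx0'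
    apply hy
    have := hx ⟨y, hyU⟩
    have h2 : QuadraticMap.polar (Q.comp U.subtype) x ⟨y, hyU⟩ = 0 := this
    rwa [Cfsg.Agent.Lib.Helper5.polar_comp_subtype] at h2
  · intro x hx
    by_contra hx0
    have hx0' : (x : ι → F) ≠ 0 := fun h => hx0 (Subtype.ext h)
    obtain ⟨⟨y, hyU, hy⟩, -⟩ := hU x x.2 hx0'
    apply hy
    have := hx ⟨y, hyU⟩
    have h2 : QuadraticMap.polar (Q.comp U.subtype) ⟨y, hyU⟩ x = 0 := this
    rwa [Cfsg.Agent.Lib.Helper5.polar_comp_subtype] at h2

/-- a nondegenerate quadratic form of dimension at least two over a finite field represents every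
value -/
theorem exists_represents_any [Finite F] {V : Type*} [AddCommGroup V] [Module F V]
    [FiniteDimensional F V] (Q : QuadraticForm F V)
    (hQ : (QuadraticMap.polarBilin Q).Nondegenerate)
    (hdim : 2 ≤ finrank F V) (α : F) : ∃ v : V, Q v = α := by
  classical
  obtain ⟨k, e, f, W, hH, hmem, hd, hW2, haniso⟩ := Cfsg.Agent.Lib.Helper5.exists_witt Q hQ
  rcases Nat.eq_zero_or_pos k with hk | hk
  · subst hk
    have hW : finrank F W = 2 := by omega
    let bw : Basis (Fin 2) F W := Module.finBasisOfFinrankEq F W hW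
    have hpair : ∀ s t : F, Q (s • (bw 0 : V) + t • (bw 1 : V)) = 0 → s = 0 ∧ t = 0 := by
      intro s t hst
      have h1 : s • (bw 0 : V) + t • (bw 1 : V) ∈ W :=
        W.add_mem (W.smul_mem _ (bw 0).2) (W.smul_mem _ (bw 1).2)
      have h2 := haniso _ h1 hst
      have h3 : s • bw 0 + t • bw 1 = 0 := Subtype.ext h2
      have h4 := Fintype.linearIndependent_iff.1 bw.linearIndependent ![s, t]
        (by rw [Fin.sum_univ_two]; simpa using h3)
      exact ⟨by simpa using h4 0, by simpa using h4 1⟩
    obtain ⟨s, t, hst⟩ :=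
      Cfsg.Agent.Lib.Helper5.exists_represents Q (bw 0 : V) (bw 1 : V) hpair α
    exact ⟨_, hst⟩
  · refine ⟨(α : F) • e ⟨0, hk⟩ + (1 : F) • f ⟨0, hk⟩, ?_⟩
    rw [Cfsg.Agent.Lib.Helper5.map_lin2, hH.qe, hH.qf, hH.ef, if_pos rfl]
    ring

/-- **Universality.**  A nondegenerate subspace of dimension at least `2` over a finite field
contains a vector of any prescribed norm. -/
theorem exists_mem_represents [Finite F] (W : Submodule F (ι → F))
    (hW : Cfsg.Geo.IsNondegenerateOn (QuadraticMap.polar (⇑Q)) W) (h2 : 2 ≤ finrank F W)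
    (α : F) : ∃ c ∈ W, Q c = α := by
  obtain ⟨v, hv⟩ := exists_represents_any (Q.comp W.subtype) (nondeg_sub W hW) h2 α
  exact ⟨v.1, v.2, hv⟩

/-- a nondegenerate nonzero subspace contains a nonsingular vector -/
theorem exists_nonsingular (W : Submodule F (ι → F))
    (hW : Cfsg.Geo.IsNondegenerateOn (QuadraticMap.polar (⇑Q)) W) (hW0 : W ≠ ⊥) :
    ∃ a ∈ W, Q a ≠ 0 := by
  obtain ⟨s0, hs0, hs0ne⟩ := (Submodule.ne_bot_iff W).1 hW0
  obtain ⟨⟨y2, hy2W, hy2⟩, -⟩ := hW s0 hs0 hs0ne
  by_contra h
  push Not at h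
  apply hy2
  have := h (y2 + s0) (W.add_mem hy2W hs0)
  unfold QuadraticMap.polar
  rw [this, h y2 hy2W, h s0 hs0]
  ring

/-- an orthogonal "basis" of a nondegenerate plane, in elementary form -/
theorem exists_orth_pair (h2 : (2 : F) ≠ 0) (W : Submodule F (ι → F))
    (hW : Cfsg.Geo.IsNondegenerateOn (QuadraticMap.polar (⇑Q)) W) (hdim : finrank F W = 2) :
    ∃ a ∈ W, ∃ y ∈ W, Q a ≠ 0 ∧ Q y ≠ 0 ∧ QuadraticMap.polar (⇑Q) a y = 0 ∧
      ∀ x ∈ W, ∃ s t : F, x = s • a + t • y := by
  classical
  have hW0 : W ≠ ⊥ := by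
    intro h
    rw [h, finrank_bot] at hdim
    omega
  obtain ⟨a, haW, ha⟩ := exists_nonsingular W hW hW0
  let bw : Basis (Fin 2) F W := Module.finBasisOfFinrankEq F W hdim
  have hrep : ∀ x ∈ W, ∃ s t : F, x = s • (bw 0 : ι → F) + t • (bw 1 : ι → F) := by
    intro x hx
    have := bw.sum_repr ⟨x, hx⟩
    rw [Fin.sum_univ_two] at this
    refine ⟨bw.repr ⟨x, hx⟩ 0, bw.repr ⟨x, hx⟩ 1, ?_⟩
    have h3 := congrArg (fun z : W => (z : ι → F)) this
    simpa using h3.symm
  have hind : ∀ s t : F, s • (bw 0 : ι → F) + t • (bw 1 : ι → F) = 0 → s = 0 ∧ t = 0 := by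
    intro s t hst
    have h3 : s • bw 0 + t • bw 1 = 0 := Subtype.ext (by simpa using hst)
    have h4 := Fintype.linearIndependent_iff.1 bw.linearIndependent ![s, t]
      (by rw [Fin.sum_univ_two]; simpa using h3)
    exact ⟨by simpa using h4 0, by simpa using h4 1⟩
  set b0 : ι → F := (bw 0 : ι → F) with hb0
  set b1 : ι → F := (bw 1 : ι → F) with hb1
  have hb0W : b0 ∈ W := (bw 0).2
  have hb1W : b1 ∈ W := (bw 1).2
  set y : ι → F := QuadraticMap.polar (⇑Q) a b1 • b0 - QuadraticMap.polar (⇑Q) a b0 • b1 with hy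
  have hyW : y ∈ W := W.sub_mem (W.smul_mem _ hb0W) (W.smul_mem _ hb1W)
  have hay : QuadraticMap.polar (⇑Q) a y = 0 := by
    rw [hy, QuadraticMap.polar_sub_right, QuadraticMap.polar_smul_right,
      QuadraticMap.polar_smul_right]
    simp only [smul_eq_mul]
    ring
  have ha0 : a ≠ 0 := by
    rintro rfl
    exact ha (QuadraticMap.map_zero Q)
  have hy0 : y ≠ 0 := by
    intro h
    have h1 : QuadraticMap.polar (⇑Q) a b1 • b0 + (-QuadraticMap.polar (⇑Q) a b0) • b1 = 0 := by
      rw [neg_smul, ← sub_eq_add_neg]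
      exact h
    obtain ⟨e1, e2⟩ := hind _ _ h1
    obtain ⟨-, ⟨x, hxW, hx⟩⟩ := hW a haW ha0
    obtain ⟨s, t, rfl⟩ := hrep x hxW
    apply hx
    rw [QuadraticMap.polar_add_right, QuadraticMap.polar_smul_right,
      QuadraticMap.polar_smul_right, e1, neg_eq_zero.1 e2]
    simp
  have haa : QuadraticMap.polar (⇑Q) a a = 2 * Q a := by
    unfold QuadraticMap.polar
    have : a + a = (2 : F) • a := by rw [two_smul]
    rw [this, QuadraticMap.map_smul]
    simp only [smul_eq_mul]
    ring
  -- `a, y` are independent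
  have hind2 : ∀ s t : F, s • a + t • y = 0 → s = 0 ∧ t = 0 := by
    intro s t hst
    have h1 : QuadraticMap.polar (⇑Q) a (s • a + t • y) = 0 := by
      rw [hst, QuadraticMap.polar_zero_right]
    rw [QuadraticMap.polar_add_right, QuadraticMap.polar_smul_right,
      QuadraticMap.polar_smul_right, hay, haa] at h1
    simp only [smul_eq_mul, mul_zero, add_zero] at h1
    have hs : s = 0 := by
      rcases mul_eq_zero.1 h1 with h | h
      · exact h
      · exact absurd h (mul_ne_zero h2 ha)
    rw [hs, zero_smul, zero_add] at hst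
    rcases smul_eq_zero.1 hst with h | h
    · exact ⟨hs, h⟩
    · exact absurd h hy0
  -- spanning
  have hspan : ∀ x ∈ W, ∃ s t : F, x = s • a + t • y := by
    have hli : LinearIndependent F ![(⟨a, haW⟩ : W), ⟨y, hyW⟩] := by
      rw [Fintype.linearIndependent_iff]
      intro g hg
      rw [Fin.sum_univ_two] at hg
      have h3 := congrArg (fun z : W => (z : ι → F)) hg
      simp only [Matrix.cons_val_zero, Matrix.cons_val_one, Submodule.coe_add,
        Submodule.coe_smul, Submodule.coe_zero] at h3
      obtain ⟨e1, e2⟩ := hind2 _ _ h3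
      intro i
      fin_cases i
      · exact e1
      · exact e2
    have hsp : ⊤ ≤ Submodule.span F (Set.range ![(⟨a, haW⟩ : W), ⟨y, hyW⟩]) := by
      rw [hli.span_eq_top_of_card_eq_finrank' (by simp [hdim])]
    intro x hx
    have hx' : (⟨x, hx⟩ : W) ∈ Submodule.span F (Set.range ![(⟨a, haW⟩ : W), ⟨y, hyW⟩]) :=
      hsp Submodule.mem_top
    rw [Matrix.range_cons, Matrix.range_cons, Matrix.range_empty, Set.union_empty,
      Set.singleton_union, Submodule.mem_span_pair] at hx'
    obtain ⟨s, t, hst⟩ := hx'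
    refine ⟨s, t, ?_⟩
    have h3 := congrArg (fun z : W => (z : ι → F)) hst
    simpa using h3.symm
  have hQy : Q y ≠ 0 := by
    intro hQy
    obtain ⟨-, ⟨x, hxW, hx⟩⟩ := hW y hyW hy0
    obtain ⟨s, t, rfl⟩ := hspan x hxW
    apply hx
    have hyy : QuadraticMap.polar (⇑Q) y y = 0 := by
      unfold QuadraticMap.polar
      have : y + y = (2 : F) • y := by rw [two_smul]
      rw [this, QuadraticMap.map_smul, hQy]
      simp
    rw [QuadraticMap.polar_add_right, QuadraticMap.polar_smul_right,
      QuadraticMap.polar_smul_right, hyy, QuadraticMap.polar_comm, hay]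
    simp
  exact ⟨a, haW, y, hyW, ha, hQy, hay, hspan⟩

/-- **Two independent vectors of the same nonzero norm in a nondegenerate plane** (`2 ≠ 0`,
`q ≥ 5`).  The common perp of `c, c'` inside `W` is zero. -/
theorem exists_pair_same_norm [Fintype F] (h2 : (2 : F) ≠ 0) (hq : 5 ≤ Fintype.card F)
    (W : Submodule F (ι → F))
    (hW : Cfsg.Geo.IsNondegenerateOn (QuadraticMap.polar (⇑Q)) W) (hdim : finrank F W = 2) :
    ∃ c ∈ W, ∃ c' ∈ W, Q c = Q c' ∧ Q c ≠ 0 ∧
      (∀ s t : F, s • c + t • c' = 0 → s = 0 ∧ t = 0) ∧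
      (∀ x ∈ W, QuadraticMap.polar (⇑Q) c x = 0 → QuadraticMap.polar (⇑Q) c' x = 0 → x = 0) := by
  classical
  obtain ⟨a, haW, y, hyW, ha, hQy, hay, hspan⟩ := exists_orth_pair h2 W hW hdim
  -- choose `l ≠ 0` with `Q a + l^2 Q y ≠ 0`
  obtain ⟨l, hl0, hl⟩ : ∃ l : F, l ≠ 0 ∧ Q y * l ^ 2 + 0 * l + Q a ≠ 0 := by
    by_contra hcon
    push Not at hcon
    have hsub : (Finset.univ : Finset F) ⊆
        insert 0 (Finset.univ.filter (fun t : F => Q y * t ^ 2 + 0 * t + Q a = 0)) := by
      intro t _
      by_cases ht : t = 0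
      · rw [ht]; exact Finset.mem_insert_self _ _
      · exact Finset.mem_insert_of_mem (by
          simp only [Finset.mem_filter, Finset.mem_univ, true_and]; exact hcon t ht)
    have h1 := Finset.card_le_card hsub
    have h3 := Finset.card_insert_le (0 : F)
      (Finset.univ.filter (fun t : F => Q y * t ^ 2 + 0 * t + Q a = 0))
    have h4 : (Finset.univ.filter (fun t : F => Q y * t ^ 2 + 0 * t + Q a = 0)).card ≤ 2 := by
      have hp : (Polynomial.C (Q y) * Polynomial.X ^ 2 + Polynomial.C 0 * Polynomial.X +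
          Polynomial.C (Q a) : Polynomial F) ≠ 0 := by
        intro h
        have h0 := congrArg (fun r => Polynomial.coeff r 0) h
        simp at h0
        exact ha h0
      calc (Finset.univ.filter (fun t : F => Q y * t ^ 2 + 0 * t + Q a = 0)).card
          ≤ (Polynomial.C (Q y) * Polynomial.X ^ 2 + Polynomial.C 0 * Polynomial.X +
              Polynomial.C (Q a) : Polynomial F).roots.toFinset.card :=
            Finset.card_le_card (by
              intro t ht
              simp only [Finset.mem_filter, Finset.mem_univ, true_and] at ht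
              rw [Multiset.mem_toFinset, Polynomial.mem_roots hp]
              simpa [Polynomial.IsRoot] using ht)
        _ ≤ Multiset.card (Polynomial.C (Q y) * Polynomial.X ^ 2 + Polynomial.C 0 * Polynomial.X +
              Polynomial.C (Q a) : Polynomial F).roots := Multiset.toFinset_card_le _
        _ ≤ (Polynomial.C (Q y) * Polynomial.X ^ 2 + Polynomial.C 0 * Polynomial.X +
              Polynomial.C (Q a) : Polynomial F).natDegree := Polynomial.card_roots' _
        _ ≤ 2 := Polynomial.natDegree_quadratic_le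
    rw [Finset.card_univ] at h1
    omega
  have hnorm : ∀ e : F, Q (a + e • y) = Q a + e ^ 2 * Q y := by
    intro e
    have := Cfsg.Agent.Lib.Helper5.map_lin2 Q 1 e a y
    rw [one_smul] at this
    rw [this, hay]
    ring
  have haa : QuadraticMap.polar (⇑Q) a a = 2 * Q a := by
    unfold QuadraticMap.polar
    have : a + a = (2 : F) • a := by rw [two_smul]
    rw [this, QuadraticMap.map_smul]
    simp only [smul_eq_mul]
    ring
  have hyy : QuadraticMap.polar (⇑Q) y y = 2 * Q y := by
    unfold QuadraticMap.polar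
    have : y + y = (2 : F) • y := by rw [two_smul]
    rw [this, QuadraticMap.map_smul]
    simp only [smul_eq_mul]
    ring
  have hya : QuadraticMap.polar (⇑Q) y a = 0 := by rw [QuadraticMap.polar_comm]; exact hay
  refine ⟨a + l • y, W.add_mem haW (W.smul_mem _ hyW), a + (-l) • y,
    W.add_mem haW (W.smul_mem _ hyW), ?_, ?_, ?_, ?_⟩
  · rw [hnorm, hnorm]; ring
  · rw [hnorm]
    intro h
    apply hl
    linear_combination h
  · intro s t hst
    -- pair with `a` and with `y`
    have h1 : QuadraticMap.polar (⇑Q) a (s • (a + l • y) + t • (a + -l • y)) = 0 := by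
      rw [hst, QuadraticMap.polar_zero_right]
    have h3 : QuadraticMap.polar (⇑Q) y (s • (a + l • y) + t • (a + -l • y)) = 0 := by
      rw [hst, QuadraticMap.polar_zero_right]
    simp only [QuadraticMap.polar_add_right, QuadraticMap.polar_smul_right, haa, hay, hya, hyy,
      smul_eq_mul, mul_zero, add_zero, zero_add] at h1 h3
    have e1 : (s + t) * (2 * Q a) = 0 := by linear_combination h1
    have e2 : (s - t) * (l * (2 * Q y)) = 0 := by linear_combination h3
    have e1' : s + t = 0 := by
      rcases mul_eq_zero.1 e1 with h | h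
      · exact h
      · exact absurd h (mul_ne_zero h2 ha)
    have e2' : s - t = 0 := by
      rcases mul_eq_zero.1 e2 with h | h
      · exact h
      · exact absurd h (mul_ne_zero hl0 (mul_ne_zero h2 hQy))
    have hs : (2 : F) * s = 0 := by linear_combination e1' + e2'
    have ht : (2 : F) * t = 0 := by linear_combination e1' - e2'
    exact ⟨(mul_eq_zero.1 hs).resolve_left h2, (mul_eq_zero.1 ht).resolve_left h2⟩
  · intro x hxW hx1 hx2
    obtain ⟨s, t, rfl⟩ := hspan x hxW
    simp only [QuadraticMap.polar_add_left, QuadraticMap.polar_smul_left,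
      QuadraticMap.polar_add_right, QuadraticMap.polar_smul_right, haa, hay, hya, hyy,
      smul_eq_mul, mul_zero, add_zero, zero_add] at hx1 hx2
    have e1' : (2 : F) * (s * (2 * Q a)) = 0 := by linear_combination hx1 + hx2
    have e2' : (2 : F) * (t * (l * (2 * Q y))) = 0 := by linear_combination hx1 - hx2
    have e1 : s * (2 * Q a) = 0 := (mul_eq_zero.1 e1').resolve_left h2
    have e2 : t * (l * (2 * Q y)) = 0 := (mul_eq_zero.1 e2').resolve_left h2
    have hs : s = 0 := by
      rcases mul_eq_zero.1 e1 with h | h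
      · exact h
      · exact absurd h (mul_ne_zero h2 ha)
    have ht : t = 0 := by
      rcases mul_eq_zero.1 e2 with h | h
      · exact h
      · exact absurd h (mul_ne_zero hl0 (mul_ne_zero h2 hQy))
    rw [hs, ht]
    simp

end Cfsg.Agent.Lib.Helper5.ODecQuad
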