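import Mathlib
import Cfsg.Prelude

/-!
# S5677, package P-REFLIRR (helper5)

A nonzero subspace `S` of a nondegenerate subspace `W` that is invariant under all reflections of
`W` is `W` itself, provided the field has at least `5` elements.
-/

namespace Cfsg.Agent.Lib.Helper5.ODecRefl

open Module

variable {F : Type*} [Field F] {ι : Type} [Fintype ι] [DecidableEq ι]
variable {Q : QuadraticForm F (ι → F)}

/-- A quadratic with nonzero constant term has at most two roots. -/
theorem card_quad_roots_le [Fintype F] [DecidableEq F] (A B C : F) (hC : C ≠ 0) :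
    (Finset.univ.filter (fun t : F => A * t ^ 2 + B * t + C = 0)).card ≤ 2 := by
  classical
  set p : Polynomial F :=
    Polynomial.C A * Polynomial.X ^ 2 + Polynomial.C B * Polynomial.X + Polynomial.C C with hpdef
  have hp : p ≠ 0 := by
    intro h
    have h0 := congrArg (fun r => Polynomial.coeff r 0) h
    simp [hpdef] at h0
    exact hC h0
  have hdeg : p.natDegree ≤ 2 := Polynomial.natDegree_quadratic_le
  calc (Finset.univ.filter (fun t : F => A * t ^ 2 + B * t + C = 0)).card
      ≤ p.roots.toFinset.card := Finset.card_le_card (by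
          intro t ht
          simp only [Finset.mem_filter, Finset.mem_univ, true_and] at ht
          rw [Multiset.mem_toFinset, Polynomial.mem_roots hp]
          simp [hpdef, Polynomial.IsRoot, ht])
    _ ≤ Multiset.card p.roots := Multiset.toFinset_card_le _
    _ ≤ p.natDegree := Polynomial.card_roots' p
    _ ≤ 2 := hdeg

/-- **P-REFLIRR.**  A nonzero subspace `S` of a nondegenerate `W`, invariant under every
reflection `r_c`, `c ∈ W` nonsingular, is all of `W` (field with at least `5` elements). -/
theorem refl_irr [Fintype F] (hq : 5 ≤ Fintype.card F) (W S : Submodule F (ι → F))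
    (hSW : S ≤ W) (hS : S ≠ ⊥)
    (hW : Cfsg.Geo.IsNondegenerateOn (QuadraticMap.polar (⇑Q)) W)
    (hinv : ∀ c ∈ W, Q c ≠ 0 → ∀ s ∈ S, s - (QuadraticMap.polar (⇑Q) c s / Q c) • c ∈ S) :
    S = W := by
  classical
  have h1 : ∀ c ∈ W, Q c ≠ 0 → c ∈ S ∨ ∀ s ∈ S, QuadraticMap.polar (⇑Q) c s = 0 := by
    intro c hc hQc
    by_cases h : ∀ s ∈ S, QuadraticMap.polar (⇑Q) c s = 0
    · exact Or.inr h
    · left
      push_neg at h
      obtain ⟨s, hs, hcs⟩ := h
      have h2 := hinv c hc hQc s hs
      have h3 : (QuadraticMap.polar (⇑Q) c s / Q c) • c ∈ S := by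
        have := S.sub_mem hs h2
        simpa using this
      have hne : QuadraticMap.polar (⇑Q) c s / Q c ≠ 0 := div_ne_zero hcs hQc
      have := S.smul_mem (QuadraticMap.polar (⇑Q) c s / Q c)⁻¹ h3
      rwa [smul_smul, inv_mul_cancel₀ hne, one_smul] at this
  by_contra hne
  have hex : ∃ y1 ∈ W, y1 ∉ S := by
    by_contra h
    push_neg at h
    exact hne (le_antisymm hSW h)
  obtain ⟨y1, hy1W, hy1S⟩ := hex
  obtain ⟨s0, hs0, hs0ne⟩ := (Submodule.ne_bot_iff S).1 hS
  obtain ⟨⟨y2, hy2W, hy2⟩, -⟩ := hW s0 (hSW hs0) hs0ne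
  let T : (ι → F) → Prop := fun x => ∀ s ∈ S, QuadraticMap.polar (⇑Q) x s = 0
  have hy2T : ¬ T y2 := fun h => hy2 (h s0 hs0)
  obtain ⟨y, hyW, hyS, hyT⟩ : ∃ y ∈ W, y ∉ S ∧ ¬ T y := by
    by_cases hA : T y1
    · by_cases hB : y2 ∈ S
      · refine ⟨y1 + y2, W.add_mem hy1W hy2W, ?_, ?_⟩
        · intro h
          exact hy1S (by simpa using S.sub_mem h hB)
        · intro h
          apply hy2T
          intro s hs
          have := h s hs
          rw [QuadraticMap.polar_add_left, hA s hs, zero_add] at this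
          exact this
      · exact ⟨y2, hy2W, hB, hy2T⟩
    · exact ⟨y1, hy1W, hy1S, hA⟩
  obtain ⟨a0, ha0W, ha0⟩ : ∃ a0 ∈ W, Q a0 ≠ 0 := by
    by_contra h
    push_neg at h
    apply hy2
    have := h (y2 + s0) (W.add_mem hy2W (hSW hs0))
    unfold QuadraticMap.polar
    rw [this, h y2 hy2W, h s0 (hSW hs0)]
    ring
  set bad1 := Finset.univ.filter
    (fun t : F => Q y * t ^ 2 + QuadraticMap.polar (⇑Q) a0 y * t + Q a0 = 0) with hbad1
  set bad2 := Finset.univ.filter (fun t : F => a0 + t • y ∈ S) with hbad2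
  set bad3 := Finset.univ.filter (fun t : F => T (a0 + t • y)) with hbad3
  have hb1 : bad1.card ≤ 2 := card_quad_roots_le _ _ _ ha0
  have hb2 : bad2.card ≤ 1 := by
    rw [Finset.card_le_one]
    intro a ha b hb
    simp only [hbad2, Finset.mem_filter, Finset.mem_univ, true_and] at ha hb
    by_contra hab
    apply hyS
    have h2 : (a - b) • y ∈ S := by
      have := S.sub_mem ha hb
      convert this using 1
      rw [sub_smul]
      abel
    have := S.smul_mem (a - b)⁻¹ h2
    rwa [smul_smul, inv_mul_cancel₀ (sub_ne_zero.2 hab), one_smul] at this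
  have hb3 : bad3.card ≤ 1 := by
    rw [Finset.card_le_one]
    intro a ha b hb
    simp only [hbad3, Finset.mem_filter, Finset.mem_univ, true_and] at ha hb
    by_contra hab
    apply hyT
    intro s hs
    have e1 := ha s hs
    have e2 := hb s hs
    rw [QuadraticMap.polar_add_left, QuadraticMap.polar_smul_left] at e1 e2
    have e3 : (a - b) * QuadraticMap.polar (⇑Q) y s = 0 := by
      simp only [smul_eq_mul] at e1 e2
      linear_combination e1 - e2
    rcases mul_eq_zero.1 e3 with h | h
    · exact absurd (sub_eq_zero.1 h) hab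
    · exact h
  have hcov : (Finset.univ : Finset F) ⊆ bad1 ∪ bad2 ∪ bad3 := by
    intro t _
    by_contra ht
    simp only [Finset.mem_union, not_or] at ht
    obtain ⟨⟨ht1, ht2⟩, ht3⟩ := ht
    simp only [hbad1, hbad2, hbad3, Finset.mem_filter, Finset.mem_univ, true_and] at ht1 ht2 ht3
    have hQt : Q (a0 + t • y) ≠ 0 := by
      intro h
      apply ht1
      have e := QuadraticMap.map_add Q a0 (t • y)
      rw [QuadraticMap.map_smul, QuadraticMap.polar_smul_right] at e
      rw [← h, e]
      simp only [smul_eq_mul]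
      ring
    rcases h1 _ (W.add_mem ha0W (W.smul_mem t hyW)) hQt with h | h
    · exact ht2 h
    · exact ht3 h
  have hc := Finset.card_le_card hcov
  have h5 : (bad1 ∪ bad2 ∪ bad3).card ≤ 4 := by
    calc (bad1 ∪ bad2 ∪ bad3).card ≤ (bad1 ∪ bad2).card + bad3.card := Finset.card_union_le _ _
      _ ≤ bad1.card + bad2.card + bad3.card := by
          have := Finset.card_union_le bad1 bad2
          omega
      _ ≤ 4 := by omega
  rw [Finset.card_univ] at hc
  omega

end Cfsg.Agent.Lib.Helper5.ODecRefl
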