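import Mathlib
import Cfsg.Prelude
import Cfsg.Agent.Lib.Helper6.ODec1
import Cfsg.Agent.Lib.Helper5.ODecQuad

/-!
# S5677: two sub-lemmas of PK-KLC3 (helper5 for helper6's board)

* `klc3_pair`: a nondegenerate plane (`2 ≠ 0`, `q ≥ 5`) is spanned by two vectors of the same
  nonzero norm.
* `klc3_partner`: for a singular `w = a + b`, `a ∈ D j` nonsingular, `b ⊥ D j`, and any `α ≠ 0`
  there is a block `l ≠ j` and `c₁ ∈ D l` of norm `α` orthogonal to `b`.
-/

set_option autoImplicit false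

namespace Cfsg.Agent.Lib.Helper6.ODec

open Matrix Module Cfsg.Agent.H9Orth

variable {F : Type*} [Field F] {ι : Type} [Fintype ι] [DecidableEq ι]
variable {Q : QuadraticForm F (ι → F)} {t k : ℕ} {D : Fin t → Submodule F (ι → F)}
  {M : Subgroup (Matrix.GeneralLinearGroup ι F)}

/-- two independent vectors of a plane span it (elementary form) -/
theorem klc3_span_of_indep (W : Submodule F (ι → F)) (hdim : finrank F W = 2)
    {c c' : ι → F} (hc : c ∈ W) (hc' : c' ∈ W)
    (hind : ∀ s r : F, s • c + r • c' = 0 → s = 0 ∧ r = 0) :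
    ∀ x ∈ W, ∃ s r : F, x = s • c + r • c' := by
  classical
  have hli : LinearIndependent F ![(⟨c, hc⟩ : W), ⟨c', hc'⟩] := by
    rw [Fintype.linearIndependent_iff]
    intro g hg
    rw [Fin.sum_univ_two] at hg
    have h3 := congrArg (fun z : W => (z : ι → F)) hg
    simp only [Matrix.cons_val_zero, Matrix.cons_val_one, Submodule.coe_add,
      Submodule.coe_smul, Submodule.coe_zero] at h3
    obtain ⟨e1, e2⟩ := hind _ _ h3
    intro i
    fin_cases i
    · exact e1
    · exact e2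
  have hsp : ⊤ ≤ Submodule.span F (Set.range ![(⟨c, hc⟩ : W), ⟨c', hc'⟩]) := by
    rw [hli.span_eq_top_of_card_eq_finrank' (by simp [hdim])]
  intro x hx
  have hx' : (⟨x, hx⟩ : W) ∈ Submodule.span F (Set.range ![(⟨c, hc⟩ : W), ⟨c', hc'⟩]) :=
    hsp Submodule.mem_top
  rw [Matrix.range_cons, Matrix.range_cons, Matrix.range_empty, Set.union_empty,
    Set.singleton_union, Submodule.mem_span_pair] at hx'
  obtain ⟨s, r, hsr⟩ := hx'
  refine ⟨s, r, ?_⟩
  have h3 := congrArg (fun z : W => (z : ι → F)) hsr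
  simpa using h3.symm

/-- **klc3_pair.** -/
theorem klc3_pair [Fintype F] (h2 : (2 : F) ≠ 0) (hq : 5 ≤ Fintype.card F)
    (W : Submodule F (ι → F))
    (hW : Cfsg.Geo.IsNondegenerateOn (QuadraticMap.polar (⇑Q)) W) (hdim : finrank F W = 2) :
    ∃ c ∈ W, ∃ c' ∈ W, Q c ≠ 0 ∧ Q c' = Q c ∧ ∀ x ∈ W, ∃ s r : F, x = s • c + r • c' := by
  obtain ⟨c, hc, c', hc', heq, hne, hind, -⟩ :=
    Cfsg.Agent.Lib.Helper5.ODecQuad.exists_pair_same_norm h2 hq W hW hdim
  exact ⟨c, hc, c', hc', hne, heq.symm, klc3_span_of_indep W hdim hc hc' hind⟩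

/-- **klc3_partner.** -/
theorem klc3_partner [Fintype F] (hQ : (QuadraticMap.polarBilin Q).Nondegenerate)
    (c : Ctx Q k D M) {j : Fin t} {a b : ι → F} (ha : a ∈ D j) (hb : b ∈ perpS Q (D j))
    (hQa : Q a ≠ 0) (hQw : Q (a + b) = 0) (α : F) (hα : α ≠ 0) :
    ∃ l, l ≠ j ∧ ∃ c₁ ∈ D l, Q c₁ = α ∧ QuadraticMap.polar (⇑Q) c₁ b = 0 := by
  classical
  have hab : QuadraticMap.polar (⇑Q) a b = 0 := (mem_perpS (D j) b).1 hb a ha
  have hQb : Q b = - Q a := by
    have e := QuadraticMap.map_add Q a b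
    rw [hQw, hab] at e
    linear_combination -e
  obtain ⟨x, hx, hbsum⟩ := c.exists_comp b
  -- the `j`-component of `b` vanishes
  have hxj : x j = 0 := by
    apply c.eq_zero_of_mem_of_perp hQ (hx j)
    rw [mem_perpS]
    intro w hw
    rw [← c.polar_comp hx hw, ← hbsum]
    exact (mem_perpS (D j) b).1 hb w hw
  -- some other component is nonsingular
  obtain ⟨l, hlj, hQl⟩ : ∃ l, l ≠ j ∧ Q (x l) ≠ 0 := by
    by_contra hcon
    push Not at hcon
    apply hQa
    have h0 : ∀ l, Q (x l) = 0 := by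
      intro l
      by_cases hl : l = j
      · rw [hl, hxj]; exact QuadraticMap.map_zero Q
      · exact hcon l hl
    have e := c.Q_sum hx
    rw [← hbsum, hQb] at e
    rw [Finset.sum_eq_zero (fun l _ => h0 l)] at e
    exact neg_eq_zero.1 e
  have hnd := c.Wsub_nondeg (hx l) hQl
  have hfr := c.Wsub_finrank (hx l) hQl
  have hk := c.hk
  obtain ⟨c₁, hc₁, hQc₁⟩ := Cfsg.Agent.Lib.Helper5.ODecQuad.exists_mem_represents
    (Wsub Q D l (x l)) hnd (by omega) α
  rw [mem_Wsub] at hc₁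
  refine ⟨l, hlj, c₁, hc₁.1, hQc₁, ?_⟩
  rw [hbsum, c.polar_comp hx hc₁.1, QuadraticMap.polar_comm]
  exact hc₁.2

end Cfsg.Agent.Lib.Helper6.ODec
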