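import Mathlib
import Cfsg.Prelude.Def_Classical
import Cfsg.Prelude.Def_GeometricClasses
import Cfsg.Agent.Lib.Helper2.OrthNdM
import Cfsg.Agent.Lib.Helper5.OPar0

set_option autoImplicit false

/-!
Core lemmas for the parabolic rows S5989 / S5991 on top of helper2's `OrthNd` library:
isometry classes through `dchS`, dictionary with the Prelude predicates, block structure,
the fixed subspace in a prescribed isometry class.
-/

namespace Cfsg.Agent.Lib.Helper5.OPar

open Module QuadraticMap Polynomial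
open Cfsg.Agent.Lib.Helper2.MaxTS2
open Cfsg.Agent.Lib.Helper2.OrthEl
open Cfsg.Agent.Lib.Helper2.OrthNd
open Cfsg.Agent.H9SemiInv
open Cfsg.Agent.Lib.Helper9.H9Elus

section iso
variable {F : Type*} [Field F] [Fintype F] [DecidableEq F]
variable {V : Type*} [AddCommGroup V] [Module F V] [FiniteDimensional F V]
variable {Q : QuadraticForm F V}

/-- classification: equal dimension and equal discriminant character give an isometry -/
theorem isom_of_dchS (h2 : (2 : F) ≠ 0) {W W' : Submodule F V} (hW : NDeg Q W) (hW' : NDeg Q W')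
    (hdim : finrank F W = finrank F W') (hd : dchS Q W = dchS Q W') : Isom Q W W' := by
  obtain ⟨e, he⟩ := exists_isometry h2 hW.restrict hW'.restrict hdim hd
  exact ⟨e, fun w => he w⟩

theorem Isom.finrank_eq {W W' : Submodule F V} (h : Isom Q W W') : finrank F W = finrank F W' := by
  obtain ⟨e, -⟩ := h
  exact LinearEquiv.finrank_eq e

end iso

section dict
variable {F : Type*} [Field F] {ι : Type} [Fintype ι] [DecidableEq ι]

theorem ndegOn_iff (Q : QuadraticForm F (ι → F)) (W : Submodule F (ι → F)) :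
    Cfsg.Geo.IsNondegenerateOn (QuadraticMap.polar ⇑Q) W ↔ NDeg Q W := by
  unfold Cfsg.Geo.IsNondegenerateOn NDeg
  rw [Submodule.disjoint_def]
  constructor
  · intro h w hw hwp
    by_contra hw0
    obtain ⟨⟨x, hx, hxw⟩, -⟩ := h w hw hw0
    exact hxw ((mem_perp_iff W w).1 hwp x hx)
  · intro h w hw hw0
    have hnot : w ∉ perp Q W := fun hwp => hw0 (h w hw hwp)
    rw [mem_perp_iff] at hnot
    push_neg at hnot
    obtain ⟨x, hx, hxw⟩ := hnot
    exact ⟨⟨x, hx, hxw⟩, ⟨x, hx, by rw [polar_comm]; exact hxw⟩⟩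

theorem areIso_iff (Q : QuadraticForm F (ι → F)) (W W' : Submodule F (ι → F)) :
    Cfsg.Geo.AreIsometricFor ⇑Q W W' ↔ Isom Q W W' := Iff.rfl

end dict

section ss
variable {F : Type*} [Field F] [Fintype F] {p : ℕ} [Fact p.Prime] [CharP F p]
variable {V : Type*} [AddCommGroup V] [Module F V] [FiniteDimensional F V]
variable {Q : QuadraticForm F V} {y : V →ₗ[F] V}

theorem blockDim_dvd (hodd : Odd (Fintype.card F)) (hQ : (polarBilin Q).Nondegenerate)
    (hiso : ∀ v, Q (y v) = Q v) (r : ℕ) [Fact r.Prime] (hrp : r ≠ p) (hr2 : r ≠ 2)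
    (hy : y ^ r = 1) (M : Submodule F V) (hM : M ≤ cycS y r) (hMn : NDeg Q M) (hMi : Inv y M) :
    blockDim (orderOf ((Fintype.card F : ℕ) : ZMod r)) ∣ finrank F M :=
  cc_dvd_finrank hodd hQ hiso r hrp hr2 hy _ _ rfl rfl M hM hMi hMn

theorem exists_blocks (hodd : Odd (Fintype.card F)) (hQ : (polarBilin Q).Nondegenerate)
    (hiso : ∀ v, Q (y v) = Q v) (r : ℕ) [Fact r.Prime] (hrp : r ≠ p) (hr2 : r ≠ 2)
    (hy : y ^ r = 1) (k : ℕ)
    (hk : blockDim (orderOf ((Fintype.card F : ℕ) : ZMod r)) * k ≤ finrank F (cycS y r)) :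
    ∃ M : Submodule F V, M ≤ cycS y r ∧ NDeg Q M ∧ Inv y M ∧
      finrank F M = blockDim (orderOf ((Fintype.card F : ℕ) : ZMod r)) * k := by
  set c := blockDim (orderOf ((Fintype.card F : ℕ) : ZMod r)) with hc
  have hcyc := ndeg_cycS hQ hiso r hrp hy
  have hinv : Inv y (cycS y r) := inv_ker_aeval y _
  obtain ⟨J, hJ⟩ : c ∣ finrank F (cycS y r) :=
    blockDim_dvd hodd hQ hiso r hrp hr2 hy (cycS y r) le_rfl hcyc hinv
  have hcpos : 0 < c := blockDim_pos (order_pos r hrp)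
  have hkJ : k ≤ J := by
    rw [hJ] at hk
    exact Nat.le_of_mul_le_mul_left hk hcpos
  obtain ⟨M, hM, hMi, hMn, hMd⟩ := exists_inv_ndeg_chain hodd hQ hiso r hrp hr2 hy _ c rfl rfl
    (cycS y r) le_rfl hinv hcyc (J - k) (by
      rw [hJ]
      exact Nat.mul_le_mul_left c (Nat.sub_le J k))
  refine ⟨M, hM, hMn, hMi, ?_⟩
  rw [hJ] at hMd
  have h1 : c * (J - k) + c * k = c * J := by
    rw [← Nat.mul_add, Nat.sub_add_cancel hkJ]
  omega

theorem finrank_inv_ndeg (hodd : Odd (Fintype.card F)) (hQ : (polarBilin Q).Nondegenerate)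
    (hiso : ∀ v, Q (y v) = Q v)
    (r : ℕ) [Fact r.Prime] (hrp : r ≠ p) (hr2 : r ≠ 2) (hy : y ^ r = 1)
    (W : Submodule F V) (hW : Inv y W) (hWn : NDeg Q W) :
    ∃ k s, finrank F W = blockDim (orderOf ((Fintype.card F : ℕ) : ZMod r)) * k + s ∧
      s ≤ finrank F (fixS y) ∧
      blockDim (orderOf ((Fintype.card F : ℕ) : ZMod r)) * k ≤ finrank F (cycS y r) := by
  classical
  obtain ⟨h1, h2, h3⟩ := ndeg_split hiso r hrp hy W hW hWn
  obtain ⟨k, hk⟩ := blockDim_dvd hodd hQ hiso r hrp hr2 hy (W ⊓ cycS y r) inf_le_right h2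
    (hW.inf (inv_ker_aeval y _))
  refine ⟨k, finrank F ↥(W ⊓ fixS y), by rw [h3, hk]; ring, Submodule.finrank_mono inf_le_right, ?_⟩
  rw [← hk]
  exact Submodule.finrank_mono inf_le_right

/-- the fixed subspace in the isometry class of `W₀` -/
theorem exists_fixed_parabolic (hodd : Odd (Fintype.card F)) (hQ : (polarBilin Q).Nondegenerate)
    (hiso : ∀ v, Q (y v) = Q v) (r : ℕ) [Fact r.Prime] (hrp : r ≠ p) (hr2 : r ≠ 2)
    (hy : y ^ r = 1)
    (W₀ : Submodule F V) (hW₀ : NDeg Q W₀) (k : ℕ)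
    (hk1 : blockDim (orderOf ((Fintype.card F : ℕ) : ZMod r)) * k ≤ finrank F (cycS y r))
    (hk2 : blockDim (orderOf ((Fintype.card F : ℕ) : ZMod r)) * k < finrank F W₀)
    (hk3 : finrank F W₀ - blockDim (orderOf ((Fintype.card F : ℕ) : ZMod r)) * k <
      finrank F (fixS y)) :
    ∃ W : Submodule F V, Inv y W ∧ NDeg Q W ∧ Isom Q W W₀ := by
  classical
  have h2 : (2 : F) ≠ 0 := two_ne_zero_of_odd_card hodd
  set c := blockDim (orderOf ((Fintype.card F : ℕ) : ZMod r)) with hc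
  obtain ⟨M, hM, hMn, hMi, hMd⟩ := exists_blocks hodd hQ hiso r hrp hr2 hy k hk1
  have hfix := ndeg_fixS hQ hiso r hrp hy
  -- the wanted discriminant character of the fixed part
  have hs : dchS Q W₀ * dchS Q M = 1 ∨ dchS Q W₀ * dchS Q M = -1 := by
    rcases dchS_dichotomy hW₀ with h | h <;> rcases dchS_dichotomy hMn with h' | h' <;>
      rw [h, h'] <;> simp
  obtain ⟨C, hC, hCn, hCd, hCs⟩ := exists_ndeg_sub h2 hfix (finrank F W₀ - c * k) (by omega) hk3
    (dchS Q W₀ * dchS Q M) hs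
  have horth : C ≤ perp Q M := by
    intro u hu
    rw [mem_perp_iff]
    intro w hw
    rw [polar_comm]
    exact polar_fix_cyc hiso (Fact.out : r.Prime) (cast_ne_zero_of_ne r hrp) (hC hu) (hM hw)
  obtain ⟨hWn, hWd, hWs⟩ := dchS_sup h2 hCn hMn horth
  refine ⟨C ⊔ M, (inv_of_le_fix hC).sup hMi, hWn, ?_⟩
  apply isom_of_dchS h2 hWn hW₀
  · rw [hWd, hCd, hMd]
    exact Nat.sub_add_cancel (le_of_lt hk2)
  · rw [hWs, hCs, mul_assoc]
    rcases dchS_dichotomy hMn with h' | h' <;> rw [h'] <;> simp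

end ss

section cnt
variable {F : Type*} [Field F] [Fintype F] {p : ℕ} [Fact p.Prime] [CharP F p]
variable {V : Type*} [AddCommGroup V] [Module F V] [FiniteDimensional F V]
variable {Q : QuadraticForm F V} {y : V →ₗ[F] V}

theorem cnt_cycS_top (r : ℕ) [Fact r.Prime] (hrp : r ≠ p) (hy : y ^ r = 1) (hfix : fixS y = ⊥) :
    cycS y r = ⊤ := by
  have h := isCompl_ker r hrp y hy
  have h1 : fixS y ⊔ cycS y r = ⊤ := h.sup_eq_top
  rw [hfix, bot_sup_eq] at h1
  exact h1

theorem cnt_plusS_top_iff : PlusS Q (⊤ : Submodule F V) ↔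
    ∃ U : Submodule F V, IsTS Q U ∧ 2 * finrank F U = finrank F V := by
  unfold PlusS
  constructor
  · rintro ⟨U, -, hU, hd⟩
    exact ⟨U, hU, by rw [hd, finrank_top]⟩
  · rintro ⟨U, hU, hd⟩
    exact ⟨U, le_top, hU, by rw [hd, finrank_top]⟩

/-- `i` odd: the space is of plus type -/
theorem plus_of_odd (hodd : Odd (Fintype.card F)) (hQ : (polarBilin Q).Nondegenerate)
    (hiso : ∀ v, Q (y v) = Q v) (r : ℕ) [Fact r.Prime] (hrp : r ≠ p) (hr2 : r ≠ 2)
    (hy : y ^ r = 1) (hfix : fixS y = ⊥) (hi : Odd (orderOf ((Fintype.card F : ℕ) : ZMod r))) :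
    ∃ U : Submodule F V, IsTS Q U ∧ 2 * finrank F U = finrank F V := by
  classical
  rw [← cnt_plusS_top_iff]
  exact plusS_of_odd hodd hQ hiso r hrp hr2 hy hi ⊤ (by rw [cnt_cycS_top r hrp hy hfix])
    (fun _ _ => Submodule.mem_top) (ndeg_top hQ)

/-- `i` even, plus type: the number of blocks is even -/
theorem even_of_plus (hodd : Odd (Fintype.card F)) (hQ : (polarBilin Q).Nondegenerate)
    (hiso : ∀ v, Q (y v) = Q v) (r : ℕ) [Fact r.Prime] (hrp : r ≠ p) (hr2 : r ≠ 2)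
    (hy : y ^ r = 1) (hfix : fixS y = ⊥) (hi : Even (orderOf ((Fintype.card F : ℕ) : ZMod r)))
    (J : ℕ) (hdim : finrank F V = orderOf ((Fintype.card F : ℕ) : ZMod r) * J)
    (hplus : ∃ U : Submodule F V, IsTS Q U ∧ 2 * finrank F U = finrank F V) : Even J := by
  classical
  rcases Nat.eq_zero_or_pos J with h0 | hJ
  · rw [h0]; exact Even.zero
  obtain ⟨h, hh⟩ := hi
  rw [← two_mul] at hh
  rw [← cnt_plusS_top_iff] at hplus
  exact (plusS_iff_even hodd hiso r hrp hr2 hy h hh ⊤ (by rw [cnt_cycS_top r hrp hy hfix])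
    (fun _ _ => Submodule.mem_top) (ndeg_top hQ) J hJ (by rw [finrank_top, hdim, hh])).1 hplus

/-- `i` even, not plus type: the number of blocks is odd -/
theorem odd_of_minus (hodd : Odd (Fintype.card F)) (hQ : (polarBilin Q).Nondegenerate)
    (hiso : ∀ v, Q (y v) = Q v) (r : ℕ) [Fact r.Prime] (hrp : r ≠ p) (hr2 : r ≠ 2)
    (hy : y ^ r = 1) (hfix : fixS y = ⊥) (hi : Even (orderOf ((Fintype.card F : ℕ) : ZMod r)))
    (J : ℕ) (hdim : finrank F V = orderOf ((Fintype.card F : ℕ) : ZMod r) * J)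
    (hminus : ¬ ∃ U : Submodule F V, IsTS Q U ∧ 2 * finrank F U = finrank F V) : Odd J := by
  classical
  rcases Nat.eq_zero_or_pos J with h0 | hJ
  · exfalso
    apply hminus
    refine ⟨⊥, fun w hw => by rw [(Submodule.mem_bot F).1 hw, map_zero], ?_⟩
    rw [hdim, h0, finrank_bot, mul_zero, mul_zero]
  obtain ⟨h, hh⟩ := hi
  rw [← two_mul] at hh
  rw [← cnt_plusS_top_iff] at hminus
  rw [← Nat.not_even_iff_odd]
  intro hev
  exact hminus ((plusS_iff_even hodd hiso r hrp hr2 hy h hh ⊤ (by rw [cnt_cycS_top r hrp hy hfix])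
    (fun _ _ => Submodule.mem_top) (ndeg_top hQ) J hJ (by rw [finrank_top, hdim, hh])).2 hev)

end cnt

section inv
variable {F : Type*} [Field F] [Fintype F]
variable {V : Type*} [AddCommGroup V] [Module F V] [FiniteDimensional F V]
variable {Q : QuadraticForm F V} {y : V →ₗ[F] V}

/-- an involution fixes a subspace in the class of `W₀` when `2 dim W₀ < dim V` -/
theorem exists_fixed_invol (h2 : (2 : F) ≠ 0) (hQ : (polarBilin Q).Nondegenerate)
    (hiso : ∀ v, Q (y v) = Q v) (hy : y ^ 2 = 1) (W₀ : Submodule F V) (hW₀ : NDeg Q W₀)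
    (hdim : 2 * finrank F W₀ < finrank F V) :
    ∃ W : Submodule F V, Inv y W ∧ NDeg Q W ∧ Isom Q W W₀ := by
  classical
  by_cases h0 : finrank F W₀ = 0
  · have hbot : W₀ = ⊥ := Submodule.finrank_eq_zero.1 h0
    refine ⟨⊥, inv_bot, ndeg_bot, ?_⟩
    rw [hbot]
    exact ⟨LinearEquiv.refl F _, fun _ => rfl⟩
  have hsum := Submodule.finrank_add_eq_of_isCompl (isCompl_fix_neg h2 hy)
  have hbig : finrank F W₀ < finrank F (fixS y) ∨ finrank F W₀ < finrank F (negS y) := by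
    by_contra hcon
    push_neg at hcon
    omega
  rcases hbig with hb | hb
  · obtain ⟨W, hW, hWn, hWd, hWs⟩ := exists_ndeg_sub h2 (ndeg_fixS_inv h2 hQ hiso hy)
      (finrank F W₀) (Nat.pos_of_ne_zero h0) hb (dchS Q W₀) (dchS_dichotomy hW₀)
    exact ⟨W, inv_of_le_fix hW, hWn, isom_of_dchS h2 hWn hW₀ hWd hWs⟩
  · obtain ⟨W, hW, hWn, hWd, hWs⟩ := exists_ndeg_sub h2 (ndeg_negS h2 hQ hiso hy)
      (finrank F W₀) (Nat.pos_of_ne_zero h0) hb (dchS Q W₀) (dchS_dichotomy hW₀)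
    exact ⟨W, inv_of_le_neg hW, hWn, isom_of_dchS h2 hWn hW₀ hWd hWs⟩

end inv

end Cfsg.Agent.Lib.Helper5.OPar
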