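import Mathlib
import Cfsg.Prelude.Def_Classical
import Cfsg.Prelude.Def_GeometricClasses
import Cfsg.Agent.Lib.Helper2.OrthElF
import Cfsg.Agent.Lib.Helper5.OPar0

set_option autoImplicit false

/-!
Normalisation `x ↦ ± x` for an isometry whose odd power is scalar, and the case `x ^ 2` scalar.
-/

namespace Cfsg.Agent.Lib.Helper5.OPar

open Module QuadraticMap Polynomial
open Cfsg.Agent.Lib.Helper2.MaxTS2
open Cfsg.Agent.Lib.Helper2.OrthEl
open Cfsg.Agent.H9SemiInv

section norm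
variable {F : Type*} [Field F] {ι : Type} [Fintype ι] [DecidableEq ι]

/-- a nondegenerate quadratic form on a nonzero space takes a nonzero value (char ≠ 2) -/
theorem asm_exists_ne_zero (h2 : (2 : F) ≠ 0) {V : Type*} [AddCommGroup V] [Module F V]
    (Q : QuadraticForm F V) (hQ : (polarBilin Q).Nondegenerate) [Nontrivial V] :
    ∃ v : V, Q v ≠ 0 := by
  by_contra hcon
  push_neg at hcon
  obtain ⟨u, hu⟩ := exists_ne (0 : V)
  apply hu
  apply hQ.1 u
  intro w
  show polar (⇑Q) u w = 0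
  unfold polar
  rw [hcon, hcon, hcon]
  ring

/-- the scalar `z` with `x ^ r = z` satisfies `z ^ 2 = 1` -/
theorem asm_sq_eq_one (h2 : (2 : F) ≠ 0) (Q : QuadraticForm F (ι → F))
    (hQ : (polarBilin Q).Nondegenerate) [Nonempty ι] (x : GL ι F)
    (hx : x ∈ Cfsg.isometryGroup F ⇑Q) (r : ℕ) (z : F)
    (hxr : ((x ^ r : GL ι F) : Matrix ι ι F) = z • (1 : Matrix ι ι F)) : z * z = 1 := by
  obtain ⟨v, hv⟩ := asm_exists_ne_zero h2 Q hQ
  have hxr' : x ^ r ∈ Cfsg.isometryGroup F ⇑Q := Subgroup.pow_mem _ hx r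
  have h1 := iso_apply hxr' v
  rw [hxr, Matrix.toLin'_apply, Matrix.smul_mulVec, Matrix.one_mulVec, QuadraticMap.map_smul,
    smul_eq_mul] at h1
  have h3 : (z * z - 1) * Q v = 0 := by
    rw [sub_mul, one_mul, h1, sub_self]
  rcases mul_eq_zero.1 h3 with h | h
  · exact sub_eq_zero.1 h
  · exact absurd h hv

theorem asm_normalize (h2 : (2 : F) ≠ 0) (Q : QuadraticForm F (ι → F))
    (hQ : (polarBilin Q).Nondegenerate) [Nonempty ι] (x : GL ι F)
    (hx : x ∈ Cfsg.isometryGroup F ⇑Q) (r : ℕ) (hr : Odd r)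
    (hxr : ∃ z : F, ((x ^ r : GL ι F) : Matrix ι ι F) = z • (1 : Matrix ι ι F))
    (hns : ∀ z : F, (x : Matrix ι ι F) ≠ z • (1 : Matrix ι ι F)) :
    ∃ y : (ι → F) →ₗ[F] (ι → F), (∀ v, Q (y v) = Q v) ∧ y ^ r = 1 ∧ y ≠ 1 ∧
      ∀ W : Submodule F (ι → F), Inv y W ↔ W.map (Matrix.toLin' (x : Matrix ι ι F)) ≤ W := by
  obtain ⟨z, hz⟩ := hxr
  have hzz := asm_sq_eq_one h2 Q hQ x hx r z hz
  have hz0 : z ≠ 0 := by
    rintro rfl
    simp at hzz
  set T := Matrix.toLin' (x : Matrix ι ι F) with hT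
  have hTr : T ^ r = z • (1 : (ι → F) →ₗ[F] (ι → F)) := by
    rw [hT, ← Matrix.toLin'_pow, ← Units.val_pow_eq_pow_val, hz, map_smul, Matrix.toLin'_one]
    rfl
  refine ⟨z • T, ?_, ?_, ?_, ?_⟩
  · intro v
    rw [LinearMap.smul_apply, QuadraticMap.map_smul, smul_eq_mul, hzz, one_mul]
    exact iso_apply hx v
  · rw [_root_.smul_pow, hTr, smul_smul]
    obtain ⟨k, hk⟩ := hr
    have : z ^ r * z = 1 := by
      rw [hk, pow_succ, pow_mul, pow_two, hzz, one_pow, one_mul, hzz]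
    rw [this, one_smul]
  · intro h
    apply hns z
    have h3 : T = z • (1 : (ι → F) →ₗ[F] (ι → F)) := by
      have : z • (z • T) = z • (1 : (ι → F) →ₗ[F] (ι → F)) := by rw [h]
      rwa [smul_smul, hzz, one_smul] at this
    have h4 : Matrix.toLin' (x : Matrix ι ι F) = Matrix.toLin' (z • (1 : Matrix ι ι F)) := by
      rw [map_smul, Matrix.toLin'_one]
      exact h3
    exact Matrix.toLin'.injective h4
  · intro W
    rw [← inv_iff]
    constructor
    · intro h w hw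
      have := h w hw
      rw [LinearMap.smul_apply] at this
      have h5 := W.smul_mem z this
      rwa [smul_smul, hzz, one_smul] at h5
    · intro h w hw
      rw [LinearMap.smul_apply]
      exact W.smul_mem z (h w hw)

/-- `x ^ 2` scalar: either `x ^ 2 = 1` or `x ^ 2 = -1` -/
theorem asm_sq_cases (h2 : (2 : F) ≠ 0) (Q : QuadraticForm F (ι → F))
    (hQ : (polarBilin Q).Nondegenerate) [Nonempty ι] (x : GL ι F)
    (hx : x ∈ Cfsg.isometryGroup F ⇑Q)
    (hxr : ∃ z : F, ((x ^ 2 : GL ι F) : Matrix ι ι F) = z • (1 : Matrix ι ι F)) :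
    (x : Matrix ι ι F) * (x : Matrix ι ι F) = 1 ∨ (x : Matrix ι ι F) * (x : Matrix ι ι F) = -1 := by
  obtain ⟨z, hz⟩ := hxr
  have hzz := asm_sq_eq_one h2 Q hQ x hx 2 z hz
  rw [Units.val_pow_eq_pow_val, pow_two] at hz
  have h3 : (z - 1) * (z + 1) = 0 := by ring_nf; rw [← hzz]; ring
  rcases mul_eq_zero.1 h3 with h | h
  · left
    rw [hz, sub_eq_zero.1 h, one_smul]
  · right
    rw [hz, eq_neg_of_add_eq_zero_left h, neg_smul, one_smul]

end norm

end Cfsg.Agent.Lib.Helper5.OPar
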