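import Mathlib
import Cfsg.Prelude.Def_Classical
import Cfsg.Prelude.Def_GeometricClasses
import Cfsg.Agent.Lib.Helper5.OPar_A

set_option autoImplicit false

/-!
Assembly lemmas for the parabolic rows S5989 / S5991 (semisimple part): the fixed subspace and the
derangement criterion in arithmetic form, and the normalisation `x ↦ ± x`.
-/

namespace Cfsg.Agent.Lib.Helper5.OPar

open Module QuadraticMap Polynomial
open Cfsg.Agent.Lib.Helper2.MaxTS2
open Cfsg.Agent.Lib.Helper2.OrthEl
open Cfsg.Agent.H9SemiInv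
open Cfsg.Agent.Lib.Helper9.H9Elus

section ss
variable {F : Type*} [Field F] [Fintype F] {p : ℕ} [Fact p.Prime] [CharP F p]
variable {V : Type*} [AddCommGroup V] [Module F V] [FiniteDimensional F V]
variable {Q : QuadraticForm F V} {y : V →ₗ[F] V}

theorem asm_finrank_fix_add_cyc (r : ℕ) [Fact r.Prime] (hrp : r ≠ p) (hy : y ^ r = 1) :
    finrank F (fixS y) + finrank F (cycS y r) = finrank F V :=
  Submodule.finrank_add_eq_of_isCompl (isCompl_ker r hrp y hy)

/-- the fixed subspace, arithmetic form -/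
theorem ss_fix_abstract (hodd : Odd (Fintype.card F)) (hQ : (polarBilin Q).Nondegenerate)
    (hiso : ∀ v, Q (y v) = Q v) (r : ℕ) [Fact r.Prime] (hrp : r ≠ p) (hr2 : r ≠ 2)
    (hy : y ^ r = 1) (n m : ℕ) (hn : finrank F V = n) (W₀ : Submodule F V) (hW₀ : NDeg Q W₀)
    (hm : finrank F W₀ = m) (hmodd : Odd m) (hmn : m < n)
    (H : (blockDim (orderOf ((Fintype.card F : ℕ) : ZMod r)) ≤ m ∧
          m % blockDim (orderOf ((Fintype.card F : ℕ) : ZMod r)) <
            n % blockDim (orderOf ((Fintype.card F : ℕ) : ZMod r))) ∨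
         (n % blockDim (orderOf ((Fintype.card F : ℕ) : ZMod r)) = 0 ∧
          finrank F (fixS y) ≠ 0)) :
    ∃ W : Submodule F V, Inv y W ∧ NDeg Q W ∧ Isom Q W W₀ := by
  have h2 : (2 : F) ≠ 0 := two_ne_zero_of_odd_card hodd
  set c := blockDim (orderOf ((Fintype.card F : ℕ) : ZMod r)) with hc
  have hcpos : 0 < c := blockDim_pos (order_pos r hrp)
  have hceven : Even c := blockDim_even _
  obtain ⟨j, hj⟩ : c ∣ finrank F (cycS y r) :=
    blockDim_dvd hodd hQ hiso r hrp hr2 hy (cycS y r) le_rfl (ndeg_cycS hQ hiso r hrp hy)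
      (inv_ker_aeval y _)
  have hsum := asm_finrank_fix_add_cyc (F := F) (y := y) r hrp hy
  rw [hn] at hsum
  have hjn : c * j ≤ n := by omega
  have hjdiv : j ≤ n / c := (Nat.le_div_iff_mul_le hcpos).2 (by rw [mul_comm]; exact hjn)
  have hjn' : c * j ≤ c * (n / c) := Nat.mul_le_mul_left c hjdiv
  have hmdm := Nat.div_add_mod m c
  have hndm := Nat.div_add_mod n c
  have hmlt := Nat.mod_lt m hcpos
  have hnlt := Nat.mod_lt n hcpos
  -- parity
  obtain ⟨c', hc'⟩ := hceven
  obtain ⟨m', hm'⟩ := hmodd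
  have key : ∀ k : ℕ, c * k ≤ finrank F (cycS y r) → c * k < finrank F W₀ →
      finrank F W₀ - c * k < finrank F (fixS y) →
      ∃ W : Submodule F V, Inv y W ∧ NDeg Q W ∧ Isom Q W W₀ :=
    fun k a1 a2 a3 => exists_fixed_parabolic hodd hQ hiso r hrp hr2 hy W₀ hW₀ k a1 a2 a3
  by_cases hcase : j ≤ m / c
  · -- k = j
    have hjm : c * j ≤ c * (m / c) := Nat.mul_le_mul_left c hcase
    have hne : c * j ≠ m := by
      intro h
      rw [hc', ← two_mul, mul_assoc] at h
      omega
    refine key j (by omega) (by omega) ?_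
    rw [hm]
    omega
  · -- k = m / c < j
    push_neg at hcase
    have hcase' : m / c + 1 ≤ j := hcase
    have h1 : c * (m / c) + c ≤ c * j := by
      calc c * (m / c) + c = c * (m / c + 1) := by ring
        _ ≤ c * j := Nat.mul_le_mul_left c hcase'
    have hne : c * (m / c) ≠ m := by
      intro h
      rw [hc', ← two_mul, mul_assoc] at h
      omega
    refine key (m / c) (by omega) (by omega) ?_
    rw [hm]
    rcases H with ⟨H1, H2⟩ | ⟨H1, H2⟩
    · omega
    · -- n % c = 0 and fixS ≠ 0: n - c j ≥ c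
      have h3 : c * j < n := by omega
      have h4 : c * j < c * (n / c) := by omega
      have h5 : j < n / c := lt_of_mul_lt_mul_left h4 (Nat.zero_le c)
      have h6 : c * j + c ≤ c * (n / c) := by
        calc c * j + c = c * (j + 1) := by ring
          _ ≤ c * (n / c) := Nat.mul_le_mul_left c h5
      omega

/-- the derangement criterion, arithmetic form -/
theorem ss_bad_abstract (hodd : Odd (Fintype.card F)) (hQ : (polarBilin Q).Nondegenerate)
    (hiso : ∀ v, Q (y v) = Q v) (r : ℕ) [Fact r.Prime] (hrp : r ≠ p) (hr2 : r ≠ 2)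
    (hy : y ^ r = 1) (m e₀ : ℕ) (he : finrank F (fixS y) = e₀)
    (hbad : e₀ < m % blockDim (orderOf ((Fintype.card F : ℕ) : ZMod r)))
    (W : Submodule F V) (hW : Inv y W) (hWn : NDeg Q W) (hWm : finrank F W = m) : False := by
  set c := blockDim (orderOf ((Fintype.card F : ℕ) : ZMod r)) with hc
  obtain ⟨k, s, h1, h2, -⟩ := finrank_inv_ndeg hodd hQ hiso r hrp hr2 hy W hW hWn
  rw [hWm] at h1
  have h3 : m % c = s % c := by rw [h1, Nat.mul_add_mod]
  have h4 : s % c ≤ s := Nat.mod_le _ _
  omega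

end ss

end Cfsg.Agent.Lib.Helper5.OPar
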