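import Mathlib
import Cfsg.Prelude.Def_Classical
import Cfsg.Prelude.Def_GeometricClasses
import Cfsg.Agent.Lib.Helper2.OrthNdQ
import Cfsg.Agent.Lib.Helper5.OPar_A

set_option autoImplicit false

/-!
PK-IDX (replacement): the prime `r` does not divide the number of nondegenerate `m`-spaces of one
isometry class when a semisimple element of order `r` has a small fixed space.
-/

namespace Cfsg.Agent.Lib.Helper5.OPar

open Module QuadraticMap Polynomial
open Cfsg.Agent.Lib.Helper2.MaxTS2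
open Cfsg.Agent.Lib.Helper2.OrthEl
open Cfsg.Agent.Lib.Helper2.OrthNd
open Cfsg.Agent.H9SemiInv
open Cfsg.Agent.Lib.Helper9.H9Elus

section idx
variable {F : Type*} [Field F] [Fintype F] [DecidableEq F] {p : ℕ} [Fact p.Prime] [CharP F p]
variable {ι : Type} [Fintype ι] [DecidableEq ι]

omit [Fact p.Prime] [CharP F p] in
/-- the isometry class of `W₀` as a set of nondegenerate subspaces with a discriminant -/
theorem idx_card_eq (h2 : (2 : F) ≠ 0) (Q : QuadraticForm F (ι → F)) (m : ℕ)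
    (W₀ : Submodule F (ι → F))
    (hW₀ : finrank F W₀ = m ∧ Cfsg.Geo.IsNondegenerateOn (QuadraticMap.polar ⇑Q) W₀) :
    Nat.card {W : Submodule F (ι → F) // finrank F W = m ∧
      Cfsg.Geo.IsNondegenerateOn (QuadraticMap.polar ⇑Q) W ∧
      Cfsg.Geo.AreIsometricFor ⇑Q W W₀} = Nat.card (NdSub Q m (dchS Q W₀)) := by
  have hW₀n : NDeg Q W₀ := (ndegOn_iff Q W₀).1 hW₀.2
  apply Nat.card_congr
  apply Equiv.subtypeEquivRight
  intro W
  constructor
  · rintro ⟨h1, h3, h4⟩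
    refine ⟨(ndegOn_iff Q W).1 h3, h1, ?_⟩
    obtain ⟨e, he⟩ := (areIso_iff Q W W₀).1 h4
    exact (dch_equiv (Q := Q.comp W.subtype) (Q₂ := Q.comp W₀.subtype) e he).symm
  · rintro ⟨h1, h3, h4⟩
    refine ⟨h3, (ndegOn_iff Q W).2 h1, (areIso_iff Q W W₀).2 ?_⟩
    exact isom_of_dchS h2 h1 hW₀n (by rw [h3, hW₀.1]) h4

/-- the whole space is too small for elements of order `r` -/
theorem idx_small (hodd : Odd (Fintype.card F)) (Q : QuadraticForm F (ι → F))
    (hQ : (polarBilin Q).Nondegenerate) (r : ℕ) [Fact r.Prime] (hrp : r ≠ p) (hr2 : r ≠ 2)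
    (m : ℕ) (W₀ : Submodule F (ι → F))
    (hW₀ : finrank F W₀ = m ∧ Cfsg.Geo.IsNondegenerateOn (QuadraticMap.polar ⇑Q) W₀)
    (hdim : finrank F (ι → F) < blockDim (orderOf ((Fintype.card F : ℕ) : ZMod r))) :
    ¬ r ∣ Nat.card {W : Submodule F (ι → F) // finrank F W = m ∧
      Cfsg.Geo.IsNondegenerateOn (QuadraticMap.polar ⇑Q) W ∧
      Cfsg.Geo.AreIsometricFor ⇑Q W W₀} := by
  have h2 : (2 : F) ≠ 0 := two_ne_zero_of_odd_card hodd
  rw [idx_card_eq h2 Q m W₀ hW₀]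
  intro h
  have hW₀n : NDeg Q W₀ := (ndegOn_iff Q W₀).1 hW₀.2
  have h1 := card_dvd_card_qIso' h2 hQ W₀ hW₀n m (dchS Q W₀) hW₀.1 rfl
  exact not_dvd_card_qIso hodd hQ r hrp hr2 (orderOf ((Fintype.card F : ℕ) : ZMod r))
    (blockDim (orderOf ((Fintype.card F : ℕ) : ZMod r))) rfl rfl hdim (dvd_trans h h1)

/-- an element of order `r` with a small fixed space of dimension larger than `m` -/
theorem idx_model (hodd : Odd (Fintype.card F)) (Q : QuadraticForm F (ι → F))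
    (hQ : (polarBilin Q).Nondegenerate) (r : ℕ) [Fact r.Prime] (hrp : r ≠ p) (hr2 : r ≠ 2)
    (m : ℕ) (hm0 : 0 < m) (W₀ : Submodule F (ι → F))
    (hW₀ : finrank F W₀ = m ∧ Cfsg.Geo.IsNondegenerateOn (QuadraticMap.polar ⇑Q) W₀)
    (x : GL ι F) (hx : x ∈ Cfsg.isometryGroup F ⇑Q) (hxr : x ^ r = 1)
    (hkc : finrank F (fixS (Matrix.toLin' (x : Matrix ι ι F))) <
      blockDim (orderOf ((Fintype.card F : ℕ) : ZMod r)))
    (hm : m < finrank F (fixS (Matrix.toLin' (x : Matrix ι ι F)))) :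
    ¬ r ∣ Nat.card {W : Submodule F (ι → F) // finrank F W = m ∧
      Cfsg.Geo.IsNondegenerateOn (QuadraticMap.polar ⇑Q) W ∧
      Cfsg.Geo.AreIsometricFor ⇑Q W W₀} := by
  have h2 : (2 : F) ≠ 0 := two_ne_zero_of_odd_card hodd
  rw [idx_card_eq h2 Q m W₀ hW₀]
  have hW₀n : NDeg Q W₀ := (ndegOn_iff Q W₀).1 hW₀.2
  exact not_dvd_card_ndSub hodd hQ (fun v => iso_apply hx v) r hrp hr2 (toLin'_pow_eq_one hxr)
    (orderOf ((Fintype.card F : ℕ) : ZMod r))
    (blockDim (orderOf ((Fintype.card F : ℕ) : ZMod r))) rfl rfl hkc m hm0 hm (dchS Q W₀)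
    (dchS_dichotomy hW₀n)

end idx

end Cfsg.Agent.Lib.Helper5.OPar
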