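import Mathlib
import Cfsg.Prelude.Def_Classical
import Cfsg.Prelude.Def_GeometricClasses
import Cfsg.Agent.Lib.Helper2.OrthNdR
import Cfsg.Agent.Lib.Helper2.QuadStd
import Cfsg.Agent.Lib.Helper5.OPar_A

set_option autoImplicit false

/-!
PK-MOD: semisimple models of prime order in the standard even-dimensional orthogonal spaces
with a prescribed dimension of the fixed space.
-/

namespace Cfsg.Agent.Lib.Helper5.OPar

open Module QuadraticMap Polynomial
open scoped Matrix
open Cfsg.Agent.Lib.Helper2.MaxTS2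
open Cfsg.Agent.Lib.Helper2.OrthEl
open Cfsg.Agent.Lib.Helper2.OrthNd
open Cfsg.Agent.H9SemiInv
open Cfsg.Agent.Lib.Helper9.H9Elus
open Cfsg.Agent.Lib.Helper2
open Cfsg.Agent.Lib.Helper5.QuadGlue

universe u

section dchprod
variable {F : Type*} [Field F] [Fintype F] [DecidableEq F]
variable {V₁ : Type*} [AddCommGroup V₁] [Module F V₁] [FiniteDimensional F V₁]
variable {V₂ : Type*} [AddCommGroup V₂] [Module F V₂] [FiniteDimensional F V₂]

/-- the discriminant character is multiplicative on orthogonal products -/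
theorem mod_dch_prod (Q₁ : QuadraticForm F V₁) (Q₂ : QuadraticForm F V₂) :
    dch (Q₁.prod Q₂) = dch Q₁ * dch Q₂ := by
  classical
  set b₁ := Module.finBasis F V₁ with hb₁
  set b₂ := Module.finBasis F V₂ with hb₂
  rw [← dch_eq_of_basis (Q₁.prod Q₂) (b₁.prod b₂), ← dch_eq_of_basis Q₁ b₁,
    ← dch_eq_of_basis Q₂ b₂]
  have hM : LinearMap.BilinForm.toMatrix (b₁.prod b₂) (polarBilin (Q₁.prod Q₂)) =
      Matrix.fromBlocks (LinearMap.BilinForm.toMatrix b₁ (polarBilin Q₁)) 0 0
        (LinearMap.BilinForm.toMatrix b₂ (polarBilin Q₂)) := by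
    ext i j
    rw [LinearMap.BilinForm.toMatrix_apply, polarBilin_apply_apply, QuadraticMap.polar_prod]
    rcases i with i | i <;> rcases j with j | j <;>
      simp [LinearMap.BilinForm.toMatrix_apply, Basis.prod_apply, polar]
  rw [hM, Matrix.det_fromBlocks_zero₂₁, map_mul]

end dchprod

section transport
variable {F : Type u} [Field F]

/-- transport of a model along an isometry onto a coordinate space -/
theorem mod_transport {ι : Type} [Fintype ι] [DecidableEq ι] (Q₀ : (ι → F) → F) (r : ℕ)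
    (hr1 : 1 ≤ r) (M : QIso F) (hM : M.Good r) (e : M.V ≃ₗ[F] (ι → F))
    (he : ∀ v, Q₀ (e v) = M.Q v) :
    ∃ x : GL ι F, x ∈ Cfsg.isometryGroup F Q₀ ∧ x ^ r = 1 ∧ (M.y ≠ 1 → x ≠ 1) ∧
      finrank F (fixS (Matrix.toLin' (x : Matrix ι ι F))) = finrank F (fixS M.y) := by
  classical
  set y' : (ι → F) →ₗ[F] (ι → F) := e.toLinearMap ∘ₗ M.y ∘ₗ e.symm.toLinearMap with hy'
  have hy'app : ∀ u, y' u = e (M.y (e.symm u)) := fun u => rfl
  have hy'pow : ∀ k : ℕ, ∀ u, (y' ^ k) u = e ((M.y ^ k) (e.symm u)) := by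
    intro k
    induction k with
    | zero =>
      intro u
      rw [pow_zero, pow_zero, Module.End.one_apply, Module.End.one_apply,
        LinearEquiv.apply_symm_apply]
    | succ k ih =>
      intro u
      rw [pow_succ, Module.End.mul_apply, ih, hy'app, LinearEquiv.symm_apply_apply, pow_succ,
        Module.End.mul_apply]
  have hy'r : y' ^ r = 1 := by
    apply LinearMap.ext
    intro u
    rw [hy'pow, hM.2.2, Module.End.one_apply, Module.End.one_apply, LinearEquiv.apply_symm_apply]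
  have hmul1 : LinearMap.toMatrix' y' * LinearMap.toMatrix' (y' ^ (r - 1)) = 1 := by
    rw [← LinearMap.toMatrix'_mul, ← pow_succ', Nat.sub_add_cancel hr1, hy'r,
      LinearMap.toMatrix'_one]
  have hmul2 : LinearMap.toMatrix' (y' ^ (r - 1)) * LinearMap.toMatrix' y' = 1 := by
    rw [← LinearMap.toMatrix'_mul, ← pow_succ, Nat.sub_add_cancel hr1, hy'r,
      LinearMap.toMatrix'_one]
  let x : GL ι F := ⟨LinearMap.toMatrix' y', LinearMap.toMatrix' (y' ^ (r - 1)), hmul1, hmul2⟩
  have hxlin : Matrix.toLin' (x : Matrix ι ι F) = y' := Matrix.toLin'_toMatrix' y'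
  have hxmul : ∀ u, (x : Matrix ι ι F) *ᵥ u = y' u := by
    intro u
    rw [← Matrix.toLin'_apply, hxlin]
  refine ⟨x, ?_, ?_, ?_, ?_⟩
  · intro u _
    show Q₀ ((x : Matrix ι ι F) *ᵥ u) = Q₀ u
    rw [hxmul, hy'app, he, hM.2.1, ← he, LinearEquiv.apply_symm_apply]
  · apply Units.ext
    rw [Units.val_pow_eq_pow_val, Units.val_one]
    show (LinearMap.toMatrix' y') ^ r = 1
    apply Matrix.toLin'.injective
    rw [Matrix.toLin'_pow, Matrix.toLin'_toMatrix', hy'r, Matrix.toLin'_one]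
    rfl
  · intro hne h
    apply hne
    have h3 : y' = 1 := by
      rw [← hxlin, h, Units.val_one, Matrix.toLin'_one]
      rfl
    apply LinearMap.ext
    intro v
    have := congrArg (fun f : (ι → F) →ₗ[F] (ι → F) => e.symm (f (e v))) h3
    simp only [hy'app, LinearEquiv.symm_apply_apply, Module.End.one_apply] at this
    rw [this, Module.End.one_apply]
  · rw [hxlin]
    have hmap : fixS y' = (fixS M.y).map (e : M.V →ₗ[F] (ι → F)) := by
      ext v
      rw [mem_fixS, Submodule.mem_map]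
      constructor
      · intro hv
        refine ⟨e.symm v, ?_, LinearEquiv.apply_symm_apply e v⟩
        rw [mem_fixS]
        rw [hy'app] at hv
        have := congrArg e.symm hv
        rwa [LinearEquiv.symm_apply_apply] at this
      · rintro ⟨w, hw, rfl⟩
        rw [mem_fixS] at hw
        show y' (e w) = e w
        rw [hy'app, LinearEquiv.symm_apply_apply, hw]
    rw [hmap]
    exact LinearEquiv.finrank_map_eq e (fixS M.y)

end transport

section fixedpart
variable {F : Type u} [Field F] [Fintype F] [DecidableEq F]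

/-- a space of any positive dimension and any discriminant character, with the identity -/
theorem mod_exists_fixed (h2 : (2 : F) ≠ 0) (r k : ℕ) (hk : 0 < k) (s : ℤ) (hs : s = 1 ∨ s = -1) :
    ∃ E : QIso F, E.Good r ∧ (∀ a, E.y a = a) ∧ finrank F E.V = k ∧ dch E.Q = s := by
  obtain ⟨B, hB, -, hBdim⟩ := QIso.exists_fixed (F := F) h2 r (k + 1)
  obtain ⟨W, -, hWn, hWdim, hWs⟩ := exists_ndeg_sub h2 (ndeg_top hB.1) k hk
    (by rw [finrank_top, hBdim]; omega) s hs
  refine ⟨⟨↥W, B.Q.comp W.subtype, LinearMap.id⟩, ⟨hWn.restrict, fun v => rfl, ?_⟩,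
    fun a => rfl, hWdim, hWs⟩
  show (LinearMap.id : ↥W →ₗ[F] ↥W) ^ r = 1
  exact one_pow r

end fixedpart

section models
variable {F : Type u} [Field F] [Fintype F] {p : ℕ} [Fact p.Prime] [CharP F p]

/-- the free part: `J'` blocks and no fixed vectors -/
theorem mod_exists_free (hodd : Odd (Fintype.card F)) (r : ℕ) [Fact r.Prime] (hrp : r ≠ p)
    (J' : ℕ) :
    ∃ R : QIso F, R.Good r ∧
      finrank F R.V = blockDim (orderOf ((Fintype.card F : ℕ) : ZMod r)) * J' ∧
      (0 < J' → R.y ≠ 1) ∧ fixS R.y = ⊥ := by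
  obtain ⟨B, hB, hBann, hBdim⟩ := exists_block hodd r hrp
    (orderOf ((Fintype.card F : ℕ) : ZMod r))
    (blockDim (orderOf ((Fintype.card F : ℕ) : ZMod r))) rfl rfl
  obtain ⟨R, hR, hRann, hRdim⟩ := QIso.exists_pow B hB hBann J'
  have hipos : 0 < orderOf ((Fintype.card F : ℕ) : ZMod r) := order_pos (F := F) r hrp
  have hcpos := blockDim_pos hipos
  refine ⟨R, hR, by rw [hRdim, hBdim, mul_comm], ?_, ?_⟩
  · intro hJ
    apply QIso.ne_one_of_free r hrp hR hRann
    rw [hRdim, hBdim]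
    positivity
  · rw [eq_bot_iff]
    intro v hv
    rw [mem_fixS] at hv
    rw [Submodule.mem_bot]
    apply eq_zero_of_fix_of_cyc r hrp hR.2.2 hv
    rw [QIso.cycS_eq_top hRann]
    exact Submodule.mem_top

/-- the Witt type of a space on which an element of odd prime order acts freely -/
theorem mod_free_plus_iff (hodd : Odd (Fintype.card F)) (r : ℕ) [Fact r.Prime] (hrp : r ≠ p)
    (hr2 : r ≠ 2) (R : QIso F) (hR : R.Good r) (hfix : fixS R.y = ⊥) (J' : ℕ)
    (hdim : finrank F R.V = blockDim (orderOf ((Fintype.card F : ℕ) : ZMod r)) * J') :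
    (∃ U : Submodule F R.V, IsTS R.Q U ∧ 2 * finrank F U = finrank F R.V) ↔
      (Odd (orderOf ((Fintype.card F : ℕ) : ZMod r)) ∨ Even J') := by
  constructor
  · intro hplus
    rcases Nat.even_or_odd (orderOf ((Fintype.card F : ℕ) : ZMod r)) with hi | hi
    · right
      have hc : blockDim (orderOf ((Fintype.card F : ℕ) : ZMod r)) =
          orderOf ((Fintype.card F : ℕ) : ZMod r) := by
        unfold blockDim; rw [if_pos hi]
      rw [hc] at hdim
      exact even_of_plus hodd hR.1 hR.2.1 r hrp hr2 hR.2.2 hfix hi J' hdim hplus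
    · exact Or.inl hi
  · intro h
    rcases Nat.even_or_odd (orderOf ((Fintype.card F : ℕ) : ZMod r)) with hi | hi
    · rcases h with h | h
      · exact absurd hi (Nat.not_even_iff_odd.2 h)
      · by_contra hminus
        have hc : blockDim (orderOf ((Fintype.card F : ℕ) : ZMod r)) =
            orderOf ((Fintype.card F : ℕ) : ZMod r) := by
          unfold blockDim; rw [if_pos hi]
        rw [hc] at hdim
        have := odd_of_minus hodd hR.1 hR.2.1 r hrp hr2 hR.2.2 hfix hi J' hdim hminus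
        exact (Nat.not_even_iff_odd.2 this) h
    · exact plus_of_odd hodd hR.1 hR.2.1 r hrp hr2 hR.2.2 hfix hi

omit [Fintype F] [Fact p.Prime] [CharP F p] in
/-- the fixed space of a product of a fixed space and a free space -/
theorem mod_fix_prod (E R : QIso F) (hEy : ∀ a, E.y a = a) (hRfix : fixS R.y = ⊥) :
    finrank F (fixS (E.prod R).y) = finrank F E.V := by
  have hfix : fixS (E.prod R).y = LinearMap.range (LinearMap.inl F E.V R.V) := by
    ext v
    rw [mem_fixS, LinearMap.mem_range]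
    constructor
    · intro hv
      have h1 : R.y v.2 = v.2 := congrArg Prod.snd hv
      have h3 : v.2 = 0 := by
        have : v.2 ∈ fixS R.y := (mem_fixS _).2 h1
        rw [hRfix, Submodule.mem_bot] at this
        exact this
      refine ⟨v.1, ?_⟩
      apply Prod.ext
      · rfl
      · exact h3.symm
    · rintro ⟨a, rfl⟩
      show (E.y a, R.y 0) = (a, 0)
      rw [hEy, map_zero]
  rw [hfix, LinearMap.finrank_range_of_inj LinearMap.inl_injective]

variable [DecidableEq F]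

/-- the model with prescribed dimension, fixed space and discriminant character -/
theorem mod_core (hodd : Odd (Fintype.card F)) (r : ℕ) [Fact r.Prime] (hrp : r ≠ p)
    (hr2 : r ≠ 2) (d J' e₀ : ℕ) (hJ : 1 ≤ J')
    (hdim : 2 * d = blockDim (orderOf ((Fintype.card F : ℕ) : ZMod r)) * J' + e₀)
    (s₀ : ℤ) (hs₀ : s₀ = 1 ∨ s₀ = -1)
    (hcompat : e₀ = 0 → (s₀ = (quadraticChar F (-1)) ^ d ↔
      (Odd (orderOf ((Fintype.card F : ℕ) : ZMod r)) ∨ Even J'))) :
    ∃ M : QIso F, M.Good r ∧ finrank F M.V = 2 * d ∧ M.y ≠ 1 ∧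
      finrank F (fixS M.y) = e₀ ∧ dch M.Q = s₀ := by
  have h2 : (2 : F) ≠ 0 := two_ne_zero_of_odd_card hodd
  obtain ⟨R, hR, hRdim, hRne, hRfix⟩ := mod_exists_free hodd r hrp J'
  have hRd := dch_dichotomy hR.1
  rcases Nat.eq_zero_or_pos e₀ with he0 | he0
  · subst he0
    rw [add_zero] at hdim
    refine ⟨R, hR, by rw [hRdim, hdim], hRne (by omega), by rw [hRfix, finrank_bot], ?_⟩
    have hpi := plus_iff h2 hR.1 d (by rw [hRdim, hdim])
    have hfi := mod_free_plus_iff hodd r hrp hr2 R hR hRfix J' hRdim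
    have hconv : (∃ X : Submodule F R.V, finrank F X = d ∧ ∀ x ∈ X, R.Q x = 0) ↔
        (∃ U : Submodule F R.V, IsTS R.Q U ∧ 2 * finrank F U = finrank F R.V) := by
      constructor
      · rintro ⟨X, hX1, hX2⟩
        exact ⟨X, hX2, by rw [hX1, hRdim, hdim]⟩
      · rintro ⟨U, hU1, hU2⟩
        refine ⟨U, ?_, hU1⟩
        rw [hRdim, ← hdim] at hU2
        omega
    have hχ := neg_one_char_pow (F := F) d
    by_cases hc : Odd (orderOf ((Fintype.card F : ℕ) : ZMod r)) ∨ Even J'
    · rw [(hcompat rfl).2 hc]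
      exact hpi.1 (hconv.2 (hfi.2 hc))
    · have h1 : dch R.Q ≠ (quadraticChar F (-1)) ^ d := fun h => hc (hfi.1 (hconv.1 (hpi.2 h)))
      have h3 : s₀ ≠ (quadraticChar F (-1)) ^ d := fun h => hc ((hcompat rfl).1 h)
      rcases hRd with h | h <;> rcases hs₀ with h' | h' <;> rcases hχ with h'' | h'' <;>
        rw [h] at h1 ⊢ <;> rw [h'] at h3 ⊢ <;> rw [h''] at h1 h3 <;> simp_all
  · have hs : s₀ * dch R.Q = 1 ∨ s₀ * dch R.Q = -1 := by
      rcases hRd with h | h <;> rcases hs₀ with h' | h' <;> rw [h, h'] <;> simp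
    obtain ⟨E, hE, hEy, hEdim, hEs⟩ := mod_exists_fixed h2 r e₀ he0 (s₀ * dch R.Q) hs
    refine ⟨E.prod R, QIso.prod_good hE hR, ?_, ?_, ?_, ?_⟩
    · rw [QIso.finrank_prod, hEdim, hRdim, hdim, add_comm]
    · intro h1
      apply hRne (by omega)
      apply LinearMap.ext
      intro v
      have := congrArg (fun f : (E.prod R).V →ₗ[F] (E.prod R).V => (f (0, v)).2) h1
      exact this
    · rw [mod_fix_prod E R hEy hRfix, hEdim]
    · show dch (E.Q.prod R.Q) = s₀
      rw [mod_dch_prod, hEs, mul_assoc]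
      rcases hRd with h | h <;> rw [h] <;> simp

end models

section final
variable {F : Type*} [Field F] [Fintype F] {p : ℕ} [Fact p.Prime] [CharP F p]

theorem mod_exists_model_plus (hodd : Odd (Fintype.card F)) (d : ℕ) (r : ℕ) [Fact r.Prime]
    (hrp : r ≠ p) (hr2 : r ≠ 2) (J' e₀ : ℕ) (hJ : 1 ≤ J')
    (hdim : 2 * d = blockDim (orderOf ((Fintype.card F : ℕ) : ZMod r)) * J' + e₀)
    (hcompat : e₀ = 0 → (Odd (orderOf ((Fintype.card F : ℕ) : ZMod r)) ∨ Even J')) :
    ∃ x : GL (Fin d ⊕ Fin d) F, x ∈ Cfsg.isometryGroup F (Cfsg.quadFormPlus d F) ∧ x ^ r = 1 ∧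
      x ≠ 1 ∧
      finrank F (fixS (Matrix.toLin' (x : Matrix (Fin d ⊕ Fin d) (Fin d ⊕ Fin d) F))) = e₀ := by
  classical
  have h2 : (2 : F) ≠ 0 := two_ne_zero_of_odd_card hodd
  obtain ⟨M, hM, hMdim, hMne, hMfix, hMd⟩ := mod_core hodd r hrp hr2 d J' e₀ hJ hdim
    ((quadraticChar F (-1)) ^ d) (neg_one_char_pow (F := F) d)
    (fun h => iff_of_true rfl (hcompat h))
  obtain ⟨e, he⟩ := exists_isometry h2 hM.1 (QuadStd.QP_nondeg (F := F) d)
    (by rw [hMdim, finrank_plus_space]) (by rw [hMd, dch_QP h2])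
  obtain ⟨x, hx1, hx2, hx3, hx4⟩ := mod_transport (Cfsg.quadFormPlus d F) r
    (Fact.out : r.Prime).one_lt.le M hM e (by
      intro v
      rw [← QuadStd.QP_coe]
      exact he v)
  exact ⟨x, hx1, hx2, hx3 hMne, by rw [hx4, hMfix]⟩

theorem mod_exists_model_minus (hodd : Odd (Fintype.card F)) (d : ℕ) (hd : 1 ≤ d) (a b : F)
    (hab : ∀ x y : F, x ^ 2 + a * x * y + b * y ^ 2 = 0 → x = 0 ∧ y = 0)
    (r : ℕ) [Fact r.Prime] (hrp : r ≠ p) (hr2 : r ≠ 2) (J' e₀ : ℕ) (hJ : 1 ≤ J')
    (hdim : 2 * d = blockDim (orderOf ((Fintype.card F : ℕ) : ZMod r)) * J' + e₀)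
    (hcompat : e₀ = 0 → (Even (orderOf ((Fintype.card F : ℕ) : ZMod r)) ∧ Odd J')) :
    ∃ x : GL ((Fin (d - 1) ⊕ Fin (d - 1)) ⊕ Fin 2) F,
      x ∈ Cfsg.isometryGroup F (Cfsg.quadFormMinus (d - 1) F a b) ∧ x ^ r = 1 ∧ x ≠ 1 ∧
      finrank F (fixS (Matrix.toLin' (x : Matrix ((Fin (d - 1) ⊕ Fin (d - 1)) ⊕ Fin 2)
        ((Fin (d - 1) ⊕ Fin (d - 1)) ⊕ Fin 2) F))) = e₀ := by
  classical
  have h2 : (2 : F) ≠ 0 := two_ne_zero_of_odd_card hodd
  have hχ := neg_one_char_pow (F := F) d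
  have hd1 : d - 1 + 1 = d := by omega
  obtain ⟨M, hM, hMdim, hMne, hMfix, hMd⟩ := mod_core hodd r hrp hr2 d J' e₀ hJ hdim
    (-(quadraticChar F (-1)) ^ d) (by rcases hχ with h | h <;> rw [h] <;> simp)
    (fun h => by
      obtain ⟨hi, hJ'⟩ := hcompat h
      constructor
      · intro h'
        exfalso
        rcases hχ with h'' | h'' <;> rw [h''] at h' <;> omega
      · rintro (h' | h')
        · exact absurd hi (Nat.not_even_iff_odd.2 h')
        · exact absurd h' (Nat.not_even_iff_odd.2 hJ'))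
  obtain ⟨e, he⟩ := exists_isometry h2 hM.1 (QuadStd.QM_nondeg h2 (d - 1) a b hab)
    (by rw [hMdim, finrank_minus_space, hd1]) (by rw [hMd, dch_QM h2 (d - 1) a b hab, hd1])
  obtain ⟨x, hx1, hx2, hx3, hx4⟩ := mod_transport (Cfsg.quadFormMinus (d - 1) F a b) r
    (Fact.out : r.Prime).one_lt.le M hM e (by
      intro v
      rw [← QuadStd.QM_coe]
      exact he v)
  exact ⟨x, hx1, hx2, hx3 hMne, by rw [hx4, hMfix]⟩

end final

end Cfsg.Agent.Lib.Helper5.OPar
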