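import Mathlib
import Cfsg.Prelude.Def_Classical
import Cfsg.Agent.Lib.Helper2.OrthNdE
import Cfsg.Agent.Lib.Helper2.OrthElF
import Cfsg.Agent.Lib.Helper5.OPar_SQMA

set_option autoImplicit false

/-!
PK-SQM-C: an isometry with square `-1` forces a square discriminant; consequences for the standard
plus and minus forms.
-/

namespace Cfsg.Agent.Lib.Helper5.OPar

open Module QuadraticMap
open Cfsg.Agent.Lib.Helper2.MaxTS2
open Cfsg.Agent.Lib.Helper2.OrthEl
open Cfsg.Agent.Lib.Helper2.OrthNd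
open Cfsg.Agent.H9SemiInv
open Cfsg.Agent.Lib.Helper2
open Cfsg.Agent.Lib.Helper5.QuadGlue

section sqmc
variable {F : Type*} [Field F] [Fintype F] [DecidableEq F]
variable {V : Type*} [AddCommGroup V] [Module F V] [FiniteDimensional F V]
variable {Q : QuadraticForm F V} {y : V →ₗ[F] V}

/-- the discriminant character of a space carrying an isometry of square `-1` is `1` -/
theorem sqmc_dch_eq_one (h2 : (2 : F) ≠ 0) (hQ : (polarBilin Q).Nondegenerate)
    (hiso : ∀ v, Q (y v) = Q v) (hy : ∀ v, y (y v) = -v) (d : ℕ)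
    (hdim : finrank F V = 2 * d) : dch Q = 1 := by
  classical
  rcases Nat.eq_zero_or_pos d with hd0 | hdpos
  · subst hd0
    have hdim0 : finrank F V = 0 := by rw [hdim]
    set b0 := (Module.finBasis F V).reindex (finCongr hdim0) with hb0
    rw [← dch_eq_of_basis Q b0, Matrix.det_isEmpty, map_one]
  haveI : Nonempty (Fin d ⊕ Fin d) := ⟨Sum.inl ⟨0, hdpos⟩⟩
  obtain ⟨v, hvQ, hvs, hvo, hli⟩ := exists_frame_sq_neg_one h2 hQ hiso hy d hdim
  have hcard : Fintype.card (Fin d ⊕ Fin d) = finrank F V := by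
    rw [hdim, Fintype.card_sum, Fintype.card_fin]; ring
  set b := basisOfLinearIndependentOfCardEqFinrank hli hcard with hb
  have hbi : ∀ i, b i = Sum.elim v (fun j => y (v j)) i := fun i => by
    rw [hb, coe_basisOfLinearIndependentOfCardEqFinrank]
  have horth : ∀ i j, i ≠ j → polar (⇑Q) (b i) (b j) = 0 := by
    intro i j hij
    rw [hbi, hbi]
    rcases i with i | i <;> rcases j with j | j
    · exact (hvo i j (fun h => hij (by rw [h]))).1
    · by_cases h : i = j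
      · subst h; exact hvs i
      · exact (hvo i j h).2.1
    · show polar (⇑Q) (y (v i)) (v j) = 0
      rw [polar_comm]
      by_cases h : j = i
      · subst h; exact hvs j
      · exact (hvo j i h).2.1
    · exact (hvo i j (fun h => hij (by rw [h]))).2.2
  rw [dch_of_orthogonal Q b horth, Fintype.prod_sum_type]
  have e1 : ∀ j : Fin d, b (Sum.inl j) = v j := fun j => by rw [hbi]; rfl
  have e2 : ∀ j : Fin d, b (Sum.inr j) = y (v j) := fun j => by rw [hbi]; rfl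
  simp only [e1, e2, hiso]
  rw [← _root_.sq, map_pow]
  apply quadraticChar_sq_one
  rw [Finset.prod_ne_zero_iff]
  intro j _
  exact mul_ne_zero h2 (hvQ j)

theorem sqmc_char_neg_one_pow (d : ℕ) :
    quadraticChar F ((-1 : F) ^ d) = (quadraticChar F (-1)) ^ d := by
  rw [map_pow]

theorem sqmc_toLin (ι : Type) [Fintype ι] [DecidableEq ι] (x : Matrix ι ι F)
    (hxx : x * x = -1) (v : ι → F) :
    Matrix.toLin' x (Matrix.toLin' x v) = -v := by
  rw [← LinearMap.comp_apply, ← Matrix.toLin'_mul, hxx, map_neg, Matrix.toLin'_one]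
  rfl

theorem isSquare_of_plus_sq_neg_one (h2 : (2 : F) ≠ 0) (d : ℕ) (x : GL (Fin d ⊕ Fin d) F)
    (hx : x ∈ Cfsg.isometryGroup F (Cfsg.quadFormPlus d F))
    (hxx : (x : Matrix (Fin d ⊕ Fin d) (Fin d ⊕ Fin d) F) * (x : Matrix _ _ F) = -1) :
    IsSquare ((-1 : F) ^ d) := by
  have hcoe := QuadStd.QP_coe (F := F) d
  have hxi : x ∈ Cfsg.isometryGroup F ⇑(QP d F) := by rw [hcoe]; exact hx
  have h1 := sqmc_dch_eq_one h2 (QuadStd.QP_nondeg (F := F) d)
    (y := Matrix.toLin' (x : Matrix (Fin d ⊕ Fin d) (Fin d ⊕ Fin d) F))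
    (fun v => iso_apply hxi v) (sqmc_toLin _ _ hxx) d (finrank_plus_space d)
  rw [dch_QP h2 d, ← sqmc_char_neg_one_pow] at h1
  have hne : ((-1 : F) ^ d) ≠ 0 := pow_ne_zero _ (neg_ne_zero.2 one_ne_zero)
  exact (quadraticChar_one_iff_isSquare hne).1 h1

theorem not_isSquare_of_minus_sq_neg_one (h2 : (2 : F) ≠ 0) (d : ℕ) (hd : 1 ≤ d) (a b : F)
    (hab : ∀ x y : F, x ^ 2 + a * x * y + b * y ^ 2 = 0 → x = 0 ∧ y = 0)
    (x : GL ((Fin (d - 1) ⊕ Fin (d - 1)) ⊕ Fin 2) F)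
    (hx : x ∈ Cfsg.isometryGroup F (Cfsg.quadFormMinus (d - 1) F a b))
    (hxx : (x : Matrix ((Fin (d - 1) ⊕ Fin (d - 1)) ⊕ Fin 2) ((Fin (d - 1) ⊕ Fin (d - 1)) ⊕ Fin 2) F)
      * (x : Matrix _ _ F) = -1) :
    ¬ IsSquare ((-1 : F) ^ d) := by
  have hcoe := QuadStd.QM_coe (F := F) (d - 1) a b
  have hxi : x ∈ Cfsg.isometryGroup F ⇑(QM (d - 1) F a b) := by rw [hcoe]; exact hx
  have hdim : finrank F ((Fin (d - 1) ⊕ Fin (d - 1)) ⊕ Fin 2 → F) = 2 * d := by
    rw [finrank_minus_space]; omega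
  have h1 := sqmc_dch_eq_one h2 (QuadStd.QM_nondeg h2 (d - 1) a b hab)
    (y := Matrix.toLin' (x : Matrix ((Fin (d - 1) ⊕ Fin (d - 1)) ⊕ Fin 2)
      ((Fin (d - 1) ⊕ Fin (d - 1)) ⊕ Fin 2) F))
    (fun v => iso_apply hxi v) (sqmc_toLin _ _ hxx) d hdim
  rw [dch_QM h2 (d - 1) a b hab, Nat.sub_add_cancel hd, ← sqmc_char_neg_one_pow] at h1
  intro hsq
  have hne : ((-1 : F) ^ d) ≠ 0 := pow_ne_zero _ (neg_ne_zero.2 one_ne_zero)
  rw [(quadraticChar_one_iff_isSquare hne).2 hsq] at h1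
  exact absurd h1 (by decide)

end sqmc

end Cfsg.Agent.Lib.Helper5.OPar
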