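import Mathlib
import Cfsg.Prelude.Def_Classical
import Cfsg.Prelude.Def_GeometricClasses
import Cfsg.Agent.Lib.Helper5.OPar_SQMB
import Cfsg.Agent.Lib.Helper5.OPar_SQMC
import Cfsg.Agent.Lib.Lead.OPar_SQMD
import Cfsg.Agent.Lib.Helper5.OPar_A
import Cfsg.Agent.Lib.Helper5.OPar_SQMA
import Cfsg.Agent.Lib.Helper5.OPar_ASM2
import Cfsg.Agent.Lib.Helper5.OPar_ASM3

set_option autoImplicit false

/-!
Parabolic rows, plus type (S5989): the case `r = 2`.
-/

namespace Cfsg.Agent.Lib.Helper5.OPar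

open Module QuadraticMap Polynomial
open Cfsg.Agent.Lib.Helper2.MaxTS2
open Cfsg.Agent.Lib.Helper2.OrthEl
open Cfsg.Agent.H9SemiInv
open Cfsg.Agent.Lib.Helper2
open Cfsg.Agent.Lib.Helper5.QuadGlue

section two
variable {F : Type*} [Field F] [Fintype F]

/-- membership in `omegaGL` through the spinor homomorphism -/
theorem asm_mem_omegaGL_iff [DecidableEq F] {ι : Type} [Fintype ι] [DecidableEq ι]
    (h2 : (2 : F) ≠ 0) (Q : QuadraticForm F (ι → F))
    (hQ : (polarBilin Q).Nondegenerate) (hn : 2 ≤ Fintype.card ι) (x : GL ι F)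
    (hx : x ∈ Cfsg.isometryGroup F ⇑Q) :
    x ∈ Cfsg.Geo.omegaGL ⇑Q ↔ Spinor.Phi Q ⟨x, hx⟩ = 1 := by
  rw [← Spinor.mem_commutator_iff h2 hQ hn]
  constructor
  · intro h
    obtain ⟨g, hg, hgx⟩ := Subgroup.mem_map.1 h
    have : g = ⟨x, hx⟩ := Subtype.ext hgx
    rw [← this]
    exact hg
  · intro h
    exact Subgroup.mem_map.2 ⟨⟨x, hx⟩, h, rfl⟩

theorem asm_chi'_sq [DecidableEq F] (a : F) : chi' a * chi' a = 1 := by
  unfold chi'
  split_ifs <;> simp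

theorem asm_chi'_pow_odd [DecidableEq F] (a : F) (d : ℕ) (hd : Odd d) : chi' a ^ d = chi' a := by
  obtain ⟨k, hk⟩ := hd
  rw [hk, pow_succ, pow_mul, pow_two, asm_chi'_sq, one_pow, one_mul]

theorem asm_chi'_pow_even [DecidableEq F] (a : F) (d : ℕ) (hd : Even d) : chi' a ^ d = 1 := by
  obtain ⟨k, hk⟩ := hd
  rw [hk, ← two_mul, pow_mul, pow_two, asm_chi'_sq, one_pow]

theorem asm_isSquare_neg_one_pow (d : ℕ) (hd : Odd d) (h : IsSquare ((-1 : F) ^ d)) :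
    IsSquare (-1 : F) := by
  rwa [hd.neg_one_pow] at h

/-- `r = 2`, existence direction -/
theorem par_plus_two_fix (hodd : Odd (Fintype.card F)) (d m : ℕ) (hd : 1 ≤ d) (hm : Odd m)
    (hmd : m < d) (W₀ : Submodule F (Fin d ⊕ Fin d → F))
    (hW₀ : finrank F W₀ = m ∧
      Cfsg.Geo.IsNondegenerateOn (QuadraticMap.polar (Cfsg.quadFormPlus d F)) W₀)
    (hdodd : Odd d) (hq8 : Fintype.card F % 8 ≠ 1)
    (x : GL (Fin d ⊕ Fin d) F) (hx : x ∈ Cfsg.Geo.omegaGL (Cfsg.quadFormPlus d F))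
    (hxr : ∃ z : F, ((x ^ 2 : GL (Fin d ⊕ Fin d) F) : Matrix (Fin d ⊕ Fin d) (Fin d ⊕ Fin d) F)
      = z • (1 : Matrix (Fin d ⊕ Fin d) (Fin d ⊕ Fin d) F)) :
    ∃ W : Submodule F (Fin d ⊕ Fin d → F), (finrank F W = m ∧
      Cfsg.Geo.IsNondegenerateOn (QuadraticMap.polar (Cfsg.quadFormPlus d F)) W ∧
      Cfsg.Geo.AreIsometricFor (Cfsg.quadFormPlus d F) W W₀) ∧
      W.map (Matrix.toLin' (x : Matrix (Fin d ⊕ Fin d) (Fin d ⊕ Fin d) F)) ≤ W := by
  classical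
  have h2 : (2 : F) ≠ 0 := two_ne_zero_of_odd_card hodd
  have hcoe := QuadStd.QP_coe (F := F) d
  have hQ := QuadStd.QP_nondeg (F := F) d
  haveI : Nonempty (Fin d ⊕ Fin d) := ⟨Sum.inl ⟨0, hd⟩⟩
  have hxi : x ∈ Cfsg.isometryGroup F ⇑(QP d F) := by
    rw [hcoe]; exact mem_iso_of_mem_omegaGL hx
  have hW₀n : NDeg (QP d F) W₀ := by
    rw [← ndegOn_iff, hcoe]; exact hW₀.2
  rcases asm_sq_cases h2 (QP d F) hQ x hxi hxr with h1 | h1
  · -- x ^ 2 = 1
    set y := Matrix.toLin' (x : Matrix (Fin d ⊕ Fin d) (Fin d ⊕ Fin d) F) with hy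
    have hiso : ∀ v, QP d F (y v) = QP d F v := fun v => iso_apply hxi v
    have hyy : y ^ 2 = 1 := by
      rw [hy, ← Matrix.toLin'_pow, pow_two, h1, Matrix.toLin'_one]
      rfl
    obtain ⟨W, hWi, hWn, hWiso⟩ := exists_fixed_invol h2 hQ hiso hyy W₀ hW₀n
      (by rw [hW₀.1, asm_finrank_plus]; omega)
    refine ⟨W, ⟨?_, ?_, ?_⟩, (inv_iff y W).1 hWi⟩
    · obtain ⟨e, -⟩ := hWiso
      rw [← hW₀.1]
      exact LinearEquiv.finrank_eq e
    · rw [← hcoe, ndegOn_iff]; exact hWn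
    · rw [← hcoe, areIso_iff]; exact hWiso
  · -- x ^ 2 = -1 is impossible
    exfalso
    have hxi0 : x ∈ Cfsg.isometryGroup F (Cfsg.quadFormPlus d F) := mem_iso_of_mem_omegaGL hx
    have hsq := asm_isSquare_neg_one_pow d hdodd (isSquare_of_plus_sq_neg_one h2 d x hxi0 h1)
    have hq4 := FiniteField.isSquare_neg_one_iff.1 hsq
    have hcard : 2 ≤ Fintype.card (Fin d ⊕ Fin d) := by
      rw [Fintype.card_sum, Fintype.card_fin]; omega
    have hx' : x ∈ Cfsg.Geo.omegaGL ⇑(QP d F) := by rw [hcoe]; exact hx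
    have hphi := (asm_mem_omegaGL_iff h2 (QP d F) hQ hcard x hxi).1 hx'
    rw [Phi_sq_neg_one h2 (QP d F) hQ d (by rw [Fintype.card_sum, Fintype.card_fin]; ring)
      ⟨x, hxi⟩ h1, asm_chi'_pow_odd _ d hdodd] at hphi
    have h3 : chi' (2 : F) = 1 := (Prod.ext_iff.1 hphi).2
    have h4 : IsSquare (2 : F) := by
      unfold chi' at h3
      by_contra hcon
      rw [if_neg hcon] at h3
      exact absurd h3 (by decide)
    have h5 := FiniteField.isSquare_two_iff.1 h4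
    obtain ⟨k, hk⟩ := hodd
    omega

/-- `r = 2`, the derangement -/
theorem par_plus_two_bad (hodd : Odd (Fintype.card F)) (d m : ℕ) (hd : 1 ≤ d) (hm : Odd m)
    (hcase : Even d ∨ Fintype.card F % 8 = 1) :
    ∃ x : GL (Fin d ⊕ Fin d) F, x ∈ Cfsg.Geo.omegaGL (Cfsg.quadFormPlus d F) ∧
      (∃ z : F, ((x ^ 2 : GL (Fin d ⊕ Fin d) F) : Matrix (Fin d ⊕ Fin d) (Fin d ⊕ Fin d) F)
        = z • (1 : Matrix (Fin d ⊕ Fin d) (Fin d ⊕ Fin d) F)) ∧
      (∀ z : F, (x : Matrix (Fin d ⊕ Fin d) (Fin d ⊕ Fin d) F)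
        ≠ z • (1 : Matrix (Fin d ⊕ Fin d) (Fin d ⊕ Fin d) F)) ∧
      ∀ W : Submodule F (Fin d ⊕ Fin d → F), finrank F W = m →
        Cfsg.Geo.IsNondegenerateOn (QuadraticMap.polar (Cfsg.quadFormPlus d F)) W →
        ¬ W.map (Matrix.toLin' (x : Matrix (Fin d ⊕ Fin d) (Fin d ⊕ Fin d) F)) ≤ W := by
  classical
  have h2 : (2 : F) ≠ 0 := two_ne_zero_of_odd_card hodd
  have hcoe := QuadStd.QP_coe (F := F) d
  have hQ := QuadStd.QP_nondeg (F := F) d
  haveI : Nonempty (Fin d ⊕ Fin d) := ⟨Sum.inl ⟨0, hd⟩⟩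
  have hsq : IsSquare ((-1 : F) ^ d) := by
    rcases hcase with h | h
    · rw [h.neg_one_pow]; exact ⟨1, by ring⟩
    · have : IsSquare (-1 : F) := FiniteField.isSquare_neg_one_iff.2 (by omega)
      exact this.pow d
  obtain ⟨x, hxi0, hxx⟩ := exists_sq_neg_one_plus h2 d hsq
  have hxi : x ∈ Cfsg.isometryGroup F ⇑(QP d F) := by rw [hcoe]; exact hxi0
  have hcard : 2 ≤ Fintype.card (Fin d ⊕ Fin d) := by
    rw [Fintype.card_sum, Fintype.card_fin]; omega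
  refine ⟨x, ?_, ⟨-1, ?_⟩, ?_, ?_⟩
  · rw [← hcoe, asm_mem_omegaGL_iff h2 (QP d F) hQ hcard x hxi,
      Phi_sq_neg_one h2 (QP d F) hQ d (by rw [Fintype.card_sum, Fintype.card_fin]; ring)
        ⟨x, hxi⟩ hxx]
    rcases hcase with h | h
    · rw [asm_chi'_pow_even _ d h]; rfl
    · have h4 : IsSquare (2 : F) := FiniteField.isSquare_two_iff.2 (by omega)
      have : chi' (2 : F) = 1 := by unfold chi'; rw [if_pos h4]
      rw [this, one_pow]; rfl
  · rw [Units.val_pow_eq_pow_val, pow_two, hxx, neg_smul, one_smul]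
  · intro z hz
    have hzz := asm_sq_eq_one h2 (QP d F) hQ x hxi 1 z (by rw [pow_one]; exact hz)
    rw [hz] at hxx
    have h4 := congrFun (congrFun hxx (Sum.inl ⟨0, hd⟩)) (Sum.inl ⟨0, hd⟩)
    simp only [Matrix.smul_mul, Matrix.mul_smul, Matrix.one_mul, Matrix.smul_apply,
      Matrix.one_apply_eq, smul_eq_mul, mul_one, Matrix.neg_apply] at h4
    rw [hzz] at h4
    have : (2 : F) = 0 := by linear_combination h4
    exact h2 this
  · intro W hWm hWn hWx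
    have hWn' : NDeg (QP d F) W := by rw [← ndegOn_iff, hcoe]; exact hWn
    set y := Matrix.toLin' (x : Matrix (Fin d ⊕ Fin d) (Fin d ⊕ Fin d) F) with hy
    have hiso : ∀ v, QP d F (y v) = QP d F v := fun v => iso_apply hxi v
    have hyy : ∀ v, y (y v) = -v := by
      intro v
      rw [hy, ← LinearMap.comp_apply, ← Matrix.toLin'_mul, hxx, map_neg, Matrix.toLin'_one]
      rfl
    have := even_finrank_of_sq_neg_one h2 hQ hiso hyy W ((inv_iff y W).2 hWx) hWn'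
    rw [hWm] at this
    exact (Nat.not_even_iff_odd.2 hm) this

end two

end Cfsg.Agent.Lib.Helper5.OPar
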