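import Mathlib
import Cfsg.Prelude.Def_Classical
import Cfsg.Prelude.Def_GeometricClasses
import Cfsg.Agent.Lib.Helper5.OPar_MOD
import Cfsg.Agent.Lib.Helper5.OPar_IDX
import Cfsg.Agent.Lib.Helper5.OPar_A
import Cfsg.Agent.Lib.Helper5.OPar_ASM1
import Cfsg.Agent.Lib.Helper5.OPar_ASM2

set_option autoImplicit false

/-!
Parabolic rows, minus type (S5991): the semisimple part in concrete form.
-/

namespace Cfsg.Agent.Lib.Helper5.OPar

open Module QuadraticMap Polynomial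
open Cfsg.Agent.Lib.Helper2.MaxTS2
open Cfsg.Agent.Lib.Helper2.OrthEl
open Cfsg.Agent.Lib.Helper2.OrthNd
open Cfsg.Agent.H9SemiInv
open Cfsg.Agent.Lib.Helper9.H9Elus
open Cfsg.Agent.Lib.Helper2
open Cfsg.Agent.Lib.Helper5.QuadGlue

section minus
variable {F : Type*} [Field F] [Fintype F] {p : ℕ} [Fact p.Prime] [CharP F p]

theorem asm_finrank_minus (d : ℕ) (hd : 1 ≤ d) :
    finrank F ((Fin (d - 1) ⊕ Fin (d - 1)) ⊕ Fin 2 → F) = 2 * d := by
  classical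
  rw [finrank_minus_space]
  omega

/-- the standard minus form has no totally singular subspace of half the dimension -/
theorem asm_minus_not_isTS (h2 : (2 : F) ≠ 0) (d : ℕ) (hd : 1 ≤ d) (a b : F)
    (hab : ∀ x y : F, x ^ 2 + a * x * y + b * y ^ 2 = 0 → x = 0 ∧ y = 0) :
    ¬ ∃ U : Submodule F ((Fin (d - 1) ⊕ Fin (d - 1)) ⊕ Fin 2 → F),
      IsTS (QM (d - 1) F a b) U ∧
      2 * finrank F U = finrank F ((Fin (d - 1) ⊕ Fin (d - 1)) ⊕ Fin 2 → F) := by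
  classical
  rintro ⟨U, hU1, hU2⟩
  have hQ := QuadStd.QM_nondeg h2 (d - 1) a b hab
  have hd1 : d - 1 + 1 = d := by omega
  have h1 := (plus_iff h2 hQ d (asm_finrank_minus d hd)).1
    ⟨U, by rw [asm_finrank_minus d hd] at hU2; omega, hU1⟩
  rw [dch_QM h2 (d - 1) a b hab, hd1] at h1
  rcases neg_one_char_pow (F := F) d with h | h <;> rw [h] at h1 <;> omega

/-- the existence direction for odd `r ≠ p` -/
theorem par_minus_ss_fix (hodd : Odd (Fintype.card F)) (d m : ℕ) (hd : 1 ≤ d) (hm : Odd m)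
    (hmd : m < d) (a b : F)
    (hab : ∀ x y : F, x ^ 2 + a * x * y + b * y ^ 2 = 0 → x = 0 ∧ y = 0) (W₀ : Submodule F ((Fin (d - 1) ⊕ Fin (d - 1)) ⊕ Fin 2 → F))
    (hW₀ : finrank F W₀ = m ∧
      Cfsg.Geo.IsNondegenerateOn (QuadraticMap.polar (Cfsg.quadFormMinus (d - 1) F a b)) W₀)
    (r : ℕ) [Fact r.Prime] (hrp : r ≠ p) (hr2 : 2 < r)
    (hcond : (blockDim (orderOf ((Fintype.card F : ℕ) : ZMod r)) ≤ m ∧
        m % blockDim (orderOf ((Fintype.card F : ℕ) : ZMod r)) <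
          (2 * d) % blockDim (orderOf ((Fintype.card F : ℕ) : ZMod r))) ∨
      ((2 * d) % blockDim (orderOf ((Fintype.card F : ℕ) : ZMod r)) = 0 ∧
        (Odd (orderOf ((Fintype.card F : ℕ) : ZMod r)) ∨
        Even ((2 * d) / orderOf ((Fintype.card F : ℕ) : ZMod r)))))
    (x : GL ((Fin (d - 1) ⊕ Fin (d - 1)) ⊕ Fin 2) F) (hx : x ∈ Cfsg.Geo.omegaGL (Cfsg.quadFormMinus (d - 1) F a b))
    (hxr : ∃ z : F, ((x ^ r : GL ((Fin (d - 1) ⊕ Fin (d - 1)) ⊕ Fin 2) F) : Matrix ((Fin (d - 1) ⊕ Fin (d - 1)) ⊕ Fin 2) ((Fin (d - 1) ⊕ Fin (d - 1)) ⊕ Fin 2) F)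
      = z • (1 : Matrix ((Fin (d - 1) ⊕ Fin (d - 1)) ⊕ Fin 2) ((Fin (d - 1) ⊕ Fin (d - 1)) ⊕ Fin 2) F))
    (hns : ∀ z : F, (x : Matrix ((Fin (d - 1) ⊕ Fin (d - 1)) ⊕ Fin 2) ((Fin (d - 1) ⊕ Fin (d - 1)) ⊕ Fin 2) F)
      ≠ z • (1 : Matrix ((Fin (d - 1) ⊕ Fin (d - 1)) ⊕ Fin 2) ((Fin (d - 1) ⊕ Fin (d - 1)) ⊕ Fin 2) F)) :
    ∃ W : Submodule F ((Fin (d - 1) ⊕ Fin (d - 1)) ⊕ Fin 2 → F), (finrank F W = m ∧
      Cfsg.Geo.IsNondegenerateOn (QuadraticMap.polar (Cfsg.quadFormMinus (d - 1) F a b)) W ∧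
      Cfsg.Geo.AreIsometricFor (Cfsg.quadFormMinus (d - 1) F a b) W W₀) ∧
      W.map (Matrix.toLin' (x : Matrix ((Fin (d - 1) ⊕ Fin (d - 1)) ⊕ Fin 2) ((Fin (d - 1) ⊕ Fin (d - 1)) ⊕ Fin 2) F)) ≤ W := by
  classical
  have h2 : (2 : F) ≠ 0 := two_ne_zero_of_odd_card hodd
  have hcoe := QuadStd.QM_coe (F := F) (d - 1) a b
  have hQ := QuadStd.QM_nondeg h2 (d - 1) a b hab
  haveI : Nonempty ((Fin (d - 1) ⊕ Fin (d - 1)) ⊕ Fin 2) := ⟨Sum.inr 0⟩
  have hxi : x ∈ Cfsg.isometryGroup F ⇑(QM (d - 1) F a b) := by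
    rw [hcoe]; exact mem_iso_of_mem_omegaGL hx
  have hrodd : Odd r := (Fact.out : r.Prime).odd_of_ne_two (by omega)
  obtain ⟨y, hiso, hyr, hy1, hinv⟩ := asm_normalize h2 (QM (d - 1) F a b) hQ x hxi r hrodd hxr hns
  have hW₀n : NDeg (QM (d - 1) F a b) W₀ := by
    rw [← ndegOn_iff, hcoe]; exact hW₀.2
  set i := orderOf ((Fintype.card F : ℕ) : ZMod r) with hi
  set c := blockDim i with hc
  have H : (c ≤ m ∧ m % c < (2 * d) % c) ∨ ((2 * d) % c = 0 ∧ finrank F (fixS y) ≠ 0) := by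
    rcases hcond with h | ⟨h1, h3⟩
    · exact Or.inl h
    · refine Or.inr ⟨h1, ?_⟩
      intro hfix0
      have hfix : fixS y = ⊥ := Submodule.finrank_eq_zero.1 hfix0
      have hnot := asm_minus_not_isTS h2 d hd a b hab
      rcases Nat.even_or_odd i with hie | hio
      · have h3' : Even ((2 * d) / i) := by
          rcases h3 with h3 | h3
          · exact absurd hie (Nat.not_even_iff_odd.2 h3)
          · exact h3
        have hci : c = i := by rw [hc]; unfold blockDim; rw [if_pos hie]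
        have hdvd : i ∣ 2 * d := by rw [← hci]; exact Nat.dvd_of_mod_eq_zero h1
        have hdim : finrank F ((Fin (d - 1) ⊕ Fin (d - 1)) ⊕ Fin 2 → F) = i * ((2 * d) / i) := by
          rw [asm_finrank_minus d hd, Nat.mul_div_cancel' hdvd]
        have := odd_of_minus hodd hQ hiso r hrp (by omega) hyr hfix hie ((2 * d) / i) hdim hnot
        exact (Nat.not_even_iff_odd.2 this) h3'
      · exact hnot (plus_of_odd hodd hQ hiso r hrp (by omega) hyr hfix hio)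
  obtain ⟨W, hWi, hWn, hWiso⟩ := ss_fix_abstract hodd hQ hiso r hrp (by omega) hyr (2 * d) m
    (asm_finrank_minus d hd) W₀ hW₀n hW₀.1 hm (by omega) H
  refine ⟨W, ⟨?_, ?_, ?_⟩, (hinv W).1 hWi⟩
  · obtain ⟨e, -⟩ := hWiso
    rw [← hW₀.1]
    exact LinearEquiv.finrank_eq e
  · rw [← hcoe, ndegOn_iff]; exact hWn
  · rw [← hcoe, areIso_iff]; exact hWiso

/-- the derangement for odd `r ≠ p` -/
theorem par_minus_ss_bad (hodd : Odd (Fintype.card F)) (d m : ℕ) (hd : 1 ≤ d) (hm : Odd m)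
    (hmd : m < d) (a b : F)
    (hab : ∀ x y : F, x ^ 2 + a * x * y + b * y ^ 2 = 0 → x = 0 ∧ y = 0) (W₀ : Submodule F ((Fin (d - 1) ⊕ Fin (d - 1)) ⊕ Fin 2 → F))
    (hW₀ : finrank F W₀ = m ∧
      Cfsg.Geo.IsNondegenerateOn (QuadraticMap.polar (Cfsg.quadFormMinus (d - 1) F a b)) W₀)
    (r : ℕ) [Fact r.Prime] (hrp : r ≠ p) (hr2 : 2 < r)
    (hrΩ : r ∣ Nat.card {W : Submodule F ((Fin (d - 1) ⊕ Fin (d - 1)) ⊕ Fin 2 → F) // finrank F W = m ∧
      Cfsg.Geo.IsNondegenerateOn (QuadraticMap.polar (Cfsg.quadFormMinus (d - 1) F a b)) W ∧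
      Cfsg.Geo.AreIsometricFor (Cfsg.quadFormMinus (d - 1) F a b) W W₀})
    (hcond : ¬ ((blockDim (orderOf ((Fintype.card F : ℕ) : ZMod r)) ≤ m ∧
        m % blockDim (orderOf ((Fintype.card F : ℕ) : ZMod r)) <
          (2 * d) % blockDim (orderOf ((Fintype.card F : ℕ) : ZMod r))) ∨
      ((2 * d) % blockDim (orderOf ((Fintype.card F : ℕ) : ZMod r)) = 0 ∧
        (Odd (orderOf ((Fintype.card F : ℕ) : ZMod r)) ∨
        Even ((2 * d) / orderOf ((Fintype.card F : ℕ) : ZMod r)))))) :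
    ∃ x : GL ((Fin (d - 1) ⊕ Fin (d - 1)) ⊕ Fin 2) F, x ∈ Cfsg.Geo.omegaGL (Cfsg.quadFormMinus (d - 1) F a b) ∧
      (∃ z : F, ((x ^ r : GL ((Fin (d - 1) ⊕ Fin (d - 1)) ⊕ Fin 2) F) : Matrix ((Fin (d - 1) ⊕ Fin (d - 1)) ⊕ Fin 2) ((Fin (d - 1) ⊕ Fin (d - 1)) ⊕ Fin 2) F)
        = z • (1 : Matrix ((Fin (d - 1) ⊕ Fin (d - 1)) ⊕ Fin 2) ((Fin (d - 1) ⊕ Fin (d - 1)) ⊕ Fin 2) F)) ∧
      (∀ z : F, (x : Matrix ((Fin (d - 1) ⊕ Fin (d - 1)) ⊕ Fin 2) ((Fin (d - 1) ⊕ Fin (d - 1)) ⊕ Fin 2) F)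
        ≠ z • (1 : Matrix ((Fin (d - 1) ⊕ Fin (d - 1)) ⊕ Fin 2) ((Fin (d - 1) ⊕ Fin (d - 1)) ⊕ Fin 2) F)) ∧
      ∀ W : Submodule F ((Fin (d - 1) ⊕ Fin (d - 1)) ⊕ Fin 2 → F), finrank F W = m →
        Cfsg.Geo.IsNondegenerateOn (QuadraticMap.polar (Cfsg.quadFormMinus (d - 1) F a b)) W →
        ¬ W.map (Matrix.toLin' (x : Matrix ((Fin (d - 1) ⊕ Fin (d - 1)) ⊕ Fin 2) ((Fin (d - 1) ⊕ Fin (d - 1)) ⊕ Fin 2) F)) ≤ W := by
  classical
  have h2 : (2 : F) ≠ 0 := two_ne_zero_of_odd_card hodd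
  have hcoe := QuadStd.QM_coe (F := F) (d - 1) a b
  have hQ := QuadStd.QM_nondeg h2 (d - 1) a b hab
  haveI : Nonempty ((Fin (d - 1) ⊕ Fin (d - 1)) ⊕ Fin 2) := ⟨Sum.inr 0⟩
  set i := orderOf ((Fintype.card F : ℕ) : ZMod r) with hi
  set c := blockDim i with hc
  have hipos : 0 < i := order_pos r hrp
  have hcpos : 0 < c := blockDim_pos hipos
  have hceven : Even c := blockDim_even _
  have hrodd : Odd r := (Fact.out : r.Prime).odd_of_ne_two (by omega)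
  have hrq : ¬ r ∣ Fintype.card F := by
    intro h
    have := natCast_card_ne_zero (F := F) r hrp
    exact this ((ZMod.natCast_eq_zero_iff _ _).2 h)
  have hc1 : c ≤ m → (2 * d) % c ≤ m % c :=
    fun h => not_lt.1 (fun h' => hcond (Or.inl ⟨h, h'⟩))
  have hc2 : (2 * d) % c = 0 → Even i ∧ Odd ((2 * d) / i) := by
    intro h0
    constructor
    · by_contra hne
      exact hcond (Or.inr ⟨h0, Or.inl (Nat.not_even_iff_odd.1 hne)⟩)
    · by_contra hne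
      exact hcond (Or.inr ⟨h0, Or.inr (Nat.not_odd_iff_even.1 hne)⟩)
  obtain ⟨c', hc'⟩ := hceven
  obtain ⟨m', hm'⟩ := hm
  have hmdm := Nat.div_add_mod m c
  have hndm := Nat.div_add_mod (2 * d) c
  have hmlt := Nat.mod_lt m hcpos
  have hnlt := Nat.mod_lt (2 * d) hcpos
  -- m % c is odd, (2d) % c is even
  have hpar : m % c ≠ (2 * d) % c := by
    intro h
    have e1 : c * (m / c) = 2 * (c' * (m / c)) := by rw [hc']; ring
    have e2 : c * (2 * d / c) = 2 * (c' * (2 * d / c)) := by rw [hc']; ring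
    omega
  -- the index lemma: if m < (2d) % c we get a contradiction
  have hidx : ¬ (m < (2 * d) % c) := by
    intro hlt
    by_cases hJ0 : 1 ≤ (2 * d) / c
    · obtain ⟨x, hxi, hxr, hx1, hfix⟩ := mod_exists_model_minus hodd d hd a b hab r hrp (by omega) ((2 * d) / c)
        ((2 * d) % c) hJ0 (by rw [← hc]; exact hndm.symm) (by intro h0; omega)
      have hxi' : x ∈ Cfsg.isometryGroup F ⇑(QM (d - 1) F a b) := by rw [hcoe]; exact hxi
      refine idx_model hodd (QM (d - 1) F a b) hQ r hrp (by omega) m (by omega) W₀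
        (by rw [hcoe]; exact hW₀) x hxi' hxr (by rw [hfix]; exact hnlt) (by rw [hfix]; exact hlt) ?_
      rw [hcoe]
      exact hrΩ
    · have hlt2 : 2 * d < c := by
        by_contra hcon
        push_neg at hcon
        exact hJ0 ((Nat.one_le_div_iff hcpos).2 hcon)
      refine idx_small hodd (QM (d - 1) F a b) hQ r hrp (by omega) m W₀ (by rw [hcoe]; exact hW₀)
        (by rw [asm_finrank_minus d hd]; exact hlt2) ?_
      rw [hcoe]
      exact hrΩ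
  -- hence (2d) % c < m % c or ((2d) % c = 0 and the second clause fails)
  have hbad : (2 * d) % c < m % c ∨ (2 * d) % c = 0 := by
    by_cases h0 : (2 * d) % c = 0
    · exact Or.inr h0
    · left
      by_contra hcon
      push_neg at hcon
      have hlt : m % c < (2 * d) % c := lt_of_le_of_ne hcon hpar
      by_cases hcm : c ≤ m
      · exact absurd hlt (not_lt.2 (hc1 hcm))
      · push_neg at hcm
        rw [Nat.mod_eq_of_lt hcm] at hlt
        exact hidx hlt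
  -- the model
  have hJ : 1 ≤ (2 * d) / c := by
    rw [Nat.one_le_div_iff hcpos]
    by_contra hcon
    push_neg at hcon
    rw [Nat.mod_eq_of_lt hcon] at hbad hidx
    have hmc : m < c := by omega
    rw [Nat.mod_eq_of_lt hmc] at hbad
    omega
  have hmodpos : 0 < m % c := by
    rcases Nat.eq_zero_or_pos (m % c) with h | h
    · have e1 : c * (m / c) = 2 * (c' * (m / c)) := by rw [hc']; ring
      omega
    · exact h
  obtain ⟨x, hxi, hxr, hx1, hfix⟩ := mod_exists_model_minus hodd d hd a b hab r hrp (by omega) ((2 * d) / c)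
    ((2 * d) % c) hJ (by rw [← hc]; exact hndm.symm) (by
      intro h0
      obtain ⟨hieven, hJ1⟩ := hc2 h0
      have hci : c = i := by rw [hc]; unfold blockDim; rw [if_pos hieven]
      rw [hci]
      exact ⟨hieven, hJ1⟩)
  have hxi' : x ∈ Cfsg.isometryGroup F ⇑(QM (d - 1) F a b) := by rw [hcoe]; exact hxi
  set y := Matrix.toLin' (x : Matrix ((Fin (d - 1) ⊕ Fin (d - 1)) ⊕ Fin 2) ((Fin (d - 1) ⊕ Fin (d - 1)) ⊕ Fin 2) F) with hy
  have hiso : ∀ v, QM (d - 1) F a b (y v) = QM (d - 1) F a b v := fun v => iso_apply hxi' v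
  have hyr : y ^ r = 1 := toLin'_pow_eq_one hxr
  refine ⟨x, ?_, ⟨1, by rw [hxr, one_smul]; rfl⟩, ?_, ?_⟩
  · obtain ⟨k, hk⟩ := hrodd
    have hcard : 2 ≤ Fintype.card ((Fin (d - 1) ⊕ Fin (d - 1)) ⊕ Fin 2) := by
      rw [Fintype.card_sum, Fintype.card_fin]; omega
    exact mem_omegaGL_of_odd_order h2 (QM (d - 1) F a b) _ hcoe hQ hcard x hxi k (by rw [← hk]; exact hxr)
  · intro z hz
    have hzz := asm_sq_eq_one h2 (QM (d - 1) F a b) hQ x hxi' 1 z (by rw [pow_one]; exact hz)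
    -- z ^ r = 1 and z ^ 2 = 1 give z = 1
    have hzr : z ^ r = 1 := by
      have h3 : ((x ^ r : GL ((Fin (d - 1) ⊕ Fin (d - 1)) ⊕ Fin 2) F) : Matrix ((Fin (d - 1) ⊕ Fin (d - 1)) ⊕ Fin 2) ((Fin (d - 1) ⊕ Fin (d - 1)) ⊕ Fin 2) F)
          = (z • (1 : Matrix ((Fin (d - 1) ⊕ Fin (d - 1)) ⊕ Fin 2) ((Fin (d - 1) ⊕ Fin (d - 1)) ⊕ Fin 2) F)) ^ r := by
        rw [Units.val_pow_eq_pow_val, hz]
      rw [hxr, _root_.smul_pow, one_pow] at h3
      have h4 := congrFun (congrFun h3 (Sum.inr 0)) (Sum.inr 0)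
      simp only [Units.val_one, Matrix.one_apply_eq, Matrix.smul_apply, smul_eq_mul, mul_one] at h4
      exact h4.symm
    have hz1 : z = 1 := by
      obtain ⟨k, hk⟩ := hrodd
      rw [hk, pow_succ, pow_mul, pow_two, hzz, one_pow, one_mul] at hzr
      exact hzr
    apply hx1
    apply Units.ext
    rw [hz, hz1, one_smul]
    rfl
  · intro W hWm hWn hWx
    have hWn' : NDeg (QM (d - 1) F a b) W := by rw [← ndegOn_iff, hcoe]; exact hWn
    have hWi : Inv y W := (inv_iff y W).2 hWx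
    rcases hbad with hb | hb
    · exact ss_bad_abstract hodd hQ hiso r hrp (by omega) hyr m ((2 * d) % c) hfix hb W hWi hWn' hWm
    · rw [hb] at hfix
      exact ss_bad_abstract hodd hQ hiso r hrp (by omega) hyr m 0 hfix hmodpos W hWi hWn' hWm

end minus

end Cfsg.Agent.Lib.Helper5.OPar
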