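import Mathlib
import Cfsg.Prelude.Def_Classical
import Cfsg.Prelude.Def_GeometricClasses
import Cfsg.Agent.Lib.Helper5.OPar_ASM4
import Cfsg.Agent.Lib.Helper5.OPar_ASM5

set_option autoImplicit false

/-!
Parabolic rows, minus type (S5991): the case `r = 2`.
-/

namespace Cfsg.Agent.Lib.Helper5.OPar

open Module QuadraticMap Polynomial
open Cfsg.Agent.Lib.Helper2.MaxTS2
open Cfsg.Agent.Lib.Helper2.OrthEl
open Cfsg.Agent.H9SemiInv
open Cfsg.Agent.Lib.Helper2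
open Cfsg.Agent.Lib.Helper5.QuadGlue

section twominus
variable {F : Type*} [Field F] [Fintype F]

/-- `r = 2`, existence direction -/
theorem par_minus_two_fix (hodd : Odd (Fintype.card F)) (d m : ℕ) (hd : 1 ≤ d) (hm : Odd m)
    (hmd : m < d) (a b : F)
    (hab : ∀ x y : F, x ^ 2 + a * x * y + b * y ^ 2 = 0 → x = 0 ∧ y = 0) (W₀ : Submodule F ((Fin (d - 1) ⊕ Fin (d - 1)) ⊕ Fin 2 → F))
    (hW₀ : finrank F W₀ = m ∧
      Cfsg.Geo.IsNondegenerateOn (QuadraticMap.polar (Cfsg.quadFormMinus (d - 1) F a b)) W₀)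
    (hcase : Even d ∨ Fintype.card F % 8 ≠ 7)
    (x : GL ((Fin (d - 1) ⊕ Fin (d - 1)) ⊕ Fin 2) F) (hx : x ∈ Cfsg.Geo.omegaGL (Cfsg.quadFormMinus (d - 1) F a b))
    (hxr : ∃ z : F, ((x ^ 2 : GL ((Fin (d - 1) ⊕ Fin (d - 1)) ⊕ Fin 2) F) : Matrix ((Fin (d - 1) ⊕ Fin (d - 1)) ⊕ Fin 2) ((Fin (d - 1) ⊕ Fin (d - 1)) ⊕ Fin 2) F)
      = z • (1 : Matrix ((Fin (d - 1) ⊕ Fin (d - 1)) ⊕ Fin 2) ((Fin (d - 1) ⊕ Fin (d - 1)) ⊕ Fin 2) F)) :
    ∃ W : Submodule F ((Fin (d - 1) ⊕ Fin (d - 1)) ⊕ Fin 2 → F), (finrank F W = m ∧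
      Cfsg.Geo.IsNondegenerateOn (QuadraticMap.polar (Cfsg.quadFormMinus (d - 1) F a b)) W ∧
      Cfsg.Geo.AreIsometricFor (Cfsg.quadFormMinus (d - 1) F a b) W W₀) ∧
      W.map (Matrix.toLin' (x : Matrix ((Fin (d - 1) ⊕ Fin (d - 1)) ⊕ Fin 2) ((Fin (d - 1) ⊕ Fin (d - 1)) ⊕ Fin 2) F)) ≤ W := by
  classical
  have h2 : (2 : F) ≠ 0 := two_ne_zero_of_odd_card hodd
  have hcoe := QuadStd.QM_coe (F := F) (d - 1) a b
  have hQ := QuadStd.QM_nondeg h2 (d - 1) a b hab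
  haveI : Nonempty ((Fin (d - 1) ⊕ Fin (d - 1)) ⊕ Fin 2) := ⟨Sum.inr 0⟩
  have hxi : x ∈ Cfsg.isometryGroup F ⇑(QM (d - 1) F a b) := by
    rw [hcoe]; exact mem_iso_of_mem_omegaGL hx
  have hW₀n : NDeg (QM (d - 1) F a b) W₀ := by
    rw [← ndegOn_iff, hcoe]; exact hW₀.2
  rcases asm_sq_cases h2 (QM (d - 1) F a b) hQ x hxi hxr with h1 | h1
  · -- x ^ 2 = 1
    set y := Matrix.toLin' (x : Matrix ((Fin (d - 1) ⊕ Fin (d - 1)) ⊕ Fin 2) ((Fin (d - 1) ⊕ Fin (d - 1)) ⊕ Fin 2) F) with hy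
    have hiso : ∀ v, QM (d - 1) F a b (y v) = QM (d - 1) F a b v := fun v => iso_apply hxi v
    have hyy : y ^ 2 = 1 := by
      rw [hy, ← Matrix.toLin'_pow, pow_two, h1, Matrix.toLin'_one]
      rfl
    obtain ⟨W, hWi, hWn, hWiso⟩ := exists_fixed_invol h2 hQ hiso hyy W₀ hW₀n
      (by rw [hW₀.1, asm_finrank_minus d hd]; omega)
    refine ⟨W, ⟨?_, ?_, ?_⟩, (inv_iff y W).1 hWi⟩
    · obtain ⟨e, -⟩ := hWiso
      rw [← hW₀.1]
      exact LinearEquiv.finrank_eq e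
    · rw [← hcoe, ndegOn_iff]; exact hWn
    · rw [← hcoe, areIso_iff]; exact hWiso
  · -- x ^ 2 = -1 is impossible
    exfalso
    have hxi0 : x ∈ Cfsg.isometryGroup F (Cfsg.quadFormMinus (d - 1) F a b) := mem_iso_of_mem_omegaGL hx
    have hnsq := not_isSquare_of_minus_sq_neg_one h2 d hd a b hab x hxi0 h1
    rcases Nat.even_or_odd d with hde | hdodd
    · apply hnsq
      rw [hde.neg_one_pow]
      exact ⟨1, by ring⟩
    rw [hdodd.neg_one_pow] at hnsq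
    have hq4 : Fintype.card F % 4 = 3 := by
      by_contra hcon
      exact hnsq (FiniteField.isSquare_neg_one_iff.2 hcon)
    have hcard : 2 ≤ Fintype.card ((Fin (d - 1) ⊕ Fin (d - 1)) ⊕ Fin 2) := by
      simp only [Fintype.card_sum, Fintype.card_fin]; omega
    have hx' : x ∈ Cfsg.Geo.omegaGL ⇑(QM (d - 1) F a b) := by rw [hcoe]; exact hx
    have hphi := (asm_mem_omegaGL_iff h2 (QM (d - 1) F a b) hQ hcard x hxi).1 hx'
    rw [Phi_sq_neg_one h2 (QM (d - 1) F a b) hQ d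
      (by simp only [Fintype.card_sum, Fintype.card_fin]; omega)
      ⟨x, hxi⟩ h1, asm_chi'_pow_odd _ d hdodd] at hphi
    have h3 : chi' (2 : F) = 1 := (Prod.ext_iff.1 hphi).2
    have h4 : IsSquare (2 : F) := by
      unfold chi' at h3
      by_contra hcon
      rw [if_neg hcon] at h3
      exact absurd h3 (by decide)
    have h5 := FiniteField.isSquare_two_iff.1 h4
    rcases hcase with h | h
    · exact (Nat.not_even_iff_odd.2 hdodd) h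
    · omega

/-- `r = 2`, the derangement -/
theorem par_minus_two_bad (hodd : Odd (Fintype.card F)) (d m : ℕ) (hd : 1 ≤ d) (hm : Odd m) (a b : F)
    (hab : ∀ x y : F, x ^ 2 + a * x * y + b * y ^ 2 = 0 → x = 0 ∧ y = 0)
    (hdodd : Odd d) (hq8 : Fintype.card F % 8 = 7) :
    ∃ x : GL ((Fin (d - 1) ⊕ Fin (d - 1)) ⊕ Fin 2) F, x ∈ Cfsg.Geo.omegaGL (Cfsg.quadFormMinus (d - 1) F a b) ∧
      (∃ z : F, ((x ^ 2 : GL ((Fin (d - 1) ⊕ Fin (d - 1)) ⊕ Fin 2) F) : Matrix ((Fin (d - 1) ⊕ Fin (d - 1)) ⊕ Fin 2) ((Fin (d - 1) ⊕ Fin (d - 1)) ⊕ Fin 2) F)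
        = z • (1 : Matrix ((Fin (d - 1) ⊕ Fin (d - 1)) ⊕ Fin 2) ((Fin (d - 1) ⊕ Fin (d - 1)) ⊕ Fin 2) F)) ∧
      (∀ z : F, (x : Matrix ((Fin (d - 1) ⊕ Fin (d - 1)) ⊕ Fin 2) ((Fin (d - 1) ⊕ Fin (d - 1)) ⊕ Fin 2) F)
        ≠ z • (1 : Matrix ((Fin (d - 1) ⊕ Fin (d - 1)) ⊕ Fin 2) ((Fin (d - 1) ⊕ Fin (d - 1)) ⊕ Fin 2) F)) ∧
      ∀ W : Submodule F ((Fin (d - 1) ⊕ Fin (d - 1)) ⊕ Fin 2 → F), finrank F W = m →
        Cfsg.Geo.IsNondegenerateOn (QuadraticMap.polar (Cfsg.quadFormMinus (d - 1) F a b)) W →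
        ¬ W.map (Matrix.toLin' (x : Matrix ((Fin (d - 1) ⊕ Fin (d - 1)) ⊕ Fin 2) ((Fin (d - 1) ⊕ Fin (d - 1)) ⊕ Fin 2) F)) ≤ W := by
  classical
  have h2 : (2 : F) ≠ 0 := two_ne_zero_of_odd_card hodd
  have hcoe := QuadStd.QM_coe (F := F) (d - 1) a b
  have hQ := QuadStd.QM_nondeg h2 (d - 1) a b hab
  haveI : Nonempty ((Fin (d - 1) ⊕ Fin (d - 1)) ⊕ Fin 2) := ⟨Sum.inr 0⟩
  have hnsq : ¬ IsSquare ((-1 : F) ^ d) := by
    rw [hdodd.neg_one_pow]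
    intro h
    have := FiniteField.isSquare_neg_one_iff.1 h
    omega
  obtain ⟨x, hxi0, hxx⟩ := exists_sq_neg_one_minus h2 d hd a b hab hnsq
  have hxi : x ∈ Cfsg.isometryGroup F ⇑(QM (d - 1) F a b) := by rw [hcoe]; exact hxi0
  have hcard : 2 ≤ Fintype.card ((Fin (d - 1) ⊕ Fin (d - 1)) ⊕ Fin 2) := by
    simp only [Fintype.card_sum, Fintype.card_fin]; omega
  refine ⟨x, ?_, ⟨-1, ?_⟩, ?_, ?_⟩
  · rw [← hcoe, asm_mem_omegaGL_iff h2 (QM (d - 1) F a b) hQ hcard x hxi,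
      Phi_sq_neg_one h2 (QM (d - 1) F a b) hQ d (by simp only [Fintype.card_sum, Fintype.card_fin]; omega)
        ⟨x, hxi⟩ hxx]
    have h4 : IsSquare (2 : F) := FiniteField.isSquare_two_iff.2 (by omega)
    have : chi' (2 : F) = 1 := by unfold chi'; rw [if_pos h4]
    rw [this, one_pow]; rfl
  · rw [Units.val_pow_eq_pow_val, pow_two, hxx, neg_smul, one_smul]
  · intro z hz
    have hzz := asm_sq_eq_one h2 (QM (d - 1) F a b) hQ x hxi 1 z (by rw [pow_one]; exact hz)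
    rw [hz] at hxx
    have h4 := congrFun (congrFun hxx (Sum.inr 0)) (Sum.inr 0)
    simp only [Matrix.smul_mul, Matrix.mul_smul, Matrix.one_mul, Matrix.smul_apply,
      Matrix.one_apply_eq, smul_eq_mul, mul_one, Matrix.neg_apply] at h4
    rw [hzz] at h4
    have : (2 : F) = 0 := by linear_combination h4
    exact h2 this
  · intro W hWm hWn hWx
    have hWn' : NDeg (QM (d - 1) F a b) W := by rw [← ndegOn_iff, hcoe]; exact hWn
    set y := Matrix.toLin' (x : Matrix ((Fin (d - 1) ⊕ Fin (d - 1)) ⊕ Fin 2) ((Fin (d - 1) ⊕ Fin (d - 1)) ⊕ Fin 2) F) with hy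
    have hiso : ∀ v, QM (d - 1) F a b (y v) = QM (d - 1) F a b v := fun v => iso_apply hxi v
    have hyy : ∀ v, y (y v) = -v := by
      intro v
      rw [hy, ← LinearMap.comp_apply, ← Matrix.toLin'_mul, hxx, map_neg, Matrix.toLin'_one]
      rfl
    have := even_finrank_of_sq_neg_one h2 hQ hiso hyy W ((inv_iff y W).2 hWx) hWn'
    rw [hWm] at this
    exact (Nat.not_even_iff_odd.2 hm) this

end twominus

end Cfsg.Agent.Lib.Helper5.OPar
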