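import Mathlib
import Cfsg.Prelude.Def_Classical
import Cfsg.Prelude.Def_GeometricClasses
import Cfsg.Agent.Lib.Helper5.OCf_R2O
import Cfsg.Agent.Lib.Helper5.OPar_ASM6
import Cfsg.Agent.Lib.Helper2.OrthNdT
import Cfsg.Agent.Lib.Helper2.OrthNdL

set_option autoImplicit false

/-!
Elliptic rows (S5988, S5990): the case `r = 2`, `q` odd.
-/

namespace Cfsg.Agent.Lib.Helper5.OEll

open Module QuadraticMap Polynomial
open Cfsg.Agent.Lib.Helper2.MaxTS2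
open Cfsg.Agent.Lib.Helper2.OrthEl
open Cfsg.Agent.Lib.Helper2.OrthNd
open Cfsg.Agent.Lib.Helper2.OrthCf
open Cfsg.Agent.H9SemiInv
open Cfsg.Agent.Lib.Helper2
open Cfsg.Agent.Lib.Helper5.QuadGlue
open Cfsg.Agent.Lib.Helper5.OPar

section gen
variable {F : Type*} [Field F] [Fintype F] {ι : Type} [Fintype ι] [DecidableEq ι]

/-- an isometric involution fixes nondegenerate subspaces of every even dimension and both types -/
theorem ell_fix_of_sq_one (h2 : (2 : F) ≠ 0) (Q : QuadraticForm F (ι → F))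
    (hQ : (polarBilin Q).Nondegenerate) (x : GL ι F) (hxi : x ∈ Cfsg.isometryGroup F ⇑Q)
    (h1 : (x : Matrix ι ι F) * (x : Matrix ι ι F) = 1) (m a : ℕ) (hm : m = 2 * a) (hm0 : 0 < m)
    (hmn : m < Fintype.card ι) (want : Prop) :
    ∃ W : Submodule F (ι → F), (finrank F W = m ∧
      Cfsg.Geo.IsNondegenerateOn (QuadraticMap.polar ⇑Q) W ∧
      (Cfsg.Geo.IsPlusTypeOn ⇑Q W ↔ want)) ∧
      W.map (Matrix.toLin' (x : Matrix ι ι F)) ≤ W := by
  classical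
  set y := Matrix.toLin' (x : Matrix ι ι F) with hy
  have hiso : ∀ v, Q (y v) = Q v := fun v => iso_apply hxi v
  have hyy : y ^ 2 = 1 := by
    rw [hy, ← Matrix.toLin'_pow, pow_two, h1, Matrix.toLin'_one]
    rfl
  obtain ⟨W, hWi, hWn, hWd, hWt⟩ := exists_inv_ndeg_two h2 hQ hiso hyy (Fintype.card ι) m a
    (by rw [Module.finrank_fintype_fun_eq_card]) hm hm0 hmn want
  refine ⟨W, ⟨hWd, ?_, ?_⟩, (inv_iff y W).1 hWi⟩
  · rw [OrthNd.ndegOn_iff]; exact hWn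
  · rw [plusOn_iff]; exact hWt

/-- `x * x = -1` with `-1` a nonsquare: invariant elliptic subspaces of dimension `2a`, `a` odd -/
theorem ell_fix_of_sq_neg_one (h2 : (2 : F) ≠ 0) (Q : QuadraticForm F (ι → F))
    (hQ : (polarBilin Q).Nondegenerate) (d : ℕ) (hcard : Fintype.card ι = 2 * d)
    (x : GL ι F) (hxi : x ∈ Cfsg.isometryGroup F ⇑Q)
    (h1 : (x : Matrix ι ι F) * (x : Matrix ι ι F) = -1) (hns : ¬ IsSquare (-1 : F))
    (m a : ℕ) (hm : m = 2 * a) (ha : Odd a) (had : a ≤ d) :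
    ∃ W : Submodule F (ι → F), (finrank F W = m ∧
      Cfsg.Geo.IsNondegenerateOn (QuadraticMap.polar ⇑Q) W ∧
      ¬ Cfsg.Geo.IsPlusTypeOn ⇑Q W) ∧
      W.map (Matrix.toLin' (x : Matrix ι ι F)) ≤ W := by
  classical
  set y := Matrix.toLin' (x : Matrix ι ι F) with hy
  have hiso : ∀ v, Q (y v) = Q v := fun v => iso_apply hxi v
  have hyy : ∀ v, y (y v) = -v := by
    intro v
    rw [hy, ← LinearMap.comp_apply, ← Matrix.toLin'_mul, h1, map_neg, Matrix.toLin'_one]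
    rfl
  obtain ⟨W, hWi, hWn, hWd⟩ := r2o_exists_inv h2 hQ hiso hyy d
    (by rw [Module.finrank_fintype_fun_eq_card, hcard]) (d - a) (by omega)
  have hWd' : finrank F W = 2 * a := by rw [hWd]; congr 1; omega
  refine ⟨W, ⟨by rw [hWd', hm], ?_, ?_⟩, (inv_iff y W).1 hWi⟩
  · rw [OrthNd.ndegOn_iff]; exact hWn
  · rw [plusOn_iff, r2o_type h2 hQ hiso hyy hns W hWi hWn a hWd']
    exact Nat.not_even_iff_odd.2 ha

/-- `x * x = -1`: no invariant elliptic subspace of dimension `2a` when `-1` is a square or `a` is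
even -/
theorem ell_bad_of_sq_neg_one (h2 : (2 : F) ≠ 0) (Q : QuadraticForm F (ι → F))
    (hQ : (polarBilin Q).Nondegenerate) (x : GL ι F) (hxi : x ∈ Cfsg.isometryGroup F ⇑Q)
    (h1 : (x : Matrix ι ι F) * (x : Matrix ι ι F) = -1) (m a : ℕ) (hm : m = 2 * a)
    (h : IsSquare (-1 : F) ∨ Even a) (W : Submodule F (ι → F)) (hWm : finrank F W = m)
    (hWn : Cfsg.Geo.IsNondegenerateOn (QuadraticMap.polar ⇑Q) W)
    (hWt : ¬ Cfsg.Geo.IsPlusTypeOn ⇑Q W) :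
    ¬ W.map (Matrix.toLin' (x : Matrix ι ι F)) ≤ W := by
  classical
  intro hWx
  set y := Matrix.toLin' (x : Matrix ι ι F) with hy
  have hiso : ∀ v, Q (y v) = Q v := fun v => iso_apply hxi v
  have hyy : ∀ v, y (y v) = -v := by
    intro v
    rw [hy, ← LinearMap.comp_apply, ← Matrix.toLin'_mul, h1, map_neg, Matrix.toLin'_one]
    rfl
  rw [OrthNd.ndegOn_iff] at hWn
  rw [plusOn_iff] at hWt
  exact hWt ((r2o_type_gen h2 hQ hiso hyy a W (by rw [hWm, hm]) ((inv_iff y W).2 hWx) hWn).2 h)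

/-- a non-scalar criterion: `x * x = -1` is not scalar in odd characteristic -/
theorem ell_not_scalar (h2 : (2 : F) ≠ 0) (Q : QuadraticForm F (ι → F))
    (hQ : (polarBilin Q).Nondegenerate) [Nonempty ι] (x : GL ι F)
    (hxi : x ∈ Cfsg.isometryGroup F ⇑Q)
    (hxx : (x : Matrix ι ι F) * (x : Matrix ι ι F) = -1) (z : F) :
    (x : Matrix ι ι F) ≠ z • (1 : Matrix ι ι F) := by
  intro hz
  have hzz := asm_sq_eq_one h2 Q hQ x hxi 1 z (by rw [pow_one]; exact hz)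
  rw [hz] at hxx
  obtain ⟨i⟩ := ‹Nonempty ι›
  have h4 := congrFun (congrFun hxx i) i
  simp only [Matrix.smul_mul, Matrix.mul_smul, Matrix.one_mul, Matrix.smul_apply,
    Matrix.one_apply_eq, smul_eq_mul, mul_one, Matrix.neg_apply] at h4
  rw [hzz] at h4
  have : (2 : F) = 0 := by linear_combination h4
  exact h2 this

/-- `x * x = -1` and `x ∈ Ω` force `χ(2)^d = 1` -/
theorem ell_chi_two_of_mem_omega (h2 : (2 : F) ≠ 0) [DecidableEq F] (Q : QuadraticForm F (ι → F))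
    (hQ : (polarBilin Q).Nondegenerate) (d : ℕ) (hd : 1 ≤ d) (hcard : Fintype.card ι = 2 * d)
    (x : GL ι F) (hxi : x ∈ Cfsg.isometryGroup F ⇑Q)
    (h1 : (x : Matrix ι ι F) * (x : Matrix ι ι F) = -1) :
    x ∈ Cfsg.Geo.omegaGL ⇑Q ↔ chi' (2 : F) ^ d = 1 := by
  rw [asm_mem_omegaGL_iff h2 Q hQ (by omega) x hxi, Phi_sq_neg_one h2 Q hQ d hcard ⟨x, hxi⟩ h1]
  constructor
  · intro h
    exact (Prod.ext_iff.1 h).2
  · intro h
    rw [h]; rfl

theorem ell_chi_two [DecidableEq F] : chi' (2 : F) = 1 ↔ Fintype.card F % 8 ≠ 3 ∧ Fintype.card F % 8 ≠ 5 := by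
  unfold chi'
  constructor
  · intro h
    have h4 : IsSquare (2 : F) := by
      by_contra hcon
      rw [if_neg hcon] at h
      exact absurd h (by decide)
    exact FiniteField.isSquare_two_iff.1 h4
  · intro h
    rw [if_pos (FiniteField.isSquare_two_iff.2 h)]

end gen


section two
variable {F : Type*} [Field F] [Fintype F]

/-- plus type, `r = 2`, `q` odd: the existence direction -/
theorem ell_plus_two_fix (hodd : Odd (Fintype.card F)) (d m : ℕ) (hd : 1 ≤ d) (hm0 : 0 < m)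
    (hme : Even m) (hmd : m < 2 * d)
    (hcond : (Even d ∧ Fintype.card F % 4 = 3 ∧ m % 4 = 2) ∨ (Odd d ∧ Fintype.card F % 8 ≠ 1))
    (x : GL (Fin d ⊕ Fin d) F) (hx : x ∈ Cfsg.Geo.omegaGL (Cfsg.quadFormPlus d F))
    (hxr : ∃ z : F, ((x ^ 2 : GL (Fin d ⊕ Fin d) F) : Matrix (Fin d ⊕ Fin d) (Fin d ⊕ Fin d) F)
      = z • (1 : Matrix (Fin d ⊕ Fin d) (Fin d ⊕ Fin d) F)) :
    ∃ W : Submodule F (Fin d ⊕ Fin d → F), (finrank F W = m ∧
      Cfsg.Geo.IsNondegenerateOn (QuadraticMap.polar (Cfsg.quadFormPlus d F)) W ∧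
      ¬ Cfsg.Geo.IsPlusTypeOn (Cfsg.quadFormPlus d F) W) ∧
      W.map (Matrix.toLin' (x : Matrix (Fin d ⊕ Fin d) (Fin d ⊕ Fin d) F)) ≤ W := by
  classical
  have h2 : (2 : F) ≠ 0 := two_ne_zero_of_odd_card hodd
  have hcoe := QuadStd.QP_coe (F := F) d
  have hQ := QuadStd.QP_nondeg (F := F) d
  haveI : Nonempty (Fin d ⊕ Fin d) := ⟨Sum.inl ⟨0, hd⟩⟩
  have hcard : Fintype.card (Fin d ⊕ Fin d) = 2 * d := by
    rw [Fintype.card_sum, Fintype.card_fin]; ring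
  have hxi : x ∈ Cfsg.isometryGroup F ⇑(QP d F) := by
    rw [hcoe]; exact mem_iso_of_mem_omegaGL hx
  obtain ⟨a, ha⟩ := hme
  rw [← hcoe]
  rcases asm_sq_cases h2 (QP d F) hQ x hxi hxr with h1 | h1
  · obtain ⟨W, ⟨g1, g2, g3⟩, g4⟩ := ell_fix_of_sq_one h2 (QP d F) hQ x hxi h1 m a (by omega) hm0
      (by rw [hcard]; exact hmd) False
    exact ⟨W, ⟨g1, g2, fun h => g3.1 h⟩, g4⟩
  · have hx' : x ∈ Cfsg.Geo.omegaGL ⇑(QP d F) := by rw [hcoe]; exact hx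
    have hchi := (ell_chi_two_of_mem_omega h2 (QP d F) hQ d hd hcard x hxi h1).1 hx'
    rcases hcond with ⟨hde, hq4, hm4⟩ | ⟨hdo, hq8⟩
    · have hns : ¬ IsSquare (-1 : F) := by
        intro h
        exact (FiniteField.isSquare_neg_one_iff.1 h) hq4
      exact ell_fix_of_sq_neg_one h2 (QP d F) hQ d hcard x hxi h1 hns m a (by omega)
        (by rw [Nat.odd_iff]; omega) (by omega)
    · exfalso
      have hxi0 : x ∈ Cfsg.isometryGroup F (Cfsg.quadFormPlus d F) := mem_iso_of_mem_omegaGL hx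
      have hsq := asm_isSquare_neg_one_pow d hdo (isSquare_of_plus_sq_neg_one h2 d x hxi0 h1)
      have hq4 := FiniteField.isSquare_neg_one_iff.1 hsq
      rw [asm_chi'_pow_odd _ d hdo, ell_chi_two] at hchi
      obtain ⟨k, hk⟩ := hodd
      omega

/-- plus type, `r = 2`, `q` odd: the derangement -/
theorem ell_plus_two_bad (hodd : Odd (Fintype.card F)) (d m : ℕ) (hd : 1 ≤ d) (hme : Even m)
    (hcond : ¬ ((Even d ∧ Fintype.card F % 4 = 3 ∧ m % 4 = 2) ∨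
      (Odd d ∧ Fintype.card F % 8 ≠ 1))) :
    ∃ x : GL (Fin d ⊕ Fin d) F, x ∈ Cfsg.Geo.omegaGL (Cfsg.quadFormPlus d F) ∧
      (∃ z : F, ((x ^ 2 : GL (Fin d ⊕ Fin d) F) : Matrix (Fin d ⊕ Fin d) (Fin d ⊕ Fin d) F)
        = z • (1 : Matrix (Fin d ⊕ Fin d) (Fin d ⊕ Fin d) F)) ∧
      (∀ z : F, (x : Matrix (Fin d ⊕ Fin d) (Fin d ⊕ Fin d) F)
        ≠ z • (1 : Matrix (Fin d ⊕ Fin d) (Fin d ⊕ Fin d) F)) ∧
      ∀ W : Submodule F (Fin d ⊕ Fin d → F), finrank F W = m →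
        Cfsg.Geo.IsNondegenerateOn (QuadraticMap.polar (Cfsg.quadFormPlus d F)) W →
        ¬ Cfsg.Geo.IsPlusTypeOn (Cfsg.quadFormPlus d F) W →
        ¬ W.map (Matrix.toLin' (x : Matrix (Fin d ⊕ Fin d) (Fin d ⊕ Fin d) F)) ≤ W := by
  classical
  have h2 : (2 : F) ≠ 0 := two_ne_zero_of_odd_card hodd
  have hcoe := QuadStd.QP_coe (F := F) d
  have hQ := QuadStd.QP_nondeg (F := F) d
  haveI : Nonempty (Fin d ⊕ Fin d) := ⟨Sum.inl ⟨0, hd⟩⟩
  have hcard : Fintype.card (Fin d ⊕ Fin d) = 2 * d := by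
    rw [Fintype.card_sum, Fintype.card_fin]; ring
  have hcase : Even d ∨ Fintype.card F % 8 = 1 := by
    rcases Nat.even_or_odd d with h | h
    · exact Or.inl h
    · right
      by_contra hcon
      exact hcond (Or.inr ⟨h, hcon⟩)
  have hsq : IsSquare ((-1 : F) ^ d) := by
    rcases hcase with h | h
    · rw [h.neg_one_pow]; exact ⟨1, by ring⟩
    · have : IsSquare (-1 : F) := FiniteField.isSquare_neg_one_iff.2 (by omega)
      exact this.pow d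
  obtain ⟨x, hxi0, hxx⟩ := exists_sq_neg_one_plus h2 d hsq
  have hxi : x ∈ Cfsg.isometryGroup F ⇑(QP d F) := by rw [hcoe]; exact hxi0
  obtain ⟨a, ha⟩ := hme
  refine ⟨x, ?_, ⟨-1, ?_⟩, ell_not_scalar h2 (QP d F) hQ x hxi hxx, ?_⟩
  · rw [← hcoe, ell_chi_two_of_mem_omega h2 (QP d F) hQ d hd hcard x hxi hxx]
    rcases hcase with h | h
    · exact asm_chi'_pow_even _ d h
    · rw [ell_chi_two.2 (by omega), one_pow]
  · rw [Units.val_pow_eq_pow_val, pow_two, hxx, neg_smul, one_smul]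
  · rw [← hcoe]
    intro W hWm hWn hWt
    refine ell_bad_of_sq_neg_one h2 (QP d F) hQ x hxi hxx m a (by omega) ?_ W hWm hWn hWt
    by_cases hq4 : Fintype.card F % 4 = 3
    · right
      rcases Nat.even_or_odd d with h | h
      · rw [Nat.even_iff]
        by_contra hcon
        exact hcond (Or.inl ⟨h, hq4, by omega⟩)
      · exfalso
        exact hcond (Or.inr ⟨h, by omega⟩)
    · exact Or.inl (FiniteField.isSquare_neg_one_iff.2 hq4)

/-- minus type, `r = 2`, `q` odd: the existence direction -/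
theorem ell_minus_two_fix (hodd : Odd (Fintype.card F)) (d m : ℕ) (hd : 1 ≤ d) (hm0 : 0 < m)
    (hme : Even m) (hmd : m < 2 * d) (a b : F)
    (hab : ∀ x y : F, x ^ 2 + a * x * y + b * y ^ 2 = 0 → x = 0 ∧ y = 0)
    (hcond : Even d ∨ Fintype.card F % 8 ≠ 7 ∨ m % 4 = 2)
    (x : GL ((Fin (d - 1) ⊕ Fin (d - 1)) ⊕ Fin 2) F)
    (hx : x ∈ Cfsg.Geo.omegaGL (Cfsg.quadFormMinus (d - 1) F a b))
    (hxr : ∃ z : F, ((x ^ 2 : GL ((Fin (d - 1) ⊕ Fin (d - 1)) ⊕ Fin 2) F) : Matrix ((Fin (d - 1) ⊕ Fin (d - 1)) ⊕ Fin 2) ((Fin (d - 1) ⊕ Fin (d - 1)) ⊕ Fin 2) F)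
      = z • (1 : Matrix ((Fin (d - 1) ⊕ Fin (d - 1)) ⊕ Fin 2) ((Fin (d - 1) ⊕ Fin (d - 1)) ⊕ Fin 2) F)) :
    ∃ W : Submodule F ((Fin (d - 1) ⊕ Fin (d - 1)) ⊕ Fin 2 → F), (finrank F W = m ∧
      Cfsg.Geo.IsNondegenerateOn (QuadraticMap.polar (Cfsg.quadFormMinus (d - 1) F a b)) W ∧
      ¬ Cfsg.Geo.IsPlusTypeOn (Cfsg.quadFormMinus (d - 1) F a b) W) ∧
      W.map (Matrix.toLin' (x : Matrix ((Fin (d - 1) ⊕ Fin (d - 1)) ⊕ Fin 2) ((Fin (d - 1) ⊕ Fin (d - 1)) ⊕ Fin 2) F)) ≤ W := by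
  classical
  have h2 : (2 : F) ≠ 0 := two_ne_zero_of_odd_card hodd
  have hcoe := QuadStd.QM_coe (F := F) (d - 1) a b
  have hQ := QuadStd.QM_nondeg h2 (d - 1) a b hab
  haveI : Nonempty ((Fin (d - 1) ⊕ Fin (d - 1)) ⊕ Fin 2) := ⟨Sum.inr 0⟩
  have hcard : Fintype.card ((Fin (d - 1) ⊕ Fin (d - 1)) ⊕ Fin 2) = 2 * d := by
    simp only [Fintype.card_sum, Fintype.card_fin]; omega
  have hxi : x ∈ Cfsg.isometryGroup F ⇑(QM (d - 1) F a b) := by
    rw [hcoe]; exact mem_iso_of_mem_omegaGL hx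
  obtain ⟨a', ha⟩ := hme
  rw [← hcoe]
  rcases asm_sq_cases h2 (QM (d - 1) F a b) hQ x hxi hxr with h1 | h1
  · obtain ⟨W, ⟨g1, g2, g3⟩, g4⟩ := ell_fix_of_sq_one h2 (QM (d - 1) F a b) hQ x hxi h1 m a'
      (by omega) hm0 (by rw [hcard]; exact hmd) False
    exact ⟨W, ⟨g1, g2, fun h => g3.1 h⟩, g4⟩
  · have hx' : x ∈ Cfsg.Geo.omegaGL ⇑(QM (d - 1) F a b) := by rw [hcoe]; exact hx
    have hchi := (ell_chi_two_of_mem_omega h2 (QM (d - 1) F a b) hQ d hd hcard x hxi h1).1 hx'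
    have hxi0 : x ∈ Cfsg.isometryGroup F (Cfsg.quadFormMinus (d - 1) F a b) :=
      mem_iso_of_mem_omegaGL hx
    have hnsq := not_isSquare_of_minus_sq_neg_one h2 d hd a b hab x hxi0 h1
    rcases Nat.even_or_odd d with hde | hdodd
    · exfalso
      apply hnsq
      rw [hde.neg_one_pow]
      exact ⟨1, by ring⟩
    rw [hdodd.neg_one_pow] at hnsq
    have hq4 : Fintype.card F % 4 = 3 := by
      by_contra hcon
      exact hnsq (FiniteField.isSquare_neg_one_iff.2 hcon)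
    rw [asm_chi'_pow_odd _ d hdodd, ell_chi_two] at hchi
    have hm4 : m % 4 = 2 := by
      rcases hcond with h | h | h
      · exact absurd h (Nat.not_even_iff_odd.2 hdodd)
      · omega
      · exact h
    exact ell_fix_of_sq_neg_one h2 (QM (d - 1) F a b) hQ d hcard x hxi h1 hnsq m a' (by omega)
      (by rw [Nat.odd_iff]; omega) (by omega)

/-- minus type, `r = 2`, `q` odd: the derangement -/
theorem ell_minus_two_bad (hodd : Odd (Fintype.card F)) (d m : ℕ) (hd : 1 ≤ d) (hme : Even m)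
    (a b : F) (hab : ∀ x y : F, x ^ 2 + a * x * y + b * y ^ 2 = 0 → x = 0 ∧ y = 0)
    (hcond : ¬ (Even d ∨ Fintype.card F % 8 ≠ 7 ∨ m % 4 = 2)) :
    ∃ x : GL ((Fin (d - 1) ⊕ Fin (d - 1)) ⊕ Fin 2) F,
      x ∈ Cfsg.Geo.omegaGL (Cfsg.quadFormMinus (d - 1) F a b) ∧
      (∃ z : F, ((x ^ 2 : GL ((Fin (d - 1) ⊕ Fin (d - 1)) ⊕ Fin 2) F) : Matrix ((Fin (d - 1) ⊕ Fin (d - 1)) ⊕ Fin 2) ((Fin (d - 1) ⊕ Fin (d - 1)) ⊕ Fin 2) F)
        = z • (1 : Matrix ((Fin (d - 1) ⊕ Fin (d - 1)) ⊕ Fin 2) ((Fin (d - 1) ⊕ Fin (d - 1)) ⊕ Fin 2) F)) ∧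
      (∀ z : F, (x : Matrix ((Fin (d - 1) ⊕ Fin (d - 1)) ⊕ Fin 2) ((Fin (d - 1) ⊕ Fin (d - 1)) ⊕ Fin 2) F)
        ≠ z • (1 : Matrix ((Fin (d - 1) ⊕ Fin (d - 1)) ⊕ Fin 2) ((Fin (d - 1) ⊕ Fin (d - 1)) ⊕ Fin 2) F)) ∧
      ∀ W : Submodule F ((Fin (d - 1) ⊕ Fin (d - 1)) ⊕ Fin 2 → F), finrank F W = m →
        Cfsg.Geo.IsNondegenerateOn (QuadraticMap.polar (Cfsg.quadFormMinus (d - 1) F a b)) W →
        ¬ Cfsg.Geo.IsPlusTypeOn (Cfsg.quadFormMinus (d - 1) F a b) W →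
        ¬ W.map (Matrix.toLin' (x : Matrix ((Fin (d - 1) ⊕ Fin (d - 1)) ⊕ Fin 2) ((Fin (d - 1) ⊕ Fin (d - 1)) ⊕ Fin 2) F)) ≤ W := by
  classical
  have h2 : (2 : F) ≠ 0 := two_ne_zero_of_odd_card hodd
  have hcoe := QuadStd.QM_coe (F := F) (d - 1) a b
  have hQ := QuadStd.QM_nondeg h2 (d - 1) a b hab
  haveI : Nonempty ((Fin (d - 1) ⊕ Fin (d - 1)) ⊕ Fin 2) := ⟨Sum.inr 0⟩
  have hcard : Fintype.card ((Fin (d - 1) ⊕ Fin (d - 1)) ⊕ Fin 2) = 2 * d := by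
    simp only [Fintype.card_sum, Fintype.card_fin]; omega
  push_neg at hcond
  obtain ⟨hdne, hq8, hm4⟩ := hcond
  have hdodd : Odd d := Nat.not_even_iff_odd.1 hdne
  have hnsq : ¬ IsSquare ((-1 : F) ^ d) := by
    rw [hdodd.neg_one_pow]
    intro h
    have := FiniteField.isSquare_neg_one_iff.1 h
    omega
  obtain ⟨x, hxi0, hxx⟩ := exists_sq_neg_one_minus h2 d hd a b hab hnsq
  have hxi : x ∈ Cfsg.isometryGroup F ⇑(QM (d - 1) F a b) := by rw [hcoe]; exact hxi0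
  obtain ⟨a', ha⟩ := hme
  refine ⟨x, ?_, ⟨-1, ?_⟩, ell_not_scalar h2 (QM (d - 1) F a b) hQ x hxi hxx, ?_⟩
  · rw [← hcoe, ell_chi_two_of_mem_omega h2 (QM (d - 1) F a b) hQ d hd hcard x hxi hxx,
      ell_chi_two.2 (by omega), one_pow]
  · rw [Units.val_pow_eq_pow_val, pow_two, hxx, neg_smul, one_smul]
  · rw [← hcoe]
    intro W hWm hWn hWt
    refine ell_bad_of_sq_neg_one h2 (QM (d - 1) F a b) hQ x hxi hxx m a' (by omega) ?_ W hWm hWn
      hWt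
    right
    rw [Nat.even_iff]
    omega

end two

end Cfsg.Agent.Lib.Helper5.OEll
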