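import Mathlib
import Cfsg.Prelude.Def_Classical
import Cfsg.Prelude.Def_GeometricClasses
import Cfsg.Agent.Lib.Helper2.OrthCfA
import Cfsg.Agent.Lib.Helper2.OrthElC
import Cfsg.Agent.Lib.Helper5.SpInv2

set_option autoImplicit false

/-!
Elliptic rows (S5988): isometries `y` of a plus-type space of dimension `2d` such that the range of
`y - 1` is totally singular of dimension at least `d - 1` fix no elliptic subspace.  The explicit
element `[[1, J], [0, 1]]` with `J` the alternating antidiagonal matrix.
-/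

namespace Cfsg.Agent.Lib.Helper5.OEll

open Module QuadraticMap Polynomial Matrix
open Cfsg.Agent.Lib.Helper2.MaxTS2
open Cfsg.Agent.Lib.Helper2.OrthEl
open Cfsg.Agent.Lib.Helper2.OrthNd
open Cfsg.Agent.Lib.Helper2.OrthCf
open Cfsg.Agent.H9SemiInv

section abs
variable {F : Type*} [Field F] [Finite F]
variable {V : Type*} [AddCommGroup V] [Module F V] [FiniteDimensional F V]
variable {Q : QuadraticForm F V} {y : V →ₗ[F] V}

/-- the range of `y - 1` totally singular of dimension at least `d - 1`: every invariant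
nondegenerate subspace of even dimension is of plus type -/
theorem ell_plusS_of_range_isTS (hQ : (polarBilin Q).Nondegenerate)
    (hiso : ∀ v, Q (y v) = Q v) (r : ℕ) (hr : 1 ≤ r) (hy : y ^ r = 1) (d : ℕ)
    (hdim : finrank F V = 2 * d) (hV : PlusS Q ⊤)
    (hR : IsTS Q (LinearMap.range (y - 1)))
    (hrk : d ≤ finrank F (LinearMap.range (y - 1)) + 1)
    (W : Submodule F V) (hWi : Inv y W) (hWn : NDeg Q W) (hWe : Even (finrank F W)) :
    PlusS Q W := by
  have hsum := finrank_perp_add hQ W
  rw [hdim] at hsum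
  set N : V →ₗ[F] V := y - 1 with hN
  set W' := perp Q W with hW'
  have hW'i : Inv y W' := inv_perp hiso hr hy hWi
  have hW'n : NDeg Q W' := hWn.perp hQ
  obtain ⟨a, ha⟩ := hWe
  have hW'e : Even (finrank F W') := ⟨d - a, by omega⟩
  have hR₁W : W.map N ≤ W := by
    rintro _ ⟨w, hw, rfl⟩
    rw [hN, LinearMap.sub_apply, Module.End.one_apply]
    exact W.sub_mem (hWi w hw) hw
  have hR₂W : W'.map N ≤ W' := by
    rintro _ ⟨w, hw, rfl⟩
    rw [hN, LinearMap.sub_apply, Module.End.one_apply]
    exact W'.sub_mem (hW'i w hw) hw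
  have hR₁ : IsTS Q (W.map N) := by
    rintro _ ⟨w, -, rfl⟩
    exact hR _ ⟨w, rfl⟩
  have hR₂ : IsTS Q (W'.map N) := by
    rintro _ ⟨w, -, rfl⟩
    exact hR _ ⟨w, rfl⟩
  have hrange : LinearMap.range N = W.map N ⊔ W'.map N := by
    rw [← Submodule.map_sup, hWn.isCompl.sup_eq_top, Submodule.map_top]
  have h1 := two_mul_finrank_le_of_isTS hQ hWn hR₁ hR₁W
  have h2 := two_mul_finrank_le_of_isTS hQ hW'n hR₂ hR₂W
  have h3 := Submodule.finrank_sup_add_finrank_inf_eq (W.map N) (W'.map N)
  rw [← hrange] at h3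
  by_cases hc : finrank F (W.map N) = a
  · exact ⟨W.map N, hR₁W, hR₁, by omega⟩
  · have hc' : 2 * finrank F (W'.map N) = finrank F W' := by omega
    have hW'p : PlusS Q W' := ⟨W'.map N, hR₂W, hR₂, hc'⟩
    have horth : W ≤ perp Q W' := by rw [hW', perp_perp hQ]
    obtain ⟨-, -, h4⟩ := plusS_sup hWn hW'n horth ⟨a, ha⟩ hW'e
    rw [hWn.isCompl.sup_eq_top] at h4
    exact (h4.1 hV).2 hW'p

end abs

section alt
variable {F : Type*} [Field F] {d : ℕ}

/-- the sign of the antidiagonal entry -/
def altSgn (d : ℕ) (F : Type*) [Field F] (i : Fin d) : F :=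
  if i < Fin.rev i then 1 else if Fin.rev i < i then -1 else 0

/-- the alternating antidiagonal matrix -/
def altMat (d : ℕ) (F : Type*) [Field F] : Matrix (Fin d) (Fin d) F :=
  Matrix.of fun i j => if j = Fin.rev i then altSgn d F i else 0

theorem altSgn_rev (i : Fin d) : altSgn d F (Fin.rev i) = - altSgn d F i := by
  unfold altSgn
  rw [Fin.rev_rev]
  rcases lt_trichotomy i (Fin.rev i) with h | h | h
  · rw [if_pos h, if_neg (not_lt.2 h.le), if_pos h]
  · rw [← h, if_neg (lt_irrefl _), if_neg (lt_irrefl _), neg_zero]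
  · rw [if_pos h, if_neg (not_lt.2 h.le), if_pos h, neg_neg]

theorem altSgn_eq_zero (i : Fin d) (h : Fin.rev i = i) : altSgn d F i = 0 := by
  unfold altSgn
  rw [h, if_neg (lt_irrefl _), if_neg (lt_irrefl _)]

theorem altSgn_mul_rev (i : Fin d) :
    altSgn d F i * altSgn d F (Fin.rev i) = if i = Fin.rev i then 0 else -1 := by
  rw [altSgn_rev]
  unfold altSgn
  rcases lt_trichotomy i (Fin.rev i) with h | h | h
  · rw [if_pos h, if_neg h.ne]; ring
  · rw [← h, if_neg (lt_irrefl _), if_neg (lt_irrefl _), if_pos rfl]; ring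
  · rw [if_neg (not_lt.2 h.le), if_pos h, if_neg h.ne']; ring

theorem altMat_mulVec (b : Fin d → F) (i : Fin d) :
    (altMat d F *ᵥ b) i = altSgn d F i * b (Fin.rev i) := by
  unfold altMat Matrix.mulVec dotProduct
  simp only [Matrix.of_apply, ite_mul, zero_mul, Finset.sum_ite_eq', Finset.mem_univ, if_true]

theorem altMat_alt (b : Fin d → F) : b ⬝ᵥ altMat d F *ᵥ b = 0 := by
  unfold dotProduct
  apply Finset.sum_ninvolution Fin.rev
  · intro i
    rw [altMat_mulVec, altMat_mulVec, altSgn_rev, Fin.rev_rev]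
    ring
  · intro i hi hrev
    apply hi
    rw [altMat_mulVec, altSgn_eq_zero i hrev]
    ring
  · intro i
    exact Finset.mem_univ _
  · intro i
    exact Fin.rev_rev i

theorem altMat_mul_self :
    altMat d F * altMat d F =
      Matrix.diagonal (fun i : Fin d => if i = Fin.rev i then (0 : F) else -1) := by
  ext i k
  rw [Matrix.mul_apply, Matrix.diagonal_apply]
  unfold altMat
  simp only [Matrix.of_apply, ite_mul, zero_mul, Finset.sum_ite_eq', Finset.mem_univ, if_true,
    Fin.rev_rev]
  by_cases hik : i = k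
  · subst hik
    rw [if_pos rfl, if_pos rfl, altSgn_mul_rev]
  · rw [if_neg hik, if_neg (fun h => hik h.symm), mul_zero]

theorem altMat_col_zero (i k : Fin d) (hk : k = Fin.rev k) : altMat d F i k = 0 := by
  unfold altMat
  simp only [Matrix.of_apply]
  by_cases h : k = Fin.rev i
  · have : i = k := by
      rw [hk, h, Fin.rev_rev]
    rw [if_pos h, altSgn_eq_zero i (by rw [this]; exact hk.symm)]
  · rw [if_neg h]

theorem altMat_cube : altMat d F * altMat d F * altMat d F = - altMat d F := by
  rw [Matrix.mul_assoc]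
  ext i k
  rw [Matrix.mul_apply, Matrix.neg_apply]
  simp only [altMat_mul_self, Matrix.diagonal_apply]
  simp only [mul_ite, mul_zero, Finset.sum_ite_eq', Finset.mem_univ, if_true]
  by_cases hk : k = Fin.rev k
  · rw [if_pos hk, altMat_col_zero i k hk]; ring
  · rw [if_neg hk]; ring

theorem card_ne_rev (d : ℕ) : Fintype.card {i : Fin d // i ≠ Fin.rev i} = d - d % 2 := by
  rw [Fintype.card_subtype_compl]
  rw [Fintype.card_fin]
  congr 1
  rcases Nat.even_or_odd' d with ⟨k, rfl | rfl⟩
  · have : IsEmpty {i : Fin (2 * k) // i = Fin.rev i} := by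
      constructor
      rintro ⟨i, hi⟩
      have := congrArg Fin.val hi
      rw [Fin.val_rev] at this
      omega
    rw [Fintype.card_eq_zero]
    omega
  · have hk : k < 2 * k + 1 := by omega
    have : ∀ i : Fin (2 * k + 1), i = Fin.rev i ↔ i = ⟨k, hk⟩ := by
      intro i
      rw [Fin.ext_iff, Fin.ext_iff, Fin.val_rev]
      constructor
      · intro h; show (i : ℕ) = k; omega
      · intro h
        have : (i : ℕ) = k := h
        omega
    rw [Fintype.card_congr (Equiv.subtypeEquivRight this), Fintype.card_subtype_eq]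
    omega

theorem altMat_rank [DecidableEq F] : (altMat d F).rank = d - d % 2 := by
  have h1 : (altMat d F * altMat d F).rank = d - d % 2 := by
    rw [altMat_mul_self, Matrix.rank_diagonal, ← card_ne_rev d]
    apply Fintype.card_congr
    apply Equiv.subtypeEquivRight
    intro i
    by_cases h : i = Fin.rev i
    · rw [if_pos h]
      exact ⟨fun h' => absurd rfl h', fun h' => absurd h h'⟩
    · rw [if_neg h]
      exact ⟨fun _ => h, fun _ => neg_ne_zero.2 one_ne_zero⟩
  apply le_antisymm
  · rw [← h1]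
    have : altMat d F = (altMat d F * altMat d F) * (- altMat d F) := by
      rw [Matrix.mul_neg, altMat_cube, neg_neg]
    calc (altMat d F).rank = ((altMat d F * altMat d F) * (- altMat d F)).rank := by rw [← this]
      _ ≤ (altMat d F * altMat d F).rank := Matrix.rank_mul_le_left _ _
  · rw [← h1]
    exact Matrix.rank_mul_le_left _ _

end alt

end Cfsg.Agent.Lib.Helper5.OEll
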