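import Mathlib
import Cfsg.Prelude.Def_Classical
import Cfsg.Prelude.Def_GeometricClasses
import Cfsg.Agent.Lib.Helper5.OEll_B
import Cfsg.Agent.Lib.Helper5.OmegaCrit
import Cfsg.Agent.Lib.Helper5.UniO5
import Cfsg.Agent.Lib.Helper5.OPar_ASM3
import Cfsg.Agent.Lib.Helper2.OrthNdT
import Cfsg.Agent.Lib.Helper2.QuadStd

set_option autoImplicit false

/-!
Elliptic rows (S5988): the element `[[1, J], [0, 1]]` of `Ω⁺_{2d}(q)`, of order `p`, fixing no
elliptic subspace.
-/

namespace Cfsg.Agent.Lib.Helper5.OEll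

open Module QuadraticMap Polynomial Matrix
open Cfsg.Agent.Lib.Helper2.MaxTS2
open Cfsg.Agent.Lib.Helper2.OrthEl
open Cfsg.Agent.Lib.Helper2.OrthNd
open Cfsg.Agent.Lib.Helper2.OrthCf
open Cfsg.Agent.H9SemiInv
open Cfsg.Agent.Lib.Helper2
open Cfsg.Agent.Lib.Helper5.QuadGlue
open Cfsg.Agent.Lib.Helper5.SpInv2
open Cfsg.Agent.Lib.Helper5.OPar

section umat
variable {F : Type*} [Field F] {d : ℕ}

theorem ell_QP_uMat (S : Matrix (Fin d) (Fin d) F) (hS : ∀ b : Fin d → F, b ⬝ᵥ S *ᵥ b = 0)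
    (v : Fin d ⊕ Fin d → F) :
    Cfsg.quadFormPlus d F (uMat S *ᵥ v) = Cfsg.quadFormPlus d F v := by
  rw [uMat_mulVec]
  unfold Cfsg.quadFormPlus
  have h := hS (fun i => v (Sum.inr i))
  unfold dotProduct at h
  simp only [Pi.add_apply, Sum.elim_inl, Sum.elim_inr, Pi.zero_apply, add_zero, add_mul,
    Finset.sum_add_distrib]
  rw [add_eq_left, ← h]
  apply Finset.sum_congr rfl
  intro i _
  exact mul_comm _ _

theorem uMat_mul (S T : Matrix (Fin d) (Fin d) F) : uMat S * uMat T = uMat (T + S) := by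
  unfold uMat
  rw [Matrix.fromBlocks_multiply]
  simp only [Matrix.one_mul, Matrix.mul_one, Matrix.zero_mul, Matrix.mul_zero, add_zero, zero_add]

theorem uMat_zero : uMat (0 : Matrix (Fin d) (Fin d) F) = 1 := by
  unfold uMat
  exact Matrix.fromBlocks_one

theorem uMat_pow (S : Matrix (Fin d) (Fin d) F) (n : ℕ) : uMat S ^ n = uMat (n • S) := by
  induction n with
  | zero => rw [pow_zero, zero_smul, uMat_zero]
  | succ n ih => rw [pow_succ, ih, uMat_mul, succ_nsmul']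

/-- the unit `[[1, S], [0, 1]]` -/
def uUnit (S : Matrix (Fin d) (Fin d) F) : GL (Fin d ⊕ Fin d) F :=
  ⟨uMat S, uMat (-S), by rw [uMat_mul, neg_add_cancel, uMat_zero],
    by rw [uMat_mul, add_neg_cancel, uMat_zero]⟩

theorem uUnit_coe (S : Matrix (Fin d) (Fin d) F) :
    ((uUnit S : GL (Fin d ⊕ Fin d) F) : Matrix (Fin d ⊕ Fin d) (Fin d ⊕ Fin d) F) = uMat S := rfl

theorem uUnit_pow_char (p : ℕ) [CharP F p] (S : Matrix (Fin d) (Fin d) F) : uUnit S ^ p = 1 := by
  apply Units.ext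
  rw [Units.val_pow_eq_pow_val, uUnit_coe, uMat_pow, Units.val_one]
  have : p • S = 0 := by
    rw [← Nat.cast_smul_eq_nsmul F p S, CharP.cast_eq_zero, zero_smul]
  rw [this, uMat_zero]

end umat

section elt
variable {F : Type*} [Field F] [Fintype F] {p : ℕ} [Fact p.Prime] [CharP F p]

/-- an element of order `p` of `Ω⁺_{2d}(q)` without invariant elliptic subspaces -/
theorem ell_exists_unip_plus (d : ℕ) (hd : 3 ≤ d) :
    ∃ x : GL (Fin d ⊕ Fin d) F, x ∈ Cfsg.Geo.omegaGL (Cfsg.quadFormPlus d F) ∧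
      x ^ p = 1 ∧
      (∀ z : F, (x : Matrix (Fin d ⊕ Fin d) (Fin d ⊕ Fin d) F)
        ≠ z • (1 : Matrix (Fin d ⊕ Fin d) (Fin d ⊕ Fin d) F)) ∧
      ∀ W : Submodule F (Fin d ⊕ Fin d → F), Even (finrank F W) →
        Cfsg.Geo.IsNondegenerateOn (QuadraticMap.polar (Cfsg.quadFormPlus d F)) W →
        ¬ Cfsg.Geo.IsPlusTypeOn (Cfsg.quadFormPlus d F) W →
        ¬ W.map (Matrix.toLin' (x : Matrix (Fin d ⊕ Fin d) (Fin d ⊕ Fin d) F)) ≤ W := by
  classical
  have hcoe := QuadStd.QP_coe (F := F) d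
  have hQ := QuadStd.QP_nondeg (F := F) d
  have hcard : Fintype.card (Fin d ⊕ Fin d) = 2 * d := by
    rw [Fintype.card_sum, Fintype.card_fin]; ring
  set x : GL (Fin d ⊕ Fin d) F := uUnit (altMat d F) with hx
  have hxp : x ^ p = 1 := uUnit_pow_char p _
  have hxi0 : x ∈ Cfsg.isometryGroup F (Cfsg.quadFormPlus d F) := by
    intro u v
    exact ell_QP_uMat (altMat d F) altMat_alt u
  have hxi : x ∈ Cfsg.isometryGroup F ⇑(QP d F) := by rw [hcoe]; exact hxi0
  have hrank : ((x : Matrix (Fin d ⊕ Fin d) (Fin d ⊕ Fin d) F) - 1).rank = d - d % 2 := by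
    rw [hx, uUnit_coe, rank_uMat_sub_one, altMat_rank]
  refine ⟨x, ?_, hxp, ?_, ?_⟩
  · rw [← hcoe]
    by_cases h2 : (2 : F) = 0
    · let g : ↥(Cfsg.isometryGroup F ⇑(QP d F)) := ⟨x, hxi⟩
      have hg : g ∈ commutator ↥(Cfsg.isometryGroup F ⇑(QP d F)) := by
        rw [Cfsg.Agent.Lib.Helper5.OmegaCrit.mem_commutator_iff_rank₂ h2 hQ
          (Or.inr (by rw [hcard]; omega)) (by rw [hcard]; omega) g]
        show Even ((x : Matrix (Fin d ⊕ Fin d) (Fin d ⊕ Fin d) F) - 1).rank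
        rw [hrank]
        exact ⟨d / 2, by omega⟩
      exact ⟨g, hg, rfl⟩
    · have hp2 : p ≠ 2 := by
        rintro rfl
        exact h2 (CharTwo.two_eq_zero)
      have hpodd : Odd p := (Fact.out : p.Prime).odd_of_ne_two hp2
      exact Cfsg.Agent.Lib.Helper5.UniO.mem_omegaGL_of_pow_eq_one h2 (QP d F) hQ
        (by rw [hcard]; omega) x hxi p hpodd hxp
  · intro z hz
    rw [hx, uUnit_coe] at hz
    have i0 : Fin d := ⟨0, by omega⟩
    have h := congrFun (congrFun hz (Sum.inl (⟨0, by omega⟩ : Fin d)))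
      (Sum.inr (Fin.rev (⟨0, by omega⟩ : Fin d)))
    have hlt : (⟨0, by omega⟩ : Fin d) < Fin.rev (⟨0, by omega⟩ : Fin d) := by
      rw [Fin.lt_def, Fin.val_rev]
      show 0 < d - (0 + 1)
      omega
    simp only [uMat, Matrix.fromBlocks_apply₁₂, Matrix.smul_apply, smul_eq_mul, altMat,
      Matrix.of_apply, if_true, altSgn, if_pos hlt, Matrix.one_apply, reduceCtorEq, if_false,
      mul_zero] at h
    exact one_ne_zero h
  · intro W hWe hWn hWt hWx
    rw [← hcoe, OrthNd.ndegOn_iff] at hWn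
    rw [← hcoe, plusOn_iff] at hWt
    set y := Matrix.toLin' (x : Matrix (Fin d ⊕ Fin d) (Fin d ⊕ Fin d) F) with hy
    have hiso : ∀ v, QP d F (y v) = QP d F v := fun v => iso_apply hxi v
    have hyp : y ^ p = 1 := toLin'_pow_eq_one hxp
    have hy1 : y - 1 = Matrix.toLin' ((x : Matrix (Fin d ⊕ Fin d) (Fin d ⊕ Fin d) F) - 1) := by
      rw [map_sub, Matrix.toLin'_one]
      rfl
    have hV : PlusS (QP d F) ⊤ := by
      obtain ⟨U, hU, hUd⟩ := asm_plus_isTS (F := F) d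
      exact ⟨U, le_top, hU, by rw [hUd, finrank_top]⟩
    have hR : IsTS (QP d F) (LinearMap.range (y - 1)) := by
      rintro _ ⟨v, rfl⟩
      rw [hy1, Matrix.toLin'_apply, hx, uUnit_coe, Matrix.sub_mulVec, Matrix.one_mulVec,
        uMat_mulVec, add_sub_cancel_left, QP_apply]
      unfold Cfsg.quadFormPlus
      apply Finset.sum_eq_zero
      intro i _
      simp only [Sum.elim_inr, Pi.zero_apply, mul_zero]
    have hrk : d ≤ finrank F (LinearMap.range (y - 1)) + 1 := by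
      have : finrank F (LinearMap.range (y - 1)) = d - d % 2 := by
        rw [hy1, Matrix.toLin'_apply', ← hrank]
        rfl
      rw [this]
      omega
    exact hWt (ell_plusS_of_range_isTS hQ hiso p (Fact.out : p.Prime).one_le hyp d
      (by rw [Module.finrank_fintype_fun_eq_card, hcard]) hV hR hrk W ((inv_iff y W).2 hWx) hWn hWe)

end elt

end Cfsg.Agent.Lib.Helper5.OEll
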