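import Mathlib
import Cfsg.Prelude.Def_Classical
import Cfsg.Prelude.Def_GeometricClasses
import Cfsg.Agent.Lib.Helper5.UniO8

set_option autoImplicit false

/-!
PK-UNI: unipotent derangements on parabolic subspaces (plus type), `r = p` odd.
-/

namespace Cfsg.Agent.Lib.Helper5.OPar

open Module
open Cfsg.Agent.Lib.Helper5.UniO
open Cfsg.Agent.Lib.Helper5.QuadGlue

section uni
variable {F : Type*} [Field F] [Fintype F]

theorem uni_count_replicate_two (n e : ℕ) (hn : Even n) : Even ((Multiset.replicate n 2).count e) := by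
  rw [Multiset.count_replicate]
  split_ifs
  · exact hn
  · exact Even.zero

theorem uni_count_two_odd (a n e : ℕ) (he : Even e) (ha : Odd a) (hn : Even n) :
    Even ((a ::ₘ a ::ₘ Multiset.replicate n 2).count e) := by
  have hae : e ≠ a := by
    rintro rfl
    exact (Nat.not_even_iff_odd.2 ha) he
  rw [Multiset.count_cons_of_ne hae, Multiset.count_cons_of_ne hae]
  exact uni_count_replicate_two n e hn

/-- the partition-level obstruction -/
theorem uni_no_sub (d m : ℕ) (hd : 4 ≤ d) (hm : Odd m) :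
    ∃ μ : Multiset ℕ, (∀ a ∈ μ, 0 < a ∧ a ≤ 3) ∧ (∀ e, Even e → Even (μ.count e)) ∧
      μ.sum = 2 * d ∧ (∃ a ∈ μ, 2 ≤ a) ∧
      ∀ ν : Multiset ℕ, ν ≤ μ → ν.sum = m → (∀ e : ℕ, Even e → Even (ν.count e)) → False := by
  rcases Nat.even_or_odd d with hde | hdo
  · refine ⟨Multiset.replicate d 2, ?_, ?_, ?_, ?_, ?_⟩
    · intro a ha
      rw [Multiset.eq_of_mem_replicate ha]
      omega
    · intro e _
      exact uni_count_replicate_two d e hde
    · rw [Multiset.sum_replicate, smul_eq_mul, mul_comm]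
    · exact ⟨2, Multiset.mem_replicate.2 ⟨by omega, rfl⟩, le_rfl⟩
    · intro ν hν hs _
      have : Even ν.sum := sum_even_of_all_even ν (fun a ha => by
        rw [Multiset.eq_of_mem_replicate (Multiset.mem_of_le hν ha)]
        exact even_two)
      rw [hs] at this
      exact (Nat.not_even_iff_odd.2 hm) this
  · obtain ⟨k, hk⟩ := hdo
    by_cases hm4 : m % 4 = 3
    · refine ⟨1 ::ₘ 1 ::ₘ Multiset.replicate (d - 1) 2, ?_, ?_, ?_, ?_, ?_⟩
      · intro a ha
        rcases Multiset.mem_cons.1 ha with rfl | ha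
        · omega
        rcases Multiset.mem_cons.1 ha with rfl | ha
        · omega
        rw [Multiset.eq_of_mem_replicate ha]
        omega
      · intro e he
        exact uni_count_two_odd 1 (d - 1) e he odd_one ⟨k, by omega⟩
      · rw [Multiset.sum_cons, Multiset.sum_cons, Multiset.sum_replicate, smul_eq_mul]
        omega
      · exact ⟨2, by
          rw [Multiset.mem_cons, Multiset.mem_cons]
          exact Or.inr (Or.inr (Multiset.mem_replicate.2 ⟨by omega, rfl⟩)), le_rfl⟩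
      · intro ν hν hs hev
        obtain ⟨ε₁, ε₂, t, h1, h2, ht, hsum, -⟩ := le_two_split ν 1 1 (d - 1) (by omega) (by omega)
          hν hev
        obtain ⟨t', ht'⟩ := ht
        obtain ⟨m', hm'⟩ := hm
        omega
    · refine ⟨3 ::ₘ 3 ::ₘ Multiset.replicate (d - 3) 2, ?_, ?_, ?_, ?_, ?_⟩
      · intro a ha
        rcases Multiset.mem_cons.1 ha with rfl | ha
        · omega
        rcases Multiset.mem_cons.1 ha with rfl | ha
        · omega
        rw [Multiset.eq_of_mem_replicate ha]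
        omega
      · intro e he
        exact uni_count_two_odd 3 (d - 3) e he (by decide) ⟨k - 1, by omega⟩
      · rw [Multiset.sum_cons, Multiset.sum_cons, Multiset.sum_replicate, smul_eq_mul]
        omega
      · exact ⟨3, Multiset.mem_cons_self _ _, by omega⟩
      · intro ν hν hs hev
        obtain ⟨ε₁, ε₂, t, h1, h2, ht, hsum, -⟩ := le_two_split ν 3 3 (d - 3) (by omega) (by omega)
          hν hev
        obtain ⟨t', ht'⟩ := ht
        obtain ⟨m', hm'⟩ := hm
        omega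

/-- PK-UNI, plus type -/
theorem par_plus_unip (hodd : Odd (Fintype.card F)) (p : ℕ) [Fact p.Prime] [CharP F p] (d m : ℕ)
    (hd : 4 ≤ d) (hm : Odd m) :
    ∃ x : GL (Fin d ⊕ Fin d) F, x ∈ Cfsg.Geo.omegaGL (Cfsg.quadFormPlus d F) ∧ x ^ p = 1 ∧
      (∀ z : F, (x : Matrix (Fin d ⊕ Fin d) (Fin d ⊕ Fin d) F)
        ≠ z • (1 : Matrix (Fin d ⊕ Fin d) (Fin d ⊕ Fin d) F)) ∧
      ∀ W : Submodule F (Fin d ⊕ Fin d → F), finrank F W = m →
        Cfsg.Geo.IsNondegenerateOn (QuadraticMap.polar (Cfsg.quadFormPlus d F)) W →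
        ¬ W.map (Matrix.toLin' (x : Matrix (Fin d ⊕ Fin d) (Fin d ⊕ Fin d) F)) ≤ W := by
  classical
  have h2 := two_ne_zero_of_odd_card hodd
  have hpodd := odd_char_of_odd_card p hodd
  have hp3 : 3 ≤ p := by
    have := (Fact.out : p.Prime).two_le
    obtain ⟨k, hk⟩ := hpodd
    omega
  obtain ⟨μ, hμ1, hμ2, hμ3, hμ4, hμ5⟩ := uni_no_sub d m hd hm
  obtain ⟨x, hxO, hjt⟩ := exists_unip_plus h2 d μ (fun a ha => (hμ1 a ha).1) hμ2 hμ3
  have hcard : Fintype.card (Fin d ⊕ Fin d) = 2 * d := by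
    rw [Fintype.card_sum, Fintype.card_fin, two_mul]
  have hcoe := Cfsg.Agent.Lib.Helper2.QuadStd.QP_coe (F := F) d
  have hxO' : x ∈ Cfsg.isometryGroup F ⇑(QP d F) := by rw [hcoe]; exact hxO
  obtain ⟨hΩ, hxp, hns, hnil⟩ := unip_facts p hodd (QP d F)
    (Cfsg.Agent.Lib.Helper2.QuadStd.QP_nondeg d) (by omega) x hxO' μ hjt (hμ3.trans hcard.symm)
    (fun a ha => le_trans (hμ1 a ha).2 hp3) hμ4
  rw [hcoe] at hΩ
  refine ⟨x, hΩ, hxp, hns, ?_⟩
  intro W hWm hWn hWx
  obtain ⟨ν, hle, hs, hev, -⟩ := sub_partition h2 (QP d F) x hxO' hnil hjt W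
    (by rw [hcoe]; exact hWn) hWx
  exact hμ5 ν hle (hs.trans hWm) hev

end uni

end Cfsg.Agent.Lib.Helper5.OPar
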