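import Mathlib
import Cfsg.Prelude.Def_Classical
import Cfsg.Prelude.Def_GeometricClasses
import Cfsg.Agent.Lib.Helper2.OrthNdU
import Cfsg.Agent.Lib.Helper2.OrthNdM
import Cfsg.Agent.Lib.Helper5.OPar_A
import Cfsg.Agent.Lib.Helper5.OPar_UNI

set_option autoImplicit false

/-!
PK-UNIM, part 1: scaling of the discriminant character and the structure of the fixed space of a
unipotent isometry of Jordan type `(3, 1, 2^(d-2))`.
-/

namespace Cfsg.Agent.Lib.Helper5.OPar

open Module QuadraticMap
open Cfsg.Agent.Lib.Helper2.MaxTS2 Cfsg.Agent.Lib.Helper2.OrthEl Cfsg.Agent.Lib.Helper2.OrthNd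
open Cfsg.Agent.Lib.Helper5.UniO

section smul
variable {F : Type*} [Field F] [Fintype F] [DecidableEq F]
variable {V : Type*} [AddCommGroup V] [Module F V] [FiniteDimensional F V]

/-- scaling a form by `c` multiplies the discriminant character by `χ(c)^dim` -/
theorem unim_dch_smul (Q : QuadraticForm F V) (c : F) :
    dch (c • Q) = (quadraticChar F c) ^ (finrank F V) * dch Q := by
  classical
  set b := Module.finBasis F V with hb
  rw [← dch_eq_of_basis (c • Q) b, ← dch_eq_of_basis Q b]
  have hM : LinearMap.BilinForm.toMatrix b (polarBilin (c • Q)) =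
      c • LinearMap.BilinForm.toMatrix b (polarBilin Q) := by
    ext i j
    rw [Matrix.smul_apply, LinearMap.BilinForm.toMatrix_apply, LinearMap.BilinForm.toMatrix_apply,
      polarBilin_apply_apply, polarBilin_apply_apply]
    simp only [polar, QuadraticMap.smul_apply, smul_eq_mul]
    ring
  rw [hM, Matrix.det_smul, Fintype.card_fin, map_mul, map_pow]

end smul

section kstruct
variable {F : Type*} [Field F]
variable {V : Type*} [AddCommGroup V] [Module F V] [FiniteDimensional F V]
variable {Q : QuadraticForm F V} {y : V →ₗ[F] V}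

omit [FiniteDimensional F V] in
theorem unim_polar_range_fix (hiso : ∀ v, Q (y v) = Q v) (u k : V) (hk : y k = k) :
    polar (⇑Q) ((y - 1) u) k = 0 := by
  rw [LinearMap.sub_apply, Module.End.one_apply, polar_sub_left]
  have := iso_polar hiso u k
  rw [hk] at this
  rw [this, sub_self]

/-- the fixed space of a unipotent isometry whose fixed space has a radical of codimension one -/
theorem unim_kstruct (h2 : (2 : F) ≠ 0) (hQ : (polarBilin Q).Nondegenerate)
    (hiso : ∀ v, Q (y v) = Q v) (d : ℕ) (hd : 1 ≤ d) (hV : finrank F V = 2 * d)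
    (hk1 : finrank F (LinearMap.ker (y - 1)) = d)
    (hk2 : finrank F (LinearMap.ker ((y - 1) ^ 2)) = 2 * d - 1) :
    ∃ a₁ : V, y a₁ = a₁ ∧ Q a₁ ≠ 0 ∧ ∀ w w' : V, y w = w → y w' = w' →
      polar (⇑Q) w w' * (2 * Q a₁) = polar (⇑Q) w a₁ * polar (⇑Q) w' a₁ := by
  set N : V →ₗ[F] V := y - 1 with hN
  set K := LinearMap.ker N with hK
  set R := K ⊓ LinearMap.range N with hR
  have hmemK : ∀ v, v ∈ K ↔ y v = v := by
    intro v
    rw [hK, LinearMap.mem_ker, hN, LinearMap.sub_apply, Module.End.one_apply, sub_eq_zero]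
  -- the dimension of the radical
  have hRdim : finrank F R = d - 1 := by
    have h := finrank_map_add N (LinearMap.ker (N ^ 2))
    have e1 : (LinearMap.ker (N ^ 2)).map N = R := by
      ext v
      rw [Submodule.mem_map, hR, Submodule.mem_inf, LinearMap.mem_range]
      constructor
      · rintro ⟨u, hu, rfl⟩
        rw [LinearMap.mem_ker, pow_two, Module.End.mul_apply] at hu
        exact ⟨LinearMap.mem_ker.2 hu, u, rfl⟩
      · rintro ⟨hv, u, rfl⟩
        refine ⟨u, ?_, rfl⟩
        rw [LinearMap.mem_ker, pow_two, Module.End.mul_apply]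
        exact LinearMap.mem_ker.1 hv
    have e2 : LinearMap.ker (N ^ 2) ⊓ LinearMap.ker N = K := by
      apply inf_eq_right.2
      intro v hv
      rw [LinearMap.mem_ker, pow_two, Module.End.mul_apply, LinearMap.mem_ker.1 hv, map_zero]
    rw [e1, e2, hk2, hk1] at h
    omega
  -- the radical is orthogonal to the fixed space
  have hRK : ∀ ρ ∈ R, ∀ k ∈ K, polar (⇑Q) ρ k = 0 := by
    intro ρ hρ k hk
    obtain ⟨u, rfl⟩ := LinearMap.mem_range.1 hρ.2
    exact unim_polar_range_fix hiso u k ((hmemK k).1 hk)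
  have hpolar_self : ∀ v, polar (⇑Q) v v = 2 * Q v := by
    intro v
    rw [polar_self, two_smul, two_mul]
  -- a nonsingular fixed vector
  have hne : ∃ a₁ ∈ K, Q a₁ ≠ 0 := by
    by_contra hcon
    push_neg at hcon
    have hKK : K ≤ perp Q K := by
      intro k hk
      rw [mem_perp_iff]
      intro k' hk'
      unfold polar
      rw [hcon _ (K.add_mem hk' hk), hcon _ hk, hcon _ hk', sub_zero, sub_zero]
    have hrange : LinearMap.range N ≤ perp Q K := by
      rintro _ ⟨u, rfl⟩
      rw [mem_perp_iff']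
      intro k hk
      exact unim_polar_range_fix hiso u k ((hmemK k).1 hk)
    have hrdim : finrank F (LinearMap.range N) = d := by
      have := LinearMap.finrank_range_add_finrank_ker N
      rw [hk1, hV] at this
      omega
    have hpdim : finrank F ↥(perp Q K) = d := by
      rw [finrank_perp hQ, hV, hk1]
      omega
    have heq : LinearMap.range N = perp Q K :=
      Submodule.eq_of_le_of_finrank_eq hrange (by rw [hrdim, hpdim])
    have hKR : K ≤ R := by
      intro k hk
      exact ⟨hk, by rw [heq]; exact hKK hk⟩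
    have := Submodule.finrank_mono hKR
    rw [hRdim, hk1] at this
    omega
  obtain ⟨a₁, ha₁K, ha₁⟩ := hne
  have ha₁R : a₁ ∉ R := by
    intro h
    have := hRK a₁ h a₁ ha₁K
    rw [hpolar_self] at this
    rcases mul_eq_zero.1 this with h' | h'
    · exact h2 h'
    · exact ha₁ h'
  have hsup : R ⊔ Submodule.span F {a₁} = K := by
    have hle : R ⊔ Submodule.span F {a₁} ≤ K :=
      sup_le inf_le_left ((Submodule.span_singleton_le_iff_mem _ _).2 ha₁K)
    have hlt : R < R ⊔ Submodule.span F {a₁} := by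
      apply lt_of_le_of_ne le_sup_left
      intro h
      apply ha₁R
      rw [h]
      exact Submodule.mem_sup_right (Submodule.mem_span_singleton_self a₁)
    have h1 := Submodule.finrank_lt_finrank_of_lt hlt
    have h3 := Submodule.finrank_mono hle
    rw [hRdim] at h1
    rw [hk1] at h3
    exact Submodule.eq_of_le_of_finrank_eq hle (by rw [hk1]; omega)
  refine ⟨a₁, (hmemK a₁).1 ha₁K, ha₁, ?_⟩
  intro w w' hw hw'
  have hwK : w ∈ R ⊔ Submodule.span F {a₁} := by rw [hsup]; exact (hmemK w).2 hw
  have hwK' : w' ∈ R ⊔ Submodule.span F {a₁} := by rw [hsup]; exact (hmemK w').2 hw'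
  obtain ⟨ρ, hρ, z, hz, rfl⟩ := Submodule.mem_sup.1 hwK
  obtain ⟨β, rfl⟩ := Submodule.mem_span_singleton.1 hz
  obtain ⟨ρ', hρ', z', hz', rfl⟩ := Submodule.mem_sup.1 hwK'
  obtain ⟨β', rfl⟩ := Submodule.mem_span_singleton.1 hz'
  have e1 : polar (⇑Q) ρ ρ' = 0 := hRK ρ hρ ρ' hρ'.1
  have e2 : polar (⇑Q) ρ a₁ = 0 := hRK ρ hρ a₁ ha₁K
  have e3 : polar (⇑Q) ρ' a₁ = 0 := hRK ρ' hρ' a₁ ha₁K
  have e4 : polar (⇑Q) a₁ ρ' = 0 := by rw [polar_comm]; exact e3
  simp only [polar_add_left, polar_add_right, polar_smul_left, polar_smul_right, smul_eq_mul, e1,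
    e2, e3, e4, hpolar_self]
  ring

end kstruct

end Cfsg.Agent.Lib.Helper5.OPar
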