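import Mathlib
import Cfsg.Prelude.Def_Classical
import Cfsg.Prelude.Def_GeometricClasses
import Cfsg.Agent.Lib.Helper5.OPar_UNIM1

set_option autoImplicit false

/-!
PK-UNIM, part 2: for a unipotent isometry of Jordan type `(3, 1, 2^(d-2))`, `d` even, all invariant
nondegenerate subspaces of a given odd dimension have the same discriminant character.
-/

namespace Cfsg.Agent.Lib.Helper5.OPar

open Module QuadraticMap
open Cfsg.Agent.Lib.Helper2.MaxTS2 Cfsg.Agent.Lib.Helper2.OrthEl Cfsg.Agent.Lib.Helper2.OrthNd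
open Cfsg.Agent.Lib.Helper5.UniO

section caseA
variable {F : Type*} [Field F] [Fintype F] [DecidableEq F] {ι : Type} [Fintype ι] [DecidableEq ι]

/-- the span of a nonsingular vector -/
theorem unim_span_singleton (h2 : (2 : F) ≠ 0) (Q : QuadraticForm F (ι → F)) (w₁ : ι → F)
    (hw₁ : Q w₁ ≠ 0) :
    NDeg Q (Submodule.span F {w₁}) ∧ finrank F ↥(Submodule.span F {w₁}) = 1 ∧
      dchS Q (Submodule.span F {w₁}) = quadraticChar F (2 * Q w₁) := by
  have hv : IsFrame Q (fun _ : Unit => w₁) := ⟨fun i j hij => absurd (Subsingleton.elim i j) hij,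
    fun _ => hw₁⟩
  have h := hv.span h2
  rw [Set.range_const] at h
  simpa using h

/-- invariance of the orthogonal complement -/
theorem unim_perp_inv (Q : QuadraticForm F (ι → F)) (x : GL ι F)
    (hx : x ∈ Cfsg.isometryGroup F ⇑Q) (W : Submodule F (ι → F))
    (hWx : W.map (Matrix.toLin' (x : Matrix ι ι F)) ≤ W) :
    (perp Q W).map (Matrix.toLin' (x : Matrix ι ι F)) ≤ perp Q W := by
  have hiso : ∀ v, Q (Matrix.toLin' (x : Matrix ι ι F) v) = Q v := fun v => iso_apply hx v
  have hmap := map_eq_of_map_le x W hWx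
  rintro _ ⟨v, hv, rfl⟩
  rw [mem_perp_iff]
  intro w hw
  rw [← hmap] at hw
  obtain ⟨w₀, hw₀, rfl⟩ := hw
  rw [iso_polar hiso]
  exact (mem_perp_iff W v).1 hv w₀ hw₀

/-- case (A): the subspace contains a nonsingular fixed vector -/
theorem unim_caseA (h2 : (2 : F) ≠ 0) (Q : QuadraticForm F (ι → F))
    (hQ : (polarBilin Q).Nondegenerate)
    (x : GL ι F) (hx : x ∈ Cfsg.isometryGroup F ⇑Q)
    (hnil : IsNilpotent (Matrix.toLin' (x : Matrix ι ι F) - 1))
    (d : ℕ) (hd : 2 ≤ d)
    (hμ : HasJT (Matrix.toLin' (x : Matrix ι ι F) - 1)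
      (3 ::ₘ 1 ::ₘ Multiset.replicate (d - 2) 2))
    (a₁ : ι → F) (ha₁ : Q a₁ ≠ 0)
    (hKS : ∀ w w' : ι → F, Matrix.toLin' (x : Matrix ι ι F) w = w →
      Matrix.toLin' (x : Matrix ι ι F) w' = w' →
      polar (⇑Q) w w' * (2 * Q a₁) = polar (⇑Q) w a₁ * polar (⇑Q) w' a₁)
    (W : Submodule F (ι → F)) (hWn : NDeg Q W)
    (hWx : W.map (Matrix.toLin' (x : Matrix ι ι F)) ≤ W) (hWodd : Odd (finrank F W))
    (w₁ : ι → F) (hw₁W : w₁ ∈ W) (hw₁fix : Matrix.toLin' (x : Matrix ι ι F) w₁ = w₁)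
    (hw₁ : Q w₁ ≠ 0) :
    finrank F W % 4 = 1 ∧
      dchS Q W = quadraticChar F (2 * Q a₁) *
        (quadraticChar F (-1)) ^ ((finrank F W - 1) / 2) := by
  set X := Matrix.toLin' (x : Matrix ι ι F) with hX
  have hiso : ∀ v, Q (X v) = Q v := fun v => iso_apply hx v
  have hpolar_self : ∀ v, polar (⇑Q) v v = 2 * Q v := by
    intro v
    rw [polar_self, two_smul, two_mul]
  obtain ⟨hLn, hLdim, hLd⟩ := unim_span_singleton h2 Q w₁ hw₁
  set L := Submodule.span F {w₁} with hL
  have hLW : L ≤ W := (Submodule.span_singleton_le_iff_mem _ _).2 hw₁W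
  set W₂ := W ⊓ perp Q L with hW₂
  have hW₂n : NDeg Q W₂ := ndeg_inf_perp hWn hLW hLn
  have hW₂dim : finrank F W₂ + 1 = finrank F W := by
    have := finrank_inf_perp hQ hWn hLW
    rw [hLdim] at this
    exact this
  have horth : L ≤ perp Q W₂ := by
    apply le_perp_comm
    exact inf_le_right
  obtain ⟨hsn, hsdim, hsd⟩ := dchS_sup h2 hLn hW₂n horth
  have hsupeq : L ⊔ W₂ = W := by
    apply Submodule.eq_of_le_of_finrank_eq (sup_le hLW inf_le_left)
    rw [hsdim, hLdim]
    omega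
  rw [hsupeq] at hsd
  -- invariance of W₂
  have hW₂x : W₂.map X ≤ W₂ := by
    rintro _ ⟨w, hw, rfl⟩
    refine ⟨hWx (Submodule.mem_map_of_mem hw.1), (mem_perp_iff L _).2 ?_⟩
    intro l hl
    obtain ⟨c, rfl⟩ := Submodule.mem_span_singleton.1 hl
    have h1 : polar (⇑Q) (c • w₁) w = 0 :=
      (mem_perp_iff L w).1 hw.2 (c • w₁) (Submodule.smul_mem _ c (Submodule.mem_span_singleton_self w₁))
    have h3 : polar (⇑Q) (X (c • w₁)) (X w) = polar (⇑Q) (c • w₁) w := iso_polar hiso _ _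
    rw [map_smul, hw₁fix] at h3
    rw [h3, h1]
  obtain ⟨ν₂, hν₂, hsum, hev, hcard, -⟩ := sub_partition' h2 Q x hx hnil hμ W₂
    ((ndegOn_iff Q W₂).2 hW₂n) hW₂x
  obtain ⟨ε₁, ε₂, t, h1, h3, ht, hs, hc⟩ := le_two_split ν₂ 3 1 (d - 2) (by omega) (by omega)
    hν₂ hev
  obtain ⟨t', ht'⟩ := ht
  obtain ⟨m', hm'⟩ := hWodd
  have hε : ε₁ = ε₂ := by omega
  -- the fixed vectors of W₂ are singular
  have hw₁a : polar (⇑Q) w₁ a₁ ≠ 0 := by
    intro h
    have := hKS w₁ w₁ hw₁fix hw₁fix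
    rw [hpolar_self, h, mul_zero] at this
    rcases mul_eq_zero.1 this with h' | h'
    · rcases mul_eq_zero.1 h' with h'' | h''
      · exact h2 h''
      · exact hw₁ h''
    · rcases mul_eq_zero.1 h' with h'' | h''
      · exact h2 h''
      · exact ha₁ h''
  set U := W₂ ⊓ LinearMap.ker (X - 1) with hU
  have hUts : IsTS Q U := by
    intro w hw
    have hwfix : X w = w := by
      have := LinearMap.mem_ker.1 hw.2
      rw [LinearMap.sub_apply, Module.End.one_apply, sub_eq_zero] at this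
      exact this
    have hww₁ : polar (⇑Q) w w₁ = 0 := by
      rw [polar_comm]
      exact (mem_perp_iff L w).1 hw.1.2 w₁ (Submodule.mem_span_singleton_self w₁)
    have e1 := hKS w w₁ hwfix hw₁fix
    rw [hww₁, zero_mul] at e1
    have e2 : polar (⇑Q) w a₁ = 0 := by
      rcases mul_eq_zero.1 e1.symm with h' | h'
      · exact h'
      · exact absurd h' hw₁a
    have e3 := hKS w w hwfix hwfix
    rw [e2, mul_zero, hpolar_self] at e3
    rcases mul_eq_zero.1 e3 with h' | h'
    · rcases mul_eq_zero.1 h' with h'' | h''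
      · exact absurd h'' h2
      · exact h''
    · rcases mul_eq_zero.1 h' with h'' | h''
      · exact absurd h'' h2
      · exact absurd h'' ha₁
  have hplus : PlusS Q W₂ := ⟨U, inf_le_left, hUts, by rw [← hcard, ← hsum]; omega⟩
  have hdimW₂ : finrank F W₂ = 2 * ((finrank F W - 1) / 2) := by omega
  have hd₂ := (plusS_iff h2 hW₂n _ hdimW₂).1 hplus
  refine ⟨by omega, ?_⟩
  rw [hsd, hLd, hd₂]
  congr 1
  -- the square classes of `Q w₁` and `Q a₁` agree
  have e5 := hKS w₁ w₁ hw₁fix hw₁fix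
  rw [hpolar_self] at e5
  have e6 : quadraticChar F (2 * Q w₁) * quadraticChar F (2 * Q a₁) = 1 := by
    rw [← map_mul, e5, ← pow_two]
    exact quadraticChar_sq_one' hw₁a
  have hne₁ : (2 : F) * Q w₁ ≠ 0 := mul_ne_zero h2 hw₁
  have hne₂ : (2 : F) * Q a₁ ≠ 0 := mul_ne_zero h2 ha₁
  rcases quadraticChar_dichotomy hne₁ with h | h <;>
    rcases quadraticChar_dichotomy hne₂ with h' | h' <;> rw [h, h'] at e6 ⊢ <;> simp at e6

/-- the two Jordan-type dimension counts for `(3, 1, 2^(d-2))` -/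
theorem unim_ker_dims {V : Type*} [AddCommGroup V] [Module F V] (N : Module.End F V) (d : ℕ)
    (hd : 2 ≤ d) (hμ : HasJT N (3 ::ₘ 1 ::ₘ Multiset.replicate (d - 2) 2)) :
    finrank F (LinearMap.ker N) = d ∧ finrank F (LinearMap.ker (N ^ 2)) = 2 * d - 1 := by
  constructor
  · have := hμ.2 1
    rw [pow_one] at this
    rw [this]
    simp only [Multiset.map_cons, Multiset.map_replicate, Multiset.sum_cons,
      Multiset.sum_replicate, smul_eq_mul]
    norm_num
    omega
  · rw [hμ.2 2]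
    simp only [Multiset.map_cons, Multiset.map_replicate, Multiset.sum_cons,
      Multiset.sum_replicate, smul_eq_mul]
    norm_num
    omega

/-- all invariant nondegenerate subspaces of a given odd dimension have the same discriminant
character -/
theorem unim_dchS_const (h2 : (2 : F) ≠ 0) (Q : QuadraticForm F (ι → F))
    (hQ : (polarBilin Q).Nondegenerate)
    (x : GL ι F) (hx : x ∈ Cfsg.isometryGroup F ⇑Q)
    (hnil : IsNilpotent (Matrix.toLin' (x : Matrix ι ι F) - 1))
    (d : ℕ) (hd : 2 ≤ d) (hde : Even d) (hdim : finrank F (ι → F) = 2 * d)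
    (hμ : HasJT (Matrix.toLin' (x : Matrix ι ι F) - 1)
      (3 ::ₘ 1 ::ₘ Multiset.replicate (d - 2) 2))
    (m : ℕ) (hm : Odd m)
    (W W' : Submodule F (ι → F)) (hWn : NDeg Q W)
    (hWx : W.map (Matrix.toLin' (x : Matrix ι ι F)) ≤ W) (hWm : finrank F W = m)
    (hWn' : NDeg Q W')
    (hWx' : W'.map (Matrix.toLin' (x : Matrix ι ι F)) ≤ W') (hWm' : finrank F W' = m) :
    dchS Q W = dchS Q W' := by
  set X := Matrix.toLin' (x : Matrix ι ι F) with hX
  have hiso : ∀ v, Q (X v) = Q v := fun v => iso_apply hx v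
  obtain ⟨hk1, hk2⟩ := unim_ker_dims (X - 1) d hd hμ
  obtain ⟨a₁, ha₁fix, ha₁, hKS⟩ := unim_kstruct h2 hQ hiso d (by omega) hdim hk1 hk2
  -- the dichotomy for one subspace
  have key : ∀ W : Submodule F (ι → F), NDeg Q W → W.map X ≤ W → finrank F W = m →
      (m % 4 = 1 ∧ dchS Q W = quadraticChar F (2 * Q a₁) *
        (quadraticChar F (-1)) ^ ((m - 1) / 2)) ∨
      ((2 * d - m) % 4 = 1 ∧ dchS Q W = dchS Q ⊤ * (quadraticChar F (2 * Q a₁) *
        (quadraticChar F (-1)) ^ ((2 * d - m - 1) / 2))) := by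
    intro W hWn hWx hWm
    have hc := hWn.isCompl
    have ha₁top : a₁ ∈ W ⊔ perp Q W := by rw [hc.sup_eq_top]; trivial
    obtain ⟨k, hk, k', hk', hkk⟩ := Submodule.mem_sup.1 ha₁top
    have hPx := unim_perp_inv Q x hx W hWx
    have hXk : X k ∈ W := hWx (Submodule.mem_map_of_mem hk)
    have hXk' : X k' ∈ perp Q W := hPx (Submodule.mem_map_of_mem hk')
    have hdiff : X k - k = k' - X k' := by
      have : X k + X k' = k + k' := by rw [← map_add, hkk, ha₁fix]
      have e : X k - k = (X k + X k') - (k + k') + (k' - X k') := by abel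
      rw [e, this, sub_self, zero_add]
    have hzero : X k - k = 0 := by
      apply (Submodule.disjoint_def.1 hc.disjoint) _ (W.sub_mem hXk hk)
      rw [hdiff]
      exact (perp Q W).sub_mem hk' hXk'
    have hkfix : X k = k := sub_eq_zero.1 hzero
    have hk'fix : X k' = k' := by
      rw [hzero] at hdiff
      exact (sub_eq_zero.1 hdiff.symm).symm
    have hpol : polar (⇑Q) k k' = 0 := (mem_perp_iff W k').1 hk' k hk
    have hQsum : Q a₁ = Q k + Q k' := by
      have h5 : polar (⇑Q) k k' = Q (k + k') - Q k - Q k' := rfl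
      rw [h5, hkk] at hpol
      linear_combination hpol
    have hcases : Q k ≠ 0 ∨ Q k' ≠ 0 := by
      by_contra hcon
      push_neg at hcon
      rw [hcon.1, hcon.2, add_zero] at hQsum
      exact ha₁ hQsum
    rcases hcases with hk0 | hk0
    · left
      have := unim_caseA h2 Q hQ x hx hnil d hd hμ a₁ ha₁ hKS W hWn hWx (by rw [hWm]; exact hm)
        k hk hkfix hk0
      rw [hWm] at this
      exact this
    · right
      have hPn : NDeg Q (perp Q W) := hWn.perp hQ
      have hPdim : finrank F ↥(perp Q W) = 2 * d - m := by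
        rw [finrank_perp hQ, hdim, hWm]
      have hmle : m ≤ 2 * d := by
        rw [← hWm, ← hdim]
        exact Submodule.finrank_le W
      have hPodd : Odd (finrank F ↥(perp Q W)) := by
        rw [hPdim]
        obtain ⟨m', hm'⟩ := hm
        exact ⟨d - m' - 1, by omega⟩
      have := unim_caseA h2 Q hQ x hx hnil d hd hμ a₁ ha₁ hKS (perp Q W) hPn hPx hPodd
        k' hk' hk'fix hk0
      rw [hPdim] at this
      refine ⟨this.1, ?_⟩
      obtain ⟨-, -, hsd⟩ := dchS_sup h2 hWn hPn (le_perp_comm le_rfl)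
      rw [hc.sup_eq_top] at hsd
      rw [hsd, ← this.2, mul_assoc]
      rcases dchS_dichotomy hPn with h | h <;> rw [h] <;> simp
  have hmle : m ≤ 2 * d := by
    rw [← hWm, ← hdim]
    exact Submodule.finrank_le W
  obtain ⟨d', hd'⟩ := hde
  rcases key W hWn hWx hWm with ⟨h1, h3⟩ | ⟨h1, h3⟩ <;>
    rcases key W' hWn' hWx' hWm' with ⟨h1', h3'⟩ | ⟨h1', h3'⟩
  · rw [h3, h3']
  · omega
  · omega
  · rw [h3, h3']

end caseA

end Cfsg.Agent.Lib.Helper5.OPar
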