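import Mathlib
import Cfsg.Prelude.Def_Classical
import Cfsg.Prelude.Def_GeometricClasses
import Cfsg.Agent.Lib.Helper2.OrthNdP
import Cfsg.Agent.Lib.Helper5.OPar_UNIM2

set_option autoImplicit false

/-!
PK-UNIM, part 3: similitudes with a nonsquare multiplier and conjugation by them.
-/

namespace Cfsg.Agent.Lib.Helper5.OPar

open Module QuadraticMap
open Cfsg.Agent.Lib.Helper2.MaxTS2 Cfsg.Agent.Lib.Helper2.OrthEl Cfsg.Agent.Lib.Helper2.OrthNd
open Cfsg.Agent.Lib.Helper5.UniO

section simil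
variable {F : Type*} [Field F] [Fintype F] [DecidableEq F]
variable {V : Type*} [AddCommGroup V] [Module F V] [FiniteDimensional F V]

omit [Fintype F] [DecidableEq F] [FiniteDimensional F V] in
theorem unim_smul_nondeg (Q : QuadraticForm F V) (hQ : (polarBilin Q).Nondegenerate) (c : F)
    (hc : c ≠ 0) : (polarBilin (c • Q)).Nondegenerate := by
  apply QIso.nondeg_of_left
  intro u hu
  apply hQ.1
  intro v
  have := hu v
  have h5 : polar (⇑(c • Q)) u v = c * polar (⇑Q) u v := by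
    simp only [polar, QuadraticMap.smul_apply, smul_eq_mul]
    ring
  rw [h5] at this
  rcases mul_eq_zero.1 this with h | h
  · exact absurd h hc
  · exact h

/-- a similitude with a prescribed multiplier of an even-dimensional space -/
theorem unim_exists_similitude (h2 : (2 : F) ≠ 0) (Q : QuadraticForm F V)
    (hQ : (polarBilin Q).Nondegenerate) (d : ℕ) (hdim : finrank F V = 2 * d) (c : F)
    (hc : c ≠ 0) : ∃ g : V ≃ₗ[F] V, ∀ v, Q (g v) = c * Q v := by
  have hd : dch (c • Q) = dch Q := by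
    rw [unim_dch_smul, hdim, pow_mul, quadraticChar_sq_one hc, one_pow, one_mul]
  obtain ⟨e, he⟩ := exists_isometry h2 (unim_smul_nondeg Q hQ c hc) hQ rfl hd
  exact ⟨e, fun v => by rw [he]; rfl⟩

/-- the image of a nondegenerate subspace under a similitude -/
theorem unim_map_similitude (Q : QuadraticForm F V) (c : F) (hc : c ≠ 0) (g : V ≃ₗ[F] V)
    (hg : ∀ v, Q (g v) = c * Q v) (W : Submodule F V) (hW : NDeg Q W) :
    NDeg Q (W.map (g : V →ₗ[F] V)) ∧
      finrank F ↥(W.map (g : V →ₗ[F] V)) = finrank F W ∧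
      dchS Q (W.map (g : V →ₗ[F] V)) = (quadraticChar F c) ^ (finrank F W) * dchS Q W := by
  set e' : W ≃ₗ[F] ↥(W.map (g : V →ₗ[F] V)) := g.submoduleMap W with he'
  have he'app : ∀ w : W, ((e' w : ↥(W.map (g : V →ₗ[F] V))) : V) = g (w : V) := fun w => rfl
  have hiso : ∀ w : W, (Q.comp (W.map (g : V →ₗ[F] V)).subtype) (e' w) =
      (c • (Q.comp W.subtype)) w := by
    intro w
    show Q ((e' w : ↥(W.map (g : V →ₗ[F] V))) : V) = c * Q (w : V)
    rw [he'app, hg]
  refine ⟨?_, (LinearEquiv.finrank_eq e').symm, ?_⟩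
  · apply ndeg_of_restrict
    exact nondeg_of_equiv e' hiso (unim_smul_nondeg _ hW.restrict c hc)
  · unfold dchS
    rw [dch_equiv e' hiso, unim_dch_smul]

end simil

section conj
variable {F : Type*} [Field F] [Fintype F] {ι : Type} [Fintype ι] [DecidableEq ι]

/-- conjugation of a matrix group element by a linear equivalence -/
noncomputable def unimConj (g : (ι → F) ≃ₗ[F] (ι → F)) (x : GL ι F) : GL ι F :=
  glOfEquiv (g.symm.trans ((glEquiv x).trans g))

theorem unimConj_apply (g : (ι → F) ≃ₗ[F] (ι → F)) (x : GL ι F) (u : ι → F) :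
    Matrix.toLin' ((unimConj g x : GL ι F) : Matrix ι ι F) u =
      g (Matrix.toLin' (x : Matrix ι ι F) (g.symm u)) := by
  unfold unimConj
  rw [toLin'_glOfEquiv]
  rfl

theorem unimConj_mem (Q : (ι → F) → F) (c : F) (hc : c ≠ 0) (g : (ι → F) ≃ₗ[F] (ι → F))
    (hg : ∀ v, Q (g v) = c * Q v) (x : GL ι F) (hx : x ∈ Cfsg.isometryGroup F Q) :
    unimConj g x ∈ Cfsg.isometryGroup F Q := by
  intro u _
  show Q (((unimConj g x : GL ι F) : Matrix ι ι F).mulVec u) = Q u
  rw [← Matrix.toLin'_apply, unimConj_apply, hg]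
  have h1 : Q (Matrix.toLin' (x : Matrix ι ι F) (g.symm u)) = Q (g.symm u) := iso_apply hx _
  rw [h1, ← hg, LinearEquiv.apply_symm_apply]

theorem unimConj_hasJT (g : (ι → F) ≃ₗ[F] (ι → F)) (x : GL ι F) {μ : Multiset ℕ}
    (h : HasJT (Matrix.toLin' (x : Matrix ι ι F) - 1 : Module.End F (ι → F)) μ) :
    HasJT (Matrix.toLin' ((unimConj g x : GL ι F) : Matrix ι ι F) - 1 :
      Module.End F (ι → F)) μ := by
  apply h.of_intertwine g
  intro u
  rw [LinearMap.sub_apply, LinearMap.sub_apply, Module.End.one_apply, Module.End.one_apply,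
    unimConj_apply, LinearEquiv.symm_apply_apply, map_sub]

theorem unimConj_inv (g : (ι → F) ≃ₗ[F] (ι → F)) (x : GL ι F) (W : Submodule F (ι → F))
    (hW : W.map (Matrix.toLin' ((unimConj g x : GL ι F) : Matrix ι ι F)) ≤ W) :
    (W.map (g.symm : (ι → F) →ₗ[F] (ι → F))).map (Matrix.toLin' (x : Matrix ι ι F)) ≤
      W.map (g.symm : (ι → F) →ₗ[F] (ι → F)) := by
  rintro _ ⟨_, ⟨w, hw, rfl⟩, rfl⟩
  have h1 : Matrix.toLin' ((unimConj g x : GL ι F) : Matrix ι ι F) w ∈ W :=
    hW (Submodule.mem_map_of_mem hw)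
  rw [unimConj_apply] at h1
  refine ⟨_, h1, ?_⟩
  show g.symm (g _) = _
  rw [LinearEquiv.symm_apply_apply]
  rfl

end conj

end Cfsg.Agent.Lib.Helper5.OPar
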