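import Mathlib
import Cfsg.Prelude.Def_Classical
import Cfsg.Prelude.Def_GeometricClasses
import Cfsg.Agent.Lib.Helper5.OPar_UNIM3

set_option autoImplicit false

/-!
PK-UNIM: unipotent derangements on nondegenerate odd-dimensional subspaces of a fixed isometry
class, minus type (S5991, `r = p`).
-/

namespace Cfsg.Agent.Lib.Helper5.OPar

open Module QuadraticMap
open Cfsg.Agent.Lib.Helper2.MaxTS2 Cfsg.Agent.Lib.Helper2.OrthEl Cfsg.Agent.Lib.Helper2.OrthNd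
open Cfsg.Agent.Lib.Helper5.UniO
open Cfsg.Agent.Lib.Helper5.QuadGlue
open Cfsg.Agent.Lib.Helper1.DiagForm
open Cfsg.Agent.Lib.Helper2

section unim
variable {F : Type*} [Field F] [Fintype F]

/-- the partition-level obstruction for odd `d`, with an odd part -/
theorem unim_no_sub_odd (d m : ℕ) (hd : 4 ≤ d) (hdo : Odd d) (hm : Odd m) :
    ∃ μ : Multiset ℕ, (∀ a ∈ μ, 0 < a ∧ a ≤ 3) ∧ (∀ e, Even e → Even (μ.count e)) ∧
      μ.sum = 2 * d ∧ (∃ a ∈ μ, 2 ≤ a) ∧ (∃ a ∈ μ, Odd a) ∧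
      ∀ ν : Multiset ℕ, ν ≤ μ → ν.sum = m → (∀ e : ℕ, Even e → Even (ν.count e)) → False := by
  obtain ⟨k, hk⟩ := hdo
  by_cases hm4 : m % 4 = 3
  · refine ⟨1 ::ₘ 1 ::ₘ Multiset.replicate (d - 1) 2, ?_, ?_, ?_, ?_, ?_, ?_⟩
    · intro a ha
      rcases Multiset.mem_cons.1 ha with rfl | ha
      · omega
      rcases Multiset.mem_cons.1 ha with rfl | ha
      · omega
      rw [Multiset.eq_of_mem_replicate ha]
      omega
    · intro e he
      exact uni_count_two_odd 1 (d - 1) e he odd_one ⟨k, by omega⟩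
    · rw [Multiset.sum_cons, Multiset.sum_cons, Multiset.sum_replicate, smul_eq_mul]
      omega
    · exact ⟨2, by
        rw [Multiset.mem_cons, Multiset.mem_cons]
        exact Or.inr (Or.inr (Multiset.mem_replicate.2 ⟨by omega, rfl⟩)), le_rfl⟩
    · exact ⟨1, Multiset.mem_cons_self _ _, odd_one⟩
    · intro ν hν hs hev
      obtain ⟨ε₁, ε₂, t, h1, h2, ht, hsum, -⟩ := le_two_split ν 1 1 (d - 1) (by omega) (by omega)
        hν hev
      obtain ⟨t', ht'⟩ := ht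
      obtain ⟨m', hm'⟩ := hm
      omega
  · refine ⟨3 ::ₘ 3 ::ₘ Multiset.replicate (d - 3) 2, ?_, ?_, ?_, ?_, ?_, ?_⟩
    · intro a ha
      rcases Multiset.mem_cons.1 ha with rfl | ha
      · omega
      rcases Multiset.mem_cons.1 ha with rfl | ha
      · omega
      rw [Multiset.eq_of_mem_replicate ha]
      omega
    · intro e he
      exact uni_count_two_odd 3 (d - 3) e he (by decide) ⟨k - 1, by omega⟩
    · rw [Multiset.sum_cons, Multiset.sum_cons, Multiset.sum_replicate, smul_eq_mul]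
      omega
    · exact ⟨3, Multiset.mem_cons_self _ _, by omega⟩
    · exact ⟨3, Multiset.mem_cons_self _ _, by decide⟩
    · intro ν hν hs hev
      obtain ⟨ε₁, ε₂, t, h1, h2, ht, hsum, -⟩ := le_two_split ν 3 3 (d - 3) (by omega) (by omega)
        hν hev
      obtain ⟨t', ht'⟩ := ht
      obtain ⟨m', hm'⟩ := hm
      omega

/-- isometric subspaces have the same discriminant character -/
theorem unim_dchS_of_iso [DecidableEq F] {ι : Type} [Fintype ι] [DecidableEq ι]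
    (Q : QuadraticForm F (ι → F)) (W W' : Submodule F (ι → F))
    (h : Cfsg.Geo.AreIsometricFor ⇑Q W W') : dchS Q W = dchS Q W' := by
  obtain ⟨e, he⟩ := (areIso_iff Q W W').1 h
  exact (dch_equiv (Q := Q.comp W.subtype) (Q₂ := Q.comp W'.subtype) e he).symm

/-- PK-UNIM, minus type -/
theorem par_minus_unip (hodd : Odd (Fintype.card F)) (p : ℕ) [Fact p.Prime] [CharP F p] (d m : ℕ)
    (hd : 4 ≤ d) (hm : Odd m) (hmd : m < d) (a b : F)
    (hab : ∀ x y : F, x ^ 2 + a * x * y + b * y ^ 2 = 0 → x = 0 ∧ y = 0)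
    (W₀ : Submodule F ((Fin (d - 1) ⊕ Fin (d - 1)) ⊕ Fin 2 → F))
    (hW₀ : finrank F W₀ = m ∧
      Cfsg.Geo.IsNondegenerateOn (QuadraticMap.polar (Cfsg.quadFormMinus (d - 1) F a b)) W₀) :
    ∃ x : GL ((Fin (d - 1) ⊕ Fin (d - 1)) ⊕ Fin 2) F,
      x ∈ Cfsg.Geo.omegaGL (Cfsg.quadFormMinus (d - 1) F a b) ∧ x ^ p = 1 ∧
      (∀ z : F, (x : Matrix ((Fin (d - 1) ⊕ Fin (d - 1)) ⊕ Fin 2)
          ((Fin (d - 1) ⊕ Fin (d - 1)) ⊕ Fin 2) F)
        ≠ z • (1 : Matrix ((Fin (d - 1) ⊕ Fin (d - 1)) ⊕ Fin 2)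
          ((Fin (d - 1) ⊕ Fin (d - 1)) ⊕ Fin 2) F)) ∧
      ∀ W : Submodule F ((Fin (d - 1) ⊕ Fin (d - 1)) ⊕ Fin 2 → F), finrank F W = m →
        Cfsg.Geo.IsNondegenerateOn (QuadraticMap.polar (Cfsg.quadFormMinus (d - 1) F a b)) W →
        Cfsg.Geo.AreIsometricFor (Cfsg.quadFormMinus (d - 1) F a b) W W₀ →
        ¬ W.map (Matrix.toLin' (x : Matrix ((Fin (d - 1) ⊕ Fin (d - 1)) ⊕ Fin 2)
          ((Fin (d - 1) ⊕ Fin (d - 1)) ⊕ Fin 2) F)) ≤ W := by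
  classical
  have h2 := Cfsg.Agent.Lib.Helper5.UniO.two_ne_zero_of_odd_card hodd
  have hpodd := odd_char_of_odd_card p hodd
  have hp3 : 3 ≤ p := by
    have := (Fact.out : p.Prime).two_le
    obtain ⟨k, hk⟩ := hpodd
    omega
  have hcoe := QuadStd.QM_coe (F := F) (d - 1) a b
  have hQ := QuadStd.QM_nondeg h2 (d - 1) a b hab
  have hcard : Fintype.card ((Fin (d - 1) ⊕ Fin (d - 1)) ⊕ Fin 2) = 2 * d := by
    simp only [Fintype.card_sum, Fintype.card_fin]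
    omega
  have hdim : finrank F ((Fin (d - 1) ⊕ Fin (d - 1)) ⊕ Fin 2 → F) = 2 * d := by
    rw [Module.finrank_fintype_fun_eq_card, hcard]
  have hdisc := disc_ne_zero_of_aniso h2 a b hab
  obtain ⟨eT, heT⟩ := minus_diag h2 (d - 1) a b hdisc (Sum.inr 0)
  have hw : ∀ i, Function.update (fun _ : (Fin (d - 1) ⊕ Fin (d - 1)) ⊕ Fin 2 => (1 : F))
      (Sum.inr 0) ((-1) ^ (d - 1) * (b - a ^ 2 / 4)) i ≠ 0 := by
    intro i
    by_cases hi : i = Sum.inr 0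
    · rw [hi, Function.update_self]
      exact mul_ne_zero (pow_ne_zero _ (neg_ne_zero.2 one_ne_zero)) hdisc
    · rw [Function.update_of_ne hi]
      exact one_ne_zero
  -- the builder
  have build : ∀ μ : Multiset ℕ, (∀ a ∈ μ, 0 < a ∧ a ≤ 3) → (∀ e, Even e → Even (μ.count e)) →
      μ.sum = 2 * d → (∃ a ∈ μ, Odd a) → (∃ a ∈ μ, 2 ≤ a) →
      ∃ x : GL ((Fin (d - 1) ⊕ Fin (d - 1)) ⊕ Fin 2) F,
        x ∈ Cfsg.isometryGroup F ⇑(QM (d - 1) F a b) ∧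
        HasJT (Matrix.toLin' (x : Matrix ((Fin (d - 1) ⊕ Fin (d - 1)) ⊕ Fin 2)
          ((Fin (d - 1) ⊕ Fin (d - 1)) ⊕ Fin 2) F) - 1 :
          Module.End F ((Fin (d - 1) ⊕ Fin (d - 1)) ⊕ Fin 2 → F)) μ := by
    intro μ h1 h3 h4 h5 _
    obtain ⟨x, hx, hjt⟩ := exists_unip_of_wss h2 (Cfsg.quadFormMinus (d - 1) F a b) _ hw eT heT μ
      (fun a ha => (h1 a ha).1) h3 (h4.trans hcard.symm) h5
    exact ⟨x, by rw [hcoe]; exact hx, hjt⟩
  have facts : ∀ (μ : Multiset ℕ) (x : GL ((Fin (d - 1) ⊕ Fin (d - 1)) ⊕ Fin 2) F),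
      (∀ a ∈ μ, 0 < a ∧ a ≤ 3) → μ.sum = 2 * d → (∃ a ∈ μ, 2 ≤ a) →
      x ∈ Cfsg.isometryGroup F ⇑(QM (d - 1) F a b) →
      HasJT (Matrix.toLin' (x : Matrix ((Fin (d - 1) ⊕ Fin (d - 1)) ⊕ Fin 2)
          ((Fin (d - 1) ⊕ Fin (d - 1)) ⊕ Fin 2) F) - 1 :
          Module.End F ((Fin (d - 1) ⊕ Fin (d - 1)) ⊕ Fin 2 → F)) μ →
      x ∈ Cfsg.Geo.omegaGL (Cfsg.quadFormMinus (d - 1) F a b) ∧ x ^ p = 1 ∧
      (∀ z : F, (x : Matrix ((Fin (d - 1) ⊕ Fin (d - 1)) ⊕ Fin 2)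
          ((Fin (d - 1) ⊕ Fin (d - 1)) ⊕ Fin 2) F)
        ≠ z • (1 : Matrix ((Fin (d - 1) ⊕ Fin (d - 1)) ⊕ Fin 2)
          ((Fin (d - 1) ⊕ Fin (d - 1)) ⊕ Fin 2) F)) ∧
      IsNilpotent (Matrix.toLin' (x : Matrix ((Fin (d - 1) ⊕ Fin (d - 1)) ⊕ Fin 2)
          ((Fin (d - 1) ⊕ Fin (d - 1)) ⊕ Fin 2) F) - 1 :
          Module.End F ((Fin (d - 1) ⊕ Fin (d - 1)) ⊕ Fin 2 → F)) := by
    intro μ x h1 h4 h6 hx hjt
    have := unip_facts p hodd (QM (d - 1) F a b) hQ (by omega) x hx μ hjt (h4.trans hcard.symm)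
      (fun a ha => le_trans (h1 a ha).2 hp3) h6
    rw [hcoe] at this
    exact this
  rcases Nat.even_or_odd d with hde | hdo
  · -- `d` even: the discriminant argument
    obtain ⟨d', hd'⟩ := hde
    have hμ1 : ∀ a ∈ (3 ::ₘ 1 ::ₘ Multiset.replicate (d - 2) 2 : Multiset ℕ), 0 < a ∧ a ≤ 3 := by
      intro a ha
      rcases Multiset.mem_cons.1 ha with rfl | ha
      · omega
      rcases Multiset.mem_cons.1 ha with rfl | ha
      · omega
      rw [Multiset.eq_of_mem_replicate ha]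
      omega
    have hμ2 : ∀ e, Even e →
        Even ((3 ::ₘ 1 ::ₘ Multiset.replicate (d - 2) 2 : Multiset ℕ).count e) := by
      intro e he
      have h3 : e ≠ 3 := by rintro rfl; exact absurd he (by decide)
      have h1 : e ≠ 1 := by rintro rfl; exact absurd he (by decide)
      rw [Multiset.count_cons_of_ne h3, Multiset.count_cons_of_ne h1]
      exact uni_count_replicate_two (d - 2) e ⟨d' - 1, by omega⟩
    have hμ3 : (3 ::ₘ 1 ::ₘ Multiset.replicate (d - 2) 2 : Multiset ℕ).sum = 2 * d := by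
      rw [Multiset.sum_cons, Multiset.sum_cons, Multiset.sum_replicate, smul_eq_mul]
      omega
    have hμ4 : ∃ a ∈ (3 ::ₘ 1 ::ₘ Multiset.replicate (d - 2) 2 : Multiset ℕ), 2 ≤ a :=
      ⟨3, Multiset.mem_cons_self _ _, by omega⟩
    have hμ5 : ∃ a ∈ (3 ::ₘ 1 ::ₘ Multiset.replicate (d - 2) 2 : Multiset ℕ), Odd a :=
      ⟨3, Multiset.mem_cons_self _ _, by decide⟩
    obtain ⟨x₀, hx₀, hjt₀⟩ := build _ hμ1 hμ2 hμ3 hμ5 hμ4
    obtain ⟨hΩ₀, hxp₀, hns₀, hnil₀⟩ := facts _ x₀ hμ1 hμ3 hμ4 hx₀ hjt₀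
    by_cases hfix : ∃ W : Submodule F ((Fin (d - 1) ⊕ Fin (d - 1)) ⊕ Fin 2 → F),
        finrank F W = m ∧
        Cfsg.Geo.IsNondegenerateOn (QuadraticMap.polar (Cfsg.quadFormMinus (d - 1) F a b)) W ∧
        Cfsg.Geo.AreIsometricFor (Cfsg.quadFormMinus (d - 1) F a b) W W₀ ∧
        W.map (Matrix.toLin' (x₀ : Matrix ((Fin (d - 1) ⊕ Fin (d - 1)) ⊕ Fin 2)
          ((Fin (d - 1) ⊕ Fin (d - 1)) ⊕ Fin 2) F)) ≤ W
    swap
    · exact ⟨x₀, hΩ₀, hxp₀, hns₀, fun W h1 h3 h4 h5 => hfix ⟨W, h1, h3, h4, h5⟩⟩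
    obtain ⟨W₁, hW₁m, hW₁n, hW₁iso, hW₁x⟩ := hfix
    -- a nonsquare and the similitude
    have hF : ringChar F ≠ 2 := by
      rw [ringChar.eq F p]
      rintro rfl
      exact absurd hpodd (by decide)
    obtain ⟨δ, hδ⟩ := FiniteField.exists_nonsquare hF
    have hδ0 : δ ≠ 0 := by
      rintro rfl
      exact hδ ⟨0, by ring⟩
    obtain ⟨g, hg⟩ := unim_exists_similitude h2 (QM (d - 1) F a b) hQ d hdim δ hδ0
    have hx' := unimConj_mem (⇑(QM (d - 1) F a b)) δ hδ0 g hg x₀ hx₀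
    have hjt' := unimConj_hasJT g x₀ hjt₀
    obtain ⟨hΩ', hxp', hns', hnil'⟩ := facts _ (unimConj g x₀) hμ1 hμ3 hμ4 hx' hjt'
    refine ⟨unimConj g x₀, hΩ', hxp', hns', ?_⟩
    intro W hWm hWn hWiso hWx
    have hWn' : NDeg (QM (d - 1) F a b) W := by rw [← ndegOn_iff, hcoe]; exact hWn
    have hW₁n' : NDeg (QM (d - 1) F a b) W₁ := by rw [← ndegOn_iff, hcoe]; exact hW₁n
    have hgs : ∀ v, (QM (d - 1) F a b) (g.symm v) = δ⁻¹ * (QM (d - 1) F a b) v := by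
      intro v
      have := hg (g.symm v)
      rw [LinearEquiv.apply_symm_apply] at this
      rw [this, ← mul_assoc, inv_mul_cancel₀ hδ0, one_mul]
    obtain ⟨hn'', hdim'', hd''⟩ := unim_map_similitude (QM (d - 1) F a b) δ⁻¹ (inv_ne_zero hδ0)
      g.symm hgs W hWn'
    have hinv'' := unimConj_inv g x₀ W hWx
    have hconst := unim_dchS_const h2 (QM (d - 1) F a b) hQ x₀ hx₀ hnil₀ d (by omega) ⟨d', hd'⟩
      hdim hjt₀ m hm _ W₁ hn'' hinv'' (by rw [hdim'', hWm]) hW₁n' hW₁x hW₁m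
    have e1 : dchS (QM (d - 1) F a b) W₁ = dchS (QM (d - 1) F a b) W₀ :=
      unim_dchS_of_iso _ W₁ W₀ (by rw [hcoe]; exact hW₁iso)
    have e2 : dchS (QM (d - 1) F a b) W = dchS (QM (d - 1) F a b) W₀ :=
      unim_dchS_of_iso _ W W₀ (by rw [hcoe]; exact hWiso)
    have hχ : quadraticChar F δ⁻¹ = -1 := by
      rw [quadraticChar_neg_one_iff_not_isSquare]
      intro h
      apply hδ
      have := h.inv
      rwa [inv_inv] at this
    have e3 : dchS (QM (d - 1) F a b) (W.map (g.symm : _ →ₗ[F] _)) =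
        -1 * dchS (QM (d - 1) F a b) W := by
      rw [hd'', hχ, hWm, hm.neg_one_pow]
    have e4 : dchS (QM (d - 1) F a b) (W.map (g.symm : _ →ₗ[F] _)) =
        dchS (QM (d - 1) F a b) W := by
      rw [hconst, e1, ← e2]
    rw [e3] at e4
    rcases dchS_dichotomy hWn' with h | h <;> rw [h] at e4 <;> omega
  · -- `d` odd: partition counting
    obtain ⟨μ, hμ1, hμ2, hμ3, hμ4, hμ5, hμ6⟩ := unim_no_sub_odd d m hd hdo hm
    obtain ⟨x, hx, hjt⟩ := build μ hμ1 hμ2 hμ3 hμ5 hμ4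
    obtain ⟨hΩ, hxp, hns, hnil⟩ := facts μ x hμ1 hμ3 hμ4 hx hjt
    refine ⟨x, hΩ, hxp, hns, ?_⟩
    intro W hWm hWn _ hWx
    obtain ⟨ν, hle, hs, hev, -⟩ := sub_partition h2 (QM (d - 1) F a b) x hx hnil hjt W
      (by rw [hcoe]; exact hWn) hWx
    exact hμ6 ν hle (hs.trans hWm) hev

end unim

end Cfsg.Agent.Lib.Helper5.OPar
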