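import Mathlib
import Cfsg.Prelude
import Cfsg.Agent.Lib.Helper7.OSubDefs
import Cfsg.Agent.Lib.Helper3.OrthRat2

set_option autoImplicit false
set_option linter.unusedSectionVars false
set_option linter.unusedVariables false

/-! S5683 / S5702 package PK-BCB : rational linear algebra -/

namespace Cfsg.Agent.Lib.Helper7.OSub

open Matrix Cfsg.Agent.Lib.Helper7.Subg

variable {F : Type*} [Field F] [Fintype F] {ι : Type} [Fintype ι] [DecidableEq ι]
variable {Q : QuadraticForm F (ι → F)}

namespace PkBCB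

/-- the standard basis vectors -/
def sb (i : ι) : ι → F := Pi.single i 1

theorem rat_sb (F₀ : Subfield F) (i : ι) : Rat F₀ (sb i : ι → F) := Rat.single F₀ i F₀.one_mem

theorem eq_sum_sb (v : ι → F) : v = ∑ i, v i • (sb i : ι → F) := by
  funext j
  rw [Finset.sum_apply, Finset.sum_eq_single j]
  · simp [sb]
  · intro i _ hij
    simp [sb, Ne.symm hij]
  · intro h
    exact absurd (Finset.mem_univ _) h

theorem polar_sum_left (a v : ι → F) :
    QuadraticMap.polar (⇑Q) a v = ∑ i, a i * QuadraticMap.polar (⇑Q) (sb i) v := by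
  conv_lhs => rw [eq_sum_sb a]
  have := map_sum ((QuadraticMap.polarBilin Q).flip v) (fun i => a i • (sb i : ι → F)) Finset.univ
  simp only [LinearMap.flip_apply, map_smul, QuadraticMap.polarBilin_apply_apply,
    smul_eq_mul] at this
  exact this

theorem polar_sum_right (a v : ι → F) :
    QuadraticMap.polar (⇑Q) a v = ∑ i, v i * QuadraticMap.polar (⇑Q) a (sb i) := by
  rw [QuadraticMap.polar_comm, polar_sum_left]
  refine Finset.sum_congr rfl (fun i _ => ?_)
  rw [QuadraticMap.polar_comm]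

/-- a vector orthogonal to all standard basis vectors is zero -/
theorem eq_zero_of_perp_sb (hQ : (QuadraticMap.polarBilin Q).Nondegenerate) (v : ι → F)
    (h : ∀ i, QuadraticMap.polar (⇑Q) (sb i) v = 0) : v = 0 := by
  apply hQ.2
  intro a
  show QuadraticMap.polar (⇑Q) a v = 0
  rw [polar_sum_left]
  exact Finset.sum_eq_zero (fun i _ => by rw [h i, mul_zero])

/-- the Gram matrix -/
def gram (Q : QuadraticForm F (ι → F)) : Matrix ι ι F :=
  fun i j => QuadraticMap.polar (⇑Q) (sb i) (sb j)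

theorem gram_mulVec (v : ι → F) (i : ι) :
    (gram Q *ᵥ v) i = QuadraticMap.polar (⇑Q) (sb i) v := by
  rw [polar_sum_right]
  simp only [Matrix.mulVec, dotProduct, gram]
  exact Finset.sum_congr rfl (fun j _ => mul_comm _ _)

theorem ratMat_gram {F₀ : Subfield F} (hR : RatQ F₀ Q) : RatMat F₀ (gram Q) :=
  fun i j => rat_polar hR (rat_sb F₀ i) (rat_sb F₀ j)

theorem isUnit_gram (hQ : (QuadraticMap.polarBilin Q).Nondegenerate) : IsUnit (gram Q) := by
  rw [← Matrix.mulVec_injective_iff_isUnit]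
  intro x y hxy
  have : gram Q *ᵥ (x - y) = 0 := by rw [Matrix.mulVec_sub, hxy, sub_self]
  have h0 : x - y = 0 := by
    apply eq_zero_of_perp_sb hQ
    intro i
    rw [← gram_mulVec, this]
    rfl
  exact sub_eq_zero.mp h0

end PkBCB

open PkBCB

/-- Riesz: a vector whose polar values on rational vectors are rational is rational -/
theorem rat_riesz (hQ : (QuadraticMap.polarBilin Q).Nondegenerate) (F₀ : Subfield F)
    (hR : RatQ F₀ Q) (v : ι → F) (h : ∀ a : ι → F, Rat F₀ a → QuadraticMap.polar (⇑Q) a v ∈ F₀) :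
    Rat F₀ v := by
  have hG := isUnit_gram hQ
  have hdet : IsUnit (gram Q).det := (Matrix.isUnit_iff_isUnit_det _).mp hG
  have hv : v = (gram Q)⁻¹ *ᵥ (gram Q *ᵥ v) := by
    rw [Matrix.mulVec_mulVec, Matrix.nonsing_inv_mul _ hdet, Matrix.one_mulVec]
  rw [hv]
  apply RatMat.mulVec (RatMat.inv (ratMat_gram hR))
  intro i
  rw [gram_mulVec]
  exact h _ (rat_sb F₀ i)

namespace PkBCB

/-- a basis of `F` over `F₀` -/
noncomputable def bas (F₀ : Subfield F) : Module.Basis (Fin (Module.finrank ↥F₀ F)) ↥F₀ F :=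
  Module.finBasis ↥F₀ F

theorem bas_indep (F₀ : Subfield F) (c : Fin (Module.finrank ↥F₀ F) → F) (hc : ∀ j, c j ∈ F₀)
    (h : ∑ j, c j * bas F₀ j = 0) : ∀ j, c j = 0 := by
  have hli := (bas F₀).linearIndependent
  rw [Fintype.linearIndependent_iff] at hli
  have := hli (fun j => ⟨c j, hc j⟩) (by
    rw [← h]
    exact Finset.sum_congr rfl (fun j _ => rfl))
  intro j
  have hj := this j
  exact congrArg Subtype.val hj

theorem bas_repr_sum (F₀ : Subfield F) (x : F) :
    x = ∑ j, (((bas F₀).repr x j : ↥F₀) : F) * bas F₀ j := by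
  conv_lhs => rw [← (bas F₀).sum_repr x]
  exact Finset.sum_congr rfl (fun j _ => rfl)

end PkBCB

/-- decomposition of a vector along an `F₀`-independent family of scalars -/
theorem rat_decomp (F₀ : Subfield F) (v : ι → F) :
    ∃ (k : ℕ) (θ : Fin k → F) (b : Fin k → ι → F), (∀ j, Rat F₀ (b j)) ∧ v = ∑ j, θ j • b j ∧
      ∀ c : Fin k → F, (∀ j, c j ∈ F₀) → ∑ j, c j * θ j = 0 → ∀ j, c j = 0 := by
  refine ⟨Module.finrank ↥F₀ F, fun j => bas F₀ j, fun j i => (((bas F₀).repr (v i) j : ↥F₀) : F),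
    fun j i => ((bas F₀).repr (v i) j).2, ?_, fun c hc h => bas_indep F₀ c hc h⟩
  funext i
  rw [Finset.sum_apply]
  conv_lhs => rw [bas_repr_sum F₀ (v i)]
  refine Finset.sum_congr rfl (fun j _ => ?_)
  simp only [Pi.smul_apply, smul_eq_mul]
  ring

/-- rational vectors that are `F`-dependent are `F₀`-dependent -/
theorem rat_dep (F₀ : Subfield F) {k : ℕ} (v : Fin k → ι → F) (hv : ∀ i, Rat F₀ (v i))
    (c : Fin k → F) (hc : ∑ i, c i • v i = 0) (hc0 : c ≠ 0) :
    ∃ c' : Fin k → F, (∀ i, c' i ∈ F₀) ∧ c' ≠ 0 ∧ ∑ i, c' i • v i = 0 := by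
  -- coefficients of the `c i`
  have key : ∀ j, ∑ i, (((bas F₀).repr (c i) j : ↥F₀) : F) • v i = 0 := by
    intro j
    funext l
    have hl : ∑ j, (∑ i, (((bas F₀).repr (c i) j : ↥F₀) : F) * v i l) * bas F₀ j = 0 := by
      have h1 := congrFun hc l
      rw [Finset.sum_apply] at h1
      simp only [Pi.smul_apply, smul_eq_mul, Pi.zero_apply] at h1
      rw [← h1]
      simp_rw [Finset.sum_mul]
      rw [Finset.sum_comm]
      refine Finset.sum_congr rfl (fun i _ => ?_)
      conv_rhs => rw [bas_repr_sum F₀ (c i), Finset.sum_mul]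
      refine Finset.sum_congr rfl (fun j _ => ?_)
      ring
    have := bas_indep F₀ _ (fun j => F₀.sum_mem (fun i _ => F₀.mul_mem ((bas F₀).repr (c i) j).2 (hv i l))) hl j
    rw [Finset.sum_apply]
    simp only [Pi.smul_apply, smul_eq_mul, Pi.zero_apply]
    exact this
  obtain ⟨i₀, hi₀⟩ : ∃ i, c i ≠ 0 := by
    by_contra hcon
    exact hc0 (funext fun i => by_contra fun hi => hcon ⟨i, hi⟩)
  obtain ⟨j₀, hj₀⟩ : ∃ j, (bas F₀).repr (c i₀) j ≠ 0 := by
    by_contra hcon
    have hcon' : ∀ j, (bas F₀).repr (c i₀) j = 0 := fun j => by_contra fun hj => hcon ⟨j, hj⟩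
    apply hi₀
    rw [bas_repr_sum F₀ (c i₀)]
    exact Finset.sum_eq_zero (fun j _ => by rw [hcon' j]; simp)
  refine ⟨fun i => (((bas F₀).repr (c i) j₀ : ↥F₀) : F), fun i => ((bas F₀).repr (c i) j₀).2, ?_, key j₀⟩
  intro h0
  apply hj₀
  have := congrFun h0 i₀
  exact Subtype.ext this

/-- a vector orthogonal to all rational vectors of `u^⊥` (`u` rational) is a multiple of `u` -/
theorem perp_rat_perp (hQ : (QuadraticMap.polarBilin Q).Nondegenerate) (F₀ : Subfield F)
    (hR : RatQ F₀ Q) {u : ι → F} (hu : Rat F₀ u) (z : ι → F)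
    (h : ∀ p : ι → F, Rat F₀ p → QuadraticMap.polar (⇑Q) u p = 0 → QuadraticMap.polar (⇑Q) z p = 0) :
    ∃ c : F, z = c • u := by
  by_cases hu0 : u = 0
  · refine ⟨0, ?_⟩
    rw [zero_smul]
    apply eq_zero_of_perp_sb hQ
    intro i
    rw [QuadraticMap.polar_comm]
    apply h _ (rat_sb F₀ i)
    rw [hu0]
    exact QuadraticMap.polar_zero_left _ _
  · -- a rational partner of `u`
    obtain ⟨i, hi⟩ : ∃ i, QuadraticMap.polar (⇑Q) u (sb i) ≠ 0 := by
      by_contra hcon
      apply hu0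
      apply eq_zero_of_perp_sb hQ
      intro i
      rw [QuadraticMap.polar_comm]
      exact by_contra fun hi => hcon ⟨i, hi⟩
    obtain ⟨d, hd⟩ : ∃ d, d = QuadraticMap.polar (⇑Q) u (sb i) := ⟨_, rfl⟩
    have hdF : d ∈ F₀ := by rw [hd]; exact rat_polar hR hu (rat_sb F₀ i)
    have hd0 : d ≠ 0 := by rw [hd]; exact hi
    obtain ⟨us, hus⟩ : ∃ us : ι → F, us = d⁻¹ • (sb i : ι → F) := ⟨_, rfl⟩
    have husR : Rat F₀ us := by rw [hus]; exact (rat_sb F₀ i).smul (F₀.inv_mem hdF)
    have hpus : QuadraticMap.polar (⇑Q) u us = 1 := by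
      rw [hus, QuadraticMap.polar_smul_right, ← hd, smul_eq_mul, inv_mul_cancel₀ hd0]
    refine ⟨QuadraticMap.polar (⇑Q) z us, ?_⟩
    have h0 : z - QuadraticMap.polar (⇑Q) z us • u = 0 := by
      apply eq_zero_of_perp_sb hQ
      intro j
      rw [QuadraticMap.polar_comm]
      -- a := sb j, a' = a - B(u,a) us
      have haR : Rat F₀ ((sb j : ι → F) - QuadraticMap.polar (⇑Q) u (sb j) • us) :=
        (rat_sb F₀ j).sub (husR.smul (rat_polar hR hu (rat_sb F₀ j)))
      have hperp : QuadraticMap.polar (⇑Q) u ((sb j : ι → F) - QuadraticMap.polar (⇑Q) u (sb j) • us) = 0 := by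
        rw [QuadraticMap.polar_sub_right, QuadraticMap.polar_smul_right, hpus, smul_eq_mul, mul_one,
          sub_self]
      have h1 := h _ haR hperp
      rw [QuadraticMap.polar_sub_right, QuadraticMap.polar_smul_right, smul_eq_mul] at h1
      rw [QuadraticMap.polar_sub_left, QuadraticMap.polar_smul_left, smul_eq_mul]
      linear_combination h1
    exact sub_eq_zero.mp h0

/-- every rational vector orthogonal to the rational singular vector `u` (`u = 0` allowed) is a sum of
three rational singular vectors orthogonal to `u` -/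
theorem rat_span_sing (hQ : (QuadraticMap.polarBilin Q).Nondegenerate) (F₀ : Subfield F)
    (hR : RatQ F₀ Q) (hn : 7 ≤ Fintype.card ι) {u b : ι → F} (hu : Rat F₀ u) (hQu : Q u = 0)
    (hb : Rat F₀ b) (hub : QuadraticMap.polar (⇑Q) u b = 0) :
    ∃ w : Fin 3 → ι → F, (∀ i, Rat F₀ (w i) ∧ Q (w i) = 0 ∧ QuadraticMap.polar (⇑Q) u (w i) = 0) ∧
      b = ∑ i, w i := by
  obtain ⟨z, z', hz, hz', hQz, hQz', hzz', hperp⟩ :=
    Cfsg.Agent.Lib.Helper3.OrthRat.rat_exists_hyp_perp (F₀ := F₀) (Q := Q) hR hQ ![u, b]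
      (fun i => by fin_cases i <;> simp [hu, hb]) (by simpa using hn)
  have huz : QuadraticMap.polar (⇑Q) u z = 0 := (hperp 0).1
  have huz' : QuadraticMap.polar (⇑Q) u z' = 0 := (hperp 0).2
  have hbz : QuadraticMap.polar (⇑Q) b z = 0 := (hperp 1).1
  have hbz' : QuadraticMap.polar (⇑Q) b z' = 0 := (hperp 1).2
  have hQb : Q b ∈ F₀ := hR b hb
  refine ⟨![b + z - Q b • z', -z, Q b • z'], ?_, ?_⟩
  · intro i
    fin_cases i
    · refine ⟨(hb.add hz).sub (hz'.smul hQb), ?_, ?_⟩
      · show Q (b + z - Q b • z') = 0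
        have e : b + z - Q b • z' = b + (z + (-(Q b)) • z') := by
          rw [neg_smul]; abel
        rw [e]
        have h1 := QuadraticMap.polar_add_right Q b z ((-(Q b)) • z')
        have h2 : QuadraticMap.polar (⇑Q) z ((-(Q b)) • z') = -(Q b) := by
          rw [QuadraticMap.polar_smul_right, hzz', smul_eq_mul, mul_one]
        have h3 : Q ((-(Q b)) • z') = 0 := by
          rw [QuadraticMap.map_smul, hQz', smul_zero]
        have h4 : Q (z + (-(Q b)) • z') = -(Q b) := by
          have := h2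
          unfold QuadraticMap.polar at this
          rw [hQz, h3] at this
          linear_combination this
        have h5 : QuadraticMap.polar (⇑Q) b (z + (-(Q b)) • z') = 0 := by
          rw [h1, hbz, QuadraticMap.polar_smul_right, hbz', smul_zero, add_zero]
        unfold QuadraticMap.polar at h5
        rw [h4] at h5
        linear_combination h5
      · show QuadraticMap.polar (⇑Q) u (b + z - Q b • z') = 0
        rw [QuadraticMap.polar_sub_right, QuadraticMap.polar_add_right, QuadraticMap.polar_smul_right,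
          hub, huz, huz', smul_zero, add_zero, sub_zero]
    · refine ⟨hz.neg, ?_, ?_⟩
      · show Q (-z) = 0
        rw [QuadraticMap.map_neg, hQz]
      · show QuadraticMap.polar (⇑Q) u (-z) = 0
        rw [QuadraticMap.polar_neg_right, huz, neg_zero]
    · refine ⟨hz'.smul hQb, ?_, ?_⟩
      · show Q (Q b • z') = 0
        rw [QuadraticMap.map_smul, hQz', smul_zero]
      · show QuadraticMap.polar (⇑Q) u (Q b • z') = 0
        rw [QuadraticMap.polar_smul_right, huz', smul_zero]
  · rw [Fin.sum_univ_three]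
    show b = (b + z - Q b • z') + -z + Q b • z'
    abel

/-- a vector orthogonal to all rational SINGULAR vectors of `u^⊥` (`u` rational singular, `u = 0`
allowed) is a multiple of `u` -/
theorem perp_rat_sing (hQ : (QuadraticMap.polarBilin Q).Nondegenerate) (F₀ : Subfield F)
    (hR : RatQ F₀ Q) (hn : 7 ≤ Fintype.card ι) {u : ι → F} (hu : Rat F₀ u) (hQu : Q u = 0)
    (z : ι → F)
    (h : ∀ w : ι → F, Rat F₀ w → Q w = 0 → QuadraticMap.polar (⇑Q) u w = 0 →
      QuadraticMap.polar (⇑Q) z w = 0) :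
    ∃ c : F, z = c • u := by
  apply perp_rat_perp hQ F₀ hR hu z
  intro p hp hup
  obtain ⟨w, hw, hpw⟩ := rat_span_sing hQ F₀ hR hn hu hQu hp hup
  rw [hpw, Fin.sum_univ_three, QuadraticMap.polar_add_right, QuadraticMap.polar_add_right,
    h _ (hw 0).1 (hw 0).2.1 (hw 0).2.2, h _ (hw 1).1 (hw 1).2.1 (hw 1).2.2,
    h _ (hw 2).1 (hw 2).2.1 (hw 2).2.2]
  simp

end Cfsg.Agent.Lib.Helper7.OSub
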