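import Mathlib
import Cfsg.Prelude
import Cfsg.Agent.Lib.Helper7.OSubDefs
import Cfsg.Agent.Lib.Helper3.OrthRat2
import Cfsg.Agent.Lib.Helper5.QuadFin

set_option autoImplicit false
set_option linter.unusedSectionVars false
set_option linter.unusedVariables false

/-! S5683 / S5702 package PK-QUAD : the case `r = 2` -/

namespace Cfsg.Agent.Lib.Helper7.OSub

open Matrix Cfsg.Agent.Lib.Helper7.Subg Cfsg.Agent.Lib.Helper3.OrthRat

variable {F : Type*} [Field F] [Fintype F] {ι : Type} [Fintype ι] [DecidableEq ι]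
variable {Q : QuadraticForm F (ι → F)}

namespace PkQUAD

/-- a rational totally singular pair exists -/
theorem exists_rtsp (hQ : (QuadraticMap.polarBilin Q).Nondegenerate) (F₀ : Subfield F)
    (hR : RatQ F₀ Q) (hn : 5 ≤ Fintype.card ι) : ∃ u w : ι → F, RTSP F₀ Q u w := by
  obtain ⟨e, f, hrat, hef⟩ := rat_exists_hyp (F₀ := F₀) (Q := Q) hR hQ 2 (by omega)
  refine ⟨e 0, e 1, (hrat 0).1, (hrat 1).1, hef.qe 0, hef.qe 1, hef.ee 0 1, fun s t hst => ?_⟩
  have h0 := congrArg (fun x => QuadraticMap.polar (⇑Q) x (f 0)) hst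
  have h1 := congrArg (fun x => QuadraticMap.polar (⇑Q) x (f 1)) hst
  simp only [QuadraticMap.polar_add_left, QuadraticMap.polar_smul_left, hef.ef,
    QuadraticMap.polar_zero_left] at h0 h1
  simp at h0 h1
  exact ⟨h0, h1⟩

/-- the two polar functionals on the rational vectors, as an `F₀`-linear map -/
def phi (F₀ : Subfield F) (Q : QuadraticForm F (ι → F)) (x y : ι → F) :
    (ι → ↥F₀) →ₗ[↥F₀] (F × F) where
  toFun v := (QuadraticMap.polar (⇑Q) (up F₀ v) x, QuadraticMap.polar (⇑Q) (up F₀ v) y)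
  map_add' a b := by
    rw [up_add, QuadraticMap.polar_add_left, QuadraticMap.polar_add_left]
    rfl
  map_smul' c a := by
    rw [up_smul, QuadraticMap.polar_smul_left, QuadraticMap.polar_smul_left]
    rfl

theorem finrank_eq_two (F₀ : Subfield F) (hcard : Fintype.card F = Nat.card F₀ ^ 2) :
    Module.finrank ↥F₀ F = 2 := by
  have h1 : Nat.card F = Nat.card ↥F₀ ^ Module.finrank ↥F₀ F := Module.natCard_eq_pow_finrank
  rw [Nat.card_eq_fintype_card, hcard] at h1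
  have h2 : 1 < Nat.card ↥F₀ := Finite.one_lt_card
  exact (Nat.pow_right_injective h2 h1).symm

theorem exists_rat_sing_perp (hQ : (QuadraticMap.polarBilin Q).Nondegenerate) (F₀ : Subfield F)
    (hR : RatQ F₀ Q) (hn : 7 ≤ Fintype.card ι) (hcard : Fintype.card F = Nat.card F₀ ^ 2)
    (x y : ι → F) :
    ∃ x₀ : ι → F, Rat F₀ x₀ ∧ x₀ ≠ 0 ∧ Q x₀ = 0 ∧ QuadraticMap.polar (⇑Q) x₀ x = 0 ∧
      QuadraticMap.polar (⇑Q) x₀ y = 0 := by
  have h2 := finrank_eq_two F₀ hcard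
  have hFF : Module.finrank ↥F₀ (F × F) = 4 := by
    rw [Module.finrank_prod, h2]
  have hrn := LinearMap.finrank_range_add_finrank_ker (phi F₀ Q x y)
  have hV : Module.finrank ↥F₀ (ι → ↥F₀) = Fintype.card ι := Module.finrank_fintype_fun_eq_card ↥F₀
  have hle : Module.finrank ↥F₀ ↥(LinearMap.range (phi F₀ Q x y)) ≤ 4 := by
    rw [← hFF]
    exact Submodule.finrank_le _
  have hker : 3 ≤ Module.finrank ↥F₀ ↥(LinearMap.ker (phi F₀ Q x y)) := by omega
  obtain ⟨v, hv0, hv⟩ := Cfsg.Agent.Lib.Helper5.exists_singular_of_finrank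
    ((Q₀ hR).comp (LinearMap.ker (phi F₀ Q x y)).subtype) hker
  have hmem : phi F₀ Q x y v.1 = 0 := LinearMap.mem_ker.mp v.2
  refine ⟨up F₀ v.1, rat_up F₀ _, ?_, ?_, ?_, ?_⟩
  · intro h
    apply hv0
    apply Subtype.ext
    exact (up_eq_zero F₀).mp h
  · exact (Q₀_eq_zero hR v.1).mp hv
  · exact congrArg Prod.fst hmem
  · exact congrArg Prod.snd hmem

end PkQUAD

open PkQUAD

theorem quad_case (hQ : (QuadraticMap.polarBilin Q).Nondegenerate) (F₀ : Subfield F)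
    (M : Subgroup ↥(Cfsg.isometryGroup F ⇑Q)) (hR : RatQ F₀ Q) (hn : 7 ≤ Fintype.card ι)
    (hcard : Fintype.card F = Nat.card F₀ ^ 2) (hNKO : NKO F₀ M) :
    ∀ g ∈ M, InN F₀ (mat g) := by
  intro g hg
  obtain ⟨u, w, huw⟩ := exists_rtsp hQ F₀ hR (by omega)
  obtain ⟨x₀, hx₀, hx₀0, hQx₀, h1, h2⟩ := exists_rat_sing_perp hQ F₀ hR hn hcard (mat g *ᵥ u) (mat g *ᵥ w)
  exact hNKO g hg u w x₀ huw hx₀ hx₀0 hQx₀ h1 h2

end Cfsg.Agent.Lib.Helper7.OSub
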