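import Mathlib

set_option autoImplicit false

/-! # Raw permutations (lists of images) and their semantics in `Equiv.Perm (Fin d)` -/

namespace Cfsg.Agent.Lib.Helper5.OT

/-- raw product: `(rmul a b)[i] = a[b[i]]` -/
def rmul (a b : List ℕ) : List ℕ := b.map (fun x => a.getD x 0)

/-- raw identity -/
def rid (d : ℕ) : List ℕ := List.range d

/-- validity of a raw permutation of degree `d` -/
def RValid (d : ℕ) (l : List ℕ) : Prop := l.length = d ∧ (∀ x ∈ l, x < d) ∧ l.Nodup

instance (d : ℕ) (l : List ℕ) : Decidable (RValid d l) := by unfold RValid; infer_instance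

/-- the underlying function -/
def toFn (d : ℕ) (l : List ℕ) (i : Fin d) : Fin d :=
  if h : l.getD i.val 0 < d then ⟨l.getD i.val 0, h⟩ else i

theorem toFn_val {d : ℕ} {l : List ℕ} (hl : RValid d l) (i : Fin d) :
    (toFn d l i).val = l.getD i.val 0 := by
  unfold toFn
  have h : l.getD i.val 0 < d := by
    have hi : i.val < l.length := by rw [hl.1]; exact i.2
    rw [List.getD_eq_getElem _ _ hi]
    exact hl.2.1 _ (List.getElem_mem hi)
  rw [dif_pos h]

theorem toFn_injective {d : ℕ} {l : List ℕ} (hl : RValid d l) : Function.Injective (toFn d l) := by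
  intro i j hij
  have h := congrArg Fin.val hij
  rw [toFn_val hl, toFn_val hl] at h
  have hi : i.val < l.length := by rw [hl.1]; exact i.2
  have hj : j.val < l.length := by rw [hl.1]; exact j.2
  rw [List.getD_eq_getElem _ _ hi, List.getD_eq_getElem _ _ hj] at h
  exact Fin.ext ((List.Nodup.getElem_inj_iff hl.2.2).mp h)

theorem toFn_bijective {d : ℕ} {l : List ℕ} (hl : RValid d l) : Function.Bijective (toFn d l) :=
  Finite.injective_iff_bijective.mp (toFn_injective hl)

open Classical in
/-- the permutation attached to a raw permutation (the identity on invalid input) -/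
noncomputable def toPerm (d : ℕ) (l : List ℕ) : Equiv.Perm (Fin d) :=
  if h : Function.Bijective (toFn d l) then Equiv.ofBijective _ h else 1

theorem toPerm_apply {d : ℕ} {l : List ℕ} (hl : RValid d l) (i : Fin d) :
    toPerm d l i = toFn d l i := by
  unfold toPerm
  rw [dif_pos (toFn_bijective hl)]
  rfl

theorem toPerm_val {d : ℕ} {l : List ℕ} (hl : RValid d l) (i : Fin d) :
    (toPerm d l i).val = l.getD i.val 0 := by
  rw [toPerm_apply hl, toFn_val hl]

theorem rid_valid (d : ℕ) : RValid d (rid d) := by
  refine ⟨List.length_range, fun x hx => List.mem_range.mp hx, List.nodup_range⟩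

theorem toPerm_rid (d : ℕ) : toPerm d (rid d) = 1 := by
  ext i
  rw [toPerm_val (rid_valid d), Equiv.Perm.one_apply]
  unfold rid
  rw [List.getD_eq_getElem _ _ (by rw [List.length_range]; exact i.2), List.getElem_range]

theorem rmul_length (a b : List ℕ) : (rmul a b).length = b.length := by
  unfold rmul; rw [List.length_map]

theorem rmul_getD {d : ℕ} {a b : List ℕ} (hb : RValid d b) (i : ℕ) (hi : i < d) :
    (rmul a b).getD i 0 = a.getD (b.getD i 0) 0 := by
  have hi' : i < b.length := by rw [hb.1]; exact hi
  unfold rmul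
  rw [List.getD_eq_getElem _ _ (by rw [List.length_map]; exact hi'), List.getElem_map,
    List.getD_eq_getElem _ _ hi']

theorem rmul_valid {d : ℕ} {a b : List ℕ} (ha : RValid d a) (hb : RValid d b) :
    RValid d (rmul a b) := by
  refine ⟨by rw [rmul_length, hb.1], ?_, ?_⟩
  · intro x hx
    unfold rmul at hx
    rw [List.mem_map] at hx
    obtain ⟨y, hy, rfl⟩ := hx
    have hy' : y < a.length := by rw [ha.1]; exact hb.2.1 y hy
    rw [List.getD_eq_getElem _ _ hy']
    exact ha.2.1 _ (List.getElem_mem hy')
  · unfold rmul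
    refine List.Nodup.map_on ?_ hb.2.2
    intro x hx y hy hxy
    have hx' : x < a.length := by rw [ha.1]; exact hb.2.1 x hx
    have hy' : y < a.length := by rw [ha.1]; exact hb.2.1 y hy
    rw [List.getD_eq_getElem _ _ hx', List.getD_eq_getElem _ _ hy'] at hxy
    exact (List.Nodup.getElem_inj_iff ha.2.2).mp hxy

theorem toPerm_rmul {d : ℕ} {a b : List ℕ} (ha : RValid d a) (hb : RValid d b) :
    toPerm d (rmul a b) = toPerm d a * toPerm d b := by
  ext i
  rw [toPerm_val (rmul_valid ha hb), Equiv.Perm.mul_apply, toPerm_val ha, toPerm_val hb,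
    rmul_getD hb i.val i.2]

theorem toPerm_injective {d : ℕ} {a b : List ℕ} (ha : RValid d a) (hb : RValid d b)
    (h : toPerm d a = toPerm d b) : a = b := by
  apply List.ext_getElem (by rw [ha.1, hb.1])
  intro i h1 h2
  have hi : i < d := by rw [← ha.1]; exact h1
  have := congrArg (fun σ : Equiv.Perm (Fin d) => (σ ⟨i, hi⟩).val) h
  simp only [toPerm_val ha, toPerm_val hb] at this
  rw [List.getD_eq_getElem _ _ h1, List.getD_eq_getElem _ _ h2] at this
  exact this

/-- product of a word of generator indices -/
def rword (d : ℕ) (gens : List (List ℕ)) : List ℕ → List ℕ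
  | [] => rid d
  | (k :: w) => rmul (gens.getD k (rid d)) (rword d gens w)

theorem getD_valid {d : ℕ} {gens : List (List ℕ)} (hg : ∀ g ∈ gens, RValid d g) (k : ℕ) :
    RValid d (gens.getD k (rid d)) := by
  by_cases hk : k < gens.length
  · rw [List.getD_eq_getElem _ _ hk]; exact hg _ (List.getElem_mem hk)
  · rw [List.getD_eq_default _ _ (by omega)]; exact rid_valid d

theorem rword_valid {d : ℕ} {gens : List (List ℕ)} (hg : ∀ g ∈ gens, RValid d g) (w : List ℕ) :
    RValid d (rword d gens w) := by
  induction w with
  | nil => exact rid_valid d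
  | cons k w ih => exact rmul_valid (getD_valid hg k) ih

/-- the subgroup generated by a list of raw permutations -/
noncomputable def gsub (d : ℕ) (gens : List (List ℕ)) : Subgroup (Equiv.Perm (Fin d)) :=
  Subgroup.closure {σ | ∃ g ∈ gens, σ = toPerm d g}

theorem toPerm_getD_mem {d : ℕ} (gens : List (List ℕ)) (k : ℕ) :
    toPerm d (gens.getD k (rid d)) ∈ gsub d gens := by
  by_cases hk : k < gens.length
  · rw [List.getD_eq_getElem _ _ hk]
    exact Subgroup.subset_closure ⟨_, List.getElem_mem hk, rfl⟩
  · rw [List.getD_eq_default _ _ (by omega), toPerm_rid]; exact Subgroup.one_mem _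

theorem toPerm_rword_mem {d : ℕ} {gens : List (List ℕ)} (hg : ∀ g ∈ gens, RValid d g)
    (w : List ℕ) : toPerm d (rword d gens w) ∈ gsub d gens := by
  induction w with
  | nil => unfold rword; rw [toPerm_rid]; exact Subgroup.one_mem _
  | cons k w ih =>
    unfold rword
    rw [toPerm_rmul (getD_valid hg k) (rword_valid hg w)]
    exact Subgroup.mul_mem _ (toPerm_getD_mem gens k) ih

end Cfsg.Agent.Lib.Helper5.OT
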