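import Cfsg.Agent.Lib.Helper5.OT1

set_option autoImplicit false

/-! # Enumeration certificates for small permutation groups -/

namespace Cfsg.Agent.Lib.Helper5.OT

/-- enumeration data of a permutation group of degree `d` -/
structure EData where
  d : ℕ
  gens : List (List ℕ)
  Ls : List (List ℕ)
  nxt : List (List ℕ)
  words : List (List ℕ)

/-- closure of the list under left multiplication by the generators, with index witnesses -/
def chkNxt (E : EData) : Bool :=
  E.nxt.length == E.Ls.length &&
  (List.zip E.Ls E.nxt).all (fun p =>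
    (List.range E.gens.length).all (fun k =>
      rmul (E.gens.getD k (rid E.d)) p.1 == E.Ls.getD (p.2.getD k 0) (rid E.d)))

/-- every listed element is a word in the generators -/
def chkWords (E : EData) : Bool :=
  E.words.length == E.Ls.length &&
  (List.zip E.Ls E.words).all (fun p => rword E.d E.gens p.2 == p.1)

/-- validity of the generators -/
def chkGens (E : EData) : Bool := E.gens.all (fun g => decide (RValid E.d g))

/-- the list is strictly increasing -/
def chkSorted (E : EData) : Bool := decide (E.Ls.IsChain (· < ·))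

/-- the identity is listed -/
def chkOne (E : EData) : Bool := decide (rid E.d ∈ E.Ls)

/-- the full check -/
def chkAll (E : EData) : Bool := chkGens E && chkNxt E && chkWords E && chkSorted E && chkOne E

variable {E : EData}

theorem gens_valid (h : chkAll E = true) : ∀ g ∈ E.gens, RValid E.d g := by
  unfold chkAll at h
  simp only [Bool.and_eq_true] at h
  have h1 := h.1.1.1.1
  unfold chkGens at h1
  rw [List.all_eq_true] at h1
  intro g hg
  exact of_decide_eq_true (h1 g hg)

theorem one_mem_Ls (h : chkAll E = true) : rid E.d ∈ E.Ls := by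
  unfold chkAll at h
  simp only [Bool.and_eq_true] at h
  exact of_decide_eq_true h.2

theorem Ls_nodup (h : chkAll E = true) : E.Ls.Nodup := by
  unfold chkAll at h
  simp only [Bool.and_eq_true] at h
  have h1 : E.Ls.IsChain (· < ·) := of_decide_eq_true h.1.2
  have h2 : E.Ls.Pairwise (· < ·) := List.isChain_iff_pairwise.mp h1
  exact h2.imp (fun hab => ne_of_lt hab)

theorem Ls_word (h : chkAll E = true) : ∀ l ∈ E.Ls, ∃ w, rword E.d E.gens w = l := by
  unfold chkAll at h
  simp only [Bool.and_eq_true] at h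
  have h1 := h.1.1.2
  unfold chkWords at h1
  simp only [Bool.and_eq_true, beq_iff_eq, List.all_eq_true] at h1
  intro l hl
  obtain ⟨j, hj, rfl⟩ := List.mem_iff_getElem.mp hl
  have hj' : j < E.words.length := by rw [h1.1]; exact hj
  refine ⟨E.words[j], ?_⟩
  have hmem : (E.Ls[j], E.words[j]) ∈ List.zip E.Ls E.words := by
    have hz : j < (List.zip E.Ls E.words).length := by
      rw [List.length_zip]; omega
    have := List.getElem_mem hz
    rwa [List.getElem_zip] at this
  exact h1.2 _ hmem

theorem Ls_valid (h : chkAll E = true) : ∀ l ∈ E.Ls, RValid E.d l := by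
  intro l hl
  obtain ⟨w, rfl⟩ := Ls_word h l hl
  exact rword_valid (gens_valid h) w

theorem Ls_mem_gsub (h : chkAll E = true) : ∀ l ∈ E.Ls, toPerm E.d l ∈ gsub E.d E.gens := by
  intro l hl
  obtain ⟨w, rfl⟩ := Ls_word h l hl
  exact toPerm_rword_mem (gens_valid h) w

theorem Ls_closed (h : chkAll E = true) : ∀ l ∈ E.Ls, ∀ g ∈ E.gens, rmul g l ∈ E.Ls := by
  have h0 := h
  unfold chkAll at h
  simp only [Bool.and_eq_true] at h
  have h1 := h.1.1.1.2
  unfold chkNxt at h1
  simp only [Bool.and_eq_true, beq_iff_eq, List.all_eq_true] at h1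
  intro l hl g hg
  obtain ⟨j, hj, rfl⟩ := List.mem_iff_getElem.mp hl
  obtain ⟨k, hk, rfl⟩ := List.mem_iff_getElem.mp hg
  have hj' : j < E.nxt.length := by rw [h1.1]; exact hj
  have hmem : (E.Ls[j], E.nxt[j]) ∈ List.zip E.Ls E.nxt := by
    have hz : j < (List.zip E.Ls E.nxt).length := by
      rw [List.length_zip]; omega
    have := List.getElem_mem hz
    rwa [List.getElem_zip] at this
  have h2 := h1.2 _ hmem k (List.mem_range.mpr hk)
  simp only at h2
  rw [List.getD_eq_getElem _ _ hk] at h2
  rw [h2]
  set t := E.nxt[j].getD k 0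
  by_cases ht : t < E.Ls.length
  · rw [List.getD_eq_getElem _ _ ht]; exact List.getElem_mem ht
  · rw [List.getD_eq_default _ _ (by omega)]; exact one_mem_Ls h0

/-- the set of listed permutations -/
def TSet (E : EData) : Set (Equiv.Perm (Fin E.d)) := {σ | ∃ l ∈ E.Ls, σ = toPerm E.d l}

theorem gsub_le_TSet (h : chkAll E = true) : ∀ σ ∈ gsub E.d E.gens, σ ∈ TSet E := by
  -- left multiplication by a generator maps TSet into itself
  have hmul : ∀ g ∈ E.gens, ∀ σ ∈ TSet E, toPerm E.d g * σ ∈ TSet E := by
    rintro g hg σ ⟨l, hl, rfl⟩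
    refine ⟨rmul g l, Ls_closed h l hl g hg, ?_⟩
    rw [toPerm_rmul (gens_valid h g hg) (Ls_valid h l hl)]
  have hpow : ∀ g ∈ E.gens, ∀ n : ℕ, ∀ σ ∈ TSet E, (toPerm E.d g) ^ n * σ ∈ TSet E := by
    intro g hg n
    induction n with
    | zero => intro σ hσ; rwa [pow_zero, one_mul]
    | succ n ih =>
      intro σ hσ
      rw [pow_succ, mul_assoc]
      exact ih _ (hmul g hg σ hσ)
  have hinv : ∀ g ∈ E.gens, ∀ σ ∈ TSet E, (toPerm E.d g)⁻¹ * σ ∈ TSet E := by
    intro g hg σ hσ
    set x := toPerm E.d g
    have hpos : 0 < orderOf x := orderOf_pos x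
    have hx : x⁻¹ = x ^ (orderOf x - 1) := by
      apply inv_eq_of_mul_eq_one_right
      rw [← pow_succ', Nat.sub_add_cancel hpos, pow_orderOf_eq_one]
    rw [hx]
    exact hpow g hg _ σ hσ
  intro σ hσ
  unfold gsub at hσ
  induction hσ using Subgroup.closure_induction_left with
  | one => exact ⟨rid E.d, one_mem_Ls h, (toPerm_rid E.d).symm⟩
  | mul_left x hx y _ ih =>
    obtain ⟨g, hg, rfl⟩ := hx
    exact hmul g hg y ih
  | inv_mul_cancel x hx y _ ih =>
    obtain ⟨g, hg, rfl⟩ := hx
    exact hinv g hg y ih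

theorem mem_gsub_iff (h : chkAll E = true) (σ : Equiv.Perm (Fin E.d)) :
    σ ∈ gsub E.d E.gens ↔ ∃ l ∈ E.Ls, σ = toPerm E.d l := by
  constructor
  · exact gsub_le_TSet h σ
  · rintro ⟨l, hl, rfl⟩; exact Ls_mem_gsub h l hl


/-! ## Orders of elements -/

/-- search for the order: `cur` is the `k`-th power -/
def rordAux (d : ℕ) (l : List ℕ) : ℕ → List ℕ → ℕ → ℕ
  | 0, _, _ => 0
  | (f + 1), cur, k => if cur == rid d then k else rordAux d l f (rmul l cur) (k + 1)

/-- the order of a raw permutation (0 if larger than 200) -/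
def rord (d : ℕ) (l : List ℕ) : ℕ := rordAux d l 200 l 1

theorem rordAux_spec {d : ℕ} {l : List ℕ} (hl : RValid d l) :
    ∀ (f : ℕ) (cur : List ℕ) (k : ℕ), 1 ≤ k → RValid d cur → toPerm d cur = toPerm d l ^ k →
      (∀ j, 1 ≤ j → j < k → toPerm d l ^ j ≠ 1) → rordAux d l f cur k ≠ 0 →
      orderOf (toPerm d l) = rordAux d l f cur k := by
  intro f
  induction f with
  | zero => intro cur k _ _ _ _ h; exact absurd rfl h
  | succ f ih =>
    intro cur k hk hcur hpow hmin hne
    unfold rordAux at hne ⊢
    by_cases hc : (cur == rid d) = true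
    · rw [if_pos hc]
      rw [beq_iff_eq] at hc
      rw [hc, toPerm_rid] at hpow
      rw [orderOf_eq_iff (by omega)]
      refine ⟨hpow.symm, fun m hm hm0 => hmin m hm0 hm⟩
    · rw [if_neg hc] at hne ⊢
      apply ih (rmul l cur) (k + 1) (by omega) (rmul_valid hl hcur)
      · rw [toPerm_rmul hl hcur, hpow, pow_succ']
      · intro j hj1 hjk
        by_cases hjk' : j < k
        · exact hmin j hj1 hjk'
        · have : j = k := by omega
          subst this
          intro h1
          apply hc
          rw [beq_iff_eq]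
          apply toPerm_injective hcur (rid_valid d)
          rw [hpow, h1, toPerm_rid]
      · exact hne

theorem rord_spec {d : ℕ} {l : List ℕ} (hl : RValid d l) (h : rord d l ≠ 0) :
    orderOf (toPerm d l) = rord d l := by
  unfold rord at h ⊢
  exact rordAux_spec hl 200 l 1 le_rfl hl (pow_one _).symm (fun j h1 h2 => by omega) h

/-- the number of elements of the group killed by the `n`-th power -/
theorem card_pow_eq_one (h : chkAll E = true) (ords : List ℕ)
    (hord : E.Ls.map (rord E.d) = ords) (hnz : ∀ k ∈ ords, k ≠ 0) (n : ℕ) :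
    Nat.card {x : ↥(gsub E.d E.gens) // x ^ n = 1} = ords.countP (fun k => k ∣ n) := by
  classical
  set L' := E.Ls.filter (fun l => decide (rord E.d l ∣ n)) with hL'
  have hnd : L'.Nodup := (Ls_nodup h).filter _
  have hcount : ords.countP (fun k => k ∣ n) = L'.length := by
    rw [← hord, List.countP_map, hL', List.countP_eq_length_filter]
    rfl
  rw [hcount]
  have hordl : ∀ l ∈ E.Ls, orderOf (toPerm E.d l) = rord E.d l := by
    intro l hl
    apply rord_spec (Ls_valid h l hl)
    apply hnz
    rw [← hord]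
    exact List.mem_map_of_mem hl
  -- the bijection
  have hbij : Function.Bijective (fun l : {l // l ∈ L'} =>
      (⟨⟨toPerm E.d l.1, Ls_mem_gsub h l.1 (List.mem_filter.mp l.2).1⟩, by
        have h1 := (List.mem_filter.mp l.2)
        have h2 : rord E.d l.1 ∣ n := of_decide_eq_true h1.2
        rw [← hordl l.1 h1.1] at h2
        apply Subtype.ext
        rw [Subgroup.coe_pow, Subgroup.coe_one]
        exact orderOf_dvd_iff_pow_eq_one.mp h2⟩ :
        {x : ↥(gsub E.d E.gens) // x ^ n = 1})) := by
    constructor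
    · rintro ⟨a, ha⟩ ⟨b, hb⟩ hab
      simp only [Subtype.mk.injEq] at hab
      apply Subtype.ext
      exact toPerm_injective (Ls_valid h a (List.mem_filter.mp ha).1)
        (Ls_valid h b (List.mem_filter.mp hb).1) hab
    · rintro ⟨⟨σ, hσ⟩, hpow⟩
      obtain ⟨l, hl, rfl⟩ := (mem_gsub_iff h σ).mp hσ
      have hmem : l ∈ L' := by
        rw [hL', List.mem_filter]
        refine ⟨hl, decide_eq_true ?_⟩
        rw [← hordl l hl]
        apply orderOf_dvd_iff_pow_eq_one.mpr
        have := congrArg Subtype.val hpow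
        rwa [Subgroup.coe_pow, Subgroup.coe_one] at this
      exact ⟨⟨l, hmem⟩, rfl⟩
  rw [← Nat.card_eq_of_bijective _ hbij, Nat.card_eq_fintype_card, ← List.toFinset_card_of_nodup hnd]
  rw [Fintype.card_of_subtype L'.toFinset (fun x => List.mem_toFinset)]


/-- an exponent of the group read off from the list of orders -/
theorem pow_eq_one_of_ords (h : chkAll E = true) (ords : List ℕ)
    (hord : E.Ls.map (rord E.d) = ords) (hnz : ∀ k ∈ ords, k ≠ 0) (e : ℕ)
    (hall : ∀ k ∈ ords, k ∣ e) (x : ↥(gsub E.d E.gens)) : x ^ e = 1 := by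
  obtain ⟨σ, hσ⟩ := x
  obtain ⟨l, hl, rfl⟩ := (mem_gsub_iff h σ).mp hσ
  have hmem : rord E.d l ∈ ords := by
    rw [← hord]; exact List.mem_map_of_mem hl
  have ho : orderOf (toPerm E.d l) = rord E.d l := rord_spec (Ls_valid h l hl) (hnz _ hmem)
  apply Subtype.ext
  rw [Subgroup.coe_pow, Subgroup.coe_one]
  apply orderOf_dvd_iff_pow_eq_one.mp
  rw [ho]
  exact hall _ hmem

end Cfsg.Agent.Lib.Helper5.OT
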