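import Cfsg.Agent.Lib.Helper5.OT2

set_option autoImplicit false

/-! # Solvability certificates -/

namespace Cfsg.Agent.Lib.Helper5.OT

open scoped commutatorElement

section abstr

variable {G : Type*} [Group G]

theorem conj_closure_le (T : Set G) (s : G) (h : ∀ t ∈ T, s * t * s⁻¹ ∈ Subgroup.closure T) :
    ∀ m ∈ Subgroup.closure T, s * m * s⁻¹ ∈ Subgroup.closure T := by
  intro m hm
  induction hm using Subgroup.closure_induction with
  | mem x hx => exact h x hx
  | one => simp
  | mul x y _ _ hx hy =>
    have : s * (x * y) * s⁻¹ = (s * x * s⁻¹) * (s * y * s⁻¹) := by group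
    rw [this]; exact Subgroup.mul_mem _ hx hy
  | inv x _ hx =>
    have : s * x⁻¹ * s⁻¹ = (s * x * s⁻¹)⁻¹ := by group
    rw [this]; exact Subgroup.inv_mem _ hx

theorem mem_normalizer_of_conj (T : Set G) (s : G)
    (h1 : ∀ t ∈ T, s * t * s⁻¹ ∈ Subgroup.closure T)
    (h2 : ∀ t ∈ T, s⁻¹ * t * s ∈ Subgroup.closure T) :
    s ∈ Subgroup.normalizer ((Subgroup.closure T : Subgroup G) : Set G) := by
  rw [Subgroup.mem_normalizer_iff]
  intro m
  constructor
  · exact conj_closure_le T s h1 m
  · intro hm
    have h2' : ∀ t ∈ T, s⁻¹ * t * (s⁻¹)⁻¹ ∈ Subgroup.closure T := by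
      intro t ht; rw [inv_inv]; exact h2 t ht
    have := conj_closure_le T s⁻¹ h2' _ hm
    have e : s⁻¹ * (s * m * s⁻¹) * (s⁻¹)⁻¹ = m := by group
    rwa [e] at this

/-- the key lemma: commutators of a generated subgroup -/
theorem commutator_closure_le (S T : Set G)
    (h1 : ∀ s ∈ S, ∀ t ∈ T, s * t * s⁻¹ ∈ Subgroup.closure T)
    (h2 : ∀ s ∈ S, ∀ t ∈ T, s⁻¹ * t * s ∈ Subgroup.closure T)
    (h3 : ∀ s ∈ S, ∀ s' ∈ S, ⁅s, s'⁆ ∈ Subgroup.closure T) :
    ⁅Subgroup.closure S, Subgroup.closure S⁆ ≤ Subgroup.closure T := by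
  set M := Subgroup.closure T with hM
  have hN : Subgroup.closure S ≤ Subgroup.normalizer (M : Set G) := by
    rw [Subgroup.closure_le]
    intro s hs
    exact mem_normalizer_of_conj T s (h1 s hs) (h2 s hs)
  have hconj : ∀ x ∈ Subgroup.closure S, ∀ m ∈ M, x * m * x⁻¹ ∈ M := by
    intro x hx m hm
    exact (Subgroup.mem_normalizer_iff.mp (hN hx) m).mp hm
  have hconj' : ∀ x ∈ Subgroup.closure S, ∀ m ∈ M, x⁻¹ * m * x ∈ M := by
    intro x hx m hm
    have := hconj x⁻¹ (Subgroup.inv_mem _ hx) m hm
    rwa [inv_inv] at this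
  rw [Subgroup.commutator_le]
  intro x hx y hy
  refine Subgroup.closure_induction₂ (p := fun a b _ _ => ⁅a, b⁆ ∈ M) ?_ ?_ ?_ ?_ ?_ ?_ ?_ hx hy
  · intro a b ha hb; exact h3 a ha b hb
  · intro a _; rw [commutatorElement_one_left]; exact Subgroup.one_mem _
  · intro a _; rw [commutatorElement_one_right]; exact Subgroup.one_mem _
  · intro a b c ha _ _ hac hbc
    rw [commutatorElement_mul_left_eq_conj_mul]
    exact Subgroup.mul_mem _ (hconj a ha _ hbc) hac
  · intro b c a hb _ _ hab hac
    rw [commutatorElement_mul_right_eq_mul_conj]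
    have : ⁅a, b⁆ * b * ⁅a, c⁆ * b⁻¹ = ⁅a, b⁆ * (b * ⁅a, c⁆ * b⁻¹) := by group
    rw [this]
    exact Subgroup.mul_mem _ hab (hconj b hb _ hac)
  · intro a b ha _ hab
    rw [commutatorElement_inv_left]
    have : ⁅b, a⁆ ∈ M := by rw [← commutatorElement_inv]; exact Subgroup.inv_mem _ hab
    exact hconj' a ha _ this
  · intro a b _ hb hab
    rw [commutatorElement_inv_right]
    have : ⁅b, a⁆ ∈ M := by rw [← commutatorElement_inv]; exact Subgroup.inv_mem _ hab
    exact hconj' b hb _ this

/-- a descending chain of subgroups bounding the derived series -/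
theorem isSolvable_of_chain (N : ℕ → Subgroup G) (k : ℕ) (hk : N k = ⊥)
    (hstep : ∀ i < k, ⁅N i, N i⁆ ≤ N (i + 1)) : Group.IsSolvable ↥(N 0) := by
  -- derived series of the subgroup, mapped to G, lies in N i
  have key : ∀ i ≤ k, (derivedSeries ↥(N 0) i).map (N 0).subtype ≤ N i := by
    intro i
    induction i with
    | zero => intro _; exact Subgroup.map_subtype_le _
    | succ i ih =>
      intro hi
      rw [derivedSeries_succ, Subgroup.map_commutator]
      exact le_trans (Subgroup.commutator_mono (ih (by omega)) (ih (by omega))) (hstep i (by omega))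
  refine ⟨⟨k, ?_⟩⟩
  have := key k le_rfl
  rw [hk, le_bot_iff] at this
  exact (Subgroup.map_eq_bot_iff_of_injective _ (Subgroup.subtype_injective _)).mp this

end abstr


/-- data of a solvable series -/
structure SData where
  d : ℕ
  series : List (List (List ℕ))
  conjW : List (List (List (List ℕ × List ℕ)))
  commW : List (List (List (List ℕ)))

/-- check of one level: `S` normalizes `⟨T⟩` and commutators of `S` lie in `⟨T⟩` -/
def chkLevel (d : ℕ) (S T : List (List ℕ)) (cw : List (List (List ℕ × List ℕ)))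
    (mw : List (List (List ℕ))) : Bool :=
  (List.range S.length).all fun a =>
    (List.range T.length).all (fun b =>
      rmul (S.getD a (rid d)) (T.getD b (rid d)) ==
          rmul (rword d T ((cw.getD a []).getD b ([], [])).1) (S.getD a (rid d)) &&
        rmul (T.getD b (rid d)) (S.getD a (rid d)) ==
          rmul (S.getD a (rid d)) (rword d T ((cw.getD a []).getD b ([], [])).2)) &&
    (List.range S.length).all (fun b =>
      rmul (S.getD a (rid d)) (S.getD b (rid d)) ==
        rmul (rword d T ((mw.getD a []).getD b [])) (rmul (S.getD b (rid d)) (S.getD a (rid d))))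

/-- the full check -/
def chkS (D : SData) : Bool :=
  D.series.all (fun S => S.all (fun g => decide (RValid D.d g))) &&
  (List.range D.series.length).all (fun i =>
    chkLevel D.d (D.series.getD i []) (D.series.getD (i + 1) []) (D.conjW.getD i []) (D.commW.getD i []))

theorem level_valid {D : SData} (h : chkS D = true) (i : ℕ) :
    ∀ g ∈ D.series.getD i [], RValid D.d g := by
  unfold chkS at h
  simp only [Bool.and_eq_true, List.all_eq_true] at h
  intro g hg
  by_cases hi : i < D.series.length
  · rw [List.getD_eq_getElem _ _ hi] at hg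
    exact of_decide_eq_true (h.1 _ (List.getElem_mem hi) g hg)
  · rw [List.getD_eq_default _ _ (by omega)] at hg
    exact absurd hg (List.not_mem_nil)

theorem level_step {D : SData} (h : chkS D = true) (i : ℕ) (hi : i < D.series.length) :
    ⁅gsub D.d (D.series.getD i []), gsub D.d (D.series.getD i [])⁆ ≤
      gsub D.d (D.series.getD (i + 1) []) := by
  have hv := level_valid h
  unfold chkS at h
  simp only [Bool.and_eq_true, List.all_eq_true] at h
  have hl := h.2 i (List.mem_range.mpr hi)
  set S := D.series.getD i [] with hS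
  set T := D.series.getD (i + 1) [] with hT
  have hvS : ∀ g ∈ S, RValid D.d g := hv i
  have hvT : ∀ g ∈ T, RValid D.d g := hv (i + 1)
  unfold chkLevel at hl
  simp only [Bool.and_eq_true, List.all_eq_true, beq_iff_eq, List.mem_range] at hl
  unfold gsub
  apply commutator_closure_le
  · rintro _ ⟨s, hs, rfl⟩ _ ⟨t, ht, rfl⟩
    obtain ⟨a, ha, rfl⟩ := List.mem_iff_getElem.mp hs
    obtain ⟨b, hb, rfl⟩ := List.mem_iff_getElem.mp ht
    have e := ((hl a ha).1 b hb).1
    rw [List.getD_eq_getElem _ _ ha, List.getD_eq_getElem _ _ hb] at e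
    set w := rword D.d T ((((D.conjW.getD i []).getD a []).getD b ([], [])).1) with hw
    have hwv : RValid D.d w := rword_valid hvT _
    have e2 := congrArg (toPerm D.d) e
    rw [toPerm_rmul (hvS _ hs) (hvT _ ht), toPerm_rmul hwv (hvS _ hs)] at e2
    rw [e2, mul_inv_cancel_right]
    exact toPerm_rword_mem hvT _
  · rintro _ ⟨s, hs, rfl⟩ _ ⟨t, ht, rfl⟩
    obtain ⟨a, ha, rfl⟩ := List.mem_iff_getElem.mp hs
    obtain ⟨b, hb, rfl⟩ := List.mem_iff_getElem.mp ht
    have e := ((hl a ha).1 b hb).2
    rw [List.getD_eq_getElem _ _ ha, List.getD_eq_getElem _ _ hb] at e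
    set w := rword D.d T ((((D.conjW.getD i []).getD a []).getD b ([], [])).2) with hw
    have hwv : RValid D.d w := rword_valid hvT _
    have e2 := congrArg (toPerm D.d) e
    rw [toPerm_rmul (hvT _ ht) (hvS _ hs), toPerm_rmul (hvS _ hs) hwv] at e2
    rw [mul_assoc, e2, inv_mul_cancel_left]
    exact toPerm_rword_mem hvT _
  · rintro _ ⟨s, hs, rfl⟩ _ ⟨s', hs', rfl⟩
    obtain ⟨a, ha, rfl⟩ := List.mem_iff_getElem.mp hs
    obtain ⟨b, hb, rfl⟩ := List.mem_iff_getElem.mp hs'
    have e := (hl a ha).2 b hb
    rw [List.getD_eq_getElem _ _ ha, List.getD_eq_getElem _ _ hb] at e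
    set w := rword D.d T (((D.commW.getD i []).getD a []).getD b []) with hw
    have hwv : RValid D.d w := rword_valid hvT _
    have e2 := congrArg (toPerm D.d) e
    rw [toPerm_rmul (hvS _ hs) (hvS _ hs'), toPerm_rmul hwv (rmul_valid (hvS _ hs') (hvS _ hs)),
      toPerm_rmul (hvS _ hs') (hvS _ hs)] at e2
    have : ⁅toPerm D.d S[a], toPerm D.d S[b]⁆ = toPerm D.d w := by
      rw [commutatorElement_def, e2]; group
    rw [this]
    exact toPerm_rword_mem hvT _

theorem gsub_nil (d : ℕ) : gsub d [] = ⊥ := by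
  unfold gsub
  simp

/-- solvability from the certificate -/
theorem isSolvable_of_chkS {D : SData} (h : chkS D = true) :
    Group.IsSolvable ↥(gsub D.d (D.series.getD 0 [])) := by
  apply isSolvable_of_chain (fun i => gsub D.d (D.series.getD i [])) D.series.length
  · show gsub D.d (D.series.getD D.series.length []) = ⊥
    rw [List.getD_eq_default _ _ le_rfl, gsub_nil]
  · intro i hi
    exact level_step h i hi


/-! ## Perfectness certificates -/

theorem not_isSolvable_of_perfect {G : Type*} [Group G] (K : Subgroup G) (hK : K ≤ ⁅K, K⁆)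
    (hne : K ≠ ⊥) : ¬ Group.IsSolvable ↥K := by
  rintro ⟨⟨n, hn⟩⟩
  have key : ∀ i, K ≤ (derivedSeries ↥K i).map K.subtype := by
    intro i
    induction i with
    | zero =>
      rw [derivedSeries_zero, ← MonoidHom.range_eq_map, Subgroup.range_subtype]
    | succ i ih =>
      rw [derivedSeries_succ, Subgroup.map_commutator]
      exact le_trans hK (Subgroup.commutator_mono ih ih)
  have := key n
  rw [hn, Subgroup.map_bot, le_bot_iff] at this
  exact hne this

/-- every generator is a commutator of two words in the generators -/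
def chkPerfect (d : ℕ) (gens : List (List ℕ)) (cw : List (List ℕ × List ℕ)) : Bool :=
  gens.all (fun g => decide (RValid d g)) &&
  (List.range gens.length).all (fun k =>
    rmul (rmul (gens.getD k (rid d)) (rword d gens (cw.getD k ([], [])).2))
        (rword d gens (cw.getD k ([], [])).1) ==
      rmul (rword d gens (cw.getD k ([], [])).1) (rword d gens (cw.getD k ([], [])).2))

theorem not_isSolvable_of_chkPerfect (d : ℕ) (gens : List (List ℕ)) (cw : List (List ℕ × List ℕ))
    (h : chkPerfect d gens cw = true) (g0 : List ℕ) (hg0 : g0 ∈ gens) (hne : g0 ≠ rid d) :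
    ¬ Group.IsSolvable ↥(gsub d gens) := by
  unfold chkPerfect at h
  simp only [Bool.and_eq_true, List.all_eq_true, beq_iff_eq, List.mem_range] at h
  have hv : ∀ g ∈ gens, RValid d g := fun g hg => of_decide_eq_true (h.1 g hg)
  apply not_isSolvable_of_perfect
  · unfold gsub
    rw [Subgroup.closure_le]
    rintro _ ⟨g, hg, rfl⟩
    obtain ⟨k, hk, rfl⟩ := List.mem_iff_getElem.mp hg
    have e := h.2 k hk
    rw [List.getD_eq_getElem _ _ hk] at e
    set u := rword d gens (cw.getD k ([], [])).1 with hu
    set v := rword d gens (cw.getD k ([], [])).2 with hv'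
    have huv : RValid d u := rword_valid hv _
    have hvv : RValid d v := rword_valid hv _
    have e2 := congrArg (toPerm d) e
    rw [toPerm_rmul (rmul_valid (hv _ hg) hvv) huv, toPerm_rmul (hv _ hg) hvv,
      toPerm_rmul huv hvv] at e2
    have : toPerm d gens[k] = ⁅toPerm d u, toPerm d v⁆ := by
      rw [commutatorElement_def, ← e2]; group
    show toPerm d gens[k] ∈ ⁅Subgroup.closure _, Subgroup.closure _⁆
    rw [this]
    exact Subgroup.commutator_mem_commutator (toPerm_rword_mem hv _) (toPerm_rword_mem hv _)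
  · intro hbot
    have hmem : toPerm d g0 ∈ gsub d gens := Subgroup.subset_closure ⟨g0, hg0, rfl⟩
    rw [hbot, Subgroup.mem_bot, ← toPerm_rid] at hmem
    exact hne (toPerm_injective (hv g0 hg0) (rid_valid d) hmem)

end Cfsg.Agent.Lib.Helper5.OT
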