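import Mathlib

set_option autoImplicit false

/-! # Order types of direct products -/

namespace Cfsg.Agent.Lib.Helper5.OT

open scoped commutatorElement

/-- the number of solutions of `x ^ n = 1` -/
noncomputable def FF (X : Type*) [Group X] (n : ℕ) : ℕ := Nat.card {x : X // x ^ n = 1}

theorem FF_prod (A B : Type*) [Group A] [Group B] (n : ℕ) :
    FF (A × B) n = FF A n * FF B n := by
  unfold FF
  rw [← Nat.card_prod]
  apply Nat.card_congr
  refine ⟨fun p => (⟨p.1.1, by have := congrArg Prod.fst p.2; simpa using this⟩,
      ⟨p.1.2, by have := congrArg Prod.snd p.2; simpa using this⟩),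
    fun q => ⟨(q.1.1, q.2.1), by
      apply Prod.ext
      · simpa using q.1.2
      · simpa using q.2.2⟩, ?_, ?_⟩
  · intro p; rfl
  · intro q; rfl

theorem FF_pi (A : Type*) [Group A] (k n : ℕ) :
    FF (Fin k → A) n = FF A n ^ k := by
  unfold FF
  have e : {f : Fin k → A // f ^ n = 1} ≃ (Fin k → {a : A // a ^ n = 1}) :=
    { toFun := fun f i => ⟨f.1 i, by have := congrFun f.2 i; simpa using this⟩
      invFun := fun g => ⟨fun i => (g i).1, by
        funext i
        simpa using (g i).2⟩
      left_inv := fun f => rfl
      right_inv := fun g => rfl }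
  rw [Nat.card_congr e, Nat.card_fun, Nat.card_fin]

theorem exp_prod {A B : Type*} [Group A] [Group B] (e : ℕ) (hA : ∀ a : A, a ^ e = 1)
    (hB : ∀ b : B, b ^ e = 1) : ∀ p : A × B, p ^ e = 1 := by
  intro p
  apply Prod.ext
  · simpa using hA p.1
  · simpa using hB p.2

theorem exp_pi {A : Type*} [Group A] (k e : ℕ) (hA : ∀ a : A, a ^ e = 1) :
    ∀ f : Fin k → A, f ^ e = 1 := by
  intro f
  funext i
  simpa using hA (f i)

/-- reduction of the exponent `n` to its gcd with an exponent of the group -/
theorem FF_gcd (X : Type*) [Group X] (e : ℕ) (hX : ∀ x : X, x ^ e = 1) (n : ℕ) :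
    FF X n = FF X (Nat.gcd n e) := by
  unfold FF
  apply Nat.card_congr
  apply Equiv.subtypeEquivRight
  intro x
  constructor
  · intro h
    have h1 : orderOf x ∣ n := orderOf_dvd_of_pow_eq_one h
    have h2 : orderOf x ∣ e := orderOf_dvd_of_pow_eq_one (hX x)
    exact orderOf_dvd_iff_pow_eq_one.mp (Nat.dvd_gcd h1 h2)
  · intro h
    have h1 : orderOf x ∣ Nat.gcd n e := orderOf_dvd_of_pow_eq_one h
    exact orderOf_dvd_iff_pow_eq_one.mp (dvd_trans h1 (Nat.gcd_dvd_left n e))

instance isSolvable_pi (A : Type*) [Group A] [hA : Group.IsSolvable A] (ι : Type*) :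
    Group.IsSolvable (ι → A) := by
  obtain ⟨⟨n, hn⟩⟩ := hA
  have key : ∀ i, derivedSeries (ι → A) i ≤ Subgroup.pi Set.univ (fun _ => derivedSeries A i) := by
    intro i
    induction i with
    | zero =>
      intro x _
      rw [Subgroup.mem_pi]
      intro j _
      simp
    | succ i ih =>
      rw [derivedSeries_succ, derivedSeries_succ]
      exact le_trans (Subgroup.commutator_mono ih ih) (Subgroup.commutator_pi_pi_le _ _)
  refine ⟨⟨n, ?_⟩⟩
  have := key n
  rw [hn] at this
  rw [eq_bot_iff]
  intro x hx
  have h2 := this hx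
  rw [Subgroup.mem_pi] at h2
  rw [Subgroup.mem_bot]
  funext j
  exact (Subgroup.mem_bot.mp (h2 j (Set.mem_univ j)))

theorem conv_ord (X : Type*) [Group X] [Fintype X] [DecidableEq X] (m : ℕ) :
    Nat.card {x : X // orderOf x = m} = (Finset.univ.filter (fun x : X => orderOf x = m)).card := by
  rw [Nat.card_eq_fintype_card, Fintype.card_subtype]

theorem conv_FF (X : Type*) [Group X] [Fintype X] [DecidableEq X] (m : ℕ) :
    FF X m = (Finset.univ.filter (fun x : X => x ^ m = 1)).card := by
  unfold FF
  rw [Nat.card_eq_fintype_card, Fintype.card_subtype]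

/-- equal power-solution counts give equal order counts -/
theorem card_orderOf_eq_of_FF (G H : Type*) [Group G] [Group H] [Finite G] [Finite H]
    (h : ∀ n, FF G n = FF H n) (n : ℕ) :
    Nat.card {g : G // orderOf g = n} = Nat.card {x : H // orderOf x = n} := by
  classical
  haveI : Fintype G := Fintype.ofFinite G
  haveI : Fintype H := Fintype.ofFinite H
  rw [conv_ord G n, conv_ord H n]
  induction n using Nat.strong_induction_on with
  | _ n ih =>
    rcases Nat.eq_zero_or_pos n with rfl | hn
    · have hG : (Finset.univ.filter (fun x : G => orderOf x = 0)) = ∅ := by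
        apply Finset.filter_eq_empty_iff.mpr
        intro x _
        exact (orderOf_pos x).ne'
      have hH : (Finset.univ.filter (fun x : H => orderOf x = 0)) = ∅ := by
        apply Finset.filter_eq_empty_iff.mpr
        intro x _
        exact (orderOf_pos x).ne'
      rw [hG, hH, Finset.card_empty, Finset.card_empty]
    · have sG := sum_card_orderOf_eq_card_pow_eq_one (G := G) (n := n) hn.ne'
      have sH := sum_card_orderOf_eq_card_pow_eq_one (G := H) (n := n) hn.ne'
      have hF := h n
      rw [conv_FF G n, conv_FF H n, ← sG, ← sH] at hF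
      rw [← Nat.cons_self_properDivisors hn.ne', Finset.sum_cons, Finset.sum_cons] at hF
      have hrest : ∑ m ∈ n.properDivisors, (Finset.univ.filter (fun x : G => orderOf x = m)).card =
          ∑ m ∈ n.properDivisors, (Finset.univ.filter (fun x : H => orderOf x = m)).card := by
        apply Finset.sum_congr rfl
        intro m hm
        exact ih m (Nat.mem_properDivisors.mp hm).2
      omega

end Cfsg.Agent.Lib.Helper5.OT
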