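import Cfsg.Agent.Lib.Helper5.OT2
import Cfsg.Agent.Lib.Helper5.OT3
import Cfsg.Agent.Lib.Helper5.OT4

set_option autoImplicit false

/-! # Order types: certified solvable permutation groups and the assembly of the example -/

namespace Cfsg.Agent.Lib.Helper5.OT

open scoped commutatorElement

/-- dependent products: the number of solutions of `x ^ n = 1` is multiplicative -/
theorem FF_dpi {ι : Type} [Fintype ι] (A : ι → Type) [∀ i, Group (A i)] (n : ℕ) :
    FF (∀ i, A i) n = ∏ i, FF (A i) n := by
  unfold FF
  have e : {f : ∀ i, A i // f ^ n = 1} ≃ (∀ i, {a : A i // a ^ n = 1}) :=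
    { toFun := fun f i => ⟨f.1 i, by have := congrFun f.2 i; simpa using this⟩
      invFun := fun g => ⟨fun i => (g i).1, by
        funext i
        simpa using (g i).2⟩
      left_inv := fun f => rfl
      right_inv := fun g => rfl }
  rw [Nat.card_congr e, Nat.card_pi]

theorem exp_dpi {ι : Type} (A : ι → Type) [∀ i, Group (A i)] (e : ℕ)
    (hA : ∀ i, ∀ a : A i, a ^ e = 1) : ∀ f : (∀ i, A i), f ^ e = 1 := by
  intro f
  funext i
  simpa using hA i (f i)

theorem isSolvable_dpi {ι : Type} [Finite ι] (A : ι → Type) [∀ i, Group (A i)]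
    (hA : ∀ i, Group.IsSolvable (A i)) : Group.IsSolvable (∀ i, A i) := by
  classical
  haveI : Fintype ι := Fintype.ofFinite ι
  choose n hn using fun i => (hA i).solvable
  have key : ∀ k, derivedSeries (∀ i, A i) k ≤
      Subgroup.pi Set.univ (fun i => derivedSeries (A i) k) := by
    intro k
    induction k with
    | zero =>
      intro x _
      rw [Subgroup.mem_pi]
      intro j _
      simp
    | succ k ih =>
      rw [derivedSeries_succ]
      refine le_trans (Subgroup.commutator_mono ih ih) ?_
      refine le_trans (Subgroup.commutator_pi_pi_le _ _) ?_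
      intro x hx
      rw [Subgroup.mem_pi] at hx ⊢
      intro j hj
      have := hx j hj
      rwa [derivedSeries_succ]
  let N := Finset.univ.sup n
  refine ⟨⟨N, ?_⟩⟩
  rw [eq_bot_iff]
  intro x hx
  have h2 := key N hx
  rw [Subgroup.mem_pi] at h2
  rw [Subgroup.mem_bot]
  funext j
  have h3 := h2 j (Set.mem_univ j)
  have h4 : derivedSeries (A j) N ≤ derivedSeries (A j) (n j) :=
    derivedSeries_antitone (A j) (Finset.le_sup (f := n) (Finset.mem_univ j))
  have h5 := h4 h3
  rw [hn j] at h5
  exact Subgroup.mem_bot.mp h5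

/-- a certified solvable permutation group of exponent dividing `84` -/
structure SCert where
  /-- enumeration data -/
  E : EData
  /-- element orders -/
  ords : List ℕ
  /-- solvable series data -/
  S : SData
  chk : chkAll E = true
  ord : E.Ls.map (rord E.d) = ords
  nz : ∀ k ∈ ords, k ≠ 0
  ex : ∀ k ∈ ords, k ∣ 84
  chkS : OT.chkS S = true
  hd : S.d = E.d
  hg : S.series.getD 0 [] = E.gens

/-- the group of a certificate -/
abbrev SCert.Grp (c : SCert) : Type := ↥(gsub c.E.d c.E.gens)

theorem SCert.FF_eq (c : SCert) (n : ℕ) : FF c.Grp n = c.ords.countP (fun k => k ∣ n) :=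
  card_pow_eq_one c.chk c.ords c.ord c.nz n

theorem SCert.exp (c : SCert) (x : c.Grp) : x ^ 84 = 1 :=
  pow_eq_one_of_ords c.chk c.ords c.ord c.nz 84 c.ex x

theorem SCert.sol (c : SCert) : Group.IsSolvable c.Grp := by
  have h := isSolvable_of_chkS c.chkS
  rw [c.hd, c.hg] at h
  exact h

/-- the product group attached to a list of certificates with multiplicities -/
abbrev PGrp (L : List SCert) (k : List ℕ) : Type :=
  ∀ i : Fin L.length, (Fin (k.getD i 0) → (L.get i).Grp)

/-- the numerical count of solutions of `x ^ m = 1` in `PGrp L k` -/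
def pnum (L : List SCert) (k : List ℕ) (m : ℕ) : ℕ :=
  ((List.finRange L.length).map
    (fun i => ((L.get i).ords.countP (fun j => j ∣ m)) ^ (k.getD i 0))).prod

theorem PGrp_FF (L : List SCert) (k : List ℕ) (m : ℕ) : FF (PGrp L k) m = pnum L k m := by
  unfold PGrp pnum
  rw [FF_dpi, Fin.prod_univ_def]
  congr 1
  apply List.map_congr_left
  intro i _
  rw [FF_pi, SCert.FF_eq]

theorem PGrp_exp (L : List SCert) (k : List ℕ) (x : PGrp L k) : x ^ 84 = 1 := by
  apply exp_dpi
  intro i
  apply exp_pi
  exact (L.get i).exp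

theorem PGrp_sol (L : List SCert) (k : List ℕ) : Group.IsSolvable (PGrp L k) := by
  apply isSolvable_dpi
  intro i
  haveI := (L.get i).sol
  infer_instance

/-- the assembly: a solvable and a non-solvable group with the same order statistics -/
theorem assemble (L : List SCert) (kG kH : List ℕ) (P : Type) [Group P] [Finite P]
    (hP : ¬ Group.IsSolvable P) (hPexp : ∀ x : P, x ^ 84 = 1) (fP : ℕ → ℕ)
    (hfP : ∀ n, FF P n = fP n)
    (hnum : ∀ m ∈ List.range 85, m ∣ 84 → pnum L kG m = fP m * pnum L kH m) :
    ∃ (G : Type) (_ : Group G) (_ : Finite G) (H : Type) (_ : Group H) (_ : Finite H),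
      Group.IsSolvable G ∧ ¬ Group.IsSolvable H ∧
        ∀ n, Nat.card {g : G // orderOf g = n} = Nat.card {h : H // orderOf h = n} := by
  refine ⟨PGrp L kG, inferInstance, inferInstance, P × PGrp L kH, inferInstance, inferInstance,
    PGrp_sol L kG, ?_, ?_⟩
  · intro h
    apply hP
    exact solvable_of_surjective (f := MonoidHom.fst P (PGrp L kH)) (fun p => ⟨(p, 1), rfl⟩)
  · apply card_orderOf_eq_of_FF
    intro n
    rw [FF_gcd _ 84 (PGrp_exp L kG) n,
      FF_gcd _ 84 (exp_prod 84 hPexp (PGrp_exp L kH)) n, FF_prod, PGrp_FF, PGrp_FF, hfP]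
    have h1 : Nat.gcd n 84 ∣ 84 := Nat.gcd_dvd_right n 84
    have h2 : Nat.gcd n 84 ≤ 84 := Nat.le_of_dvd (by norm_num) h1
    exact hnum _ (List.mem_range.mpr (by omega)) h1

end Cfsg.Agent.Lib.Helper5.OT
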