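import Cfsg.Agent.Lib.Helper5.OT5
import Cfsg.Agent.Lib.Helper5.OTD.G0
import Cfsg.Agent.Lib.Helper5.OTD.G1
import Cfsg.Agent.Lib.Helper5.OTD.G2
import Cfsg.Agent.Lib.Helper5.OTD.G3
import Cfsg.Agent.Lib.Helper5.OTD.G4
import Cfsg.Agent.Lib.Helper5.OTD.G5
import Cfsg.Agent.Lib.Helper5.OTD.G6
import Cfsg.Agent.Lib.Helper5.OTD.G7
import Cfsg.Agent.Lib.Helper5.OTD.G8
import Cfsg.Agent.Lib.Helper5.OTD.G9
import Cfsg.Agent.Lib.Helper5.OTD.G10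
import Cfsg.Agent.Lib.Helper5.OTD.G11
import Cfsg.Agent.Lib.Helper5.OTD.G12
import Cfsg.Agent.Lib.Helper5.OTD.G13
import Cfsg.Agent.Lib.Helper5.OTD.G14
import Cfsg.Agent.Lib.Helper5.OTD.G15
import Cfsg.Agent.Lib.Helper5.OTD.G16
import Cfsg.Agent.Lib.Helper5.OTD.G17
import Cfsg.Agent.Lib.Helper5.OTD.G18
import Cfsg.Agent.Lib.Helper5.OTD.G19
import Cfsg.Agent.Lib.Helper5.OTD.G20
import Cfsg.Agent.Lib.Helper5.OTD.G21
import Cfsg.Agent.Lib.Helper5.OTD.G22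
import Cfsg.Agent.Lib.Helper5.OTD.G23
import Cfsg.Agent.Lib.Helper5.OTD.G24
import Cfsg.Agent.Lib.Helper5.OTD.G25
import Cfsg.Agent.Lib.Helper5.OTD.G26
import Cfsg.Agent.Lib.Helper5.OTD.G27
import Cfsg.Agent.Lib.Helper5.OTD.G28
import Cfsg.Agent.Lib.Helper5.OTD.G29
import Cfsg.Agent.Lib.Helper5.OTD.G30
import Cfsg.Agent.Lib.Helper5.OTD.G31
import Cfsg.Agent.Lib.Helper5.OTD.G32
import Cfsg.Agent.Lib.Helper5.OTD.G33

set_option autoImplicit false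
set_option maxRecDepth 100000

/-! # Order types: the final example -/

namespace Cfsg.Agent.Lib.Helper5.OT

open D

/-- the list of certified solvable groups -/
def csL : List SCert :=
  [ ⟨e0, ords0, s0, chk0, ord0, nz0, ex0, chkS0, rfl, rfl⟩,
    ⟨e1, ords1, s1, chk1, ord1, nz1, ex1, chkS1, rfl, rfl⟩,
    ⟨e2, ords2, s2, chk2, ord2, nz2, ex2, chkS2, rfl, rfl⟩,
    ⟨e3, ords3, s3, chk3, ord3, nz3, ex3, chkS3, rfl, rfl⟩,
    ⟨e4, ords4, s4, chk4, ord4, nz4, ex4, chkS4, rfl, rfl⟩,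
    ⟨e5, ords5, s5, chk5, ord5, nz5, ex5, chkS5, rfl, rfl⟩,
    ⟨e6, ords6, s6, chk6, ord6, nz6, ex6, chkS6, rfl, rfl⟩,
    ⟨e7, ords7, s7, chk7, ord7, nz7, ex7, chkS7, rfl, rfl⟩,
    ⟨e8, ords8, s8, chk8, ord8, nz8, ex8, chkS8, rfl, rfl⟩,
    ⟨e9, ords9, s9, chk9, ord9, nz9, ex9, chkS9, rfl, rfl⟩,
    ⟨e10, ords10, s10, chk10, ord10, nz10, ex10, chkS10, rfl, rfl⟩,
    ⟨e11, ords11, s11, chk11, ord11, nz11, ex11, chkS11, rfl, rfl⟩,
    ⟨e12, ords12, s12, chk12, ord12, nz12, ex12, chkS12, rfl, rfl⟩,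
    ⟨e13, ords13, s13, chk13, ord13, nz13, ex13, chkS13, rfl, rfl⟩,
    ⟨e14, ords14, s14, chk14, ord14, nz14, ex14, chkS14, rfl, rfl⟩,
    ⟨e15, ords15, s15, chk15, ord15, nz15, ex15, chkS15, rfl, rfl⟩,
    ⟨e16, ords16, s16, chk16, ord16, nz16, ex16, chkS16, rfl, rfl⟩,
    ⟨e17, ords17, s17, chk17, ord17, nz17, ex17, chkS17, rfl, rfl⟩,
    ⟨e18, ords18, s18, chk18, ord18, nz18, ex18, chkS18, rfl, rfl⟩,
    ⟨e19, ords19, s19, chk19, ord19, nz19, ex19, chkS19, rfl, rfl⟩,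
    ⟨e20, ords20, s20, chk20, ord20, nz20, ex20, chkS20, rfl, rfl⟩,
    ⟨e21, ords21, s21, chk21, ord21, nz21, ex21, chkS21, rfl, rfl⟩,
    ⟨e22, ords22, s22, chk22, ord22, nz22, ex22, chkS22, rfl, rfl⟩,
    ⟨e23, ords23, s23, chk23, ord23, nz23, ex23, chkS23, rfl, rfl⟩,
    ⟨e24, ords24, s24, chk24, ord24, nz24, ex24, chkS24, rfl, rfl⟩,
    ⟨e25, ords25, s25, chk25, ord25, nz25, ex25, chkS25, rfl, rfl⟩,
    ⟨e26, ords26, s26, chk26, ord26, nz26, ex26, chkS26, rfl, rfl⟩,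
    ⟨e27, ords27, s27, chk27, ord27, nz27, ex27, chkS27, rfl, rfl⟩,
    ⟨e28, ords28, s28, chk28, ord28, nz28, ex28, chkS28, rfl, rfl⟩,
    ⟨e29, ords29, s29, chk29, ord29, nz29, ex29, chkS29, rfl, rfl⟩,
    ⟨e30, ords30, s30, chk30, ord30, nz30, ex30, chkS30, rfl, rfl⟩,
    ⟨e31, ords31, s31, chk31, ord31, nz31, ex31, chkS31, rfl, rfl⟩,
    ⟨e32, ords32, s32, chk32, ord32, nz32, ex32, chkS32, rfl, rfl⟩ ]

/-- multiplicities on the solvable side -/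
def kGL : List ℕ := [0, 0, 3, 4, 2, 0, 0, 6, 0, 5, 0, 0, 1, 0, 0, 2, 0, 0, 2, 5, 1, 0, 5, 1, 0, 1, 2, 0, 1, 0, 0, 2, 1]

/-- multiplicities on the non-solvable side -/
def kHL : List ℕ := [6, 3, 0, 0, 0, 3, 2, 0, 2, 0, 1, 3, 0, 8, 1, 0, 7, 2, 0, 0, 0, 2, 0, 0, 5, 0, 0, 1, 0, 1, 1, 0, 0]

/-- the non-solvable factor `PSL₂(7)` on seven points -/
abbrev P33 : Type := ↥(gsub e33.d e33.gens)

theorem P33_not_solvable : ¬ Group.IsSolvable P33 :=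
  not_isSolvable_of_chkPerfect e33.d e33.gens cw33 chkP33 [3, 0, 4, 1, 5, 2, 6]
    (by decide) (by decide)

theorem P33_exp (x : P33) : x ^ 84 = 1 :=
  pow_eq_one_of_ords chk33 ords33 ord33 nz33 84 ex33 x

theorem P33_FF (n : ℕ) : FF P33 n = ords33.countP (fun k => k ∣ n) :=
  card_pow_eq_one chk33 ords33 ord33 nz33 n

theorem numeric : ∀ m ∈ List.range 85, m ∣ 84 →
    pnum csL kGL m = ords33.countP (fun k => k ∣ m) * pnum csL kHL m := by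
  decide +kernel

/-- a solvable and a non-solvable finite group with the same number of elements of each order -/
theorem same_order_type :
    ∃ (G : Type) (_ : Group G) (_ : Finite G) (H : Type) (_ : Group H) (_ : Finite H),
      Group.IsSolvable G ∧ ¬ Group.IsSolvable H ∧
        ∀ n, Nat.card {g : G // orderOf g = n} = Nat.card {h : H // orderOf h = n} :=
  assemble csL kGL kHL P33 P33_not_solvable P33_exp _ P33_FF numeric

end Cfsg.Agent.Lib.Helper5.OT
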