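import Mathlib
import Cfsg.Agent.Lib.Helper5.WrH7

set_option autoImplicit false

universe u

namespace Cfsg.Agent.Lib.Helper5.WrH

open Equiv Cfsg.Agent.Lib.Helper5.WrP Cfsg.Agent.Lib.Helper5.WrG Cfsg.Agent.Lib.Helper5.SylSym

/-- the `2`-part of the multiplicative group -/
def unitsTwo (F : Type*) [Field F] : Subgroup Fˣ :=
  twoPart (⊤ : Subgroup Fˣ) (fun x _ y _ => mul_comm x y)

theorem card_unitsTwo {F : Type*} [Field F] [Fintype F] :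
    Nat.card (unitsTwo F) = 2 ^ padicValNat 2 (Fintype.card F - 1) := by
  unfold unitsTwo
  rw [card_twoPart, Subgroup.card_top, Nat.card_units, Nat.card_eq_fintype_card]

/-- the standard Sylow `2`-subgroup of `GL_n(q)`, `q` odd -/
theorem exists_sylow2_gl {F : Type u} [Field F] [Fintype F] (hq : Odd (Fintype.card F)) (n : ℕ)
    (T : Sylow 2 (Perm (Fin (n / 2)))) :
    ∃ (D₁ : WrData (GL (Fin 2) F) (Fin (n / 2)) (GL (Fin n) F))
      (D₂ : WrData Fˣ (Fin (n % 2)) (GL (Fin n) F)),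
      (∀ x ∈ D₁.W ⊤ ⊤, ∀ z ∈ D₂.W ⊤ ⊤, x * z = z * x) ∧
      (∀ x ∈ D₁.W ⊤ ⊤, x ∈ D₂.W ⊤ ⊤ → x = 1) ∧
      ∃ (hc : ∀ x ∈ D₁.W (glTwo F) (T : Subgroup (Perm (Fin (n / 2)))),
          ∀ z ∈ D₂.W (unitsTwo F) ⊥, x * z = z * x)
        (P : Sylow 2 (GL (Fin n) F)),
        (P : Subgroup (GL (Fin n) F)) =
          prodSub (D₁.W (glTwo F) (T : Subgroup (Perm (Fin (n / 2))))) (D₂.W (unitsTwo F) ⊥) hc := by
  classical
  haveI : Fact (Nat.Prime 2) := ⟨Nat.prime_two⟩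
  have hq1 : 1 < Fintype.card F := Fintype.one_lt_card
  obtain ⟨D₁, D₂, hcomm, hdisj⟩ := exists_gl_data F n
  have hcomm' : ∀ x ∈ D₁.W ⊤ ⊤, ∀ z ∈ D₂.W ⊤ ⊤, x * z = z * x := by
    rintro _ ⟨f, _, t, _, rfl⟩ _ ⟨g, _, s, _, rfl⟩
    exact hcomm f t g s
  have hdisj' : ∀ x ∈ D₁.W ⊤ ⊤, x ∈ D₂.W ⊤ ⊤ → x = 1 := by
    rintro _ ⟨f, _, t, _, rfl⟩ ⟨g, _, s, _, h⟩
    exact hdisj f t g s h
  have hc : ∀ x ∈ D₁.W (glTwo F) (T : Subgroup (Perm (Fin (n / 2)))),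
      ∀ z ∈ D₂.W (unitsTwo F) ⊥, x * z = z * x := by
    intro x hx z hz
    exact hcomm' x (D₁.W_mono le_top le_top hx) z (D₂.W_mono le_top le_top hz)
  have hd : ∀ x ∈ D₁.W (glTwo F) (T : Subgroup (Perm (Fin (n / 2)))),
      x ∈ D₂.W (unitsTwo F) ⊥ → x = 1 := by
    intro x hx hz
    exact hdisj' x (D₁.W_mono le_top le_top hx) (D₂.W_mono le_top le_top hz)
  have hcard : Nat.card (prodSub (D₁.W (glTwo F) (T : Subgroup (Perm (Fin (n / 2)))))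
      (D₂.W (unitsTwo F) ⊥) hc) = 2 ^ (Nat.card (GL (Fin n) F)).factorization 2 := by
    rw [card_prodSub hd, WrData.card_W, WrData.card_W, card_glTwo hq, card_unitsTwo,
      card_sylow_perm 2 (n / 2) T, Fintype.card_fin, Fintype.card_fin, Subgroup.card_bot, mul_one,
      Matrix.card_GL_field, val_card_GL_two hq1 hq n, ← pow_mul, ← pow_mul, ← pow_add, ← pow_add]
    congr 1
    have e : n - n / 2 = n / 2 + n % 2 := by omega
    rw [e]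
    ring
  exact ⟨D₁, D₂, hcomm', hdisj', hc, Sylow.ofCard _ hcard, rfl⟩

end Cfsg.Agent.Lib.Helper5.WrH
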