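import Mathlib
import Cfsg.Agent.Lib.Helper5.WrH8

set_option autoImplicit false

universe u

namespace Cfsg.Agent.Lib.Helper5.WrH

open Equiv Cfsg.Agent.Lib.Helper5.WrP Cfsg.Agent.Lib.Helper5.WrG Cfsg.Agent.Lib.Helper5.SylSym

theorem dser_anti {G : Type*} [Group G] (H : Subgroup G) {i j : ℕ} (h : i ≤ j) :
    dser H j ≤ dser H i := by
  obtain ⟨k, rfl⟩ := Nat.exists_eq_add_of_le h
  rw [dser_add]
  exact dser_le _ _

theorem W_eq_bot_of_isEmpty {A ι G : Type*} [Group A] [Group G] [IsEmpty ι] (D : WrData A ι G)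
    (Q : Subgroup A) (T : Subgroup (Perm ι)) : D.W Q T = ⊥ := by
  rw [eq_bot_iff]
  rintro _ ⟨f, _, t, _, rfl⟩
  have h1 : f = 1 := Subsingleton.elim _ _
  have h2 : t = 1 := Subsingleton.elim _ _
  rw [h1, h2, map_one, map_one, one_mul]
  exact Subgroup.one_mem _

/-- derived length of Sylow `2`-subgroups of `GL_n(q)`, `q` odd: upper bound -/
theorem sylow2_gl_dser {F : Type u} [Field F] [Fintype F] (hq : Odd (Fintype.card F)) (n : ℕ)
    (hn : 1 ≤ n) (P : Sylow 2 (GL (Fin n) F)) :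
    dser (P : Subgroup (GL (Fin n) F)) (Nat.log 2 n + 1) = ⊥ := by
  haveI : Fact (Nat.Prime 2) := ⟨Nat.prime_two⟩
  obtain ⟨T, hT⟩ := exists_sylow_dser (n / 2)
  obtain ⟨D₁, D₂, hcomm, hdisj, hc, P₀, hP₀⟩ := exists_sylow2_gl hq n T
  obtain ⟨g, hg⟩ := sylow_conj P₀ P
  rw [hg, ← dser_map, hP₀]
  have hZ : ∀ z ∈ D₂.W (unitsTwo F) (⊥ : Subgroup (Perm (Fin (n % 2)))),
      ∀ z' ∈ D₂.W (unitsTwo F) (⊥ : Subgroup (Perm (Fin (n % 2)))), z * z' = z' * z := by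
    intro z hz z' hz'
    exact D₂.W_bot_comm (fun a _ b _ => mul_comm a b) hz hz'
  have h1 := dser_prodSub_le (hc := hc) hZ (Nat.log 2 n)
  have h2 : dser (D₁.W (glTwo F) (T : Subgroup (Perm (Fin (n / 2))))) (Nat.log 2 n + 1) = ⊥ := by
    by_cases hm : n / 2 = 0
    · haveI : IsEmpty (Fin (n / 2)) := by
        rw [hm]
        infer_instance
      rw [W_eq_bot_of_isEmpty, dser_bot]
    · have hn2 : 2 ≤ n := by omega
      have e : Nat.log 2 n + 1 = Nat.log 2 (n / 2) + 2 := by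
        rw [Nat.log_of_one_lt_of_le (by norm_num) hn2]
      rw [e]
      exact D₁.dser_W_eq_bot hT dser_glTwo
  rw [h2, le_bot_iff] at h1
  rw [h1, Subgroup.map_bot]

end Cfsg.Agent.Lib.Helper5.WrH
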