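import Mathlib
import Cfsg.Agent.Lib.Helper5.WrH9

set_option autoImplicit false

namespace Cfsg.Agent.Lib.Helper5.WrH

open Equiv Cfsg.Agent.Lib.Helper5.WrP

variable {A ι G : Type*} [Group A] [Group G] (D : WrData A ι G)

/-- the base subgroup over a subgroup normalised by `Q` is normalised by the wreath product -/
theorem W_bot_normalized' {Z Q : Subgroup A} {T : Subgroup (Perm ι)}
    (hZ : ∀ z ∈ Z, ∀ a ∈ Q, a * z * a⁻¹ ∈ Z) {g y : G} (hg : g ∈ D.W Q T)
    (hy : y ∈ D.W Z (⊥ : Subgroup (Perm ι))) : g * y * g⁻¹ ∈ D.W Z (⊥ : Subgroup (Perm ι)) := by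
  obtain ⟨f, hf, t, ht, rfl⟩ := hg
  obtain ⟨z, hz, rfl⟩ := D.mem_W_bot.1 hy
  rw [D.mem_W_bot]
  refine ⟨fun i => f i * z (t⁻¹ i) * (f i)⁻¹, fun i => hZ _ (hz _) _ (hf i), ?_⟩
  have h1 : D.β f * D.π t * D.β z * (D.β f * D.π t)⁻¹ =
      D.β f * (D.π t * D.β z * (D.π t)⁻¹) * (D.β f)⁻¹ := by group
  rw [h1, D.conj, ← map_inv, ← map_mul, ← map_mul]
  rfl

/-- a normal subgroup of exponent `2` lies in the base group over `Z`, where `Z` contains the
involutions of `Q` all of whose commutators with `Q` are involutions -/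
theorem le_W_bot_of_normal' [DecidableEq ι] {Z Q : Subgroup A} {T : Subgroup (Perm ι)}
    {E : Subgroup G} (hE : E ≤ D.W Q T)
    (hnorm : ∀ g ∈ D.W Q T, ∀ y ∈ E, g * y * g⁻¹ ∈ E) (hsq : ∀ y ∈ E, y * y = 1)
    (hb : ∃ b ∈ Q, b * b ≠ 1)
    (hZ : ∀ a ∈ Q, a * a = 1 →
      (∀ c ∈ Q, (c * a * c⁻¹ * a⁻¹) * (c * a * c⁻¹ * a⁻¹) = 1) → a ∈ Z) :
    E ≤ D.W Z (⊥ : Subgroup (Perm ι)) := by
  have h0 : E ≤ D.W Q (⊥ : Subgroup (Perm ι)) := by
    apply D.le_W_bot_of_normal hE hnorm hsq hb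
    intro a ha _
    exact ha
  intro e he
  obtain ⟨f, hf, rfl⟩ := D.mem_W_bot.1 (h0 he)
  rw [D.mem_W_bot]
  refine ⟨f, ?_, rfl⟩
  intro i
  apply hZ _ (hf i)
  · have h2 := hsq _ he
    rw [← map_mul] at h2
    have h3 := D.beta_injective (h2.trans (map_one D.β).symm)
    exact congrFun h3 i
  · intro c hc
    set x : G := D.β (Pi.mulSingle i c) with hx
    have hxW : x ∈ D.W Q T := by
      apply D.beta_mem
      intro j
      by_cases hj : j = i
      · subst hj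
        rw [Pi.mulSingle_eq_same]
        exact hc
      · rw [Pi.mulSingle_eq_of_ne hj]
        exact Q.one_mem
    have hcE : x * D.β f * x⁻¹ * (D.β f)⁻¹ ∈ E := E.mul_mem (hnorm x hxW _ he) (E.inv_mem he)
    have h2 := hsq _ hcE
    rw [hx, ← map_inv, ← map_inv, ← map_mul, ← map_mul, ← map_mul, ← map_mul] at h2
    have h3 := D.beta_injective (h2.trans (map_one D.β).symm)
    have h4 := congrFun h3 i
    simpa only [Pi.mul_apply, Pi.inv_apply, Pi.mulSingle_eq_same, Pi.one_apply] using h4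

end Cfsg.Agent.Lib.Helper5.WrH
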