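import Mathlib
import Cfsg.Agent.Lib.Helper5.WrH10

set_option autoImplicit false

namespace Cfsg.Agent.Lib.Helper5.WrH

open Cfsg.Agent.Lib.Helper5.WrP Matrix

variable {F : Type*} [Field F]

/-- the involutions of the torus -/
def torOm (F : Type*) [Field F] : Subgroup (GL (Fin 2) F) where
  carrier := {M | M ∈ tor F ∧ M * M = 1}
  one_mem' := ⟨(tor F).one_mem, one_mul 1⟩
  mul_mem' := by
    rintro M N ⟨h1, h2⟩ ⟨h3, h4⟩
    refine ⟨(tor F).mul_mem h1 h3, ?_⟩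
    calc M * N * (M * N) = M * (N * M) * N := by group
      _ = M * (M * N) * N := by rw [tor_comm h3 h1]
      _ = (M * M) * (N * N) := by group
      _ = 1 := by rw [h2, h4, one_mul]
  inv_mem' := by
    rintro M ⟨h1, h2⟩
    refine ⟨(tor F).inv_mem h1, ?_⟩
    rw [← _root_.mul_inv_rev, h2, inv_one]

theorem mem_torOm {M : GL (Fin 2) F} : M ∈ torOm F ↔ M ∈ tor F ∧ M * M = 1 := Iff.rfl

theorem torOm_le_torTwo : torOm F ≤ torTwo F := by
  rintro M ⟨h1, h2⟩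
  refine ⟨h1, 1, ?_⟩
  rw [pow_one, pow_two, h2]

theorem torOm_le_glTwo : torOm F ≤ glTwo F := le_trans torOm_le_torTwo torTwo_le_glTwo

theorem torOm_sq {M : GL (Fin 2) F} (hM : M ∈ torOm F) : M * M = 1 := hM.2

theorem torOm_comm {M N : GL (Fin 2) F} (hM : M ∈ torOm F) (hN : N ∈ torOm F) :
    M * N = N * M := tor_comm hM.1 hN.1

theorem conj_sq_one {G : Type*} [Group G] (a z : G) (hz : z * z = 1) :
    (a * z * a⁻¹) * (a * z * a⁻¹) = 1 := by
  calc (a * z * a⁻¹) * (a * z * a⁻¹) = a * (z * z) * a⁻¹ := by group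
    _ = 1 := by rw [hz, mul_one, mul_inv_cancel]

/-- the involutions of the torus are normalised by the Sylow subgroup -/
theorem torOm_normalized {z a : GL (Fin 2) F} (hz : z ∈ torOm F) (ha : a ∈ glTwo F) :
    a * z * a⁻¹ ∈ torOm F := by
  refine ⟨?_, conj_sq_one a z hz.2⟩
  rcases ha with ha | ha
  · exact (tor F).mul_mem ((tor F).mul_mem (torTwo_le ha) hz.1) ((tor F).inv_mem (torTwo_le ha))
  · have e : a * z * a⁻¹ = (a * sg F) * (sg F * z * (sg F)⁻¹) * (a * sg F)⁻¹ := by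
      rw [_root_.mul_inv_rev]
      calc a * z * a⁻¹ = a * 1 * z * 1 * a⁻¹ := by group
        _ = a * (sg F * sg F) * z * (sg F * sg F) * a⁻¹ := by rw [sg_mul_self]
        _ = a * sg F * (sg F * z * sg F) * (sg F * a⁻¹) := by group
        _ = _ := by rw [sg_inv]
    rw [e]
    exact (tor F).mul_mem ((tor F).mul_mem (torTwo_le ha) (sg_conj_mem hz.1))
      ((tor F).inv_mem (torTwo_le ha))

/-- the rotation by a quarter turn -/
def rr (F : Type*) [Field F] : GL (Fin 2) F := tel 0 1 (by simp)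

theorem rr_mem_tor : rr F ∈ tor F := tel_mem _ _ _

theorem rr_sq_coe : ((rr F * rr F : GL (Fin 2) F) : Matrix (Fin 2) (Fin 2) F) = !![-1, 0; 0, -1] := by
  rw [Units.val_mul]
  unfold rr
  rw [tel_coe]
  ext i j
  fin_cases i <;> fin_cases j <;> simp [Matrix.mul_apply, Fin.sum_univ_two]

theorem rr_sq_ne_one (h2 : (2 : F) ≠ 0) : rr F * rr F ≠ 1 := by
  intro h
  have h1 := congrArg (fun M : GL (Fin 2) F => (M : Matrix (Fin 2) (Fin 2) F) 0 0) h
  simp only [rr_sq_coe, Units.val_one, Matrix.one_apply_eq, Matrix.of_apply, Matrix.cons_val',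
    Matrix.cons_val_zero, Matrix.empty_val', Matrix.cons_val_fin_one] at h1
  apply h2
  linear_combination (-1 : F) * h1

theorem rr_pow_four : rr F ^ 4 = 1 := by
  have h : (rr F * rr F) * (rr F * rr F) = 1 := by
    apply Units.ext
    rw [Units.val_mul, rr_sq_coe]
    ext i j
    fin_cases i <;> fin_cases j <;> simp [Matrix.mul_apply, Fin.sum_univ_two]
  calc rr F ^ 4 = (rr F * rr F) * (rr F * rr F) := by
        rw [← pow_two, ← pow_two, ← pow_mul]
    _ = 1 := h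

theorem rr_mem_torTwo : rr F ∈ torTwo F := ⟨rr_mem_tor, 2, by norm_num; exact rr_pow_four⟩

/-- the element `1 - i` -/
def nn (F : Type*) [Field F] (h2 : (2 : F) ≠ 0) : GL (Fin 2) F :=
  tel 1 (-1) (by intro h; apply h2; linear_combination h)

theorem nn_mem_tor (h2 : (2 : F) ≠ 0) : nn F h2 ∈ tor F := tel_mem _ _ _

theorem sg_conj_nn (h2 : (2 : F) ≠ 0) : sg F * nn F h2 * (sg F)⁻¹ = rr F * nn F h2 := by
  apply Units.ext
  rw [sg_conj_coe, Units.val_mul]
  unfold nn rr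
  rw [tel_coe, tel_coe]
  ext i j
  fin_cases i <;> fin_cases j <;> simp [Matrix.mul_apply, Fin.sum_univ_two]

/-- an element of the `2`-part of the torus whose quotient by its conjugate has order four -/
theorem exists_special [Finite F] (h2 : (2 : F) ≠ 0) :
    ∃ c ∈ torTwo F, ∃ s : ℕ, Odd s ∧ c * (sg F * c * (sg F)⁻¹)⁻¹ = (rr F ^ s)⁻¹ := by
  haveI : Fact (Nat.Prime 2) := ⟨Nat.prime_two⟩
  have hpos : 0 < orderOf (nn F h2) := orderOf_pos _
  set N := orderOf (nn F h2) with hN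
  set s := ordCompl[2] N with hs
  have hs_odd : Odd s := by
    rw [← Nat.not_even_iff_odd, even_iff_two_dvd]
    exact Nat.not_dvd_ordCompl Nat.prime_two hpos.ne'
  refine ⟨nn F h2 ^ s, ⟨(tor F).pow_mem (nn_mem_tor h2) s, N.factorization 2, ?_⟩, s, hs_odd, ?_⟩
  · rw [← pow_mul, mul_comm, Nat.ordProj_mul_ordCompl_eq_self, hN, pow_orderOf_eq_one]
  · have hcm : Commute (rr F) (nn F h2) := tor_comm rr_mem_tor (nn_mem_tor h2)
    rw [← conj_pow, sg_conj_nn, hcm.mul_pow, _root_.mul_inv_rev]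
    calc nn F h2 ^ s * ((nn F h2 ^ s)⁻¹ * (rr F ^ s)⁻¹) = (rr F ^ s)⁻¹ := by group

theorem rr_pow_odd_sq_ne_one (h2 : (2 : F) ≠ 0) {s : ℕ} (hs : Odd s) :
    (rr F ^ s)⁻¹ * (rr F ^ s)⁻¹ ≠ 1 := by
  obtain ⟨k, rfl⟩ := hs
  intro h
  apply rr_sq_ne_one h2
  have h4 : rr F ^ (4 * k) = 1 := by rw [pow_mul, rr_pow_four, one_pow]
  have h1 : (rr F ^ (2 * k + 1))⁻¹ * (rr F ^ (2 * k + 1))⁻¹ = (rr F * rr F)⁻¹ := by
    have e : rr F ^ (2 * k + 1) * rr F ^ (2 * k + 1) = rr F * rr F := by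
      rw [← pow_add, show 2 * k + 1 + (2 * k + 1) = 4 * k + 2 by ring, pow_add, h4, one_mul, pow_two]
    rw [← _root_.mul_inv_rev, e]
  rw [h1, inv_eq_one] at h
  exact h

/-- involutions of the Sylow `2`-subgroup of `GL₂(q)` whose commutators are involutions lie in the
torus -/
theorem glTwo_invol [Finite F] (h2 : (2 : F) ≠ 0) {a : GL (Fin 2) F} (ha : a ∈ glTwo F)
    (haa : a * a = 1)
    (hcomm : ∀ c ∈ glTwo F, (c * a * c⁻¹ * a⁻¹) * (c * a * c⁻¹ * a⁻¹) = 1) : a ∈ torOm F := by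
  rcases ha with ha | ha
  · exact ⟨torTwo_le ha, haa⟩
  · exfalso
    obtain ⟨c, hc, s, hs, hcs⟩ := exists_special (F := F) h2
    have h1 := hcomm c (torTwo_le_glTwo hc)
    have e : c * a * c⁻¹ * a⁻¹ = c * (sg F * c * (sg F)⁻¹)⁻¹ := by
      set c₀ := a * sg F with hc₀
      have ha' : a = c₀ * sg F := by
        rw [hc₀, mul_assoc, sg_mul_self, mul_one]
      have hc₀t : c₀ ∈ tor F := torTwo_le ha
      have hct : c ∈ tor F := torTwo_le hc
      have hcb : sg F * c⁻¹ * (sg F)⁻¹ ∈ tor F := sg_conj_mem ((tor F).inv_mem hct)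
      rw [ha', _root_.mul_inv_rev]
      calc c * (c₀ * sg F) * c⁻¹ * ((sg F)⁻¹ * c₀⁻¹)
          = c * (c₀ * (sg F * c⁻¹ * (sg F)⁻¹)) * c₀⁻¹ := by group
        _ = c * ((sg F * c⁻¹ * (sg F)⁻¹) * c₀) * c₀⁻¹ := by rw [tor_comm hc₀t hcb]
        _ = c * (sg F * c⁻¹ * (sg F)⁻¹) := by group
        _ = _ := by
          congr 1
          group
    rw [e, hcs] at h1
    exact rr_pow_odd_sq_ne_one h2 hs h1

theorem exists_sq_ne_one_glTwo (h2 : (2 : F) ≠ 0) : ∃ b ∈ glTwo F, b * b ≠ 1 :=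
  ⟨rr F, torTwo_le_glTwo rr_mem_torTwo, rr_sq_ne_one h2⟩

end Cfsg.Agent.Lib.Helper5.WrH
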