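import Mathlib
import Cfsg.Agent.Lib.Helper5.WrH11

set_option autoImplicit false

namespace Cfsg.Agent.Lib.Helper5.WrH

open Cfsg.Agent.Lib.Helper5.WrP Matrix

variable {F : Type*} [Field F]

theorem tel_mem_torOm (x y : F) (h : x ^ 2 + y ^ 2 ≠ 0) (h1 : x ^ 2 - y ^ 2 = 1)
    (h2 : x * y = 0) : tel x y h ∈ torOm F := by
  refine ⟨tel_mem x y h, ?_⟩
  apply Units.ext
  rw [Units.val_mul, tel_coe]
  ext i j
  fin_cases i <;> fin_cases j <;>
  simp only [Fin.zero_eta, Fin.mk_one, Fin.isValue, Matrix.mul_apply, Fin.sum_univ_two,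
    Matrix.of_apply, Matrix.cons_val', Matrix.cons_val_zero, Matrix.cons_val_one,
    Matrix.empty_val', Matrix.cons_val_fin_one, Units.val_one, Matrix.one_apply_eq, ne_eq,
    zero_ne_one, one_ne_zero, not_false_eq_true, Matrix.one_apply_ne]
  · linear_combination h1
  · linear_combination (-2 : F) * h2
  · linear_combination (2 : F) * h2
  · linear_combination h1

theorem torOm_coords (h2 : (2 : F) ≠ 0) {M : GL (Fin 2) F} (hM : M ∈ torOm F) :
    (M.1 1 0 = 0 ∧ (M.1 0 0 = 1 ∨ M.1 0 0 = -1)) ∨ (M.1 0 0 = 0 ∧ M.1 1 0 ^ 2 = -1) := by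
  obtain ⟨⟨h1, h3⟩, h4⟩ := hM
  have h00 := congrArg (fun N : GL (Fin 2) F => (N : Matrix (Fin 2) (Fin 2) F) 0 0) h4
  have h10 := congrArg (fun N : GL (Fin 2) F => (N : Matrix (Fin 2) (Fin 2) F) 1 0) h4
  simp only [Units.val_mul, Matrix.mul_apply, Fin.sum_univ_two, Units.val_one, Matrix.one_apply_eq,
    ne_eq, one_ne_zero, not_false_eq_true, Matrix.one_apply_ne] at h00 h10
  rw [h3] at h00
  rw [← h1] at h10
  have hxy : M.1 0 0 * M.1 1 0 = 0 := by
    have : (2 : F) * (M.1 0 0 * M.1 1 0) = 0 := by linear_combination h10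
    rcases mul_eq_zero.1 this with h | h
    · exact absurd h h2
    · exact h
  rcases mul_eq_zero.1 hxy with hx | hy
  · right
    refine ⟨hx, ?_⟩
    rw [hx] at h00
    linear_combination (-1 : F) * h00
  · left
    refine ⟨hy, ?_⟩
    rw [hy] at h00
    apply mul_self_eq_one_iff.1
    linear_combination h00

/-- coordinates of an involution of the torus -/
def coordMap (M : torOm F) : F × F := (M.1.1 0 0, M.1.1 1 0)

theorem coordMap_injective : Function.Injective (coordMap (F := F)) := by
  intro M N h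
  have h1 : M.1.1 0 0 = N.1.1 0 0 := congrArg Prod.fst h
  have h2 : M.1.1 1 0 = N.1.1 1 0 := congrArg Prod.snd h
  apply Subtype.ext
  apply Units.ext
  have hM := M.2.1
  have hN := N.2.1
  ext i j
  fin_cases i <;> fin_cases j
  · exact h1
  · show M.1.1 0 1 = N.1.1 0 1
    rw [hM.2, hN.2, h2]
  · exact h2
  · show M.1.1 1 1 = N.1.1 1 1
    rw [← hM.1, ← hN.1, h1]

theorem card_torOm_split [Finite F] (h2 : (2 : F) ≠ 0) (i : F) (hi : i ^ 2 = -1) :
    Nat.card (torOm F) = 4 := by
  have hi0 : i ≠ 0 := by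
    rintro rfl
    norm_num at hi
  have h1 : (1 : F) ≠ -1 := by
    intro h
    apply h2
    linear_combination h
  have hii : i ≠ -i := by
    intro h
    have : (2 : F) * i = 0 := by linear_combination h
    rcases mul_eq_zero.1 this with h' | h'
    · exact h2 h'
    · exact hi0 h'
  have hr : Set.range (coordMap (F := F)) = {((1 : F), (0 : F)), (-1, 0), (0, i), (0, -i)} := by
    ext p
    constructor
    · rintro ⟨M, rfl⟩
      rcases torOm_coords h2 M.2 with ⟨hy, hx | hx⟩ | ⟨hx, hy⟩
      · left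
        exact Prod.ext hx hy
      · right; left
        exact Prod.ext hx hy
      · have : M.1.1 1 0 ^ 2 = i ^ 2 := by rw [hy, hi]
        rcases sq_eq_sq_iff_eq_or_eq_neg.1 this with h | h
        · right; right; left
          exact Prod.ext hx h
        · right; right; right
          exact Prod.ext hx h
    · rintro (rfl | rfl | rfl | rfl)
      · exact ⟨⟨tel 1 0 (by simp), tel_mem_torOm _ _ _ (by ring) (by ring)⟩, by simp [coordMap, tel_coe]⟩
      · exact ⟨⟨tel (-1) 0 (by simp), tel_mem_torOm _ _ _ (by ring) (by ring)⟩,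
          by simp [coordMap, tel_coe]⟩
      · exact ⟨⟨tel 0 i (by simp [hi0]), tel_mem_torOm _ _ _ (by rw [hi]; ring) (by ring)⟩,
          by simp [coordMap, tel_coe]⟩
      · exact ⟨⟨tel 0 (-i) (by simp [hi0]), tel_mem_torOm _ _ _ (by rw [neg_sq, hi]; ring) (by ring)⟩,
          by simp [coordMap, tel_coe]⟩
  rw [← Nat.card_range_of_injective coordMap_injective, hr, Nat.card_coe_set_eq,
    Set.ncard_insert_of_notMem _ (Set.toFinite _), Set.ncard_insert_of_notMem _ (Set.toFinite _),
    Set.ncard_pair]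
  · intro h
    exact hii (congrArg Prod.snd h)
  · simp only [Set.mem_insert_iff, Prod.mk.injEq, Set.mem_singleton_iff, not_or, not_and]
    exact ⟨fun h => absurd h (by simp), fun h => absurd h (by simp)⟩
  · simp only [Set.mem_insert_iff, Prod.mk.injEq, Set.mem_singleton_iff, not_or, not_and]
    exact ⟨fun h => absurd h h1, fun h => absurd h one_ne_zero, fun h => absurd h one_ne_zero⟩

theorem card_torOm_nonsplit [Finite F] (h2 : (2 : F) ≠ 0) (hns : ∀ t : F, t ^ 2 ≠ -1) :
    Nat.card (torOm F) = 2 := by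
  have h1 : (1 : F) ≠ -1 := by
    intro h
    apply h2
    linear_combination h
  have hr : Set.range (coordMap (F := F)) = {((1 : F), (0 : F)), (-1, 0)} := by
    ext p
    constructor
    · rintro ⟨M, rfl⟩
      rcases torOm_coords h2 M.2 with ⟨hy, hx | hx⟩ | ⟨hx, hy⟩
      · left
        exact Prod.ext hx hy
      · right
        exact Prod.ext hx hy
      · exact absurd hy (hns _)
    · rintro (rfl | rfl)
      · exact ⟨⟨tel 1 0 (by simp), tel_mem_torOm _ _ _ (by ring) (by ring)⟩, by simp [coordMap, tel_coe]⟩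
      · exact ⟨⟨tel (-1) 0 (by simp), tel_mem_torOm _ _ _ (by ring) (by ring)⟩,
          by simp [coordMap, tel_coe]⟩
  rw [← Nat.card_range_of_injective coordMap_injective, hr, Nat.card_coe_set_eq,
    Set.ncard_pair]
  intro h
  exact h1 (congrArg Prod.fst h)

/-- the involutions of the multiplicative group -/
def unitsOm (F : Type*) [Field F] : Subgroup Fˣ where
  carrier := {u | u * u = 1}
  one_mem' := one_mul 1
  mul_mem' := by
    intro u v hu hv
    show u * v * (u * v) = 1
    calc u * v * (u * v) = (u * u) * (v * v) := by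
          rw [mul_mul_mul_comm]
      _ = 1 := by rw [hu, hv, one_mul]
  inv_mem' := by
    intro u hu
    show u⁻¹ * u⁻¹ = 1
    rw [← _root_.mul_inv_rev, hu, inv_one]

theorem mem_unitsOm {u : Fˣ} : u ∈ unitsOm F ↔ u * u = 1 := Iff.rfl

theorem unitsOm_le : unitsOm F ≤ unitsTwo F := by
  intro u hu
  refine ⟨Subgroup.mem_top u, 1, ?_⟩
  rw [pow_one, pow_two]
  exact hu

theorem card_unitsOm (h2 : (2 : F) ≠ 0) : Nat.card (unitsOm F) = 2 := by
  have h1 : (1 : Fˣ) ≠ -1 := by
    intro h
    have h' := congrArg (fun u : Fˣ => (u : F)) h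
    simp only [Units.val_one, Units.val_neg] at h'
    apply h2
    linear_combination h'
  have hr : ((unitsOm F : Subgroup Fˣ) : Set Fˣ) = {1, -1} := by
    ext u
    constructor
    · intro hu
      have hu' : (u : F) * (u : F) = 1 := by
        have := congrArg (fun u : Fˣ => (u : F)) (mem_unitsOm.1 hu)
        simpa using this
      rcases mul_self_eq_one_iff.1 hu' with h | h
      · left
        exact Units.ext h
      · right
        exact Units.ext (by simpa using h)
    · rintro (rfl | rfl)
      · exact (unitsOm F).one_mem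
      · show (-1 : Fˣ) * (-1) = 1
        simp
  have : Nat.card (unitsOm F) = Set.ncard ((unitsOm F : Subgroup Fˣ) : Set Fˣ) :=
    Nat.card_coe_set_eq _
  rw [this, hr, Set.ncard_pair h1]

end Cfsg.Agent.Lib.Helper5.WrH
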