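import Mathlib
import Cfsg.Agent.Lib.Helper5.WrH12

set_option autoImplicit false

universe u

namespace Cfsg.Agent.Lib.Helper5.WrH

open Equiv Cfsg.Agent.Lib.Helper5.WrP Cfsg.Agent.Lib.Helper5.WrG Cfsg.Agent.Lib.Helper5.SylSym

/-- normal `2`-rank of the Sylow `2`-subgroups of `GL_n(q)`, `q` odd, in terms of the number of
involutions of the torus -/
theorem sylow2_gl_normalRank {F : Type u} [Field F] [Fintype F] (hq : Odd (Fintype.card F)) (n : ℕ)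
    (S : Sylow 2 (GL (Fin n) F)) (N : ℕ)
    (hN : Nat.card (torOm F) ^ (n / 2) * 2 ^ (n % 2) = N) :
    (∃ E : Subgroup ↥(S : Subgroup (GL (Fin n) F)), E.Normal ∧
      Cfsg.IsElementaryAbelian 2 E ∧ N ≤ Nat.card E) ∧
    ∀ E : Subgroup ↥(S : Subgroup (GL (Fin n) F)), E.Normal →
      Cfsg.IsElementaryAbelian 2 E → Nat.card E ≤ N := by
  classical
  haveI : Fact (Nat.Prime 2) := ⟨Nat.prime_two⟩
  have h2 := two_ne_zero_of_odd_card hq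
  obtain ⟨T⟩ : Nonempty (Sylow 2 (Perm (Fin (n / 2)))) := inferInstance
  obtain ⟨D₁, D₂, hcomm, hdisj, hc, P₀, hP₀⟩ := exists_sylow2_gl hq n T
  obtain ⟨g, hg⟩ := sylow_conj P₀ S
  have hc' : ∀ x ∈ D₁.W (torOm F) (⊥ : Subgroup (Perm (Fin (n / 2)))),
      ∀ z ∈ D₂.W (unitsOm F) (⊥ : Subgroup (Perm (Fin (n % 2)))), x * z = z * x := by
    intro x hx z hz
    exact hcomm x (D₁.W_mono le_top le_top hx) z (D₂.W_mono le_top le_top hz)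
  have hd : ∀ x ∈ D₁.W (glTwo F) (T : Subgroup (Perm (Fin (n / 2)))),
      x ∈ D₂.W (unitsTwo F) (⊥ : Subgroup (Perm (Fin (n % 2)))) → x = 1 := by
    intro x hx hz
    exact hdisj x (D₁.W_mono le_top le_top hx) (D₂.W_mono le_top le_top hz)
  have hd' : ∀ x ∈ D₁.W (torOm F) (⊥ : Subgroup (Perm (Fin (n / 2)))),
      x ∈ D₂.W (unitsOm F) (⊥ : Subgroup (Perm (Fin (n % 2)))) → x = 1 := by
    intro x hx hz
    exact hdisj x (D₁.W_mono le_top le_top hx) (D₂.W_mono le_top le_top hz)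
  have hW2comm : ∀ z ∈ D₂.W (⊤ : Subgroup Fˣ) (⊥ : Subgroup (Perm (Fin (n % 2)))),
      ∀ z' ∈ D₂.W (⊤ : Subgroup Fˣ) (⊥ : Subgroup (Perm (Fin (n % 2)))), z * z' = z' * z := by
    intro z hz z' hz'
    exact D₂.W_bot_comm (fun a _ b _ => mul_comm a b) hz hz'
  have hcard : Nat.card (prodSub (D₁.W (torOm F) (⊥ : Subgroup (Perm (Fin (n / 2)))))
      (D₂.W (unitsOm F) (⊥ : Subgroup (Perm (Fin (n % 2))))) hc') = N := by
    rw [card_prodSub hd', WrData.card_W, WrData.card_W, card_unitsOm h2, Fintype.card_fin,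
      Fintype.card_fin, Subgroup.card_bot, Subgroup.card_bot, mul_one, mul_one, hN]
  have hP₀' : (P₀ : Subgroup (GL (Fin n) F)) =
      prodSub (D₁.W (glTwo F) (T : Subgroup (Perm (Fin (n / 2))))) (D₂.W (unitsTwo F) ⊥) hc := hP₀
  refine normalRank_transfer g hg _ N ?_ ?_ ?_ ?_ hcard ?_
  · rw [hP₀']
    exact prodSub_mono (D₁.W_mono torOm_le_glTwo bot_le) (D₂.W_mono unitsOm_le le_rfl)
  · intro x hx y hy
    rw [hP₀'] at hx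
    obtain ⟨w₁, hw₁, w₂, hw₂, rfl⟩ := hx
    obtain ⟨e₁, he₁, e₂, he₂, rfl⟩ := hy
    have hw₁' := D₁.W_mono (le_top : glTwo F ≤ ⊤) (le_top : (T : Subgroup _) ≤ ⊤) hw₁
    have hw₂' := D₂.W_mono (le_top : unitsTwo F ≤ ⊤) (le_top : (⊥ : Subgroup _) ≤ ⊤) hw₂
    have he₁' := D₁.W_mono (le_top : torOm F ≤ ⊤) (le_top : (⊥ : Subgroup _) ≤ ⊤) he₁
    have he₂' := D₂.W_mono (le_top : unitsOm F ≤ ⊤) (le_top : (⊥ : Subgroup _) ≤ ⊤) he₂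
    have c1 : e₁ * w₂ = w₂ * e₁ := hcomm e₁ he₁' w₂ hw₂'
    have c2 : w₂ * e₂ = e₂ * w₂ :=
      hW2comm w₂ (D₂.W_mono le_top le_rfl hw₂) e₂ (D₂.W_mono le_top le_rfl he₂)
    have c3 : w₁⁻¹ * e₂ = e₂ * w₁⁻¹ := hcomm w₁⁻¹ (Subgroup.inv_mem _ hw₁') e₂ he₂'
    have e : w₁ * w₂ * (e₁ * e₂) * (w₁ * w₂)⁻¹ = (w₁ * e₁ * w₁⁻¹) * e₂ := by
      rw [mul_inv_rev]
      calc w₁ * w₂ * (e₁ * e₂) * (w₂⁻¹ * w₁⁻¹) = w₁ * (w₂ * e₁) * e₂ * w₂⁻¹ * w₁⁻¹ := by group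
        _ = w₁ * e₁ * (w₂ * e₂) * w₂⁻¹ * w₁⁻¹ := by rw [← c1]; group
        _ = w₁ * e₁ * (e₂ * w₁⁻¹) := by rw [c2]; group
        _ = _ := by rw [← c3]; group
    rw [e]
    refine ⟨_, ?_, e₂, he₂, rfl⟩
    exact W_bot_normalized' D₁ (fun z hz a ha => torOm_normalized hz ha) hw₁ he₁
  · rintro _ ⟨e₁, he₁, e₂, he₂, rfl⟩
    have he₁' := D₁.W_mono (le_top : torOm F ≤ ⊤) (le_top : (⊥ : Subgroup _) ≤ ⊤) he₁
    have he₂' := D₂.W_mono (le_top : unitsOm F ≤ ⊤) (le_top : (⊥ : Subgroup _) ≤ ⊤) he₂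
    have c1 : e₁ * e₂ = e₂ * e₁ := hcomm e₁ he₁' e₂ he₂'
    have s1 : e₁ * e₁ = 1 := D₁.W_bot_sq (fun z hz => torOm_sq hz) he₁
    have s2 : e₂ * e₂ = 1 := D₂.W_bot_sq (fun z hz => hz) he₂
    calc e₁ * e₂ * (e₁ * e₂) = e₁ * (e₂ * e₁) * e₂ := by group
      _ = e₁ * (e₁ * e₂) * e₂ := by rw [c1]
      _ = (e₁ * e₁) * (e₂ * e₂) := by group
      _ = 1 := by rw [s1, s2, one_mul]
  · rintro _ ⟨e₁, he₁, e₂, he₂, rfl⟩ _ ⟨e₁', he₁', e₂', he₂', rfl⟩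
    have t1 := D₁.W_mono (le_top : torOm F ≤ ⊤) (le_top : (⊥ : Subgroup _) ≤ ⊤) he₁
    have t2 := D₂.W_mono (le_top : unitsOm F ≤ ⊤) (le_top : (⊥ : Subgroup _) ≤ ⊤) he₂
    have t1' := D₁.W_mono (le_top : torOm F ≤ ⊤) (le_top : (⊥ : Subgroup _) ≤ ⊤) he₁'
    have t2' := D₂.W_mono (le_top : unitsOm F ≤ ⊤) (le_top : (⊥ : Subgroup _) ≤ ⊤) he₂'
    have c1 : e₁' * e₂ = e₂ * e₁' := hcomm e₁' t1' e₂ t2
    have c2 : e₁ * e₁' = e₁' * e₁ := D₁.W_bot_comm (fun z hz z' hz' => torOm_comm hz hz') he₁ he₁'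
    have c3 : e₂ * e₂' = e₂' * e₂ :=
      hW2comm e₂ (D₂.W_mono le_top le_rfl he₂) e₂' (D₂.W_mono le_top le_rfl he₂')
    have c4 : e₁ * e₂' = e₂' * e₁ := hcomm e₁ t1 e₂' t2'
    calc e₁ * e₂ * (e₁' * e₂') = e₁ * (e₂ * e₁') * e₂' := by group
      _ = e₁ * (e₁' * e₂) * e₂' := by rw [c1]
      _ = (e₁ * e₁') * (e₂ * e₂') := by group
      _ = (e₁' * e₁) * (e₂' * e₂) := by rw [c2, c3]
      _ = e₁' * (e₁ * e₂') * e₂ := by group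
      _ = e₁' * (e₂' * e₁) * e₂ := by rw [c4]
      _ = _ := by group
  · intro E hE hEn hEs
    rw [hP₀'] at hE hEn
    apply le_prodSub_of_normal hd hE _ hEs
    · intro E' hE' hn' hs'
      exact le_W_bot_of_normal' D₁ hE' hn' hs' (exists_sq_ne_one_glTwo h2)
        (fun a ha haa hcm => glTwo_invol h2 ha haa hcm)
    · intro z hz hzz
      obtain ⟨f, hf, rfl⟩ := D₂.mem_W_bot.1 hz
      rw [D₂.mem_W_bot]
      refine ⟨f, ?_, rfl⟩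
      intro j
      rw [← map_mul] at hzz
      have h3 := D₂.beta_injective (hzz.trans (map_one D₂.β).symm)
      exact congrFun h3 j
    · intro x hx y hy
      exact hEn x (le_prodSub_left hx) y hy

end Cfsg.Agent.Lib.Helper5.WrH
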