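import Mathlib
import Cfsg.Agent.Lib.Helper5.WrH13

set_option autoImplicit false

universe u

namespace Cfsg.Agent.Lib.Helper5.WrH

open Equiv Cfsg.Agent.Lib.Helper5.WrP Cfsg.Agent.Lib.Helper5.WrG

section dets

variable (F : Type*) [Field F]

theorem det_funLeft_perm (m : ℕ) (σ : Perm (Fin m)) :
    LinearMap.det (LinearMap.funLeft F F σ) = ((Perm.sign σ : ℤˣ) : ℤ) := by
  have h : LinearMap.funLeft F F σ = Matrix.toLin' (σ.permMatrix F) := by
    refine LinearMap.ext fun v => ?_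
    rw [Matrix.toLin'_apply, Matrix.permMatrix_mulVec]
    rfl
  rw [h, LinearMap.det_toLin', Matrix.det_permutation]

theorem det_funLeft_perm_sq (m : ℕ) (σ : Perm (Fin m)) :
    LinearMap.det (LinearMap.funLeft F F σ) * LinearMap.det (LinearMap.funLeft F F σ) = 1 := by
  rw [det_funLeft_perm]
  have := Int.units_mul_self (Perm.sign σ)
  have h2 : (((Perm.sign σ : ℤˣ) : ℤ) : F) * (((Perm.sign σ : ℤˣ) : ℤ) : F) =
      ((((Perm.sign σ * Perm.sign σ : ℤˣ) : ℤˣ) : ℤ) : F) := by
    rw [Units.val_mul, Int.cast_mul]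
  rw [h2, this]
  simp

/-- flipping the two indices -/
def flipEquiv (m k : ℕ) : (Fin m → Fin k → F) ≃ₗ[F] (Fin k → Fin m → F) where
  toFun x := fun j i => x i j
  invFun y := fun i j => y j i
  map_add' _ _ := rfl
  map_smul' _ _ := rfl
  left_inv _ := rfl
  right_inv _ := rfl

theorem det_funLeft_two (m : ℕ) (σ : Perm (Fin m)) :
    LinearMap.det (LinearMap.funLeft F (Fin 2 → F) σ) = 1 := by
  have h : ((flipEquiv F m 2 : (Fin m → Fin 2 → F) →ₗ[F] (Fin 2 → Fin m → F)) ∘ₗ
      (LinearMap.funLeft F (Fin 2 → F) σ) ∘ₗ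
      ((flipEquiv F m 2).symm : (Fin 2 → Fin m → F) →ₗ[F] (Fin m → Fin 2 → F))) =
      LinearMap.pi (fun j => (LinearMap.funLeft F F σ).comp (LinearMap.proj j)) := by
    refine LinearMap.ext fun y => ?_
    rfl
  rw [← LinearMap.det_conj _ (flipEquiv F m 2), h, LinearMap.det_pi, Fin.prod_univ_two,
    det_funLeft_perm_sq]

variable (U₂ : Type*) [AddCommGroup U₂] [Module F U₂] [Module.Free F U₂] [Module.Finite F U₂]
  (m b : ℕ)

theorem det_permL_two (t : Perm (Fin m)) :
    LinearMap.det (permL F (Fin 2 → F) U₂ m b t) = 1 := by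
  show LinearMap.det (LinearMap.prodMap (LinearMap.funLeft F (Fin 2 → F) (t⁻¹ : Perm (Fin m)))
    (LinearMap.id : (Fin b → U₂) →ₗ[F] (Fin b → U₂))) = (1 : F)
  rw [LinearMap.det_prodMap, det_funLeft_two, LinearMap.det_id, mul_one]

variable (U₁ : Type*) [AddCommGroup U₁] [Module F U₁] [Module.Free F U₁] [Module.Finite F U₁]

theorem det_blkL (f : Fin m → Module.End F U₁) :
    LinearMap.det (blkL F U₁ U₂ m b f) = ∏ i, LinearMap.det (f i) := by
  show LinearMap.det (LinearMap.prodMap (LinearMap.pi (fun i => (f i).comp (LinearMap.proj i)))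
    (LinearMap.id : (Fin b → U₂) →ₗ[F] (Fin b → U₂))) = _
  rw [LinearMap.det_prodMap, LinearMap.det_pi, LinearMap.det_id, mul_one]

theorem det_blkR (g : Fin b → Module.End F U₂) :
    LinearMap.det (blkR F U₁ U₂ m b g) = ∏ j, LinearMap.det (g j) := by
  show LinearMap.det (LinearMap.prodMap (LinearMap.id : (Fin m → U₁) →ₗ[F] (Fin m → U₁))
    (LinearMap.pi (fun j => (g j).comp (LinearMap.proj j)))) = _
  rw [LinearMap.det_prodMap, LinearMap.det_pi, LinearMap.det_id, one_mul]

end dets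

end Cfsg.Agent.Lib.Helper5.WrH
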