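import Mathlib
import Cfsg.Agent.Lib.Helper5.WrH14

set_option autoImplicit false

universe u

namespace Cfsg.Agent.Lib.Helper5.WrH

open Equiv Cfsg.Agent.Lib.Helper5.WrP Cfsg.Agent.Lib.Helper5.WrG

theorem det_mapEquiv_toMatrix {F : Type*} [Field F] {V : Type*} [AddCommGroup V] [Module F V]
    {n : ℕ} (bas : Module.Basis (Fin n) F V) (u : (Module.End F V)ˣ) :
    ((Matrix.GeneralLinearGroup.det
      (Units.mapEquiv (LinearMap.toMatrixAlgEquiv bas).toMulEquiv u : GL (Fin n) F) : Fˣ) : F) =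
      LinearMap.det (u : Module.End F V) := by
  rw [Matrix.GeneralLinearGroup.val_det_apply]
  show (LinearMap.toMatrixAlgEquiv bas (u : Module.End F V)).det = _
  rw [LinearMap.toMatrixAlgEquiv, AlgEquiv.ofLinearEquiv_apply, LinearMap.det_toMatrix]

/-- the wreath data for `GL₂ ≀ Sym(n/2)` and the complementary scalars inside `GL_n`, with
determinants -/
theorem exists_gl_data_det (F : Type u) [Field F] (n : ℕ) :
    ∃ (D₁ : WrData (GL (Fin 2) F) (Fin (n / 2)) (GL (Fin n) F))
      (D₂ : WrData Fˣ (Fin (n % 2)) (GL (Fin n) F)),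
      (∀ f t g s, (D₁.β f * D₁.π t) * (D₂.β g * D₂.π s) =
        (D₂.β g * D₂.π s) * (D₁.β f * D₁.π t)) ∧
      (∀ f t g s, D₁.β f * D₁.π t = D₂.β g * D₂.π s → D₁.β f * D₁.π t = 1) ∧
      (∀ f t, Matrix.GeneralLinearGroup.det (D₁.β f * D₁.π t) =
        ∏ i, Matrix.GeneralLinearGroup.det (f i)) ∧
      (∀ g, Matrix.GeneralLinearGroup.det (D₂.β g) = ∏ j, g j) := by
  classical
  have hfin : Module.finrank F ((Fin (n / 2) → (Fin 2 → F)) × (Fin (n % 2) → F)) = n := by
    rw [Module.finrank_prod, Module.finrank_pi_fintype, Module.finrank_fin_fun]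
    simp only [Module.finrank_fin_fun, Finset.sum_const, Finset.card_univ, Fintype.card_fin,
      smul_eq_mul]
    exact Nat.div_add_mod' n 2
  let bas := Module.finBasisOfFinrankEq F ((Fin (n / 2) → (Fin 2 → F)) × (Fin (n % 2) → F)) hfin
  let e1 : (Module.End F ((Fin (n / 2) → (Fin 2 → F)) × (Fin (n % 2) → F)))ˣ ≃* GL (Fin n) F :=
    Units.mapEquiv (LinearMap.toMatrixAlgEquiv bas).toMulEquiv
  let φ₁ : GL (Fin 2) F →* (Module.End F (Fin 2 → F))ˣ :=
    (Matrix.GeneralLinearGroup.toLin (n := Fin 2) (R := F)).toMonoidHom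
  have hφ₁ : Function.Injective φ₁ := (Matrix.GeneralLinearGroup.toLin (n := Fin 2) (R := F)).injective
  let L := sideL F (Fin 2 → F) F (n / 2) (n % 2)
  let R := sideR F (Fin 2 → F) F (n / 2) (n % 2)
  refine ⟨mapEquiv (comapBase L φ₁ hφ₁) e1, mapEquiv (comapBase R (scalHom F) (scalHom_injective F)) e1,
    ?_, ?_, ?_, ?_⟩
  · intro f t g s
    show (e1 (L.β (fun i => φ₁ (f i))) * e1 (L.π t)) * (e1 (R.β (fun i => scalHom F (g i))) * e1 (R.π s)) =
      (e1 (R.β (fun i => scalHom F (g i))) * e1 (R.π s)) * (e1 (L.β (fun i => φ₁ (f i))) * e1 (L.π t))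
    rw [← map_mul, ← map_mul, ← map_mul, ← map_mul, side_comm]
  · intro f t g s h
    have h' : e1 (L.β (fun i => φ₁ (f i))) * e1 (L.π t) =
        e1 (R.β (fun i => scalHom F (g i))) * e1 (R.π s) := h
    rw [← map_mul, ← map_mul] at h'
    have h2 := side_disjoint F (Fin 2 → F) F (n / 2) (n % 2) _ _ _ _ (e1.injective h')
    show e1 (L.β (fun i => φ₁ (f i))) * e1 (L.π t) = 1
    rw [← map_mul, h2, map_one]
  · intro f t
    apply Units.ext
    show ((Matrix.GeneralLinearGroup.det (e1 (L.β (fun i => φ₁ (f i))) * e1 (L.π t)) : Fˣ) : F) = _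
    rw [← map_mul, det_mapEquiv_toMatrix]
    show LinearMap.det (blkL F (Fin 2 → F) F (n / 2) (n % 2)
      (fun i => ((φ₁ (f i) : (Module.End F (Fin 2 → F))ˣ) : Module.End F (Fin 2 → F))) *
      permL F (Fin 2 → F) F (n / 2) (n % 2) t) = _
    rw [map_mul, det_blkL, det_permL_two, mul_one, Units.coe_prod]
    apply Finset.prod_congr rfl
    intro i _
    rw [Matrix.GeneralLinearGroup.val_det_apply]
    show LinearMap.det (Matrix.toLin' ((f i : GL (Fin 2) F) : Matrix (Fin 2) (Fin 2) F)) = _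
    rw [LinearMap.det_toLin']
  · intro g
    apply Units.ext
    show ((Matrix.GeneralLinearGroup.det (e1 (R.β (fun i => scalHom F (g i)))) : Fˣ) : F) = _
    rw [det_mapEquiv_toMatrix]
    show LinearMap.det (blkR F (Fin 2 → F) F (n / 2) (n % 2)
      (fun j => ((scalHom F (g j) : (Module.End F F)ˣ) : Module.End F F))) = _
    rw [det_blkR, Units.coe_prod]
    apply Finset.prod_congr rfl
    intro j _
    rw [LinearMap.det_ring]
    simp [scalHom]

end Cfsg.Agent.Lib.Helper5.WrH
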