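import Mathlib
import Cfsg.Agent.Lib.Helper5.WrH15

set_option autoImplicit false

universe u

namespace Cfsg.Agent.Lib.Helper5.WrH

open Equiv Cfsg.Agent.Lib.Helper5.WrP Cfsg.Agent.Lib.Helper5.WrG Cfsg.Agent.Lib.Helper5.SylSym

/-- the standard Sylow `2`-subgroup of `GL_n(q)`, `q` odd, with determinants -/
theorem exists_sylow2_gl_det {F : Type u} [Field F] [Fintype F] (hq : Odd (Fintype.card F)) (n : ℕ)
    (T : Sylow 2 (Perm (Fin (n / 2)))) :
    ∃ (D₁ : WrData (GL (Fin 2) F) (Fin (n / 2)) (GL (Fin n) F))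
      (D₂ : WrData Fˣ (Fin (n % 2)) (GL (Fin n) F)),
      (∀ x ∈ D₁.W ⊤ ⊤, ∀ z ∈ D₂.W ⊤ ⊤, x * z = z * x) ∧
      (∀ x ∈ D₁.W ⊤ ⊤, x ∈ D₂.W ⊤ ⊤ → x = 1) ∧
      (∀ f t, Matrix.GeneralLinearGroup.det (D₁.β f * D₁.π t) =
        ∏ i, Matrix.GeneralLinearGroup.det (f i)) ∧
      (∀ g, Matrix.GeneralLinearGroup.det (D₂.β g) = ∏ j, g j) ∧
      ∃ (hc : ∀ x ∈ D₁.W (glTwo F) (T : Subgroup (Perm (Fin (n / 2)))),
          ∀ z ∈ D₂.W (unitsTwo F) ⊥, x * z = z * x)
        (P : Sylow 2 (GL (Fin n) F)),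
        (P : Subgroup (GL (Fin n) F)) =
          prodSub (D₁.W (glTwo F) (T : Subgroup (Perm (Fin (n / 2))))) (D₂.W (unitsTwo F) ⊥) hc := by
  classical
  haveI : Fact (Nat.Prime 2) := ⟨Nat.prime_two⟩
  have hq1 : 1 < Fintype.card F := Fintype.one_lt_card
  obtain ⟨D₁, D₂, hcomm, hdisj, hdet1, hdet2⟩ := exists_gl_data_det F n
  have hcomm' : ∀ x ∈ D₁.W ⊤ ⊤, ∀ z ∈ D₂.W ⊤ ⊤, x * z = z * x := by
    rintro _ ⟨f, _, t, _, rfl⟩ _ ⟨g, _, s, _, rfl⟩
    exact hcomm f t g s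
  have hdisj' : ∀ x ∈ D₁.W ⊤ ⊤, x ∈ D₂.W ⊤ ⊤ → x = 1 := by
    rintro _ ⟨f, _, t, _, rfl⟩ ⟨g, _, s, _, h⟩
    exact hdisj f t g s h
  have hc : ∀ x ∈ D₁.W (glTwo F) (T : Subgroup (Perm (Fin (n / 2)))),
      ∀ z ∈ D₂.W (unitsTwo F) ⊥, x * z = z * x := by
    intro x hx z hz
    exact hcomm' x (D₁.W_mono le_top le_top hx) z (D₂.W_mono le_top le_top hz)
  have hd : ∀ x ∈ D₁.W (glTwo F) (T : Subgroup (Perm (Fin (n / 2)))),
      x ∈ D₂.W (unitsTwo F) ⊥ → x = 1 := by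
    intro x hx hz
    exact hdisj' x (D₁.W_mono le_top le_top hx) (D₂.W_mono le_top le_top hz)
  have hcard : Nat.card (prodSub (D₁.W (glTwo F) (T : Subgroup (Perm (Fin (n / 2)))))
      (D₂.W (unitsTwo F) ⊥) hc) = 2 ^ (Nat.card (GL (Fin n) F)).factorization 2 := by
    rw [card_prodSub hd, WrData.card_W, WrData.card_W, card_glTwo hq, card_unitsTwo,
      card_sylow_perm 2 (n / 2) T, Fintype.card_fin, Fintype.card_fin, Subgroup.card_bot, mul_one,
      Matrix.card_GL_field, val_card_GL_two hq1 hq n, ← pow_mul, ← pow_mul, ← pow_add, ← pow_add]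
    congr 1
    have e : n - n / 2 = n / 2 + n % 2 := by omega
    rw [e]
    ring
  exact ⟨D₁, D₂, hcomm', hdisj', hdet1, hdet2, hc, Sylow.ofCard _ hcard, rfl⟩

/-- Sylow `2`-subgroups of `SL_n` are the intersections of those of `GL_n` with `SL_n` -/
theorem sylow_sl_map {F : Type u} [Field F] [Fintype F] (n : ℕ)
    (P : Sylow 2 (Matrix.SpecialLinearGroup (Fin n) F)) :
    ∃ S : Sylow 2 (GL (Fin n) F),
      (P : Subgroup (Matrix.SpecialLinearGroup (Fin n) F)).map Matrix.SpecialLinearGroup.toGL =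
        (S : Subgroup (GL (Fin n) F)) ⊓ (Matrix.GeneralLinearGroup.det (n := Fin n) (R := F)).ker := by
  classical
  haveI : Fact (Nat.Prime 2) := ⟨Nat.prime_two⟩
  have hinj : Function.Injective
      (Matrix.SpecialLinearGroup.toGL : Matrix.SpecialLinearGroup (Fin n) F →* GL (Fin n) F) := by
    intro x y h
    apply Subtype.ext
    have := congrArg (fun g : GL (Fin n) F => (g : Matrix (Fin n) (Fin n) F)) h
    exact this
  have hP2 : IsPGroup 2 ((P : Subgroup (Matrix.SpecialLinearGroup (Fin n) F)).map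
      Matrix.SpecialLinearGroup.toGL) := P.isPGroup'.map _
  obtain ⟨S, hS⟩ := hP2.exists_le_sylow
  refine ⟨S, le_antisymm ?_ ?_⟩
  · apply le_inf hS
    rintro _ ⟨x, _, rfl⟩
    rw [MonoidHom.mem_ker]
    apply Units.ext
    rw [Matrix.GeneralLinearGroup.val_det_apply]
    show (x : Matrix (Fin n) (Fin n) F).det = 1
    exact x.2
  · intro y hy
    obtain ⟨hyS, hyk⟩ := hy
    have hyS : y ∈ (S : Subgroup (GL (Fin n) F)) := hyS
    have hyk : Matrix.GeneralLinearGroup.det y = 1 := hyk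
    have hdet : (y : Matrix (Fin n) (Fin n) F).det = 1 := by
      have := congrArg (fun u : Fˣ => (u : F)) hyk
      simpa [Matrix.GeneralLinearGroup.val_det_apply] using this
    set x : Matrix.SpecialLinearGroup (Fin n) F := ⟨(y : Matrix (Fin n) (Fin n) F), hdet⟩ with hx
    have hxy : Matrix.SpecialLinearGroup.toGL x = y := by
      apply Units.ext
      rfl
    have hQ : IsPGroup 2 ((S : Subgroup (GL (Fin n) F)).comap
        (Matrix.SpecialLinearGroup.toGL : Matrix.SpecialLinearGroup (Fin n) F →* GL (Fin n) F)) := by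
      apply S.isPGroup'.comap_of_injective _ hinj
    have hle : (P : Subgroup (Matrix.SpecialLinearGroup (Fin n) F)) ≤
        (S : Subgroup (GL (Fin n) F)).comap Matrix.SpecialLinearGroup.toGL := by
      intro z hz
      exact hS ⟨z, hz, rfl⟩
    have heq := P.is_maximal' hQ hle
    refine ⟨x, ?_, hxy⟩
    rw [← heq]
    show Matrix.SpecialLinearGroup.toGL x ∈ (S : Subgroup (GL (Fin n) F))
    rw [hxy]
    exact hyS

end Cfsg.Agent.Lib.Helper5.WrH
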