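import Mathlib
import Cfsg.Agent.Lib.Helper5.WrH16

set_option autoImplicit false

namespace Cfsg.Agent.Lib.Helper5.WrH

open Cfsg.Agent.Lib.Helper5.WrP Matrix
open scoped commutatorElement

variable {F : Type*} [Field F]

/-- the product of an element of the torus with its conjugate is scalar -/
theorem tor_mul_conj_coe {c : GL (Fin 2) F} (hc : c ∈ tor F) :
    ((c * (sg F * c * (sg F)⁻¹) : GL (Fin 2) F) : Matrix (Fin 2) (Fin 2) F) =
      !![c.1 0 0 ^ 2 + c.1 1 0 ^ 2, 0; 0, c.1 0 0 ^ 2 + c.1 1 0 ^ 2] := by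
  rw [Units.val_mul, sg_conj_coe]
  obtain ⟨h1, h2⟩ := hc
  ext i j
  fin_cases i <;> fin_cases j <;>
  simp only [Fin.zero_eta, Fin.mk_one, Fin.isValue, Matrix.mul_apply, Fin.sum_univ_two,
    Matrix.of_apply, Matrix.cons_val', Matrix.cons_val_zero, Matrix.cons_val_one,
    Matrix.empty_val', Matrix.cons_val_fin_one, h2, ← h1] <;> ring

theorem tor_mul_conj_of_det_one {c : GL (Fin 2) F} (hc : c ∈ tor F)
    (hd : c.1 0 0 ^ 2 + c.1 1 0 ^ 2 = 1) : c * (sg F * c * (sg F)⁻¹) = 1 := by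
  apply Units.ext
  rw [tor_mul_conj_coe hc, hd, Units.val_one]
  ext i j
  fin_cases i <;> fin_cases j <;> simp

theorem tor_mul_conj_of_det_neg_one {c : GL (Fin 2) F} (hc : c ∈ tor F)
    (hd : c.1 0 0 ^ 2 + c.1 1 0 ^ 2 = -1) : c * (sg F * c * (sg F)⁻¹) = rr F * rr F := by
  apply Units.ext
  rw [tor_mul_conj_coe hc, hd, rr_sq_coe]

/-- the norm of a `2`-element of the torus is `±1` when the `2`-part of `F^×` is `±1` -/
theorem norm_torTwo (hU : ∀ u : Fˣ, (∃ k : ℕ, u ^ 2 ^ k = 1) → u * u = 1) {c : GL (Fin 2) F}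
    (hc : c ∈ torTwo F) :
    c.1 0 0 ^ 2 + c.1 1 0 ^ 2 = 1 ∨ c.1 0 0 ^ 2 + c.1 1 0 ^ 2 = -1 := by
  obtain ⟨hct, k, hk⟩ := hc
  have h1 : (Matrix.GeneralLinearGroup.det c) ^ 2 ^ k = 1 := by
    rw [← map_pow, hk, map_one]
  have h2 := hU _ ⟨k, h1⟩
  have h3 := congrArg (fun u : Fˣ => (u : F)) h2
  simp only [Units.val_mul, Matrix.GeneralLinearGroup.val_det_apply, Units.val_one] at h3
  rw [det_of_mem hct] at h3
  exact mul_self_eq_one_iff.1 h3

/-- squares in the Sylow `2`-subgroup of `GL₂(q)`, `q ≡ 3 mod 4`, lie in the derived subgroup -/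
theorem sqDer_glTwo (hU : ∀ u : Fˣ, (∃ k : ℕ, u ^ 2 ^ k = 1) → u * u = 1) :
    SqDer (glTwo F) := by
  have step1 : ∀ c ∈ torTwo F, (sg F * c * (sg F)⁻¹) * c⁻¹ ∈ ⁅glTwo F, glTwo F⁆ := by
    intro c hc
    have := Subgroup.commutator_mem_commutator (sg_mem_glTwo (F := F)) (torTwo_le_glTwo hc)
    rwa [commutatorElement_def] at this
  have step2 : ∀ c ∈ torTwo F, c * (sg F * c * (sg F)⁻¹) = 1 →
      c ^ 2 ∈ ⁅glTwo F, glTwo F⁆ := by
    intro c hc h
    have e : sg F * c * (sg F)⁻¹ = c⁻¹ := by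
      rw [eq_inv_iff_mul_eq_one, ← h]
      exact tor_comm (sg_conj_mem (torTwo_le hc)) (torTwo_le hc)
    have h1 := step1 c hc
    rw [e] at h1
    have h2 := Subgroup.inv_mem _ h1
    have : (c⁻¹ * c⁻¹)⁻¹ = c ^ 2 := by
      rw [pow_two, _root_.mul_inv_rev, inv_inv]
    rwa [this] at h2
  have step3 : rr F * rr F ∈ ⁅glTwo F, glTwo F⁆ := by
    have := step2 (rr F) rr_mem_torTwo (tor_mul_conj_of_det_one rr_mem_tor (by simp [rr, tel_coe]))
    rwa [pow_two] at this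
  have step4 : ∀ c ∈ torTwo F, c * (sg F * c * (sg F)⁻¹) = rr F * rr F →
      c ^ 2 ∈ ⁅glTwo F, glTwo F⁆ := by
    intro c hc h
    have hcomm : c * (sg F * c * (sg F)⁻¹) = (sg F * c * (sg F)⁻¹) * c :=
      tor_comm (torTwo_le hc) (sg_conj_mem (torTwo_le hc))
    have e : c ^ 2 = (c * (sg F * c * (sg F)⁻¹)) * ((sg F * c * (sg F)⁻¹) * c⁻¹)⁻¹ := by
      rw [pow_two]
      calc c * c = c * ((sg F * c * (sg F)⁻¹) * (sg F * c * (sg F)⁻¹)⁻¹) * c := by
            rw [mul_inv_cancel, mul_one]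
        _ = (c * (sg F * c * (sg F)⁻¹)) * ((sg F * c * (sg F)⁻¹)⁻¹ * c) := by group
        _ = (c * (sg F * c * (sg F)⁻¹)) * (c * (sg F * c * (sg F)⁻¹)⁻¹) := by
            congr 1
            have h1 : (sg F * c * (sg F)⁻¹)⁻¹ ∈ tor F :=
              (tor F).inv_mem (sg_conj_mem (torTwo_le hc))
            exact tor_comm h1 (torTwo_le hc)
        _ = _ := by
            have e' : (sg F * c * (sg F)⁻¹ * c⁻¹)⁻¹ = c * (sg F * c * (sg F)⁻¹)⁻¹ := by
              rw [_root_.mul_inv_rev, inv_inv]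
            rw [e']
    rw [e, h]
    exact Subgroup.mul_mem _ step3 (Subgroup.inv_mem _ (step1 c hc))
  have hnorm : ∀ c ∈ torTwo F, c * (sg F * c * (sg F)⁻¹) = 1 ∨
      c * (sg F * c * (sg F)⁻¹) = rr F * rr F := by
    intro c hc
    rcases norm_torTwo hU hc with h | h
    · exact Or.inl (tor_mul_conj_of_det_one (torTwo_le hc) h)
    · exact Or.inr (tor_mul_conj_of_det_neg_one (torTwo_le hc) h)
  intro x hx
  rcases hx with hx | hx
  · rcases hnorm x hx with h | h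
    · exact step2 x hx h
    · exact step4 x hx h
  · have e : x ^ 2 = (x * sg F) * (sg F * (x * sg F) * (sg F)⁻¹) := by
      rw [sg_inv, pow_two]
      calc x * x = x * 1 * x * 1 := by group
        _ = x * (sg F * sg F) * x * (sg F * sg F) := by rw [sg_mul_self]
        _ = _ := by group
    rw [e]
    rcases hnorm _ hx with h | h
    · rw [h]
      exact Subgroup.one_mem _
    · rw [h]
      exact step3

end Cfsg.Agent.Lib.Helper5.WrH
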