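import Mathlib
import Cfsg.Agent.Lib.Helper5.WrH17

set_option autoImplicit false

universe u

namespace Cfsg.Agent.Lib.Helper5.WrH

open Equiv Cfsg.Agent.Lib.Helper5.WrP Cfsg.Agent.Lib.Helper5.WrG Cfsg.Agent.Lib.Helper5.SylSym

section general

variable {G G' : Type*} [Group G] [Group G']

theorem sqDer_of_map_injective {H : Subgroup G} {φ : G →* G'} (hφ : Function.Injective φ)
    (h : SqDer (H.map φ)) : SqDer H := by
  intro x hx
  have h1 := h (φ x) ⟨x, hx, rfl⟩
  rw [← Subgroup.map_commutator] at h1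
  obtain ⟨y, hy, hyx⟩ := h1
  rw [← map_pow] at hyx
  rw [← hφ hyx]
  exact hy

theorem sqDer_range {H : Subgroup G} (h : SqDer H) (ψ : ↥H →* G') : SqDer ψ.range := by
  rintro _ ⟨w, rfl⟩
  have h1 := h.pow_mem_commutator w
  rw [← map_pow, MonoidHom.range_eq_map, ← Subgroup.map_commutator]
  exact ⟨_, h1, rfl⟩

/-- the kernel of a "determinant" on a central product with a group of order two determined by its
determinant -/
theorem sqDer_prodSub_ker {U : Type*} [CommGroup U] (δ : G →* U) (z : U →* G) {W₁ W₂ : Subgroup G}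
    {U₂ : Subgroup U} {hc : ∀ x ∈ W₁, ∀ y ∈ W₂, x * y = y * x} (hW₁ : SqDer W₁)
    (hzW : ∀ u ∈ U₂, z u ∈ W₂) (hδz : ∀ u, δ (z u) = u) (hδW : ∀ w ∈ W₁, δ w ∈ U₂)
    (hsq : ∀ u ∈ U₂, u * u = 1) (hW₂ : ∀ y ∈ W₂, δ y ∈ U₂ ∧ y = z (δ y)) :
    SqDer (prodSub W₁ W₂ hc ⊓ δ.ker) := by
  let ψ : ↥W₁ →* G :=
    { toFun := fun w => w.1 * z (δ w.1)
      map_one' := by
        show (1 : G) * z (δ 1) = 1
        rw [map_one, map_one, mul_one]
      map_mul' := by
        intro w w'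
        show (w.1 * w'.1) * z (δ (w.1 * w'.1)) = (w.1 * z (δ w.1)) * (w'.1 * z (δ w'.1))
        rw [map_mul, map_mul]
        have h1 : w'.1 * z (δ w.1) = z (δ w.1) * w'.1 :=
          hc w'.1 w'.2 _ (hzW _ (hδW w.1 w.2))
        calc w.1 * w'.1 * (z (δ w.1) * z (δ w'.1))
            = w.1 * (w'.1 * z (δ w.1)) * z (δ w'.1) := by group
          _ = w.1 * (z (δ w.1) * w'.1) * z (δ w'.1) := by rw [h1]
          _ = _ := by group }
  have hrange : prodSub W₁ W₂ hc ⊓ δ.ker = ψ.range := by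
    ext x
    constructor
    · rintro ⟨⟨w, hw, y, hy, rfl⟩, hk⟩
      have hk' : δ (w * y) = 1 := hk
      rw [map_mul] at hk'
      obtain ⟨hy1, hy2⟩ := hW₂ y hy
      have h1 : δ y = δ w := by
        have h2 := hsq _ (hδW w hw)
        have h3 : δ y = (δ w)⁻¹ := eq_inv_of_mul_eq_one_right hk'
        rw [h3, inv_eq_iff_mul_eq_one]
        exact h2
      refine ⟨⟨w, hw⟩, ?_⟩
      show w * z (δ w) = w * y
      rw [← h1, ← hy2]
    · rintro ⟨w, rfl⟩
      refine ⟨⟨w.1, w.2, z (δ w.1), hzW _ (hδW w.1 w.2), rfl⟩, ?_⟩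
      show δ (w.1 * z (δ w.1)) = 1
      rw [map_mul, hδz]
      exact hsq _ (hδW w.1 w.2)
  rw [hrange]
  exact sqDer_range hW₁ ψ

end general

/-- when `q ≡ 3 mod 4`, the `2`-elements of `F^×` are `±1` -/
theorem units_two_sq {F : Type*} [Field F] [Fintype F] (hq : Odd (Fintype.card F))
    (h4 : 4 ∣ Fintype.card F + 1) (u : Fˣ) (hu : ∃ k : ℕ, u ^ 2 ^ k = 1) : u * u = 1 := by
  have h2 := two_ne_zero_of_odd_card hq
  have hq1 : 1 < Fintype.card F := Fintype.one_lt_card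
  have hv : padicValNat 2 (Fintype.card F - 1) = 1 := by
    apply val_two_of_mod_four
    obtain ⟨k, hk⟩ := h4
    omega
  have hcard : Nat.card (unitsTwo F) = 2 := by rw [card_unitsTwo, hv, pow_one]
  haveI : Finite (unitsTwo F) := Nat.finite_of_card_ne_zero (by rw [hcard]; norm_num)
  have heq : unitsOm F = unitsTwo F :=
    Subgroup.eq_of_le_of_card_ge unitsOm_le (by rw [hcard, card_unitsOm h2])
  have hmem : u ∈ unitsTwo F := ⟨Subgroup.mem_top u, hu⟩
  rw [← heq] at hmem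
  exact hmem

theorem isPGroup_glTwo {F : Type*} [Field F] [Fintype F] (hq : Odd (Fintype.card F)) :
    IsPGroup 2 (glTwo F) := by
  haveI : Fact (Nat.Prime 2) := ⟨Nat.prime_two⟩
  exact IsPGroup.of_card (card_glTwo hq)

theorem det_glTwo_mem {F : Type*} [Field F] [Fintype F] (hq : Odd (Fintype.card F))
    {a : GL (Fin 2) F} (ha : a ∈ glTwo F) : Matrix.GeneralLinearGroup.det a ∈ unitsTwo F := by
  obtain ⟨k, hk⟩ := isPGroup_glTwo hq ⟨a, ha⟩
  have hk' : a ^ 2 ^ k = 1 := by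
    have := congrArg Subtype.val hk
    simpa using this
  refine ⟨Subgroup.mem_top _, k, ?_⟩
  rw [← map_pow, hk', map_one]

/-- squares in a Sylow `2`-subgroup of `SL_{2m+1}(q)`, `q ≡ 3 mod 4`, lie in the derived subgroup -/
theorem sylow2_sl_odd_sqDer {F : Type u} [Field F] [Fintype F] (hq : Odd (Fintype.card F))
    (h4 : 4 ∣ Fintype.card F + 1) (m : ℕ)
    (P : Sylow 2 (Matrix.SpecialLinearGroup (Fin (2 * m + 1)) F)) :
    SqDer (P : Subgroup (Matrix.SpecialLinearGroup (Fin (2 * m + 1)) F)) := by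
  classical
  haveI : Fact (Nat.Prime 2) := ⟨Nat.prime_two⟩
  have hU := units_two_sq hq h4
  have hn1 : (2 * m + 1) % 2 = 1 := by omega
  haveI : Subsingleton (Fin ((2 * m + 1) % 2)) := by
    rw [Fin.subsingleton_iff_le_one]
    omega
  have hinj : Function.Injective
      (Matrix.SpecialLinearGroup.toGL :
        Matrix.SpecialLinearGroup (Fin (2 * m + 1)) F →* GL (Fin (2 * m + 1)) F) := by
    intro x y h
    apply Subtype.ext
    exact congrArg (fun g : GL (Fin (2 * m + 1)) F => (g : Matrix (Fin (2 * m + 1)) (Fin (2 * m + 1)) F)) h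
  obtain ⟨T⟩ : Nonempty (Sylow 2 (Perm (Fin ((2 * m + 1) / 2)))) := inferInstance
  obtain ⟨D₁, D₂, hcomm, hdisj, hdet1, hdet2, hc, P₀, hP₀⟩ := exists_sylow2_gl_det hq (2 * m + 1) T
  obtain ⟨S, hS⟩ := sylow_sl_map (2 * m + 1) P
  obtain ⟨g, hg⟩ := sylow_conj P₀ S
  apply sqDer_of_map_injective hinj
  rw [hS]
  have hconj : (S : Subgroup (GL (Fin (2 * m + 1)) F)) ⊓
      (Matrix.GeneralLinearGroup.det (n := Fin (2 * m + 1)) (R := F)).ker =
      ((P₀ : Subgroup (GL (Fin (2 * m + 1)) F)) ⊓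
        (Matrix.GeneralLinearGroup.det (n := Fin (2 * m + 1)) (R := F)).ker).map
        (MulAut.conj g).toMonoidHom := by
    rw [hg]
    ext x
    constructor
    · rintro ⟨⟨y, hy, rfl⟩, hk⟩
      refine ⟨y, ⟨hy, ?_⟩, rfl⟩
      have hk' : Matrix.GeneralLinearGroup.det (g * y * g⁻¹) = 1 := hk
      show Matrix.GeneralLinearGroup.det y = 1
      rw [map_mul, map_mul, map_inv, mul_comm, ← mul_assoc, inv_mul_cancel, one_mul] at hk'
      exact hk'
    · rintro ⟨y, ⟨hy, hk⟩, rfl⟩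
      refine ⟨⟨y, hy, rfl⟩, ?_⟩
      have hk' : Matrix.GeneralLinearGroup.det y = 1 := hk
      show Matrix.GeneralLinearGroup.det (g * y * g⁻¹) = 1
      rw [map_mul, map_mul, map_inv, hk', mul_one, mul_inv_cancel]
  rw [hconj]
  apply SqDer.map
  rw [hP₀]
  -- the core
  have hT : SqDer (T : Subgroup (Perm (Fin ((2 * m + 1) / 2)))) :=
    sqDer_of_GenP (sylow_GenP 2 _ T)
  have hW₁ : SqDer (D₁.W (glTwo F) (T : Subgroup (Perm (Fin ((2 * m + 1) / 2))))) :=
    D₁.sqDer_W (sqDer_glTwo hU) hT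
  let z : Fˣ →* GL (Fin (2 * m + 1)) F :=
    { toFun := fun u => D₂.β (fun _ => u)
      map_one' := by
        show D₂.β 1 = 1
        exact map_one _
      map_mul' := fun u v => by
        show D₂.β (fun _ => u * v) = D₂.β (fun _ => u) * D₂.β (fun _ => v)
        rw [← map_mul]
        rfl }
  apply sqDer_prodSub_ker (Matrix.GeneralLinearGroup.det (n := Fin (2 * m + 1)) (R := F)) z
    (U₂ := unitsTwo F) hW₁
  · intro u hu
    exact D₂.beta_mem (fun _ => hu)
  · intro u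
    show Matrix.GeneralLinearGroup.det (D₂.β (fun _ => u)) = u
    rw [hdet2, Finset.prod_const, Finset.card_univ, Fintype.card_fin, hn1, pow_one]
  · rintro _ ⟨f, hf, t, _, rfl⟩
    rw [hdet1]
    exact Subgroup.prod_mem _ (fun i _ => det_glTwo_mem hq (hf i))
  · intro u hu
    exact hU u hu.2
  · intro y hy
    obtain ⟨g', hg', rfl⟩ := D₂.mem_W_bot.1 hy
    rw [hdet2]
    refine ⟨Subgroup.prod_mem _ (fun j _ => hg' j), ?_⟩
    show D₂.β g' = D₂.β (fun _ => ∏ j, g' j)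
    congr 1
    funext j
    exact (Fintype.prod_subsingleton g' j).symm

end Cfsg.Agent.Lib.Helper5.WrH
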