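import Mathlib
import Cfsg.Agent.Lib.Helper5.WrH18

set_option autoImplicit false

namespace Cfsg.Agent.Lib.Helper5.WrH

open Equiv Cfsg.Agent.Lib.Helper5.WrP
open scoped commutatorElement

section kerW

variable {A ι G U : Type*} [Group A] [Group G] [CommGroup U] [Fintype ι] [DecidableEq ι]

/-- the product of the values of a homomorphism over the coordinates -/
def prodd (d : A →* U) : (ι → A) →* U where
  toFun f := ∏ i, d (f i)
  map_one' := by simp
  map_mul' f g := by
    simp only [Pi.mul_apply, map_mul]
    rw [Finset.prod_mul_distrib]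

theorem prodd_apply (d : A →* U) (f : ι → A) : prodd d f = ∏ i, d (f i) := rfl

theorem prodd_mulSingle (d : A →* U) (i : ι) (a : A) : prodd d (Pi.mulSingle i a : ι → A) = d a := by
  rw [prodd_apply, Finset.prod_eq_single i]
  · rw [Pi.mulSingle_eq_same]
  · intro k _ hk
    rw [Pi.mulSingle_eq_of_ne hk, map_one]
  · intro h
    exact absurd (Finset.mem_univ i) h

/-- the pair function `w` at `i`, `w⁻¹` at `l` -/
def pairF (i l : ι) (w : A) : ι → A := Pi.mulSingle i w * Pi.mulSingle l w⁻¹

theorem prodd_pairF (d : A →* U) (i l : ι) (w : A) : prodd d (pairF i l w) = 1 := by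
  unfold pairF
  rw [map_mul, prodd_mulSingle, prodd_mulSingle, map_inv, mul_inv_cancel]

theorem pairF_same {i l : ι} (hil : i ≠ l) (w : A) : pairF i l w i = w := by
  unfold pairF
  rw [Pi.mul_apply, Pi.mulSingle_eq_same, Pi.mulSingle_eq_of_ne hil, mul_one]

theorem pairF_other {i l : ι} (hil : i ≠ l) (w : A) : pairF i l w l = w⁻¹ := by
  unfold pairF
  rw [Pi.mul_apply, Pi.mulSingle_eq_same, Pi.mulSingle_eq_of_ne hil.symm, one_mul]

theorem pairF_ne {i l k : ι} (hi : k ≠ i) (hl : k ≠ l) (w : A) : pairF i l w k = 1 := by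
  unfold pairF
  rw [Pi.mul_apply, Pi.mulSingle_eq_of_ne hi, Pi.mulSingle_eq_of_ne hl, mul_one]

theorem pairF_mem {Q : Subgroup A} {i l : ι} {w : A} (hw : w ∈ Q) (k : ι) : pairF i l w k ∈ Q := by
  unfold pairF
  rw [Pi.mul_apply]
  apply Q.mul_mem
  · by_cases h : k = i
    · subst h
      rw [Pi.mulSingle_eq_same]
      exact hw
    · rw [Pi.mulSingle_eq_of_ne h]
      exact Q.one_mem
  · by_cases h : k = l
    · subst h
      rw [Pi.mulSingle_eq_same]
      exact Q.inv_mem hw
    · rw [Pi.mulSingle_eq_of_ne h]
      exact Q.one_mem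

/-- an element of `Q` usable in the generating pairs -/
def Good (Q : Subgroup A) (T : Subgroup (Perm ι)) (w : A) : Prop :=
  w ∈ Q ∧ (w * w = 1 ∨ ∀ i l : ι, i ≠ l → ∃ t ∈ T, t i = l ∧ t l = i)

/-- the generating set of the kernel -/
def kerGens (D : WrData A ι G) (d : A →* U) (Q : Subgroup A) (T : Subgroup (Perm ι)) : Set G :=
  {g | ∃ i, ∃ a ∈ Q ⊓ d.ker, g = D.β (Pi.mulSingle i a)} ∪ {g | ∃ t ∈ T, g = D.π t} ∪
    {g | ∃ i l w, i ≠ l ∧ Good Q T w ∧ g = D.β (pairF i l w)}

variable (D : WrData A ι G) (d : A →* U) (δ : G →* U)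

theorem beta_mem_closure {Q : Subgroup A} {T : Subgroup (Perm ι)}
    (hV : ∀ v ∈ Q, ∃ w, Good Q T w ∧ d v = d w) :
    ∀ (s : Finset ι) (f : ι → A), (∀ i, i ∉ s → f i = 1) → (∀ i, f i ∈ Q) → prodd d f = 1 →
      D.β f ∈ Subgroup.closure (kerGens D d Q T) := by
  intro s
  induction s using Finset.induction_on with
  | empty =>
    intro f hf _ _
    have : f = 1 := by
      funext i
      exact hf i (Finset.notMem_empty i)
    rw [this, map_one]
    exact Subgroup.one_mem _
  | insert i₀ s' hi₀ ih =>
    intro f hf hfQ hfd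
    -- peel off the coordinate `i₀`
    have peel : ∀ f₁ : ι → A, (∀ i, i ∉ insert i₀ s' → f₁ i = 1) → (∀ i, f₁ i ∈ Q) →
        prodd d f₁ = 1 → d (f₁ i₀) = 1 → D.β f₁ ∈ Subgroup.closure (kerGens D d Q T) := by
      intro f₁ hf₁ hf₁Q hf₁d hd1
      have e : f₁ = Pi.mulSingle i₀ (f₁ i₀) * Function.update f₁ i₀ 1 := by
        funext k
        by_cases hk : k = i₀
        · subst hk
          rw [Pi.mul_apply, Pi.mulSingle_eq_same, Function.update_self, mul_one]
        · rw [Pi.mul_apply, Pi.mulSingle_eq_of_ne hk, Function.update_of_ne hk, one_mul]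
      rw [e, map_mul]
      apply Subgroup.mul_mem
      · apply Subgroup.subset_closure
        left; left
        exact ⟨i₀, f₁ i₀, ⟨hf₁Q i₀, hd1⟩, rfl⟩
      · apply ih
        · intro k hk
          by_cases hk0 : k = i₀
          · subst hk0
            rw [Function.update_self]
          · rw [Function.update_of_ne hk0]
            apply hf₁
            rw [Finset.mem_insert, not_or]
            exact ⟨hk0, hk⟩
        · intro k
          by_cases hk0 : k = i₀
          · subst hk0
            rw [Function.update_self]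
            exact Q.one_mem
          · rw [Function.update_of_ne hk0]
            exact hf₁Q k
        · have h1 := hf₁d
          rw [e, map_mul, prodd_mulSingle, hd1, one_mul] at h1
          exact h1
    by_cases hs' : s'.Nonempty
    · obtain ⟨l, hl⟩ := hs'
      have hil : i₀ ≠ l := by
        rintro rfl
        exact hi₀ hl
      obtain ⟨w, hw, hdw⟩ := hV (f i₀) (hfQ i₀)
      have e : f = (f * (pairF i₀ l w)⁻¹) * pairF i₀ l w := by
        rw [inv_mul_cancel_right]
      rw [e, map_mul]
      apply Subgroup.mul_mem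
      · apply peel
        · intro k hk
          rw [Finset.mem_insert, not_or] at hk
          have hkl : k ≠ l := by
            rintro rfl
            exact hk.2 hl
          rw [Pi.mul_apply, Pi.inv_apply, pairF_ne hk.1 hkl, inv_one, mul_one]
          apply hf
          rw [Finset.mem_insert, not_or]
          exact hk
        · intro k
          rw [Pi.mul_apply, Pi.inv_apply]
          exact Q.mul_mem (hfQ k) (Q.inv_mem (pairF_mem hw.1 k))
        · rw [map_mul, map_inv, prodd_pairF, inv_one, mul_one]
          exact hfd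
        · rw [Pi.mul_apply, Pi.inv_apply, pairF_same hil, map_mul, map_inv, hdw, mul_inv_cancel]
      · apply Subgroup.subset_closure
        right
        exact ⟨i₀, l, w, hil, hw, rfl⟩
    · rw [Finset.not_nonempty_iff_eq_empty] at hs'
      subst hs'
      apply peel f hf hfQ hfd
      have e : f = Pi.mulSingle i₀ (f i₀) := by
        funext k
        by_cases hk : k = i₀
        · subst hk
          rw [Pi.mulSingle_eq_same]
        · rw [Pi.mulSingle_eq_of_ne hk]
          apply hf
          simpa using hk
      rw [e, prodd_mulSingle] at hfd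
      exact hfd

end kerW

end Cfsg.Agent.Lib.Helper5.WrH
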