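import Mathlib
import Cfsg.Agent.Lib.Helper5.WrH19

set_option autoImplicit false

namespace Cfsg.Agent.Lib.Helper5.WrH

open Equiv Cfsg.Agent.Lib.Helper5.WrP
open scoped commutatorElement

section kerW

variable {A ι G U : Type*} [Group A] [Group G] [CommGroup U] [Fintype ι] [DecidableEq ι]
variable (D : WrData A ι G) (d : A →* U) (δ : G →* U)

theorem closure_kerGens (hδ : ∀ f t, δ (D.β f * D.π t) = ∏ i, d (f i)) {Q : Subgroup A}
    {T : Subgroup (Perm ι)} (hV : ∀ v ∈ Q, ∃ w, Good Q T w ∧ d v = d w) :
    Subgroup.closure (kerGens D d Q T) = D.W Q T ⊓ δ.ker := by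
  have hδβ : ∀ f, δ (D.β f) = prodd d f := by
    intro f
    have := hδ f 1
    rwa [map_one, mul_one] at this
  have hδπ : ∀ t, δ (D.π t) = 1 := by
    intro t
    have := hδ 1 t
    rw [map_one, one_mul] at this
    rw [this]
    simp
  apply le_antisymm
  · rw [Subgroup.closure_le]
    rintro g ((⟨i, a, ha, rfl⟩ | ⟨t, ht, rfl⟩) | ⟨i, l, w, hil, hw, rfl⟩)
    · refine ⟨?_, ?_⟩
      · apply D.beta_mem
        intro k
        by_cases hk : k = i
        · subst hk
          rw [Pi.mulSingle_eq_same]
          exact ha.1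
        · rw [Pi.mulSingle_eq_of_ne hk]
          exact Q.one_mem
      · show δ _ = 1
        rw [hδβ, prodd_mulSingle]
        exact ha.2
    · exact ⟨D.pi_mem ht, hδπ t⟩
    · refine ⟨D.beta_mem (pairF_mem hw.1), ?_⟩
      show δ _ = 1
      rw [hδβ, prodd_pairF]
  · rintro _ ⟨⟨f, hf, t, ht, rfl⟩, hk⟩
    have hk' : δ (D.β f * D.π t) = 1 := hk
    rw [map_mul, hδπ, mul_one, hδβ] at hk'
    apply Subgroup.mul_mem
    · exact beta_mem_closure D d hV Finset.univ f (fun i hi => absurd (Finset.mem_univ i) hi) hf hk'
    · apply Subgroup.subset_closure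
      left; right
      exact ⟨t, ht, rfl⟩

/-- squares in the kernel of the "determinant" on a wreath product lie in its derived subgroup -/
theorem sqDer_W_ker (hδ : ∀ f t, δ (D.β f * D.π t) = ∏ i, d (f i)) {Q : Subgroup A}
    {T : Subgroup (Perm ι)} (hQ' : SqDer (Q ⊓ d.ker)) (hT : SqDer T)
    (hV : ∀ v ∈ Q, ∃ w, Good Q T w ∧ d v = d w) : SqDer (D.W Q T ⊓ δ.ker) := by
  have hclos := closure_kerGens D d δ hδ hV
  have hsub : kerGens D d Q T ⊆ ((D.W Q T ⊓ δ.ker : Subgroup G) : Set G) := by
    rw [← hclos]
    exact Subgroup.subset_closure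
  apply sqDer_of_closure _ hclos
  rintro g ((⟨i, a, ha, rfl⟩ | ⟨t, ht, rfl⟩) | ⟨i, l, w, hil, hw, rfl⟩)
  · set φ : A →* G := D.β.comp (MonoidHom.mulSingle (fun _ : ι => A) i) with hφ
    have h1 : (Q ⊓ d.ker).map φ ≤ D.W Q T ⊓ δ.ker := by
      rintro _ ⟨b, hb, rfl⟩
      apply hsub
      left; left
      exact ⟨i, b, hb, rfl⟩
    have h2 : D.β (Pi.mulSingle i a) ^ 2 = φ (a ^ 2) := by
      rw [map_pow]
      rfl
    rw [h2]
    apply Subgroup.commutator_mono h1 h1
    rw [← Subgroup.map_commutator]
    exact ⟨_, hQ' a ha, rfl⟩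
  · have h1 : T.map D.π ≤ D.W Q T ⊓ δ.ker := by
      rintro _ ⟨s, hs, rfl⟩
      apply hsub
      left; right
      exact ⟨s, hs, rfl⟩
    rw [← map_pow]
    apply Subgroup.commutator_mono h1 h1
    rw [← Subgroup.map_commutator]
    exact ⟨_, hT t ht, rfl⟩
  · rcases hw.2 with hww | hswap
    · have : D.β (pairF i l w) ^ 2 = 1 := by
        rw [← map_pow]
        have e : (pairF i l w) ^ 2 = 1 := by
          funext k
          rw [Pi.pow_apply, Pi.one_apply, pow_two]
          by_cases hki : k = i
          · subst hki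
            rw [pairF_same hil, hww]
          · by_cases hkl : k = l
            · subst hkl
              rw [pairF_other hil, ← mul_inv_rev, hww, inv_one]
            · rw [pairF_ne hki hkl, one_mul]
        rw [e, map_one]
      rw [this]
      exact Subgroup.one_mem _
    · obtain ⟨t, ht, hti, htl⟩ := hswap i l hil
      have hg : D.β (pairF i l w) ∈ D.W Q T ⊓ δ.ker := by
        apply hsub
        right
        exact ⟨i, l, w, hil, hw, rfl⟩
      have hπ : D.π t ∈ D.W Q T ⊓ δ.ker := by
        apply hsub
        left; right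
        exact ⟨t, ht, rfl⟩
      have hconj : D.π t * D.β (pairF i l w) * (D.π t)⁻¹ = (D.β (pairF i l w))⁻¹ := by
        rw [D.conj, ← map_inv]
        congr 1
        funext k
        rw [Pi.inv_apply]
        have hinv_i : t⁻¹ i = l := by
          rw [Perm.inv_eq_iff_eq]
          exact htl.symm
        have hinv_l : t⁻¹ l = i := by
          rw [Perm.inv_eq_iff_eq]
          exact hti.symm
        by_cases hki : k = i
        · subst hki
          rw [hinv_i, pairF_other hil, pairF_same hil]
        · by_cases hkl : k = l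
          · subst hkl
            rw [hinv_l, pairF_same hil, pairF_other hil, inv_inv]
          · have h1 : t⁻¹ k ≠ i := by
              intro h
              apply hkl
              have := congrArg t h
              rw [show t (t⁻¹ k) = k from (Equiv.eq_symm_apply t).mp rfl, hti] at this
              exact this
            have h2 : t⁻¹ k ≠ l := by
              intro h
              apply hki
              have := congrArg t h
              rw [show t (t⁻¹ k) = k from (Equiv.eq_symm_apply t).mp rfl, htl] at this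
              exact this
            rw [pairF_ne h1 h2, pairF_ne hki hkl, inv_one]
      have hc := Subgroup.commutator_mem_commutator hπ hg
      rw [commutatorElement_def, hconj] at hc
      have h3 := Subgroup.inv_mem _ hc
      have e : ((D.β (pairF i l w))⁻¹ * (D.β (pairF i l w))⁻¹)⁻¹ = D.β (pairF i l w) ^ 2 := by
        rw [mul_inv_rev, inv_inv, pow_two]
      rwa [e] at h3

end kerW

end Cfsg.Agent.Lib.Helper5.WrH
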