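import Mathlib
import Cfsg.Agent.Lib.Helper5.WrH20

set_option autoImplicit false

namespace Cfsg.Agent.Lib.Helper5.OmSyl

open Equiv Cfsg.Agent.Lib.Helper5.WrP Cfsg.Agent.Lib.Helper5.WrH
open scoped commutatorElement

section engine

variable {A ι G U : Type*} [Group A] [Group G] [CommGroup U] [Fintype ι] [DecidableEq ι]
variable (D : WrData A ι G) (δ : G →* U)

/-- the value of `δ` on a single coordinate does not depend on the coordinate -/
theorem delta_single (i j : ι) (a : A) :
    δ (D.β (Pi.mulSingle i a)) = δ (D.β (Pi.mulSingle j a)) := by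
  have h := D.conj (swap i j) (Pi.mulSingle i a)
  have e : (fun k => (Pi.mulSingle i a : ι → A) ((swap i j)⁻¹ k)) = Pi.mulSingle j a := by
    funext k
    rw [swap_inv]
    by_cases hk : k = j
    · subst hk
      rw [swap_apply_right, Pi.mulSingle_eq_same, Pi.mulSingle_eq_same]
    · rw [Pi.mulSingle_eq_of_ne hk]
      apply Pi.mulSingle_eq_of_ne
      intro h'
      apply hk
      have := congrArg (swap i j) h'
      rw [swap_apply_self, swap_apply_left] at this
      exact this
  rw [e] at h
  rw [← h, map_mul, map_mul, map_inv, mul_comm (δ (D.π _)), mul_assoc, mul_inv_cancel, mul_one]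

/-- the homomorphism `δ` on one coordinate -/
def dOne (i₀ : ι) : A →* U := δ.comp (D.β.comp (MonoidHom.mulSingle (fun _ : ι => A) i₀))

theorem dOne_apply (i₀ : ι) (a : A) : dOne D δ i₀ a = δ (D.β (Pi.mulSingle i₀ a)) := rfl

theorem delta_beta (i₀ : ι) (f : ι → A) : δ (D.β f) = prodd (dOne D δ i₀) f := by
  have key : ∀ s : Finset ι, δ (D.β (fun i => if i ∈ s then f i else 1)) =
      ∏ i ∈ s, dOne D δ i₀ (f i) := by
    intro s
    induction s using Finset.induction_on with
    | empty =>
      have : (fun i => if i ∈ (∅ : Finset ι) then f i else 1) = (1 : ι → A) := by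
        funext i
        simp
      rw [this, map_one, map_one, Finset.prod_empty]
    | insert a s ha ih =>
      have e : (fun i => if i ∈ insert a s then f i else 1) =
          Pi.mulSingle a (f a) * (fun i => if i ∈ s then f i else 1) := by
        funext i
        rw [Pi.mul_apply]
        by_cases hia : i = a
        · subst hia
          rw [Pi.mulSingle_eq_same, if_pos (Finset.mem_insert_self _ _), if_neg ha, mul_one]
        · rw [Pi.mulSingle_eq_of_ne hia, one_mul]
          by_cases his : i ∈ s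
          · rw [if_pos his, if_pos (Finset.mem_insert_of_mem his)]
          · rw [if_neg his, if_neg]
            rw [Finset.mem_insert, not_or]
            exact ⟨hia, his⟩
      rw [e, map_mul, map_mul, ih, Finset.prod_insert ha, dOne_apply, delta_single D δ a i₀]
  have h := key Finset.univ
  simp only [Finset.mem_univ, if_true] at h
  rw [h, prodd_apply]

variable (Q : Subgroup A) (T : Subgroup (Perm ι)) (i₀ : ι) (rs : Set G)

/-- generators of the kernel inside the wreath product -/
def gensW : Set G :=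
  {g | ∃ i, ∃ a ∈ Q, dOne D δ i₀ a = 1 ∧ g = D.β (Pi.mulSingle i a)} ∪ {g | ∃ t ∈ T, g = D.π t} ∪
    {g | ∃ i l w, i ≠ l ∧ w ∈ Q ∧ g = D.β (pairF i l w)}

/-- generators of the kernel -/
def gensK : Set G :=
  gensW D δ Q T i₀ ∪
    {g | ∃ r ∈ rs, ∃ w ∈ Q, dOne D δ i₀ w * δ r = 1 ∧ g = D.β (Pi.mulSingle i₀ w) * r}

theorem beta_mem_closure' :
    ∀ (s : Finset ι) (f : ι → A), (∀ i, i ∉ s → f i = 1) → (∀ i, f i ∈ Q) →
      prodd (dOne D δ i₀) f = 1 → D.β f ∈ Subgroup.closure (gensW D δ Q T i₀) := by
  intro s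
  induction s using Finset.induction_on with
  | empty =>
    intro f hf _ _
    have : f = 1 := by
      funext i
      exact hf i (Finset.notMem_empty i)
    rw [this, map_one]
    exact Subgroup.one_mem _
  | insert j₀ s' hj₀ ih =>
    intro f hf hfQ hfd
    have peel : ∀ f₁ : ι → A, (∀ i, i ∉ insert j₀ s' → f₁ i = 1) → (∀ i, f₁ i ∈ Q) →
        prodd (dOne D δ i₀) f₁ = 1 → dOne D δ i₀ (f₁ j₀) = 1 →
        D.β f₁ ∈ Subgroup.closure (gensW D δ Q T i₀) := by
      intro f₁ hf₁ hf₁Q hf₁d hd1
      have e : f₁ = Pi.mulSingle j₀ (f₁ j₀) * Function.update f₁ j₀ 1 := by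
        funext k
        by_cases hk : k = j₀
        · subst hk
          rw [Pi.mul_apply, Pi.mulSingle_eq_same, Function.update_self, mul_one]
        · rw [Pi.mul_apply, Pi.mulSingle_eq_of_ne hk, Function.update_of_ne hk, one_mul]
      rw [e, map_mul]
      apply Subgroup.mul_mem
      · apply Subgroup.subset_closure
        left; left
        exact ⟨j₀, f₁ j₀, hf₁Q j₀, hd1, rfl⟩
      · apply ih
        · intro k hk
          by_cases hk0 : k = j₀
          · subst hk0
            rw [Function.update_self]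
          · rw [Function.update_of_ne hk0]
            apply hf₁
            rw [Finset.mem_insert, not_or]
            exact ⟨hk0, hk⟩
        · intro k
          by_cases hk0 : k = j₀
          · subst hk0
            rw [Function.update_self]
            exact Q.one_mem
          · rw [Function.update_of_ne hk0]
            exact hf₁Q k
        · have h1 := hf₁d
          rw [e, map_mul, prodd_mulSingle, hd1, one_mul] at h1
          exact h1
    by_cases hs' : s'.Nonempty
    · obtain ⟨l, hl⟩ := hs'
      have hil : j₀ ≠ l := by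
        rintro rfl
        exact hj₀ hl
      have e : f = (f * (pairF j₀ l (f j₀))⁻¹) * pairF j₀ l (f j₀) := by
        rw [inv_mul_cancel_right]
      rw [e, map_mul]
      apply Subgroup.mul_mem
      · apply peel
        · intro k hk
          rw [Finset.mem_insert, not_or] at hk
          have hkl : k ≠ l := by
            rintro rfl
            exact hk.2 hl
          rw [Pi.mul_apply, Pi.inv_apply, pairF_ne hk.1 hkl, inv_one, mul_one]
          apply hf
          rw [Finset.mem_insert, not_or]
          exact hk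
        · intro k
          rw [Pi.mul_apply, Pi.inv_apply]
          exact Q.mul_mem (hfQ k) (Q.inv_mem (pairF_mem (hfQ j₀) k))
        · rw [map_mul, map_inv, prodd_pairF, inv_one, mul_one]
          exact hfd
        · rw [Pi.mul_apply, Pi.inv_apply, pairF_same hil, mul_inv_cancel, map_one]
      · apply Subgroup.subset_closure
        right
        exact ⟨j₀, l, f j₀, hil, hfQ j₀, rfl⟩
    · rw [Finset.not_nonempty_iff_eq_empty] at hs'
      subst hs'
      apply peel f hf hfQ hfd
      have e : f = Pi.mulSingle j₀ (f j₀) := by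
        funext k
        by_cases hk : k = j₀
        · subst hk
          rw [Pi.mulSingle_eq_same]
        · rw [Pi.mulSingle_eq_of_ne hk]
          apply hf
          simpa using hk
      rw [e, prodd_mulSingle] at hfd
      exact hfd

variable {Q T}

theorem gensW_subset (hπ : ∀ t ∈ T, δ (D.π t) = 1) :
    gensW D δ Q T i₀ ⊆ ((D.W Q T ⊓ δ.ker : Subgroup G) : Set G) := by
  rintro g ((⟨i, a, ha, hda, rfl⟩ | ⟨t, ht, rfl⟩) | ⟨i, l, w, hil, hw, rfl⟩)
  · refine ⟨?_, ?_⟩
    · apply D.beta_mem
      intro k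
      by_cases hk : k = i
      · subst hk
        rw [Pi.mulSingle_eq_same]
        exact ha
      · rw [Pi.mulSingle_eq_of_ne hk]
        exact Q.one_mem
    · show δ _ = 1
      rw [delta_single D δ i i₀]
      exact hda
  · exact ⟨D.pi_mem ht, hπ t ht⟩
  · refine ⟨D.beta_mem (pairF_mem hw), ?_⟩
    show δ _ = 1
    rw [delta_beta D δ i₀, prodd_pairF]

theorem closure_gensW (hπ : ∀ t ∈ T, δ (D.π t) = 1) :
    Subgroup.closure (gensW D δ Q T i₀) = D.W Q T ⊓ δ.ker := by
  apply le_antisymm
  · rw [Subgroup.closure_le]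
    exact gensW_subset D δ i₀ hπ
  · rintro _ ⟨⟨f, hf, t, ht, rfl⟩, hk⟩
    have hk' : δ (D.β f * D.π t) = 1 := hk
    rw [map_mul, hπ t ht, mul_one, delta_beta D δ i₀] at hk'
    apply Subgroup.mul_mem
    · exact beta_mem_closure' D δ Q T i₀ Finset.univ f
        (fun i hi => absurd (Finset.mem_univ i) hi) hf hk'
    · apply Subgroup.subset_closure
      left; right
      exact ⟨t, ht, rfl⟩

variable {rs}

theorem comm_W_closure (hrβ : ∀ r ∈ rs, ∀ f, r * D.β f = D.β f * r)
    (hrπ : ∀ r ∈ rs, ∀ t, r * D.π t = D.π t * r) :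
    ∀ x ∈ D.W Q T, ∀ z ∈ Subgroup.closure rs, x * z = z * x := by
  rintro _ ⟨f, _, t, _, rfl⟩ z hz
  have h1 : z ∈ Subgroup.centralizer {D.β f * D.π t} := by
    have hle : Subgroup.closure rs ≤ Subgroup.centralizer {D.β f * D.π t} := by
      rw [Subgroup.closure_le]
      intro r hr
      rw [SetLike.mem_coe, Subgroup.mem_centralizer_iff]
      intro y hy
      rw [Set.mem_singleton_iff] at hy
      subst hy
      rw [mul_assoc, ← hrπ r hr t, ← mul_assoc, ← mul_assoc, hrβ r hr f]
    exact hle hz
  rw [Subgroup.mem_centralizer_iff] at h1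
  exact h1 _ rfl

theorem gensK_subset (hπ : ∀ t ∈ T, δ (D.π t) = 1)
    (hc : ∀ x ∈ D.W Q T, ∀ z ∈ Subgroup.closure rs, x * z = z * x) :
    gensK D δ Q T i₀ rs ⊆
      ((prodSub (D.W Q T) (Subgroup.closure rs) hc ⊓ δ.ker : Subgroup G) : Set G) := by
  rintro g (hg | ⟨r, hr, w, hw, hd, rfl⟩)
  · have := gensW_subset D δ i₀ hπ hg
    exact ⟨le_prodSub_left this.1, this.2⟩
  · refine ⟨⟨_, ?_, r, Subgroup.subset_closure hr, rfl⟩, ?_⟩
    · apply D.beta_mem
      intro k
      by_cases hk : k = i₀
      · subst hk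
        rw [Pi.mulSingle_eq_same]
        exact hw
      · rw [Pi.mulSingle_eq_of_ne hk]
        exact Q.one_mem
    · show δ _ = 1
      rw [map_mul]
      exact hd

theorem closure_gensK (hπ : ∀ t ∈ T, δ (D.π t) = 1)
    (hc : ∀ x ∈ D.W Q T, ∀ z ∈ Subgroup.closure rs, x * z = z * x)
    (hpart : ∀ r ∈ rs, ∃ w ∈ Q, dOne D δ i₀ w * δ r = 1) :
    Subgroup.closure (gensK D δ Q T i₀ rs) =
      prodSub (D.W Q T) (Subgroup.closure rs) hc ⊓ δ.ker := by
  apply le_antisymm
  · rw [Subgroup.closure_le]
    exact gensK_subset D δ i₀ hπ hc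
  · -- some multiple of `z` by an element of the wreath product lies in the closure
    have hP : ∀ z ∈ Subgroup.closure rs,
        ∃ w ∈ D.W Q T, w * z ∈ Subgroup.closure (gensK D δ Q T i₀ rs) := by
      intro z hz
      induction hz using Subgroup.closure_induction with
      | mem r hr =>
        obtain ⟨w, hw, hd⟩ := hpart r hr
        refine ⟨D.β (Pi.mulSingle i₀ w), ?_, ?_⟩
        · apply D.beta_mem
          intro k
          by_cases hk : k = i₀
          · subst hk
            rw [Pi.mulSingle_eq_same]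
            exact hw
          · rw [Pi.mulSingle_eq_of_ne hk]
            exact Q.one_mem
        · apply Subgroup.subset_closure
          right
          exact ⟨r, hr, w, hw, hd, rfl⟩
      | one => exact ⟨1, Subgroup.one_mem _, by rw [mul_one]; exact Subgroup.one_mem _⟩
      | mul z₁ z₂ hz₁ hz₂ ih₁ ih₂ =>
        obtain ⟨w₁, hw₁, h1⟩ := ih₁
        obtain ⟨w₂, hw₂, h2⟩ := ih₂
        refine ⟨w₁ * w₂, Subgroup.mul_mem _ hw₁ hw₂, ?_⟩
        have e : w₁ * w₂ * (z₁ * z₂) = (w₁ * z₁) * (w₂ * z₂) := by
          rw [mul_assoc w₁ z₁, ← mul_assoc z₁ w₂, ← hc w₂ hw₂ z₁ hz₁]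
          group
        rw [e]
        exact Subgroup.mul_mem _ h1 h2
      | inv z hz ih =>
        obtain ⟨w, hw, h1⟩ := ih
        refine ⟨w⁻¹, Subgroup.inv_mem _ hw, ?_⟩
        have e : w⁻¹ * z⁻¹ = (w * z)⁻¹ := by
          rw [hc w hw z hz, mul_inv_rev]
        rw [e]
        exact Subgroup.inv_mem _ h1
    rintro _ ⟨⟨x, hx, z, hz, rfl⟩, hk⟩
    obtain ⟨w, hw, h1⟩ := hP z hz
    have hk' : δ (x * z) = 1 := hk
    have h2 : δ (w * z) = 1 := by
      have hle : Subgroup.closure (gensK D δ Q T i₀ rs) ≤
          prodSub (D.W Q T) (Subgroup.closure rs) hc ⊓ δ.ker := by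
        rw [Subgroup.closure_le]
        exact gensK_subset D δ i₀ hπ hc
      exact (hle h1).2
    have e : x * z = (x * w⁻¹) * (w * z) := by group
    rw [e]
    apply Subgroup.mul_mem _ _ h1
    have h3 : x * w⁻¹ ∈ D.W Q T ⊓ δ.ker := by
      refine ⟨Subgroup.mul_mem _ hx (Subgroup.inv_mem _ hw), ?_⟩
      show δ _ = 1
      have h4 : δ (x * z) = δ (x * w⁻¹) * δ (w * z) := by rw [← map_mul, ← e]
      rw [hk', h2, mul_one] at h4
      exact h4.symm
    rw [← closure_gensW D δ i₀ hπ] at h3
    exact Subgroup.closure_mono Set.subset_union_left h3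

end engine

end Cfsg.Agent.Lib.Helper5.OmSyl
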