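import Mathlib
import Cfsg.Agent.Lib.Helper5.WrH4
import Cfsg.Agent.Lib.Helper5.WrP8

set_option autoImplicit false

namespace Cfsg.Agent.Lib.Helper5.OmSyl

open Matrix Cfsg.Agent.Lib.Helper5.WrP Cfsg.Agent.Lib.Helper5.WrH

variable {F : Type*} [Field F]

/-- the rotations: the elements of determinant one of the torus -/
def rot (F : Type*) [Field F] : Subgroup (GL (Fin 2) F) := (torDet F).ker.map (tor F).subtype

theorem mem_rot {M : GL (Fin 2) F} :
    M ∈ rot F ↔ M ∈ tor F ∧ M.1 0 0 ^ 2 + M.1 1 0 ^ 2 = 1 := by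
  unfold rot
  rw [Subgroup.mem_map]
  constructor
  · rintro ⟨N, hN, rfl⟩
    refine ⟨N.2, ?_⟩
    rw [MonoidHom.mem_ker] at hN
    have h1 := congrArg (fun u : Fˣ => (u : F)) hN
    simp only [torDet_coe, Units.val_one] at h1
    exact h1
  · rintro ⟨h1, h2⟩
    refine ⟨⟨M, h1⟩, ?_, rfl⟩
    rw [MonoidHom.mem_ker]
    apply Units.ext
    rw [torDet_coe, Units.val_one]
    exact h2

theorem rot_le_tor : rot F ≤ tor F := fun _ h => (mem_rot.1 h).1

theorem rot_comm {M N : GL (Fin 2) F} (hM : M ∈ rot F) (hN : N ∈ rot F) : M * N = N * M :=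
  tor_comm (rot_le_tor hM) (rot_le_tor hN)

theorem card_rot [Finite F] : Nat.card (rot F) = Nat.card (Circ F) := by
  unfold rot
  rw [Subgroup.card_map_of_injective (Subgroup.subtype_injective _)]
  exact Nat.card_congr (kerEquiv F)

/-- a rotation in coordinates -/
theorem rot_coe {M : GL (Fin 2) F} (hM : M ∈ rot F) :
    (M : Matrix (Fin 2) (Fin 2) F) = !![M.1 0 0, -M.1 1 0; M.1 1 0, M.1 0 0] := by
  obtain ⟨⟨h1, h2⟩, _⟩ := mem_rot.1 hM
  ext i j
  fin_cases i <;> fin_cases j
  · rfl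
  · exact h2
  · rfl
  · exact h1.symm

/-- conjugation by the reflection inverts the rotations -/
theorem sg_conj_rot {M : GL (Fin 2) F} (hM : M ∈ rot F) : sg F * M * (sg F)⁻¹ = M⁻¹ := by
  rw [eq_inv_iff_mul_eq_one]
  apply Units.ext
  rw [Units.val_mul, sg_conj_coe, Units.val_one]
  have h := (mem_rot.1 hM).2
  have hc := rot_coe hM
  obtain ⟨⟨h1, h2⟩, _⟩ := mem_rot.1 hM
  rw [hc]
  ext i j
  fin_cases i <;> fin_cases j <;>
    simp [Matrix.mul_apply, Fin.sum_univ_two, h1, h2]
  · rw [← h1]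
    linear_combination h
  · rw [← h1]
    ring
  · rw [← h1]
    ring
  · rw [← h1]
    linear_combination h

theorem sg_conj_mem_rot {M : GL (Fin 2) F} (hM : M ∈ rot F) : sg F * M * (sg F)⁻¹ ∈ rot F := by
  rw [sg_conj_rot hM]
  exact (rot F).inv_mem hM

/-- the `2`-part of the rotation group -/
def rotTwo (F : Type*) [Field F] : Subgroup (GL (Fin 2) F) :=
  twoPart (rot F) (fun _ hx _ hy => rot_comm hx hy)

theorem rotTwo_le : rotTwo F ≤ rot F := twoPart_le

theorem sg_conj_mem_rotTwo {M : GL (Fin 2) F} (hM : M ∈ rotTwo F) :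
    sg F * M * (sg F)⁻¹ ∈ rotTwo F := by
  obtain ⟨h1, k, hk⟩ := hM
  refine ⟨sg_conj_mem_rot h1, k, ?_⟩
  rw [conj_pow, hk, mul_one, mul_inv_cancel]

/-- the dihedral group: the `2`-part of the rotations extended by the reflection -/
def dihG (F : Type*) [Field F] : Subgroup (GL (Fin 2) F) :=
  ext2 (rotTwo F) (sg F) sg_mul_self (fun _ hc => sg_conj_mem_rotTwo hc)

/-- the full orthogonal group of the plane, as an extension -/
def o2G (F : Type*) [Field F] : Subgroup (GL (Fin 2) F) :=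
  ext2 (rot F) (sg F) sg_mul_self (fun _ hc => sg_conj_mem_rot hc)

theorem dihG_le_o2G : dihG F ≤ o2G F := by
  rintro M (h | h)
  · exact Or.inl (rotTwo_le h)
  · exact Or.inr (rotTwo_le h)

theorem card_o2G [Finite F] (h2 : (2 : F) ≠ 0) : Nat.card (o2G F) = 2 * Nat.card (Circ F) := by
  unfold o2G
  rw [card_ext2 (fun h => sg_not_mem h2 (rot_le_tor h)), card_rot]

theorem card_dihG [Fintype F] (hq : Odd (Fintype.card F)) :
    Nat.card (dihG F) = 2 ^ cq (Fintype.card F) := by
  have h2 := two_ne_zero_of_odd_card hq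
  have hq1 : 1 < Fintype.card F := Fintype.one_lt_card
  have h3 := three_le_cq hq hq1
  unfold dihG
  rw [card_ext2 (fun h => sg_not_mem h2 (rot_le_tor (rotTwo_le h)))]
  unfold rotTwo
  haveI : Finite (rot F) := Subtype.finite
  rw [card_twoPart, card_rot, val_card_circ hq, ← pow_succ']
  congr 1
  omega

theorem val_card_o2G [Fintype F] (hq : Odd (Fintype.card F)) :
    padicValNat 2 (Nat.card (o2G F)) = cq (Fintype.card F) := by
  have h2 := two_ne_zero_of_odd_card hq
  have hq1 : 1 < Fintype.card F := Fintype.one_lt_card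
  have h3 := three_le_cq hq hq1
  haveI : Finite (Circ F) := by
    unfold Circ
    infer_instance
  have hpos : Nat.card (Circ F) ≠ 0 := by
    haveI : Nonempty (Circ F) := ⟨⟨(1, 0), by simp⟩⟩
    exact Nat.card_pos.ne'
  rw [card_o2G h2, padicValNat.mul (by norm_num) hpos, val_card_circ hq]
  simp
  omega

end Cfsg.Agent.Lib.Helper5.OmSyl
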