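import Mathlib
import Cfsg.Agent.Lib.Helper5.OmSyl11
import Cfsg.Agent.Lib.Helper5.OmSyl4

set_option autoImplicit false

namespace Cfsg.Agent.Lib.Helper5.OmSyl

open Matrix Cfsg.Agent.Lib.Helper5.WrP Cfsg.Agent.Lib.Helper5.WrH

variable {F : Type*} [Field F]

theorem mulVec_two (M : Matrix (Fin 2) (Fin 2) F) (u : Fin 2 → F) :
    M *ᵥ u = ![M 0 0 * u 0 + M 0 1 * u 1, M 1 0 * u 0 + M 1 1 * u 1] := by
  funext i
  fin_cases i <;> simp [Matrix.mulVec, dotProduct, Fin.sum_univ_two]

theorem rot_mem_iso {M : GL (Fin 2) F} (hM : M ∈ rot F) :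
    M ∈ Cfsg.isometryGroup F ⇑(q2 F) := by
  rw [IsoTransfer.mem_iso]
  intro u
  obtain ⟨⟨h1, h2⟩, h3⟩ := mem_rot.1 hM
  rw [mulVec_two, q2_apply, q2_apply]
  simp only [Matrix.cons_val_zero, Matrix.cons_val_one]
  rw [h2, ← h1]
  linear_combination (u 0 * u 0 + u 1 * u 1) * h3

theorem sg_mem_iso : sg F ∈ Cfsg.isometryGroup F ⇑(q2 F) := by
  rw [IsoTransfer.mem_iso]
  intro u
  rw [mulVec_two, q2_apply, q2_apply, sg_coe]
  simp

theorem o2G_le_iso : o2G F ≤ Cfsg.isometryGroup F ⇑(q2 F) := by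
  rintro M (h | h)
  · exact rot_mem_iso h
  · have h1 := (Cfsg.isometryGroup F ⇑(q2 F)).mul_mem (rot_mem_iso h)
      ((Cfsg.isometryGroup F ⇑(q2 F)).inv_mem sg_mem_iso)
    rwa [mul_inv_cancel_right] at h1

/-- every isometry of the plane is a rotation or a rotation times the reflection -/
theorem iso_le_o2G (h2 : (2 : F) ≠ 0) : Cfsg.isometryGroup F ⇑(q2 F) ≤ o2G F := by
  intro M hM
  rw [IsoTransfer.mem_iso] at hM
  set a := M.1 0 0 with ha
  set b := M.1 0 1 with hb
  set c := M.1 1 0 with hc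
  set d := M.1 1 1 with hd
  have e1 := hM ![1, 0]
  have e2 := hM ![0, 1]
  have e3 := hM ![1, 1]
  rw [mulVec_two, q2_apply, q2_apply] at e1 e2 e3
  simp only [Matrix.cons_val_zero, Matrix.cons_val_one, mul_one, mul_zero, add_zero, zero_add]
    at e1 e2 e3
  have h1 : a * a + c * c = 1 := e1
  have h3 : b * b + d * d = 1 := e2
  have h4 : a * b + c * d = 0 := by
    have : (2 : F) * (a * b + c * d) = 0 := by linear_combination e3 - h1 - h3
    rcases mul_eq_zero.1 this with h | h
    · exact absurd h h2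
    · exact h
  have hΔ : (a * d - b * c - 1) * (a * d - b * c + 1) = 0 := by
    linear_combination (b * b + d * d) * h1 + h3 - (a * b + c * d) * h4
  rcases mul_eq_zero.1 hΔ with hΔ1 | hΔ1
  · -- determinant one: a rotation
    have had : d = a := by
      linear_combination a * hΔ1 - d * h1 + c * h4
    have hbc : b = -c := by
      linear_combination d * h4 - c * h3 - b * hΔ1
    left
    rw [mem_rot]
    refine ⟨⟨had.symm, hbc⟩, ?_⟩
    linear_combination h1
  · -- determinant minus one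
    have had : d = -a := by
      linear_combination (-d) * h1 + c * h4 + a * hΔ1
    have hbc : b = c := by
      linear_combination (-d) * h4 + c * h3 + b * hΔ1
    right
    rw [mem_rot]
    have hcoe : ((M * sg F : GL (Fin 2) F) : Matrix (Fin 2) (Fin 2) F) = !![a, -b; c, -d] := by
      rw [Units.val_mul, sg_coe]
      ext i j
      fin_cases i <;> fin_cases j <;> simp [Matrix.mul_apply, Fin.sum_univ_two, ha, hb, hc, hd]
    refine ⟨⟨?_, ?_⟩, ?_⟩
    · rw [hcoe]
      simp [had]
    · rw [hcoe]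
      simp [hbc]
    · rw [hcoe]
      simp only [Matrix.of_apply, Matrix.cons_val', Matrix.cons_val_zero, Matrix.cons_val_one,
        Matrix.empty_val', Matrix.cons_val_fin_one]
      linear_combination h1

theorem iso_eq_o2G (h2 : (2 : F) ≠ 0) : Cfsg.isometryGroup F ⇑(q2 F) = o2G F :=
  le_antisymm (iso_le_o2G h2) o2G_le_iso

/-- the dihedral subgroup of the isometry group of the plane -/
noncomputable def dih (F : Type*) [Field F] : Subgroup (O2 F) :=
  (dihG F).subgroupOf (Cfsg.isometryGroup F ⇑(q2 F))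

theorem mem_dih {w : O2 F} : w ∈ dih F ↔ (w : GL (Fin 2) F) ∈ dihG F := Iff.rfl

theorem card_dih [Fintype F] (hq : Odd (Fintype.card F)) :
    Nat.card (dih F) = 2 ^ cq (Fintype.card F) := by
  rw [← card_dihG hq]
  exact Nat.card_congr
    (Subgroup.subgroupOfEquivOfLe (le_trans dihG_le_o2G o2G_le_iso)).toEquiv

theorem val_card_O2 [Fintype F] (hq : Odd (Fintype.card F)) :
    padicValNat 2 (Nat.card (O2 F)) = cq (Fintype.card F) := by
  have h2 := two_ne_zero_of_odd_card hq
  rw [← val_card_o2G hq]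
  congr 1
  show Nat.card ↥(Cfsg.isometryGroup F ⇑(q2 F)) = _
  rw [iso_eq_o2G h2]

end Cfsg.Agent.Lib.Helper5.OmSyl
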