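import Mathlib
import Cfsg.Agent.Lib.Helper5.OmSyl12
import Cfsg.Agent.Lib.Helper5.WrP11
import Cfsg.Agent.Lib.Helper2.Spinor3
import Cfsg.Agent.Lib.Helper7.OrdTwoAdic

set_option autoImplicit false

namespace Cfsg.Agent.Lib.Helper5.OmSyl

open Matrix Cfsg.Agent.Lib.Helper5.WrP Cfsg.Agent.Lib.Helper5.WrH
open scoped commutatorElement

theorem sq_eq_comm_of_conj_inv {G : Type*} [Group G] (x s : G) (h : s * x * s⁻¹ = x⁻¹) :
    x ^ 2 = ⁅x, s⁆ ∧ (x⁻¹) ^ 2 = ⁅x⁻¹, s⁻¹⁆ := by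
  have h1 : s * x⁻¹ * s⁻¹ = x := by
    have e : s * x⁻¹ * s⁻¹ = (s * x * s⁻¹)⁻¹ := by group
    rw [e, h, inv_inv]
  have h2 : s⁻¹ * x * s = x⁻¹ := by
    calc s⁻¹ * x * s = s⁻¹ * (s * x⁻¹ * s⁻¹) * s := by rw [h1]
      _ = x⁻¹ := by group
  constructor
  · rw [commutatorElement_def, pow_two]
    calc x * x = x * (s * x⁻¹ * s⁻¹) := by rw [h1]
      _ = x * s * x⁻¹ * s⁻¹ := by group
  · rw [commutatorElement_def, pow_two, inv_inv, inv_inv]
    calc x⁻¹ * x⁻¹ = x⁻¹ * (s⁻¹ * x * s) := by rw [h2]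
      _ = x⁻¹ * s⁻¹ * x * s := by group

variable {F : Type*} [Field F]

/-- the reflection as an isometry of the plane -/
noncomputable def sgO (F : Type*) [Field F] : O2 F := ⟨sg F, sg_mem_iso⟩

theorem sgO_mem_dih : sgO F ∈ dih F := by
  rw [mem_dih]
  exact s_mem_ext2

theorem hsq_dih (w : O2 F) (hw : w ∈ dih F) :
    ∃ v ∈ dih F, w ^ 2 = ⁅w, v⁆ ∧ (w⁻¹) ^ 2 = ⁅w⁻¹, v⁻¹⁆ := by
  rw [mem_dih] at hw
  rcases hw with h | h
  · refine ⟨sgO F, sgO_mem_dih, ?_⟩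
    apply sq_eq_comm_of_conj_inv
    apply Subtype.ext
    exact sg_conj_rot (rotTwo_le h)
  · refine ⟨1, Subgroup.one_mem _, ?_⟩
    have hc := sg_conj_rot (rotTwo_le h)
    have hww : (w : GL (Fin 2) F) * (w : GL (Fin 2) F) = 1 := by
      have e : (w : GL (Fin 2) F) = ((w : GL (Fin 2) F) * sg F) * (sg F)⁻¹ := by
        rw [mul_inv_cancel_right]
      have e2 : (w : GL (Fin 2) F) * (w : GL (Fin 2) F) =
          ((w : GL (Fin 2) F) * sg F) * (sg F * ((w : GL (Fin 2) F) * sg F) * (sg F)⁻¹) := by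
        rw [sg_inv]
        have := sg_mul_self (F := F)
        calc (w : GL (Fin 2) F) * (w : GL (Fin 2) F)
            = (w : GL (Fin 2) F) * (sg F * sg F) * (w : GL (Fin 2) F) * (sg F * sg F) := by
              rw [this, mul_one, mul_one]
          _ = _ := by group
      rw [e2, hc, mul_inv_cancel]
    have hw2 : w ^ 2 = 1 := by
      apply Subtype.ext
      rw [pow_two]
      exact hww
    constructor
    · rw [hw2, commutatorElement_one_right]
    · rw [inv_pow, hw2, inv_one, commutatorElement_one_right]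

open Cfsg.Agent.Lib.Helper2.CDG Cfsg.Agent.Lib.Helper2.Spinor in
/-- PK-DIH -/
theorem exists_dih [Fintype F] (hF : Odd (Fintype.card F)) :
    ∃ D : Subgroup (O2 F),
      Nat.card D = 2 ^ padicValNat 2 (Fintype.card F ^ 2 - 1) ∧
      (∀ w ∈ D, ∃ v ∈ D, w ^ 2 = ⁅w, v⁆ ∧ (w⁻¹) ^ 2 = ⁅w⁻¹, v⁻¹⁆) ∧
      (∀ c : F, c ≠ 0 → ∃ (v : Fin 2 → F) (hv : q2 F v ≠ 0), q2 F v = c ∧
        Cfsg.Agent.Lib.Helper2.CDG.refl (q2 F) v hv ∈ D) := by
  classical
  haveI : Fact (Nat.Prime 2) := ⟨Nat.prime_two⟩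
  have hq1 : 1 < Fintype.card F := Fintype.one_lt_card
  have hcq : cq (Fintype.card F) = padicValNat 2 (Fintype.card F ^ 2 - 1) := by
    unfold cq
    rw [Cfsg.Agent.Lib.Helper7.OrdTwoAdic.val2_sq_sub_one hF hq1]
  refine ⟨dih F, ?_, hsq_dih, ?_⟩
  · rw [card_dih hF, hcq]
  · intro c hc
    have hcard : Nat.card (dih F) = 2 ^ (Nat.card (O2 F)).factorization 2 := by
      rw [card_dih hF, Nat.factorization_def _ Nat.prime_two, val_card_O2 hF]
    let P₀ : Sylow 2 (O2 F) := Sylow.ofCard (dih F) hcard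
    obtain ⟨a, b, hab⟩ := exists_sq_add_sq hF c
    have hv : q2 F ![a, b] ≠ 0 := by
      rw [q2_apply]
      simp only [Matrix.cons_val_zero, Matrix.cons_val_one]
      intro h
      apply hc
      rw [← hab]
      linear_combination h
    set r := Cfsg.Agent.Lib.Helper2.CDG.refl (q2 F) ![a, b] hv with hr
    have hrr : r * r = 1 := Cfsg.Agent.Lib.Helper2.CDG.refl_mul_self _ hv
    have hp : IsPGroup 2 (Subgroup.zpowers r) := by
      rintro ⟨g, hg⟩
      obtain ⟨n, rfl⟩ := Subgroup.mem_zpowers_iff.1 hg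
      refine ⟨1, ?_⟩
      apply Subtype.ext
      show (r ^ n) ^ 2 ^ 1 = 1
      rw [pow_one, ← zpow_natCast, ← _root_.zpow_mul, mul_comm, _root_.zpow_mul, zpow_natCast, pow_two, hrr, _root_.one_zpow]
    obtain ⟨P, hP⟩ := hp.exists_le_sylow
    obtain ⟨g, hg⟩ := sylow_conj P₀ P
    have hrP : r ∈ (P : Subgroup (O2 F)) := hP (Subgroup.mem_zpowers r)
    rw [hg] at hrP
    obtain ⟨d, hd, hdr⟩ := hrP
    have hd' : d = g⁻¹ * r * (g⁻¹)⁻¹ := by
      rw [← hdr]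
      simp only [MulEquiv.coe_toMonoidHom, MulAut.conj_apply]
      group
    rw [hd', hr, conj_refl] at hd
    refine ⟨_, _, ?_, hd⟩
    rw [iso_Q, q2_apply]
    simp only [Matrix.cons_val_zero, Matrix.cons_val_one]
    rw [← hab]
    ring

end Cfsg.Agent.Lib.Helper5.OmSyl
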