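import Mathlib
import Cfsg.Agent.Lib.Helper5.OmSyl1

set_option autoImplicit false

namespace Cfsg.Agent.Lib.Helper5.OmSyl

open Equiv Cfsg.Agent.Lib.Helper5.WrP Cfsg.Agent.Lib.Helper5.WrH
open scoped commutatorElement

section engine

variable {A ι G U : Type*} [Group A] [Group G] [CommGroup U] [Fintype ι] [DecidableEq ι]

theorem comm_single_pair {i l : ι} (hil : i ≠ l) (a v : A) :
    ⁅(Pi.mulSingle i a : ι → A), pairF i l v⁆ = Pi.mulSingle i ⁅a, v⁆ := by
  funext k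
  simp only [commutatorElement_def, Pi.mul_apply, Pi.inv_apply]
  by_cases hki : k = i
  · subst hki
    rw [Pi.mulSingle_eq_same, pairF_same hil, Pi.mulSingle_eq_same]
  · rw [Pi.mulSingle_eq_of_ne hki, Pi.mulSingle_eq_of_ne hki]
    group

theorem sq_pair {i l : ι} (hil : i ≠ l) (w v : A) (h1 : w ^ 2 = ⁅w, v⁆)
    (h2 : (w⁻¹) ^ 2 = ⁅w⁻¹, v⁻¹⁆) :
    (pairF i l w : ι → A) ^ 2 = ⁅pairF i l w, pairF i l v⁆ := by
  funext k
  simp only [commutatorElement_def, Pi.mul_apply, Pi.inv_apply, Pi.pow_apply]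
  by_cases hki : k = i
  · subst hki
    rw [pairF_same hil, pairF_same hil, h1, commutatorElement_def]
  · by_cases hkl : k = l
    · subst hkl
      rw [pairF_other hil, pairF_other hil, h2, commutatorElement_def]
    · rw [pairF_ne hki hkl, pairF_ne hki hkl]
      group

theorem comm_mul_central {x y r : G} (h1 : r * x = x * r) (h2 : r * y = y * r) :
    ⁅x * r, y⁆ = ⁅x, y⁆ := by
  rw [commutatorElement_def, commutatorElement_def, mul_inv_rev]
  have h3 : r * y * r⁻¹ = y := by rw [h2, mul_inv_cancel_right]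
  calc x * r * y * (r⁻¹ * x⁻¹) * y⁻¹ = x * (r * y * r⁻¹) * x⁻¹ * y⁻¹ := by group
    _ = x * y * x⁻¹ * y⁻¹ := by rw [h3]

variable (D : WrData A ι G) (δ : G →* U)

/-- squares in the kernel of `δ` on the product of a wreath product of a "dihedral-like" group
and commuting involutions lie in its derived subgroup -/
theorem sqDer_prodSub_ker {Q : Subgroup A} {T : Subgroup (Perm ι)} {rs : Set G}
    (hπ : ∀ t ∈ T, δ (D.π t) = 1)
    (hsq : ∀ w ∈ Q, ∃ v ∈ Q, w ^ 2 = ⁅w, v⁆ ∧ (w⁻¹) ^ 2 = ⁅w⁻¹, v⁻¹⁆)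
    (hT : SqDer T) (i₀ i₁ : ι) (h01 : i₀ ≠ i₁)
    (hr2 : ∀ r ∈ rs, r * r = 1)
    (hrβ : ∀ r ∈ rs, ∀ f, r * D.β f = D.β f * r)
    (hpart : ∀ r ∈ rs, ∃ w ∈ Q, dOne D δ i₀ w * δ r = 1)
    (hc : ∀ x ∈ D.W Q T, ∀ z ∈ Subgroup.closure rs, x * z = z * x) :
    SqDer (prodSub (D.W Q T) (Subgroup.closure rs) hc ⊓ δ.ker) := by
  have hclos := closure_gensK D δ i₀ hπ hc hpart
  have hsub := gensK_subset D δ i₀ (rs := rs) hπ hc
  have hpair : ∀ i l v, i ≠ l → v ∈ Q → D.β (pairF i l v) ∈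
      prodSub (D.W Q T) (Subgroup.closure rs) hc ⊓ δ.ker := by
    intro i l v hil hv
    apply hsub
    left; right
    exact ⟨i, l, v, hil, hv, rfl⟩
  apply sqDer_of_closure _ hclos
  rintro g (((⟨i, a, ha, hda, rfl⟩ | ⟨t, ht, rfl⟩) | ⟨i, l, w, hil, hw, rfl⟩) |
    ⟨r, hr, w, hw, hd, rfl⟩)
  · -- a single coordinate
    obtain ⟨l, hil⟩ : ∃ l, i ≠ l := by
      by_cases h : i = i₀
      · exact ⟨i₁, by rw [h]; exact h01⟩
      · exact ⟨i₀, h⟩
    obtain ⟨v, hv, h1, _⟩ := hsq a ha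
    have hg : D.β (Pi.mulSingle i a) ∈ prodSub (D.W Q T) (Subgroup.closure rs) hc ⊓ δ.ker := by
      apply hsub
      left; left; left
      exact ⟨i, a, ha, hda, rfl⟩
    have hcm := Subgroup.commutator_mem_commutator hg (hpair i l v hil hv)
    rw [← map_commutatorElement, comm_single_pair hil, ← h1] at hcm
    rw [← map_pow, ← Pi.mulSingle_pow]
    exact hcm
  · -- a permutation
    have h1 : T.map D.π ≤ prodSub (D.W Q T) (Subgroup.closure rs) hc ⊓ δ.ker := by
      rintro _ ⟨s, hs, rfl⟩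
      apply hsub
      left; left; right
      exact ⟨s, hs, rfl⟩
    rw [← map_pow]
    apply Subgroup.commutator_mono h1 h1
    rw [← Subgroup.map_commutator]
    exact ⟨_, hT t ht, rfl⟩
  · -- a pair
    obtain ⟨v, hv, h1, h2⟩ := hsq w hw
    have hcm := Subgroup.commutator_mem_commutator (hpair i l w hil hw) (hpair i l v hil hv)
    rw [← map_commutatorElement, ← sq_pair hil w v h1 h2, map_pow] at hcm
    exact hcm
  · -- a rest generator with its partner
    obtain ⟨v, hv, h1, _⟩ := hsq w hw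
    have hg : D.β (Pi.mulSingle i₀ w) * r ∈
        prodSub (D.W Q T) (Subgroup.closure rs) hc ⊓ δ.ker := by
      apply hsub
      right
      exact ⟨r, hr, w, hw, hd, rfl⟩
    have hcm := Subgroup.commutator_mem_commutator hg (hpair i₀ i₁ v h01 hv)
    rw [comm_mul_central (hrβ r hr _) (hrβ r hr _), ← map_commutatorElement,
      comm_single_pair h01, ← h1] at hcm
    have e : (D.β (Pi.mulSingle i₀ w) * r) ^ 2 = D.β (Pi.mulSingle i₀ (w ^ 2)) := by
      rw [pow_two, mul_assoc, ← mul_assoc r, hrβ r hr, mul_assoc, hr2 r hr, mul_one, ← map_mul,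
        ← Pi.mulSingle_mul, ← pow_two]
    rw [e]
    exact hcm

end engine

end Cfsg.Agent.Lib.Helper5.OmSyl
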