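import Mathlib
import Cfsg.Agent.Lib.Helper5.OmSyl2
import Cfsg.Agent.Lib.Helper5.OmSyl7
import Cfsg.Agent.Lib.Helper5.WrP11

set_option autoImplicit false

namespace Cfsg.Agent.Lib.Helper5.OmSyl

open Matrix Equiv Cfsg.Agent.Lib.Helper5.WrP Cfsg.Agent.Lib.Helper5.WrH
open Cfsg.Agent.Lib.Helper5.SylSym
open scoped commutatorElement

variable {F : Type*} [Field F] {k b : ℕ} {c : Fin b → F}

/-- the sign changes of single coordinates -/
def restSet (F : Type*) [Field F] (k b : ℕ) (c : Fin b → F) : Set (OM F k b c) :=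
  Set.range (fun l : Fin b => rho F k b c (Pi.mulSingle l (-1)))

theorem closure_restSet : Subgroup.closure (restSet F k b c) = (rho F k b c).range := by
  apply le_antisymm
  · rw [Subgroup.closure_le]
    rintro _ ⟨l, rfl⟩
    exact ⟨_, rfl⟩
  · have h1 : (⊤ : Subgroup (Fin b → ℤˣ)) ≤
        (Subgroup.closure (restSet F k b c)).comap (rho F k b c) := by
      rw [← Subgroup.pi_top (Set.univ : Set (Fin b)), Subgroup.pi_le_iff]
      rintro l _ ⟨u, _, rfl⟩
      rw [Subgroup.mem_comap]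
      rcases Int.units_eq_one_or u with hu | hu
      · rw [hu]
        have : (MonoidHom.mulSingle (fun _ : Fin b => ℤˣ) l) 1 = 1 := map_one _
        rw [this, map_one]
        exact Subgroup.one_mem _
      · rw [hu]
        apply Subgroup.subset_closure
        exact ⟨l, rfl⟩
    rintro _ ⟨ε, rfl⟩
    exact h1 (Subgroup.mem_top ε)

theorem card_closure_restSet (h2 : (2 : F) ≠ 0) :
    Nat.card (Subgroup.closure (restSet F k b c)) = 2 ^ b := by
  rw [closure_restSet,
    ← Nat.card_congr (MonoidHom.ofInjective (rho_injective F k b c h2)).toEquiv, Nat.card_fun]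
  simp

theorem rest_sq (r : OM F k b c) (hr : r ∈ restSet F k b c) : r * r = 1 := by
  obtain ⟨l, rfl⟩ := hr
  show rho F k b c (Pi.mulSingle l (-1)) * rho F k b c (Pi.mulSingle l (-1)) = 1
  rw [← map_mul, ← Pi.mulSingle_mul]
  have : ((-1 : ℤˣ) * (-1)) = 1 := by decide
  rw [this, Pi.mulSingle_one, map_one]

theorem rest_comm_beta (r : OM F k b c) (hr : r ∈ restSet F k b c) (f : Fin k → O2 F) :
    r * (WO F k b c).β f = (WO F k b c).β f * r := by
  obtain ⟨l, rfl⟩ := hr
  have h := rho_comm F k b c (Pi.mulSingle l (-1)) f 1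
  rw [map_one, mul_one] at h
  exact h.symm

theorem rest_comm_pi (r : OM F k b c) (hr : r ∈ restSet F k b c) (t : Perm (Fin k)) :
    r * (WO F k b c).π t = (WO F k b c).π t * r := by
  obtain ⟨l, rfl⟩ := hr
  have h := rho_comm F k b c (Pi.mulSingle l (-1)) 1 t
  rw [map_one, one_mul] at h
  exact h.symm

/-- the model theorem, for a given dihedral subgroup -/
theorem model_sqDer_of_dih [Fintype F] (hF : Odd (Fintype.card F)) (hk : 2 ≤ k)
    (hc : ∀ l, c l ≠ 0) (D : Subgroup (O2 F)) (v : ℕ) (hDcard : Nat.card D = 2 ^ v)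
    (hsq : ∀ w ∈ D, ∃ u ∈ D, w ^ 2 = ⁅w, u⁆ ∧ (w⁻¹) ^ 2 = ⁅w⁻¹, u⁻¹⁆)
    (hrefl : ∀ a : F, a ≠ 0 → ∃ (x : Fin 2 → F) (hx : q2 F x ≠ 0), q2 F x = a ∧
      Cfsg.Agent.Lib.Helper2.CDG.refl (q2 F) x hx ∈ D) :
    ∃ S : Subgroup (OM F k b c),
      Nat.card S = 2 ^ (k * v + padicValNat 2 k.factorial + b) ∧
      SqDer (S ⊓ commutator (OM F k b c)) := by
  classical
  haveI : Fact (Nat.Prime 2) := ⟨Nat.prime_two⟩
  have h2 : (2 : F) ≠ 0 := two_ne_zero_of_odd_card hF
  obtain ⟨T⟩ : Nonempty (Sylow 2 (Perm (Fin k))) := inferInstance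
  have hT : SqDer (T : Subgroup (Perm (Fin k))) := sqDer_of_GenP (sylow_GenP 2 k T)
  have hTcard : Nat.card (T : Subgroup (Perm (Fin k))) = 2 ^ padicValNat 2 k.factorial :=
    card_sylow_perm 2 k T
  set W := WO F k b c with hW
  set rs := restSet F k b c with hrs
  have hcomm : ∀ x ∈ W.W D (T : Subgroup (Perm (Fin k))), ∀ z ∈ Subgroup.closure rs,
      x * z = z * x :=
    comm_W_closure W (fun r hr f => rest_comm_beta r hr f) (fun r hr t => rest_comm_pi r hr t)
  refine ⟨prodSub (W.W D (T : Subgroup (Perm (Fin k)))) (Subgroup.closure rs) hcomm, ?_, ?_⟩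
  · rw [card_prodSub, WrData.card_W, hDcard, hTcard, card_closure_restSet h2, Fintype.card_fin,
      ← pow_mul, ← pow_add, ← pow_add, mul_comm v k]
    rintro x ⟨f, _, t, _, rfl⟩ hx
    rw [hrs, closure_restSet] at hx
    obtain ⟨ε, hε⟩ := hx
    exact rho_disjoint F k b c ε f t hε.symm
  · have i₀ : Fin k := ⟨0, by omega⟩
    have h := sqDer_prodSub_ker W (Abelianization.of : OM F k b c →* Abelianization (OM F k b c))
      (Q := D) (T := (T : Subgroup (Perm (Fin k)))) (rs := rs)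
      (fun t _ => ab_pi h2 t) hsq hT (⟨0, by omega⟩ : Fin k) (⟨1, by omega⟩ : Fin k)
      (by
        intro h
        have := congrArg Fin.val h
        simp at this)
      (fun r hr => rest_sq r hr) (fun r hr f => rest_comm_beta r hr f)
      (by
        rintro r ⟨l, rfl⟩
        obtain ⟨x, hx, hxa, hmem⟩ := hrefl (c l) (hc l)
        refine ⟨_, hmem, ?_⟩
        rw [dOne_apply]
        exact ab_partner h2 hc _ x hx l 1 (by rw [hxa, one_mul, one_mul]))
      hcomm
    rw [Abelianization.ker_of] at h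
    exact h

end Cfsg.Agent.Lib.Helper5.OmSyl
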