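import Mathlib
import Cfsg.Agent.Lib.Helper5.OmSyl8
import Cfsg.Agent.Lib.Helper5.OmSyl13
import Cfsg.Agent.Lib.Lead.OmSyl_TT
import Cfsg.Agent.Lib.Helper7.OrdTwoAdicO

set_option autoImplicit false

namespace Cfsg.Agent.Lib.Helper5.OmSyl

open Matrix Equiv Cfsg.Agent.Lib.Helper5.WrP Cfsg.Agent.Lib.Helper5.WrH
open Cfsg.Agent.Lib.Helper7.OrdTwoAdic
open scoped commutatorElement

variable {F : Type*} [Field F] [Fintype F]

/-- the general reduction: a form isometric to a model form with the right `2`-part of the order -/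
theorem omega_of_model (hF : Odd (Fintype.card F)) {ι : Type} [Fintype ι] [DecidableEq ι]
    (Q : (ι → F) → F) (k b : ℕ) (hk : 2 ≤ k) (c : Fin b → F) (hc : ∀ l, c l ≠ 0)
    (e : (ι → F) ≃ₗ[F] (MI k b → F)) (he : ∀ v, Qm F k b c (e v) = Q v)
    (hcard : padicValNat 2 (Nat.card (Cfsg.isometryGroup F Q)) =
      k * padicValNat 2 (Fintype.card F ^ 2 - 1) + padicValNat 2 k.factorial + b)
    (P : Sylow 2 (Cfsg.Omega F Q)) :
    ∀ x : (P : Subgroup (Cfsg.Omega F Q)), x ^ 2 ∈ commutator (P : Subgroup (Cfsg.Omega F Q)) := by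
  obtain ⟨D, hDcard, hsq, hrefl⟩ := exists_dih hF
  obtain ⟨S, hScard, hS⟩ := model_sqDer_of_dih (k := k) (b := b) (c := c) hF hk hc D _ hDcard hsq hrefl
  let iso := IsoTransfer.isoEquiv Q (⇑(Qm F k b c)) e he
  haveI : Finite (OM F k b c) := inferInstance
  have hcard' : Nat.card (OM F k b c) = Nat.card (Cfsg.isometryGroup F Q) :=
    (Nat.card_congr iso.toEquiv).symm
  have hS' : Nat.card S = 2 ^ padicValNat 2 (Nat.card (OM F k b c)) := by
    rw [hScard, hcard', hcard]
  exact transfer_iso iso (sylow_transfer S hS' hS) P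

end Cfsg.Agent.Lib.Helper5.OmSyl
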