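import Mathlib
import Cfsg.Agent.Lib.Helper5.OmSyl9
import Cfsg.Agent.Lib.Helper1.OmSyl_RESHAPE
import Cfsg.Agent.Lib.Helper2.OmSyl_SQ

set_option autoImplicit false

namespace Cfsg.Agent.Lib.Helper5.OmSyl

open Matrix Equiv Cfsg.Agent.Lib.Helper5.WrP Cfsg.Agent.Lib.Helper5.WrH
open Cfsg.Agent.Lib.Helper1.DiagForm Cfsg.Agent.Lib.Helper7.OrdTwoAdic
open scoped commutatorElement

variable {F : Type*} [Field F] [Fintype F]

theorem update_ne_zero {b : ℕ} (c₀ : F) (hc₀ : c₀ ≠ 0) (l : Fin (b + 1)) :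
    Function.update (fun _ : Fin (b + 1) => (1 : F)) 0 c₀ l ≠ 0 := by
  by_cases h : l = 0
  · subst h
    rw [Function.update_self]
    exact hc₀
  · rw [Function.update_of_ne h]
    exact one_ne_zero

/-- a diagonalised form with a remaining weight: `b + 1` further coordinates -/
theorem omega_of_diag_rest (hF : Odd (Fintype.card F)) {ι : Type} [Fintype ι] [DecidableEq ι]
    (Q : (ι → F) → F) (k b : ℕ) (hk : 2 ≤ k) (hι : Fintype.card ι = 2 * k + (b + 1))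
    (j₀ : ι) (c₀ : F) (hc₀ : c₀ ≠ 0)
    (e₁ : (ι → F) ≃ₗ[F] (ι → F))
    (he₁ : ∀ v, Q (e₁ v) = wss (Function.update (fun _ => (1 : F)) j₀ c₀) v)
    (hcard : padicValNat 2 (Nat.card (Cfsg.isometryGroup F Q)) =
      k * padicValNat 2 (Fintype.card F ^ 2 - 1) + padicValNat 2 k.factorial + (b + 1))
    (P : Sylow 2 (Cfsg.Omega F Q)) :
    ∀ x : (P : Subgroup (Cfsg.Omega F Q)), x ^ 2 ∈ commutator (P : Subgroup (Cfsg.Omega F Q)) := by
  obtain ⟨e₂, he₂⟩ := reshape_rest (F := F) k b hι j₀ c₀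
  refine omega_of_model hF Q k (b + 1) hk _ (update_ne_zero c₀ hc₀) (e₁.symm.trans e₂) ?_ hcard P
  intro v
  rw [LinearEquiv.trans_apply, he₂, ← he₁, LinearEquiv.apply_symm_apply]

/-- a diagonalised form whose last weight is a square -/
theorem omega_of_diag_sq (hF : Odd (Fintype.card F)) {ι : Type} [Fintype ι] [DecidableEq ι]
    (Q : (ι → F) → F) (k : ℕ) (hk : 2 ≤ k) (hι : Fintype.card ι = 2 * k)
    (j₀ : ι) (c₀ : F) (hc₀ : c₀ ≠ 0) (hsq : IsSquare c₀)
    (e₁ : (ι → F) ≃ₗ[F] (ι → F))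
    (he₁ : ∀ v, Q (e₁ v) = wss (Function.update (fun _ => (1 : F)) j₀ c₀) v)
    (hcard : padicValNat 2 (Nat.card (Cfsg.isometryGroup F Q)) =
      k * padicValNat 2 (Fintype.card F ^ 2 - 1) + padicValNat 2 k.factorial)
    (P : Sylow 2 (Cfsg.Omega F Q)) :
    ∀ x : (P : Subgroup (Cfsg.Omega F Q)), x ^ 2 ∈ commutator (P : Subgroup (Cfsg.Omega F Q)) := by
  obtain ⟨t, rfl⟩ := hsq
  have ht : t ≠ 0 := by
    rintro rfl
    exact hc₀ (mul_zero 0)
  obtain ⟨e₂, he₂⟩ := reshape_sq (F := F) k hι j₀ t ht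
  refine omega_of_model hF Q k 0 hk (fun _ => 1) (fun l => l.elim0) (e₁.symm.trans e₂) ?_
    (by rw [hcard, add_zero]) P
  intro v
  rw [LinearEquiv.trans_apply, he₂, ← he₁, LinearEquiv.apply_symm_apply]

theorem card_mod_four (hF : Odd (Fintype.card F)) :
    Fintype.card F % 4 = 1 ∨ Fintype.card F % 4 = 3 := by
  have := Nat.odd_iff.1 hF
  omega

theorem neg_one_pow_ne_zero (m : ℕ) : ((-1 : F) ^ m) ≠ 0 := pow_ne_zero _ (neg_ne_zero.2 one_ne_zero)

/-- S4629 -/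
theorem omega_odd (hF : Odd (Fintype.card F)) (m : ℕ) (hm : 3 ≤ m)
    (P : Sylow 2 (Cfsg.Omega F (Cfsg.quadFormOdd m F))) :
    ∀ x : (P : Subgroup (Cfsg.Omega F (Cfsg.quadFormOdd m F))),
      x ^ 2 ∈ commutator (P : Subgroup (Cfsg.Omega F (Cfsg.quadFormOdd m F))) := by
  have h2 : (2 : F) ≠ 0 := two_ne_zero_of_odd_card hF
  obtain ⟨e₁, he₁⟩ := odd_diag h2 m (Sum.inl ())
  refine omega_of_diag_rest hF _ m 0 (by omega) ?_ (Sum.inl ()) _ (neg_one_pow_ne_zero m) e₁ he₁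
    (val2_card_isometry_odd hF m) P
  simp
  omega

/-- S4630 -/
theorem omega_plus (hF : Odd (Fintype.card F)) (m : ℕ) (hm : 1 ≤ m) (hm' : Even m ∨ 4 ≤ m)
    (P : Sylow 2 (Cfsg.Omega F (Cfsg.quadFormPlus m F))) :
    ∀ x : (P : Subgroup (Cfsg.Omega F (Cfsg.quadFormPlus m F))),
      x ^ 2 ∈ commutator (P : Subgroup (Cfsg.Omega F (Cfsg.quadFormPlus m F))) := by
  have h2 : (2 : F) ≠ 0 := two_ne_zero_of_odd_card hF
  have hι : Fintype.card (Fin m ⊕ Fin m) = 2 * m := by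
    simp
    omega
  obtain ⟨e₁, he₁⟩ := plus_diag h2 m (Sum.inl ⟨0, hm⟩)
  by_cases hs : IsSquare ((-1 : F) ^ m)
  · have hcond := (isSquare_neg_one_pow_iff hF m).1 hs
    have hk : 2 ≤ m := by
      rcases hm' with h | h
      · obtain ⟨j, rfl⟩ := h
        omega
      · omega
    exact omega_of_diag_sq hF _ m hk hι _ _ (neg_one_pow_ne_zero m) hs e₁ he₁
      (val2_card_isometry_plus_full hF m hm hcond) P
  · have hcond : ¬ (Even m ∨ Fintype.card F % 4 = 1) := fun h =>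
      hs ((isSquare_neg_one_pow_iff hF m).2 h)
    rw [not_or, Nat.not_even_iff_odd] at hcond
    have h4 : Fintype.card F % 4 = 3 := by
      rcases card_mod_four hF with h | h
      · exact absurd h hcond.2
      · exact h
    have hm4 : 4 ≤ m := by
      rcases hm' with h | h
      · exact absurd hcond.1 (Nat.not_odd_iff_even.2 h)
      · exact h
    have hι' : Fintype.card (Fin m ⊕ Fin m) = 2 * (m - 1) + (1 + 1) := by
      rw [hι]
      omega
    exact omega_of_diag_rest hF _ (m - 1) 1 (by omega) hι' _ _ (neg_one_pow_ne_zero m) e₁ he₁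
      (val2_card_isometry_plus_defect m hcond.1 h4) P

/-- S4631 -/
theorem omega_minus (hF : Odd (Fintype.card F)) (m : ℕ) (hm : 4 ≤ m) (a b : F)
    (hab : ∀ z₁ z₂ : F, z₁ ^ 2 + a * z₁ * z₂ + b * z₂ ^ 2 = 0 → z₁ = 0 ∧ z₂ = 0)
    (P : Sylow 2 (Cfsg.Omega F (Cfsg.quadFormMinus (m - 1) F a b))) :
    ∀ x : (P : Subgroup (Cfsg.Omega F (Cfsg.quadFormMinus (m - 1) F a b))),
      x ^ 2 ∈ commutator (P : Subgroup (Cfsg.Omega F (Cfsg.quadFormMinus (m - 1) F a b))) := by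
  have h2 : (2 : F) ≠ 0 := two_ne_zero_of_odd_card hF
  have hd0 := disc_ne_zero_of_aniso h2 a b hab
  have hdn := not_isSquare_of_aniso h2 a b hab
  have hι : Fintype.card ((Fin (m - 1) ⊕ Fin (m - 1)) ⊕ Fin 2) = 2 * m := by
    simp
    omega
  obtain ⟨e₁, he₁⟩ := minus_diag h2 (m - 1) a b hd0 (Sum.inr 0)
  have hc₀ : (-1 : F) ^ (m - 1) * (b - a ^ 2 / 4) ≠ 0 := mul_ne_zero (neg_one_pow_ne_zero _) hd0
  by_cases hs : IsSquare ((-1 : F) ^ (m - 1) * (b - a ^ 2 / 4))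
  · have hcond := (isSquare_neg_one_pow_mul_iff hF (m - 1) _ hdn).1 hs
    have hmo : Odd m := by
      obtain ⟨j, hj⟩ := hcond.1
      exact ⟨j, by omega⟩
    exact omega_of_diag_sq hF _ m (by omega) hι _ _ hc₀ hs e₁ he₁
      (val2_card_isometry_minus_full m hmo hcond.2 a b hab) P
  · have hcond : ¬ (Even (m - 1) ∧ Fintype.card F % 4 = 3) := fun h =>
      hs ((isSquare_neg_one_pow_mul_iff hF (m - 1) _ hdn).2 h)
    have hcond' : Even m ∨ Fintype.card F % 4 = 1 := by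
      rcases card_mod_four hF with h | h
      · exact Or.inr h
      · left
        by_contra hne
        rw [Nat.not_even_iff_odd] at hne
        apply hcond
        refine ⟨?_, h⟩
        obtain ⟨j, hj⟩ := hne
        exact ⟨j, by omega⟩
    have hι' : Fintype.card ((Fin (m - 1) ⊕ Fin (m - 1)) ⊕ Fin 2) = 2 * (m - 1) + (1 + 1) := by
      rw [hι]
      omega
    exact omega_of_diag_rest hF _ (m - 1) 1 (by omega) hι' _ _ hc₀ e₁ he₁
      (val2_card_isometry_minus_defect hF m (by omega) hcond' a b hab) P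

end Cfsg.Agent.Lib.Helper5.OmSyl
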