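import Mathlib
import Cfsg.Agent.Lib.Helper5.OmegaCrit

set_option autoImplicit false

namespace Cfsg.Agent.Lib.Helper5.OrthSum

open Cfsg.Agent.Lib.Helper2 Cfsg.Agent.Lib.Helper2.CDG Cfsg.Agent.Lib.Helper2.ReflGen Matrix

variable {F : Type*} [Field F] {ι₁ ι₂ : Type} [Fintype ι₁] [DecidableEq ι₁] [Fintype ι₂]
  [DecidableEq ι₂]

/-- the orthogonal sum of two quadratic forms -/
noncomputable def osum (Q₁ : QuadraticForm F (ι₁ → F)) (Q₂ : QuadraticForm F (ι₂ → F)) :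
    QuadraticForm F (ι₁ ⊕ ι₂ → F) :=
  Q₁.comp (LinearMap.funLeft F F Sum.inl) + Q₂.comp (LinearMap.funLeft F F Sum.inr)

variable (Q₁ : QuadraticForm F (ι₁ → F)) (Q₂ : QuadraticForm F (ι₂ → F))

theorem osum_apply (v : ι₁ ⊕ ι₂ → F) : osum Q₁ Q₂ v = Q₁ (v ∘ Sum.inl) + Q₂ (v ∘ Sum.inr) := rfl

theorem osum_coe : ⇑(osum Q₁ Q₂) = fun v : ι₁ ⊕ ι₂ → F => Q₁ (v ∘ Sum.inl) + Q₂ (v ∘ Sum.inr) :=
  rfl

theorem polar_osum (u v : ι₁ ⊕ ι₂ → F) :
    QuadraticMap.polar (⇑(osum Q₁ Q₂)) u v =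
      QuadraticMap.polar (⇑Q₁) (u ∘ Sum.inl) (v ∘ Sum.inl) +
      QuadraticMap.polar (⇑Q₂) (u ∘ Sum.inr) (v ∘ Sum.inr) := by
  unfold QuadraticMap.polar
  rw [osum_apply, osum_apply, osum_apply]
  have h1 : (u + v) ∘ Sum.inl = u ∘ (Sum.inl : ι₁ → ι₁ ⊕ ι₂) + v ∘ Sum.inl := rfl
  have h3 : (u + v) ∘ Sum.inr = u ∘ (Sum.inr : ι₂ → ι₁ ⊕ ι₂) + v ∘ Sum.inr := rfl
  rw [h1, h3]
  ring

theorem osum_elim (x : ι₁ → F) (y : ι₂ → F) : osum Q₁ Q₂ (Sum.elim x y) = Q₁ x + Q₂ y := by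
  rw [osum_apply, Sum.elim_comp_inl, Sum.elim_comp_inr]

theorem osum_nondeg (h₁ : (QuadraticMap.polarBilin Q₁).Nondegenerate)
    (h₂ : (QuadraticMap.polarBilin Q₂).Nondegenerate) :
    (QuadraticMap.polarBilin (osum Q₁ Q₂)).Nondegenerate := by
  have hleft : ∀ u : ι₁ ⊕ ι₂ → F,
      (∀ v, QuadraticMap.polar (⇑(osum Q₁ Q₂)) u v = 0) → u = 0 := by
    intro u hu
    have h1 : u ∘ Sum.inl = 0 := by
      apply h₁.1
      intro x
      have := hu (Sum.elim x 0)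
      rw [polar_osum, Sum.elim_comp_inl, Sum.elim_comp_inr, QuadraticMap.polar_zero_right,
        add_zero] at this
      exact this
    have h3 : u ∘ Sum.inr = 0 := by
      apply h₂.1
      intro y
      have := hu (Sum.elim 0 y)
      rw [polar_osum, Sum.elim_comp_inl, Sum.elim_comp_inr, QuadraticMap.polar_zero_right,
        zero_add] at this
      exact this
    funext j
    rcases j with j | j
    · exact congrFun h1 j
    · exact congrFun h3 j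
  constructor
  · intro u hu
    exact hleft u hu
  · intro v hv
    apply hleft v
    intro u
    rw [QuadraticMap.polar_comm]
    exact hv u

/-- block embedding of matrices on the left -/
def blkL : Matrix ι₁ ι₁ F →* Matrix (ι₁ ⊕ ι₂) (ι₁ ⊕ ι₂) F where
  toFun A := Matrix.fromBlocks A 0 0 1
  map_one' := Matrix.fromBlocks_one
  map_mul' A B := by
    rw [Matrix.fromBlocks_multiply]
    simp

/-- block embedding of matrices on the right -/
def blkR : Matrix ι₂ ι₂ F →* Matrix (ι₁ ⊕ ι₂) (ι₁ ⊕ ι₂) F where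
  toFun A := Matrix.fromBlocks 1 0 0 A
  map_one' := Matrix.fromBlocks_one
  map_mul' A B := by
    rw [Matrix.fromBlocks_multiply]
    simp

theorem blkL_mulVec (A : Matrix ι₁ ι₁ F) (w : ι₁ ⊕ ι₂ → F) :
    (blkL (ι₂ := ι₂) A) *ᵥ w = Sum.elim (A *ᵥ (w ∘ Sum.inl)) (w ∘ Sum.inr) := by
  show Matrix.fromBlocks A 0 0 1 *ᵥ w = _
  conv_lhs => rw [← Sum.elim_comp_inl_inr w]
  rw [Matrix.fromBlocks_mulVec]
  simp

theorem blkR_mulVec (A : Matrix ι₂ ι₂ F) (w : ι₁ ⊕ ι₂ → F) :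
    (blkR (ι₁ := ι₁) A) *ᵥ w = Sum.elim (w ∘ Sum.inl) (A *ᵥ (w ∘ Sum.inr)) := by
  show Matrix.fromBlocks 1 0 0 A *ᵥ w = _
  conv_lhs => rw [← Sum.elim_comp_inl_inr w]
  rw [Matrix.fromBlocks_mulVec]
  simp

variable {Q₁ Q₂}

/-- the block embedding of the isometry group of the first summand -/
noncomputable def embL : ↥(Cfsg.isometryGroup F ⇑Q₁) →* ↥(Cfsg.isometryGroup F ⇑(osum Q₁ Q₂)) where
  toFun g := ⟨Units.map (blkL (ι₂ := ι₂)) g.1, fun u _ => by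
    show osum Q₁ Q₂ ((blkL (ι₂ := ι₂) ((g : Matrix.GeneralLinearGroup ι₁ F) : Matrix ι₁ ι₁ F)) *ᵥ u)
      = osum Q₁ Q₂ u
    rw [blkL_mulVec, osum_elim, osum_apply, iso_Q]⟩
  map_one' := by
    apply Subtype.ext
    show Units.map (blkL (ι₂ := ι₂)) ((1 : ↥(Cfsg.isometryGroup F ⇑Q₁)) : Matrix.GeneralLinearGroup ι₁ F) = 1
    rw [Subgroup.coe_one, map_one]
  map_mul' g h := by
    apply Subtype.ext
    show Units.map (blkL (ι₂ := ι₂)) ((g * h : ↥(Cfsg.isometryGroup F ⇑Q₁)) : Matrix.GeneralLinearGroup ι₁ F) =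
      Units.map (blkL (ι₂ := ι₂)) g.1 * Units.map (blkL (ι₂ := ι₂)) h.1
    rw [Subgroup.coe_mul, map_mul]

theorem embL_coe (g : ↥(Cfsg.isometryGroup F ⇑Q₁)) :
    ((embL (Q₂ := Q₂) g : Matrix.GeneralLinearGroup (ι₁ ⊕ ι₂) F) : Matrix (ι₁ ⊕ ι₂) (ι₁ ⊕ ι₂) F) =
      Matrix.fromBlocks ((g : Matrix.GeneralLinearGroup ι₁ F) : Matrix ι₁ ι₁ F) 0 0 1 := rfl

/-- the block embedding of the isometry group of the second summand -/
noncomputable def embR : ↥(Cfsg.isometryGroup F ⇑Q₂) →* ↥(Cfsg.isometryGroup F ⇑(osum Q₁ Q₂)) where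
  toFun g := ⟨Units.map (blkR (ι₁ := ι₁)) g.1, fun u _ => by
    show osum Q₁ Q₂ ((blkR (ι₁ := ι₁) ((g : Matrix.GeneralLinearGroup ι₂ F) : Matrix ι₂ ι₂ F)) *ᵥ u)
      = osum Q₁ Q₂ u
    rw [blkR_mulVec, osum_elim, osum_apply, iso_Q]⟩
  map_one' := by
    apply Subtype.ext
    show Units.map (blkR (ι₁ := ι₁)) ((1 : ↥(Cfsg.isometryGroup F ⇑Q₂)) : Matrix.GeneralLinearGroup ι₂ F) = 1
    rw [Subgroup.coe_one, map_one]
  map_mul' g h := by
    apply Subtype.ext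
    show Units.map (blkR (ι₁ := ι₁)) ((g * h : ↥(Cfsg.isometryGroup F ⇑Q₂)) : Matrix.GeneralLinearGroup ι₂ F) =
      Units.map (blkR (ι₁ := ι₁)) g.1 * Units.map (blkR (ι₁ := ι₁)) h.1
    rw [Subgroup.coe_mul, map_mul]

theorem embR_coe (g : ↥(Cfsg.isometryGroup F ⇑Q₂)) :
    ((embR (Q₁ := Q₁) g : Matrix.GeneralLinearGroup (ι₁ ⊕ ι₂) F) : Matrix (ι₁ ⊕ ι₂) (ι₁ ⊕ ι₂) F) =
      Matrix.fromBlocks 1 0 0 ((g : Matrix.GeneralLinearGroup ι₂ F) : Matrix ι₂ ι₂ F) := rfl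

/-- homomorphisms map `Ω` into `Ω` -/
theorem map_mem_commutator {G H : Type*} [Group G] [Group H] (f : G →* H) {g : G}
    (hg : g ∈ commutator G) : f g ∈ commutator H := by
  have := Abelianization.commutator_subset_ker ((Abelianization.of (G := H)).comp f) hg
  rw [MonoidHom.mem_ker, MonoidHom.comp_apply] at this
  rw [← Abelianization.ker_of]
  exact this

/-- the reflection in a vector of the first summand -/
theorem reflectionMatrix_inl (x : ι₁ → F) :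
    Cfsg.reflectionMatrix ⇑(osum Q₁ Q₂) (Sum.elim x 0) =
      Matrix.fromBlocks (Cfsg.reflectionMatrix ⇑Q₁ x) 0 0 1 := by
  apply Matrix.mulVec_injective
  funext w
  have h1 := blkL_mulVec (ι₂ := ι₂) (Cfsg.reflectionMatrix ⇑Q₁ x) w
  have h3 : (blkL (ι₂ := ι₂) (Cfsg.reflectionMatrix ⇑Q₁ x)) =
    Matrix.fromBlocks (Cfsg.reflectionMatrix ⇑Q₁ x) 0 0 1 := rfl
  rw [← h3, h1, reflectionMatrix_mulVec, reflectionMatrix_mulVec, osum_elim, polar_osum,
    Sum.elim_comp_inl, Sum.elim_comp_inr, QuadraticMap.map_zero, add_zero,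
    QuadraticMap.polar_zero_left, add_zero]
  funext j
  rcases j with j | j
  · simp
  · simp

theorem reflectionMatrix_inr (y : ι₂ → F) :
    Cfsg.reflectionMatrix ⇑(osum Q₁ Q₂) (Sum.elim 0 y) =
      Matrix.fromBlocks 1 0 0 (Cfsg.reflectionMatrix ⇑Q₂ y) := by
  apply Matrix.mulVec_injective
  funext w
  have h1 := blkR_mulVec (ι₁ := ι₁) (Cfsg.reflectionMatrix ⇑Q₂ y) w
  have h3 : (blkR (ι₁ := ι₁) (Cfsg.reflectionMatrix ⇑Q₂ y)) =
    Matrix.fromBlocks 1 0 0 (Cfsg.reflectionMatrix ⇑Q₂ y) := rfl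
  rw [← h3, h1, reflectionMatrix_mulVec, reflectionMatrix_mulVec, osum_elim, polar_osum,
    Sum.elim_comp_inl, Sum.elim_comp_inr, QuadraticMap.map_zero, zero_add,
    QuadraticMap.polar_zero_left, zero_add]
  funext j
  rcases j with j | j
  · simp
  · simp

/-- products of reflections of the first summand -/
theorem prod_inl (vs : List (ι₁ → F)) :
    ((vs.map (fun x => (Sum.elim x 0 : ι₁ ⊕ ι₂ → F))).map
      (fun v => Cfsg.reflectionMatrix ⇑(osum Q₁ Q₂) v)).prod =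
      Matrix.fromBlocks (vs.map (fun v => Cfsg.reflectionMatrix ⇑Q₁ v)).prod 0 0 1 := by
  induction vs with
  | nil => simp [Matrix.fromBlocks_one]
  | cons v vs ih =>
    rw [List.map_cons, List.map_cons, List.prod_cons, ih, reflectionMatrix_inl, List.map_cons,
      List.prod_cons, Matrix.fromBlocks_multiply]
    simp

theorem prod_inl_Q (vs : List (ι₁ → F)) :
    ((vs.map (fun x => (Sum.elim x 0 : ι₁ ⊕ ι₂ → F))).map (fun v => osum Q₁ Q₂ v)).prod =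
      (vs.map (fun v => Q₁ v)).prod := by
  rw [List.map_map]
  congr 1
  apply List.map_congr_left
  intro x _
  show osum Q₁ Q₂ (Sum.elim x 0) = Q₁ x
  rw [osum_elim, QuadraticMap.map_zero, add_zero]

end Cfsg.Agent.Lib.Helper5.OrthSum
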