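import Mathlib
import Cfsg.Agent.Lib.Lead.Frattini

/-!
S4587 swarm, package P1 (L1): a finite `p`-group with an element whose centralizer has
order `p²` has abelianization of order `p²`.

Route: the conjugacy class of `x` lies in `x P'`, so `|P| ≤ |C_P(x)| |P'|`;
and a `p`-group with `|P : P'| ≤ p` is cyclic (Frattini), hence abelian.
-/

set_option autoImplicit false

namespace Cfsg.Agent.Lib.Helper2.PAb

open scoped commutatorElement

namespace L1

open Subgroup

variable {G : Type*} [Group G]

/-- `|P| ≤ |C_P(x)| · |P'|` for `x ∈ P`. -/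
theorem card_le_centralizer_mul_commutator [Finite G] (P : Subgroup G) (x : G) (hx : x ∈ P) :
    Nat.card P ≤ Nat.card ↥(P ⊓ centralizer ({x} : Set G)) * Nat.card ↥⁅P, P⁆ := by
  classical
  set C' : Subgroup P := (centralizer ({x} : Set G)).subgroupOf P with hC'
  let φ : P → ↥⁅P, P⁆ := fun g => ⟨⁅(g : G), x⁆, Subgroup.commutator_mem_commutator g.2 hx⟩
  have hφ : ∀ a b : P, a⁻¹ * b ∈ C' → φ a = φ b := by
    intro a b hab
    rw [hC', Subgroup.mem_subgroupOf, Subgroup.mem_centralizer_iff] at hab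
    have h := hab x (Set.mem_singleton x)
    apply Subtype.ext
    show ⁅(a : G), x⁆ = ⁅(b : G), x⁆
    simp only [commutatorElement_def]
    have h' : x * ((a : G)⁻¹ * (b : G)) = (a : G)⁻¹ * (b : G) * x := by
      simpa using h
    have h2 : (a : G) * x * (a : G)⁻¹ = (b : G) * x * (b : G)⁻¹ := by
      have : (b : G) = (a : G) * ((a : G)⁻¹ * (b : G)) := by group
      rw [this]
      have e : (a : G) * ((a : G)⁻¹ * (b : G)) * x * ((a : G) * ((a : G)⁻¹ * (b : G)))⁻¹
          = (a : G) * (((a : G)⁻¹ * (b : G)) * x) * ((a : G)⁻¹ * (b : G))⁻¹ * (a : G)⁻¹ := by group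
      rw [e, ← h']
      group
    rw [h2]
  let f : P ⧸ C' → ↥⁅P, P⁆ := Quotient.lift φ (by
    intro a b hab
    exact hφ a b (QuotientGroup.leftRel_apply.mp hab))
  have hf : Function.Injective f := by
    intro a' b'
    refine Quotient.inductionOn₂ a' b' ?_
    intro a b hab
    have hab' : φ a = φ b := hab
    apply Quotient.sound
    apply QuotientGroup.leftRel_apply.mpr
    rw [hC', Subgroup.mem_subgroupOf, Subgroup.mem_centralizer_iff]
    intro y hy
    rw [Set.mem_singleton_iff] at hy
    have h1 : ⁅(a : G), y⁆ = ⁅(b : G), y⁆ := by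
      rw [hy]; exact congrArg Subtype.val hab'
    simp only [commutatorElement_def] at h1
    have h2 : (a : G) * y * (a : G)⁻¹ = (b : G) * y * (b : G)⁻¹ := by
      have := congrArg (· * y) h1
      simpa [mul_assoc] using this
    have h3 : y = (a : G)⁻¹ * (b : G) * y * ((b : G)⁻¹ * (a : G)) := by
      have := congrArg (fun z => (a : G)⁻¹ * z * (a : G)) h2
      calc y = (a : G)⁻¹ * ((a : G) * y * (a : G)⁻¹) * (a : G) := by group
        _ = (a : G)⁻¹ * ((b : G) * y * (b : G)⁻¹) * (a : G) := this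
        _ = _ := by group
    show y * ((a⁻¹ * b : P) : G) = ((a⁻¹ * b : P) : G) * y
    push_cast
    calc y * ((a : G)⁻¹ * (b : G))
        = ((a : G)⁻¹ * (b : G) * y * ((b : G)⁻¹ * (a : G))) * ((a : G)⁻¹ * (b : G)) := by rw [← h3]
      _ = (a : G)⁻¹ * (b : G) * y := by group
  have h1 : Nat.card (P ⧸ C') ≤ Nat.card ↥⁅P, P⁆ := Nat.card_le_card_of_injective f hf
  have h2 : Nat.card P = Nat.card (P ⧸ C') * Nat.card C' :=
    Subgroup.card_eq_card_quotient_mul_card_subgroup C'
  have h3 : Nat.card C' = Nat.card ↥(P ⊓ centralizer ({x} : Set G)) := by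
    have e1 : C' = (P ⊓ centralizer ({x} : Set G)).subgroupOf P := by
      rw [hC', inf_comm, Subgroup.inf_subgroupOf_right]
    rw [e1]
    exact Nat.card_congr (Subgroup.subgroupOfEquivOfLe inf_le_left).toEquiv
  rw [h2, h3, mul_comm]
  exact Nat.mul_le_mul_left _ h1

/-- A finite `p`-group whose abelianization has order at most `p` is abelian. -/
theorem commutator_eq_bot_of_index_le {H : Type*} [Group H] [Finite H] {p : ℕ} [Fact p.Prime]
    (hH : IsPGroup p H) (h : (commutator H).index ≤ p) : commutator H = ⊥ := by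
  classical
  have hp : p.Prime := Fact.out
  -- the quotient is cyclic
  have hcyc : IsCyclic (H ⧸ commutator H) := by
    have hcard : Nat.card (H ⧸ commutator H) = (commutator H).index := rfl
    obtain ⟨k, hk⟩ := (hH.to_quotient (commutator H)).exists_card_eq
    rw [hcard] at hk
    have hk1 : k ≤ 1 := by
      by_contra hcon
      push_neg at hcon
      have : p ^ 2 ≤ p ^ k := Nat.pow_le_pow_right hp.pos hcon
      have hp2 : p < p ^ 2 := by
        have := hp.one_lt
        nlinarith
      omega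
    interval_cases k
    · have : Nat.card (H ⧸ commutator H) = 1 := by rw [hcard, hk, pow_zero]
      haveI : Subsingleton (H ⧸ commutator H) := (Nat.card_eq_one_iff_unique.mp this).1
      infer_instance
    · have : Nat.card (H ⧸ commutator H) = p := by rw [hcard, hk, pow_one]
      exact isCyclic_of_prime_card this
  obtain ⟨g, hg⟩ := hcyc.exists_generator
  obtain ⟨g0, rfl⟩ := QuotientGroup.mk_surjective g
  -- zpowers g0 ⊔ commutator = ⊤
  have hsup : Subgroup.zpowers g0 ⊔ commutator H = ⊤ := by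
    rw [eq_top_iff]
    intro y _
    obtain ⟨n, hn⟩ := Subgroup.mem_zpowers_iff.mp (hg (y : H ⧸ commutator H))
    have h1 : ((g0 ^ n : H) : H ⧸ commutator H) = (y : H ⧸ commutator H) := by
      simpa using hn
    have h2 : (g0 ^ n)⁻¹ * y ∈ commutator H := QuotientGroup.eq.mp h1
    have : y = g0 ^ n * ((g0 ^ n)⁻¹ * y) := by group
    rw [this]
    exact Subgroup.mul_mem_sup (Subgroup.zpow_mem_zpowers g0 n) h2
  have hsup' : Subgroup.zpowers g0 ⊔ frattini H = ⊤ := by
    rw [eq_top_iff, ← hsup]
    exact sup_le_sup_left (Cfsg.Agent.Lib.Lead.commutator_le_frattini_of_isPGroup hH) _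
  have htop : Subgroup.zpowers g0 = ⊤ := frattini_nongenerating hsup'
  -- H is commutative
  have hcomm : ∀ a b : H, a * b = b * a := by
    intro a b
    have ha : a ∈ Subgroup.zpowers g0 := by rw [htop]; trivial
    have hb : b ∈ Subgroup.zpowers g0 := by rw [htop]; trivial
    obtain ⟨m, rfl⟩ := Subgroup.mem_zpowers_iff.mp ha
    obtain ⟨n, rfl⟩ := Subgroup.mem_zpowers_iff.mp hb
    rw [← zpow_add, ← zpow_add, add_comm]
  rw [commutator_def, Subgroup.commutator_eq_bot_iff_le_centralizer]
  intro a _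
  rw [Subgroup.mem_centralizer_iff]
  intro b _
  exact hcomm b a

end L1

open Subgroup in
/-- **P1 (L1)**: a finite `p`-group with an element whose centralizer has order `p²`
has abelianization of order `p²`. -/
theorem relIndex_commutator_of_card_centralizer {G : Type*} [Group G] [Finite G] {p : ℕ}
    [Fact p.Prime] (P : Subgroup G)
    (hP : IsPGroup p P) (x : G) (hx : x ∈ P)
    (hc : Nat.card ↥(P ⊓ Subgroup.centralizer ({x} : Set G)) = p ^ 2) :
    (⁅P, P⁆).relIndex P = p ^ 2 := by
  classical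
  have hp : p.Prime := Fact.out
  have hle : ⁅P, P⁆ ≤ P := Subgroup.commutator_le.mpr
    (fun a ha b hb => P.mul_mem (P.mul_mem (P.mul_mem ha hb) (P.inv_mem ha)) (P.inv_mem hb))
  -- |P| = relIndex * |P'|
  have hmul : Nat.card ↥⁅P, P⁆ * (⁅P, P⁆).relIndex P = Nat.card P := by
    have h1 := Subgroup.card_mul_index ((⁅P, P⁆).subgroupOf P)
    have h2 : Nat.card ((⁅P, P⁆).subgroupOf P) = Nat.card ↥⁅P, P⁆ :=
      Nat.card_congr (Subgroup.subgroupOfEquivOfLe hle).toEquiv
    rw [h2] at h1
    exact h1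
  -- relIndex is a power of p
  obtain ⟨k, hk⟩ : ∃ k, (⁅P, P⁆).relIndex P = p ^ k := by
    have hdvd : (⁅P, P⁆).relIndex P ∣ Nat.card P := Subgroup.relIndex_dvd_card _ _
    obtain ⟨n, hn⟩ := hP.exists_card_eq
    rw [hn] at hdvd
    obtain ⟨k, _, hk⟩ := (Nat.dvd_prime_pow hp).mp hdvd
    exact ⟨k, hk⟩
  have hPpos : 0 < Nat.card P := Nat.card_pos
  have hP'pos : 0 < Nat.card ↥⁅P, P⁆ := Nat.card_pos
  -- upper bound
  have hub : k ≤ 2 := by
    have h1 := L1.card_le_centralizer_mul_commutator P x hx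
    rw [hc, ← hmul, hk] at h1
    have h2 : p ^ k ≤ p ^ 2 := by
      have h1' : Nat.card ↥⁅P, P⁆ * p ^ k ≤ Nat.card ↥⁅P, P⁆ * p ^ 2 := by
        rw [mul_comm _ (p ^ 2)]; exact h1
      exact Nat.le_of_mul_le_mul_left h1' hP'pos
    exact (Nat.pow_le_pow_iff_right hp.one_lt).mp h2
  -- lower bound
  have hlb : 2 ≤ k := by
    by_contra hcon
    push_neg at hcon
    have hk1 : k ≤ 1 := by omega
    have hidx : (commutator P).index ≤ p := by
      have e : (commutator P).map P.subtype = ⁅P, P⁆ := by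
        rw [_root_.commutator_def, Subgroup.map_commutator, ← MonoidHom.range_eq_map,
          Subgroup.range_subtype]
      have e2 : (commutator P) = (⁅P, P⁆).subgroupOf P := by
        rw [← e, Subgroup.subgroupOf, Subgroup.comap_map_eq_self_of_injective P.subtype_injective]
      rw [e2]
      show (⁅P, P⁆).relIndex P ≤ p
      rw [hk]
      calc p ^ k ≤ p ^ 1 := Nat.pow_le_pow_right hp.pos hk1
        _ = p := pow_one p
    have hbot := L1.commutator_eq_bot_of_index_le hP hidx
    have hbot' : ⁅P, P⁆ = ⊥ := by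
      have e : (commutator P).map P.subtype = ⁅P, P⁆ := by
        rw [_root_.commutator_def, Subgroup.map_commutator, ← MonoidHom.range_eq_map,
          Subgroup.range_subtype]
      rw [← e, hbot, Subgroup.map_bot]
    have hcard1 : Nat.card ↥⁅P, P⁆ = 1 := by rw [hbot']; exact Subgroup.card_bot
    rw [hcard1, one_mul, hk] at hmul
    have hle2 : Nat.card ↥(P ⊓ Subgroup.centralizer ({x} : Set G)) ≤ Nat.card P :=
      Subgroup.card_le_of_le inf_le_left
    rw [hc, ← hmul] at hle2
    have : p ^ k ≤ p ^ 1 := Nat.pow_le_pow_right hp.pos hk1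
    have hp2 : p ^ 1 < p ^ 2 := Nat.pow_lt_pow_right hp.one_lt (by norm_num)
    omega
  rw [hk, le_antisymm hub hlb]

end Cfsg.Agent.Lib.Helper2.PAb
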