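import Mathlib
import Cfsg.Agent.Lib.Helper5.PAb_L1

/-!
S4587 swarm, package P3 (L2): `|P : P'| = p²`, `A ⊴ P` abelian of index `p`,
`x ∈ P \ A` ⟹ `|C_P(x)| = p²`.

Route: `a ↦ ⁅a, x⁆` is a homomorphism `A → P` whose image `B` is normal in `P = A⟨x⟩`
with `P/B` abelian, so `P' ≤ B` and `|C_A(x)| = |A|/|B| ≤ |A|/|P'| = p`; then
`|C_P(x)| ≤ p |C_A(x)| ≤ p²`.  The lower bound is the class inequality of `PAb_L1`.
-/

set_option autoImplicit false

namespace Cfsg.Agent.Lib.Helper2.PAb

open scoped commutatorElement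

namespace L2

open Subgroup

variable {H : Type*} [Group H]

/-- A subgroup of prime index together with any element outside it generates the group. -/
theorem sup_zpowers_eq_top (A : Subgroup H) {p : ℕ} [Fact p.Prime] (hind : A.index = p) (x : H)
    (hxA : x ∉ A) : A ⊔ Subgroup.zpowers x = ⊤ := by
  have hp : p.Prime := Fact.out
  have hAK : A ≤ A ⊔ Subgroup.zpowers x := le_sup_left
  have h := Subgroup.relIndex_mul_index hAK
  rw [hind] at h
  have hdvd : (A ⊔ Subgroup.zpowers x).index ∣ p := Dvd.intro_left _ h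
  rcases (Nat.dvd_prime hp).mp hdvd with h1 | h1
  · exact Subgroup.index_eq_one.mp h1
  · exfalso
    rw [h1] at h
    have h2 : A.relIndex (A ⊔ Subgroup.zpowers x) = 1 := by
      have hpos := hp.pos
      have : A.relIndex (A ⊔ Subgroup.zpowers x) * p = 1 * p := by rw [h, one_mul]
      exact Nat.eq_of_mul_eq_mul_right hpos this
    have hle : A ⊔ Subgroup.zpowers x ≤ A := Subgroup.relIndex_eq_one.mp h2
    exact hxA (hle (Subgroup.mem_sup_right (Subgroup.mem_zpowers x)))

/-- The commutator map `a ↦ ⁅a, x⁆` on an abelian normal subgroup, as a homomorphism. -/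
noncomputable def commHom (A : Subgroup H) [hA : A.Normal] (hab : ∀ a ∈ A, ∀ b ∈ A, a * b = b * a)
    (x : H) : A →* H :=
  MonoidHom.mk' (fun a => ⁅(a : H), x⁆) (by
    intro a b
    have hu : x * (a : H)⁻¹ * x⁻¹ ∈ A := hA.conj_mem _ (A.inv_mem a.2) x
    have hv : x * (b : H)⁻¹ * x⁻¹ ∈ A := hA.conj_mem _ (A.inv_mem b.2) x
    have hbv : (b : H) * (x * (b : H)⁻¹ * x⁻¹) ∈ A := A.mul_mem b.2 hv
    have hc := hab _ hbv _ hu
    show ⁅((a * b : A) : H), x⁆ = ⁅(a : H), x⁆ * ⁅(b : H), x⁆
    simp only [commutatorElement_def, Subgroup.coe_mul]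
    calc (a : H) * (b : H) * x * ((a : H) * (b : H))⁻¹ * x⁻¹
        = (a : H) * (((b : H) * (x * (b : H)⁻¹ * x⁻¹)) * (x * (a : H)⁻¹ * x⁻¹)) := by group
      _ = (a : H) * ((x * (a : H)⁻¹ * x⁻¹) * ((b : H) * (x * (b : H)⁻¹ * x⁻¹))) := by rw [hc]
      _ = (a : H) * x * (a : H)⁻¹ * x⁻¹ * ((b : H) * x * (b : H)⁻¹ * x⁻¹) := by group)

theorem commHom_apply (A : Subgroup H) [A.Normal] (hab : ∀ a ∈ A, ∀ b ∈ A, a * b = b * a)
    (x : H) (a : A) : commHom A hab x a = ⁅(a : H), x⁆ := rfl

theorem commHom_range_le (A : Subgroup H) [hA : A.Normal] (hab : ∀ a ∈ A, ∀ b ∈ A, a * b = b * a)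
    (x : H) : (commHom A hab x).range ≤ A := by
  rintro _ ⟨a, rfl⟩
  rw [commHom_apply, commutatorElement_def]
  have hu : x * (a : H)⁻¹ * x⁻¹ ∈ A := hA.conj_mem _ (A.inv_mem a.2) x
  have : (a : H) * x * (a : H)⁻¹ * x⁻¹ = (a : H) * (x * (a : H)⁻¹ * x⁻¹) := by group
  rw [this]
  exact A.mul_mem a.2 hu

/-- The image of the commutator map is normal in `A⟨x⟩ = H`. -/
theorem commHom_range_normal (A : Subgroup H) [hA : A.Normal]
    (hab : ∀ a ∈ A, ∀ b ∈ A, a * b = b * a) (x : H) (hsup : A ⊔ Subgroup.zpowers x = ⊤) :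
    (commHom A hab x).range.Normal := by
  set B := (commHom A hab x).range with hB
  have hBA : B ≤ A := commHom_range_le A hab x
  -- conjugation by x and by x⁻¹ preserve B
  have hx1 : ∀ b ∈ B, x * b * x⁻¹ ∈ B := by
    rintro _ ⟨a, rfl⟩
    refine ⟨⟨x * (a : H) * x⁻¹, hA.conj_mem _ a.2 x⟩, ?_⟩
    rw [commHom_apply, commHom_apply]
    simp only [commutatorElement_def]
    group
  have hx2 : ∀ b ∈ B, x⁻¹ * b * x ∈ B := by
    rintro _ ⟨a, rfl⟩
    have hmem : x⁻¹ * (a : H) * x ∈ A := by
      have := hA.conj_mem _ a.2 x⁻¹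
      simpa using this
    refine ⟨⟨x⁻¹ * (a : H) * x, hmem⟩, ?_⟩
    rw [commHom_apply, commHom_apply]
    simp only [commutatorElement_def]
    group
  have hxN : x ∈ Subgroup.normalizer (B : Set H) := by
    rw [Subgroup.mem_normalizer_iff]
    intro b
    constructor
    · exact hx1 b
    · intro h
      have := hx2 _ h
      have e : x⁻¹ * (x * b * x⁻¹) * x = b := by group
      rwa [e] at this
  have hAN : A ≤ Subgroup.normalizer (B : Set H) := by
    intro a' ha'
    rw [Subgroup.mem_normalizer_iff]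
    intro b
    constructor
    · intro hb
      have : a' * b * a'⁻¹ = b := by
        rw [hab a' ha' b (hBA hb)]
        group
      rwa [this]
    · intro h
      have hbA : b ∈ A := by
        have h1 : a' * b * a'⁻¹ ∈ A := hBA h
        have h2 := A.mul_mem (A.mul_mem (A.inv_mem ha') h1) ha'
        have e : a'⁻¹ * (a' * b * a'⁻¹) * a' = b := by group
        rwa [e] at h2
      have : a' * b * a'⁻¹ = b := by
        rw [hab a' ha' b hbA]
        group
      rwa [this] at h
  have htop : Subgroup.normalizer (B : Set H) = ⊤ := by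
    rw [eq_top_iff, ← hsup]
    refine sup_le hAN ?_
    rw [Subgroup.zpowers_le]
    exact hxN
  exact Subgroup.normalizer_eq_top_iff.mp htop

/-- `H' ≤ B`. -/
theorem commutator_le_commHom_range (A : Subgroup H) [hA : A.Normal]
    (hab : ∀ a ∈ A, ∀ b ∈ A, a * b = b * a) (x : H) (hsup : A ⊔ Subgroup.zpowers x = ⊤) :
    commutator H ≤ (commHom A hab x).range := by
  haveI hBn : (commHom A hab x).range.Normal := commHom_range_normal A hab x hsup
  set B := (commHom A hab x).range with hB
  rw [← Subgroup.Normal.quotient_commutative_iff_commutator_le]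
  set π : H →* H ⧸ B := QuotientGroup.mk' B with hπ
  -- images of `A` commute with the image of `x`
  have hstar : ∀ a ∈ A, π a * π x = π x * π a := by
    intro a ha
    rw [← commutatorElement_eq_one_iff_mul_comm, ← map_commutatorElement, hπ,
      QuotientGroup.mk'_apply, QuotientGroup.eq_one_iff]
    exact ⟨⟨a, ha⟩, rfl⟩
  have htop : ∀ K : Subgroup H, A ≤ K → x ∈ K → K = ⊤ := by
    intro K hAK hxK
    rw [eq_top_iff, ← hsup]
    exact sup_le hAK ((Subgroup.zpowers_le).mpr hxK)
  -- π x is central
  have hxc : ∀ g : H, π g * π x = π x * π g := by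
    have h1 : (Subgroup.centralizer ({π x} : Set (H ⧸ B))).comap π = ⊤ := by
      apply htop
      · intro a ha
        rw [Subgroup.mem_comap, Subgroup.mem_centralizer_iff]
        intro y hy
        rw [Set.mem_singleton_iff] at hy
        rw [hy]
        exact (hstar a ha).symm
      · rw [Subgroup.mem_comap, Subgroup.mem_centralizer_iff]
        intro y hy
        rw [Set.mem_singleton_iff] at hy
        rw [hy]
    intro g
    have hg : g ∈ (Subgroup.centralizer ({π x} : Set (H ⧸ B))).comap π := by rw [h1]; trivial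
    rw [Subgroup.mem_comap, Subgroup.mem_centralizer_iff] at hg
    exact (hg (π x) (Set.mem_singleton _)).symm
  -- π a is central for a ∈ A
  have hac : ∀ a ∈ A, ∀ g : H, π g * π a = π a * π g := by
    intro a ha
    have h1 : (Subgroup.centralizer ({π a} : Set (H ⧸ B))).comap π = ⊤ := by
      apply htop
      · intro a' ha'
        rw [Subgroup.mem_comap, Subgroup.mem_centralizer_iff]
        intro y hy
        rw [Set.mem_singleton_iff] at hy
        rw [hy, ← map_mul, ← map_mul, hab a ha a' ha']
      · rw [Subgroup.mem_comap, Subgroup.mem_centralizer_iff]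
        intro y hy
        rw [Set.mem_singleton_iff] at hy
        rw [hy]
        exact hstar a ha
    intro g
    have hg : g ∈ (Subgroup.centralizer ({π a} : Set (H ⧸ B))).comap π := by rw [h1]; trivial
    rw [Subgroup.mem_comap, Subgroup.mem_centralizer_iff] at hg
    exact (hg (π a) (Set.mem_singleton _)).symm
  -- everything is central
  have hall : ∀ g h : H, π g * π h = π h * π g := by
    intro g
    have h1 : (Subgroup.centralizer ({π g} : Set (H ⧸ B))).comap π = ⊤ := by
      apply htop
      · intro a ha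
        rw [Subgroup.mem_comap, Subgroup.mem_centralizer_iff]
        intro y hy
        rw [Set.mem_singleton_iff] at hy
        rw [hy]
        exact hac a ha g
      · rw [Subgroup.mem_comap, Subgroup.mem_centralizer_iff]
        intro y hy
        rw [Set.mem_singleton_iff] at hy
        rw [hy]
        exact hxc g
    intro h
    have hh : h ∈ (Subgroup.centralizer ({π g} : Set (H ⧸ B))).comap π := by rw [h1]; trivial
    rw [Subgroup.mem_comap, Subgroup.mem_centralizer_iff] at hh
    exact hh (π g) (Set.mem_singleton _)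
  refine ⟨⟨fun a b => ?_⟩⟩
  obtain ⟨g, rfl⟩ := QuotientGroup.mk'_surjective B a
  obtain ⟨h, rfl⟩ := QuotientGroup.mk'_surjective B b
  exact hall g h

/-- Intrinsic form of L2. -/
theorem card_centralizer_aux [Finite H] {p : ℕ} [Fact p.Prime]
    (hidx : (commutator H).index = p ^ 2)
    (A : Subgroup H) [hA : A.Normal] (hab : ∀ a ∈ A, ∀ b ∈ A, a * b = b * a) (hind : A.index = p)
    (x : H) (hxA : x ∉ A) : Nat.card (Subgroup.centralizer ({x} : Set H)) = p ^ 2 := by
  classical
  have hp : p.Prime := Fact.out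
  have hsup := sup_zpowers_eq_top A hind x hxA
  set C := Subgroup.centralizer ({x} : Set H) with hC
  have hH' : Nat.card (commutator H) * p ^ 2 = Nat.card H := by
    rw [← hidx]; exact Subgroup.card_mul_index _
  have hH'pos : 0 < Nat.card (commutator H) := Nat.card_pos
  -- lower bound
  have hlb : p ^ 2 ≤ Nat.card C := by
    have h1 := L1.card_le_centralizer_mul_commutator (⊤ : Subgroup H) x (Subgroup.mem_top x)
    rw [Subgroup.card_top, top_inf_eq, ← _root_.commutator_def, ← hH', mul_comm] at h1
    exact Nat.le_of_mul_le_mul_right h1 hH'pos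
  -- upper bound
  set ψ := commHom A hab x with hψ
  have hB : commutator H ≤ ψ.range := commutator_le_commHom_range A hab x hsup
  have hcardB : Nat.card (commutator H) ≤ Nat.card ψ.range := Subgroup.card_le_of_le hB
  have hker : Nat.card ψ.ker * Nat.card ψ.range = Nat.card A := by
    rw [← Subgroup.index_ker]; exact Subgroup.card_mul_index _
  have hAcard : Nat.card A * p = Nat.card H := by
    rw [← hind]; exact Subgroup.card_mul_index _
  have hkerle : Nat.card ψ.ker ≤ p := by
    have hBpos : 0 < Nat.card ψ.range := Nat.card_pos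
    have h1 : Nat.card ψ.ker * Nat.card ψ.range * p = Nat.card (commutator H) * p ^ 2 := by
      rw [hker, hAcard, hH']
    have h2 : Nat.card ψ.ker * Nat.card ψ.range * p ≤ Nat.card ψ.range * p ^ 2 := by
      rw [h1]; exact Nat.mul_le_mul_right _ hcardB
    have h3 : Nat.card ψ.range * p * Nat.card ψ.ker ≤ Nat.card ψ.range * p * p := by
      calc Nat.card ψ.range * p * Nat.card ψ.ker
          = Nat.card ψ.ker * Nat.card ψ.range * p := by ring
        _ ≤ Nat.card ψ.range * p ^ 2 := h2
        _ = Nat.card ψ.range * p * p := by ring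
    exact Nat.le_of_mul_le_mul_left h3 (Nat.mul_pos hBpos hp.pos)
  have hkerC : Nat.card ψ.ker = Nat.card ↥(A ⊓ C) := by
    have e1 : ψ.ker = (A ⊓ C).subgroupOf A := by
      ext a
      rw [MonoidHom.mem_ker, Subgroup.mem_subgroupOf, Subgroup.mem_inf, hψ, commHom_apply,
        commutatorElement_eq_one_iff_mul_comm, hC, Subgroup.mem_centralizer_iff]
      constructor
      · intro h
        refine ⟨a.2, ?_⟩
        intro y hy
        rw [Set.mem_singleton_iff] at hy
        rw [hy]; exact h.symm
      · intro h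
        exact (h.2 x (Set.mem_singleton x)).symm
    rw [e1]
    exact Nat.card_congr (Subgroup.subgroupOfEquivOfLe inf_le_left).toEquiv
  have hCcard : Nat.card ↥(A ⊓ C) * A.relIndex C = Nat.card C := by
    have h1 := Subgroup.card_mul_index (A.subgroupOf C)
    have h2 : Nat.card (A.subgroupOf C) = Nat.card ↥(A ⊓ C) := by
      rw [← Subgroup.inf_subgroupOf_right A C]
      exact Nat.card_congr (Subgroup.subgroupOfEquivOfLe inf_le_right).toEquiv
    rw [h2] at h1
    exact h1
  have hrel : A.relIndex C ≤ p := by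
    have hdvd : A.relIndex C ∣ A.index := Subgroup.relIndex_dvd_index_of_normal A C
    rw [hind] at hdvd
    exact Nat.le_of_dvd hp.pos hdvd
  have hub : Nat.card C ≤ p ^ 2 := by
    rw [← hCcard, ← hkerC, pow_two]
    exact Nat.mul_le_mul hkerle hrel
  exact le_antisymm hub hlb

end L2

/-- **P3 (L2)**: `|P : P'| = p²`, `A ⊴ P` abelian of index `p`, `x ∈ P \ A` ⟹ `|C_P(x)| = p²`. -/
theorem card_centralizer_of_abelian_index_p {G : Type*} [Group G] [Finite G] {p : ℕ}
    [Fact p.Prime] (P : Subgroup G)
    (hP : IsPGroup p P) (hidx : (⁅P, P⁆).relIndex P = p ^ 2) (A : Subgroup G) (hAP : A ≤ P)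
    (hnorm : P ≤ Subgroup.normalizer (A : Set G)) (hab : ∀ a ∈ A, ∀ b ∈ A, a * b = b * a)
    (hind : A.relIndex P = p)
    (x : G) (hx : x ∈ P) (hxA : x ∉ A) :
    Nat.card ↥(P ⊓ Subgroup.centralizer ({x} : Set G)) = p ^ 2 := by
  classical
  haveI hAn : (A.subgroupOf P).Normal := (Subgroup.normal_subgroupOf_iff_le_normalizer hAP).mpr hnorm
  have hidx' : (commutator P).index = p ^ 2 := by
    have e : (commutator P).map P.subtype = ⁅P, P⁆ := by
      rw [_root_.commutator_def, Subgroup.map_commutator, ← MonoidHom.range_eq_map,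
        Subgroup.range_subtype]
    have e2 : (commutator P) = (⁅P, P⁆).subgroupOf P := by
      rw [← e, Subgroup.subgroupOf, Subgroup.comap_map_eq_self_of_injective P.subtype_injective]
    rw [e2]
    exact hidx
  have hab' : ∀ a ∈ A.subgroupOf P, ∀ b ∈ A.subgroupOf P, a * b = b * a := by
    intro a ha b hb
    apply Subtype.ext
    rw [Subgroup.mem_subgroupOf] at ha hb
    exact hab _ ha _ hb
  have hxA' : (⟨x, hx⟩ : P) ∉ A.subgroupOf P := by
    rw [Subgroup.mem_subgroupOf]; exact hxA
  have h := L2.card_centralizer_aux (H := P) hidx' (A.subgroupOf P) hab' hind ⟨x, hx⟩ hxA'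
  rw [← h]
  have e3 : (Subgroup.centralizer ({(⟨x, hx⟩ : P)} : Set P)) =
      (P ⊓ Subgroup.centralizer ({x} : Set G)).subgroupOf P := by
    ext g
    rw [Subgroup.mem_subgroupOf, Subgroup.mem_inf, Subgroup.mem_centralizer_iff,
      Subgroup.mem_centralizer_iff]
    constructor
    · intro h1
      refine ⟨g.2, ?_⟩
      intro y hy
      rw [Set.mem_singleton_iff] at hy
      rw [hy]
      have := h1 ⟨x, hx⟩ (Set.mem_singleton _)
      exact congrArg Subtype.val this
    · intro h1 y hy
      rw [Set.mem_singleton_iff] at hy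
      rw [hy]
      apply Subtype.ext
      exact h1.2 x (Set.mem_singleton x)
  rw [e3]
  exact (Nat.card_congr (Subgroup.subgroupOfEquivOfLe inf_le_left).toEquiv).symm

end Cfsg.Agent.Lib.Helper2.PAb
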