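import Mathlib
import Cfsg.Agent.Lib.Helper5.SUConj2
import Cfsg.Agent.Lib.Helper5.SSOrderU2
import Cfsg.Agent.Lib.Helper5.SemisimpleExists
import Cfsg.Agent.S2388
import Cfsg.Agent.S2588

set_option autoImplicit false

namespace Cfsg.Agent.Lib.Helper5.SUConj

open Polynomial
open Cfsg.Agent.Lib.Helper5.Pal Cfsg.Agent.Lib.Helper5.SpReal Cfsg.Agent.S0278
  Cfsg.Agent.Lib.Helper5.Wall Cfsg.Agent.Lib.Helper5.SSOrder

universe u

variable {K : Type u} [Field K] [Fintype K] {q n : ℕ}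

/-- the fixed points of a semilinear involution form a "real form" -/
theorem card_fix_sq (hK : Fintype.card K = q ^ 2) {T : Type*} [AddCommGroup T] [Module K T]
    [Finite T] (τ : T → T) (hadd : ∀ x y, τ (x + y) = τ x + τ y)
    (hsmul : ∀ (c : K) x, τ (c • x) = (c ^ q) • τ x) (hinv : ∀ x, τ (τ x) = x) :
    Nat.card {x : T // τ x = x} ^ 2 = Nat.card T := by
  obtain ⟨θ, hθ⟩ := exists_pow_ne hK
  have hθ' : θ - θ ^ q ≠ 0 := fun h => hθ (sub_eq_zero.1 h).symm
  apply le_antisymm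
  · rw [sq, ← Nat.card_prod]
    apply Nat.card_le_card_of_injective
      (fun xy : {x : T // τ x = x} × {x : T // τ x = x} => (xy.1 : T) + θ • (xy.2 : T))
    rintro ⟨⟨x, hx⟩, ⟨y, hy⟩⟩ ⟨⟨x', hx'⟩, ⟨y', hy'⟩⟩ h
    simp only at h
    have h2 := congrArg τ h
    rw [hadd, hadd, hsmul, hsmul, hx, hy, hx', hy'] at h2
    have h3 : (θ - θ ^ q) • (y - y') = 0 := by
      have e1 : (θ - θ ^ q) • (y - y') = (x + θ • y) - (x + θ ^ q • y) - ((x' + θ • y') - (x' + θ ^ q • y')) := by
        rw [sub_smul, smul_sub, smul_sub]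
        abel
      rw [e1, h, h2, sub_self]
    have h4 : y = y' := by
      rcases smul_eq_zero.1 h3 with h5 | h5
      · exact absurd h5 hθ'
      · exact sub_eq_zero.1 h5
    subst h4
    have h5 : x = x' := add_right_cancel h
    subst h5
    rfl
  · rw [sq, ← Nat.card_prod]
    have hfix : ∀ d : T, τ (d + τ d) = d + τ d := by
      intro d
      rw [hadd, hinv, add_comm]
    apply Nat.card_le_card_of_injective
      (fun d : T => ((⟨d + τ d, hfix d⟩, ⟨θ • d + τ (θ • d), hfix _⟩) :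
        {x : T // τ x = x} × {x : T // τ x = x}))
    intro d d' h
    simp only [Prod.mk.injEq, Subtype.mk.injEq] at h
    obtain ⟨h1, h2⟩ := h
    rw [hsmul, hsmul] at h2
    have h3 : (θ - θ ^ q) • (d - d') = 0 := by
      have e1 : (θ - θ ^ q) • (d - d') =
          (θ • d + θ ^ q • τ d) - (θ • d' + θ ^ q • τ d') - θ ^ q • ((d + τ d) - (d' + τ d')) := by
        rw [sub_smul, smul_sub, smul_sub, smul_sub, smul_add, smul_add]
        abel
      rw [e1, h1, h2, sub_self, sub_self, smul_zero, sub_zero]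
    rcases smul_eq_zero.1 h3 with h5 | h5
    · exact absurd h5 hθ'
    · exact sub_eq_zero.1 h5

theorem card_fix (hK : Fintype.card K = q ^ 2) (m : ℕ) (τ : (Fin m → K) → (Fin m → K))
    (hadd : ∀ x y, τ (x + y) = τ x + τ y)
    (hsmul : ∀ (c : K) x, τ (c • x) = (c ^ q) • τ x) (hinv : ∀ x, τ (τ x) = x) :
    Nat.card {x : Fin m → K // τ x = x} = q ^ m := by
  have h1 := card_fix_sq hK τ hadd hsmul hinv
  rw [Nat.card_eq_fintype_card (α := Fin m → K), Fintype.card_fun, Fintype.card_fin, hK,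
    ← pow_mul, mul_comm, pow_mul] at h1
  exact Nat.pow_left_injective (n := 2) (by norm_num) h1

theorem coeff_dag (hK : Fintype.card K = q ^ 2) (f : K[X]) (i : ℕ) (hi : i ≤ f.natDegree) :
    (dag hK f).coeff i = ((f.coeff 0) ^ q)⁻¹ * (f.coeff (f.natDegree - i)) ^ q := by
  rw [dag, rc, coeff_C_mul, coeff_reverse, natDegree_map, revAt_le hi, coeff_map, coeff_map]
  rfl

theorem natDegree_dag_le (hK : Fintype.card K = q ^ 2) (f : K[X]) :
    (dag hK f).natDegree ≤ f.natDegree := by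
  rw [dag]
  refine (rc_natDegree_le _).trans ?_
  rw [natDegree_map]

theorem dag_eq_self_iff (hK : Fintype.card K = q ^ 2) (f : K[X]) (m : ℕ) (hf : f.Monic)
    (hdeg : f.natDegree = m + 1) (a₀ : K) (h0 : f.coeff 0 = a₀) (ha : a₀ ^ q = a₀)
    (ha2 : a₀ * a₀ = 1) :
    dag hK f = f ↔ ∀ j, j < m → f.coeff (j + 1) = a₀ * (f.coeff (m - j)) ^ q := by
  have hinv : (a₀ ^ q)⁻¹ = a₀ := by
    rw [ha]
    exact inv_eq_of_mul_eq_one_right ha2
  constructor
  · intro h j hj
    have h1 := coeff_dag hK f (j + 1) (by omega)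
    rw [h, h0, hinv, hdeg] at h1
    rw [h1]
    congr 3
    omega
  · intro h
    ext i
    by_cases hi : i ≤ m + 1
    · rw [coeff_dag hK f i (by omega), h0, hinv, hdeg]
      rcases Nat.eq_zero_or_pos i with hi0 | hi0
      · subst hi0
        have h1 : f.coeff (m + 1) = 1 := by rw [← hdeg]; exact hf.coeff_natDegree
        rw [Nat.sub_zero, h1, one_pow, mul_one, h0]
      · rcases Nat.lt_or_ge i (m + 1) with hi1 | hi1
        · obtain ⟨j, rfl⟩ : ∃ j, i = j + 1 := ⟨i - 1, by omega⟩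
          rw [h j (by omega)]
          congr 3
          omega
        · have hi2 : i = m + 1 := le_antisymm hi hi1
          subst hi2
          have h1 : f.coeff (m + 1) = 1 := by rw [← hdeg]; exact hf.coeff_natDegree
          rw [Nat.sub_self, h0, ha, ha2, h1]
    · push Not at hi
      rw [coeff_eq_zero_of_natDegree_lt, coeff_eq_zero_of_natDegree_lt]
      · omega
      · have := natDegree_dag_le hK f
        omega

/-- a unitary matrix of order prime to `p` with prescribed self-dual characteristic polynomial -/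
theorem exists_unitary_of_charpoly (hK : Fintype.card K = q ^ 2) (p : ℕ) [Fact p.Prime] [CharP K p]
    (f : K[X]) (hf : f.Monic) (hdeg : f.natDegree = n) (h0 : f.coeff 0 ≠ 0)
    (hdag : dag hK f = f) :
    ∃ (B : Matrix (Fin n) (Fin n) K) (k : ℕ), 0 < k ∧ k.Coprime p ∧ B ^ k = 1 ∧
      ct hK B * B = 1 ∧ B.charpoly = f := by
  classical
  obtain ⟨A, k, hk, hkp, hAk, hAf⟩ := exists_semisimple_of_charpoly p f hf hdeg h0
  obtain ⟨k', rfl⟩ : ∃ k', k = k' + 1 := ⟨k - 1, by omega⟩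
  set A' := A ^ k' with hA'
  have h1 : A * A' = 1 := by rw [hA', ← pow_succ']; exact hAk
  have h2 : A' * A = 1 := mul_eq_one_comm.1 h1
  set Ag : GL (Fin n) K := ⟨A, A', h1, h2⟩ with hAg
  set C := ct hK A' with hC
  have hCk : C ^ (k' + 1) = 1 := by
    rw [hC, ← ct_pow, hA', ← pow_mul, mul_comm, pow_mul, hAk, one_pow, ct_one]
  have hCc : C.charpoly = f := by
    rw [hC, charpoly_ct, charpoly_inv_eq_rc_matrix _ _ h1, hAf, ← rc_map_powQ]
    exact hdag
  obtain ⟨P, hPdet, hP⟩ := Cfsg.Agent.S2388.exists_gl_conj p A C (k' + 1) hkp hAk hCk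
    (by rw [hAf, hCc])
  have hconjM : IsConj (Ag : Matrix (Fin n) (Fin n) K)
      (((Ag : Matrix (Fin n) (Fin n) K).map (fun x : K => x ^ q)).transpose)⁻¹ := by
    have h3 : (((Ag : Matrix (Fin n) (Fin n) K).map (fun x : K => x ^ q)).transpose)⁻¹ = C := by
      apply Matrix.inv_eq_right_inv
      show ct hK A * ct hK A' = 1
      rw [← ct_mul, h2, ct_one]
    rw [h3]
    obtain ⟨Pu, hPu⟩ := (Matrix.isUnit_iff_isUnit_det P).2 hPdet
    refine ⟨Pu, ?_⟩
    show (Pu : Matrix (Fin n) (Fin n) K) * A = C * Pu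
    rw [hPu]
    exact hP
  obtain ⟨B, hB⟩ := (Cfsg.Agent.S2588.result hK Ag).2 hconjM
  rw [isConj_iff] at hB
  obtain ⟨c, hc⟩ := hB
  have hBmem := (mem_GU_iff hK (B : GL (Fin n) K)).1 B.2
  have hAgk : Ag ^ (k' + 1) = 1 := by
    apply Units.ext
    rw [Units.val_pow_eq_pow_val, Units.val_one]
    exact hAk
  refine ⟨((B : GL (Fin n) K) : Matrix (Fin n) (Fin n) K), k' + 1, hk, hkp, ?_, hBmem, ?_⟩
  · rw [← Units.val_pow_eq_pow_val, ← hc, conj_pow, hAgk, mul_one, mul_inv_cancel]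
    rfl
  · rw [← hc, Units.val_mul, Units.val_mul, Matrix.coe_units_inv, Matrix.charpoly_units_conj]
    exact hAf

theorem dag_charpoly_of_unitary (hK : Fintype.card K = q ^ 2) (M : Matrix (Fin n) (Fin n) K)
    (hM : ct hK M * M = 1) : dag hK M.charpoly = M.charpoly := by
  have h1 : M * ct hK M = 1 := mul_eq_one_comm.1 hM
  have h2 := charpoly_inv_eq_rc_matrix _ _ h1
  rw [charpoly_ct] at h2
  have h0 : M.charpoly.coeff 0 ≠ 0 := by
    intro h
    have h3 := Matrix.det_eq_sign_charpoly_coeff M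
    rw [h, mul_zero] at h3
    have h4 := congrArg Matrix.det hM
    rw [Matrix.det_mul, h3, mul_zero, Matrix.det_one] at h4
    exact zero_ne_one h4
  rw [dag, h2, rc_rc (Matrix.charpoly_monic _) h0]

end Cfsg.Agent.Lib.Helper5.SUConj
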