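import Mathlib
import Cfsg.Agent.Lib.Helper5.PGUr1
import Cfsg.Agent.Lib.Helper5.SUConj3

set_option autoImplicit false

/-!
Classes of `PGU_n` of elements of prime order `r ∣ q + 1`.
-/

namespace Cfsg.Agent.Lib.Helper5.PGUr

open Matrix Polynomial Cfsg.Agent.Lib.Helper5.Wall Cfsg.Agent.Lib.Helper5.PGLr
  Cfsg.Agent.Lib.Helper1.HermCount Cfsg.Agent.S0278 Cfsg.Agent.Lib.Helper5.SSOrder
  Cfsg.Agent.Lib.Helper5.SUConj

universe u

variable {K : Type u} [Field K] [Fintype K] {q n : ℕ} {r : ℕ} [hr : Fact r.Prime]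

theorem zp_nrm {ζ : K} (hζ : IsPrimitiveRoot ζ r) (hrq : r ∣ q + 1) (j : ZMod r) :
    zp ζ j ^ (q + 1) = 1 := by
  obtain ⟨m, hm⟩ := hrq
  rw [hm, pow_mul, zp_pow hζ, one_pow]

theorem nonpow_ne_zero (l : K) (hl : ∀ b : K, b ^ r ≠ l) : l ≠ 0 := by
  intro h0
  exact hl 0 (by rw [zero_pow hr.out.ne_zero, h0])

section
variable (hK : Fintype.card K = q ^ 2)
include hK

theorem ct_diagonal (d : Fin n → K) : ct hK (Matrix.diagonal d) = Matrix.diagonal (fun i => d i ^ q) := by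
  ext i j
  simp only [ct, Matrix.transpose_apply, Matrix.map_apply]
  by_cases hij : i = j
  · subst hij
    rw [Matrix.diagonal_apply_eq, Matrix.diagonal_apply_eq]
    rfl
  · rw [Matrix.diagonal_apply_ne _ (Ne.symm hij), Matrix.diagonal_apply_ne _ hij]
    exact map_zero _

/-- a diagonal unitary matrix with prescribed eigenvalue multiplicities -/
theorem exists_repA {ζ : K} (hζ : IsPrimitiveRoot ζ r) (hrq : r ∣ q + 1) (a : ZMod r → ℕ)
    (ha : ∑ j, a j = n) :
    ∃ g : ↥(Cfsg.GU n K q), mat g ^ r = 1 ∧ (mat g).charpoly = fpoly ζ a := by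
  have : NeZero r := ⟨hr.out.ne_zero⟩
  have hcard : Fintype.card (Σ j : ZMod r, Fin (a j)) = Fintype.card (Fin n) := by
    rw [Fintype.card_sigma, Fintype.card_fin]
    simp only [Fintype.card_fin]
    exact ha
  let e : Fin n ≃ Σ j : ZMod r, Fin (a j) := (Fintype.equivOfCardEq hcard).symm
  let d : Fin n → K := fun i => zp ζ (e i).1
  have hM : ct hK (Matrix.diagonal d) * Matrix.diagonal d = 1 := by
    rw [ct_diagonal, Matrix.diagonal_mul_diagonal, ← Matrix.diagonal_one]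
    congr 1
    funext i
    rw [← pow_succ]
    exact zp_nrm hζ hrq _
  refine ⟨ofMat hK _ hM, ?_, ?_⟩
  · rw [mat_ofMat, Matrix.diagonal_pow, ← Matrix.diagonal_one]
    congr 1
    funext i
    exact zp_pow hζ _
  · rw [mat_ofMat, Matrix.charpoly_diagonal]
    unfold fpoly
    rw [Fintype.prod_equiv e (fun i => X - C (d i)) (fun x => X - C (zp ζ x.1)) (fun i => rfl),
      Fintype.prod_sigma]
    refine Finset.prod_congr rfl (fun j _ => ?_)
    show ∏ _y : Fin (a j), (X - C (zp ζ j)) = _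
    rw [Finset.prod_const, Finset.card_univ, Fintype.card_fin]

theorem norm_of_pow (hr2 : r ≠ 2) (hrq : r ∣ q + 1) (b l : K) (hb : b ^ r = l)
    (hl : l ^ (q + 1) = 1) : b ^ (q + 1) = 1 := by
  have hq := two_le_q hK
  have hb0 : b ≠ 0 := by
    rintro rfl
    rw [zero_pow hr.out.ne_zero] at hb
    rw [← hb, zero_pow (Nat.succ_ne_zero q)] at hl
    exact zero_ne_one hl
  have h1 : (b ^ (q + 1)) ^ r = 1 := by
    rw [← pow_mul, mul_comm, pow_mul, hb, hl]
  have h2 : (b ^ (q + 1)) ^ (q - 1) = 1 := by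
    rw [← pow_mul]
    have : (q + 1) * (q - 1) = Fintype.card K - 1 := by
      rw [hK]
      obtain ⟨m, rfl⟩ : ∃ m, q = m + 1 := ⟨q - 1, by omega⟩
      simp only [Nat.add_sub_cancel]
      have : (m + 1) ^ 2 = (m + 1 + 1) * m + 1 := by ring
      rw [this, Nat.add_sub_cancel]
    rw [this]
    exact FiniteField.pow_card_sub_one_eq_one b hb0
  have hcop : Nat.gcd r (q - 1) = 1 := by
    rw [← Nat.coprime_iff_gcd_eq_one, Nat.Prime.coprime_iff_not_dvd hr.out]
    intro h3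
    have h4 : r ∣ (q + 1) - (q - 1) := Nat.dvd_sub hrq h3
    have h5 : (q + 1) - (q - 1) = 2 := by omega
    rw [h5] at h4
    exact hr2 ((Nat.prime_dvd_prime_iff_eq hr.out Nat.prime_two).1 h4)
  have h3 : (b ^ (q + 1)) ^ Nat.gcd r (q - 1) = 1 := pow_gcd_eq_one.2 ⟨h1, h2⟩
  rwa [hcop, pow_one] at h3

theorem dag_kummer (l : K) (hl : l ^ (q + 1) = 1) :
    dag hK (X ^ r - C l : K[X]) = X ^ r - C l := by
  have hr0 : r ≠ 0 := hr.out.ne_zero
  have hq := two_le_q hK
  have hl0 : l ≠ 0 := by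
    rintro rfl
    rw [zero_pow (Nat.succ_ne_zero q)] at hl
    exact zero_ne_one hl
  have hdeg : (X ^ r - C l : K[X]).natDegree = r := natDegree_X_pow_sub_C
  have hc0 : (X ^ r - C l : K[X]).coeff 0 = -l := by
    rw [coeff_sub, coeff_X_pow, coeff_C_zero, if_neg (Ne.symm hr0), zero_sub]
  have hneg : (-l) ^ q = -(l ^ q) := map_neg (powQ hK) l
  have hlq : l ^ q * l = 1 := by rw [← pow_succ]; exact hl
  ext i
  by_cases hi : i ≤ r
  · rw [coeff_dag hK _ i (by rw [hdeg]; exact hi), hdeg, hc0, hneg]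
    rw [coeff_sub, coeff_sub, coeff_X_pow, coeff_X_pow, coeff_C, coeff_C]
    by_cases hi0 : i = 0
    · subst hi0
      rw [Nat.sub_zero, if_pos rfl, if_neg hr0, sub_zero, one_pow, mul_one, if_neg (Ne.symm hr0),
        if_pos rfl, zero_sub, inv_neg, neg_inj]
      exact inv_eq_of_mul_eq_one_right hlq
    · by_cases hir : i = r
      · subst hir
        rw [Nat.sub_self, if_neg (Ne.symm hr0), if_pos rfl, zero_sub, hneg, if_pos rfl, if_neg hr0,
          sub_zero]
        exact inv_mul_cancel₀ (neg_ne_zero.2 (pow_ne_zero _ hl0))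
      · rw [if_neg (by omega), if_neg (by omega), sub_zero, zero_pow (by omega), mul_zero,
          if_neg hir, if_neg hi0, sub_zero]
  · push Not at hi
    rw [coeff_eq_zero_of_natDegree_lt, coeff_eq_zero_of_natDegree_lt]
    · rw [hdeg]; exact hi
    · have := natDegree_dag_le hK (X ^ r - C l : K[X])
      rw [hdeg] at this
      omega

end

section
variable (hK : Fintype.card K = q ^ 2) (p : ℕ) [Fact p.Prime] [CharP K p] (hrp : r ≠ p)
include hK hrp

/-- two matrices with the same non-`r`-th-power scalar as `r`-th power are similar -/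
theorem exists_conj_of_pow_eq (A B : Matrix (Fin n) (Fin n) K) (l : K)
    (hl : ∀ b : K, b ^ r ≠ l) (hA : A ^ r = l • 1) (hB : B ^ r = l • 1) :
    ∃ P : Matrix (Fin n) (Fin n) K, IsUnit P.det ∧ P * A = B * P := by
  have hl0 := nonpow_ne_zero l hl
  obtain ⟨k, hk, hkn⟩ := charpoly_of_pow_eq A l hl hA
  obtain ⟨k', hk', hkn'⟩ := charpoly_of_pow_eq B l hl hB
  have hkk : k = k' := by
    have : r * k = r * k' := by rw [hkn, hkn']
    exact Nat.eq_of_mul_eq_mul_left hr.out.pos this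
  have hch : A.charpoly = B.charpoly := by rw [hk, hk', hkk]
  have hp : p.Prime := Fact.out
  have hpq : p ∣ Fintype.card K := by
    obtain ⟨m, -, hm⟩ := FiniteField.card K p
    rw [hm]
    exact dvd_pow_self p m.ne_zero
  have hcop1 : (Fintype.card K - 1).Coprime p :=
    coprime_pred_of_dvd hp hpq Fintype.card_pos
  have hcop : (r * (Fintype.card K - 1)).Coprime p :=
    Nat.Coprime.mul_left ((Nat.coprime_primes hr.out hp).2 hrp) hcop1
  have hpow : ∀ B : Matrix (Fin n) (Fin n) K, B ^ r = l • 1 →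
      B ^ (r * (Fintype.card K - 1)) = 1 := by
    intro B hB
    rw [pow_mul, hB, _root_.smul_pow, one_pow, FiniteField.pow_card_sub_one_eq_one l hl0,
      one_smul]
  exact Cfsg.Agent.S2388.exists_gl_conj p A B _ hcop (hpow _ hA) (hpow _ hB) hch

variable {ζ : K} (hζ : IsPrimitiveRoot ζ r) (hrq : r ∣ q + 1) (hn : 1 ≤ n)
include hζ hrq hn

theorem conjA_iff (g h : ↥(Cfsg.GU n K q)) (hg : mat g ^ r = 1) (hh : mat h ^ r = 1)
    (a b : ZMod r → ℕ) (ha : (mat g).charpoly = fpoly ζ a) (hb : (mat h).charpoly = fpoly ζ b) :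
    IsConj (QuotientGroup.mk g : PU n K q) (QuotientGroup.mk h) ↔
      ∃ k : ZMod r, ∀ j, b j = a (j - k) := by
  constructor
  · intro hc
    obtain ⟨P, c, hP, hc1, hPg⟩ := conj_imp hK hn g h hc
    rw [← Matrix.smul_mul] at hPg
    have h1 := pow_semiconj P (mat g) (c • mat h) hPg r
    rw [hg, _root_.smul_pow, hh] at h1
    have hcr : 1 = c ^ r := by
      refine scalar_eq_of_semiconj hn P hP 1 (c ^ r) ?_
      rw [one_smul]; exact h1
    obtain ⟨k, rfl⟩ := exists_zp hζ c hcr.symm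
    have h2 := charpoly_eq_of_semiconj P _ _ hP hPg
    rw [charpoly_zp_smul hζ (mat h) b hb k, ha] at h2
    have h3 := fpoly_injective hζ h2
    refine ⟨-k, fun j => ?_⟩
    rw [h3]
    show b j = b (j - -k - k)
    rw [sub_neg_eq_add, add_sub_cancel_right]
  · rintro ⟨k, hk⟩
    have h1 : (zp ζ k • mat g).charpoly = (mat h).charpoly := by
      rw [charpoly_zp_smul hζ (mat g) a ha k, hb]
      congr 1
      funext j
      exact (hk j).symm
    have h2 : (zp ζ k • mat g) ^ r = 1 := by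
      rw [_root_.smul_pow, hg, zp_pow hζ, one_smul]
    have hcop : r.Coprime p := (Nat.coprime_primes hr.out Fact.out).2 hrp
    obtain ⟨P, hP, hPM⟩ := Cfsg.Agent.S2388.exists_gl_conj p _ _ r hcop h2 hh h1
    refine conj_of hK g h P (zp ζ k)⁻¹ hP (by rw [inv_pow, zp_nrm hζ hrq, inv_one]) ?_
    rw [← hPM, Matrix.mul_smul, smul_smul, inv_mul_cancel₀ (zp_ne_zero hζ k), one_smul]

omit hζ hrq in
theorem conjB_iff (g h : ↥(Cfsg.GU n K q)) (l l' : K) (hl : ∀ b : K, b ^ r ≠ l)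
    (hg : mat g ^ r = l • 1) (hh : mat h ^ r = l' • 1) :
    IsConj (QuotientGroup.mk g : PU n K q) (QuotientGroup.mk h) ↔
      ∃ c : K, c ^ (q + 1) = 1 ∧ l = c ^ r * l' := by
  constructor
  · intro hc
    obtain ⟨P, c, hP, hc1, hPg⟩ := conj_imp hK hn g h hc
    rw [← Matrix.smul_mul] at hPg
    have h1 := pow_semiconj P (mat g) (c • mat h) hPg r
    rw [hg, _root_.smul_pow, hh, smul_smul] at h1
    exact ⟨c, hc1, scalar_eq_of_semiconj hn P hP l (c ^ r * l') h1⟩
  · rintro ⟨c, hc1, hcl⟩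
    have h2 : (c • mat h) ^ r = l • 1 := by
      rw [_root_.smul_pow, hh, smul_smul, ← hcl]
    obtain ⟨P, hP, hPM⟩ := exists_conj_of_pow_eq hK p hrp (mat g) (c • mat h) l hl hg h2
    refine conj_of hK g h P c hP hc1 ?_
    rw [hPM, Matrix.smul_mul]

omit hζ hrq in
theorem exists_repB (hrn : r ∣ n) (l : K) (hl1 : l ^ (q + 1) = 1) (hl : ∀ b : K, b ^ r ≠ l) :
    ∃ g : ↥(Cfsg.GU n K q), mat g ^ r = l • 1 := by
  have hl0 := nonpow_ne_zero l hl
  obtain ⟨k, rfl⟩ := hrn
  have hk0 : k ≠ 0 := by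
    rintro rfl
    omega
  have hf : ((X ^ r - C l : K[X]) ^ k).Monic := (monic_kummer l).pow k
  have hdeg : ((X ^ r - C l : K[X]) ^ k).natDegree = r * k := by
    rw [natDegree_pow, natDegree_X_pow_sub_C, mul_comm]
  have h0 : ((X ^ r - C l : K[X]) ^ k).coeff 0 ≠ 0 := by
    rw [coeff_zero_eq_eval_zero, eval_pow, eval_sub, eval_pow, eval_X, eval_C,
      zero_pow hr.out.ne_zero, zero_sub]
    exact pow_ne_zero _ (neg_ne_zero.2 hl0)
  have hdag : dag hK ((X ^ r - C l : K[X]) ^ k) = (X ^ r - C l) ^ k := by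
    rw [dag, Polynomial.map_pow, rc_pow]
    congr 1
    exact dag_kummer hK l hl1
  obtain ⟨A, m, hm0, hmp, hAm, hAu, hAf⟩ :=
    exists_unitary_of_charpoly hK p _ hf hdeg h0 hdag
  have hmF : (m : K) ≠ 0 := by
    intro h
    have h1 : p ∣ m := (CharP.cast_eq_zero_iff K p m).1 h
    have h2 : p ∣ Nat.gcd m p := Nat.dvd_gcd h1 dvd_rfl
    rw [hmp] at h2
    exact (Fact.out : p.Prime).one_lt.ne' (Nat.dvd_one.1 h2)
  have hs : Squarefree (X ^ m - 1 : K[X]) := by
    have : (X ^ m - C (1 : K)).Separable := Polynomial.separable_X_pow_sub_C 1 hmF one_ne_zero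
    rw [map_one] at this
    exact this.squarefree
  have h1 : minpoly K A ∣ (X ^ m - 1 : K[X]) := by
    apply minpoly.dvd
    rw [map_sub, map_pow, aeval_X, map_one, hAm, sub_self]
  have h2 : Squarefree (minpoly K A) := hs.squarefree_of_dvd h1
  have h3 : minpoly K A ∣ (X ^ r - C l : K[X]) ^ k := by
    rw [← hAf]
    exact Matrix.minpoly_dvd_charpoly A
  have h4 : minpoly K A ∣ (X ^ r - C l : K[X]) := (h2.dvd_pow_iff_dvd hk0).1 h3
  have h5 : aeval A (X ^ r - C l : K[X]) = 0 := by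
    obtain ⟨c, hc⟩ := h4
    rw [hc, map_mul, minpoly.aeval, zero_mul]
  have hAr : A ^ r = l • 1 := by
    rw [map_sub, map_pow, aeval_X, aeval_C, Algebra.algebraMap_eq_smul_one] at h5
    exact sub_eq_zero.1 h5
  exact ⟨ofMat hK A hAu, hAr⟩

end

end Cfsg.Agent.Lib.Helper5.PGUr
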