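import Mathlib

set_option autoImplicit false

namespace Cfsg.Agent.Lib.Helper5.PLocalSec

open Subgroup

/-- Lifting an element of `p`-power order through a homomorphism to a power which has `p`-power
order. -/
theorem exists_ppow_lift {X Q : Type*} [Group X] [Group Q] [Finite X] (f : X →* Q) (p : ℕ)
    [hp : Fact p.Prime] (n : X) (k : ℕ) (hu : (f n) ^ p ^ k = 1) :
    ∃ e : ℕ, f (n ^ e) = f n ∧ ∃ a, (n ^ e) ^ p ^ a = 1 := by
  obtain ⟨a, m', hm', hord⟩ := Nat.exists_eq_pow_mul_and_not_dvd (orderOf_pos n).ne' p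
    hp.out.ne_one
  rcases Nat.eq_zero_or_pos k with hk | hk
  · refine ⟨orderOf n, ?_, 0, ?_⟩
    · rw [hk, pow_zero, pow_one] at hu
      rw [pow_orderOf_eq_one, map_one, hu]
    · rw [pow_orderOf_eq_one, one_pow]
  · have hcop : Nat.Coprime m' (p ^ k) :=
      Nat.Coprime.pow_right k ((Nat.Prime.coprime_iff_not_dvd hp.out).mpr hm').symm
    have h1 : 1 < p ^ k := Nat.one_lt_pow hk.ne' hp.out.one_lt
    obtain ⟨c, -, hc⟩ := Nat.exists_mul_mod_eq_one_of_coprime hcop h1
    refine ⟨m' * c, ?_, a, ?_⟩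
    · rw [map_pow]
      have h2 : m' * c = p ^ k * (m' * c / p ^ k) + 1 := by
        have := Nat.div_add_mod (m' * c) (p ^ k)
        rw [hc] at this
        exact this.symm
      rw [h2, pow_add, pow_mul, hu, one_pow, one_mul, pow_one]
    · rw [← pow_mul]
      have : m' * c * p ^ a = orderOf n * c := by rw [hord]; ring
      rw [this, pow_mul, pow_orderOf_eq_one, one_pow]

/-- If the normalizers of nontrivial `p`-subgroups of `G` have their `p`-elements closed under
products, then a group `Q` with a nontrivial normal `p`-subgroup and two `p`-elements whose product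
is not a `p`-element is not a quotient of a subgroup of `G`. -/
theorem false_of_surjective {G : Type*} [Group G] [Finite G] (p : ℕ) [hp : Fact p.Prime]
    (hG : ∀ T : Subgroup G, IsPGroup p T → T ≠ ⊥ → ∀ x ∈ normalizer (T : Set G),
      ∀ y ∈ normalizer (T : Set G), (∃ k, x ^ p ^ k = 1) → (∃ k, y ^ p ^ k = 1) →
      ∃ k, (x * y) ^ p ^ k = 1)
    {Q : Type*} [Group Q] (V : Subgroup Q) [hVn : V.Normal] (hV : IsPGroup p V) (hV1 : V ≠ ⊥)
    (u v : Q) (hu : ∃ k, u ^ p ^ k = 1) (hv : ∃ k, v ^ p ^ k = 1)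
    (huv : ¬ ∃ k, (u * v) ^ p ^ k = 1)
    (K : Subgroup G) (f : K →* Q) (hf : Function.Surjective f) : False := by
  classical
  set W : Subgroup K := V.comap f with hW
  haveI : W.Normal := hVn.comap f
  let P : Sylow p W := default
  set T : Subgroup K := (P : Subgroup W).map W.subtype with hT
  have hfrat : normalizer (T : Set K) ⊔ W = ⊤ := Sylow.normalizer_sup_eq_top P
  -- f maps T onto V
  have hf' : Function.Surjective (f.subgroupComap V) :=
    f.subgroupComap_surjective_of_surjective V hf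
  have hPV : (P : Subgroup W).map (f.subgroupComap V) = ⊤ := by
    have h1 := (P.mapSurjective hf').3 (Q := ⊤) (fun g => by
      obtain ⟨k, hk⟩ := hV g.1
      exact ⟨k, Subtype.ext (by rw [Subgroup.coe_pow, hk]; rfl)⟩)
      (by rw [Sylow.coe_mapSurjective]; exact le_top)
    rw [Sylow.coe_mapSurjective] at h1
    exact h1.symm
  have hTV : ∀ q ∈ V, ∃ t ∈ T, f t = q := by
    intro q hq
    have : (⟨q, hq⟩ : V) ∈ (P : Subgroup W).map (f.subgroupComap V) := by rw [hPV]; trivial
    obtain ⟨w, hw, hwq⟩ := this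
    refine ⟨w.1, ⟨w, hw, rfl⟩, ?_⟩
    have := congrArg Subtype.val hwq
    exact this
  have hTp : IsPGroup p T := P.2.map W.subtype
  have hT1 : T ≠ ⊥ := by
    intro h0
    apply hV1
    rw [Subgroup.eq_bot_iff_forall]
    intro q hq
    obtain ⟨t, ht, rfl⟩ := hTV q hq
    rw [h0, Subgroup.mem_bot] at ht
    rw [ht, map_one]
  -- the normalizer of T maps onto Q
  have hNsurj : ∀ q : Q, ∃ n ∈ normalizer (T : Set K), f n = q := by
    intro q
    obtain ⟨k, rfl⟩ := hf q
    have hk : k ∈ normalizer (T : Set K) ⊔ W := by rw [hfrat]; trivial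
    rw [Subgroup.mem_sup_of_normal_right] at hk
    obtain ⟨n, hn, w, hw, rfl⟩ := hk
    obtain ⟨t, ht, htw⟩ := hTV (f w) hw
    refine ⟨n * t, (normalizer (T : Set K)).mul_mem hn (le_normalizer ht), ?_⟩
    rw [map_mul, map_mul, htw]
  -- lift u and v
  obtain ⟨ku, hku⟩ := hu
  obtain ⟨kv, hkv⟩ := hv
  obtain ⟨nu, hnu, rfl⟩ := hNsurj u
  obtain ⟨nv, hnv, rfl⟩ := hNsurj v
  obtain ⟨eu, heu, au, hau⟩ := exists_ppow_lift f p nu ku hku
  obtain ⟨ev, hev, av, hav⟩ := exists_ppow_lift f p nv kv hkv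
  -- move to G
  set T' : Subgroup G := T.map K.subtype with hT'
  have hT'p : IsPGroup p T' := hTp.map K.subtype
  have hT'1 : T' ≠ ⊥ := by
    intro h0
    apply hT1
    rw [Subgroup.eq_bot_iff_forall]
    intro t ht
    have : (t : G) ∈ T' := ⟨t, ht, rfl⟩
    rw [h0, Subgroup.mem_bot] at this
    exact Subtype.ext this
  have hnorm : ∀ n ∈ normalizer (T : Set K), (n : G) ∈ normalizer (T' : Set G) := by
    intro n hn
    rw [Subgroup.mem_normalizer_iff]
    intro g
    constructor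
    · rintro ⟨t, ht, rfl⟩
      exact ⟨n * t * n⁻¹, (Subgroup.mem_normalizer_iff.mp hn t).mp ht, rfl⟩
    · rintro ⟨t, ht, hte⟩
      have h1 : n⁻¹ * t * n ∈ T := by
        have := (Subgroup.mem_normalizer_iff.mp ((normalizer (T : Set K)).inv_mem hn) t).mp ht
        simpa using this
      refine ⟨n⁻¹ * t * n, h1, ?_⟩
      have : (n : G)⁻¹ * (t : G) * (n : G) = g := by
        have hte' : (t : G) = (n : G) * g * (n : G)⁻¹ := hte
        rw [hte']; group
      simpa using this
  obtain ⟨k, hk⟩ := hG T' hT'p hT'1 ((nu ^ eu : K) : G)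
    (hnorm _ ((normalizer (T : Set K)).pow_mem hnu eu)) ((nv ^ ev : K) : G)
    (hnorm _ ((normalizer (T : Set K)).pow_mem hnv ev))
    ⟨au, by rw [← Subgroup.coe_pow, hau]; rfl⟩ ⟨av, by rw [← Subgroup.coe_pow, hav]; rfl⟩
  apply huv
  refine ⟨k, ?_⟩
  rw [← heu, ← hev, ← map_mul, ← map_pow]
  have : (nu ^ eu * nv ^ ev) ^ p ^ k = 1 := by
    apply Subtype.ext
    rw [Subgroup.coe_pow, Subgroup.coe_mul]
    exact hk
  rw [this, map_one]

end Cfsg.Agent.Lib.Helper5.PLocalSec
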