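import Mathlib
import Cfsg.Prelude.Def_KGroupFacts
import Cfsg.Agent.Lib.Helper5.PSL2Aut6

set_option autoImplicit false

/-!
Automorphisms of `PSL₂(F)`, part 7: the structure of the outer automorphism group.
-/

namespace Cfsg.Agent.Lib.Helper5.PSL2Aut

open Matrix Matrix.SpecialLinearGroup

section
variable {F : Type*} [Field F]

theorem glConj_scalar (z : Fˣ) :
    glConj (Matrix.GeneralLinearGroup.scalar (Fin 2) z : GL (Fin 2) F) = 1 := by
  apply MulEquiv.ext
  intro x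
  apply Subtype.ext
  rw [glConj_apply, glConjFun_coe, ← map_inv, Matrix.GeneralLinearGroup.coe_scalar,
    Matrix.GeneralLinearGroup.coe_scalar,
    (Matrix.scalar_commute (z : F) (fun r' => Commute.all _ _)
      (x : Matrix (Fin 2) (Fin 2) F)).eq,
    Matrix.mul_assoc, ← map_mul, ← Units.val_mul, mul_inv_cancel, Units.val_one, map_one,
    Matrix.mul_one]
  rfl

theorem glConj_eq_of_smul (g g' : GL (Fin 2) F) (z : F) (hz : z ≠ 0)
    (h : (g : Matrix (Fin 2) (Fin 2) F) = z • (g' : Matrix (Fin 2) (Fin 2) F)) :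
    glConj g = glConj g' := by
  have hg : g = Matrix.GeneralLinearGroup.scalar (Fin 2) (Units.mk0 z hz) * g' := by
    apply Units.ext
    rw [Units.val_mul, Matrix.GeneralLinearGroup.coe_scalar, h, Units.val_mk0,
      Matrix.scalar_apply, ← Matrix.smul_eq_diagonal_mul]
  rw [hg, map_mul, glConj_scalar, one_mul]

theorem semi_eq_of_smul (g g' : GL (Fin 2) F) (σ : F ≃+* F) (z : F) (hz : z ≠ 0)
    (h : (g : Matrix (Fin 2) (Fin 2) F) = z • (g' : Matrix (Fin 2) (Fin 2) F)) :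
    semi g σ = semi g' σ := by
  unfold semi
  rw [glConj_eq_of_smul g g' z hz h]

theorem dg_one : dg (1 : Fˣ) = (1 : GL (Fin 2) F) := by
  apply Units.ext
  rw [dg_coe, Units.val_one, Units.val_one, Matrix.one_fin_two]

/-- The diagonal embedding `u ↦ diag(u, 1)`. -/
def dgHom : Fˣ →* GL (Fin 2) F where
  toFun := dg
  map_one' := dg_one
  map_mul' := dg_mul

theorem det_dg (u : Fˣ) : Matrix.GeneralLinearGroup.det (dg u) = u := by
  apply Units.ext
  rw [Matrix.GeneralLinearGroup.val_det_apply, dg_coe, Matrix.det_fin_two_of]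
  ring

theorem exists_dg_mul (g : GL (Fin 2) F) :
    ∃ (u : Fˣ) (s : SpecialLinearGroup (Fin 2) F),
      g = dg u * Matrix.SpecialLinearGroup.toGL s := by
  obtain ⟨u, hu⟩ : ∃ u : Fˣ, u = Matrix.GeneralLinearGroup.det g := ⟨_, rfl⟩
  have hdet : Matrix.GeneralLinearGroup.det ((dg u)⁻¹ * g) = 1 := by
    rw [map_mul, map_inv, det_dg, hu, inv_mul_cancel]
  have hdet' : (((dg u)⁻¹ * g : GL (Fin 2) F) : Matrix (Fin 2) (Fin 2) F).det = 1 := by
    rw [← Matrix.GeneralLinearGroup.val_det_apply, hdet, Units.val_one]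
  refine ⟨u, ⟨(((dg u)⁻¹ * g : GL (Fin 2) F) : Matrix (Fin 2) (Fin 2) F), hdet'⟩, ?_⟩
  have e : Matrix.SpecialLinearGroup.toGL
      (⟨(((dg u)⁻¹ * g : GL (Fin 2) F) : Matrix (Fin 2) (Fin 2) F), hdet'⟩ :
        SpecialLinearGroup (Fin 2) F) = (dg u)⁻¹ * g := Units.ext rfl
  rw [e, mul_inv_cancel_left]

/-- The diagonal automorphisms. -/
def diagAut : Fˣ →* MulAut (ProjectiveSpecialLinearGroup (Fin 2) F) :=
  quotAut.comp (glConj.comp dgHom)

theorem diagAut_apply (u : Fˣ) : diagAut u = semi (dg u) (1 : F ≃+* F) := by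
  unfold semi diagAut
  rw [map_one, mul_one]
  rfl

end

section
variable {F : Type*} [Field F] [Fintype F]

theorem inn_le_ker {p f : ℕ} [Fact p.Prime] (hf : 1 ≤ f) (hF : Fintype.card F = p ^ f) :
    Cfsg.Inn (ProjectiveSpecialLinearGroup (Fin 2) F) ≤ (sigmaHom (F := F) hf hF).ker := by
  rintro _ ⟨q, rfl⟩
  obtain ⟨m, rfl⟩ := pi_surjective q
  rw [MonoidHom.mem_ker, conj_pi_eq_semi, sigmaHom_semi]

omit [Fintype F] in
theorem diagAut_mem_inn_iff (u : Fˣ) :
    diagAut u ∈ Cfsg.Inn (ProjectiveSpecialLinearGroup (Fin 2) F) ↔ ∃ z : Fˣ, z ^ 2 = u := by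
  constructor
  · rintro ⟨q, hq⟩
    obtain ⟨m, rfl⟩ := pi_surjective q
    rw [diagAut_apply, conj_pi_eq_semi] at hq
    obtain ⟨_, z, hz, hzm⟩ := semi_eq_semi _ _ _ _ hq.symm
    refine ⟨Units.mk0 z hz, ?_⟩
    apply Units.ext
    have h1 := congrArg Matrix.det hzm
    rw [Matrix.det_smul, Matrix.SpecialLinearGroup.coe_GL_coe_matrix, m.2, mul_one,
      Fintype.card_fin, dg_coe, Matrix.det_fin_two_of] at h1
    rw [Units.val_pow_eq_pow_val, Units.val_mk0, ← h1]
    ring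
  · rintro ⟨z, rfl⟩
    refine ⟨pi (hm z), ?_⟩
    rw [diagAut_apply, conj_pi_eq_semi]
    symm
    apply semi_eq_of_smul _ _ _ (z : F) (Units.ne_zero z)
    rw [Matrix.SpecialLinearGroup.coe_GL_coe_matrix, dg_coe]
    unfold hm
    rw [mk2_coe]
    ext i j
    fin_cases i <;> fin_cases j <;> simp [pow_two]

/-- The structure of `Out(PSL₂(F))`. -/
theorem out_structure {p f : ℕ} [Fact p.Prime] (hf : 1 ≤ f) (hF : Fintype.card F = p ^ f) :
    ∃ φ : Cfsg.Out (ProjectiveSpecialLinearGroup (Fin 2) F) →* Multiplicative (ZMod f),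
      Function.Surjective φ ∧ IsCyclic φ.ker ∧ Nat.card φ.ker = Nat.gcd 2 (p ^ f - 1) := by
  obtain ⟨e⟩ := exists_ringAut_iso hf hF
  obtain ⟨φ₀, hφ₀⟩ : ∃ φ₀ : Cfsg.Out (ProjectiveSpecialLinearGroup (Fin 2) F) →* (F ≃+* F),
      φ₀ = QuotientGroup.lift (Cfsg.Inn (ProjectiveSpecialLinearGroup (Fin 2) F))
        (sigmaHom (F := F) hf hF) (inn_le_ker hf hF) := ⟨_, rfl⟩
  have hφ₀mk : ∀ α : MulAut (ProjectiveSpecialLinearGroup (Fin 2) F),
      φ₀ (QuotientGroup.mk α) = sigmaHom hf hF α := by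
    intro α
    rw [hφ₀]
    rfl
  have hφ₀surj : Function.Surjective φ₀ := by
    rw [hφ₀]
    exact QuotientGroup.lift_surjective_of_surjective _ _ (sigmaHom_surjective hf hF) _
  obtain ⟨ψ₀, hψ₀⟩ : ∃ ψ₀ : Fˣ →* Cfsg.Out (ProjectiveSpecialLinearGroup (Fin 2) F),
      ψ₀ = (QuotientGroup.mk' (Cfsg.Inn (ProjectiveSpecialLinearGroup (Fin 2) F))).comp
        diagAut := ⟨_, rfl⟩
  have hψ₀apply : ∀ u : Fˣ, ψ₀ u = QuotientGroup.mk (diagAut u) := by
    intro u
    rw [hψ₀]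
    rfl
  refine ⟨e.toMonoidHom.comp φ₀, ?_, ?_⟩
  · exact e.surjective.comp hφ₀surj
  have hkr : (e.toMonoidHom.comp φ₀).ker = ψ₀.range := by
    ext q
    rw [MonoidHom.mem_ker, MonoidHom.comp_apply]
    constructor
    · intro hq
      have hq' : φ₀ q = 1 := by
        apply e.injective
        rw [map_one]
        exact hq
      obtain ⟨α, rfl⟩ := QuotientGroup.mk_surjective q
      rw [hφ₀mk] at hq'
      obtain ⟨g, hg⟩ := (mem_ker_sigmaHom_iff hf hF α).1 hq'
      obtain ⟨u, s, hus⟩ := exists_dg_mul g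
      refine ⟨u, ?_⟩
      rw [hψ₀apply, hg, hus, ← semi_one_mul_semi, ← conj_pi_eq_semi, ← diagAut_apply,
        QuotientGroup.mk_mul]
      have : (QuotientGroup.mk (MulAut.conj (pi s)) :
          Cfsg.Out (ProjectiveSpecialLinearGroup (Fin 2) F)) = 1 := by
        rw [QuotientGroup.eq_one_iff]
        exact ⟨pi s, rfl⟩
      rw [this, mul_one]
    · rintro ⟨u, rfl⟩
      rw [hψ₀apply, hφ₀mk, diagAut_apply, sigmaHom_semi]
      exact map_one e
  have hψker : ψ₀.ker = (powMonoidHom 2 : Fˣ →* Fˣ).range := by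
    ext u
    rw [MonoidHom.mem_ker, hψ₀apply, QuotientGroup.eq_one_iff, diagAut_mem_inn_iff,
      MonoidHom.mem_range]
    rfl
  rw [hkr]
  refine ⟨isCyclic_of_surjective ψ₀.rangeRestrict ψ₀.rangeRestrict_surjective, ?_⟩
  rw [← Subgroup.index_ker, hψker, IsCyclic.index_powMonoidHom_range, Nat.card_units,
    Nat.card_eq_fintype_card, hF, Nat.gcd_comm]

end

end Cfsg.Agent.Lib.Helper5.PSL2Aut
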