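import Mathlib
import Cfsg.Prelude.Def_Characters
import Cfsg.Agent.Lib.Helper5.SL2Complete

set_option autoImplicit false

/-!
Translation by central elements in induced functions; the central character of the cuspidal
functions.
-/

namespace Cfsg.Agent.Lib.Helper5

open Matrix
open Cfsg.Agent.Lib.Helper1 Cfsg.Agent.Lib.Helper4
open scoped ComplexConjugate

section generic
universe u
variable {G : Type u} [Group G] [Fintype G]

theorem indFun_central_mul (H : Subgroup G) (θ : H → ℂ) (z : G)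
    (hz : z ∈ Subgroup.center G) (hzH : z ∈ H) (lam : ℂ)
    (hθ : ∀ h : H, θ (⟨z, hzH⟩ * h) = lam * θ h) (g : G) :
    Cfsg.indFun H θ (z * g) = lam * Cfsg.indFun H θ g := by
  rw [indFun_apply, indFun_apply]
  have hsum : ∑ x : G, Cfsg.extendByZero H θ (x⁻¹ * (z * g) * x) =
      lam * ∑ x : G, Cfsg.extendByZero H θ (x⁻¹ * g * x) := by
    rw [Finset.mul_sum]
    refine Finset.sum_congr rfl fun x _ => ?_
    have hcomm : x⁻¹ * (z * g) * x = z * (x⁻¹ * g * x) := by
      have := Subgroup.mem_center_iff.1 hz x⁻¹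
      rw [← mul_assoc, this]
      group
    rw [hcomm]
    by_cases hy : x⁻¹ * g * x ∈ H
    · rw [extendByZero_of_mem H θ hy, extendByZero_of_mem H θ (H.mul_mem hzH hy)]
      exact hθ ⟨_, hy⟩
    · have hy' : z * (x⁻¹ * g * x) ∉ H := by
        intro h
        apply hy
        have := H.mul_mem (H.inv_mem hzH) h
        rwa [inv_mul_cancel_left] at this
      rw [extendByZero_of_notMem H θ hy, extendByZero_of_notMem H θ hy', mul_zero]
  rw [hsum]
  ring

end generic
section
variable {F : Type*} [Field F] [Fintype F] [DecidableEq F]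

theorem psFun_scalar_mul (β : MulChar F ℂ) (z : SpecialLinearGroup (Fin 2) F) (r : F)
    (hr : (z : Matrix (Fin 2) (Fin 2) F) = r • (1 : Matrix (Fin 2) (Fin 2) F))
    (g : SpecialLinearGroup (Fin 2) F) : psFun β (z * g) = β r * psFun β g := by
  unfold psFun
  have hzc : z ∈ Subgroup.center (SpecialLinearGroup (Fin 2) F) :=
    (mem_center_iff_scalar z).2 ⟨r, hr⟩
  have hzB : z ∈ borelSL F := by
    rw [mem_borelSL_two, slM_apply, hr]
    simp
  apply indFun_central_mul (borelSL F) _ z hzc hzB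
  intro h
  have h1 : (((⟨z, hzB⟩ * h : borelSL F) : SpecialLinearGroup (Fin 2) F) :
      Matrix (Fin 2) (Fin 2) F) = r • ((h : SpecialLinearGroup (Fin 2) F) :
        Matrix (Fin 2) (Fin 2) F) := by
    show (z : Matrix (Fin 2) (Fin 2) F) * ((h : SpecialLinearGroup (Fin 2) F) :
        Matrix (Fin 2) (Fin 2) F) = _
    rw [hr, Matrix.smul_mul, Matrix.one_mul]
  rw [h1, Matrix.smul_apply, smul_eq_mul, map_mul]

variable (C : Subgroup (SpecialLinearGroup (Fin 2) F))

theorem indFun_torus_scalar_mul (hC : IsCyclic C) (hcard : Nat.card C = Fintype.card F + 1)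
    (θ : C →* ℂˣ) (z : SpecialLinearGroup (Fin 2) F)
    (hz : ∃ r : F, (z : Matrix (Fin 2) (Fin 2) F) = r • (1 : Matrix (Fin 2) (Fin 2) F))
    (g : SpecialLinearGroup (Fin 2) F) :
    Cfsg.indFun C (fun c => (θ c : ℂ)) (z * g) =
      (θ ⟨z, scalar_mem_torus C hC hcard z hz⟩ : ℂ) * Cfsg.indFun C (fun c => (θ c : ℂ)) g := by
  have hzc : z ∈ Subgroup.center (SpecialLinearGroup (Fin 2) F) :=
    (mem_center_iff_scalar z).2 hz
  apply indFun_central_mul C _ z hzc (scalar_mem_torus C hC hcard z hz)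
  intro h
  rw [map_mul, Units.val_mul]

theorem cuspFun_scalar_mul (hC : IsCyclic C) (hcard : Nat.card C = Fintype.card F + 1)
    (α : MulChar F ℂ) (θ : C →* ℂˣ) (hcompat : Compat C α (fun c => (θ c : ℂ)))
    (z : SpecialLinearGroup (Fin 2) F)
    (hz : ∃ r : F, (z : Matrix (Fin 2) (Fin 2) F) = r • (1 : Matrix (Fin 2) (Fin 2) F))
    (g : SpecialLinearGroup (Fin 2) F) :
    cuspFun C α (fun c => (θ c : ℂ)) (z * g) =
      (θ ⟨z, scalar_mem_torus C hC hcard z hz⟩ : ℂ) * cuspFun C α (fun c => (θ c : ℂ)) g := by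
  obtain ⟨r, hr⟩ := hz
  have hr2 : r ^ 2 = 1 := (sq_eq_four_of_scalar z r hr).2
  have hru : IsUnit r := by
    apply IsUnit.of_mul_eq_one r
    rw [← sq]; exact hr2
  have hc := hcompat ⟨z, scalar_mem_torus C hC hcard z ⟨r, hr⟩⟩ ⟨r, hr⟩
  simp only at hc
  have h00 : (z : Matrix (Fin 2) (Fin 2) F) 0 0 = r := by
    rw [hr]
    simp
  rw [h00] at hc
  unfold cuspFun
  rw [psFun_scalar_mul 1 z r hr, psFun_scalar_mul α z r hr, MulChar.one_apply hru,
    indFun_torus_scalar_mul C hC hcard θ z ⟨r, hr⟩, hc]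
  ring

theorem cuspChar_scalar_mul (hC : IsCyclic C) (hcard : Nat.card C = Fintype.card F + 1)
    (θ : C →* ℂˣ) (z : SpecialLinearGroup (Fin 2) F)
    (hz : ∃ r : F, (z : Matrix (Fin 2) (Fin 2) F) = r • (1 : Matrix (Fin 2) (Fin 2) F))
    (g : SpecialLinearGroup (Fin 2) F) :
    cuspChar C hC hcard θ (z * g) =
      (θ ⟨z, scalar_mem_torus C hC hcard z hz⟩ : ℂ) * cuspChar C hC hcard θ g :=
  cuspFun_scalar_mul C hC hcard _ θ (compatChar_spec C hC hcard θ) z hz g

end

end Cfsg.Agent.Lib.Helper5
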