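import Mathlib
import Cfsg.Prelude.Def_Characters
import Cfsg.Prelude.Def_DegreeGraph
import Cfsg.Agent.Lib.Helper5.SL2Degrees
import Cfsg.Agent.Lib.Helper5.SL2Central
import Cfsg.Agent.Lib.Helper5.SL2IrrList
import Cfsg.Agent.Lib.Helper5.SL2FamilyCount
import Cfsg.Agent.Lib.Helper8.Deflation

set_option autoImplicit false

namespace Cfsg.Agent.Lib.Helper5.PSL2Deg

open Matrix Cfsg.Agent.Lib.Helper5
open scoped ComplexConjugate

theorem charDegree_natCast {G : Type*} [Group G] {χ : G → ℂ} {n : ℕ} (h : χ 1 = (n : ℂ)) :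
    Cfsg.charDegree χ = n := by
  unfold Cfsg.charDegree
  rw [h]
  simp

/-- the possible degrees of the irreducible characters of `SL₂(q)` -/
def degSet (q : ℕ) : Set ℕ :=
  {d | d = 1 ∨ d = q ∨ d = q + 1 ∨ d = q - 1 ∨ (Odd q ∧ d = (q + 1) / 2) ∨
    (Odd q ∧ d = (q - 1) / 2)}

section
variable {F : Type*} [Field F] [Fintype F] [DecidableEq F]

theorem sl2_degree_mem {χ : SpecialLinearGroup (Fin 2) F → ℂ}
    (hχ : Cfsg.IsIrrCharacter (SpecialLinearGroup (Fin 2) F) χ) :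
    Cfsg.charDegree χ ∈ degSet (Fintype.card F) := by
  obtain ⟨C, hC, hcard⟩ := exists_torus (F := F)
  rcases irr_cases C hC hcard hχ with ⟨-, h⟩ | ⟨-, h⟩ | ⟨-, h⟩ | ⟨-, h⟩ | ⟨hodd, h⟩ | ⟨hodd, h⟩
  · exact Or.inl (charDegree_natCast h)
  · exact Or.inr (Or.inl (charDegree_natCast h))
  · exact Or.inr (Or.inr (Or.inl (charDegree_natCast h)))
  · exact Or.inr (Or.inr (Or.inr (Or.inl (charDegree_natCast h))))
  · exact Or.inr (Or.inr (Or.inr (Or.inr (Or.inl ⟨hodd, charDegree_natCast h⟩))))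
  · exact Or.inr (Or.inr (Or.inr (Or.inr (Or.inr ⟨hodd, charDegree_natCast h⟩))))

theorem psl2_degree_mem {χ : ProjectiveSpecialLinearGroup (Fin 2) F → ℂ}
    (hχ : Cfsg.IsIrrCharacter (ProjectiveSpecialLinearGroup (Fin 2) F) χ) :
    Cfsg.charDegree χ ∈ degSet (Fintype.card F) := by
  have h := Cfsg.Agent.Lib.Helper8.isIrrCharacter_inflation
    (Subgroup.center (SpecialLinearGroup (Fin 2) F)) hχ
  exact sl2_degree_mem h

/-- in a finite cyclic group whose order does not divide four, some square has order greater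
than two -/
theorem exists_sq_ne_inv {A : Type*} [Group A] [Finite A] (hA : IsCyclic A)
    (h4 : ¬ Nat.card A ∣ 4) : ∃ b : A, b * b ≠ (b * b)⁻¹ := by
  obtain ⟨b, hb⟩ := hA.exists_generator
  refine ⟨b, ?_⟩
  intro h
  apply h4
  have h1 : b ^ 4 = 1 := by
    have : (b * b) * (b * b) = 1 := by
      nth_rewrite 2 [h]
      exact mul_inv_cancel _
    rw [← this, pow_succ, pow_succ, pow_succ, pow_one, mul_assoc (b * b)]
  have h2 : orderOf b = Nat.card A := orderOf_eq_card_of_forall_mem_zpowers hb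
  rw [← h2]
  exact orderOf_dvd_of_pow_eq_one h1

/-- central elements of `SL₂` square to one -/
theorem central_sq (z : SpecialLinearGroup (Fin 2) F)
    (hz : z ∈ Subgroup.center (SpecialLinearGroup (Fin 2) F)) :
    ∃ r : F, (z : Matrix (Fin 2) (Fin 2) F) = r • (1 : Matrix (Fin 2) (Fin 2) F) ∧ r * r = 1 ∧
      z * z = 1 := by
  obtain ⟨r, hr⟩ := (mem_center_iff_scalar z).1 hz
  have h2 : r ^ 2 = 1 := (sq_eq_four_of_scalar z r hr).2
  refine ⟨r, hr, by rw [← sq]; exact h2, ?_⟩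
  apply Subtype.ext
  show (z : Matrix (Fin 2) (Fin 2) F) * (z : Matrix (Fin 2) (Fin 2) F) = 1
  rw [hr, Matrix.smul_mul, Matrix.mul_smul, Matrix.one_mul, smul_smul, ← sq, h2, one_smul]

theorem exists_irr_q : ∃ χ : SpecialLinearGroup (Fin 2) F → ℂ,
    Cfsg.IsIrrCharacter (SpecialLinearGroup (Fin 2) F) χ ∧ χ 1 = (Fintype.card F : ℂ) ∧
      ∀ z ∈ Subgroup.center (SpecialLinearGroup (Fin 2) F), χ z = χ 1 := by
  refine ⟨stFun, isIrrCharacter_stFun, stFun_one, ?_⟩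
  intro z hz
  obtain ⟨r, hr, hr2, -⟩ := central_sq z hz
  unfold stFun
  have h1 := psFun_scalar_mul (1 : MulChar F ℂ) z r hr 1
  rw [mul_one] at h1
  have hru : IsUnit r := IsUnit.of_mul_eq_one r hr2
  rw [h1, MulChar.one_apply hru, one_mul]

theorem exists_irr_q_add_one (h4 : ¬ (Fintype.card F - 1) ∣ 4) :
    ∃ χ : SpecialLinearGroup (Fin 2) F → ℂ,
    Cfsg.IsIrrCharacter (SpecialLinearGroup (Fin 2) F) χ ∧ χ 1 = (Fintype.card F : ℂ) + 1 ∧
      ∀ z ∈ Subgroup.center (SpecialLinearGroup (Fin 2) F), χ z = χ 1 := by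
  have hcyc := isCyclic_mulChar (F := F)
  have hcard : ¬ Nat.card (MulChar F ℂ) ∣ 4 := by rw [card_mulChar]; exact h4
  obtain ⟨γ, hγ⟩ := exists_sq_ne_inv hcyc hcard
  refine ⟨psFun (γ * γ), isIrrCharacter_psFun hγ, psFun_apply_one _, ?_⟩
  intro z hz
  obtain ⟨r, hr, hr2, -⟩ := central_sq z hz
  have h1 := psFun_scalar_mul (γ * γ) z r hr 1
  rw [mul_one] at h1
  rw [h1, MulChar.mul_apply, ← map_mul, hr2, map_one, one_mul]

theorem exists_irr_q_sub_one (h4 : ¬ (Fintype.card F + 1) ∣ 4) :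
    ∃ χ : SpecialLinearGroup (Fin 2) F → ℂ,
    Cfsg.IsIrrCharacter (SpecialLinearGroup (Fin 2) F) χ ∧ χ 1 = (Fintype.card F : ℂ) - 1 ∧
      ∀ z ∈ Subgroup.center (SpecialLinearGroup (Fin 2) F), χ z = χ 1 := by
  obtain ⟨C, hC, hcard⟩ := exists_torus (F := F)
  have hcyc := isCyclic_torusHom C hC
  have hcard' : ¬ Nat.card (C →* ℂˣ) ∣ 4 := by rw [card_torusHom C hC, hcard]; exact h4
  obtain ⟨δ, hδ⟩ := exists_sq_ne_inv hcyc hcard'
  refine ⟨cuspChar C hC hcard (δ * δ), isIrrCharacter_cuspChar C hC hcard hδ,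
    cuspChar_apply_one C hC hcard _, ?_⟩
  intro z hz
  obtain ⟨r, hr, -, hzz⟩ := central_sq z hz
  have h1 := cuspChar_scalar_mul C hC hcard (δ * δ) z ⟨r, hr⟩ 1
  rw [mul_one] at h1
  rw [h1]
  have h2 : ((δ * δ) ⟨z, scalar_mem_torus C hC hcard z ⟨r, hr⟩⟩ : ℂˣ) = 1 := by
    rw [MonoidHom.mul_apply, ← map_mul]
    have : (⟨z, scalar_mem_torus C hC hcard z ⟨r, hr⟩⟩ : C) *
        ⟨z, scalar_mem_torus C hC hcard z ⟨r, hr⟩⟩ = 1 := Subtype.ext hzz
    rw [this, map_one]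
  rw [h2, Units.val_one, one_mul]

end

section transfer

theorem mem_charDegrees_of_irr {G : Type*} [Group G] {χ : G → ℂ} (hχ : Cfsg.IsIrrCharacter G χ)
    {n : ℕ} (h : χ 1 = (n : ℂ)) : n ∈ Cfsg.charDegrees G :=
  ⟨⟨χ, hχ⟩, charDegree_natCast h⟩

theorem isIrr_comp_equiv {S : Type*} {T : Type*} [Group S] [Group T] (e : S ≃* T) {χ : T → ℂ}
    (hχ : Cfsg.IsIrrCharacter T χ) : Cfsg.IsIrrCharacter S (fun s => χ (e s)) := by
  obtain ⟨n, ρ, hirr, rfl⟩ := hχ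
  exact ⟨n, ρ.comp e.toMonoidHom,
    Cfsg.Agent.Lib.Helper1.isIrreducible_comp_surjective ρ hirr e.toMonoidHom e.surjective, rfl⟩

theorem charDegrees_congr {S : Type*} {T : Type*} [Group S] [Group T] (e : S ≃* T) :
    Cfsg.charDegrees S = Cfsg.charDegrees T := by
  ext d
  constructor
  · rintro ⟨χ, hd⟩
    refine ⟨⟨fun t => χ.1 (e.symm t), isIrr_comp_equiv e.symm χ.2⟩, ?_⟩
    rw [← hd]
    unfold Cfsg.charDegree
    simp
  · rintro ⟨χ, hd⟩
    refine ⟨⟨fun t => χ.1 (e t), isIrr_comp_equiv e χ.2⟩, ?_⟩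
    rw [← hd]
    unfold Cfsg.charDegree
    simp

end transfer

section degrees
variable {F : Type*} [Field F] [Fintype F] [DecidableEq F]

theorem charDegrees_SL2_subset :
    Cfsg.charDegrees (SpecialLinearGroup (Fin 2) F) ⊆ degSet (Fintype.card F) := by
  rintro d ⟨χ, rfl⟩
  exact sl2_degree_mem χ.2

theorem charDegrees_PSL2_subset :
    Cfsg.charDegrees (ProjectiveSpecialLinearGroup (Fin 2) F) ⊆ degSet (Fintype.card F) := by
  rintro d ⟨χ, rfl⟩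
  exact psl2_degree_mem χ.2

theorem mem_SL2_of_exists {n : ℕ} (h : ∃ χ : SpecialLinearGroup (Fin 2) F → ℂ,
    Cfsg.IsIrrCharacter (SpecialLinearGroup (Fin 2) F) χ ∧ χ 1 = (n : ℂ) ∧
      ∀ z ∈ Subgroup.center (SpecialLinearGroup (Fin 2) F), χ z = χ 1) :
    n ∈ Cfsg.charDegrees (SpecialLinearGroup (Fin 2) F) := by
  obtain ⟨χ, hχ, h1, -⟩ := h
  exact mem_charDegrees_of_irr hχ h1

theorem mem_PSL2_of_exists {n : ℕ} (h : ∃ χ : SpecialLinearGroup (Fin 2) F → ℂ,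
    Cfsg.IsIrrCharacter (SpecialLinearGroup (Fin 2) F) χ ∧ χ 1 = (n : ℂ) ∧
      ∀ z ∈ Subgroup.center (SpecialLinearGroup (Fin 2) F), χ z = χ 1) :
    n ∈ Cfsg.charDegrees (ProjectiveSpecialLinearGroup (Fin 2) F) := by
  obtain ⟨χ, hχ, h1, hz⟩ := h
  obtain ⟨ψ, hψ, hψχ⟩ := Cfsg.Agent.Lib.Helper8.exists_deflation
    (Subgroup.center (SpecialLinearGroup (Fin 2) F)) hχ hz
  apply mem_charDegrees_of_irr hψ
  have := hψχ 1
  rw [h1] at this
  exact this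

theorem exists_irr_q' : ∃ χ : SpecialLinearGroup (Fin 2) F → ℂ,
    Cfsg.IsIrrCharacter (SpecialLinearGroup (Fin 2) F) χ ∧ χ 1 = ((Fintype.card F : ℕ) : ℂ) ∧
      ∀ z ∈ Subgroup.center (SpecialLinearGroup (Fin 2) F), χ z = χ 1 := exists_irr_q

theorem exists_irr_q_add_one' (h4 : ¬ (Fintype.card F - 1) ∣ 4) :
    ∃ χ : SpecialLinearGroup (Fin 2) F → ℂ,
    Cfsg.IsIrrCharacter (SpecialLinearGroup (Fin 2) F) χ ∧ χ 1 = ((Fintype.card F + 1 : ℕ) : ℂ) ∧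
      ∀ z ∈ Subgroup.center (SpecialLinearGroup (Fin 2) F), χ z = χ 1 := by
  obtain ⟨χ, h1, h2, h3⟩ := exists_irr_q_add_one h4
  exact ⟨χ, h1, by rw [h2]; push_cast; rfl, h3⟩

theorem exists_irr_q_sub_one' (h4 : ¬ (Fintype.card F + 1) ∣ 4) :
    ∃ χ : SpecialLinearGroup (Fin 2) F → ℂ,
    Cfsg.IsIrrCharacter (SpecialLinearGroup (Fin 2) F) χ ∧ χ 1 = ((Fintype.card F - 1 : ℕ) : ℂ) ∧
      ∀ z ∈ Subgroup.center (SpecialLinearGroup (Fin 2) F), χ z = χ 1 := by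
  obtain ⟨χ, h1, h2, h3⟩ := exists_irr_q_sub_one h4
  refine ⟨χ, h1, ?_, h3⟩
  rw [h2, card_sub_one_cast]

/-- summary of the degree data of a group isomorphic to `PSL₂(q)` or `SL₂(q)` -/
theorem degree_data {S : Type*} [Group S]
    (hS : Nonempty (S ≃* ProjectiveSpecialLinearGroup (Fin 2) F) ∨
      Nonempty (S ≃* SpecialLinearGroup (Fin 2) F))
    (h4 : ¬ (Fintype.card F - 1) ∣ 4) (h4' : ¬ (Fintype.card F + 1) ∣ 4) :
    Cfsg.charDegrees S ⊆ degSet (Fintype.card F) ∧ Fintype.card F ∈ Cfsg.charDegrees S ∧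
      Fintype.card F + 1 ∈ Cfsg.charDegrees S ∧ Fintype.card F - 1 ∈ Cfsg.charDegrees S := by
  rcases hS with ⟨⟨e⟩⟩ | ⟨⟨e⟩⟩
  · rw [charDegrees_congr e]
    exact ⟨charDegrees_PSL2_subset, mem_PSL2_of_exists exists_irr_q',
      mem_PSL2_of_exists (exists_irr_q_add_one' h4), mem_PSL2_of_exists (exists_irr_q_sub_one' h4')⟩
  · rw [charDegrees_congr e]
    exact ⟨charDegrees_SL2_subset, mem_SL2_of_exists exists_irr_q',
      mem_SL2_of_exists (exists_irr_q_add_one' h4), mem_SL2_of_exists (exists_irr_q_sub_one' h4')⟩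

end degrees

end Cfsg.Agent.Lib.Helper5.PSL2Deg
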