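import Mathlib
import Cfsg.Agent.Lib.Helper5.PSL2Deg1

set_option autoImplicit false

namespace Cfsg.Agent.Lib.Helper5.PSL2Deg

theorem sq_sub_one (q : ℕ) (hq : 1 ≤ q) : q ^ 2 - 1 = (q - 1) * (q + 1) := by
  obtain ⟨k, rfl⟩ : ∃ k, q = k + 1 := ⟨q - 1, by omega⟩
  have : (k + 1) ^ 2 = (k + 1 - 1) * (k + 1 + 1) + 1 := by
    rw [Nat.add_sub_cancel]; ring
  rw [this, Nat.add_sub_cancel]

theorem half_dvd_add (q : ℕ) (hodd : Odd q) : (q + 1) / 2 ∣ q + 1 := by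
  obtain ⟨k, rfl⟩ := hodd
  exact ⟨2, by omega⟩

theorem half_dvd_sub (q : ℕ) (hodd : Odd q) : (q - 1) / 2 ∣ q - 1 := by
  obtain ⟨k, rfl⟩ := hodd
  exact ⟨2, by omega⟩

/-- the vertices of the degree graph -/
theorem primes_eq (q : ℕ) (hq : 1 ≤ q) (cd : Set ℕ) (hsub : cd ⊆ degSet q) (h1 : q ∈ cd)
    (h2 : q + 1 ∈ cd) (h3 : q - 1 ∈ cd) :
    {p : ℕ | p.Prime ∧ ∃ d ∈ cd, p ∣ d} = {r : ℕ | r.Prime ∧ r ∣ q * (q ^ 2 - 1)} := by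
  ext r
  simp only [Set.mem_setOf_eq]
  rw [sq_sub_one q hq]
  constructor
  · rintro ⟨hr, d, hd, hrd⟩
    refine ⟨hr, ?_⟩
    rcases hsub hd with h | h | h | h | ⟨hodd, h⟩ | ⟨hodd, h⟩
    · rw [h] at hrd
      exact absurd (Nat.dvd_one.1 hrd) hr.one_lt.ne'
    · rw [h] at hrd
      exact Dvd.dvd.mul_right hrd _
    · rw [h] at hrd
      exact Dvd.dvd.mul_left (Dvd.dvd.mul_left hrd _) _
    · rw [h] at hrd
      exact Dvd.dvd.mul_left (Dvd.dvd.mul_right hrd _) _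
    · rw [h] at hrd
      exact Dvd.dvd.mul_left (Dvd.dvd.mul_left (hrd.trans (half_dvd_add q hodd)) _) _
    · rw [h] at hrd
      exact Dvd.dvd.mul_left (Dvd.dvd.mul_right (hrd.trans (half_dvd_sub q hodd)) _) _
  · rintro ⟨hr, hrd⟩
    refine ⟨hr, ?_⟩
    rcases (Nat.Prime.dvd_mul hr).1 hrd with h | h
    · exact ⟨q, h1, h⟩
    · rcases (Nat.Prime.dvd_mul hr).1 h with h | h
      · exact ⟨q - 1, h3, h⟩
      · exact ⟨q + 1, h2, h⟩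

theorem eq_of_dvd_prime_pow {t k r : ℕ} (ht : t.Prime) (hr : r.Prime) (h : r ∣ t ^ k) : r = t :=
  (Nat.prime_dvd_prime_iff_eq hr ht).1 (hr.dvd_of_dvd_pow h)

theorem mul_dvd_of_primes {r s n : ℕ} (hr : r.Prime) (hs : s.Prime) (hrs : r ≠ s) (h1 : r ∣ n)
    (h2 : s ∣ n) : r * s ∣ n :=
  Nat.Coprime.mul_dvd_of_dvd_of_dvd ((Nat.coprime_primes hr hs).2 hrs) h1 h2

/-- adjacency in the degree graph, odd characteristic -/
theorem adj_iff_odd (t q k : ℕ) (ht : t.Prime) (hqt : q = t ^ k) (hq : 1 ≤ q) (hodd : Odd q)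
    (cd : Set ℕ) (hsub : cd ⊆ degSet q) (h2 : q + 1 ∈ cd) (h3 : q - 1 ∈ cd) (r s : ℕ) :
    (r ≠ s ∧ r.Prime ∧ s.Prime ∧ ∃ d ∈ cd, r * s ∣ d) ↔
      (r ≠ s ∧ r.Prime ∧ s.Prime ∧ r ∣ q ^ 2 - 1 ∧ s ∣ q ^ 2 - 1 ∧
        (r = 2 ∨ s = 2 ∨ (r ∣ q + 1 ∧ s ∣ q + 1) ∨ (r ∣ q - 1 ∧ s ∣ q - 1))) := by
  rw [sq_sub_one q hq]
  constructor
  · rintro ⟨hrs, hr, hs, d, hd, hrsd⟩
    have hrd : r ∣ d := (Dvd.intro _ rfl).trans hrsd
    have hsd : s ∣ d := (Dvd.intro_left _ rfl).trans hrsd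
    refine ⟨hrs, hr, hs, ?_⟩
    rcases hsub hd with h | h | h | h | ⟨-, h⟩ | ⟨-, h⟩
    · rw [h] at hrd
      exact absurd (Nat.dvd_one.1 hrd) hr.one_lt.ne'
    · rw [h, hqt] at hrd hsd
      exact absurd ((eq_of_dvd_prime_pow ht hr hrd).trans (eq_of_dvd_prime_pow ht hs hsd).symm) hrs
    · rw [h] at hrd hsd
      exact ⟨Dvd.dvd.mul_left hrd _, Dvd.dvd.mul_left hsd _, Or.inr (Or.inr (Or.inl ⟨hrd, hsd⟩))⟩
    · rw [h] at hrd hsd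
      exact ⟨Dvd.dvd.mul_right hrd _, Dvd.dvd.mul_right hsd _,
        Or.inr (Or.inr (Or.inr ⟨hrd, hsd⟩))⟩
    · rw [h] at hrd hsd
      have hrd' := hrd.trans (half_dvd_add q hodd)
      have hsd' := hsd.trans (half_dvd_add q hodd)
      exact ⟨Dvd.dvd.mul_left hrd' _, Dvd.dvd.mul_left hsd' _,
        Or.inr (Or.inr (Or.inl ⟨hrd', hsd'⟩))⟩
    · rw [h] at hrd hsd
      have hrd' := hrd.trans (half_dvd_sub q hodd)
      have hsd' := hsd.trans (half_dvd_sub q hodd)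
      exact ⟨Dvd.dvd.mul_right hrd' _, Dvd.dvd.mul_right hsd' _,
        Or.inr (Or.inr (Or.inr ⟨hrd', hsd'⟩))⟩
  · rintro ⟨hrs, hr, hs, hr1, hs1, hcase⟩
    refine ⟨hrs, hr, hs, ?_⟩
    have h2a : 2 ∣ q + 1 := by
      obtain ⟨j, hj⟩ := hodd
      exact ⟨j + 1, by omega⟩
    have h2b : 2 ∣ q - 1 := by
      obtain ⟨j, hj⟩ := hodd
      exact ⟨j, by omega⟩
    have key : ∀ a : ℕ, a.Prime → a ≠ 2 → a ∣ (q - 1) * (q + 1) → ∃ d ∈ cd, 2 * a ∣ d := by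
      intro a ha ha2 hdiv
      rcases (Nat.Prime.dvd_mul ha).1 hdiv with h | h
      · exact ⟨q - 1, h3, mul_dvd_of_primes Nat.prime_two ha (Ne.symm ha2) h2b h⟩
      · exact ⟨q + 1, h2, mul_dvd_of_primes Nat.prime_two ha (Ne.symm ha2) h2a h⟩
    rcases hcase with h | h | ⟨ha, hb⟩ | ⟨ha, hb⟩
    · subst h
      exact key s hs (Ne.symm hrs) hs1
    · subst h
      obtain ⟨d, hd, hdd⟩ := key r hr hrs hr1
      exact ⟨d, hd, by rw [mul_comm]; exact hdd⟩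
    · exact ⟨q + 1, h2, mul_dvd_of_primes hr hs hrs ha hb⟩
    · exact ⟨q - 1, h3, mul_dvd_of_primes hr hs hrs ha hb⟩

/-- adjacency in the degree graph, characteristic two -/
theorem adj_iff_even (q k : ℕ) (hqt : q = 2 ^ k) (hq : 2 ≤ q)
    (cd : Set ℕ) (hsub : cd ⊆ degSet q) (h2 : q + 1 ∈ cd) (h3 : q - 1 ∈ cd) (r s : ℕ) :
    (r ≠ s ∧ r.Prime ∧ s.Prime ∧ ∃ d ∈ cd, r * s ∣ d) ↔
      (r ≠ s ∧ r.Prime ∧ s.Prime ∧ ((r ∣ q + 1 ∧ s ∣ q + 1) ∨ (r ∣ q - 1 ∧ s ∣ q - 1))) := by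
  have heven : ¬ Odd q := by
    rw [Nat.not_odd_iff_even, hqt]
    have hk : k ≠ 0 := by
      rintro rfl
      rw [pow_zero] at hqt
      omega
    exact (Nat.even_pow' hk).2 even_two
  constructor
  · rintro ⟨hrs, hr, hs, d, hd, hrsd⟩
    have hrd : r ∣ d := (Dvd.intro _ rfl).trans hrsd
    have hsd : s ∣ d := (Dvd.intro_left _ rfl).trans hrsd
    refine ⟨hrs, hr, hs, ?_⟩
    rcases hsub hd with h | h | h | h | ⟨ho, -⟩ | ⟨ho, -⟩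
    · rw [h] at hrd
      exact absurd (Nat.dvd_one.1 hrd) hr.one_lt.ne'
    · rw [h, hqt] at hrd hsd
      exact absurd ((eq_of_dvd_prime_pow Nat.prime_two hr hrd).trans
        (eq_of_dvd_prime_pow Nat.prime_two hs hsd).symm) hrs
    · rw [h] at hrd hsd
      exact Or.inl ⟨hrd, hsd⟩
    · rw [h] at hrd hsd
      exact Or.inr ⟨hrd, hsd⟩
    · exact absurd ho heven
    · exact absurd ho heven
  · rintro ⟨hrs, hr, hs, hcase⟩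
    refine ⟨hrs, hr, hs, ?_⟩
    rcases hcase with ⟨ha, hb⟩ | ⟨ha, hb⟩
    · exact ⟨q + 1, h2, mul_dvd_of_primes hr hs hrs ha hb⟩
    · exact ⟨q - 1, h3, mul_dvd_of_primes hr hs hrs ha hb⟩

end Cfsg.Agent.Lib.Helper5.PSL2Deg
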