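import Mathlib
import Cfsg.Agent.Lib.Helper5.PSUAut9

set_option autoImplicit false

/-! The determinant image of the centralizer of an involutory graph automorphism of `PSU_n`. -/

namespace Cfsg.Agent.Lib.Helper5.PSUAut

open Matrix Matrix.SpecialLinearGroup Cfsg.Agent.Lib.Helper5.SLnAut Cfsg.Agent.Lib.Helper5.PGO
  Cfsg.Agent.Lib.Helper5.PSLCoset Cfsg.Agent.Lib.Helper5.GraphInv

section
variable {n : ℕ} {F : Type*} [Field F] {F₀ : Type*} [Field F₀] {ι : F₀ →+* F} {σ : F ≃+* F}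

theorem descend_smul' (hd : Desc ι σ) (A₀ B₀ : Matrix (Fin n) (Fin n) F₀)
    (hB : B₀.map ι ≠ 0) (c : F) (h : A₀.map ι = c • B₀.map ι) :
    ∃ c₀ : F₀, ι c₀ = c ∧ A₀ = c₀ • B₀ := by
  have h1 := hd.fixed_of_smul (B₀.map ι) (A₀.map ι) (hd.map_iota _) (hd.map_iota _) hB c h.symm
  obtain ⟨c₀, hc₀⟩ := (hd.fixed c).1 h1
  refine ⟨c₀, hc₀, ?_⟩
  apply map_iota_inj (ι := ι)
  rw [h, ← hc₀]
  ext i j
  simp

end

section
variable {n : ℕ} {F : Type*} [Field F] [Fintype F] {q : ℕ} {F₀ : Type*} [Field F₀]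
  {ι : F₀ →+* F} {σ : F ≃+* F}

theorem mem_commSub_rhoGU (g : ↥(Cfsg.GU n F q)) (x : MulAut (Cfsg.PSU n F q)) :
    g ∈ commSub (rhoGU n F q) x ↔
      (⟨(g : GL (Fin n) F), GU_le_CU g.2⟩ : ↥(CU n F q)) ∈
        commSub (cjC (n := n) (F := F) (q := q)) x := by
  rw [mem_commSub, mem_commSub, rhoGU_apply]

theorem mem_DU_iff (hF : Fintype.card F = q ^ 2) (hn : 3 ≤ n)
    (hσq : ∀ a : F, σ a = a ^ q) (hd : Desc ι σ)
    (γ : MulAut (Cfsg.PSU n F q)) (M₀ : Matrix (Fin n) (Fin n) F₀) (hrel : Rel ι σ γ M₀)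
    (u : ↥(U1 F q)) :
    u ∈ (commSub (rhoGU n F q) γ).map (detGU hF n) ↔
      ∃ (K₀ : GL (Fin n) F₀) (c₀ : F₀) (w : F),
        (K₀ : Matrix (Fin n) (Fin n) F₀)ᵀ * M₀ * (K₀ : Matrix (Fin n) (Fin n) F₀) = c₀ • M₀ ∧
        w * σ w * ι c₀ = 1 ∧
        ((u : Fˣ) : F) = w ^ n * ι (K₀ : Matrix (Fin n) (Fin n) F₀).det := by
  haveI : Nonempty (Fin n) := ⟨⟨0, by omega⟩⟩
  obtain ⟨a, P, κ, hκ, rfl, haP, hPM⟩ := hrel
  obtain ⟨X, hX⟩ : ∃ X : Matrix (Fin n) (Fin n) F, X = (P : Matrix (Fin n) (Fin n) F) :=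
    ⟨_, rfl⟩
  obtain ⟨A, hA⟩ : ∃ A : Matrix (Fin n) (Fin n) F,
      A = ((a : GL (Fin n) F) : Matrix (Fin n) (Fin n) F) := ⟨_, rfl⟩
  rw [← hX] at haP hPM
  rw [← hA] at haP
  have hM₀0 : M₀.map ι ≠ 0 := by
    intro h0
    have h1 : (Xᵀ * X.map σ).det ≠ 0 := by
      rw [Matrix.det_mul, Matrix.det_transpose, det_map_sigma, hX]
      exact mul_ne_zero (det_ne_zero_of_GL P)
        ((map_ne_zero_iff _ σ.injective).2 (det_ne_zero_of_GL P))
    rw [hPM, h0, smul_zero, Matrix.det_zero] at h1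
    exact h1 rfl
  constructor
  · rintro ⟨g, hg, rfl⟩
    rw [SetLike.mem_coe, mem_commSub_rhoGU, mem_commSub_gamU hF hn] at hg
    obtain ⟨z, hz0, hz⟩ := hg
    obtain ⟨G, hG⟩ : ∃ G : Matrix (Fin n) (Fin n) F,
        G = ((g : GL (Fin n) F) : Matrix (Fin n) (Fin n) F) := ⟨_, rfl⟩
    have hz' : G * A = z • (A * G.map σ) := by
      rw [hG, hA]
      exact hz
    obtain ⟨K, hK⟩ : ∃ K : Matrix (Fin n) (Fin n) F,
        K = ((P⁻¹ * (g : GL (Fin n) F) * P : GL (Fin n) F) : Matrix (Fin n) (Fin n) F) :=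
      ⟨_, rfl⟩
    have hXK : X * K = G * X := by
      rw [hK, hX, hG, ← Units.val_mul, ← Units.val_mul]
      congr 1
      group
    have hKσ : K = z • K.map σ := by
      apply (Units.mul_right_inj P).1
      rw [← hX, Matrix.mul_smul, hXK]
      calc G * X = G * A * X.map σ := by rw [Matrix.mul_assoc, haP]
        _ = z • (A * (G * X).map σ) := by
            rw [hz', Matrix.smul_mul, Matrix.map_mul, Matrix.mul_assoc]
        _ = z • (X * K.map σ) := by
            rw [← hXK, Matrix.map_mul, ← Matrix.mul_assoc, haP]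
    have hKdet : K.det ≠ 0 := by rw [hK]; exact det_ne_zero_of_GL _
    have hK0 : K ≠ 0 := by
      intro h0
      rw [h0, Matrix.det_zero] at hKdet
      exact hKdet rfl
    obtain ⟨w, hw0, K₀, hK₀⟩ := hd.exists_smul_map K hK0 z hKσ
    have hK₀det : K₀.det ≠ 0 := by
      intro h0
      apply hKdet
      rw [hK₀, Matrix.det_smul, det_map_iota, h0, map_zero, mul_zero]
    obtain ⟨g₀, hg₀⟩ : ∃ g₀ : GL (Fin n) F₀, (g₀ : Matrix (Fin n) (Fin n) F₀) = K₀ :=
      ⟨Matrix.GeneralLinearGroup.mkOfDetNeZero K₀ hK₀det, rfl⟩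
    have hGU : Gᵀ * G.map σ = 1 := by
      rw [hG]
      exact (mem_GU_iff σ q hσq (g : GL (Fin n) F)).1 g.2
    have hμ : (G * X)ᵀ * (G * X).map σ = Xᵀ * X.map σ := by
      rw [gram_mul', hGU, Matrix.mul_one]
    rw [← hXK, gram_mul, hPM, hK₀, gram_smul_iota hd] at hμ
    have hσw : σ w ≠ 0 := (map_ne_zero_iff _ σ.injective).2 hw0
    have hne : w * σ w * κ ≠ 0 := mul_ne_zero (mul_ne_zero hw0 hσw) hκ
    obtain ⟨c₀, hc₀ι, hc₀⟩ := descend_smul' hd (K₀ᵀ * M₀ * K₀) M₀ hM₀0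
      ((w * σ w * κ)⁻¹ * κ) (by
        rw [← smul_smul, ← hμ, smul_smul, inv_mul_cancel₀ hne, one_smul])
    refine ⟨g₀, c₀, w, by rw [hg₀, hc₀], ?_, ?_⟩
    · rw [hc₀ι]
      field_simp
    · rw [detGU_coe, Matrix.GeneralLinearGroup.val_det_apply, ← hG, hg₀]
      have h1 : K.det = G.det := by
        have := congrArg Matrix.det hXK
        rw [Matrix.det_mul, Matrix.det_mul, mul_comm] at this
        have hXdet : X.det ≠ 0 := by rw [hX]; exact det_ne_zero_of_GL P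
        exact mul_right_cancel₀ hXdet this
      rw [← h1, hK₀, Matrix.det_smul, det_map_iota, Fintype.card_fin]
  · rintro ⟨K₀, c₀, w, hK₀, hw, hu⟩
    have hw0 : w ≠ 0 := by
      intro h0
      rw [h0, zero_mul, zero_mul] at hw
      exact zero_ne_one hw
    have hσw : σ w ≠ 0 := (map_ne_zero_iff _ σ.injective).2 hw0
    obtain ⟨gl, hgl⟩ : ∃ gl : GL (Fin n) F,
        gl = Matrix.GeneralLinearGroup.scalar (Fin n) (Units.mk0 w hw0)
          * (P * Matrix.GeneralLinearGroup.map ι K₀ * P⁻¹) := ⟨_, rfl⟩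
    obtain ⟨G, hG⟩ : ∃ G : Matrix (Fin n) (Fin n) F, G = (gl : Matrix (Fin n) (Fin n) F) :=
      ⟨_, rfl⟩
    have hGX : G * X = w • (X * (K₀ : Matrix (Fin n) (Fin n) F₀).map ι) := by
      rw [hG, hgl, hX, Units.val_mul, Matrix.GeneralLinearGroup.coe_scalar, Matrix.scalar_apply,
        ← Matrix.smul_eq_diagonal_mul, Units.val_mk0, Matrix.smul_mul, ← Units.val_mul,
        inv_mul_cancel_right, Units.val_mul]
      rfl
    have hGX' : G * X = X * (w • (K₀ : Matrix (Fin n) (Fin n) F₀).map ι) := by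
      rw [hGX, Matrix.mul_smul]
    have hgram : (G * X)ᵀ * (G * X).map σ = Xᵀ * X.map σ := by
      rw [hGX', gram_mul, hPM, gram_smul_iota hd, hK₀]
      have : (c₀ • M₀).map ι = ι c₀ • M₀.map ι := by
        ext i j
        simp
      rw [this, smul_smul]
      have h1 : w * σ w * κ * ι c₀ = κ := by linear_combination κ * hw
      rw [h1]
    have hmemGU : gl ∈ Cfsg.GU n F q := by
      rw [mem_GU_iff σ q hσq, ← hG]
      apply cancel_both (tauGL P)⁻¹ (Matrix.GeneralLinearGroup.map (σ : F →+* F) P)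
      rw [tauGL_inv_coe, mapGL_coe, ← hX, ← gram_mul', hgram, Matrix.mul_one]
    refine ⟨⟨gl, hmemGU⟩, ?_, ?_⟩
    · rw [SetLike.mem_coe, mem_commSub_rhoGU, mem_commSub_gamU hF hn]
      refine ⟨w / σ w, div_ne_zero hw0 hσw, ?_⟩
      rw [← hA]
      show (gl : Matrix (Fin n) (Fin n) F) * A
        = (w / σ w) • (A * (gl : Matrix (Fin n) (Fin n) F).map σ)
      rw [← hG]
      apply (Units.mul_left_inj (Matrix.GeneralLinearGroup.map (σ : F →+* F) P)).1
      rw [mapGL_coe, ← hX, Matrix.mul_assoc, haP, Matrix.smul_mul, Matrix.mul_assoc,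
        ← Matrix.map_mul, hGX]
      have h1 : (w • (X * (K₀ : Matrix (Fin n) (Fin n) F₀).map ι)).map σ
          = σ w • (X.map σ * (K₀ : Matrix (Fin n) (Fin n) F₀).map ι) := by
        have h2 : ∀ Y : Matrix (Fin n) (Fin n) F, (w • Y).map σ = σ w • Y.map σ := by
          intro Y
          ext i j
          simp
        rw [h2, Matrix.map_mul, hd.map_iota]
      rw [h1, Matrix.mul_smul, ← Matrix.mul_assoc, haP, smul_smul, div_mul_cancel₀ _ hσw]
    · apply Subtype.ext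
      apply Units.ext
      rw [detGU_coe, Matrix.GeneralLinearGroup.val_det_apply, hu]
      show (gl : Matrix (Fin n) (Fin n) F).det = _
      rw [← hG]
      have hXdet : X.det ≠ 0 := by rw [hX]; exact det_ne_zero_of_GL P
      have := congrArg Matrix.det hGX
      rw [Matrix.det_mul, Matrix.det_smul, Matrix.det_mul, det_map_iota, Fintype.card_fin] at this
      apply mul_right_cancel₀ hXdet
      rw [this]
      ring

end

end Cfsg.Agent.Lib.Helper5.PSUAut
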