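import Mathlib
import Cfsg.Agent.Lib.Helper5.PSUAut10
import Cfsg.Agent.S2702

set_option autoImplicit false

/-! Similitudes of symmetric and skew-symmetric matrices with prescribed multiplier and
determinant. -/

namespace Cfsg.Agent.Lib.Helper5.PSUAut

open Matrix Cfsg.Agent.Lib.Helper5.PGO Cfsg.Agent.Lib.Helper5.GraphInv Cfsg.Agent.S2703
  Cfsg.Agent.S2700 Cfsg.Agent.Lib.Helper5.GraphSplit Cfsg.Agent.Lib.Helper2
  Cfsg.Agent.Lib.Helper2.CDG Cfsg.Agent.Lib.Helper5.QuadGlue Cfsg.Agent.Lib.Helper2.QuadStd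
  Cfsg.Agent.Lib.Helper5.QuadEmbed

section mats
variable {ι : Type} [Fintype ι] [DecidableEq ι] {F : Type*} [Field F]

theorem matSim_of_bil (A K : Matrix ι ι F) (c : F)
    (h : ∀ u v, (K *ᵥ u) ⬝ᵥ (A *ᵥ (K *ᵥ v)) = c * (u ⬝ᵥ (A *ᵥ v))) : Kᵀ * A * K = c • A := by
  ext i j
  have h1 := h (Pi.single i 1) (Pi.single j 1)
  rw [dot_mulVec_mul, Matrix.mulVec_single_one, single_one_dotProduct,
    Matrix.mulVec_single_one, single_one_dotProduct] at h1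
  exact h1

theorem bil_of_matSim (A K : Matrix ι ι F) (c : F) (h : Kᵀ * A * K = c • A) (u v : ι → F) :
    (K *ᵥ u) ⬝ᵥ (A *ᵥ (K *ᵥ v)) = c * (u ⬝ᵥ (A *ᵥ v)) := by
  rw [dot_mulVec_mul, h, Matrix.smul_mulVec, dotProduct_smul, smul_eq_mul]

end mats

section mats2
variable {n : ℕ} {F : Type*} [Field F]

theorem matSim_of_quad (h2 : (2 : F) ≠ 0) (A : Matrix (Fin n) (Fin n) F) (hA : Aᵀ = A)
    (K : Matrix (Fin n) (Fin n) F) (c : F)
    (h : ∀ v, (K *ᵥ v) ⬝ᵥ (A *ᵥ (K *ᵥ v)) = c * (v ⬝ᵥ (A *ᵥ v))) : Kᵀ * A * K = c • A := by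
  have hS : (Kᵀ * A * K - c • A)ᵀ = Kᵀ * A * K - c • A := by
    rw [Matrix.transpose_sub, Matrix.transpose_mul, Matrix.transpose_mul,
      Matrix.transpose_transpose, Matrix.transpose_smul, hA, Matrix.mul_assoc]
  have h0 := eq_smul_one_of_quad h2 _ hS 0 (by
    intro v
    rw [Matrix.sub_mulVec, dotProduct_sub, ← dot_mulVec_mul, Matrix.smul_mulVec,
      dotProduct_smul, smul_eq_mul, zero_mul, sub_eq_zero]
    exact h v)
  rw [zero_smul, sub_eq_zero] at h0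
  exact h0

end mats2

section transport
variable {ι₁ ι₂ : Type} [Fintype ι₁] [DecidableEq ι₁] [Fintype ι₂] [DecidableEq ι₂]
  {F : Type*} [Field F]

theorem sim_pull (E : (ι₁ → F) ≃ₗ[F] (ι₂ → F)) (f₁ : (ι₁ → F) → (ι₁ → F) → F)
    (f₂ : (ι₂ → F) → (ι₂ → F) → F) (hE : ∀ u v, f₂ (E u) (E v) = f₁ u v)
    (g : GL ι₂ F) (c : F)
    (hc : ∀ x y, f₂ ((g : Matrix ι₂ ι₂ F) *ᵥ x) ((g : Matrix ι₂ ι₂ F) *ᵥ y) = c * f₂ x y) :
    ∃ K : GL ι₁ F, (K : Matrix ι₁ ι₁ F).det = (g : Matrix ι₂ ι₂ F).det ∧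
      ∀ u v, f₁ ((K : Matrix ι₁ ι₁ F) *ᵥ u) ((K : Matrix ι₁ ι₁ F) *ᵥ v) = c * f₁ u v := by
  have h1 : LinearMap.toMatrix' E.toLinearMap * LinearMap.toMatrix' E.symm.toLinearMap = 1 := by
    rw [← LinearMap.toMatrix'_comp, LinearEquiv.comp_symm, LinearMap.toMatrix'_id]
  have h2 : LinearMap.toMatrix' E.symm.toLinearMap * LinearMap.toMatrix' E.toLinearMap = 1 := by
    rw [← LinearMap.toMatrix'_comp, LinearEquiv.symm_comp, LinearMap.toMatrix'_id]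
  refine ⟨glCongr _ _ h2 h1 g, ?_, fun u v => ?_⟩
  · have := det_glCongr _ _ h2 h1 g
    rw [← Matrix.GeneralLinearGroup.val_det_apply, ← Matrix.GeneralLinearGroup.val_det_apply,
      this]
  have hK : ∀ w, E (((glCongr _ _ h2 h1 g : GL ι₁ F) : Matrix ι₁ ι₁ F) *ᵥ w)
      = (g : Matrix ι₂ ι₂ F) *ᵥ (E w) := by
    intro w
    rw [glCongr_coe, ← Matrix.mulVec_mulVec, ← Matrix.mulVec_mulVec, LinearMap.toMatrix'_mulVec,
      LinearMap.toMatrix'_mulVec]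
    simp
  rw [← hE, hK, hK, hc, hE]

theorem qsim_pull (E : (ι₁ → F) ≃ₗ[F] (ι₂ → F)) (Q₁ : (ι₁ → F) → F)
    (Q₂ : (ι₂ → F) → F) (hE : ∀ v, Q₂ (E v) = Q₁ v)
    (g : GL ι₂ F) (c : F)
    (hc : ∀ x, Q₂ ((g : Matrix ι₂ ι₂ F) *ᵥ x) = c * Q₂ x) :
    ∃ K : GL ι₁ F, (K : Matrix ι₁ ι₁ F).det = (g : Matrix ι₂ ι₂ F).det ∧
      ∀ v, Q₁ ((K : Matrix ι₁ ι₁ F) *ᵥ v) = c * Q₁ v := by
  obtain ⟨K, hK, h⟩ := sim_pull E (fun u _ => Q₁ u) (fun u _ => Q₂ u) (fun u _ => hE u) g c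
    (fun x _ => hc x)
  exact ⟨K, hK, fun v => h v v⟩

end transport

section skew
variable {F : Type*} [Field F] [Fintype F] {n m : ℕ}

theorem skew_det (h2 : (2 : F) ≠ 0) (hnm : n = 2 * m) (A : Matrix (Fin n) (Fin n) F)
    (hA : Aᵀ = -A) (hdet : A.det ≠ 0) (K : GL (Fin n) F) (c : F) (hc0 : c ≠ 0)
    (hK : (K : Matrix (Fin n) (Fin n) F)ᵀ * A * (K : Matrix (Fin n) (Fin n) F) = c • A) :
    (K : Matrix (Fin n) (Fin n) F).det = c ^ m := by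
  obtain ⟨E, hE⟩ := skew_equiv h2 hnm A hA hdet
  obtain ⟨g, hg, hsim⟩ := sim_pull E.symm (Cfsg.sympForm m F)
    (fun u v : Fin n → F => u ⬝ᵥ (A *ᵥ v)) (fun x y => by
      rw [← hE, LinearEquiv.apply_symm_apply, LinearEquiv.apply_symm_apply]) K c
    (fun x y => bil_of_matSim A _ c hK x y)
  rw [← hg]
  exact det_of_sim g (Units.mk0 c hc0) hsim

theorem skew_Q1 (h2 : (2 : F) ≠ 0) (hnm : n = 2 * m) (A : Matrix (Fin n) (Fin n) F)
    (hA : Aᵀ = -A) (hdet : A.det ≠ 0) (ν : F) (hν : ν ≠ 0) :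
    ∃ K : GL (Fin n) F,
      (K : Matrix (Fin n) (Fin n) F)ᵀ * A * (K : Matrix (Fin n) (Fin n) F) = ν • A ∧
      (K : Matrix (Fin n) (Fin n) F).det = ν ^ m := by
  obtain ⟨E, hE⟩ := skew_equiv h2 hnm A hA hdet
  obtain ⟨K, hK, hsim⟩ := sim_pull E (fun u v : Fin n → F => u ⬝ᵥ (A *ᵥ v))
    (Cfsg.sympForm m F) hE (dnu m (Units.mk0 ν hν)) ν (fun x y => dnu_symp _ x y)
  refine ⟨K, matSim_of_bil A _ ν hsim, ?_⟩
  rw [hK, dnu_det]
  rfl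

end skew

section sym
variable {F : Type*} [Field F] [Fintype F] {n m : ℕ}

theorem sym_Q1 (hodd : Odd (Fintype.card F)) (hm : 1 ≤ m) (hnm : n = 2 * m)
    (A : Matrix (Fin n) (Fin n) F) (hA : Aᵀ = A) (hdet : A.det ≠ 0) (ν : F) (hν : ν ≠ 0) :
    ∃ K : GL (Fin n) F,
      (K : Matrix (Fin n) (Fin n) F)ᵀ * A * (K : Matrix (Fin n) (Fin n) F) = ν • A ∧
      (K : Matrix (Fin n) (Fin n) F).det = ν ^ m := by
  have h2 : (2 : F) ≠ 0 := two_ne_zero_of_odd hodd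
  rcases sym_classify hodd hm hnm A hA hdet with ⟨E, hE, -⟩ | ⟨ζ, E, hζ, hE, -⟩
  · obtain ⟨K, hK, hsim⟩ := qsim_pull E (matQ A) (Cfsg.quadFormPlus m F) hE
      (dnu m (Units.mk0 ν hν)) ν (fun x => by
        have := dnu_sim m (Units.mk0 ν hν) x
        rw [QP_apply, QP_apply] at this
        exact this)
    refine ⟨K, matSim_of_quad h2 A hA _ ν hsim, ?_⟩
    rw [hK, dnu_det]
    rfl
  · have hab := aniso_of_noroot ζ hζ
    obtain ⟨α, β, hαβ⟩ := exists_norm h2 1 ζ hab ν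
    have hd : (dnuMinusMat (m - 1) 1 ζ ν α β).det ≠ 0 := by
      rw [dnuMinusMat_det (m - 1) 1 ζ ν α β hαβ]
      exact pow_ne_zero _ hν
    obtain ⟨K, hK, hsim⟩ := qsim_pull E (matQ A) (Cfsg.quadFormMinus (m - 1) F 1 ζ) hE
      (Matrix.GeneralLinearGroup.mkOfDetNeZero (dnuMinusMat (m - 1) 1 ζ ν α β) hd) ν
      (fun x => dnuMinusMat_sim (m - 1) 1 ζ ν α β hαβ x)
    refine ⟨K, matSim_of_quad h2 A hA _ ν hsim, ?_⟩
    rw [hK]
    show (dnuMinusMat (m - 1) 1 ζ ν α β).det = _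
    rw [dnuMinusMat_det (m - 1) 1 ζ ν α β hαβ]
    congr 1
    omega

theorem sym_Q2 (h2 : (2 : F) ≠ 0) (A : Matrix (Fin n) (Fin n) F) (hA : Aᵀ = A) (hA0 : A ≠ 0) :
    ∃ K : GL (Fin n) F,
      (K : Matrix (Fin n) (Fin n) F)ᵀ * A * (K : Matrix (Fin n) (Fin n) F) = (1 : F) • A ∧
      (K : Matrix (Fin n) (Fin n) F).det = -1 := by
  have hcoe : ∀ v, A.toQuadraticForm' v = matQ A v := dot_toQuadraticMap' A
  obtain ⟨u, hu⟩ : ∃ u, A.toQuadraticForm' u ≠ 0 := by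
    by_contra hcon
    push Not at hcon
    apply hA0
    have := eq_smul_one_of_quad h2 A hA 0 (fun v => by
      have := hcon v
      rw [hcoe] at this
      rw [zero_mul]
      exact this)
    rw [this, zero_smul]
  refine ⟨(refl A.toQuadraticForm' u hu : GL (Fin n) F), ?_, det_refl _ u hu⟩
  apply matSim_of_quad h2 A hA
  intro v
  have := iso_Q (refl A.toQuadraticForm' u hu) v
  rw [hcoe, hcoe] at this
  rw [one_mul]
  exact this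

end sym

end Cfsg.Agent.Lib.Helper5.PSUAut
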