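import Mathlib
import Cfsg.Agent.Lib.Helper5.PSUAut11

set_option autoImplicit false

/-! The determinant image `DU` of the centralizer of an involutory graph automorphism of
`PSU_n` inside the norm-one group. -/

namespace Cfsg.Agent.Lib.Helper5.PSUAut

open Matrix Matrix.SpecialLinearGroup Cfsg.Agent.Lib.Helper5.SLnAut Cfsg.Agent.Lib.Helper5.PGO
  Cfsg.Agent.Lib.Helper5.PSLCoset Cfsg.Agent.Lib.Helper5.GraphInv

section
variable {n : ℕ} {F : Type*} [Field F] [Fintype F] {q : ℕ} {F₀ : Type*} [Field F₀]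
  {ι : F₀ →+* F} {σ : F ≃+* F}

/-- the determinant image of the centralizer -/
noncomputable abbrev DU (hF : Fintype.card F = q ^ 2) (γ : MulAut (Cfsg.PSU n F q)) :
    Subgroup ↥(U1 F q) :=
  (commSub (rhoGU n F q) γ).map (detGU hF n)

theorem exists_U1 (hσq : ∀ a : F, σ a = a ^ q) (v : F) (hv : v * σ v = 1) :
    ∃ u : ↥(U1 F q), ((u : Fˣ) : F) = v := by
  have hv0 : v ≠ 0 := by
    intro h0
    rw [h0, zero_mul] at hv
    exact zero_ne_one hv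
  refine ⟨⟨Units.mk0 v hv0, ?_⟩, rfl⟩
  rw [mem_U1, Units.val_mk0, ← hσq]
  exact hv

theorem U1_norm (hσq : ∀ a : F, σ a = a ^ q) (v : ↥(U1 F q)) :
    ((v : Fˣ) : F) * σ ((v : Fˣ) : F) = 1 := by
  rw [hσq]
  exact mem_U1.1 v.2

theorem pow_le_DU (hF : Fintype.card F = q ^ 2) (hn : 3 ≤ n)
    (hσq : ∀ a : F, σ a = a ^ q) (hd : Desc ι σ)
    (γ : MulAut (Cfsg.PSU n F q)) (M₀ : Matrix (Fin n) (Fin n) F₀) (hrel : Rel ι σ γ M₀) :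
    (powMonoidHom n : ↥(U1 F q) →* ↥(U1 F q)).range ≤ DU hF γ := by
  rintro _ ⟨v, rfl⟩
  rw [mem_DU_iff hF hn hσq hd γ M₀ hrel]
  refine ⟨1, 1, ((v : Fˣ) : F), ?_, ?_, ?_⟩
  · rw [Units.val_one, Matrix.transpose_one, Matrix.one_mul, Matrix.mul_one, one_smul]
  · rw [map_one, mul_one]
    exact U1_norm hσq v
  · rw [Units.val_one, Matrix.det_one, map_one, mul_one, powMonoidHom_apply]
    rfl

theorem det_sq_sim (M₀ : Matrix (Fin n) (Fin n) F₀) (hdet : M₀.det ≠ 0)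
    (K₀ : Matrix (Fin n) (Fin n) F₀) (c₀ : F₀) (h : K₀ᵀ * M₀ * K₀ = c₀ • M₀) :
    K₀.det ^ 2 = c₀ ^ n := by
  have h1 := congrArg Matrix.det h
  rw [Matrix.det_mul, Matrix.det_mul, Matrix.det_transpose, Matrix.det_smul,
    Fintype.card_fin] at h1
  apply mul_right_cancel₀ hdet
  rw [← h1]
  ring

theorem DU_le_pow_of_odd (hF : Fintype.card F = q ^ 2) (hn : 3 ≤ n)
    (hσq : ∀ a : F, σ a = a ^ q) (hd : Desc ι σ)
    (γ : MulAut (Cfsg.PSU n F q)) (M₀ : Matrix (Fin n) (Fin n) F₀) (hrel : Rel ι σ γ M₀)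
    (hodd : Odd n) :
    DU hF γ ≤ (powMonoidHom n : ↥(U1 F q) →* ↥(U1 F q)).range := by
  intro u hu
  rw [mem_DU_iff hF hn hσq hd γ M₀ hrel] at hu
  obtain ⟨K₀, c₀, w, hK₀, hw, hu⟩ := hu
  obtain ⟨m, hm⟩ := hodd
  have hsq := det_sq_sim M₀ hrel.det_ne_zero _ c₀ hK₀
  have hc0 : c₀ ≠ 0 := by
    intro h0
    rw [h0, map_zero, mul_zero] at hw
    exact zero_ne_one hw
  obtain ⟨d, hd'⟩ : ∃ d : F₀, d = (K₀ : Matrix (Fin n) (Fin n) F₀).det := ⟨_, rfl⟩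
  rw [← hd'] at hsq hu
  have hcm : c₀ ^ m ≠ 0 := pow_ne_zero _ hc0
  have he2 : (d / c₀ ^ m) ^ 2 = c₀ := by
    rw [div_pow, hsq, hm, pow_succ, pow_mul, ← pow_mul, mul_comm 2 m, pow_mul]
    field_simp
  have hen : (d / c₀ ^ m) ^ n = d := by
    rw [hm, pow_succ, pow_mul, he2]
    field_simp
  have hv : (w * ι (d / c₀ ^ m)) * σ (w * ι (d / c₀ ^ m)) = 1 := by
    rw [map_mul, hd.fix_iota]
    have : ι (d / c₀ ^ m) * ι (d / c₀ ^ m) = ι c₀ := by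
      rw [← map_mul, ← pow_two, he2]
    linear_combination hw + (w * σ w) * this
  obtain ⟨v, hv'⟩ := exists_U1 hσq _ hv
  refine ⟨v, ?_⟩
  apply Subtype.ext
  apply Units.ext
  rw [powMonoidHom_apply, hu]
  show ((v : Fˣ) : F) ^ n = _
  rw [hv', mul_pow, ← map_pow, hen]

/-- the shape of the elements of `DU` in even dimension -/
theorem DU_even (hF : Fintype.card F = q ^ 2) (hn : 3 ≤ n)
    (hσq : ∀ a : F, σ a = a ^ q) (hd : Desc ι σ)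
    (γ : MulAut (Cfsg.PSU n F q)) (M₀ : Matrix (Fin n) (Fin n) F₀) (hrel : Rel ι σ γ M₀)
    {m : ℕ} (hnm : n = 2 * m) (u : ↥(U1 F q)) (hu : u ∈ DU hF γ) :
    ∃ (K₀ : GL (Fin n) F₀) (c₀ : F₀) (v : ↥(U1 F q)), c₀ ≠ 0 ∧
      (K₀ : Matrix (Fin n) (Fin n) F₀)ᵀ * M₀ * (K₀ : Matrix (Fin n) (Fin n) F₀) = c₀ • M₀ ∧
      ((u : Fˣ) : F) * ι (c₀ ^ m)
        = ((v : Fˣ) : F) ^ m * ι (K₀ : Matrix (Fin n) (Fin n) F₀).det := by
  rw [mem_DU_iff hF hn hσq hd γ M₀ hrel] at hu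
  obtain ⟨K₀, c₀, w, hK₀, hw, hu⟩ := hu
  have hc0 : c₀ ≠ 0 := by
    intro h0
    rw [h0, map_zero, mul_zero] at hw
    exact zero_ne_one hw
  have hw0 : w ≠ 0 := by
    intro h0
    rw [h0, zero_mul, zero_mul] at hw
    exact zero_ne_one hw
  have hσw : σ w ≠ 0 := (map_ne_zero_iff _ σ.injective).2 hw0
  have hv : (w / σ w) * σ (w / σ w) = 1 := by
    rw [map_div₀, hd.invol]
    field_simp
  obtain ⟨v, hv'⟩ := exists_U1 hσq _ hv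
  refine ⟨K₀, c₀, v, hc0, hK₀, ?_⟩
  have h1 : w / σ w = w ^ 2 * ι c₀ := by
    rw [div_eq_iff hσw]
    linear_combination (-w) * hw
  rw [hv', hu, h1, mul_pow, ← pow_mul, ← hnm, map_pow]
  ring

/-- similitudes with multiplier `ν` and determinant `ν ^ m` give all `m`-th powers -/
theorem pow_le_DU_of_Q1 (hF : Fintype.card F = q ^ 2) (hn : 3 ≤ n) (hσ : orderOf σ = 2)
    (hσq : ∀ a : F, σ a = a ^ q) (hd : Desc ι σ)
    (γ : MulAut (Cfsg.PSU n F q)) (M₀ : Matrix (Fin n) (Fin n) F₀) (hrel : Rel ι σ γ M₀)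
    {m : ℕ} (hnm : n = 2 * m)
    (hQ1 : ∀ ν : F₀, ν ≠ 0 → ∃ K₀ : GL (Fin n) F₀,
      (K₀ : Matrix (Fin n) (Fin n) F₀)ᵀ * M₀ * (K₀ : Matrix (Fin n) (Fin n) F₀) = ν • M₀ ∧
      (K₀ : Matrix (Fin n) (Fin n) F₀).det = ν ^ m) :
    (powMonoidHom m : ↥(U1 F q) →* ↥(U1 F q)).range ≤ DU hF γ := by
  rintro _ ⟨v, rfl⟩
  rw [mem_DU_iff hF hn hσq hd γ M₀ hrel]
  obtain ⟨w, hw0, hw⟩ := Cfsg.Agent.Lib.Helper2.HermFrames.exists_hilbert90 hσ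
    ((v : Fˣ) : F) (U1_norm hσq v)
  have hσw : σ w ≠ 0 := (map_ne_zero_iff _ σ.injective).2 hw0
  have hfix : σ (w * σ w)⁻¹ = (w * σ w)⁻¹ := by
    rw [map_inv₀, map_mul, hd.invol, mul_comm]
  obtain ⟨c₀, hc₀⟩ := (hd.fixed _).1 hfix
  have hc0 : c₀ ≠ 0 := by
    intro h0
    rw [h0, map_zero] at hc₀
    exact inv_ne_zero (mul_ne_zero hw0 hσw) hc₀.symm
  obtain ⟨K₀, hK₀, hdet⟩ := hQ1 c₀ hc0
  refine ⟨K₀, c₀, w, hK₀, ?_, ?_⟩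
  · rw [hc₀]
    exact mul_inv_cancel₀ (mul_ne_zero hw0 hσw)
  · rw [powMonoidHom_apply, hdet, map_pow, hc₀, hnm, pow_mul, ← mul_pow]
    show ((v : Fˣ) : F) ^ m = _
    congr 1
    have : ((v : Fˣ) : F) = w / σ w := by
      rw [eq_div_iff hσw]
      exact hw.symm
    rw [this]
    field_simp

theorem neg_one_mem_DU_of_Q2 (hF : Fintype.card F = q ^ 2) (hn : 3 ≤ n)
    (hσq : ∀ a : F, σ a = a ^ q) (hd : Desc ι σ)
    (γ : MulAut (Cfsg.PSU n F q)) (M₀ : Matrix (Fin n) (Fin n) F₀) (hrel : Rel ι σ γ M₀)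
    (hodd : Odd q)
    (hQ2 : ∃ K₀ : GL (Fin n) F₀,
      (K₀ : Matrix (Fin n) (Fin n) F₀)ᵀ * M₀ * (K₀ : Matrix (Fin n) (Fin n) F₀) = (1 : F₀) • M₀ ∧
      (K₀ : Matrix (Fin n) (Fin n) F₀).det = -1) :
    (⟨-1, neg_one_mem_U1 hodd⟩ : ↥(U1 F q)) ∈ DU hF γ := by
  rw [mem_DU_iff hF hn hσq hd γ M₀ hrel]
  obtain ⟨K₀, hK₀, hdet⟩ := hQ2
  refine ⟨K₀, 1, 1, hK₀, ?_, ?_⟩
  · rw [map_one, map_one, mul_one, mul_one]
  · rw [hdet, one_pow, one_mul, map_neg, map_one]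
    rfl

end

end Cfsg.Agent.Lib.Helper5.PSUAut
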