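import Mathlib
import Cfsg.Agent.Lib.Helper5.PSUAut12
import Cfsg.Agent.Lib.Helper5.PSLCoset17

set_option autoImplicit false

/-! Scalar and matrix descent lemmas for field automorphisms of odd order of unitary groups. -/

namespace Cfsg.Agent.Lib.Helper5.PSUField

open Matrix Cfsg.Agent.Lib.Helper5.PSLCoset Cfsg.Agent.Lib.Helper5.PSUAut

section
variable {F : Type*} [Field F]

theorem pow_comm_apply (σ τ : F ≃+* F) (hcomm : ∀ a, σ (τ a) = τ (σ a)) (i : ℕ) (a : F) :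
    (σ ^ i : F ≃+* F) (τ a) = τ ((σ ^ i : F ≃+* F) a) := by
  induction i generalizing a with
  | zero => rfl
  | succ i ih =>
    rw [pow_succ]
    show (σ ^ i : F ≃+* F) (σ (τ a)) = τ ((σ ^ i : F ≃+* F) (σ a))
    rw [hcomm, ih]

theorem nrm_comm (σ τ : F ≃+* F) (hcomm : ∀ a, σ (τ a) = τ (σ a)) (k : ℕ) (a : F) :
    nrm σ k (τ a) = τ (nrm σ k a) := by
  unfold nrm
  rw [map_prod]
  apply Finset.prod_congr rfl
  intro i _
  exact pow_comm_apply σ τ hcomm i a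

theorem nrm_inv' (σ : F ≃+* F) (k : ℕ) {a : F} (ha : a ≠ 0) : nrm σ k a⁻¹ = (nrm σ k a)⁻¹ := by
  have h1 : nrm σ k a * nrm σ k a⁻¹ = 1 := by
    rw [← nrm_mul, mul_inv_cancel₀ ha, nrm_one]
  exact eq_inv_of_mul_eq_one_right h1

theorem nrm_neg_one (σ : F ≃+* F) (r : ℕ) (hodd : Odd r) : nrm σ r (-1) = -1 := by
  unfold nrm
  have : ∀ i ∈ Finset.range r, (σ ^ i : F ≃+* F) (-1) = -1 := by
    intro i _
    rw [map_neg, map_one]
  rw [Finset.prod_congr rfl this, Finset.prod_const, Finset.card_range, hodd.neg_one_pow]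

theorem nrm_two (τ : F ≃+* F) (a : F) : nrm τ 2 a = a * τ a := by
  unfold nrm
  rw [Finset.prod_range_succ, Finset.prod_range_one, pow_zero, pow_one]
  rfl

end

section
variable {F : Type*} [Field F] [Finite F]

/-- the norm of an odd order automorphism is onto the fixed elements of norm one -/
theorem exists_U1_nrm (σ σ₀ : F ≃+* F) (hinv : ∀ a, σ₀ (σ₀ a) = a)
    (hcomm : ∀ a, σ (σ₀ a) = σ₀ (σ a)) (r : ℕ) (hr : orderOf σ = r) (hodd : Odd r) (z : F)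
    (hzσ : σ z = z) (hz1 : z * σ₀ z = 1) : ∃ w : F, w * σ₀ w = 1 ∧ nrm σ r w = z := by
  have hr0 : 0 < r := hodd.pos
  have hz0 : z ≠ 0 := by
    intro h0
    rw [h0, zero_mul] at hz1
    exact zero_ne_one hz1
  by_cases hz : z = -1
  · refine ⟨-1, ?_, ?_⟩
    · rw [map_neg, map_one]
      ring
    · rw [nrm_neg_one σ r hodd, hz]
  · have ht0 : 1 + z ≠ 0 := by
      intro h
      apply hz
      linear_combination h
    have htσ : σ (1 + z) = 1 + z := by rw [map_add, map_one, hzσ]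
    obtain ⟨y, hy0, hy⟩ := exists_nrm_eq σ r hr hr0 (1 + z) ht0 htσ
    have hσ₀y : σ₀ y ≠ 0 := (map_ne_zero_iff _ σ₀.injective).2 hy0
    refine ⟨y * (σ₀ y)⁻¹, ?_, ?_⟩
    · rw [map_mul, map_inv₀, hinv]
      field_simp
    · rw [nrm_mul, nrm_inv' σ r hσ₀y, nrm_comm σ σ₀ hcomm, hy, map_add, map_one]
      have hσ₀z : σ₀ z = z⁻¹ := eq_inv_of_mul_eq_one_right hz1
      rw [hσ₀z]
      have h1 : 1 + z⁻¹ = (1 + z) * z⁻¹ := by
        field_simp
        ring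
      rw [h1, mul_inv, inv_inv, ← mul_assoc, mul_inv_cancel₀ ht0, one_mul]

end

section
variable {F : Type*} [Field F] {F₀ : Type*} [Field F₀]

/-- descent data: `ι` embeds `F₀` onto the fixed field of `σ`, compatibly with the involutions -/
structure FD (ι : F₀ →+* F) (σ σ₀ : F ≃+* F) (σ₀' : F₀ ≃+* F₀) : Prop where
  fixed : ∀ a, σ a = a ↔ a ∈ Set.range ι
  comp : ∀ a, ι (σ₀' a) = σ₀ (ι a)
  ord : orderOf σ₀' = 2
  inv : ∀ a, σ₀ (σ₀ a) = a
  comm : ∀ a, σ (σ₀ a) = σ₀ (σ a)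

variable {ι : F₀ →+* F} {σ σ₀ : F ≃+* F} {σ₀' : F₀ ≃+* F₀}

theorem FD.fix_iota (D : FD ι σ σ₀ σ₀') (a : F₀) : σ (ι a) = ι a := (D.fixed _).2 ⟨a, rfl⟩

theorem FD.exists_map {k l : Type*} (D : FD ι σ σ₀ σ₀') (M : Matrix k l F) (h : M.map σ = M) :
    ∃ M₀ : Matrix k l F₀, M = M₀.map ι := by
  have h1 : ∀ i j, ∃ a : F₀, ι a = M i j := by
    intro i j
    have := congrFun (congrFun h i) j
    exact (D.fixed _).1 this
  choose f hf using h1
  refine ⟨Matrix.of f, ?_⟩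
  ext i j
  simp [hf]

theorem FD.map_iota {k l : Type*} (D : FD ι σ σ₀ σ₀') (M₀ : Matrix k l F₀) :
    (M₀.map ι).map σ = M₀.map ι := by
  ext i j
  simp [D.fix_iota]

theorem FD.map_comp {k l : Type*} (D : FD ι σ σ₀ σ₀') (M₀ : Matrix k l F₀) :
    (M₀.map ι).map σ₀ = (M₀.map σ₀').map ι := by
  ext i j
  simp [D.comp]

/-- the norm of the involution is onto on the fixed field -/
theorem FD.exists_norm [Finite F₀] (D : FD ι σ σ₀ σ₀') (s : F) (hs0 : s ≠ 0) (hsσ : σ s = s)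
    (hsσ₀ : σ₀ s = s) : ∃ t : F, t ≠ 0 ∧ σ t = t ∧ t * σ₀ t = s := by
  obtain ⟨s₀, rfl⟩ := (D.fixed s).1 hsσ
  have hs₀ : σ₀' s₀ = s₀ := by
    apply ι.injective
    rw [D.comp, hsσ₀]
  have hs₀0 : s₀ ≠ 0 := by
    intro h
    apply hs0
    rw [h, map_zero]
  obtain ⟨a, ha0, ha⟩ := exists_nrm_eq σ₀' 2 D.ord (by norm_num) s₀ hs₀0 hs₀
  rw [nrm_two] at ha
  refine ⟨ι a, (map_ne_zero_iff _ ι.injective).2 ha0, D.fix_iota a, ?_⟩
  rw [← D.comp, ← map_mul, ha]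

/-- Hilbert 90 on the elements of norm one -/
theorem FD.exists_U1_h90 [Finite F] [Finite F₀] (D : FD ι σ σ₀ σ₀') (r : ℕ) (hr : orderOf σ = r)
    (hr0 : 0 < r) (l : F) (hl : l * σ₀ l = 1) (hN : nrm σ r l = 1) :
    ∃ b : F, b ≠ 0 ∧ b * σ₀ b = 1 ∧ l * σ b = b := by
  obtain ⟨b, hb0, hb⟩ := hilbert90_scalar σ r hr hr0 l hN
  have hl0 : l ≠ 0 := by
    intro h0
    rw [h0, zero_mul] at hl
    exact zero_ne_one hl
  have hσ₀b : σ₀ b ≠ 0 := (map_ne_zero_iff _ σ₀.injective).2 hb0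
  have hσb : σ b ≠ 0 := (map_ne_zero_iff _ σ.injective).2 hb0
  have hs0 : b * σ₀ b ≠ 0 := mul_ne_zero hb0 hσ₀b
  have hsσ : σ (b * σ₀ b) = b * σ₀ b := by
    have h1 : σ b = l⁻¹ * b := by
      calc σ b = l⁻¹ * (l * σ b) := by field_simp
        _ = l⁻¹ * b := by rw [hb]
    have h2 : σ₀ l = l⁻¹ := eq_inv_of_mul_eq_one_right hl
    rw [map_mul, D.comm, h1, map_mul, map_inv₀, h2, inv_inv]
    field_simp
  have hsσ₀ : σ₀ (b * σ₀ b) = b * σ₀ b := by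
    rw [map_mul, D.inv, mul_comm]
  obtain ⟨t, ht0, htσ, ht⟩ := D.exists_norm (b * σ₀ b)⁻¹ (inv_ne_zero hs0)
    (by rw [map_inv₀, hsσ]) (by rw [map_inv₀, hsσ₀])
  refine ⟨t * b, mul_ne_zero ht0 hb0, ?_, ?_⟩
  · rw [map_mul]
    calc t * b * (σ₀ t * σ₀ b) = (t * σ₀ t) * (b * σ₀ b) := by ring
      _ = 1 := by rw [ht, inv_mul_cancel₀ hs0]
  · rw [map_mul, htσ]
    calc l * (t * σ b) = t * (l * σ b) := by ring
      _ = t * b := by rw [hb]

end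

end Cfsg.Agent.Lib.Helper5.PSUField
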