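import Mathlib
import Cfsg.Agent.Lib.Helper5.PSUField1

set_option autoImplicit false

/-! Matrix form of the conjugacy of elements of prime order in a field automorphism coset of the
unitary group. -/

namespace Cfsg.Agent.Lib.Helper5.PSUField

open Matrix Cfsg.Agent.Lib.Helper5.PSLCoset Cfsg.Agent.Lib.Helper5.PSUAut

section
variable {n : ℕ} {F : Type*} [Field F] {σ σ₀ : F ≃+* F}

/-- unitary matrices -/
def IsU (σ₀ : F ≃+* F) (g : Matrix (Fin n) (Fin n) F) : Prop := gᵀ * g.map σ₀ = 1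

theorem map_one' (σ : F ≃+* F) : (1 : Matrix (Fin n) (Fin n) F).map σ = 1 := by
  ext i j
  simp [Matrix.one_apply, apply_ite]

theorem map_smul' (σ : F ≃+* F) (z : F) (g : Matrix (Fin n) (Fin n) F) :
    (z • g).map σ = σ z • g.map σ := by
  ext i j
  simp

theorem map_map_comm (hcomm : ∀ a, σ (σ₀ a) = σ₀ (σ a)) (g : Matrix (Fin n) (Fin n) F) :
    (g.map σ₀).map σ = (g.map σ).map σ₀ := by
  ext i j
  simp [hcomm]

theorem IsU.mul {g h : Matrix (Fin n) (Fin n) F} (hg : IsU σ₀ g) (hh : IsU σ₀ h) :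
    IsU σ₀ (g * h) := by
  unfold IsU at *
  rw [Matrix.transpose_mul, Matrix.map_mul]
  calc hᵀ * gᵀ * (g.map σ₀ * h.map σ₀) = hᵀ * (gᵀ * g.map σ₀) * h.map σ₀ := by
        simp only [Matrix.mul_assoc]
    _ = 1 := by rw [hg, Matrix.mul_one, hh]

theorem IsU.map (hcomm : ∀ a, σ (σ₀ a) = σ₀ (σ a)) {g : Matrix (Fin n) (Fin n) F}
    (hg : IsU σ₀ g) : IsU σ₀ (g.map σ) := by
  unfold IsU at *
  rw [← map_map_comm hcomm, ← Matrix.transpose_map, ← Matrix.map_mul, hg, map_one']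

theorem IsU.one : IsU σ₀ (1 : Matrix (Fin n) (Fin n) F) := by
  unfold IsU
  rw [map_one', Matrix.transpose_one, Matrix.one_mul]

theorem IsU.tw (hcomm : ∀ a, σ (σ₀ a) = σ₀ (σ a)) {g : Matrix (Fin n) (Fin n) F}
    (hg : IsU σ₀ g) (k : ℕ) : IsU σ₀ (tw σ g k) := by
  induction k with
  | zero => exact IsU.one
  | succ k ih =>
    rw [tw_succ]
    exact hg.mul (ih.map hcomm)

theorem IsU.smul {g : Matrix (Fin n) (Fin n) F} (hg : IsU σ₀ g) {w : F} (hw : w * σ₀ w = 1) :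
    IsU σ₀ (w • g) := by
  unfold IsU at *
  rw [map_smul', Matrix.transpose_smul, Matrix.smul_mul, Matrix.mul_smul, smul_smul, hg,
    hw, one_smul]

theorem IsU.of_smul_one (hn : 0 < n) {z : F} (h : IsU σ₀ (z • (1 : Matrix (Fin n) (Fin n) F))) :
    z * σ₀ z = 1 := by
  unfold IsU at h
  rw [map_smul', map_one', Matrix.transpose_smul, Matrix.transpose_one, Matrix.smul_mul,
    Matrix.mul_smul, Matrix.one_mul, smul_smul] at h
  have := congrFun (congrFun h ⟨0, hn⟩) ⟨0, hn⟩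
  simpa using this

theorem IsU.isUnit {g : Matrix (Fin n) (Fin n) F} (hg : IsU σ₀ g) : IsUnit g := by
  unfold IsU at hg
  have h1 : IsUnit gᵀ.det := Matrix.isUnit_det_of_right_inverse hg
  rw [Matrix.det_transpose] at h1
  exact (Matrix.isUnit_iff_isUnit_det _).2 h1

end

section
variable {n : ℕ} {F : Type*} [Field F] {F₀ : Type*} [Field F₀] {ι : F₀ →+* F}
  {σ σ₀ : F ≃+* F} {σ₀' : F₀ ≃+* F₀}

/-- a hermitian matrix fixed by `σ` is congruent to the identity through a fixed matrix -/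
theorem FD.exists_congr [Finite F₀] (D : FD ι σ σ₀ σ₀') (M : Matrix (Fin n) (Fin n) F)
    (hMu : IsUnit M) (hMσ : M.map σ = M) (hMh : M.map σ₀ = Mᵀ) :
    ∃ E : Matrix (Fin n) (Fin n) F, E.map σ = E ∧ Eᵀ * M * E.map σ₀ = 1 := by
  obtain ⟨M₀, rfl⟩ := D.exists_map M hMσ
  have hA : ∀ k l, σ₀' (M₀ k l) = M₀ l k := by
    intro k l
    apply ι.injective
    have := congrFun (congrFun hMh k) l
    rw [D.comp]
    exact this
  have hu : IsUnit M₀ := by
    rw [Matrix.isUnit_iff_isUnit_det, isUnit_iff_ne_zero] at hMu ⊢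
    intro h0
    apply hMu
    have : (M₀.map ι).det = ι M₀.det := (RingHom.map_det ι M₀).symm
    rw [this, h0, map_zero]
  obtain ⟨E₀, hE₀⟩ := exists_congr_one D.ord hA hu
  refine ⟨(E₀ᵀ).map ι, D.map_iota _, ?_⟩
  rw [D.map_comp, ← Matrix.transpose_map, Matrix.transpose_transpose, ← Matrix.map_mul,
    ← Matrix.map_mul]
  have h1 : (E₀ᵀ).map σ₀' = (E₀.map σ₀')ᵀ := Matrix.transpose_map.symm
  rw [h1, hE₀]
  ext i j
  simp [Matrix.one_apply, apply_ite]

/-- the conjugacy theorem in matrix form -/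
theorem FD.field_conj [Finite F] [Finite F₀] (D : FD ι σ σ₀ σ₀') (hn : 0 < n) (r : ℕ)
    (hr : orderOf σ = r) (hodd : Odd r) (g : Matrix (Fin n) (Fin n) F) (hg : IsU σ₀ g) (z : F)
    (htw : tw σ g r = z • 1) :
    ∃ (h : Matrix (Fin n) (Fin n) F) (w : F), w ≠ 0 ∧ IsU σ₀ h ∧ (w • g) * h.map σ = h := by
  classical
  have hr0 : 0 < r := hodd.pos
  have hσr : σ ^ r = 1 := by
    rw [← hr]
    exact pow_orderOf_eq_one σ
  have hzU : z * σ₀ z = 1 := by
    apply IsU.of_smul_one hn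
    rw [← htw]
    exact hg.tw D.comm r
  have hz0 : z ≠ 0 := by
    intro h0
    rw [h0, zero_mul] at hzU
    exact zero_ne_one hzU
  -- `z` is fixed by `σ`
  have hzσ : σ z = z := by
    have h1 := tw_succ σ g r
    rw [tw_succ', htw, hσr] at h1
    have h2 : g.map ((1 : F ≃+* F)) = g := by
      ext i j
      rfl
    rw [h2, map_smul', map_one', Matrix.smul_mul, Matrix.one_mul, Matrix.mul_smul,
      Matrix.mul_one] at h1
    obtain ⟨g', hg'⟩ := hg.isUnit.exists_left_inv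
    have h4 := congrArg (fun M => g' * M) h1
    simp only [Matrix.mul_smul, hg'] at h4
    have h5 := congrFun (congrFun h4 ⟨0, hn⟩) ⟨0, hn⟩
    simpa using h5.symm
  obtain ⟨w, hwU, hw⟩ := exists_U1_nrm σ σ₀ D.inv D.comm r hr hodd z⁻¹
    (by rw [map_inv₀, hzσ]) (by rw [map_inv₀, ← mul_inv, hzU, inv_one])
  have hw0 : w ≠ 0 := by
    intro h0
    rw [h0, zero_mul] at hwU
    exact zero_ne_one hwU
  have htw1 : tw σ (w • g) r = 1 := by
    rw [tw_smul, htw, hw, smul_smul, inv_mul_cancel₀ hz0, one_smul]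
  obtain ⟨B, hBu, hB⟩ := hilbert90_matrix σ (w • g) r hr hr0 htw1
  have hg1 : IsU σ₀ (w • g) := hg.smul hwU
  obtain ⟨M, hM⟩ : ∃ M : Matrix (Fin n) (Fin n) F, M = Bᵀ * B.map σ₀ := ⟨_, rfl⟩
  have hMσ : M.map σ = M := by
    have h1 : M = (B.map σ)ᵀ * ((w • g)ᵀ * (w • g).map σ₀) * (B.map σ).map σ₀ := by
      rw [hM]
      conv_lhs => rw [← hB]
      rw [Matrix.transpose_mul, Matrix.map_mul]
      simp only [Matrix.mul_assoc]
    rw [hg1, Matrix.mul_one] at h1
    conv_rhs => rw [h1]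
    rw [hM, Matrix.map_mul, Matrix.transpose_map, map_map_comm D.comm]
  have hMh : M.map σ₀ = Mᵀ := by
    rw [hM, Matrix.map_mul, Matrix.transpose_mul, Matrix.transpose_transpose,
      Matrix.transpose_map]
    congr 1
    ext i j
    simp [D.inv]
  have hMu : IsUnit M := by
    rw [hM, Matrix.isUnit_iff_isUnit_det, Matrix.det_mul, Matrix.det_transpose]
    have h1 : IsUnit B.det := (Matrix.isUnit_iff_isUnit_det _).1 hBu
    have h2 : (B.map σ₀).det = σ₀ B.det := (RingHom.map_det (σ₀ : F →+* F) B).symm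
    rw [h2]
    exact h1.mul ((isUnit_iff_ne_zero.2
      ((map_ne_zero_iff _ σ₀.injective).2 (isUnit_iff_ne_zero.1 h1))))
  obtain ⟨E, hEσ, hE⟩ := D.exists_congr M hMu hMσ hMh
  refine ⟨B * E, w, hw0, ?_, ?_⟩
  · unfold IsU
    rw [Matrix.transpose_mul, Matrix.map_mul]
    calc Eᵀ * Bᵀ * (B.map σ₀ * E.map σ₀) = Eᵀ * (Bᵀ * B.map σ₀) * E.map σ₀ := by
          simp only [Matrix.mul_assoc]
      _ = 1 := by rw [← hM, hE]
  · rw [Matrix.map_mul, hEσ, ← Matrix.mul_assoc, hB]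

end

end Cfsg.Agent.Lib.Helper5.PSUField
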