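import Mathlib
import Cfsg.Agent.Lib.Helper5.UAut12

set_option autoImplicit false

/-! Rigidity: an automorphism acting trivially on `Q_u / X_u` is trivial. -/

namespace Cfsg.Agent.Lib.Helper5.UAut

open Module Cfsg.Agent.Lib.Helper2 Cfsg.Agent.Lib.Helper2.UT Cfsg.Agent.Lib.Helper2.IsomDecomp
  Cfsg.Agent.Lib.Helper2.HermDecomp Cfsg.Agent.Lib.Helper5.PSLCoset

universe u w

section
variable {F : Type u} [Field F] [Fintype F] {σ : F ≃+* F} {V : Type u} [AddCommGroup V]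
  [Module F V] [FiniteDimensional F V] {H : V → V → F} {𝔗 : Type w} [Group 𝔗]
  {d : UData σ H} {ρ : ↥(T d.h) →* 𝔗} {β : 𝔗 ≃* 𝔗} {u f : V}

/-- every skew element is of the form `a - σ a` -/
theorem exists_sub_sigma (d : UData σ H) {e : F} (he : σ e = -e) : ∃ a : F, a - σ a = e := by
  obtain ⟨θ, hθ⟩ := exists_not_fixed d
  have hne : θ - σ θ ≠ 0 := sub_ne_zero.2 (Ne.symm hθ)
  refine ⟨e * θ / (θ - σ θ), ?_⟩
  rw [map_div₀, map_mul, map_sub, d.hσ2, he]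
  have h2 : σ θ - θ ≠ 0 := sub_ne_zero.2 hθ
  field_simp
  ring

/-- `β` is trivial on the transvection group -/
theorem rigid_X (n : NData d ρ β u f) (p : ℕ) [Fact p.Prime] [CharP F p]
    (hβ : PhiSpec d ρ β n.hp id) (e : F) (he : σ e = -e) :
    β (ρ (tT d n.hp.uu e he)) = ρ (tT d n.hp.uu e he) := by
  obtain ⟨ψ, hψ⟩ := n.exists_psi
  obtain ⟨x₀, y₀, hx₀u, hx₀f, hy₀u, hy₀f, hxy₀⟩ := exists_pair_W d n.hp
  obtain ⟨a, ha⟩ := exists_sub_sigma d he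
  have h1 := hβ.pairing n p hψ (smul_perp d.h hx₀u a) (smul_perp d.h hx₀f a) hy₀u hy₀f
  simp only [id] at h1
  rw [d.h.smul_left, d.h.smul_right, hxy₀, d.h.symm x₀ y₀, hxy₀, map_one, mul_one, mul_one,
    ha] at h1
  obtain ⟨he', h2⟩ := hψ e he
  rw [h2]
  congr 1
  apply Subtype.ext
  show tv d.h u (ψ e) n.hp.uu = tv d.h u e n.hp.uu
  rw [h1]

/-- `β` fixes the elements of `Q_u` with component `w` -/
def FixW (d : UData σ H) (ρ : ↥(T d.h) →* 𝔗) (β : 𝔗 ≃* 𝔗) {u : V} (hu : H u u = 0) (w : V) :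
    Prop :=
  ∀ (c : F) (hwu : H w u = 0) (hc : c + σ c + H w w = 0),
    β (ρ (eT d hu w c hwu hc)) = ρ (eT d hu w c hwu hc)

theorem fixW_of_one (n : NData d ρ β u f) (p : ℕ) [Fact p.Prime] [CharP F p]
    (hβ : PhiSpec d ρ β n.hp id) {w : V} {c₀ : F} (hwu : H w u = 0)
    (hc₀ : c₀ + σ c₀ + H w w = 0)
    (h0 : β (ρ (eT d n.hp.uu w c₀ hwu hc₀)) = ρ (eT d n.hp.uu w c₀ hwu hc₀)) :
    FixW d ρ β n.hp.uu w := by
  intro c hwu' hc
  have he : σ (c - c₀) = -(c - c₀) := by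
    rw [map_sub]
    linear_combination hc - hc₀
  obtain ⟨hc1, h3⟩ := eT_mul_tT d n.hp.uu w c₀ (c - c₀) hwu hc₀ he
  have h6 : eT d n.hp.uu w c hwu' hc = eT d n.hp.uu w c₀ hwu hc₀ * tT d n.hp.uu (c - c₀) he := by
    rw [h3]
    apply Subtype.ext
    show eich d.h u w c n.hp.uu hwu' = eich d.h u w (c₀ + (c - c₀)) n.hp.uu hwu
    apply eich_congr d.h n.hp.uu hwu' rfl rfl
    ring
  rw [h6, map_mul, map_mul, h0, rigid_X n p hβ]

end

section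
variable {F : Type u} [Field F] [Fintype F] {σ : F ≃+* F} {V : Type u} [AddCommGroup V]
  [Module F V] [FiniteDimensional F V] {H : V → V → F} {𝔗 : Type w} [Group 𝔗]
  {d : UData σ H} {ρ : ↥(T d.h) →* 𝔗} {β : 𝔗 ≃* 𝔗} {u f : V}

/-- `β` is trivial on the image of the Levi complement -/
theorem rigid_L (n : NData d ρ β u f) (p : ℕ) [Fact p.Prime] [CharP F p]
    (hβ : PhiSpec d ρ β n.hp id) {l : ↥(T d.h)} {a b : F} (ha : a ≠ 0) (hb : b ≠ 0)
    (hlu : (l : V ≃ₗ[F] V) u = a • u) (hlf : (l : V ≃ₗ[F] V) f = b • f) : β (ρ l) = ρ l := by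
  obtain ⟨l', hl'⟩ := n.q.surj (β (ρ l))
  obtain ⟨a', ha', hl'u⟩ := n.q.lift_stab p n.hp.uu (hyp_u_ne_zero d.h n.hp) n.hXu ha hlu hl'.symm
  obtain ⟨b', hb', hl'f⟩ := n.q.lift_stab p n.hp.vv (hyp_f_ne_zero d.h n.hp) n.hXf hb hlf hl'.symm
  have hσa : σ a ≠ 0 := (map_ne_zero_iff _ σ.injective).2 ha
  have hσa' : σ a' ≠ 0 := (map_ne_zero_iff _ σ.injective).2 ha'
  have hequiv : ∀ w : V, H w u = 0 → H w f = 0 →
      σ a • (l : V ≃ₗ[F] V) w = σ a' • (l' : V ≃ₗ[F] V) w := fun w hwu hwf =>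
    hβ.equivariant n p ha hb ha' hb' hlu hlf hl'u hl'f hl'.symm hwu hwf
  have hW : ∀ w : V, H w u = 0 → H w f = 0 →
      (l' : V ≃ₗ[F] V) w = (σ a / σ a') • (l : V ≃ₗ[F] V) w := by
    intro w hwu hwf
    rw [div_eq_inv_mul, ← smul_smul, hequiv w hwu hwf, smul_smul, inv_mul_cancel₀ hσa', one_smul]
  have hiso := T_le_isom d.h l.2
  have hiso' := T_le_isom d.h l'.2
  have hab : a * σ b = 1 := by
    have := hiso u f
    rw [hlu, hlf, d.h.smul_left, d.h.smul_right, n.hp.uv, mul_one] at this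
    exact this
  have hab' : a' * σ b' = 1 := by
    have := hiso' u f
    rw [hl'u, hl'f, d.h.smul_left, d.h.smul_right, n.hp.uv, mul_one] at this
    exact this
  obtain ⟨x₀, y₀, hx₀u, hx₀f, hy₀u, hy₀f, hxy₀⟩ := exists_pair_W d n.hp
  have hnorm : σ a / σ a' * σ (σ a / σ a') = 1 := by
    have h1 := hiso' x₀ y₀
    rw [hW x₀ hx₀u hx₀f, hW y₀ hy₀u hy₀f, d.h.smul_left, d.h.smul_right, hiso, hxy₀,
      mul_one] at h1
    exact h1
  rw [map_div₀, d.hσ2, d.hσ2] at hnorm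
  -- the scalar
  rw [← hl', n.q.eq_iff]
  refine ⟨a' / a, fun x => ?_⟩
  obtain ⟨y, hyu, hyf, hy⟩ := hyp_decomp d.h n.hp x
  have e1 : σ a / σ a' = a' / a := by
    field_simp
    field_simp at hnorm
    linear_combination hnorm
  have e2 : b' = a' / a * b := by
    have hσb : σ b = a⁻¹ := eq_inv_of_mul_eq_one_right hab
    have hσb' : σ b' = a'⁻¹ := eq_inv_of_mul_eq_one_right hab'
    have hb1 : b = (σ a)⁻¹ := by rw [← d.hσ2 b, hσb, map_inv₀]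
    have hb1' : b' = (σ a')⁻¹ := by rw [← d.hσ2 b', hσb', map_inv₀]
    rw [hb1, hb1', ← e1]
    field_simp
  conv_lhs => rw [hy]
  conv_rhs => rw [hy]
  simp only [map_add, map_smul, hlu, hlf, hl'u, hl'f, hW y hyu hyf, e1, e2, smul_add, smul_smul]
  congr 2
  · congr 1
    field_simp
  · congr 1
    ring

end

section
variable {F : Type u} [Field F] [Fintype F] {σ : F ≃+* F} {V : Type u} [AddCommGroup V]
  [Module F V] [FiniteDimensional F V] {H : V → V → F} {𝔗 : Type w} [Group 𝔗]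
  {d : UData σ H} {ρ : ↥(T d.h) →* 𝔗} {β : 𝔗 ≃* 𝔗} {u f : V}

theorem fixW_add (n : NData d ρ β u f) (p : ℕ) [Fact p.Prime] [CharP F p]
    (hβ : PhiSpec d ρ β n.hp id) {w₁ w₂ : V} (h1u : H w₁ u = 0) (h2u : H w₂ u = 0)
    (h1 : FixW d ρ β n.hp.uu w₁) (h2 : FixW d ρ β n.hp.uu w₂) :
    FixW d ρ β n.hp.uu (w₁ + w₂) := by
  obtain ⟨c₁, hc₁⟩ := exists_skew_c d w₁
  obtain ⟨c₂, hc₂⟩ := exists_skew_c d w₂
  obtain ⟨hc₃, e3⟩ := eT_mul d n.hp.uu w₁ w₂ c₁ c₂ h1u hc₁ h2u hc₂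
  apply fixW_of_one n p hβ _ hc₃
  rw [← e3, map_mul, map_mul, h1 c₁ h1u hc₁, h2 c₂ h2u hc₂]

theorem tT_comm (d : UData σ H) {u : V} (hu : H u u = 0) (e e' : F) (he : σ e = -e)
    (he' : σ e' = -e') : tT d hu e he * tT d hu e' he' = tT d hu e' he' * tT d hu e he := by
  apply Subtype.ext
  show tv d.h u e hu * tv d.h u e' hu = tv d.h u e' hu * tv d.h u e hu
  rw [tv_mul_tv, tv_mul_tv, add_comm]

theorem conj_tT (d : UData σ H) {u : V} (hu : H u u = 0) {l : ↥(T d.h)} {a : F}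
    (hlu : (l : V ≃ₗ[F] V) u = a • u) (ha : a * σ a = 1) (e : F) (he : σ e = -e) :
    l * tT d hu e he * l⁻¹ = tT d hu e he := by
  apply Subtype.ext
  show (l : V ≃ₗ[F] V) * tv d.h u e hu * (l : V ≃ₗ[F] V)⁻¹ = tv d.h u e hu
  rw [conj_tv d.h (T_le_isom d.h l.2)]
  apply LinearEquiv.ext
  intro x
  rw [tv_apply, tv_apply, hlu, d.h.smul_right, smul_smul]
  congr 2
  linear_combination (e * H x u) * ha

/-- the basic step: `β` fixes the elements with component `σ(a) l w - w` -/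
theorem fixW_sub (n : NData d ρ β u f) (p : ℕ) [Fact p.Prime] [CharP F p]
    (hβ : PhiSpec d ρ β n.hp id) {l : ↥(T d.h)} {a b : F} (ha : a ≠ 0) (hb : b ≠ 0)
    (hlu : (l : V ≃ₗ[F] V) u = a • u) (hlf : (l : V ≃ₗ[F] V) f = b • f) (han : a * σ a = 1)
    {w : V} (hwu : H w u = 0) (hwf : H w f = 0) :
    FixW d ρ β n.hp.uu (σ a • (l : V ≃ₗ[F] V) w - w) := by
  obtain ⟨c₀, hc₀⟩ := exists_skew_c d w
  obtain ⟨c', hwu', hwf', hc', e1⟩ := hβ w c₀ hwu hwf hc₀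
  simp only [id] at hwu' hwf' hc' e1
  -- the shift
  have he : σ (c' - c₀) = -(c' - c₀) := by
    rw [map_sub]
    linear_combination hc' - hc₀
  obtain ⟨hc1, e2⟩ := eT_mul_tT d n.hp.uu w c₀ (c' - c₀) hwu hc₀ he
  have e3 : eT d n.hp.uu w c' hwu' hc' = eT d n.hp.uu w c₀ hwu hc₀ * tT d n.hp.uu (c' - c₀) he := by
    rw [e2]
    apply Subtype.ext
    show eich d.h u w c' n.hp.uu hwu' = eich d.h u w (c₀ + (c' - c₀)) n.hp.uu hwu
    apply eich_congr d.h n.hp.uu hwu' rfl rfl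
    ring
  rw [e3, map_mul] at e1
  -- the conjugate
  obtain ⟨h2u, hc₂, e4⟩ := conj_eT d n.hp.uu ha hlu w c₀ hwu hc₀
  have hβl := rigid_L n p hβ ha hb hlu hlf
  have e5 : β (ρ (eT d n.hp.uu _ _ h2u hc₂))
      = ρ (eT d n.hp.uu _ _ h2u hc₂) * ρ (tT d n.hp.uu (c' - c₀) he) := by
    have hconj : ρ (tT d n.hp.uu (c' - c₀) he)
        = ρ l * ρ (tT d n.hp.uu (c' - c₀) he) * (ρ l)⁻¹ := by
      rw [← map_inv, ← map_mul, ← map_mul, conj_tT d n.hp.uu hlu han (c' - c₀) he]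
    rw [← e4, map_mul, map_mul, map_inv, map_mul, map_mul, map_inv, hβl, e1]
    conv_rhs => rw [hconj]
    group
  -- the difference
  have h3u : H (σ a • (l : V ≃ₗ[F] V) w - w) u = 0 := by rw [d.h.sub_left, h2u, hwu, sub_zero]
  obtain ⟨c₃, hc₃⟩ := exists_skew_c d (σ a • (l : V ≃ₗ[F] V) w - w)
  obtain ⟨hc₄, e6⟩ := eT_mul d n.hp.uu _ w c₃ c₀ h3u hc₃ hwu hc₀
  have he₄ : σ (c₃ + c₀ - H w (σ a • (l : V ≃ₗ[F] V) w - w) - a * σ a * c₀)
      = -(c₃ + c₀ - H w (σ a • (l : V ≃ₗ[F] V) w - w) - a * σ a * c₀) := by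
    have h7 : H (σ a • (l : V ≃ₗ[F] V) w - w + w) (σ a • (l : V ≃ₗ[F] V) w - w + w)
        = H (σ a • (l : V ≃ₗ[F] V) w) (σ a • (l : V ≃ₗ[F] V) w) := by rw [sub_add_cancel]
    rw [h7] at hc₄
    rw [map_sub]
    linear_combination hc₄ - hc₂
  obtain ⟨hc₅, e7⟩ := eT_mul_tT d n.hp.uu _ _ _ h2u hc₂ he₄
  have e8 : eT d n.hp.uu _ c₃ h3u hc₃ * eT d n.hp.uu w c₀ hwu hc₀
      = eT d n.hp.uu _ _ h2u hc₂ * tT d n.hp.uu _ he₄ := by
    rw [e6, e7]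
    apply Subtype.ext
    apply eich_congr d.h n.hp.uu (by rw [sub_add_cancel]; exact h2u) rfl
    · rw [sub_add_cancel]
    · ring
  apply fixW_of_one n p hβ h3u hc₃
  have e9 : eT d n.hp.uu _ c₃ h3u hc₃
      = eT d n.hp.uu _ _ h2u hc₂ * tT d n.hp.uu _ he₄ * (eT d n.hp.uu w c₀ hwu hc₀)⁻¹ := by
    rw [← e8]
    group
  rw [e9, map_mul, map_mul, map_inv, map_mul, map_mul, map_inv, e5, e1, rigid_X n p hβ,
    ← map_mul, ← map_mul, ← map_mul, ← map_inv, ← map_mul, ← map_mul, ← map_inv, ← map_mul]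
  congr 1
  have hc1 := tT_comm d n.hp.uu (c' - c₀) _ he he₄
  calc eT d n.hp.uu _ _ h2u hc₂ * tT d n.hp.uu (c' - c₀) he * tT d n.hp.uu _ he₄
        * (eT d n.hp.uu w c₀ hwu hc₀ * tT d n.hp.uu (c' - c₀) he)⁻¹
      = eT d n.hp.uu _ _ h2u hc₂ * (tT d n.hp.uu (c' - c₀) he * tT d n.hp.uu _ he₄)
        * (tT d n.hp.uu (c' - c₀) he)⁻¹ * (eT d n.hp.uu w c₀ hwu hc₀)⁻¹ := by group
    _ = eT d n.hp.uu _ _ h2u hc₂ * tT d n.hp.uu _ he₄ * (eT d n.hp.uu w c₀ hwu hc₀)⁻¹ := by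
        rw [hc1]
        group

end

section
variable {F : Type u} [Field F] [Fintype F] {σ : F ≃+* F} {V : Type u} [AddCommGroup V]
  [Module F V] [FiniteDimensional F V] {H : V → V → F} {𝔗 : Type w} [Group 𝔗]
  {d : UData σ H} {ρ : ↥(T d.h) →* 𝔗} {β : 𝔗 ≃* 𝔗} {u f : V}

theorem fixW_zero (n : NData d ρ β u f) (p : ℕ) [Fact p.Prime] [CharP F p]
    (hβ : PhiSpec d ρ β n.hp id) : FixW d ρ β n.hp.uu (0 : V) := by
  have h0 : (0 : F) + σ 0 + H (0 : V) 0 = 0 := by rw [map_zero, d.h.zero_left]; ring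
  apply fixW_of_one n p hβ (d.h.zero_left u) h0
  have : eT d n.hp.uu 0 0 (d.h.zero_left u) h0 = 1 := by
    apply Subtype.ext
    show eich d.h u 0 0 n.hp.uu (d.h.zero_left u) = 1
    rw [eich_zero, tv_zero']
  rw [this, map_one, map_one]

/-- `β` fixes the elements along an isotropic line of `W` -/
theorem fixW_iso (n : NData d ρ β u f) (p : ℕ) [Fact p.Prime] [CharP F p]
    (hβ : PhiSpec d ρ β n.hp id) {x : V} (hxu : H x u = 0) (hxf : H x f = 0) (hxx : H x x = 0)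
    (t : F) : FixW d ρ β n.hp.uu (t • x) := by
  by_cases hx0 : x = 0
  · rw [hx0, smul_zero]
    exact fixW_zero n p hβ
  obtain ⟨μ, hμ0, hμ⟩ := exists_skew d.hσ
  obtain ⟨x', hx'u, hx'f, hp₂⟩ := exists_partner_W d n.hp hxu hxf hxx hx0
  have hux : H u x = 0 := by rw [d.h.symm x u, hxu, map_zero]
  have hfx : H f x = 0 := by rw [d.h.symm x f, hxf, map_zero]
  have hlu : ((tT d hxx μ hμ : ↥(T d.h)) : V ≃ₗ[F] V) u = (1 : F) • u := by
    show tv d.h x μ hxx u = (1 : F) • u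
    rw [tv_apply, hux, mul_zero, zero_smul, add_zero, one_smul]
  have hlf : ((tT d hxx μ hμ : ↥(T d.h)) : V ≃ₗ[F] V) f = (1 : F) • f := by
    show tv d.h x μ hxx f = (1 : F) • f
    rw [tv_apply, hfx, mul_zero, zero_smul, add_zero, one_smul]
  have h1 := fixW_sub n p hβ one_ne_zero one_ne_zero hlu hlf (by rw [map_one, mul_one])
    (smul_perp d.h hx'u (t / μ)) (smul_perp d.h hx'f (t / μ))
  have h2 : σ (1 : F) • ((tT d hxx μ hμ : ↥(T d.h)) : V ≃ₗ[F] V) ((t / μ) • x') - (t / μ) • x'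
      = t • x := by
    rw [map_one, one_smul]
    show tv d.h x μ hxx ((t / μ) • x') - (t / μ) • x' = t • x
    rw [tv_apply, d.h.smul_left, hp₂.vu d.h, mul_one, mul_div_cancel₀ _ hμ0, add_sub_cancel_left]
  rw [h2] at h1
  exact h1

/-- `β` is trivial on the image of `Q_u`, in dimension at least four -/
theorem rigid_Q_four (n : NData d ρ β u f) (p : ℕ) [Fact p.Prime] [CharP F p]
    (hβ : PhiSpec d ρ β n.hp id) (hdim : 4 ≤ finrank F V) {w : V} (hwu : H w u = 0)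
    (hwf : H w f = 0) : FixW d ρ β n.hp.uu w := by
  have hw := W_span_iso d n.hp hdim ((mem_Wsub d.h u f w).2 ⟨hwu, hwf⟩)
  have key : ∀ y (hy : y ∈ Submodule.span F {v : V | v ∈ Wsub d.h u f ∧ H v v = 0}),
      H y u = 0 ∧ FixW d ρ β n.hp.uu y := by
    intro y hy
    induction hy using Submodule.closure_induction with
    | zero => exact ⟨d.h.zero_left u, fixW_zero n p hβ⟩
    | add a b _ _ ha hb =>
      exact ⟨by rw [d.h.add_left, ha.1, hb.1, add_zero], fixW_add n p hβ ha.1 hb.1 ha.2 hb.2⟩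
    | smul_mem r x hx =>
      obtain ⟨hxu, hxf⟩ := (mem_Wsub d.h u f x).1 hx.1
      exact ⟨smul_perp d.h hxu r, fixW_iso n p hβ hxu hxf hx.2 r⟩
  exact (key w hw).2

/-- `β` is trivial on the image of `Q_u`, in dimension three -/
theorem rigid_Q_three (n : NData d ρ β u f) (p : ℕ) [Fact p.Prime] [CharP F p]
    (hβ : PhiSpec d ρ β n.hp id) (hdim : finrank F V = 3) {w : V} (hwu : H w u = 0)
    (hwf : H w f = 0) : FixW d ρ β n.hp.uu w := by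
  haveI : Finite F := Finite.of_fintype F
  have hfr := finrank_Wsub d.hσ d.h d.hnd n.hp
  have hfr1 : finrank F ↥(Wsub d.h u f) = 1 := by omega
  obtain ⟨b, hb⟩ := exists_onb d.hσ (isHerm_restrict d.h (Wsub d.h u f))
    (Wsub_nondeg d.hσ d.h d.hnd n.hp) hfr1
  obtain ⟨z', hz'⟩ : ∃ z' : ↥(Wsub d.h u f), z' = b 0 := ⟨_, rfl⟩
  have hzz : H (z' : V) (z' : V) = 1 := by
    have := hb 0 0
    rw [if_pos rfl, ← hz'] at this
    exact this
  obtain ⟨hzu, hzf⟩ := (mem_Wsub d.h u f _).1 z'.2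
  have hz'0 : z' ≠ 0 := by
    intro h0
    rw [h0] at hzz
    change H (0 : V) (0 : V) = 1 at hzz
    rw [d.h.zero_left] at hzz
    exact zero_ne_one hzz
  obtain ⟨t, ht⟩ := (finrank_eq_one_iff_of_nonzero' z' hz'0).1 hfr1
    ⟨w, (mem_Wsub d.h u f w).2 ⟨hwu, hwf⟩⟩
  have hwt : w = t • (z' : V) := (congrArg Subtype.val ht).symm
  obtain ⟨a₀, ha₀⟩ := exists_cube_ne d (d.hbig hdim)
  have ha₀0 : a₀ ≠ 0 := by
    rintro rfl
    rw [map_zero] at ha₀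
    exact ha₀ rfl
  have hσa₀ : σ a₀ ≠ 0 := (map_ne_zero_iff _ σ.injective).2 ha₀0
  obtain ⟨a, ha⟩ : ∃ a, a = a₀ / σ a₀ := ⟨_, rfl⟩
  have ha0 : a ≠ 0 := by rw [ha]; exact div_ne_zero ha₀0 hσa₀
  have han : a * σ a = 1 := by
    rw [ha, map_div₀, d.hσ2]
    field_simp
  have hσa : σ a = a⁻¹ := eq_inv_of_mul_eq_one_right han
  have hσa0 : σ a ≠ 0 := (map_ne_zero_iff _ σ.injective).2 ha0
  obtain ⟨l, hlu, hlf, hlz⟩ := exists_torus_unit d n.hp hzz hzu hzf a ha0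
  have hne : σ a * (σ a / a) - 1 ≠ 0 := by
    intro h0
    apply ha₀
    rw [hσa, ha] at h0
    have h1 : (a₀ / σ a₀)⁻¹ * ((a₀ / σ a₀)⁻¹ / (a₀ / σ a₀)) = 1 := sub_eq_zero.1 h0
    field_simp at h1
    exact h1.symm
  obtain ⟨r, hr⟩ : ∃ r, r = t / (σ a * (σ a / a) - 1) := ⟨_, rfl⟩
  have hrt : r * (σ a * (σ a / a) - 1) = t := by rw [hr, div_mul_cancel₀ _ hne]
  have h1 := fixW_sub n p hβ ha0 (inv_ne_zero hσa0) hlu hlf han
    (smul_perp d.h hzu r) (smul_perp d.h hzf r)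
  have h2 : σ a • (l : V ≃ₗ[F] V) (r • (z' : V)) - r • (z' : V) = t • (z' : V) := by
    rw [map_smul, hlz, smul_smul, smul_smul, ← sub_smul]
    congr 1
    linear_combination hrt
  rw [h2, ← hwt] at h1
  exact h1

theorem rigid_Q (n : NData d ρ β u f) (p : ℕ) [Fact p.Prime] [CharP F p]
    (hβ : PhiSpec d ρ β n.hp id) {g : ↥(T d.h)} (hg : g ∈ Qg d u) : β (ρ g) = ρ g := by
  obtain ⟨w, c, hwu, hwf, hc, rfl⟩ := exists_eT d n.hp hg
  by_cases h3 : finrank F V = 3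
  · exact rigid_Q_three n p hβ h3 hwu hwf c hwu hc
  · exact rigid_Q_four n p hβ (by have := d.hdim; omega) hwu hwf c hwu hc

end

section
variable {F : Type u} [Field F] [Fintype F] {σ : F ≃+* F} {V : Type u} [AddCommGroup V]
  [Module F V] [FiniteDimensional F V] {H : V → V → F} {𝔗 : Type w} [Group 𝔗]
  {d : UData σ H} {ρ : ↥(T d.h) →* 𝔗} {β : 𝔗 ≃* 𝔗} {u f : V}

/-- `β` is trivial on the image of the stabilizer of the point of `u` -/
theorem rigid_M (n : NData d ρ β u f) (p : ℕ) [Fact p.Prime] [CharP F p]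
    (hβ : PhiSpec d ρ β n.hp id) {m : ↥(T d.h)} {a : F} (ha : a ≠ 0)
    (hmu : (m : V ≃ₗ[F] V) u = a • u) : β (ρ m) = ρ m := by
  have hσa : σ a ≠ 0 := (map_ne_zero_iff _ σ.injective).2 ha
  have hiso := T_le_isom d.h m.2
  have h1 : a * H u ((m : V ≃ₗ[F] V) f) = 1 := by
    have := hiso u f
    rw [hmu, d.h.smul_left, n.hp.uv] at this
    exact this
  have hp' : HypPair H u (σ a • (m : V ≃ₗ[F] V) f) := by
    refine ⟨n.hp.uu, ?_, ?_⟩
    · rw [d.h.smul_left, d.h.smul_right, hiso, n.hp.vv, mul_zero, mul_zero]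
    · rw [d.h.smul_right, d.hσ2, h1]
  obtain ⟨q, hq, hqf⟩ := exists_Qg_map d n.hp hp'
  have hqu : (q : V ≃ₗ[F] V) u = u := hq.2.1
  have hqinv : ∀ x y : V, (q : V ≃ₗ[F] V) x = y → ((q⁻¹ : ↥(T d.h)) : V ≃ₗ[F] V) y = x := by
    intro x y hxy
    rw [← hxy, Subgroup.coe_inv, ← LinearEquiv.mul_apply, inv_mul_cancel]
    rfl
  have hlu : ((q⁻¹ * m : ↥(T d.h)) : V ≃ₗ[F] V) u = a • u := by
    rw [Subgroup.coe_mul, LinearEquiv.mul_apply, hmu, map_smul, hqinv u u hqu]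
  have hlf : ((q⁻¹ * m : ↥(T d.h)) : V ≃ₗ[F] V) f = (σ a)⁻¹ • f := by
    have h2 : (m : V ≃ₗ[F] V) f = (σ a)⁻¹ • (σ a • (m : V ≃ₗ[F] V) f) := by
      rw [smul_smul, inv_mul_cancel₀ hσa, one_smul]
    rw [Subgroup.coe_mul, LinearEquiv.mul_apply, h2, map_smul, hqinv f _ hqf]
  have h3 : m = q * (q⁻¹ * m) := by group
  rw [h3, map_mul, map_mul, rigid_Q n p hβ hq, rigid_L n p hβ ha (inv_ne_zero hσa) hlu hlf]

/-- `β` fixes the image of every transvection group -/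
theorem rigid_Xb (n : NData d ρ β u f) (p : ℕ) [Fact p.Prime] [CharP F p]
    (hβ : PhiSpec d ρ β n.hp id) {v : V} (hv : H v v = 0) (hv0 : v ≠ 0) :
    (Xb d ρ v hv).map β.toMonoidHom = Xb d ρ v hv := by
  haveI := n.q.finite
  apply map_eq_self_of_mem
  by_cases hvu : H v u = 0
  · rintro _ ⟨x, ⟨c, hc, hx⟩, rfl⟩
    have huv : H u v = 0 := by rw [d.h.symm v u, hvu, map_zero]
    have hxu : (x : V ≃ₗ[F] V) u = (1 : F) • u := by
      rw [hx, tv_apply, huv, mul_zero, zero_smul, add_zero, one_smul]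
    rw [rigid_M n p hβ one_ne_zero hxu]
    exact ⟨x, ⟨c, hc, hx⟩, rfl⟩
  · have huv : H u v ≠ 0 := by
      rw [d.h.symm v u]
      exact (map_ne_zero_iff _ σ.injective).2 hvu
    have hb0 : (H v u)⁻¹ ≠ 0 := inv_ne_zero hvu
    have hp' : HypPair H u ((H v u)⁻¹ • v) := by
      refine ⟨n.hp.uu, iso_smul' d.h hv _, ?_⟩
      rw [d.h.smul_right, map_inv₀, ← d.h.symm v u, inv_mul_cancel₀ huv]
    obtain ⟨q, hq, hqf⟩ := exists_Qg_map d n.hp hp'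
    have h1 : Xb d ρ v hv = (Xb d ρ f n.hp.vv).map (MulAut.conj (ρ q)).toMonoidHom := by
      rw [conj_Xb d ρ q f n.hp.vv, ← Xb_smul d ρ v hv _ hb0]
      congr 1
      exact hqf.symm
    rw [h1]
    rintro _ ⟨y, hy, rfl⟩
    have h2 : β y ∈ Xb d ρ f n.hp.vv := by
      rw [← n.hXf]
      exact ⟨y, hy, rfl⟩
    refine ⟨β y, h2, ?_⟩
    show ρ q * β y * (ρ q)⁻¹ = β (ρ q * y * (ρ q)⁻¹)
    rw [map_mul, map_mul, map_inv, rigid_Q n p hβ hq]

/-- rigidity -/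
theorem rigid (n : NData d ρ β u f) (p : ℕ) [Fact p.Prime] [CharP F p]
    (hβ : PhiSpec d ρ β n.hp id) (x : 𝔗) : β x = x := by
  haveI : Finite F := Finite.of_fintype F
  obtain ⟨g, rfl⟩ := n.q.surj x
  obtain ⟨g', hg'⟩ := n.q.surj (β (ρ g))
  rw [← hg', n.q.eq_iff]
  have key : ∀ v : V, v ≠ 0 → H v v = 0 → ∃ a : F, (g' : V ≃ₗ[F] V) v = a • (g : V ≃ₗ[F] V) v := by
    intro v hv0 hv
    have h1 : Xb d ρ ((g' : V ≃ₗ[F] V) v) (T_iso' d g' hv)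
        ≤ Xb d ρ ((g : V ≃ₗ[F] V) v) (T_iso' d g hv) := by
      rw [← conj_Xb d ρ g' v hv, ← conj_Xb d ρ g v hv]
      rintro _ ⟨y, hy, rfl⟩
      rw [← rigid_Xb n p hβ hv hv0] at hy
      obtain ⟨y₀, hy₀, rfl⟩ := hy
      have h2 : β (ρ g * y₀ * (ρ g)⁻¹) ∈ (Xb d ρ v hv).map (MulAut.conj (ρ g)).toMonoidHom := by
        rw [conj_Xb d ρ g v hv, ← rigid_Xb n p hβ (T_iso' d g hv) (equiv_ne_zero _ hv0),
          ← conj_Xb d ρ g v hv]
        exact ⟨_, ⟨y₀, hy₀, rfl⟩, rfl⟩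
      rw [map_mul, map_mul, map_inv, ← hg'] at h2
      exact h2
    exact n.q.Xb_le p (T_iso' d g' hv) (T_iso' d g hv) (equiv_ne_zero _ hv0)
      (equiv_ne_zero _ hv0) h1
  have hfix : ∀ v : V, v ≠ 0 → H v v = 0 →
      ∃ a : F, ((g⁻¹ * g' : ↥(T d.h)) : V ≃ₗ[F] V).toLinearMap v = a • v := by
    intro v hv0 hv
    obtain ⟨a, ha⟩ := key v hv0 hv
    refine ⟨a, ?_⟩
    show ((g⁻¹ * g' : ↥(T d.h)) : V ≃ₗ[F] V) v = a • v
    rw [Subgroup.coe_mul, LinearEquiv.mul_apply, ha, map_smul, Subgroup.coe_inv,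
      ← LinearEquiv.mul_apply, inv_mul_cancel]
    rfl
  obtain ⟨a, ha⟩ := scalar_of_fix d.hσ d.h d.hnd (by have := d.hdim; omega) _ hfix
  refine ⟨a, fun x => ?_⟩
  have h3 := ha x
  change ((g⁻¹ * g' : ↥(T d.h)) : V ≃ₗ[F] V) x = a • x at h3
  rw [Subgroup.coe_mul, LinearEquiv.mul_apply, Subgroup.coe_inv] at h3
  have h4 := congrArg (g : V ≃ₗ[F] V) h3
  rw [← LinearEquiv.mul_apply, mul_inv_cancel, map_smul] at h4
  exact h4

end

end Cfsg.Agent.Lib.Helper5.UAut
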