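import Mathlib
import Cfsg.Agent.Lib.Helper5.UAut13

set_option autoImplicit false

/-! Every automorphism of the quotient of `T` by its scalars is induced by a semilinear
similitude. -/

namespace Cfsg.Agent.Lib.Helper5.UAut

open Module Cfsg.Agent.Lib.Helper2 Cfsg.Agent.Lib.Helper2.UT Cfsg.Agent.Lib.Helper2.IsomDecomp
  Cfsg.Agent.Lib.Helper2.HermDecomp Cfsg.Agent.Lib.Helper5.PSLCoset

universe u w

section
variable {F : Type u} [Field F] {σ : F ≃+* F} {V : Type u} [AddCommGroup V] [Module F V]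
  {H : V → V → F}

/-- the semilinear map assembled from its restriction to `W` -/
noncomputable def slMap (H : V → V → F) (u f : V) (Φ : V → V) (τ : F ≃+* F) (κ : F) (x : V) : V :=
  (κ * τ (H x f)) • u + Φ (x - H x f • u - H x u • f) + τ (H x u) • f

theorem proj_perp (h : IsHerm σ H) {u f : V} (hp : HypPair H u f) (x : V) :
    H (x - H x f • u - H x u • f) u = 0 ∧ H (x - H x f • u - H x u • f) f = 0 := by
  constructor
  · rw [h.sub_left, h.sub_left, h.smul_left, h.smul_left, hp.uu, hp.vu h]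
    ring
  · rw [h.sub_left, h.sub_left, h.smul_left, h.smul_left, hp.uv, hp.vv]
    ring

theorem slMap_semiSim (h : IsHerm σ H) {u f : V} (hp : HypPair H u f) {Φ : V → V}
    {τ : F ≃+* F} {κ : F} (hκ0 : κ ≠ 0) (hκσ : σ κ = κ) (hcomm : ∀ a, σ (τ a) = τ (σ a))
    (hmem : ∀ w, H w u = 0 → H w f = 0 → H (Φ w) u = 0 ∧ H (Φ w) f = 0)
    (hadd : ∀ w₁ w₂, H w₁ u = 0 → H w₁ f = 0 → H w₂ u = 0 → H w₂ f = 0 →
      Φ (w₁ + w₂) = Φ w₁ + Φ w₂)
    (hsmul : ∀ (a : F) (w : V), H w u = 0 → H w f = 0 → Φ (a • w) = τ a • Φ w)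
    (hform : ∀ w₁ w₂ : V, H w₁ u = 0 → H w₁ f = 0 → H w₂ u = 0 → H w₂ f = 0 →
      H (Φ w₁) (Φ w₂) = κ * τ (H w₁ w₂)) :
    SemiSim σ H (slMap H u f Φ τ κ) τ κ where
  add := by
    intro x y
    unfold slMap
    obtain ⟨h1, h2⟩ := proj_perp h hp x
    obtain ⟨h3, h4⟩ := proj_perp h hp y
    have e1 : x + y - H (x + y) f • u - H (x + y) u • f
        = (x - H x f • u - H x u • f) + (y - H y f • u - H y u • f) := by
      rw [h.add_left, h.add_left]
      module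
    rw [e1, hadd _ _ h1 h2 h3 h4, h.add_left, h.add_left, map_add, map_add]
    module
  smul := by
    intro a x
    unfold slMap
    obtain ⟨h1, h2⟩ := proj_perp h hp x
    have e1 : a • x - H (a • x) f • u - H (a • x) u • f = a • (x - H x f • u - H x u • f) := by
      rw [h.smul_left, h.smul_left]
      module
    rw [e1, hsmul a _ h1 h2, h.smul_left, h.smul_left, map_mul, map_mul]
    module
  form := by
    intro x y
    unfold slMap
    obtain ⟨h1, h2⟩ := proj_perp h hp x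
    obtain ⟨h3, h4⟩ := proj_perp h hp y
    obtain ⟨h5, h6⟩ := hmem _ h1 h2
    obtain ⟨h7, h8⟩ := hmem _ h3 h4
    have h5' : H u (Φ (y - H y f • u - H y u • f)) = 0 := by rw [h.symm _ u, h7, map_zero]
    have h6' : H f (Φ (y - H y f • u - H y u • f)) = 0 := by rw [h.symm _ f, h8, map_zero]
    simp only [h.add_left, h.add_right, h.smul_left, h.smul_right, hp.uu, hp.vv, hp.uv, hp.vu h,
      h5, h6, h5', h6', hform _ _ h1 h2 h3 h4, map_mul, hκσ, hcomm]
    have e2 : H x y = H x f * σ (H y u) + H x u * σ (H y f)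
        + H (x - H x f • u - H x u • f) (y - H y f • u - H y u • f) := by
      simp only [h.sub_left, h.sub_right, h.smul_left, h.smul_right, hp.uu, hp.vv, hp.uv,
        hp.vu h]
      rw [h.symm y u, h.symm y f]
      ring
    rw [e2, map_add, map_add, map_mul, map_mul]
    ring
  hκ0 := hκ0
  hκσ := hκσ
  comm := hcomm

end

section
variable {F : Type u} [Field F] [Fintype F] {σ : F ≃+* F} {V : Type u} [AddCommGroup V]
  [Module F V] [FiniteDimensional F V] {H : V → V → F} {𝔗 : Type w} [Group 𝔗]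
  {d : UData σ H} {ρ : ↥(T d.h) →* 𝔗} {α : 𝔗 ≃* 𝔗} {u f : V}

theorem slMap_u (h : IsHerm σ H) {u f : V} (hp : HypPair H u f) {Φ : V → V} {τ : F ≃+* F}
    {κ : F} (hΦ0 : Φ 0 = 0) : slMap H u f Φ τ κ u = κ • u := by
  unfold slMap
  simp only [hp.uv, hp.uu, map_one, map_zero, one_smul, zero_smul, sub_self, sub_zero, hΦ0,
    mul_one, add_zero]

theorem slMap_f (h : IsHerm σ H) {u f : V} (hp : HypPair H u f) {Φ : V → V} {τ : F ≃+* F}
    {κ : F} (hΦ0 : Φ 0 = 0) : slMap H u f Φ τ κ f = f := by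
  unfold slMap
  simp only [hp.vv, hp.vu h, map_one, map_zero, one_smul, zero_smul, mul_zero, sub_zero,
    sub_self, hΦ0, zero_add]

theorem slMap_W {u f : V} {Φ : V → V} {τ : F ≃+* F}
    {κ : F} {w : V} (hwu : H w u = 0) (hwf : H w f = 0) : slMap H u f Φ τ κ w = Φ w := by
  unfold slMap
  simp only [hwu, hwf, map_zero, mul_zero, zero_smul, sub_zero, zero_add, add_zero]

/-- the normalized case of the main theorem -/
theorem NData.eq_semi (n : NData d ρ α u f) (p : ℕ) [Fact p.Prime] [CharP F p] :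
    ∃ (s : V → V) (τ : F ≃+* F) (κ : F) (hs : SemiSim σ H s τ κ) (hb : Function.Bijective s),
      ∀ g : ↥(T d.h), α (ρ g) = ρ (hs.cE hb d g) := by
  haveI : Finite V := Module.finite_of_finite F
  haveI := n.q.finite
  obtain ⟨Φ, Φ', ψ, D⟩ := n.exists_phiData p
  obtain ⟨τ, hτ⟩ := D.exists_tau n p
  obtain ⟨κ, hκ0, hκσ, hcomm, hform⟩ := D.form n p hτ
  have hs : SemiSim σ H (slMap H u f Φ τ κ) τ κ :=
    slMap_semiSim d.h n.hp hκ0 hκσ hcomm (fun w hwu hwf => D.spec.mem n hwu hwf)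
      (fun w₁ w₂ h1 h2 h3 h4 => D.spec.add n p h1 h2 h3 h4) hτ hform
  have hb := hs.bijective d.h d.hnd
  obtain ⟨c', hc'⟩ := hs.exists_bar hb n.q
  have hΦ0 := D.zero n p
  have hsu : slMap H u f Φ τ κ u = κ • u := slMap_u d.h n.hp hΦ0
  have hsf : slMap H u f Φ τ κ f = f := slMap_f d.h n.hp hΦ0
  -- `c'` fixes the two points
  have hc'u : (Xb d ρ u n.hp.uu).map c'.toMonoidHom = Xb d ρ u n.hp.uu := by
    apply map_eq_self_of_mem
    rintro _ ⟨x, ⟨c, hc, hx⟩, rfl⟩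
    rw [hc']
    refine ⟨_, ?_, rfl⟩
    rw [← Xg_smul d u n.hp.uu κ hκ0]
    refine ⟨κ⁻¹ * τ c, hs.skew hc, ?_⟩
    rw [hs.cE_coe, hx, hs.conjL_tv hb d.h]
    congr 1
  have hc'f : (Xb d ρ f n.hp.vv).map c'.toMonoidHom = Xb d ρ f n.hp.vv := by
    apply map_eq_self_of_mem
    rintro _ ⟨x, ⟨c, hc, hx⟩, rfl⟩
    rw [hc']
    refine ⟨_, ?_, rfl⟩
    refine ⟨κ⁻¹ * τ c, hs.skew hc, ?_⟩
    rw [hs.cE_coe, hx, hs.conjL_tv hb d.h]
    congr 1
  -- the action of `c'` on `Q_u`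
  have hcE : ∀ (w : V) (c : F) (hwu : H w u = 0) (_ : H w f = 0) (hc : c + σ c + H w w = 0),
      ∃ (hwu' : H (Φ w) u = 0) (hc'' : κ * τ c + σ (κ * τ c) + H (Φ w) (Φ w) = 0),
        c' (ρ (eT d n.hp.uu w c hwu hc)) = ρ (eT d n.hp.uu (Φ w) (κ * τ c) hwu' hc'') := by
    intro w c hwu hwf hc
    obtain ⟨hwu', hwf'⟩ := D.spec.mem n hwu hwf
    have hc'' : κ * τ c + σ (κ * τ c) + H (Φ w) (Φ w) = 0 := by
      rw [map_mul, hκσ, hcomm, hform w w hwu hwf hwu hwf]
      have := congrArg (fun z => κ * τ z) hc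
      simp only [map_add, map_zero, mul_zero] at this
      linear_combination this
    refine ⟨hwu', hc'', ?_⟩
    rw [hc']
    congr 1
    apply Subtype.ext
    rw [hs.cE_coe]
    show hs.conjL hb (eich d.h u w c n.hp.uu hwu) = eich d.h u (Φ w) (κ * τ c) n.hp.uu hwu'
    rw [hs.conjL_eich hb d.h]
    have e1 := eich_smul_left d.h d.hσ2 u (κ⁻¹ • Φ w) (κ⁻¹ * τ c) κ n.hp.uu
      (by rw [d.h.smul_left, hwu', mul_zero])
    refine (eich_congr d.h _ _ hsu ?_ rfl).trans (e1.trans ?_)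
    · rw [slMap_W hwu hwf]
    · apply eich_congr d.h n.hp.uu _ rfl
      · rw [hκσ, smul_smul, mul_inv_cancel₀ hκ0, one_smul]
      · rw [hκσ]
        field_simp
  -- the quotient automorphism
  have nβ : NData d ρ (α.trans c'.symm) u f :=
    { q := n.q
      hp := n.hp
      hXu := by
        have : (α.trans c'.symm).toMonoidHom = c'.symm.toMonoidHom.comp α.toMonoidHom := rfl
        rw [this, ← Subgroup.map_map, n.hXu, map_symm_eq c' hc'u]
      hXf := by
        have : (α.trans c'.symm).toMonoidHom = c'.symm.toMonoidHom.comp α.toMonoidHom := rfl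
        rw [this, ← Subgroup.map_map, n.hXf, map_symm_eq c' hc'f] }
  have hβ : PhiSpec d ρ (α.trans c'.symm) nβ.hp id := by
    intro w c hwu hwf hc
    obtain ⟨c₁, hwu₁, hwf₁, hc₁, e1⟩ := D.spec w c hwu hwf hc
    obtain ⟨c₂, hc₂⟩ : ∃ c₂, c₂ = τ.symm (κ⁻¹ * c₁) := ⟨_, rfl⟩
    have hτc₂ : κ * τ c₂ = c₁ := by
      rw [hc₂, RingEquiv.apply_symm_apply, ← mul_assoc, mul_inv_cancel₀ hκ0, one_mul]
    have hc₂v : c₂ + σ c₂ + H w w = 0 := by
      have h1 : κ * τ (c₂ + σ c₂ + H w w) = 0 := by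
        rw [map_add, map_add, ← hcomm, mul_add, mul_add, ← hform w w hwu hwf hwu hwf, hτc₂]
        have : κ * σ (τ c₂) = σ c₁ := by rw [← hτc₂, map_mul, hκσ]
        rw [this]
        exact hc₁
      have h2 := (mul_eq_zero.1 h1).resolve_left hκ0
      exact (map_eq_zero_iff _ τ.injective).1 h2
    obtain ⟨hwu₂, hc₃, e2⟩ := hcE w c₂ hwu hwf hc₂v
    refine ⟨c₂, hwu, hwf, hc₂v, ?_⟩
    show c'.symm (α (ρ (eT d n.hp.uu w c hwu hc))) = ρ (eT d n.hp.uu w c₂ hwu hc₂v)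
    rw [e1, MulEquiv.symm_apply_eq, e2]
    congr 1
    apply Subtype.ext
    exact eich_congr d.h n.hp.uu hwu₁ rfl rfl hτc₂.symm
  refine ⟨_, τ, κ, hs, hb, fun g => ?_⟩
  have h1 := rigid nβ p hβ (ρ g)
  have h2 : c'.symm (α (ρ g)) = ρ g := h1
  rw [MulEquiv.symm_apply_eq] at h2
  rw [h2, hc']

theorem map_symm_eq' {G : Type*} [Group G] (c : G ≃* G) {X Y : Subgroup G}
    (h : X.map c.toMonoidHom = Y) : Y.map c.symm.toMonoidHom = X := by
  rw [← h, Subgroup.map_map]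
  have : c.symm.toMonoidHom.comp c.toMonoidHom = MonoidHom.id G := by
    ext x
    simp
  rw [this, Subgroup.map_id]

/-- every automorphism of the quotient is induced by a semilinear similitude -/
theorem aut_eq_semi (q : QMap d ρ) (p : ℕ) [Fact p.Prime] [CharP F p] (α : 𝔗 ≃* 𝔗) :
    ∃ (s : V → V) (τ : F ≃+* F) (κ : F), SemiSim σ H s τ κ ∧ Function.Bijective s ∧
      ∀ g : ↥(T d.h), ∃ g' : ↥(T d.h), α (ρ g) = ρ g' ∧
        ∀ x, (g' : V ≃ₗ[F] V) (s x) = s ((g : V ≃ₗ[F] V) x) := by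
  obtain ⟨u, f, hp⟩ := exists_hypPair d.hσ d.h d.hnd (by have := d.hdim; omega)
  have hu0 := hyp_u_ne_zero d.h hp
  have hf0 := hyp_f_ne_zero d.h hp
  obtain ⟨u₁, hu₁, hu₁0, e1⟩ := q.map_Xb p α u hp.uu hu0
  obtain ⟨f₁, hf₁, hf₁0, e2⟩ := q.map_Xb p α f hp.vv hf0
  have hne : H u₁ f₁ ≠ 0 := by
    intro h0
    have h1 := (q.Xb_comm_iff p hu₁ hf₁ hu₁0 hf₁0).2 h0
    have h2 : ∀ x ∈ Xb d ρ u hp.uu, ∀ y ∈ Xb d ρ f hp.vv, x * y = y * x := by
      intro x hx y hy
      have h3 := h1 (α x) (by rw [← e1]; exact ⟨x, hx, rfl⟩) (α y)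
        (by rw [← e2]; exact ⟨y, hy, rfl⟩)
      rw [← map_mul, ← map_mul] at h3
      exact α.injective h3
    have h4 := (q.Xb_comm_iff p hp.uu hp.vv hu0 hf0).1 h2
    rw [hp.uv] at h4
    exact one_ne_zero h4
  obtain ⟨a, ha⟩ : ∃ a : F, a = σ (H u₁ f₁)⁻¹ := ⟨_, rfl⟩
  have ha0 : a ≠ 0 := by
    rw [ha]
    exact (map_ne_zero σ).2 (inv_ne_zero hne)
  have hp' : HypPair H u₁ (a • f₁) :=
    ⟨hu₁, iso_smul' d.h hf₁ a, by rw [d.h.smul_right, ha, d.hσ2, inv_mul_cancel₀ hne]⟩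
  obtain ⟨t, ht, htu, htf⟩ := exists_T_map_pair d.hσ d.h d.hnd d.hdim d.hbig hp hp'
  obtain ⟨tt, htt⟩ : ∃ tt : ↥(T d.h), (tt : V ≃ₗ[F] V) = t := ⟨⟨t, ht⟩, rfl⟩
  have c1 := conj_Xb d ρ tt u hp.uu
  have c2 := conj_Xb d ρ tt f hp.vv
  have n : NData d ρ (α.trans (MulAut.conj (ρ tt)).symm) u f :=
    { q := q
      hp := hp
      hXu := by
        have : (α.trans (MulAut.conj (ρ tt)).symm).toMonoidHom
            = (MulAut.conj (ρ tt)).symm.toMonoidHom.comp α.toMonoidHom := rfl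
        rw [this, ← Subgroup.map_map, e1]
        apply map_symm_eq'
        rw [c1]
        congr 1
        rw [htt, htu]
      hXf := by
        have : (α.trans (MulAut.conj (ρ tt)).symm).toMonoidHom
            = (MulAut.conj (ρ tt)).symm.toMonoidHom.comp α.toMonoidHom := rfl
        rw [this, ← Subgroup.map_map, e2]
        apply map_symm_eq'
        rw [c2, ← Xb_smul d ρ f₁ hf₁ a ha0]
        congr 1
        rw [htt, htf] }
  obtain ⟨s', τ, κ, hs', hb', hmain⟩ := n.eq_semi p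
  have hiso := T_le_isom d.h ht
  have hs : SemiSim σ H (fun x => t (s' x)) τ κ :=
    { add := fun x y => by
        show t (s' (x + y)) = t (s' x) + t (s' y)
        rw [hs'.add, map_add]
      smul := fun b x => by
        show t (s' (b • x)) = τ b • t (s' x)
        rw [hs'.smul, map_smul]
      form := fun x y => by
        show H (t (s' x)) (t (s' y)) = κ * τ (H x y)
        rw [hiso, hs'.form]
      hκ0 := hs'.hκ0
      hκσ := hs'.hκσ
      comm := hs'.comm }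
  refine ⟨_, τ, κ, hs, t.bijective.comp hb', fun g => ?_⟩
  refine ⟨tt * hs'.cE hb' d g * tt⁻¹, ?_, fun x => ?_⟩
  · have h1 := hmain g
    have h2 : (MulAut.conj (ρ tt)).symm (α (ρ g)) = ρ (hs'.cE hb' d g) := h1
    rw [MulEquiv.symm_apply_eq] at h2
    rw [h2, MulAut.conj_apply, map_mul, map_mul, map_inv]
  · show ((tt * hs'.cE hb' d g * tt⁻¹ : ↥(T d.h)) : V ≃ₗ[F] V) (t (s' x)) = t (s' ((g : V ≃ₗ[F] V) x))
    rw [Subgroup.coe_mul, Subgroup.coe_mul, Subgroup.coe_inv, htt, hs'.cE_coe,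
      LinearEquiv.mul_apply, LinearEquiv.mul_apply]
    have : t⁻¹ (t (s' x)) = s' x := t.symm_apply_apply _
    rw [this, hs'.conjL_apply_s]


end

end Cfsg.Agent.Lib.Helper5.UAut
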