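import Mathlib
import Cfsg.Agent.Lib.Helper5.UAut14
import Cfsg.Agent.Lib.Helper5.PSUAut3
import Cfsg.Agent.Lib.Helper2.UT18
import Cfsg.Agent.Lib.Helper1.SUCenter

set_option autoImplicit false

/-! Transport of the abstract automorphism theorem to `PSU_n(q)`. -/

namespace Cfsg.Agent.Lib.Helper5.UAut

open Module Matrix Cfsg.Agent.Lib.Helper2 Cfsg.Agent.Lib.Helper2.UT
  Cfsg.Agent.Lib.Helper2.IsomDecomp Cfsg.Agent.Lib.Helper2.HermDecomp
  Cfsg.Agent.Lib.Helper5.PSLCoset Cfsg.Agent.Lib.Helper5.PSUAut Cfsg.Agent.Lib.Helper5.SLnAut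

universe u

section
variable {F : Type u} [Field F] [Fintype F] {n q : ℕ}

/-- the data for the hermitian space `F^n` -/
theorem uData_herm (hF : Fintype.card F = q ^ 2) (hn : 3 ≤ n) (h32 : ¬ (n = 3 ∧ q = 2))
    {σ : F ≃+* F} (hσ : orderOf σ = 2) (hσq : ∀ a : F, σ a = a ^ q) :
    UData σ (Cfsg.hermForm n F q) := by
  have hσ2 := WittHerm.sigma_sigma hσ
  have hq2 : 2 ≤ q := Cfsg.Agent.Lib.Helper1.HermCount.two_le_q hF
  have hdim : finrank F (Fin n → F) = n := by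
    rw [Module.finrank_fin_fun]
  refine ⟨hσ, GUIsom.isHerm_hermForm n q σ hσ2 hσq,
    fun v hv => GUIsom.hermForm_nondeg n q (by omega) v hv, by rw [hdim]; exact hn, ?_⟩
  intro h3
  rw [hdim] at h3
  have hq3 : 3 ≤ q := by
    by_contra hlt
    exact h32 ⟨h3, by omega⟩
  obtain ⟨c, hc, hc0, hc1⟩ := exists_fixed_ne hF hq3
  exact ⟨c, by rw [hσq, hc], hc0, hc1⟩

/-- `SU_n(q)` as the group generated by the transvections -/
noncomputable def eSU (hF : Fintype.card F = q ^ 2) (hn : 3 ≤ n) (h32 : ¬ (n = 3 ∧ q = 2))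
    {σ : F ≃+* F} (hσ : orderOf σ = 2) (hσq : ∀ a : F, σ a = a ^ q)
    (h : IsHerm σ (Cfsg.hermForm n F q)) : ↥(Cfsg.SU n F q) ≃* ↥(T h) :=
  (MonoidHom.ofInjective suLin_injective).trans
    (MulEquiv.subgroupCongr (range_suLin hF hn h32 hσ hσq h))

theorem eSU_coe (hF : Fintype.card F = q ^ 2) (hn : 3 ≤ n) (h32 : ¬ (n = 3 ∧ q = 2))
    {σ : F ≃+* F} (hσ : orderOf σ = 2) (hσq : ∀ a : F, σ a = a ^ q)
    (h : IsHerm σ (Cfsg.hermForm n F q)) (A : ↥(Cfsg.SU n F q)) :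
    ((eSU hF hn h32 hσ hσq h A : ↥(T h)) : (Fin n → F) ≃ₗ[F] (Fin n → F)) = suLin n F q A := rfl

/-- the projection onto `PSU_n(q)` -/
noncomputable def rhoSU (hF : Fintype.card F = q ^ 2) (hn : 3 ≤ n) (h32 : ¬ (n = 3 ∧ q = 2))
    {σ : F ≃+* F} (hσ : orderOf σ = 2) (hσq : ∀ a : F, σ a = a ^ q)
    (h : IsHerm σ (Cfsg.hermForm n F q)) : ↥(T h) →* Cfsg.PSU n F q :=
  (QuotientGroup.mk' (Subgroup.center ↥(Cfsg.SU n F q))).comp
    (eSU hF hn h32 hσ hσq h).symm.toMonoidHom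

theorem rhoSU_apply (hF : Fintype.card F = q ^ 2) (hn : 3 ≤ n) (h32 : ¬ (n = 3 ∧ q = 2))
    {σ : F ≃+* F} (hσ : orderOf σ = 2) (hσq : ∀ a : F, σ a = a ^ q)
    (h : IsHerm σ (Cfsg.hermForm n F q)) (g : ↥(T h)) :
    rhoSU hF hn h32 hσ hσq h g
      = (QuotientGroup.mk ((eSU hF hn h32 hσ hσq h).symm g) : Cfsg.PSU n F q) := rfl

theorem rhoSU_e (hF : Fintype.card F = q ^ 2) (hn : 3 ≤ n) (h32 : ¬ (n = 3 ∧ q = 2))
    {σ : F ≃+* F} (hσ : orderOf σ = 2) (hσq : ∀ a : F, σ a = a ^ q)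
    (h : IsHerm σ (Cfsg.hermForm n F q)) (A : ↥(Cfsg.SU n F q)) :
    rhoSU hF hn h32 hσ hσq h (eSU hF hn h32 hσ hσq h A)
      = (QuotientGroup.mk A : Cfsg.PSU n F q) := by
  rw [rhoSU_apply, MulEquiv.symm_apply_apply]

theorem qMap_rhoSU (hF : Fintype.card F = q ^ 2) (hn : 3 ≤ n) (h32 : ¬ (n = 3 ∧ q = 2))
    {σ : F ≃+* F} (hσ : orderOf σ = 2) (hσq : ∀ a : F, σ a = a ^ q)
    (d : UData σ (Cfsg.hermForm n F q)) : QMap d (rhoSU hF hn h32 hσ hσq d.h) where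
  surj := by
    intro x
    obtain ⟨A, rfl⟩ := QuotientGroup.mk_surjective x
    exact ⟨eSU hF hn h32 hσ hσq d.h A, rhoSU_e hF hn h32 hσ hσq d.h A⟩
  ker := by
    intro g
    obtain ⟨A, rfl⟩ := (eSU hF hn h32 hσ hσq d.h).surjective g
    rw [rhoSU_e, QuotientGroup.eq_one_iff]
    constructor
    · intro hA
      have h1 := Cfsg.Agent.Lib.Helper1.SUCenter.central_scalar hF hn A hA ⟨0, by omega⟩
      refine ⟨((A : Matrix.SpecialLinearGroup (Fin n) F) : Matrix (Fin n) (Fin n) F)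
        ⟨0, by omega⟩ ⟨0, by omega⟩, fun x => ?_⟩
      rw [eSU_coe, suLin_apply]
      conv_lhs => rw [h1]
      rw [Matrix.smul_mulVec, Matrix.one_mulVec]
    · rintro ⟨a, ha⟩
      have h1 : ((A : Matrix.SpecialLinearGroup (Fin n) F) : Matrix (Fin n) (Fin n) F)
          = a • (1 : Matrix (Fin n) (Fin n) F) := by
        apply Matrix.toLin'.injective
        apply LinearMap.ext
        intro x
        rw [Matrix.toLin'_apply, Matrix.toLin'_apply, ← suLin_apply, ← eSU_coe hF hn h32 hσ hσq d.h,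
          ha, Matrix.smul_mulVec, Matrix.one_mulVec]
      rw [Subgroup.mem_center_iff]
      intro B
      apply Subtype.ext
      apply Subtype.ext
      rw [Subgroup.coe_mul, Subgroup.coe_mul, Matrix.SpecialLinearGroup.coe_mul,
        Matrix.SpecialLinearGroup.coe_mul, h1, Matrix.mul_smul, Matrix.smul_mul, Matrix.mul_one,
        Matrix.one_mul]

end

section
variable {F : Type u} [Field F] {n : ℕ} {σ : F ≃+* F} {H : (Fin n → F) → (Fin n → F) → F}
  {s : (Fin n → F) → (Fin n → F)} {τ : F ≃+* F} {κ : F}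

/-- the matrix of a semilinear map -/
def sMat (s : (Fin n → F) → (Fin n → F)) : Matrix (Fin n) (Fin n) F :=
  Matrix.of fun i j => s (Pi.single j 1) i

theorem SemiSim.apply_eq (hs : SemiSim σ H s τ κ) (x : Fin n → F) :
    s x = sMat s *ᵥ (fun j => τ (x j)) := by
  let sA : (Fin n → F) →+ (Fin n → F) := ⟨⟨s, hs.zero⟩, hs.add⟩
  have hx : x = ∑ j, x j • (Pi.single j 1 : Fin n → F) := by
    ext i
    simp [Finset.sum_apply, Pi.single_apply]
  have h1 : s x = ∑ j, τ (x j) • s (Pi.single j 1) := by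
    conv_lhs => rw [hx]
    show sA _ = _
    rw [map_sum]
    apply Finset.sum_congr rfl
    intro j _
    exact hs.smul _ _
  rw [h1]
  ext i
  simp [sMat, Matrix.mulVec, dotProduct, Finset.sum_apply, mul_comm]

theorem SemiSim.isUnit_sMat (hs : SemiSim σ H s τ κ) (hb : Function.Bijective s) :
    IsUnit (sMat s) := by
  rw [← Matrix.mulVec_injective_iff_isUnit]
  intro y y' hyy
  have h1 : ∀ z : Fin n → F, z = fun j => τ ((fun i => τ.symm (z i)) j) := by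
    intro z
    funext j
    rw [RingEquiv.apply_symm_apply]
  rw [h1 y, h1 y'] at hyy
  have hyy' : sMat s *ᵥ (fun j => τ ((fun i => τ.symm (y i)) j))
      = sMat s *ᵥ (fun j => τ ((fun i => τ.symm (y' i)) j)) := hyy
  rw [← hs.apply_eq, ← hs.apply_eq] at hyy'
  have h2 := hb.1 hyy'
  funext j
  have h3 := congrFun h2 j
  exact τ.symm.injective h3

end

section
variable {F : Type u} [Field F] [Fintype F] {n q : ℕ}

/-- every automorphism of `PSU_n(q)` is induced by a semilinear similitude -/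
theorem aut_PSU {p f : ℕ} [Fact p.Prime] (hq : q = p ^ f) (hF : Fintype.card F = q ^ 2)
    (hn : 3 ≤ n) (h32 : ¬ (n = 3 ∧ q = 2)) (α : MulAut (Cfsg.PSU n F q)) :
    ∃ (g : ↥(CU n F q)) (τ : F ≃+* F), α = cjC g * fa τ := by
  classical
  obtain ⟨σ, hσ, hσq⟩ := exists_sigma hF
  have d := uData_herm hF hn h32 hσ hσq
  have qm := qMap_rhoSU hF hn h32 hσ hσq d
  haveI : CharP F p := charP_of_card_eq_prime_pow (f := f * 2) (by rw [hF, hq, ← pow_mul])
  obtain ⟨s, τ, κ, hs, hb, hmain⟩ := aut_eq_semi qm p α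
  have hP := hs.isUnit_sMat hb
  obtain ⟨P, hPe⟩ : ∃ P : GL (Fin n) F, (P : Matrix (Fin n) (Fin n) F) = sMat s :=
    ⟨hP.unit, rfl⟩
  have hPCU : P ∈ CU n F q := by
    refine ⟨Units.mk0 κ hs.hκ0, fun u v => ?_⟩
    obtain ⟨u', rfl⟩ : ∃ u' : Fin n → F, u = fun j => τ (u' j) :=
      ⟨fun i => τ.symm (u i), by funext j; rw [RingEquiv.apply_symm_apply]⟩
    obtain ⟨v', rfl⟩ : ∃ v' : Fin n → F, v = fun j => τ (v' j) :=
      ⟨fun i => τ.symm (v i), by funext j; rw [RingEquiv.apply_symm_apply]⟩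
    rw [hPe, ← hs.apply_eq, ← hs.apply_eq, hs.form, herm_map]
    rfl
  refine ⟨⟨P, hPCU⟩, τ, ?_⟩
  apply MulEquiv.ext
  intro x
  obtain ⟨A, rfl⟩ := QuotientGroup.mk_surjective x
  rw [MulAut.mul_apply, fa_mk, cjC_mk]
  obtain ⟨g', h1, h2⟩ := hmain (eSU hF hn h32 hσ hσq d.h A)
  rw [rhoSU_e] at h1
  rw [h1, ← rhoSU_e hF hn h32 hσ hσq d.h]
  congr 1
  apply Subtype.ext
  rw [eSU_coe]
  apply LinearEquiv.ext
  intro y
  obtain ⟨x, rfl⟩ := hb.2 y
  rw [h2, eSU_coe, suLin_apply, suLin_apply]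
  show s (((A : Matrix.SpecialLinearGroup (Fin n) F) : Matrix (Fin n) (Fin n) F) *ᵥ x)
    = ((glConj P (fieldAut τ A.1) : Matrix.SpecialLinearGroup (Fin n) F) :
      Matrix (Fin n) (Fin n) F) *ᵥ s x
  rw [glConj_coe, fieldAut_coe, hs.apply_eq, hs.apply_eq x, ← hPe, Matrix.mulVec_mulVec,
    Matrix.mul_assoc, ← Units.val_mul, inv_mul_cancel, Units.val_one, Matrix.mul_one,
    ← Matrix.mulVec_mulVec, map_mulVec']

end

end Cfsg.Agent.Lib.Helper5.UAut
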