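import Mathlib
import Cfsg.Agent.Lib.Helper5.PSUField2
import Cfsg.Agent.Lib.Helper5.UAut15

set_option autoImplicit false

/-! Conjugacy of elements of prime order in a field automorphism coset of `PGU_n(q)`. -/

namespace Cfsg.Agent.Lib.Helper5.PSUField

open Matrix Cfsg.Agent.Lib.Helper5.PSLCoset Cfsg.Agent.Lib.Helper5.PSUAut
  Cfsg.Agent.Lib.Helper5.UAut

section
variable {F : Type*} [Field F]

theorem pow_pow_eq_self {b : F} {m : ℕ} (h : b ^ m = b) (k : ℕ) : b ^ (m ^ k) = b := by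
  induction k with
  | zero => rw [pow_zero, pow_one]
  | succ k ih => rw [pow_succ, pow_mul, ih, h]

theorem pow_odd_pow {b : F} {m : ℕ} (h : b ^ (m ^ 2) = b) {r : ℕ} (hodd : Odd r) :
    b ^ (m ^ r) = b ^ m := by
  obtain ⟨k, rfl⟩ := hodd
  rw [pow_succ, pow_mul, pow_mul, pow_pow_eq_self h]

end

section
variable {F : Type*} [Field F] [Fintype F]

/-- descent data for an automorphism of odd order of the field with `q²` elements -/
theorem exists_FD {p f q : ℕ} [Fact p.Prime] (hq : q = p ^ f) (hF : Fintype.card F = q ^ 2)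
    (σ σ₀ : F ≃+* F) (hσ₀ : orderOf σ₀ = 2) (hσ₀q : ∀ a : F, σ₀ a = a ^ q) (r : ℕ)
    (hr : orderOf σ = r) (hodd : Odd r) (F₀ : Type*) [Field F₀] [Fintype F₀]
    (hF₀ : Fintype.card F₀ = p ^ (2 * (f / r))) :
    r ∣ f ∧ ∃ (ι : F₀ →+* F) (σ₀' : F₀ ≃+* F₀), FD ι σ σ₀ σ₀' ∧
      ∀ a : F₀, σ₀' a = a ^ (p ^ (f / r)) := by
  have hr0 : 0 < r := hodd.pos
  have hF' : Fintype.card F = p ^ (2 * f) := by rw [hF, hq, ← pow_mul, mul_comm]
  obtain ⟨hdvd2, -⟩ := card_fixed hF' σ r hr hr0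
  have hdvd : r ∣ f := by
    have hcop : Nat.Coprime r 2 := Nat.coprime_two_right.2 hodd
    exact hcop.dvd_of_dvd_mul_left hdvd2
  refine ⟨hdvd, ?_⟩
  have hdiv : 2 * f / r = 2 * (f / r) := Nat.mul_div_assoc 2 hdvd
  obtain ⟨ι, hι⟩ := exists_embedding_fixed hF' σ r hr hr0 F₀ (by rw [hF₀, hdiv])
  have hF₀' : Fintype.card F₀ = (p ^ (f / r)) ^ 2 := by rw [hF₀, ← pow_mul, mul_comm]
  obtain ⟨σ₀', hσ₀', hσ₀'q⟩ := Cfsg.Agent.Lib.Helper2.HermDecomp.exists_sigma hF₀'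
  refine ⟨ι, σ₀', ⟨hι, ?_, hσ₀', Cfsg.Agent.Lib.Helper2.WittHerm.sigma_sigma hσ₀, ?_⟩, hσ₀'q⟩
  · intro a
    rw [hσ₀'q, hσ₀q, map_pow]
    have h1 : (ι a) ^ ((p ^ (f / r)) ^ 2) = ι a := by
      rw [← map_pow, ← hF₀', FiniteField.pow_card]
    have h2 : q = (p ^ (f / r)) ^ r := by
      rw [hq, ← pow_mul, Nat.div_mul_cancel hdvd]
    rw [h2, pow_odd_pow h1 hodd]
  · intro a
    rw [hσ₀q, hσ₀q, map_pow]

/-- a field with `q₀²` elements exists -/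
theorem exists_field {p f q : ℕ} [Fact p.Prime] (hq : q = p ^ f) (hF : Fintype.card F = q ^ 2)
    (σ : F ≃+* F) (r : ℕ) (hr : orderOf σ = r) (hodd : Odd r) :
    ∃ (E : Subfield F) (_ : Fintype E), Fintype.card E = p ^ (2 * (f / r)) := by
  classical
  have hr0 : 0 < r := hodd.pos
  have hF' : Fintype.card F = p ^ (2 * f) := by rw [hF, hq, ← pow_mul, mul_comm]
  obtain ⟨hdvd2, hcard⟩ := card_fixed hF' σ r hr hr0
  have hdvd : r ∣ f := by
    have hcop : Nat.Coprime r 2 := Nat.coprime_two_right.2 hodd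
    exact hcop.dvd_of_dvd_mul_left hdvd2
  have hdiv : 2 * f / r = 2 * (f / r) := Nat.mul_div_assoc 2 hdvd
  obtain ⟨inst⟩ : Nonempty (Fintype (RingHom.eqLocusField (σ : F →+* F) (RingHom.id F))) :=
    ⟨Fintype.ofFinite _⟩
  refine ⟨RingHom.eqLocusField (σ : F →+* F) (RingHom.id F), inst, ?_⟩
  rw [← hdiv, ← hcard, ← Nat.card_eq_fintype_card]
  apply Nat.card_congr
  exact Equiv.subtypeEquivRight (fun a => Iff.rfl)

end

section
variable {n : ℕ} {F : Type*} [Field F] {q : ℕ}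

/-- twisted partial products in the conformal unitary group -/
def twC (σ : F ≃+* F) (g : ↥(CU n F q)) : ℕ → ↥(CU n F q)
  | 0 => 1
  | (k + 1) => g * mapCU σ (twC σ g k)

theorem coe_twC (σ : F ≃+* F) (g : ↥(CU n F q)) (k : ℕ) :
    (((twC σ g k : ↥(CU n F q)) : GL (Fin n) F) : Matrix (Fin n) (Fin n) F)
      = tw σ ((g : GL (Fin n) F) : Matrix (Fin n) (Fin n) F) k := by
  induction k with
  | zero => rfl
  | succ k ih =>
    show (((g * mapCU σ (twC σ g k) : ↥(CU n F q)) : GL (Fin n) F) :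
      Matrix (Fin n) (Fin n) F) = _
    rw [Subgroup.coe_mul, Units.val_mul, mapCU_coe, ih, tw_succ]

theorem gamU_pow (σ : F ≃+* F) (g : ↥(CU n F q)) (k : ℕ) :
    (gamU σ g) ^ k = cjC (twC σ g k) * fa (σ ^ k) := by
  induction k with
  | zero =>
    rw [pow_zero, pow_zero, map_one]
    show 1 = cjC (1 : ↥(CU n F q)) * 1
    rw [map_one, mul_one]
  | succ k ih =>
    rw [pow_succ', ih]
    unfold gamU
    show cjC g * fa σ * (cjC (twC σ g k) * fa (σ ^ k)) = cjC (g * mapCU σ (twC σ g k)) * _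
    rw [map_mul, pow_succ', map_mul, mul_assoc, ← mul_assoc (fa σ), fa_mul_cjC]
    simp only [mul_assoc]

end

section
variable {n : ℕ} {F : Type*} [Field F] [Fintype F] {q : ℕ}

theorem fa_injective (hF : Fintype.card F = q ^ 2) (hn : 3 ≤ n) :
    Function.Injective (fa : (F ≃+* F) →* MulAut (Cfsg.PSU n F q)) := by
  rw [injective_iff_map_eq_one]
  intro τ hτ
  have h1 : cjC (1 : ↥(CU n F q)) * (fa τ : MulAut (Cfsg.PSU n F q)) = 1 := by
    rw [map_one, one_mul, hτ]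
  exact (faithful hF hn 1 τ h1).1

theorem orderOf_fa (hF : Fintype.card F = q ^ 2) (hn : 3 ≤ n) (τ : F ≃+* F) :
    orderOf (fa τ : MulAut (Cfsg.PSU n F q)) = orderOf τ :=
  orderOf_injective _ (fa_injective hF hn) τ

/-- elements of order `r` in the coset of a field automorphism of odd order `r` are conjugate
to it under the inner-diagonal group -/
theorem field_conj_PSU {p f : ℕ} [Fact p.Prime] (hq : q = p ^ f) (hF : Fintype.card F = q ^ 2)
    (hn : 3 ≤ n) (σ : F ≃+* F) (r : ℕ) (hr : orderOf σ = r) (hodd : Odd r)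
    (g : ↥(CU n F q)) (hpow : (gamU σ g) ^ r = 1) :
    ∃ h : ↥(CU n F q), gamU σ g = cjC h * gamU σ 1 * (cjC h)⁻¹ := by
  classical
  obtain ⟨σ₀, hσ₀, hσ₀q⟩ := Cfsg.Agent.Lib.Helper2.HermDecomp.exists_sigma hF
  obtain ⟨E, hEf, hEc⟩ := exists_field hq hF σ r hr hodd
  obtain ⟨-, ι, σ₀', D, -⟩ := exists_FD hq hF σ σ₀ hσ₀ hσ₀q r hr hodd E hEc
  obtain ⟨g', hg', z, hz, hgz⟩ := exists_smul_mem_GU hF g.1 g.2
  have h1 : gamU σ g = gamU σ ⟨g', GU_le_CU hg'⟩ := by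
    unfold gamU
    rw [cjC_eq_of_smul g ⟨g', GU_le_CU hg'⟩ z hz hgz]
  rw [h1] at hpow ⊢
  have hσr : σ ^ r = 1 := by
    rw [← hr]
    exact pow_orderOf_eq_one σ
  rw [gamU_pow, hσr] at hpow
  obtain ⟨-, l, hl0, hl⟩ := faithful hF hn _ _ hpow
  rw [coe_twC] at hl
  have hU : IsU σ₀ (g' : Matrix (Fin n) (Fin n) F) := (mem_GU_iff σ₀ q hσ₀q g').1 hg'
  obtain ⟨h, w, hw0, hhU, hh⟩ := D.field_conj (by omega) r hr hodd _ hU l hl
  obtain ⟨h', hh'⟩ : ∃ h' : GL (Fin n) F, (h' : Matrix (Fin n) (Fin n) F) = h :=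
    ⟨hhU.isUnit.unit, rfl⟩
  have hh'GU : h' ∈ Cfsg.GU n F q := by
    rw [mem_GU_iff σ₀ q hσ₀q, hh']
    exact hhU
  refine ⟨⟨h', GU_le_CU hh'GU⟩, ?_⟩
  rw [cjC_conj_gamU, gamU_eq_iff hF hn]
  refine ⟨w⁻¹, inv_ne_zero hw0, ?_⟩
  show (g' : Matrix (Fin n) (Fin n) F) = w⁻¹ • (((⟨h', GU_le_CU hh'GU⟩ * 1
    * (mapCU σ ⟨h', GU_le_CU hh'GU⟩)⁻¹ : ↥(CU n F q)) : GL (Fin n) F) :
      Matrix (Fin n) (Fin n) F)
  rw [mul_one]
  have h2 : (((⟨h', GU_le_CU hh'GU⟩ * (mapCU σ ⟨h', GU_le_CU hh'GU⟩)⁻¹ : ↥(CU n F q)) :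
      GL (Fin n) F) : Matrix (Fin n) (Fin n) F)
      * (h.map σ) = h := by
    have h3 : h.map σ = (((mapCU σ ⟨h', GU_le_CU hh'GU⟩ : ↥(CU n F q)) : GL (Fin n) F) :
        Matrix (Fin n) (Fin n) F) := by
      rw [mapCU_coe]
      show h.map σ = (h' : Matrix (Fin n) (Fin n) F).map σ
      rw [hh']
    rw [h3, ← Units.val_mul, ← Subgroup.coe_mul, inv_mul_cancel_right]
    exact hh'
  have hσu : IsUnit (h.map σ) := by
    rw [Matrix.isUnit_iff_isUnit_det]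
    have h2 : (h.map σ).det = σ h.det := (RingHom.map_det (σ : F →+* F) h).symm
    rw [h2]
    have h1 : IsUnit h.det := (Matrix.isUnit_iff_isUnit_det _).1 hhU.isUnit
    exact isUnit_iff_ne_zero.2 ((map_ne_zero_iff _ σ.injective).2 (isUnit_iff_ne_zero.1 h1))
  obtain ⟨hi, hhi⟩ := hσu.exists_right_inv
  have h4 : (w • (g' : Matrix (Fin n) (Fin n) F)) = (((⟨h', GU_le_CU hh'GU⟩
      * (mapCU σ ⟨h', GU_le_CU hh'GU⟩)⁻¹ : ↥(CU n F q)) : GL (Fin n) F) :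
        Matrix (Fin n) (Fin n) F) := by
    have h5 := congrArg (fun M => M * hi) (hh.trans h2.symm)
    simp only [Matrix.mul_assoc, hhi, Matrix.mul_one] at h5
    exact h5
  rw [← h4, smul_smul, inv_mul_cancel₀ hw0, one_smul]

end

end Cfsg.Agent.Lib.Helper5.PSUField
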