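import Mathlib
import Cfsg.Agent.Lib.Helper5.PSUField3

set_option autoImplicit false

/-! Normal forms for field automorphisms of `PSU_n(q)`. -/

namespace Cfsg.Agent.Lib.Helper5.PSUField

open Matrix Cfsg.Agent.Lib.Helper5.PSLCoset Cfsg.Agent.Lib.Helper5.PSUAut
  Cfsg.Agent.Lib.Helper5.UAut

section
variable {n : ℕ} {F : Type*} [Field F] [Fintype F] {q : ℕ}

theorem conj_mem_inndiagPSU {p f : ℕ} [Fact p.Prime] (hq : q = p ^ f)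
    (hF : Fintype.card F = q ^ 2) (hn : 3 ≤ n) (h32 : ¬ (n = 3 ∧ q = 2))
    (α : MulAut (Cfsg.PSU n F q)) {β : MulAut (Cfsg.PSU n F q)}
    (hβ : β ∈ Cfsg.inndiagPSU n F q) : α * β * α⁻¹ ∈ Cfsg.inndiagPSU n F q := by
  rw [inndiagPSU_eq hF] at hβ ⊢
  obtain ⟨b, rfl⟩ := hβ
  obtain ⟨g, τ, rfl⟩ := aut_PSU hq hF hn h32 α
  refine ⟨g * mapCU τ b * g⁻¹, ?_⟩
  rw [map_mul, map_mul, map_inv, _root_.mul_inv_rev]
  have h1 := fa_mul_cjC τ b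
  calc cjC g * cjC (mapCU τ b) * (cjC g)⁻¹
      = cjC g * (cjC (mapCU τ b) * fa τ) * (fa τ)⁻¹ * (cjC g)⁻¹ := by group
    _ = cjC g * fa τ * cjC b * ((fa τ)⁻¹ * (cjC g)⁻¹) := by
        rw [← h1]
        group

theorem conj_mem_inndiagPSU' {p f : ℕ} [Fact p.Prime] (hq : q = p ^ f)
    (hF : Fintype.card F = q ^ 2) (hn : 3 ≤ n) (h32 : ¬ (n = 3 ∧ q = 2))
    (α : MulAut (Cfsg.PSU n F q)) {β : MulAut (Cfsg.PSU n F q)}
    (hβ : β ∈ Cfsg.inndiagPSU n F q) : α⁻¹ * β * α ∈ Cfsg.inndiagPSU n F q := by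
  have := conj_mem_inndiagPSU hq hF hn h32 α⁻¹ hβ
  rwa [inv_inv] at this

/-- the standard form of a field automorphism of prime order -/
theorem field_stdform_PSU (hF : Fintype.card F = q ^ 2) (hn : 3 ≤ n)
    {x : MulAut (Cfsg.PSU n F q)} (hx : Cfsg.IsFieldAutClassPSU x) {r : ℕ} (hr : r.Prime)
    (hxr : orderOf x = r) :
    ∃ (α : MulAut (Cfsg.PSU n F q)) (σ : F ≃+* F), orderOf σ = r ∧ Odd r ∧
      α * x * α⁻¹ = gamU σ 1 := by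
  obtain ⟨α, φ, σ, hσ1, hσodd, hφ, hαx⟩ := hx
  rw [eq_fa_of_isFieldAut hφ] at hαx
  have h1 : orderOf σ = r := by
    rw [← orderOf_fa hF hn σ, ← hαx, ← hxr, ← MulAut.conj_apply]
    exact MulEquiv.orderOf_eq _ x
  refine ⟨α, σ, h1, h1 ▸ hσodd, ?_⟩
  unfold gamU
  rw [hαx, map_one, one_mul]

end

end Cfsg.Agent.Lib.Helper5.PSUField
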