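import Mathlib
import Cfsg.Agent.Lib.Helper5.PSUField4

set_option autoImplicit false

/-! The centralizer of a field automorphism of odd order in the inner-diagonal group of
`PSU_n(q)`. -/

namespace Cfsg.Agent.Lib.Helper5.PSUField

open Matrix Cfsg.Agent.Lib.Helper5.PSLCoset Cfsg.Agent.Lib.Helper5.PSUAut
  Cfsg.Agent.Lib.Helper5.UAut

section
variable {n : ℕ} {F : Type*} [Field F]

theorem eq_nrm_smul (σ : F ≃+* F) (c : Matrix (Fin n) (Fin n) F) (l : F)
    (h : c = l • c.map σ) (k : ℕ) : c = nrm σ k l • c.map (σ ^ k : F ≃+* F) := by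
  induction k with
  | zero =>
    rw [nrm_zero, one_smul, pow_zero]
    ext i j
    rfl
  | succ k ih =>
    rw [nrm_succ, ← map_pow_succ]
    conv_lhs => rw [h]
    have h1 : c.map σ = (nrm σ k l • c.map (σ ^ k : F ≃+* F)).map σ := by rw [← ih]
    rw [h1, map_smul', smul_smul]

end

section
variable {n : ℕ} {F : Type*} [Field F] [Fintype F] {q : ℕ} {F₀ : Type*} [Field F₀] [Fintype F₀]
  {ι : F₀ →+* F} {σ σ₀ : F ≃+* F} {σ₀' : F₀ ≃+* F₀}

theorem FD.isU_map (D : FD ι σ σ₀ σ₀') (g₀ : Matrix (Fin n) (Fin n) F₀) :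
    IsU σ₀ (g₀.map ι) ↔ IsU σ₀' g₀ := by
  unfold IsU
  rw [D.map_comp, ← Matrix.transpose_map, ← Matrix.map_mul]
  constructor
  · intro h
    apply Matrix.map_injective ι.injective
    show (g₀ᵀ * g₀.map σ₀').map ι = (1 : Matrix (Fin n) (Fin n) F₀).map ι
    rw [h]
    ext i j
    simp [Matrix.one_apply, apply_ite]
  · intro h
    rw [h]
    ext i j
    simp [Matrix.one_apply, apply_ite]

/-- an element of the unitary group commuting projectively with `σ` is a scalar multiple of a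
fixed unitary matrix -/
theorem FD.exists_fixed_smul (D : FD ι σ σ₀ σ₀') (hn : 0 < n) (r : ℕ) (hr : orderOf σ = r)
    (hr0 : 0 < r) (c : Matrix (Fin n) (Fin n) F) (hc : IsU σ₀ c) (l : F)
    (hl : c = l • c.map σ) :
    ∃ (b : F) (c₀ : Matrix (Fin n) (Fin n) F₀), b ≠ 0 ∧ b * σ₀ b = 1 ∧ IsU σ₀' c₀ ∧
      b • c = c₀.map ι := by
  classical
  have hσr : σ ^ r = 1 := by
    rw [← hr]
    exact pow_orderOf_eq_one σ
  obtain ⟨i, j, hij⟩ : ∃ i j, c i j ≠ 0 := by
    by_contra hcon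
    push Not at hcon
    have h0 : c = 0 := by
      ext i j
      exact hcon i j
    have h1 := hc.isUnit
    rw [h0] at h1
    have h2 := (Matrix.isUnit_iff_isUnit_det _).1 h1
    haveI : Nonempty (Fin n) := ⟨⟨0, hn⟩⟩
    rw [Matrix.det_zero] at h2
    exact not_isUnit_zero h2
  have hl0 : l ≠ 0 := by
    intro h0
    rw [h0, zero_smul] at hl
    rw [hl] at hij
    exact hij rfl
  -- `l` has norm one for both automorphisms
  have hlU : l * σ₀ l = 1 := by
    have h1 : IsU σ₀ (l • c.map σ) := hl ▸ hc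
    have h2 : IsU σ₀ (c.map σ) := hc.map D.comm
    unfold IsU at h1 h2
    rw [map_smul', Matrix.transpose_smul, Matrix.smul_mul, Matrix.mul_smul, smul_smul, h2] at h1
    have := congrFun (congrFun h1 ⟨0, hn⟩) ⟨0, hn⟩
    simpa using this
  have hlN : nrm σ r l = 1 := by
    have h1 := eq_nrm_smul σ c l hl r
    rw [hσr] at h1
    have h2 := congrFun (congrFun h1 i) j
    simp only [Matrix.smul_apply, Matrix.map_apply, smul_eq_mul] at h2
    have h3 : (1 : F ≃+* F) (c i j) = c i j := rfl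
    rw [h3] at h2
    have h4 : 1 * c i j = nrm σ r l * c i j := by rw [one_mul]; exact h2
    exact (mul_right_cancel₀ hij h4).symm
  have hσ₀l : σ₀ l = l⁻¹ := eq_inv_of_mul_eq_one_right hlU
  obtain ⟨b, hb0, hbU, hb⟩ := D.exists_U1_h90 r hr hr0 l⁻¹
    (by rw [map_inv₀, hσ₀l, inv_inv, inv_mul_cancel₀ hl0])
    (by rw [nrm_inv' σ r hl0, hlN, inv_one])
  have hfix : (b • c).map σ = b • c := by
    rw [map_smul']
    conv_rhs => rw [hl, smul_smul]
    congr 1
    have : σ b = l * b := by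
      calc σ b = l * (l⁻¹ * σ b) := by field_simp
        _ = l * b := by rw [hb]
    rw [this, mul_comm]
  obtain ⟨c₀, hc₀⟩ := D.exists_map _ hfix
  refine ⟨b, c₀, hb0, hbU, ?_, hc₀⟩
  rw [← D.isU_map, ← hc₀]
  exact hc.smul hbU

end

end Cfsg.Agent.Lib.Helper5.PSUField
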