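import Mathlib
import Cfsg.Agent.Lib.Helper5.PSUField5

set_option autoImplicit false

/-! The centralizer of a field automorphism of odd order in the inner-diagonal group of
`PSU_n(q)` is `PGU_n(q₀)`. -/

namespace Cfsg.Agent.Lib.Helper5.PSUField

open Matrix Cfsg.Agent.Lib.Helper5.PSLCoset Cfsg.Agent.Lib.Helper5.PSUAut
  Cfsg.Agent.Lib.Helper5.UAut

section
variable {n : ℕ} {F : Type*} [Field F] [Fintype F] {q q₀ : ℕ} {F₀ : Type*} [Field F₀]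
  [Fintype F₀] {ι : F₀ →+* F} {σ σ₀ : F ≃+* F} {σ₀' : F₀ ≃+* F₀}

theorem FD.map_mem_GU (D : FD ι σ σ₀ σ₀') (hσ₀q : ∀ a : F, σ₀ a = a ^ q)
    (hσ₀'q : ∀ a : F₀, σ₀' a = a ^ q₀) (g₀ : GL (Fin n) F₀) :
    Matrix.GeneralLinearGroup.map ι g₀ ∈ Cfsg.GU n F q ↔ g₀ ∈ Cfsg.GU n F₀ q₀ := by
  rw [mem_GU_iff σ₀ q hσ₀q, mem_GU_iff σ₀' q₀ hσ₀'q]
  exact D.isU_map (g₀ : Matrix (Fin n) (Fin n) F₀)

/-- the embedding of the small unitary group -/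
def FD.emb (D : FD ι σ σ₀ σ₀') (hσ₀q : ∀ a : F, σ₀ a = a ^ q)
    (hσ₀'q : ∀ a : F₀, σ₀' a = a ^ q₀) : ↥(Cfsg.GU n F₀ q₀) →* ↥(CU n F q) where
  toFun g₀ := ⟨Matrix.GeneralLinearGroup.map ι g₀.1,
    GU_le_CU ((D.map_mem_GU hσ₀q hσ₀'q g₀.1).2 g₀.2)⟩
  map_one' := by
    apply Subtype.ext
    exact map_one _
  map_mul' a b := by
    apply Subtype.ext
    exact map_mul _ _ _

theorem FD.emb_coe (D : FD ι σ σ₀ σ₀') (hσ₀q : ∀ a : F, σ₀ a = a ^ q)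
    (hσ₀'q : ∀ a : F₀, σ₀' a = a ^ q₀) (g₀ : ↥(Cfsg.GU n F₀ q₀)) :
    (((D.emb hσ₀q hσ₀'q g₀ : ↥(CU n F q)) : GL (Fin n) F) : Matrix (Fin n) (Fin n) F)
      = ((g₀ : GL (Fin n) F₀) : Matrix (Fin n) (Fin n) F₀).map ι := rfl

theorem FD.mapCU_emb (D : FD ι σ σ₀ σ₀') (hσ₀q : ∀ a : F, σ₀ a = a ^ q)
    (hσ₀'q : ∀ a : F₀, σ₀' a = a ^ q₀) (g₀ : ↥(Cfsg.GU n F₀ q₀)) :
    mapCU σ (D.emb hσ₀q hσ₀'q g₀ : ↥(CU n F q)) = D.emb hσ₀q hσ₀'q g₀ := by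
  apply Subtype.ext
  apply Units.ext
  rw [mapCU_coe, D.emb_coe]
  exact D.map_iota _

theorem FD.emb_mem (D : FD ι σ σ₀ σ₀') (hF : Fintype.card F = q ^ 2)
    (hσ₀q : ∀ a : F, σ₀ a = a ^ q)
    (hσ₀'q : ∀ a : F₀, σ₀' a = a ^ q₀) (g₀ : ↥(Cfsg.GU n F₀ q₀)) :
    cjC (D.emb hσ₀q hσ₀'q g₀ : ↥(CU n F q)) ∈ Cfsg.inndiagPSU n F q ⊓
      Subgroup.centralizer {gamU σ (1 : ↥(CU n F q))} := by
  refine Subgroup.mem_inf.2 ⟨?_, ?_⟩
  · rw [inndiagPSU_eq hF]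
    exact ⟨_, rfl⟩
  · rw [mem_centralizer_singleton, cjC_mul_gamU, gamU_mul_cjC, D.mapCU_emb, mul_one, one_mul]

/-- the centralizer of a standard field automorphism of odd order -/
theorem FD.centralizer_equiv (D : FD ι σ σ₀ σ₀') (hF : Fintype.card F = q ^ 2) (hn : 3 ≤ n)
    (hσ₀q : ∀ a : F, σ₀ a = a ^ q) (hσ₀'q : ∀ a : F₀, σ₀' a = a ^ q₀) (r : ℕ)
    (hr : orderOf σ = r) (hr0 : 0 < r) :
    Nonempty (↥(Cfsg.inndiagPSU n F q ⊓ Subgroup.centralizer {gamU σ (1 : ↥(CU n F q))})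
      ≃* Cfsg.PGU n F₀ q₀) := by
  classical
  let φ : ↥(Cfsg.GU n F₀ q₀) →* ↥(Cfsg.inndiagPSU n F q ⊓
      Subgroup.centralizer {gamU σ (1 : ↥(CU n F q))}) :=
    MonoidHom.codRestrict ((cjC (n := n) (F := F) (q := q)).comp (D.emb hσ₀q hσ₀'q)) _
      (fun g₀ => D.emb_mem hF hσ₀q hσ₀'q g₀)
  have hφ : ∀ g₀, (φ g₀ : MulAut (Cfsg.PSU n F q)) = cjC (D.emb hσ₀q hσ₀'q g₀) := fun g₀ => rfl
  have hsurj : Function.Surjective φ := by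
    rintro ⟨a, ha⟩
    obtain ⟨ha1, ha2⟩ := Subgroup.mem_inf.1 ha
    rw [inndiagPSU_eq hF] at ha1
    obtain ⟨c, rfl⟩ := ha1
    obtain ⟨c', hc', z, hz, hcz⟩ := exists_smul_mem_GU hF c.1 c.2
    have h1 : cjC c = cjC ⟨c', GU_le_CU hc'⟩ := cjC_eq_of_smul _ _ z hz hcz
    rw [mem_centralizer_singleton, h1, cjC_mul_gamU, gamU_mul_cjC, gamU_eq_iff hF hn, mul_one,
      one_mul] at ha2
    obtain ⟨l, hl0, hl⟩ := ha2
    have hl' : (c' : Matrix (Fin n) (Fin n) F) = l • (c' : Matrix (Fin n) (Fin n) F).map σ := hl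
    have hU : IsU σ₀ (c' : Matrix (Fin n) (Fin n) F) := (mem_GU_iff σ₀ q hσ₀q c').1 hc'
    obtain ⟨b, c₀, hb0, -, hc₀U, hc₀⟩ := D.exists_fixed_smul (by omega) r hr hr0 _ hU l hl'
    obtain ⟨g₀, hg₀⟩ : ∃ g₀ : GL (Fin n) F₀, (g₀ : Matrix (Fin n) (Fin n) F₀) = c₀ :=
      ⟨hc₀U.isUnit.unit, rfl⟩
    have hg₀GU : g₀ ∈ Cfsg.GU n F₀ q₀ := by
      rw [mem_GU_iff σ₀' q₀ hσ₀'q, hg₀]
      exact hc₀U
    refine ⟨⟨g₀, hg₀GU⟩, ?_⟩
    apply Subtype.ext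
    rw [hφ]
    show cjC (D.emb hσ₀q hσ₀'q ⟨g₀, hg₀GU⟩) = cjC c
    rw [h1]
    apply cjC_eq_of_smul _ _ b hb0
    rw [D.emb_coe]
    show (g₀ : Matrix (Fin n) (Fin n) F₀).map ι = b • (c' : Matrix (Fin n) (Fin n) F)
    rw [hg₀, hc₀]
  have hker : φ.ker = (Cfsg.Geo.scalars (Fin n) F₀).subgroupOf (Cfsg.GU n F₀ q₀) := by
    ext g₀
    rw [MonoidHom.mem_ker, Subgroup.mem_subgroupOf, Cfsg.Geo.mem_scalars_iff]
    have h1 : φ g₀ = 1 ↔ cjC (D.emb hσ₀q hσ₀'q g₀) = 1 := by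
      constructor
      · intro h
        rw [← hφ, h]
        rfl
      · intro h
        apply Subtype.ext
        rw [hφ, h]
        rfl
    rw [h1, cjC_eq_one_iff hF hn, D.emb_coe]
    constructor
    · rintro ⟨l, hl0, hl⟩
      have h00 : ι (((g₀ : GL (Fin n) F₀) : Matrix (Fin n) (Fin n) F₀) ⟨0, by omega⟩
          ⟨0, by omega⟩) = l := by
        have := congrFun (congrFun hl ⟨0, by omega⟩) ⟨0, by omega⟩
        simpa using this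
      have hc0 : ((g₀ : GL (Fin n) F₀) : Matrix (Fin n) (Fin n) F₀) ⟨0, by omega⟩ ⟨0, by omega⟩
          ≠ 0 := by
        intro h0
        rw [h0, map_zero] at h00
        exact hl0 h00.symm
      refine ⟨Units.mk0 _ hc0, ?_⟩
      ext i j
      apply ι.injective
      have hij := congrFun (congrFun hl i) j
      simp only [Matrix.map_apply] at hij
      rw [hij, Units.val_mk0, Matrix.smul_apply, Matrix.smul_apply, smul_eq_mul, smul_eq_mul,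
        map_mul, h00]
      by_cases h : i = j
      · subst h
        rw [Matrix.one_apply_eq, Matrix.one_apply_eq, map_one]
      · rw [Matrix.one_apply_ne h, Matrix.one_apply_ne h, map_zero]
    · rintro ⟨c, hc⟩
      refine ⟨ι (c : F₀), (map_ne_zero_iff _ ι.injective).2 c.ne_zero, ?_⟩
      rw [hc]
      ext i j
      by_cases h : i = j
      · subst h
        simp
      · simp [Matrix.one_apply_ne h]
  exact ⟨((QuotientGroup.quotientMulEquivOfEq hker).symm.trans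
    (QuotientGroup.quotientKerEquivOfSurjective φ hsurj)).symm⟩

end

end Cfsg.Agent.Lib.Helper5.PSUField
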