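import Mathlib
import Cfsg.Agent.Lib.Helper5.PSUField6

set_option autoImplicit false

/-! The number of `PSU_n(q)`-classes in the inner-diagonal class of a field automorphism of odd
order. -/

namespace Cfsg.Agent.Lib.Helper5.PSUField

open Matrix Cfsg.Agent.Lib.Helper5.PSLCoset Cfsg.Agent.Lib.Helper5.PSUAut
  Cfsg.Agent.Lib.Helper5.UAut Cfsg.Agent.Lib.Helper5.SLnAut Cfsg.Agent.Lib.Helper5.SLnBN

section
variable {n : ℕ} {F : Type*} [Field F] [Fintype F] {q : ℕ}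

theorem scalar_mem_GU (z : Fˣ) (hz : z ∈ U1 F q) :
    Matrix.GeneralLinearGroup.scalar (Fin n) z ∈ Cfsg.GU n F q := by
  intro u v
  have h : ∀ x : Fin n → F,
      ((Matrix.GeneralLinearGroup.scalar (Fin n) z : GL (Fin n) F) :
        Matrix (Fin n) (Fin n) F) *ᵥ x = (z : F) • x := by
    intro x
    rw [Matrix.GeneralLinearGroup.coe_scalar, Matrix.scalar_apply, ← Matrix.smul_one_eq_diagonal,
      Matrix.smul_mulVec, Matrix.one_mulVec]
  show Cfsg.hermForm n F q (((Matrix.GeneralLinearGroup.scalar (Fin n) z : GL (Fin n) F) :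
        Matrix (Fin n) (Fin n) F) *ᵥ u) (((Matrix.GeneralLinearGroup.scalar (Fin n) z :
        GL (Fin n) F) : Matrix (Fin n) (Fin n) F) *ᵥ v) = Cfsg.hermForm n F q u v
  rw [h, h, Cfsg.Agent.Lib.Helper2.Herm.herm_smul_left,
    Cfsg.Agent.Lib.Helper2.Herm.herm_smul_right, ← mul_assoc, (mem_U1.1 hz), one_mul]

theorem rhoGU_scalar (z : Fˣ) (hz : z ∈ U1 F q) :
    rhoGU n F q ⟨Matrix.GeneralLinearGroup.scalar (Fin n) z, scalar_mem_GU z hz⟩ = 1 := by
  rw [rhoGU_apply]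
  apply cjC_eq_one_of_scalar _ (z : F) z.ne_zero
  show ((Matrix.GeneralLinearGroup.scalar (Fin n) z : GL (Fin n) F) :
    Matrix (Fin n) (Fin n) F) = _
  rw [Matrix.GeneralLinearGroup.coe_scalar, Matrix.scalar_apply, ← Matrix.smul_one_eq_diagonal]

/-- the fixed elements of norm one -/
def fixU1 (σ : F ≃+* F) (q : ℕ) : Subgroup ↥(U1 F q) := (fixU σ).subgroupOf (U1 F q)

theorem mem_fixU1 {σ : F ≃+* F} {u : ↥(U1 F q)} :
    u ∈ fixU1 σ q ↔ σ ((u : Fˣ) : F) = ((u : Fˣ) : F) := Iff.rfl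

end

section
variable {n : ℕ} {F : Type*} [Field F] [Fintype F] {q q₀ : ℕ} {F₀ : Type*} [Field F₀]
  [Fintype F₀] {ι : F₀ →+* F} {σ σ₀ : F ≃+* F} {σ₀' : F₀ ≃+* F₀}

theorem FD.map_det_commSub (D : FD ι σ σ₀ σ₀') (hF : Fintype.card F = q ^ 2) (hn : 3 ≤ n)
    (hσ₀q : ∀ a : F, σ₀ a = a ^ q) (r : ℕ) (hr : orderOf σ = r) (hr0 : 0 < r) :
    (commSub (rhoGU n F q) (gamU σ (1 : ↥(CU n F q)))).map (detGU hF n)
      = (powMonoidHom n : ↥(U1 F q) →* ↥(U1 F q)).range ⊔ fixU1 σ q := by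
  classical
  apply le_antisymm
  · rintro _ ⟨c, hc, rfl⟩
    rw [SetLike.mem_coe, mem_commSub, rhoGU_apply, cjC_mul_gamU, gamU_mul_cjC,
      gamU_eq_iff hF hn, mul_one, one_mul] at hc
    obtain ⟨l, hl0, hl⟩ := hc
    have hl' : ((c : GL (Fin n) F) : Matrix (Fin n) (Fin n) F)
        = l • ((c : GL (Fin n) F) : Matrix (Fin n) (Fin n) F).map σ := hl
    have hU : IsU σ₀ ((c : GL (Fin n) F) : Matrix (Fin n) (Fin n) F) :=
      (mem_GU_iff σ₀ q hσ₀q c.1).1 c.2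
    obtain ⟨b, c₀, hb0, hbU, -, hc₀⟩ := D.exists_fixed_smul (by omega) r hr hr0 _ hU l hl'
    have hbU1 : Units.mk0 b hb0 ∈ U1 F q := by
      rw [mem_U1, Units.val_mk0, ← hσ₀q]
      exact hbU
    -- the scaled element
    obtain ⟨c', hc'⟩ : ∃ c' : ↥(Cfsg.GU n F q), c' = ⟨Matrix.GeneralLinearGroup.scalar (Fin n)
        (Units.mk0 b hb0), scalar_mem_GU _ hbU1⟩ * c := ⟨_, rfl⟩
    have hc'coe : ((c' : GL (Fin n) F) : Matrix (Fin n) (Fin n) F) = c₀.map ι := by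
      rw [hc', ← hc₀]
      show ((Matrix.GeneralLinearGroup.scalar (Fin n) (Units.mk0 b hb0) * (c : GL (Fin n) F) :
        GL (Fin n) F) : Matrix (Fin n) (Fin n) F) = _
      rw [Units.val_mul, Matrix.GeneralLinearGroup.coe_scalar, Units.val_mk0,
        Matrix.scalar_apply, ← Matrix.smul_eq_diagonal_mul]
    have hdet : detGU hF n c = (⟨Units.mk0 b hb0, hbU1⟩ : ↥(U1 F q))⁻¹ ^ n * detGU hF n c' := by
      rw [hc', map_mul, ← mul_assoc]
      have : detGU hF n ⟨Matrix.GeneralLinearGroup.scalar (Fin n) (Units.mk0 b hb0),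
          scalar_mem_GU _ hbU1⟩ = (⟨Units.mk0 b hb0, hbU1⟩ : ↥(U1 F q)) ^ n := by
        apply Subtype.ext
        rw [detGU_coe]
        exact det_scalar (n := n) (Units.mk0 b hb0)
      rw [this, inv_pow, inv_mul_cancel, one_mul]
    show detGU hF n c ∈ _
    rw [hdet]
    apply Subgroup.mul_mem
    · exact Subgroup.mem_sup_left ⟨_, rfl⟩
    · apply Subgroup.mem_sup_right
      rw [mem_fixU1, detGU_coe, Matrix.GeneralLinearGroup.val_det_apply, hc'coe]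
      have h2 : σ ((c₀.map ι).det) = ((c₀.map ι).map σ).det :=
        RingHom.map_det (σ : F →+* F) (c₀.map ι)
      rw [h2, D.map_iota]
  · rw [sup_le_iff]
    constructor
    · rintro _ ⟨u, rfl⟩
      refine ⟨⟨Matrix.GeneralLinearGroup.scalar (Fin n) u.1, scalar_mem_GU u.1 u.2⟩, ?_, ?_⟩
      · rw [SetLike.mem_coe, mem_commSub, rhoGU_scalar u.1 u.2, one_mul, mul_one]
      · apply Subtype.ext
        rw [detGU_coe]
        exact det_scalar (n := n) u.1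
    · intro w hw
      rw [mem_fixU1] at hw
      have hn1 : 1 ≤ n := by omega
      have hmem := dgN_mem_GU hF hn1 w.1 w.2
      refine ⟨⟨_, hmem⟩, ?_, ?_⟩
      · rw [SetLike.mem_coe, mem_commSub, rhoGU_apply, cjC_mul_gamU, gamU_mul_cjC, mul_one,
          one_mul]
        congr 1
        apply Subtype.ext
        apply Units.ext
        rw [mapCU_coe]
        change (diagGL (Pi.mulSingle (⟨0, by omega⟩ : Fin n) w.1) : Matrix (Fin n) (Fin n) F)
          = (diagGL (Pi.mulSingle (⟨0, by omega⟩ : Fin n) w.1) : Matrix (Fin n) (Fin n) F).map σ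
        rw [diagGL_coe, Matrix.diagonal_map (map_zero σ)]
        congr 1
        ext k
        by_cases hk : k = ⟨0, by omega⟩
        · subst hk
          rw [Pi.mulSingle_eq_same]
          exact hw.symm
        · rw [Pi.mulSingle_eq_of_ne hk, Units.val_one, map_one]
      · apply Subtype.ext
        rw [detGU_coe]
        exact det_dgNHom _ _

theorem FD.card_fixU1 (D : FD ι σ σ₀ σ₀') (hσ₀q : ∀ a : F, σ₀ a = a ^ q)
    (hσ₀'q : ∀ a : F₀, σ₀' a = a ^ q₀) (hF₀ : Fintype.card F₀ = q₀ ^ 2) :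
    Nat.card ↥(fixU1 σ q) = q₀ + 1 := by
  rw [← card_U1 hF₀]
  symm
  apply Nat.card_congr
  have hmem : ∀ u₀ : ↥(U1 F₀ q₀), Units.map (ι : F₀ →* F) u₀.1 ∈ U1 F q := by
    intro u₀
    rw [mem_U1, Units.coe_map]
    show ι (u₀.1 : F₀) * (ι (u₀.1 : F₀)) ^ q = 1
    rw [← hσ₀q, ← D.comp, ← map_mul, hσ₀'q, mem_U1.1 u₀.2, map_one]
  have hfix : ∀ u₀ : ↥(U1 F₀ q₀), (⟨Units.map (ι : F₀ →* F) u₀.1, hmem u₀⟩ : ↥(U1 F q))
      ∈ fixU1 σ q := by
    intro u₀
    rw [mem_fixU1]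
    exact D.fix_iota _
  refine Equiv.ofBijective (fun u₀ => ⟨⟨Units.map (ι : F₀ →* F) u₀.1, hmem u₀⟩, hfix u₀⟩)
    ⟨?_, ?_⟩
  · intro u v huv
    have h1 := congrArg (fun z : ↥(fixU1 σ q) => (((z : ↥(U1 F q)) : Fˣ) : F)) huv
    apply Subtype.ext
    apply Units.ext
    exact ι.injective h1
  · rintro ⟨u, hu⟩
    rw [mem_fixU1] at hu
    obtain ⟨a, ha⟩ := (D.fixed _).1 hu
    have ha0 : a ≠ 0 := by
      intro h0
      rw [h0, map_zero] at ha
      exact u.1.ne_zero ha.symm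
    have haU : Units.mk0 a ha0 ∈ U1 F₀ q₀ := by
      rw [mem_U1, Units.val_mk0]
      apply ι.injective
      rw [← hσ₀'q, map_mul, D.comp, ha, hσ₀q, map_one]
      exact mem_U1.1 u.2
    refine ⟨⟨Units.mk0 a ha0, haU⟩, ?_⟩
    apply Subtype.ext
    apply Subtype.ext
    apply Units.ext
    exact ha

/-- the number of classes into which the class of a field automorphism splits -/
theorem FD.splitCount (D : FD ι σ σ₀ σ₀') (hF : Fintype.card F = q ^ 2) (hn : 3 ≤ n)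
    (hσ₀q : ∀ a : F, σ₀ a = a ^ q) (hσ₀'q : ∀ a : F₀, σ₀' a = a ^ q₀)
    (hF₀ : Fintype.card F₀ = q₀ ^ 2) (r : ℕ) (hr : orderOf σ = r) (hr0 : 0 < r) :
    Cfsg.splitClassCount (Cfsg.inndiagPSU n F q) (Cfsg.Inn (Cfsg.PSU n F q))
      (gamU σ (1 : ↥(CU n F q))) = Nat.gcd n ((q + 1) / (q₀ + 1)) := by
  rw [splitCountU_eq hF (by omega), D.map_det_commSub hF hn hσ₀q r hr hr0, index_pow_sup]
  have h1 := (fixU1 σ q).card_mul_index
  rw [D.card_fixU1 hσ₀q hσ₀'q hF₀, card_U1 hF] at h1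
  have h2 : (fixU1 σ q).index = (q + 1) / (q₀ + 1) :=
    (Nat.div_eq_of_eq_mul_right (by omega) h1.symm).symm
  rw [h2, Nat.gcd_comm]

end

end Cfsg.Agent.Lib.Helper5.PSUField
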