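import Mathlib
import Cfsg.Agent.Lib.Helper5.PSUField7

set_option autoImplicit false

/-! Field automorphisms of prime order of `PSU_n(q)` are conjugate to standard ones under the
inner-diagonal group. -/

namespace Cfsg.Agent.Lib.Helper5.PSUField

open Matrix Cfsg.Agent.Lib.Helper5.PSLCoset Cfsg.Agent.Lib.Helper5.PSUAut
  Cfsg.Agent.Lib.Helper5.UAut Cfsg.Agent.Lib.Helper5.SLnAut Cfsg.Agent.Lib.Helper5.SLnBN

section
variable {n : ℕ} {F : Type*} [Field F] [Fintype F] {q : ℕ}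

theorem fa_conj_gamU (τ σ : F ≃+* F) (a : ↥(CU n F q)) :
    (fa τ : MulAut (Cfsg.PSU n F q)) * gamU σ a * (fa τ)⁻¹ = gamU σ (mapCU τ a) := by
  unfold gamU
  have hcomm : τ * σ = σ * τ := by
    haveI := ringAut_cyclic (F := F)
    exact (IsCyclic.commGroup (α := F ≃+* F)).mul_comm τ σ
  calc (fa τ : MulAut (Cfsg.PSU n F q)) * (cjC a * fa σ) * (fa τ)⁻¹
      = (fa τ * cjC a) * fa σ * (fa τ)⁻¹ := by group
    _ = cjC (mapCU τ a) * (fa τ * fa σ) * (fa τ)⁻¹ := by rw [fa_mul_cjC]; group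
    _ = cjC (mapCU τ a) * (fa σ * fa τ) * (fa τ)⁻¹ := by
        rw [← map_mul, hcomm, map_mul]
    _ = cjC (mapCU τ a) * fa σ := by group

/-- a field automorphism of prime order is conjugate to a standard one by a unitary matrix -/
theorem field_stdform_PSU' {p f : ℕ} [Fact p.Prime] (hq : q = p ^ f)
    (hF : Fintype.card F = q ^ 2) (hn : 3 ≤ n) (h32 : ¬ (n = 3 ∧ q = 2))
    {x : MulAut (Cfsg.PSU n F q)} (hx : Cfsg.IsFieldAutClassPSU x) {r : ℕ} (hr : r.Prime)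
    (hxr : orderOf x = r) :
    ∃ (σ : F ≃+* F) (h : ↥(Cfsg.GU n F q)), orderOf σ = r ∧ Odd r ∧
      x = rhoGU n F q h * gamU σ 1 * (rhoGU n F q h)⁻¹ := by
  obtain ⟨α, σ, hσr, hodd, hx₀⟩ := field_stdform_PSU hF hn hx hr hxr
  obtain ⟨g, τ, rfl⟩ := aut_PSU hq hF hn h32 α
  -- `x` lies in the coset of `fa σ`
  have hx1 : x = (fa τ : MulAut (Cfsg.PSU n F q))⁻¹ * ((cjC g)⁻¹ * gamU σ 1 * cjC g) * fa τ := by
    rw [← hx₀]
    group
  have h1 : (cjC g)⁻¹ * gamU σ 1 * cjC g = gamU σ (g⁻¹ * 1 * (mapCU σ g⁻¹)⁻¹) := by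
    have := cjC_conj_gamU σ g⁻¹ (1 : ↥(CU n F q))
    rw [map_inv, inv_inv] at this
    exact this
  have h2 : x = gamU σ (mapCU τ⁻¹ (g⁻¹ * 1 * (mapCU σ g⁻¹)⁻¹)) := by
    rw [hx1, h1]
    have := fa_conj_gamU (n := n) (q := q) τ⁻¹ σ (g⁻¹ * 1 * (mapCU σ g⁻¹)⁻¹)
    rw [map_inv, inv_inv] at this
    exact this
  have hpow : (gamU σ (mapCU τ⁻¹ (g⁻¹ * 1 * (mapCU σ g⁻¹)⁻¹))) ^ r = 1 := by
    rw [← h2, ← hxr]
    exact pow_orderOf_eq_one x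
  obtain ⟨h, hh⟩ := field_conj_PSU hq hF hn σ r hσr hodd _ hpow
  obtain ⟨h', hh', z, hz, hhz⟩ := exists_smul_mem_GU hF h.1 h.2
  refine ⟨σ, ⟨h', hh'⟩, hσr, hodd, ?_⟩
  rw [h2, hh, rhoGU_apply, cjC_eq_of_smul h ⟨h', GU_le_CU hh'⟩ z hz hhz]

end

end Cfsg.Agent.Lib.Helper5.PSUField
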