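import Mathlib
import Cfsg.Agent.Lib.Helper5.PSUField7

set_option autoImplicit false

/-! The structure of the outer automorphism group of `PSU_n(q)`. -/

namespace Cfsg.Agent.Lib.Helper5.PSUOut

open Matrix Cfsg.Agent.Lib.Helper5.PSLCoset Cfsg.Agent.Lib.Helper5.PSUAut
  Cfsg.Agent.Lib.Helper5.UAut Cfsg.Agent.Lib.Helper5.SLnAut Cfsg.Agent.Lib.Helper5.SLnBN
  Cfsg.Agent.Lib.Helper5.PSUField

section
variable {n : ℕ} {F : Type*} [Field F] [Fintype F] {q : ℕ}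

/-- every automorphism is standard -/
def AllStd (n : ℕ) (F : Type*) [Field F] (q : ℕ) : Prop :=
  ∀ α : MulAut (Cfsg.PSU n F q), ∃ (τ : F ≃+* F) (g : ↥(CU n F q)), α = cjC g * fa τ

/-- the field automorphism component of an automorphism -/
noncomputable def sigU (hall : AllStd n F q) (α : MulAut (Cfsg.PSU n F q)) : F ≃+* F :=
  Classical.choose (hall α)

theorem sigU_spec (hall : AllStd n F q) (α : MulAut (Cfsg.PSU n F q)) :
    ∃ g : ↥(CU n F q), α = cjC g * fa (sigU hall α) := Classical.choose_spec (hall α)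

theorem sigU_eq (hF : Fintype.card F = q ^ 2) (hn : 3 ≤ n) (hall : AllStd n F q)
    {α : MulAut (Cfsg.PSU n F q)} {g : ↥(CU n F q)} {τ : F ≃+* F} (h : α = cjC g * fa τ) :
    sigU hall α = τ := by
  obtain ⟨g', hg'⟩ := sigU_spec hall α
  exact (cjC_fa_inj hF hn _ _ _ _ (hg'.symm.trans h)).1

/-- the field automorphism component, as a homomorphism -/
noncomputable def sigUHom (hF : Fintype.card F = q ^ 2) (hn : 3 ≤ n) (hall : AllStd n F q) :
    MulAut (Cfsg.PSU n F q) →* (F ≃+* F) where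
  toFun := sigU hall
  map_one' := by
    apply sigU_eq hF hn hall (g := 1) (τ := 1)
    rw [map_one, map_one, one_mul]
  map_mul' α α' := by
    obtain ⟨g, hg⟩ := sigU_spec hall α
    obtain ⟨g', hg'⟩ := sigU_spec hall α'
    apply sigU_eq hF hn hall (g := g * mapCU (sigU hall α) g')
    conv_lhs => rw [hg, hg']
    rw [map_mul, map_mul]
    calc cjC g * fa (sigU hall α) * (cjC g' * fa (sigU hall α'))
        = cjC g * (fa (sigU hall α) * cjC g') * fa (sigU hall α') := by group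
      _ = cjC g * (cjC (mapCU (sigU hall α) g') * fa (sigU hall α)) * fa (sigU hall α') := by
          rw [fa_mul_cjC]
      _ = _ := by group

theorem sigUHom_apply (hF : Fintype.card F = q ^ 2) (hn : 3 ≤ n) (hall : AllStd n F q)
    (g : ↥(CU n F q)) (τ : F ≃+* F) : sigUHom hF hn hall (cjC g * fa τ) = τ :=
  sigU_eq hF hn hall rfl

theorem sigUHom_cjC (hF : Fintype.card F = q ^ 2) (hn : 3 ≤ n) (hall : AllStd n F q)
    (g : ↥(CU n F q)) : sigUHom hF hn hall (cjC g) = 1 := by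
  have := sigUHom_apply hF hn hall g 1
  rwa [map_one, mul_one] at this

theorem mem_ker_sigUHom_iff (hF : Fintype.card F = q ^ 2) (hn : 3 ≤ n) (hall : AllStd n F q)
    (α : MulAut (Cfsg.PSU n F q)) :
    sigUHom hF hn hall α = 1 ↔ ∃ g : ↥(Cfsg.GU n F q), α = rhoGU n F q g := by
  constructor
  · intro h
    obtain ⟨g, hg⟩ := sigU_spec hall α
    have h1 : sigU hall α = 1 := h
    rw [h1, map_one, mul_one] at hg
    obtain ⟨g', hg', z, hz, hgz⟩ := exists_smul_mem_GU hF g.1 g.2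
    refine ⟨⟨g', hg'⟩, ?_⟩
    rw [hg, rhoGU_apply]
    exact cjC_eq_of_smul _ _ z hz hgz
  · rintro ⟨g, rfl⟩
    rw [rhoGU_apply]
    exact sigUHom_cjC hF hn hall _

theorem inn_le_ker_sigUHom (hF : Fintype.card F = q ^ 2) (hn : 3 ≤ n) (hall : AllStd n F q) :
    Cfsg.Inn (Cfsg.PSU n F q) ≤ (sigUHom hF hn hall).ker := by
  rw [← map_ker_detGU hF]
  rintro _ ⟨g, -, rfl⟩
  rw [MonoidHom.mem_ker, rhoGU_apply]
  exact sigUHom_cjC hF hn hall _

/-- diagonal unitary matrices -/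
def dgU (hF : Fintype.card F = q ^ 2) (hn : 1 ≤ n) : ↥(U1 F q) →* ↥(Cfsg.GU n F q) where
  toFun u := ⟨_, dgN_mem_GU hF hn u.1 u.2⟩
  map_one' := by
    apply Subtype.ext
    exact map_one _
  map_mul' u v := by
    apply Subtype.ext
    exact map_mul _ _ _

theorem dgU_coe (hF : Fintype.card F = q ^ 2) (hn : 1 ≤ n) (u : ↥(U1 F q)) :
    ((dgU hF hn u : ↥(Cfsg.GU n F q)) : GL (Fin n) F) = dgNHom ⟨0, hn⟩ u.1 := rfl

theorem detGU_dgU (hF : Fintype.card F = q ^ 2) (hn : 1 ≤ n) (u : ↥(U1 F q)) :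
    detGU hF n (dgU hF hn u) = u := by
  apply Subtype.ext
  rw [detGU_coe, dgU_coe]
  exact det_dgNHom _ _

/-- the diagonal automorphisms -/
noncomputable def diagU (hF : Fintype.card F = q ^ 2) (hn : 1 ≤ n) :
    ↥(U1 F q) →* MulAut (Cfsg.PSU n F q) := (rhoGU n F q).comp (dgU hF hn)

theorem diagU_apply (hF : Fintype.card F = q ^ 2) (hn : 1 ≤ n) (u : ↥(U1 F q)) :
    diagU hF hn u = rhoGU n F q (dgU hF hn u) := rfl

/-- every unitary matrix is a diagonal one times one of determinant one -/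
theorem exists_diagU_mul (hF : Fintype.card F = q ^ 2) (hn : 1 ≤ n) (g : ↥(Cfsg.GU n F q)) :
    ∃ (u : ↥(U1 F q)) (s : ↥(detGU hF n).ker),
      rhoGU n F q g = diagU hF hn u * rhoGU n F q s.1 := by
  refine ⟨detGU hF n g, ⟨(dgU hF hn (detGU hF n g))⁻¹ * g, ?_⟩, ?_⟩
  · rw [MonoidHom.mem_ker, map_mul, map_inv, detGU_dgU, inv_mul_cancel]
  · rw [diagU_apply, ← map_mul, mul_inv_cancel_left]

theorem scalarU_det (hF : Fintype.card F = q ^ 2) (z : ↥(U1 F q)) :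
    detGU hF n ⟨Matrix.GeneralLinearGroup.scalar (Fin n) z.1, scalar_mem_GU z.1 z.2⟩ = z ^ n := by
  apply Subtype.ext
  rw [detGU_coe]
  exact det_scalar (n := n) z.1

theorem diagU_mem_inn_iff (hF : Fintype.card F = q ^ 2) (hn : 3 ≤ n) (u : ↥(U1 F q)) :
    diagU hF (by omega) u ∈ Cfsg.Inn (Cfsg.PSU n F q)
      ↔ u ∈ (powMonoidHom n : ↥(U1 F q) →* ↥(U1 F q)).range := by
  have hn1 : 1 ≤ n := by omega
  rw [← map_ker_detGU hF]
  constructor
  · rintro ⟨s, hs, hsu⟩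
    rw [SetLike.mem_coe, MonoidHom.mem_ker] at hs
    rw [diagU_apply, rhoGU_apply, rhoGU_apply] at hsu
    have h1 : cjC ⟨(s : GL (Fin n) F), GU_le_CU s.2⟩ * (fa (1 : F ≃+* F) : MulAut (Cfsg.PSU n F q))
        = cjC ⟨(dgU hF hn1 u : GL (Fin n) F), GU_le_CU (dgU hF hn1 u).2⟩
          * fa (1 : F ≃+* F) := by
      rw [hsu]
    obtain ⟨-, l, hl0, hl⟩ := cjC_fa_inj hF hn _ _ _ _ h1
    have hl' : ((s : GL (Fin n) F) : Matrix (Fin n) (Fin n) F)
        = l • ((dgU hF hn1 u : GL (Fin n) F) : Matrix (Fin n) (Fin n) F) := hl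
    -- `l` has norm one
    obtain ⟨σ₀, hσ₀, hσ₀q⟩ := Cfsg.Agent.Lib.Helper2.HermDecomp.exists_sigma hF
    have hsU : IsU σ₀ ((s : GL (Fin n) F) : Matrix (Fin n) (Fin n) F) :=
      (mem_GU_iff σ₀ q hσ₀q s.1).1 s.2
    have hdU : IsU σ₀ ((dgU hF hn1 u : GL (Fin n) F) : Matrix (Fin n) (Fin n) F) :=
      (mem_GU_iff σ₀ q hσ₀q _).1 (dgU hF hn1 u).2
    have hlU : l * σ₀ l = 1 := by
      rw [hl'] at hsU
      unfold IsU at hsU hdU
      rw [PSUField.map_smul', Matrix.transpose_smul, Matrix.smul_mul, Matrix.mul_smul, smul_smul,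
        hdU] at hsU
      have := congrFun (congrFun hsU ⟨0, by omega⟩) ⟨0, by omega⟩
      simpa using this
    have hlU1 : Units.mk0 l hl0 ∈ U1 F q := by
      rw [mem_U1, Units.val_mk0, ← hσ₀q]
      exact hlU
    refine ⟨(⟨Units.mk0 l hl0, hlU1⟩ : ↥(U1 F q))⁻¹, ?_⟩
    apply Subtype.ext
    apply Units.ext
    have hdet := congrArg Matrix.det hl'
    rw [Matrix.det_smul, Fintype.card_fin] at hdet
    have hs1 : ((s : GL (Fin n) F) : Matrix (Fin n) (Fin n) F).det = 1 := by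
      have := congrArg (fun z : ↥(U1 F q) => ((z : Fˣ) : F)) hs
      exact this
    have hd : ((dgU hF hn1 u : GL (Fin n) F) : Matrix (Fin n) (Fin n) F).det
        = ((u : Fˣ) : F) := by
      rw [← Matrix.GeneralLinearGroup.val_det_apply, dgU_coe, det_dgNHom]
    rw [hs1, hd] at hdet
    show ((((⟨Units.mk0 l hl0, hlU1⟩ : ↥(U1 F q))⁻¹ ^ n : ↥(U1 F q)) : Fˣ) : F) = ((u : Fˣ) : F)
    rw [Subgroup.coe_pow, Subgroup.coe_inv, Units.val_pow_eq_pow_val, Units.val_inv_eq_inv_val,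
      Units.val_mk0]
    have hln : l ^ n ≠ 0 := pow_ne_zero n hl0
    rw [inv_pow]
    apply mul_left_cancel₀ hln
    rw [mul_inv_cancel₀ hln]
    exact hdet
  · rintro ⟨z, rfl⟩
    refine ⟨⟨Matrix.GeneralLinearGroup.scalar (Fin n) z.1, scalar_mem_GU z.1 z.2⟩⁻¹
      * dgU hF hn1 (powMonoidHom n z), ?_, ?_⟩
    · rw [SetLike.mem_coe, MonoidHom.mem_ker, map_mul, map_inv, scalarU_det, detGU_dgU]
      exact inv_mul_cancel _
    · rw [map_mul, map_inv, rhoGU_scalar z.1 z.2, inv_one, one_mul]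
      rfl

/-- The structure of `Out(PSU_n(q))`, `n ≥ 3`. -/
theorem out_structure_PSU {p f : ℕ} [Fact p.Prime] (hf : 1 ≤ f) (hq : q = p ^ f)
    (hF : Fintype.card F = q ^ 2) (hn : 3 ≤ n) (h32 : ¬ (n = 3 ∧ q = 2)) :
    ∃ φ : Cfsg.Out (Cfsg.PSU n F q) →* Multiplicative (ZMod (2 * f)),
      Function.Surjective φ ∧ IsCyclic φ.ker ∧ Nat.card φ.ker = Nat.gcd n (q + 1) := by
  have hn1 : 1 ≤ n := by omega
  have hall : AllStd n F q := by
    intro α
    obtain ⟨g, τ, h⟩ := aut_PSU hq hF hn h32 α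
    exact ⟨τ, g, h⟩
  have hF' : Fintype.card F = p ^ (2 * f) := by rw [hF, hq, ← pow_mul, mul_comm]
  obtain ⟨e⟩ := Cfsg.Agent.Lib.Helper5.PSL2Aut.exists_ringAut_iso (f := 2 * f) (by omega) hF'
  obtain ⟨φ₀, hφ₀⟩ : ∃ φ₀ : Cfsg.Out (Cfsg.PSU n F q) →* (F ≃+* F),
      φ₀ = QuotientGroup.lift (Cfsg.Inn (Cfsg.PSU n F q)) (sigUHom hF hn hall)
        (inn_le_ker_sigUHom hF hn hall) := ⟨_, rfl⟩
  have hφ₀mk : ∀ α : MulAut (Cfsg.PSU n F q),
      φ₀ (QuotientGroup.mk α) = sigUHom hF hn hall α := by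
    intro α
    rw [hφ₀]
    rfl
  have hφ₀surj : Function.Surjective φ₀ := by
    intro τ
    refine ⟨QuotientGroup.mk (fa τ), ?_⟩
    rw [hφ₀mk]
    have := sigUHom_apply hF hn hall 1 τ
    rwa [map_one, one_mul] at this
  obtain ⟨ψ₀, hψ₀⟩ : ∃ ψ₀ : ↥(U1 F q) →* Cfsg.Out (Cfsg.PSU n F q),
      ψ₀ = (QuotientGroup.mk' (Cfsg.Inn (Cfsg.PSU n F q))).comp (diagU hF hn1) := ⟨_, rfl⟩
  have hψ₀apply : ∀ u : ↥(U1 F q), ψ₀ u = QuotientGroup.mk (diagU hF hn1 u) := by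
    intro u
    rw [hψ₀]
    rfl
  refine ⟨e.toMonoidHom.comp φ₀, ?_, ?_⟩
  · exact e.surjective.comp hφ₀surj
  have hkr : (e.toMonoidHom.comp φ₀).ker = ψ₀.range := by
    ext x
    rw [MonoidHom.mem_ker, MonoidHom.comp_apply]
    constructor
    · intro hx
      have hx' : φ₀ x = 1 := by
        apply e.injective
        rw [map_one]
        exact hx
      obtain ⟨α, rfl⟩ := QuotientGroup.mk_surjective x
      rw [hφ₀mk] at hx'
      obtain ⟨g, hg⟩ := (mem_ker_sigUHom_iff hF hn hall α).1 hx'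
      obtain ⟨u, s, hus⟩ := exists_diagU_mul hF hn1 g
      refine ⟨u, ?_⟩
      rw [hψ₀apply, hg, hus, QuotientGroup.mk_mul]
      have : (QuotientGroup.mk (rhoGU n F q s.1) : Cfsg.Out (Cfsg.PSU n F q)) = 1 := by
        rw [QuotientGroup.eq_one_iff, ← map_ker_detGU hF]
        exact ⟨s.1, s.2, rfl⟩
      rw [this, mul_one]
    · rintro ⟨u, rfl⟩
      rw [hψ₀apply, hφ₀mk, diagU_apply, rhoGU_apply, sigUHom_cjC]
      exact map_one e
  have hψker : ψ₀.ker = (powMonoidHom n : ↥(U1 F q) →* ↥(U1 F q)).range := by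
    ext u
    rw [MonoidHom.mem_ker, hψ₀apply, QuotientGroup.eq_one_iff]
    exact diagU_mem_inn_iff hF hn u
  rw [hkr]
  refine ⟨isCyclic_of_surjective ψ₀.rangeRestrict ψ₀.rangeRestrict_surjective, ?_⟩
  rw [← Subgroup.index_ker, hψker, index_pow_U1 hF]

end

end Cfsg.Agent.Lib.Helper5.PSUOut
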