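import Mathlib
import Cfsg.Agent.Lib.Lead.PSingDefs

/-!
# S4321, package Q6a: `central_of_cs_mul_eq`

If `u`, `v` commute, `u` is a `p`-element, the class sizes of `u` and `v` are coprime,
`p` does not divide the class size of `v`, and `u * v` has the same class size as `v`,
then `u` is central.
-/

set_option autoImplicit false

namespace Cfsg.Agent.Lib.Helper5.PSing

open Cfsg.Agent.Lib.Lead.PSing

universe u

section general

variable {G : Type u} [Group G] [Finite G]

theorem q6a_index_inf (H K : Subgroup G) (h : H.index.Coprime K.index) :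
    (H ⊓ K).index = H.index * K.index := by
  apply le_antisymm Subgroup.index_inf_le
  apply Nat.le_of_dvd (Nat.pos_of_ne_zero Subgroup.index_ne_zero_of_finite)
  exact Nat.Coprime.mul_dvd_of_dvd_of_dvd h (Subgroup.index_dvd_of_le inf_le_left)
    (Subgroup.index_dvd_of_le inf_le_right)

/-- Subgroups of coprime indices: `G = H K`. -/
theorem q6a_exists_mul (H K : Subgroup G) (h : H.index.Coprime K.index) (g : G) :
    ∃ x ∈ H, ∃ y ∈ K, g = x * y := by
  have h1 : (H ⊓ K).relIndex H * H.index = (H ⊓ K).index :=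
    Subgroup.relIndex_mul_index inf_le_left
  rw [Subgroup.inf_relIndex_left, q6a_index_inf H K h] at h1
  have h2 : 0 < H.index := Nat.pos_of_ne_zero Subgroup.index_ne_zero_of_finite
  have h3 : K.relIndex H = K.index := by
    rw [mul_comm] at h1
    exact Nat.eq_of_mul_eq_mul_left h2 h1
  let f : H ⧸ K.subgroupOf H → G ⧸ K :=
    Quotient.map' (fun a : H => (a : G)) (fun a b hab => by
      rw [QuotientGroup.leftRel_apply] at hab ⊢
      simpa [Subgroup.mem_subgroupOf] using hab)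
  have hinj : Function.Injective f := by
    intro q₁ q₂
    refine Quotient.inductionOn₂' q₁ q₂ ?_
    intro a b hab
    have h4 : (Quotient.mk'' (a : G) : G ⧸ K) = Quotient.mk'' (b : G) := hab
    rw [Quotient.eq'', QuotientGroup.leftRel_apply] at h4
    apply Quotient.sound'
    rw [QuotientGroup.leftRel_apply]
    simpa [Subgroup.mem_subgroupOf] using h4
  have hbij : Function.Bijective f := by
    apply Function.Injective.bijective_of_nat_card_le hinj
    have e1 : Nat.card (G ⧸ K) = K.index := (Subgroup.index_eq_card _).symm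
    have e2 : Nat.card (H ⧸ K.subgroupOf H) = K.relIndex H := (Subgroup.index_eq_card _).symm
    rw [e1, e2, h3]
  obtain ⟨q, hq⟩ := hbij.2 (Quotient.mk'' g)
  revert hq
  refine Quotient.inductionOn' q ?_
  intro a ha
  have h4 : (Quotient.mk'' (a : G) : G ⧸ K) = Quotient.mk'' g := ha
  rw [Quotient.eq'', QuotientGroup.leftRel_apply] at h4
  exact ⟨a, a.2, (a : G)⁻¹ * g, h4, by group⟩

/-- A normal subgroup of order prime to the index of `H` lies in `H`. -/
theorem q6a_le_of_normal_coprime (N H : Subgroup G) [N.Normal]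
    (h : (Nat.card N).Coprime H.index) : N ≤ H := by
  rw [← Subgroup.relIndex_eq_one]
  have hd1 : H.relIndex N ∣ Nat.card N := Subgroup.relIndex_dvd_card H N
  have hcardle : ∀ A B : Subgroup G, A ≤ B → Nat.card B = Nat.card A * A.relIndex B := by
    intro A B hAB
    have := Subgroup.relIndex_mul_relIndex (⊥ : Subgroup G) A B bot_le hAB
    rw [Subgroup.relIndex_bot_left, Subgroup.relIndex_bot_left] at this
    exact this.symm
  have e1 : Nat.card (H ⊔ N : Subgroup G) = Nat.card N * N.relIndex H := by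
    rw [hcardle N (H ⊔ N) le_sup_right, Subgroup.relIndex_sup_right]
  have e2 : Nat.card H = Nat.card (H ⊓ N : Subgroup G) * N.relIndex H := by
    rw [hcardle (H ⊓ N) H inf_le_left, Subgroup.inf_relIndex_left]
  have e3 : Nat.card N = Nat.card (H ⊓ N : Subgroup G) * H.relIndex N := by
    rw [hcardle (H ⊓ N) N inf_le_right, Subgroup.inf_relIndex_right]
  have e4 : Nat.card (H ⊔ N : Subgroup G) = H.relIndex N * Nat.card H := by
    rw [e1, e2, e3]; ring
  have e5 : Nat.card (H ⊔ N : Subgroup G) * (H ⊔ N : Subgroup G).index = Nat.card H * H.index := by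
    rw [Subgroup.card_mul_index, Subgroup.card_mul_index]
  have hHpos : 0 < Nat.card H := Nat.card_pos
  have e6 : H.relIndex N * (H ⊔ N : Subgroup G).index = H.index := by
    rw [e4] at e5
    have : Nat.card H * (H.relIndex N * (H ⊔ N : Subgroup G).index) = Nat.card H * H.index := by
      rw [← e5]; ring
    exact Nat.eq_of_mul_eq_mul_left hHpos this
  have hd2 : H.relIndex N ∣ H.index := ⟨_, e6.symm⟩
  exact Nat.eq_one_of_dvd_coprimes h hd1 hd2

/-- The class of `v`, as a set. -/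
def q6aClass (v : G) : Set G := Set.range (fun g : G => g * v * g⁻¹)

theorem q6a_conj_mem_class (v : G) {y : G} (hy : y ∈ q6aClass v) (n : G) :
    n * y * n⁻¹ ∈ q6aClass v := by
  obtain ⟨h, rfl⟩ := hy
  exact ⟨n * h, by group⟩

theorem q6a_card_class (v : G) :
    Nat.card (q6aClass v) = (Subgroup.centralizer ({v} : Set G)).index := by
  let f : G ⧸ Subgroup.centralizer ({v} : Set G) → G :=
    fun q => Quotient.liftOn' q (fun g => g * v * g⁻¹) (by
      intro a b hab
      rw [QuotientGroup.leftRel_apply, Subgroup.mem_centralizer_singleton_iff] at hab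
      have h1 : b * v * b⁻¹ = a * (a⁻¹ * b * v) * b⁻¹ := by group
      show a * v * a⁻¹ = b * v * b⁻¹
      rw [h1, hab]; group)
  have hf : ∀ g : G, f (Quotient.mk'' g) = g * v * g⁻¹ := fun g => rfl
  have hinj : Function.Injective f := by
    intro q₁ q₂
    refine Quotient.inductionOn₂' q₁ q₂ ?_
    intro a b hab
    rw [hf, hf] at hab
    apply Quotient.sound'
    rw [QuotientGroup.leftRel_apply, Subgroup.mem_centralizer_singleton_iff]
    have h1 : a⁻¹ * b * v = a⁻¹ * (b * v * b⁻¹) * b := by group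
    rw [h1, ← hab]; group
  have hrange : Set.range f = q6aClass v := by
    ext y
    constructor
    · rintro ⟨q, rfl⟩
      refine Quotient.inductionOn' q ?_
      intro g
      exact ⟨g, (hf g).symm⟩
    · rintro ⟨g, rfl⟩
      exact ⟨Quotient.mk'' g, hf g⟩
  rw [← hrange, Nat.card_range_of_injective hinj, Subgroup.index_eq_card]

/-- The elements `k` with `k B ⊆ B` (so `k B = B`, `G` being finite). -/
def q6aStab (B : Set G) : Subgroup G where
  carrier := {k | ∀ y ∈ B, k * y ∈ B}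
  mul_mem' := by
    intro a b ha hb y hy
    rw [mul_assoc]; exact ha _ (hb y hy)
  one_mem' := by intro y hy; rwa [one_mul]
  inv_mem' := by
    intro k hk y hy
    have hpow : ∀ n : ℕ, ∀ y ∈ B, k ^ n * y ∈ B := by
      intro n
      induction n with
      | zero => intro y hy; rwa [pow_zero, one_mul]
      | succ n ih => intro y hy; rw [pow_succ, mul_assoc]; exact ih _ (hk y hy)
    have hinv : k⁻¹ = k ^ (orderOf k - 1) := by
      have hpos := orderOf_pos k
      have h1 : k * k ^ (orderOf k - 1) = 1 := by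
        rw [← pow_succ', Nat.sub_add_cancel hpos, pow_orderOf_eq_one]
      exact inv_eq_of_mul_eq_one_right h1
    rw [hinv]; exact hpow _ y hy

theorem mem_q6aStab {B : Set G} {k : G} : k ∈ q6aStab B ↔ ∀ y ∈ B, k * y ∈ B := Iff.rfl

theorem q6aStab_normal (B : Set G) (hB : ∀ y ∈ B, ∀ n : G, n * y * n⁻¹ ∈ B) :
    (q6aStab B).Normal := by
  constructor
  intro k hk n
  rw [mem_q6aStab] at hk ⊢
  intro y hy
  have h1 : n⁻¹ * y * n⁻¹⁻¹ ∈ B := hB y hy n⁻¹
  have h3 := hB _ (hk _ h1) n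
  have h4 : n * k * n⁻¹ * y = n * (k * (n⁻¹ * y * n⁻¹⁻¹)) * n⁻¹ := by group
  rw [h4]; exact h3

theorem q6a_card_stab_dvd (B : Set G) (hB : ∀ y ∈ B, ∀ n : G, n * y * n⁻¹ ∈ B) :
    Nat.card (q6aStab B) ∣ Nat.card B := by
  haveI := q6aStab_normal B hB
  have hBS : ∀ y ∈ B, ∀ s ∈ q6aStab B, y * s ∈ B := by
    intro y hy s hs
    have h1 : y * s * y⁻¹ ∈ q6aStab B := Subgroup.Normal.conj_mem inferInstance s hs y
    have h2 := (mem_q6aStab.mp h1) y hy
    have h3 : y * s * y⁻¹ * y = y * s := by group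
    rwa [h3] at h2
  have hpre : B = (QuotientGroup.mk : G → G ⧸ q6aStab B) ⁻¹'
      ((QuotientGroup.mk : G → G ⧸ q6aStab B) '' B) := by
    ext z
    constructor
    · intro hz
      exact ⟨z, hz, rfl⟩
    · rintro ⟨y, hy, hyz⟩
      have h1 : y⁻¹ * z ∈ q6aStab B := QuotientGroup.eq.mp hyz
      have h2 := hBS y hy _ h1
      have h3 : y * (y⁻¹ * z) = z := by group
      rwa [h3] at h2
  have hcard := QuotientGroup.card_preimage_mk (q6aStab B)
    ((QuotientGroup.mk : G → G ⧸ q6aStab B) '' B)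
  rw [← hpre] at hcard
  exact ⟨_, hcard⟩

end general

section main

variable {G : Type u} [Group G] [Finite G] {p : ℕ} [Fact p.Prime]

/-- **Q6a.** -/
theorem central_of_cs_mul_eq (u v : G) (hu : IsPEl p u) (huv : Commute u v)
    (hcop : Nat.Coprime (cs u) (cs v)) (hvp : ¬ p ∣ cs v) (hz : cs (u * v) = cs v) :
    cs u = 1 := by
  classical
  have hp : p.Prime := Fact.out
  obtain ⟨Cu, hCu⟩ : ∃ C : Subgroup G, C = Subgroup.centralizer ({u} : Set G) := ⟨_, rfl⟩
  obtain ⟨Cv, hCv⟩ : ∃ C : Subgroup G, C = Subgroup.centralizer ({v} : Set G) := ⟨_, rfl⟩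
  obtain ⟨Cuv, hCuv⟩ : ∃ C : Subgroup G, C = Subgroup.centralizer ({u * v} : Set G) := ⟨_, rfl⟩
  have hcu : cs u = Cu.index := by rw [hCu]
  have hcv : cs v = Cv.index := by rw [hCv]
  have hcuv : cs (u * v) = Cuv.index := by rw [hCuv]
  have hcop1 : Cu.index.Coprime Cv.index := by rw [← hcu, ← hcv]; exact hcop
  have hcop2 : Cu.index.Coprime Cuv.index := by rw [← hcu, ← hcuv, hz]; exact hcop
  have memCu : ∀ c : G, c ∈ Cu ↔ c * u = u * c := by
    intro c; rw [hCu, Subgroup.mem_centralizer_singleton_iff]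
  have memCv : ∀ c : G, c ∈ Cv ↔ c * v = v * c := by
    intro c; rw [hCv, Subgroup.mem_centralizer_singleton_iff]
  have memCuv : ∀ c : G, c ∈ Cuv ↔ c * (u * v) = u * v * c := by
    intro c; rw [hCuv, Subgroup.mem_centralizer_singleton_iff]
  -- Step A
  have hA : ∀ g h : G, ∃ d : G, d * v * d⁻¹ = u⁻¹ * (g * u * g⁻¹) * (h * v * h⁻¹) := by
    intro g h
    obtain ⟨c₁, hc₁, c₂, hc₂, hx⟩ := q6a_exists_mul Cu Cv hcop1 (g⁻¹ * h)
    obtain ⟨d₁, hd₁, d₂, hd₂, hy⟩ := q6a_exists_mul Cu Cuv hcop2 (g * c₁)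
    rw [memCu] at hc₁ hd₁
    rw [memCv] at hc₂
    rw [memCuv] at hd₂
    refine ⟨d₁, ?_⟩
    have hh : h = g * c₁ * c₂ := by rw [mul_assoc, ← hx]; group
    have e1 : h * v * h⁻¹ = g * c₁ * v * c₁⁻¹ * g⁻¹ := by
      rw [hh]
      have h1 : g * c₁ * c₂ * v * (g * c₁ * c₂)⁻¹ = g * c₁ * (c₂ * v) * c₂⁻¹ * c₁⁻¹ * g⁻¹ := by
        group
      rw [h1, hc₂]; group
    have e2 : g * u * g⁻¹ = g * c₁ * u * c₁⁻¹ * g⁻¹ := by
      have h1 : g * c₁ * u * c₁⁻¹ * g⁻¹ = g * (c₁ * u) * c₁⁻¹ * g⁻¹ := by group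
      rw [h1, hc₁]; group
    have e3 : (g * u * g⁻¹) * (h * v * h⁻¹) = (g * c₁) * (u * v) * (g * c₁)⁻¹ := by
      rw [e1, e2]; group
    have e4 : (g * c₁) * (u * v) * (g * c₁)⁻¹ = d₁ * (u * v) * d₁⁻¹ := by
      rw [hy]
      have h1 : d₁ * d₂ * (u * v) * (d₁ * d₂)⁻¹ = d₁ * (d₂ * (u * v)) * d₂⁻¹ * d₁⁻¹ := by group
      rw [h1, hd₂]; group
    have e5 : d₁ * (u * v) * d₁⁻¹ = u * (d₁ * v * d₁⁻¹) := by
      have h1 : d₁ * (u * v) * d₁⁻¹ = (d₁ * u) * v * d₁⁻¹ := by group
      rw [h1, hd₁]; group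
    calc d₁ * v * d₁⁻¹ = u⁻¹ * (u * (d₁ * v * d₁⁻¹)) := by group
      _ = u⁻¹ * ((g * u * g⁻¹) * (h * v * h⁻¹)) := by rw [← e5, ← e4, ← e3]
      _ = u⁻¹ * (g * u * g⁻¹) * (h * v * h⁻¹) := by group
  -- the stabilizer of the class of `v`
  have hBconj : ∀ y ∈ q6aClass v, ∀ n : G, n * y * n⁻¹ ∈ q6aClass v :=
    fun y hy n => q6a_conj_mem_class v hy n
  obtain ⟨S, hS⟩ : ∃ S : Subgroup G, S = q6aStab (q6aClass v) := ⟨_, rfl⟩
  haveI hSn : S.Normal := by rw [hS]; exact q6aStab_normal _ hBconj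
  have hkS : ∀ g : G, u⁻¹ * (g * u * g⁻¹) ∈ S := by
    intro g
    rw [hS, mem_q6aStab]
    rintro _ ⟨h, rfl⟩
    obtain ⟨d, hd⟩ := hA g h
    exact ⟨d, hd⟩
  have hSdvd : Nat.card S ∣ cs v := by
    have h1 := q6a_card_stab_dvd (q6aClass v) hBconj
    rw [q6a_card_class v] at h1
    rw [hS]; exact h1
  have hSle : S ≤ Cu := by
    apply q6a_le_of_normal_coprime
    rw [← hcu]
    exact Nat.Coprime.coprime_dvd_left hSdvd hcop.symm
  have hSp : (Nat.card S).Coprime p := by
    rw [Nat.coprime_comm, Nat.Prime.coprime_iff_not_dvd hp]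
    exact fun h => hvp (h.trans hSdvd)
  obtain ⟨e, he⟩ := hu
  have hcentral : ∀ g : G, g * u * g⁻¹ = u := by
    intro g
    obtain ⟨k, hk⟩ : ∃ k : G, k = u⁻¹ * (g * u * g⁻¹) := ⟨_, rfl⟩
    have hkmem : k ∈ S := by rw [hk]; exact hkS g
    have hkc : k * u = u * k := (memCu k).mp (hSle hkmem)
    have hgu : g * u * g⁻¹ = u * k := by rw [hk]; group
    have hpow : (g * u * g⁻¹) ^ (p ^ e) = 1 := by
      rw [conj_pow, ← he, pow_orderOf_eq_one]; group
    have hcomm : Commute u k := hkc.symm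
    rw [hgu, hcomm.mul_pow, ← he, pow_orderOf_eq_one, one_mul] at hpow
    have hd1 : orderOf k ∣ orderOf u := orderOf_dvd_of_pow_eq_one hpow
    rw [he] at hd1
    have hd2 : orderOf k ∣ Nat.card S := by
      have h1 := orderOf_dvd_natCard (⟨k, hkmem⟩ : S)
      rwa [Subgroup.orderOf_mk] at h1
    have h1 : orderOf k = 1 :=
      Nat.eq_one_of_dvd_coprimes (Nat.Coprime.pow_right e hSp) hd2 hd1
    rw [orderOf_eq_one_iff] at h1
    rw [hgu, h1, mul_one]
  have htop : Cu = ⊤ := by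
    rw [eq_top_iff]
    intro g _
    rw [memCu]
    have h1 := hcentral g
    rw [mul_inv_eq_iff_eq_mul] at h1
    exact h1
  rw [hcu, htop, Subgroup.index_top]

end main

end Cfsg.Agent.Lib.Helper5.PSing
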