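import Mathlib
import Cfsg.Agent.Lib.Helper5.SpTwo12

set_option autoImplicit false

/-! The automorphisms of a four-or-more dimensional symplectic group in characteristic two that
permute the long root groups form a subgroup of index at most two. -/

namespace Cfsg.Agent.Lib.Helper5.SpAut

open Module Cfsg.Agent.Lib.Helper2.IsomDecomp Cfsg.Agent.Lib.Helper5.FTPG

universe u v w

section groups
variable {F : Type v} [Field F] [Fintype F] {V : Type u} [AddCommGroup V]
  [Module F V] [FiniteDimensional F V] {B : V → V → F}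

theorem LongAll.inv (d : SData B) {α : MulAut ↥(isom B)} (hα : LongAll d α) :
    LongAll d α⁻¹ := by
  haveI := finite_T B
  haveI : Finite (MulAut ↥(isom B)) := Finite.of_injective (fun α : MulAut ↥(isom B) => α.toEquiv)
    (fun a b h => MulEquiv.ext (fun x => by
      have := congrArg (fun e : ↥(isom B) ≃ ↥(isom B) => e x) h
      exact this))
  obtain ⟨n, hn0, hn⟩ := isOfFinOrder_iff_pow_eq_one.1 (isOfFinOrder_of_finite α)
  have e : α⁻¹ = α ^ (n - 1) := by
    rw [inv_eq_iff_mul_eq_one, ← pow_succ']
    have : n - 1 + 1 = n := by omega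
    rw [this, hn]
  rw [e]
  exact LongAll.pow d hα (n - 1)

/-- the subgroup of the automorphisms permuting the long root groups -/
def longSub (d : SData B) : Subgroup (MulAut ↥(isom B)) where
  carrier := {α | LongAll d α}
  mul_mem' := fun ha hb => LongAll.mul d ha hb
  one_mem' := longAll_one d
  inv_mem' := fun ha => LongAll.inv d ha

theorem mem_longSub (d : SData B) (α : MulAut ↥(isom B)) : α ∈ longSub d ↔ LongAll d α := Iff.rfl

/-- the product of two automorphisms not permuting the long root groups permutes them -/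
theorem longAll_mul_of_not (d : SData B) [CharP F 2] (hfr : 4 ≤ finrank F V)
    {α β : MulAut ↥(isom B)} (hα : ¬ LongAll d α) (hβ : ¬ LongAll d β) :
    LongAll d (α * β) := by
  intro u hu0
  obtain ⟨w, hind, hw⟩ := exists_flag_at d.alt (by omega) hu0
  obtain ⟨u', w', hw', hind', hc⟩ := map_flag d hfr β hind hw
  rcases hc with ⟨hX, -⟩ | ⟨hX, -⟩
  · exact absurd (fun v hv0 => longAt_all d hfr β ⟨u', hind'.left_ne, hX⟩ hu0 hv0) hβ
  · obtain ⟨u'', w'', hw'', hind'', hc'⟩ := map_flag d hfr α hind' hw'
    rcases hc' with ⟨hX', -⟩ | ⟨-, hY'⟩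
    · exact absurd (fun v hv0 =>
        longAt_all d hfr α ⟨u'', hind''.left_ne, hX'⟩ hind'.left_ne hv0) hα
    · refine ⟨u'', hind''.left_ne, ?_⟩
      have e : (α * β).toMonoidHom = α.toMonoidHom.comp β.toMonoidHom := rfl
      rw [e, ← Subgroup.map_map, hX, hY']

theorem index_longSub (d : SData B) [CharP F 2] (hfr : 4 ≤ finrank F V)
    {θ : MulAut ↥(isom B)} (hθ : ¬ LongAll d θ) : (longSub d).index = 2 := by
  rw [Subgroup.index_eq_two_iff]
  refine ⟨θ, fun b => ?_⟩
  by_cases hb : b ∈ longSub d
  · refine Or.inr ⟨hb, fun hbθ => hθ ?_⟩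
    have : θ = b⁻¹ * (b * θ) := by group
    rw [this]
    exact (longSub d).mul_mem ((longSub d).inv_mem hb) hbθ
  · exact Or.inl ⟨longAll_mul_of_not d hfr hb hθ, hb⟩

end groups

end Cfsg.Agent.Lib.Helper5.SpAut
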