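import Mathlib
import Cfsg.Agent.Lib.Helper5.SpTwo13

set_option autoImplicit false

/-! Transfer of the long-root-group dichotomy to a quotient (which is an isomorphic copy in
characteristic two). -/

namespace Cfsg.Agent.Lib.Helper5.SpAut

open Module Cfsg.Agent.Lib.Helper2.IsomDecomp Cfsg.Agent.Lib.Helper5.FTPG

universe u v w

section quotient
variable {F : Type v} [Field F] [Fintype F] {V : Type u} [AddCommGroup V]
  [Module F V] [FiniteDimensional F V] {B : V → V → F} {𝔗 : Type w} [Group 𝔗]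
  {ρ : ↥(isom B) →* 𝔗}

/-- in characteristic two the projection is an isomorphism -/
noncomputable def SQMap.equivTwo (q : SQMap B ρ) (d : SData B) [CharP F 2]
    (hV : ∃ x : V, x ≠ 0) : ↥(isom B) ≃* 𝔗 :=
  MulEquiv.ofBijective ρ ⟨q.injective_two d hV, q.surj⟩

theorem SQMap.equivTwo_apply (q : SQMap B ρ) (d : SData B) [CharP F 2]
    (hV : ∃ x : V, x ≠ 0) (x : ↥(isom B)) : q.equivTwo d hV x = ρ x := rfl

/-- the transported automorphism -/
noncomputable def SQMap.pull (q : SQMap B ρ) (d : SData B) [CharP F 2]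
    (hV : ∃ x : V, x ≠ 0) : MulAut 𝔗 →* MulAut ↥(isom B) :=
  (MulAut.congr (q.equivTwo d hV).symm).toMonoidHom

theorem SQMap.rho_pull (q : SQMap B ρ) (d : SData B) [CharP F 2]
    (hV : ∃ x : V, x ≠ 0) (α : MulAut 𝔗) (x : ↥(isom B)) :
    ρ (q.pull d hV α x) = α (ρ x) := by
  show ρ ((q.equivTwo d hV).symm (α ((q.equivTwo d hV) x))) = α (ρ x)
  rw [← q.equivTwo_apply d hV, MulEquiv.apply_symm_apply]
  rfl

theorem SQMap.map_pull (q : SQMap B ρ) (d : SData B) [CharP F 2]
    (hV : ∃ x : V, x ≠ 0) (α : MulAut 𝔗) (H : Subgroup ↥(isom B)) :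
    (H.map (q.pull d hV α).toMonoidHom).map ρ = (H.map ρ).map α.toMonoidHom := by
  rw [Subgroup.map_map, Subgroup.map_map]
  congr 1
  apply MonoidHom.ext
  intro x
  exact q.rho_pull d hV α x

theorem SQMap.perm_iff (q : SQMap B ρ) (d : SData B) [CharP F 2]
    (hV : ∃ x : V, x ≠ 0) (α : MulAut 𝔗) :
    Perm d ρ α ↔ LongAll d (q.pull d hV α) := by
  have hmi : Function.Injective (Subgroup.map ρ) := Subgroup.map_injective (q.injective_two d hV)
  constructor
  · intro h u hu0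
    obtain ⟨v, hv0, hv⟩ := h u hu0
    refine ⟨v, hv0, ?_⟩
    apply hmi
    rw [q.map_pull d hV]
    exact hv
  · intro h u hu0
    obtain ⟨v, hv0, hv⟩ := h u hu0
    refine ⟨v, hv0, ?_⟩
    unfold Xb
    rw [← q.map_pull d hV, hv]

/-- the subgroup of the automorphisms permuting the images of the transvection groups -/
noncomputable def SQMap.permSub (q : SQMap B ρ) (d : SData B) [CharP F 2]
    (hV : ∃ x : V, x ≠ 0) : Subgroup (MulAut 𝔗) :=
  (longSub d).comap (q.pull d hV)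

theorem SQMap.mem_permSub (q : SQMap B ρ) (d : SData B) [CharP F 2]
    (hV : ∃ x : V, x ≠ 0) (α : MulAut 𝔗) : α ∈ q.permSub d hV ↔ Perm d ρ α := by
  rw [q.perm_iff d hV]
  rfl

theorem SQMap.index_permSub (q : SQMap B ρ) (d : SData B) [CharP F 2]
    (hfr : 4 ≤ finrank F V) (hV : ∃ x : V, x ≠ 0) {θ : MulAut 𝔗} (hθ : ¬ Perm d ρ θ) :
    (q.permSub d hV).index = 2 := by
  rw [Subgroup.index_eq_two_iff]
  refine ⟨θ, fun b => ?_⟩
  rw [q.mem_permSub, q.mem_permSub, q.perm_iff d hV, q.perm_iff d hV b, map_mul]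
  rw [q.perm_iff d hV] at hθ
  by_cases hb : LongAll d (q.pull d hV b)
  · refine Or.inr ⟨hb, fun hbθ => hθ ?_⟩
    have e : q.pull d hV θ = (q.pull d hV b)⁻¹ * (q.pull d hV b * q.pull d hV θ) := by group
    rw [e]
    exact LongAll.mul d (LongAll.inv d hb) hbθ
  · exact Or.inl ⟨longAll_mul_of_not d hfr hb hθ, hb⟩

end quotient

end Cfsg.Agent.Lib.Helper5.SpAut
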