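import Mathlib
import Cfsg.Agent.Lib.Helper5.SpTwo14
import Cfsg.Agent.Lib.Helper5.PSpAut8

set_option autoImplicit false

/-! The group of the automorphisms of `PSp_{2m}(F)` induced by semilinear similitudes. -/

namespace Cfsg.Agent.Lib.Helper5.PSpAut

open Matrix Module Cfsg.Agent.Lib.Helper5.PGO Cfsg.Agent.Lib.Helper2.Symp
  Cfsg.Agent.Lib.Helper1.SpCard Cfsg.Agent.Lib.Helper2.IsomDecomp Cfsg.Agent.Lib.Helper5.SpAut
  Cfsg.Agent.Lib.Helper5.FTPG Cfsg.Agent.Lib.Helper5.UAut Cfsg.Agent.Lib.Helper2.SpIsom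
  Cfsg.Agent.Lib.Helper2.SpFrames Cfsg.Agent.Lib.Helper1.SpBasic
  Cfsg.Agent.Lib.Helper5.GraphSplit

universe u

section
variable {F : Type u} [Field F] [Fintype F] {m : ℕ}

/-- the automorphisms induced by semilinear similitudes -/
noncomputable def GamSub (m : ℕ) (F : Type u) [Field F] [Fintype F] :
    Subgroup (MulAut (Cfsg.PSp m F)) where
  carrier := {α | ∃ (g : ↥(Cfsg.GSp m F)) (τ : F ≃+* F), α = cjC g * fa τ}
  mul_mem' := by
    rintro _ _ ⟨g, τ, rfl⟩ ⟨g', τ', rfl⟩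
    refine ⟨g * mapG τ g', τ * τ', ?_⟩
    rw [map_mul, map_mul]
    calc cjC g * fa τ * (cjC g' * fa τ') = cjC g * (fa τ * cjC g') * fa τ' := by group
      _ = cjC g * cjC (mapG τ g') * (fa τ * fa τ') := by rw [fa_mul_cjC]; group
  one_mem' := ⟨1, 1, by rw [map_one, map_one, one_mul]⟩
  inv_mem' := by
    rintro _ ⟨g, τ, rfl⟩
    refine ⟨mapG τ⁻¹ g⁻¹, τ⁻¹, ?_⟩
    rw [← fa_mul_cjC, map_inv, map_inv, _root_.mul_inv_rev]

theorem mem_GamSub (α : MulAut (Cfsg.PSp m F)) :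
    α ∈ GamSub m F ↔ ∃ (g : ↥(Cfsg.GSp m F)) (τ : F ≃+* F), α = cjC g * fa τ := Iff.rfl

theorem cjC_range_le_GamSub : (cjC (m := m) (F := F)).range ≤ GamSub m F := by
  rintro _ ⟨g, rfl⟩
  exact ⟨g, 1, by rw [map_one, mul_one]⟩

theorem inn_le_GamSub : Cfsg.Inn (Cfsg.PSp m F) ≤ GamSub m F :=
  inn_le_range.trans cjC_range_le_GamSub

/-- the cardinality of the group of inner-diagonal automorphisms -/
theorem card_range_cjC (p : ℕ) [Fact p.Prime] [CharP F p] (hm : 1 ≤ m) :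
    Nat.card ↥(cjC (m := m) (F := F)).range = Nat.card ↥(Matrix.symplecticGroup (Fin m) F) := by
  rw [← card_PGSp hm, Nat.card_congr (QuotientGroup.quotientKerEquivRange
    (cjC (m := m) (F := F))).toEquiv.symm]
  have hk : (cjC (m := m) (F := F)).ker
      = (Cfsg.Geo.scalars (Fin m ⊕ Fin m) F).subgroupOf (Cfsg.GSp m F) := by
    ext g
    rw [MonoidHom.mem_ker, cjC_eq_one_iff p hm, Subgroup.mem_subgroupOf,
      Cfsg.Geo.mem_scalars_iff]
    constructor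
    · rintro ⟨z, hz0, hz⟩
      exact ⟨Units.mk0 z hz0, hz⟩
    · rintro ⟨c, hc⟩
      exact ⟨(c : F), c.ne_zero, hc⟩
  show Nat.card (↥(Cfsg.GSp m F) ⧸ (cjC (m := m) (F := F)).ker)
    = Nat.card (↥(Cfsg.GSp m F) ⧸ (Cfsg.Geo.scalars (Fin m ⊕ Fin m) F).subgroupOf (Cfsg.GSp m F))
  rw [hk]

/-- the cardinality of the group of the automorphisms induced by semilinear similitudes -/
theorem card_GamSub (p : ℕ) [Fact p.Prime] [CharP F p] (hm : 1 ≤ m) :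
    Nat.card ↥(GamSub m F)
      = Nat.card ↥(Matrix.symplecticGroup (Fin m) F) * Nat.card (F ≃+* F) := by
  rw [← card_range_cjC p hm, ← Nat.card_prod]
  symm
  apply Nat.card_congr
  refine Equiv.ofBijective (fun x : ↥(cjC (m := m) (F := F)).range × (F ≃+* F) =>
      (⟨(x.1 : MulAut (Cfsg.PSp m F)) * fa x.2, by
        obtain ⟨g, hg⟩ := x.1.2
        exact ⟨g, x.2, by rw [hg]⟩⟩ : ↥(GamSub m F))) ⟨?_, ?_⟩
  · rintro ⟨⟨_, g, rfl⟩, τ⟩ ⟨⟨_, g', rfl⟩, τ'⟩ h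
    have h' : cjC g * fa τ = cjC g' * (fa τ' : MulAut (Cfsg.PSp m F)) :=
      congrArg Subtype.val h
    have h1 : cjC (g'⁻¹ * g) * (fa (τ * τ'⁻¹) : MulAut (Cfsg.PSp m F)) = 1 := by
      rw [map_mul, map_mul, map_inv, map_inv]
      calc (cjC g')⁻¹ * cjC g * (fa τ * (fa τ')⁻¹)
          = (cjC g')⁻¹ * (cjC g * fa τ) * (fa τ')⁻¹ := by group
        _ = 1 := by rw [h']; group
    obtain ⟨h2, -⟩ := cjC_fa_inj p hm _ _ h1
    have h3 : τ = τ' := by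
      rw [mul_inv_eq_one] at h2
      exact h2
    subst h3
    have h4 := mul_right_cancel h'
    apply Prod.ext
    · apply Subtype.ext
      exact h4
    · rfl
  · rintro ⟨α, g, τ, rfl⟩
    exact ⟨⟨⟨cjC g, ⟨g, rfl⟩⟩, τ⟩, rfl⟩

end

end Cfsg.Agent.Lib.Helper5.PSpAut
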