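import Mathlib
import Cfsg.Agent.Lib.Helper5.PSpAut9

set_option autoImplicit false

/-! In characteristic two the automorphisms of `PSp_{2m}(F)` induced by semilinear similitudes
are exactly those permuting the long root groups. -/

namespace Cfsg.Agent.Lib.Helper5.PSpAut

open Matrix Module Cfsg.Agent.Lib.Helper5.PGO Cfsg.Agent.Lib.Helper2.Symp
  Cfsg.Agent.Lib.Helper1.SpCard Cfsg.Agent.Lib.Helper2.IsomDecomp Cfsg.Agent.Lib.Helper5.SpAut
  Cfsg.Agent.Lib.Helper5.FTPG Cfsg.Agent.Lib.Helper5.UAut Cfsg.Agent.Lib.Helper2.SpIsom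
  Cfsg.Agent.Lib.Helper2.SpFrames Cfsg.Agent.Lib.Helper1.SpBasic
  Cfsg.Agent.Lib.Helper5.GraphSplit

universe u

section
variable {F : Type u} [Field F] [Fintype F] {m : ℕ}

theorem mem_Xb_iff (u : Fin m ⊕ Fin m → F) (x : Cfsg.PSp m F) :
    x ∈ Xb (altF_symp (m := m) (F := F)) rhoSp u
      ↔ ∃ c : F, x = (QuotientGroup.mk (T u c) : Cfsg.PSp m F) := by
  unfold SpAut.Xb
  rw [Subgroup.mem_map]
  constructor
  · rintro ⟨g, ⟨c, hg⟩, rfl⟩
    refine ⟨c, ?_⟩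
    rw [← rhoSp_tv]
    congr 1
    exact Subtype.ext hg
  · rintro ⟨c, rfl⟩
    exact ⟨tvT altF_symp u c, tvT_mem _ u c, rhoSp_tv u c⟩

theorem map_Xb_cjC (g : ↥(Cfsg.GSp m F)) (u : Fin m ⊕ Fin m → F) :
    (Xb (altF_symp (m := m) (F := F)) rhoSp u).map (cjC g).toMonoidHom
      = Xb altF_symp rhoSp
        (((g : GL (Fin m ⊕ Fin m) F) : Matrix (Fin m ⊕ Fin m) (Fin m ⊕ Fin m) F) *ᵥ u) := by
  have hμ : ((muS g : Fˣ) : F) ≠ 0 := (muS g).ne_zero
  ext x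
  rw [Subgroup.mem_map, mem_Xb_iff]
  constructor
  · rintro ⟨y, hy, rfl⟩
    obtain ⟨c, rfl⟩ := (mem_Xb_iff u y).1 hy
    refine ⟨c * ((muS g : Fˣ) : F)⁻¹, ?_⟩
    show cjC g _ = _
    rw [cjC_mk, spConj_T]
  · rintro ⟨c, rfl⟩
    refine ⟨QuotientGroup.mk (T u (c * ((muS g : Fˣ) : F))), (mem_Xb_iff u _).2 ⟨_, rfl⟩, ?_⟩
    show cjC g _ = _
    rw [cjC_mk, spConj_T, mul_assoc, mul_inv_cancel₀ hμ, mul_one]

theorem map_Xb_fa (τ : F ≃+* F) (u : Fin m ⊕ Fin m → F) :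
    (Xb (altF_symp (m := m) (F := F)) rhoSp u).map
        (fa τ : MulAut (Cfsg.PSp m F)).toMonoidHom
      = Xb altF_symp rhoSp (fun i => τ (u i)) := by
  ext x
  rw [Subgroup.mem_map, mem_Xb_iff]
  constructor
  · rintro ⟨y, hy, rfl⟩
    obtain ⟨c, rfl⟩ := (mem_Xb_iff u y).1 hy
    refine ⟨τ c, ?_⟩
    show (fa τ : MulAut (Cfsg.PSp m F)) _ = _
    rw [fa_mk, spField_T]
  · rintro ⟨c, rfl⟩
    refine ⟨QuotientGroup.mk (T u (τ.symm c)), (mem_Xb_iff u _).2 ⟨_, rfl⟩, ?_⟩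
    show (fa τ : MulAut (Cfsg.PSp m F)) _ = _
    rw [fa_mk, spField_T, RingEquiv.apply_symm_apply]

theorem perm_cjC_fa (g : ↥(Cfsg.GSp m F)) (τ : F ≃+* F) :
    Perm (sData_symp (m := m) (F := F)) rhoSp (cjC g * fa τ) := by
  intro u hu0
  have h1 : (fun i => τ (u i)) ≠ 0 := by
    intro h0
    apply hu0
    funext i
    have := congrFun h0 i
    simpa using this
  refine ⟨_, mulVec_ne_zero g h1, ?_⟩
  have e : (cjC g * (fa τ : MulAut (Cfsg.PSp m F))).toMonoidHom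
      = (cjC g).toMonoidHom.comp (fa τ : MulAut (Cfsg.PSp m F)).toMonoidHom := rfl
  rw [e, ← Subgroup.map_map, map_Xb_fa, map_Xb_cjC]

/-- in characteristic two the group of semilinear similitudes is the group of the automorphisms
permuting the long root groups -/
theorem GamSub_eq_permSub [CharP F 2] (hm : 2 ≤ m) :
    GamSub m F = (sqMap_rhoSp (m := m) (F := F)).permSub sData_symp (exists_ne_vec (by omega)) := by
  have d := sData_symp (m := m) (F := F)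
  have qm := sqMap_rhoSp (m := m) (F := F)
  ext α
  rw [SQMap.mem_permSub]
  constructor
  · rintro ⟨g, τ, rfl⟩
    exact perm_cjC_fa g τ
  · intro hα
    have hα' : Perm (sData_symp (m := m) (F := F)) rhoSp α⁻¹ := by
      rw [← SQMap.mem_permSub qm sData_symp (exists_ne_vec (by omega))] at hα ⊢
      exact Subgroup.inv_mem _ hα
    exact aut_PSp_of_perm hm 2 α hα hα'

theorem index_GamSub [CharP F 2] (hm : 2 ≤ m) {θ : MulAut (Cfsg.PSp m F)}
    (hθ : θ ∉ GamSub m F) : (GamSub m F).index = 2 := by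
  rw [GamSub_eq_permSub hm] at hθ ⊢
  rw [SQMap.mem_permSub] at hθ
  have hfr : 4 ≤ finrank F (Fin m ⊕ Fin m → F) := by
    rw [finrank_symp]
    omega
  exact SQMap.index_permSub _ _ hfr _ hθ

end

end Cfsg.Agent.Lib.Helper5.PSpAut
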