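import Mathlib
import Cfsg.Agent.Lib.Helper1.SpBasic

set_option autoImplicit false

namespace Cfsg.Agent.Lib.Helper5.PSpGr

open Matrix Cfsg.Agent.Lib.Helper1.SpBasic

universe u
variable {F : Type u} [Field F]

/-- the index type of `4 × 4` symplectic matrices -/
abbrev I4 := Fin 2 ⊕ Fin 2

/-- first members of the four isotropic coordinate pairs -/
def p1 : I4 → I4 := Sum.elim ![Sum.inl 0, Sum.inl 0] ![Sum.inr 0, Sum.inl 1]

/-- second members of the four isotropic coordinate pairs -/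
def p2 : I4 → I4 := Sum.elim ![Sum.inl 1, Sum.inr 1] ![Sum.inr 1, Sum.inr 0]

/-- a two by two minor -/
def mnr (g : Matrix I4 I4 F) (a b c d : I4) : F := g a c * g b d - g a d * g b c

/-- the matrix of the exterior square on the four isotropic coordinate pairs -/
def thm (g : Matrix I4 I4 F) : Matrix I4 I4 F :=
  Matrix.of fun i j => mnr g (p1 i) (p2 i) (p1 j) (p2 j)

theorem thm_apply (g : Matrix I4 I4 F) (i j : I4) :
    thm g i j = mnr g (p1 i) (p2 i) (p1 j) (p2 j) := rfl

theorem J_p1_p2 (i : I4) : Matrix.J (Fin 2) F (p1 i) (p2 i) = 0 := by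
  rcases i with i | i <;> fin_cases i <;> simp [p1, p2, Matrix.J, Matrix.one_apply]

theorem row_rel {A : Matrix I4 I4 F} (hA : A ∈ Matrix.symplecticGroup (Fin 2) F) (a b : I4) :
    ∑ k : Fin 2, (A a (Sum.inr k) * A b (Sum.inl k) - A a (Sum.inl k) * A b (Sum.inr k))
      = Matrix.J (Fin 2) F a b := by
  have h := congrFun (congrFun (SymplecticGroup.mem_iff.1 hA) a) b
  rw [← h]
  simp only [Matrix.mul_apply, Matrix.transpose_apply, Fintype.sum_sum_type, Fin.sum_univ_two,
    Matrix.J, Matrix.fromBlocks_apply₁₁, Matrix.fromBlocks_apply₁₂, Matrix.fromBlocks_apply₂₁,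
    Matrix.fromBlocks_apply₂₂, Matrix.zero_apply, Matrix.neg_apply, Matrix.one_apply]
  simp
  ring

theorem col_rel {A : Matrix I4 I4 F} (hA : A ∈ Matrix.symplecticGroup (Fin 2) F) (c d : I4) :
    ∑ k : Fin 2, (A (Sum.inr k) c * A (Sum.inl k) d - A (Sum.inl k) c * A (Sum.inr k) d)
      = Matrix.J (Fin 2) F c d := by
  have h := congrFun (congrFun (SymplecticGroup.mem_iff'.1 hA) c) d
  rw [← h]
  simp only [Matrix.mul_apply, Matrix.transpose_apply, Fintype.sum_sum_type, Fin.sum_univ_two,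
    Matrix.J, Matrix.fromBlocks_apply₁₁, Matrix.fromBlocks_apply₁₂, Matrix.fromBlocks_apply₂₁,
    Matrix.fromBlocks_apply₂₂, Matrix.zero_apply, Matrix.neg_apply, Matrix.one_apply]
  simp
  ring

/-- the Cauchy--Binet expansion of a minor of a product of symplectic matrices in characteristic
two, restricted to the four isotropic coordinate pairs -/
theorem mnr_mul (h2 : (2 : F) = 0) (g h : Matrix I4 I4 F) (a b c d : I4)
    (hg : ∑ k : Fin 2, (g a (Sum.inr k) * g b (Sum.inl k) - g a (Sum.inl k) * g b (Sum.inr k)) = 0)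
    (hh : ∑ k : Fin 2, (h (Sum.inr k) c * h (Sum.inl k) d - h (Sum.inl k) c * h (Sum.inr k) d) = 0) :
    mnr (g * h) a b c d = ∑ i : I4, mnr g a b (p1 i) (p2 i) * mnr h (p1 i) (p2 i) c d := by
  simp only [Fin.sum_univ_two] at hg hh
  simp only [mnr, Matrix.mul_apply, Fintype.sum_sum_type, Fin.sum_univ_two, p1, p2,
    Sum.elim_inl, Sum.elim_inr, Matrix.cons_val_zero, Matrix.cons_val_one, Matrix.head_cons]
  linear_combination (h (Sum.inl 0) c * h (Sum.inr 0) d - h (Sum.inr 0) c * h (Sum.inl 0) d) * hg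
    - (g a (Sum.inl 1) * g b (Sum.inr 1) - g a (Sum.inr 1) * g b (Sum.inl 1)) * hh
    + ((g a (Sum.inl 0) * g b (Sum.inr 0) - g a (Sum.inr 0) * g b (Sum.inl 0)) *
        (h (Sum.inl 0) c * h (Sum.inr 0) d - h (Sum.inr 0) c * h (Sum.inl 0) d)) * h2

theorem thm_mul (h2 : (2 : F) = 0) {g h : Matrix I4 I4 F}
    (hg : g ∈ Matrix.symplecticGroup (Fin 2) F) (hh : h ∈ Matrix.symplecticGroup (Fin 2) F) :
    thm (g * h) = thm g * thm h := by
  ext i j
  rw [thm_apply, Matrix.mul_apply, mnr_mul h2 g h _ _ _ _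
    (by rw [row_rel hg, J_p1_p2]) (by rw [col_rel hh, J_p1_p2])]
  rfl

theorem thm_one : thm (1 : Matrix I4 I4 F) = 1 := by
  ext i j
  rw [thm_apply]
  rcases i with i | i <;> rcases j with j | j <;> fin_cases i <;> fin_cases j <;>
    simp [mnr, p1, p2, Matrix.one_apply]

end Cfsg.Agent.Lib.Helper5.PSpGr
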