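import Mathlib
import Cfsg.Agent.Lib.Helper5.PSpGr1

set_option autoImplicit false

/-! The exterior-square map on symplectic transvections, characteristic two. -/

namespace Cfsg.Agent.Lib.Helper5.PSpGr

open Matrix Cfsg.Agent.Lib.Helper1.SpBasic

universe u
variable {F : Type u} [Field F]

/-- the explicit matrix of a symplectic transvection -/
def tmx (x0 x1 x2 x3 c : F) : Matrix I4 I4 F :=
  Matrix.of (Sum.elim
    ![Sum.elim ![(1) - x0*x2*c, -x0*x3*c] ![x0^2*c, x0*x1*c],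
      Sum.elim ![-x1*x2*c, (1) - x1*x3*c] ![x0*x1*c, x1^2*c]]
    ![Sum.elim ![-x2^2*c, -x2*x3*c] ![(1) + x0*x2*c, x1*x2*c],
      Sum.elim ![-x2*x3*c, -x3^2*c] ![x0*x3*c, (1) + x1*x3*c]])

/-- the explicit matrix of the symplectic form -/
def jmx : Matrix I4 I4 F :=
  Matrix.of (Sum.elim
    ![Sum.elim ![0, 0] ![-1, 0],
      Sum.elim ![0, 0] ![0, -1]]
    ![Sum.elim ![1, 0] ![0, 0],
      Sum.elim ![0, 1] ![0, 0]])

theorem J_eq_jmx : Matrix.J (Fin 2) F = jmx := by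
  ext i j
  rcases i with i | i <;> rcases j with j | j <;> fin_cases i <;> fin_cases j <;>
    simp [jmx, Matrix.J, Matrix.one_apply]

theorem J_mulVec_inl (v : I4 → F) (k : Fin 2) :
    (Matrix.J (Fin 2) F *ᵥ v) (Sum.inl k) = - v (Sum.inr k) := by
  simp [Matrix.J, Matrix.mulVec, dotProduct, Fintype.sum_sum_type, Matrix.one_apply]

theorem J_mulVec_inr (v : I4 → F) (k : Fin 2) :
    (Matrix.J (Fin 2) F *ᵥ v) (Sum.inr k) = v (Sum.inl k) := by
  simp [Matrix.J, Matrix.mulVec, dotProduct, Fintype.sum_sum_type, Matrix.one_apply]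

theorem T_coe_eq (v : I4 → F) (c : F) :
    ((T v c : Matrix.symplecticGroup (Fin 2) F) : Matrix I4 I4 F)
      = tmx (v (Sum.inl 0)) (v (Sum.inl 1)) (v (Sum.inr 0)) (v (Sum.inr 1)) c := by
  rw [T_coe]
  unfold Cfsg.sympTransvection
  ext i j
  rw [Matrix.add_apply, Matrix.smul_apply, Matrix.vecMulVec_apply, smul_eq_mul]
  rcases i with i | i <;> rcases j with j | j <;> fin_cases i <;> fin_cases j <;>
    simp [tmx, J_mulVec_inl, J_mulVec_inr, Matrix.one_apply] <;> ring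


theorem thm_tmx_row (h2 : (2 : F) = 0) (x0 x1 x2 x3 c : F) : ∀ a b : I4,
    ∑ k : Fin 2, (thm (tmx x0 x1 x2 x3 c) a (Sum.inr k) * thm (tmx x0 x1 x2 x3 c) b (Sum.inl k)
      - thm (tmx x0 x1 x2 x3 c) a (Sum.inl k) * thm (tmx x0 x1 x2 x3 c) b (Sum.inr k))
      = (jmx : Matrix I4 I4 F) a b := by
  simp only [Sum.forall, Fin.forall_fin_two]
  refine ⟨⟨⟨⟨?_, ?_⟩, ⟨?_, ?_⟩⟩, ⟨⟨?_, ?_⟩, ⟨?_, ?_⟩⟩⟩, ⟨⟨⟨?_, ?_⟩, ⟨?_, ?_⟩⟩, ⟨⟨?_, ?_⟩, ⟨?_, ?_⟩⟩⟩⟩
  · simp only [thm_apply, mnr, p1, p2, tmx, jmx, Matrix.of_apply, Sum.elim_inl, Sum.elim_inr, Matrix.cons_val_zero, Matrix.cons_val_one, Matrix.head_cons, Fin.sum_univ_two]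
    linear_combination (0) * h2
  · simp only [thm_apply, mnr, p1, p2, tmx, jmx, Matrix.of_apply, Sum.elim_inl, Sum.elim_inr, Matrix.cons_val_zero, Matrix.cons_val_one, Matrix.head_cons, Fin.sum_univ_two]
    linear_combination (-x0^2*c + x0^3*x2*c^2) * h2
  · simp only [thm_apply, mnr, p1, p2, tmx, jmx, Matrix.of_apply, Sum.elim_inl, Sum.elim_inr, Matrix.cons_val_zero, Matrix.cons_val_one, Matrix.head_cons, Fin.sum_univ_two]
    linear_combination (x0*x1*x2*x3*c^2 + x0^2*x2^2*c^2) * h2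
  · simp only [thm_apply, mnr, p1, p2, tmx, jmx, Matrix.of_apply, Sum.elim_inl, Sum.elim_inr, Matrix.cons_val_zero, Matrix.cons_val_one, Matrix.head_cons, Fin.sum_univ_two]
    linear_combination (-x0*x1^2*x2*c^2) * h2
  · simp only [thm_apply, mnr, p1, p2, tmx, jmx, Matrix.of_apply, Sum.elim_inl, Sum.elim_inr, Matrix.cons_val_zero, Matrix.cons_val_one, Matrix.head_cons, Fin.sum_univ_two]
    linear_combination (x0^2*c - x0^3*x2*c^2) * h2
  · simp only [thm_apply, mnr, p1, p2, tmx, jmx, Matrix.of_apply, Sum.elim_inl, Sum.elim_inr, Matrix.cons_val_zero, Matrix.cons_val_one, Matrix.head_cons, Fin.sum_univ_two]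
    linear_combination (0) * h2
  · simp only [thm_apply, mnr, p1, p2, tmx, jmx, Matrix.of_apply, Sum.elim_inl, Sum.elim_inr, Matrix.cons_val_zero, Matrix.cons_val_one, Matrix.head_cons, Fin.sum_univ_two]
    linear_combination (x0*x2*x3^2*c^2) * h2
  · simp only [thm_apply, mnr, p1, p2, tmx, jmx, Matrix.of_apply, Sum.elim_inl, Sum.elim_inr, Matrix.cons_val_zero, Matrix.cons_val_one, Matrix.head_cons, Fin.sum_univ_two]
    linear_combination (-x0*x1*x2*x3*c^2 + x0^2*x2^2*c^2) * h2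
  · simp only [thm_apply, mnr, p1, p2, tmx, jmx, Matrix.of_apply, Sum.elim_inl, Sum.elim_inr, Matrix.cons_val_zero, Matrix.cons_val_one, Matrix.head_cons, Fin.sum_univ_two]
    linear_combination (-x0*x1*x2*x3*c^2 - x0^2*x2^2*c^2) * h2
  · simp only [thm_apply, mnr, p1, p2, tmx, jmx, Matrix.of_apply, Sum.elim_inl, Sum.elim_inr, Matrix.cons_val_zero, Matrix.cons_val_one, Matrix.head_cons, Fin.sum_univ_two]
    linear_combination (-x0*x2*x3^2*c^2) * h2
  · simp only [thm_apply, mnr, p1, p2, tmx, jmx, Matrix.of_apply, Sum.elim_inl, Sum.elim_inr, Matrix.cons_val_zero, Matrix.cons_val_one, Matrix.head_cons, Fin.sum_univ_two]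
    linear_combination (0) * h2
  · simp only [thm_apply, mnr, p1, p2, tmx, jmx, Matrix.of_apply, Sum.elim_inl, Sum.elim_inr, Matrix.cons_val_zero, Matrix.cons_val_one, Matrix.head_cons, Fin.sum_univ_two]
    linear_combination (x2^2*c + x0*x2^3*c^2) * h2
  · simp only [thm_apply, mnr, p1, p2, tmx, jmx, Matrix.of_apply, Sum.elim_inl, Sum.elim_inr, Matrix.cons_val_zero, Matrix.cons_val_one, Matrix.head_cons, Fin.sum_univ_two]
    linear_combination (x0*x1^2*x2*c^2) * h2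
  · simp only [thm_apply, mnr, p1, p2, tmx, jmx, Matrix.of_apply, Sum.elim_inl, Sum.elim_inr, Matrix.cons_val_zero, Matrix.cons_val_one, Matrix.head_cons, Fin.sum_univ_two]
    linear_combination (x0*x1*x2*x3*c^2 - x0^2*x2^2*c^2) * h2
  · simp only [thm_apply, mnr, p1, p2, tmx, jmx, Matrix.of_apply, Sum.elim_inl, Sum.elim_inr, Matrix.cons_val_zero, Matrix.cons_val_one, Matrix.head_cons, Fin.sum_univ_two]
    linear_combination (-x2^2*c - x0*x2^3*c^2) * h2
  · simp only [thm_apply, mnr, p1, p2, tmx, jmx, Matrix.of_apply, Sum.elim_inl, Sum.elim_inr, Matrix.cons_val_zero, Matrix.cons_val_one, Matrix.head_cons, Fin.sum_univ_two]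
    linear_combination (0) * h2

theorem thm_thm_tmx (h2 : (2 : F) = 0) (x0 x1 x2 x3 c : F) : ∀ a b : I4,
    thm (thm (tmx x0 x1 x2 x3 c)) a b = (tmx x0 x1 x2 x3 c a b) ^ 2 := by
  simp only [Sum.forall, Fin.forall_fin_two]
  refine ⟨⟨⟨⟨?_, ?_⟩, ⟨?_, ?_⟩⟩, ⟨⟨?_, ?_⟩, ⟨?_, ?_⟩⟩⟩, ⟨⟨⟨?_, ?_⟩, ⟨?_, ?_⟩⟩, ⟨⟨?_, ?_⟩, ⟨?_, ?_⟩⟩⟩⟩
  · simp only [thm_apply, mnr, p1, p2, tmx, jmx, Matrix.of_apply, Sum.elim_inl, Sum.elim_inr, Matrix.cons_val_zero, Matrix.cons_val_one, Matrix.head_cons, Fin.sum_univ_two]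
    linear_combination (0) * h2
  · simp only [thm_apply, mnr, p1, p2, tmx, jmx, Matrix.of_apply, Sum.elim_inl, Sum.elim_inr, Matrix.cons_val_zero, Matrix.cons_val_one, Matrix.head_cons, Fin.sum_univ_two]
    linear_combination (-x0^2*x3^2*c^2) * h2
  · simp only [thm_apply, mnr, p1, p2, tmx, jmx, Matrix.of_apply, Sum.elim_inl, Sum.elim_inr, Matrix.cons_val_zero, Matrix.cons_val_one, Matrix.head_cons, Fin.sum_univ_two]
    linear_combination (0) * h2
  · simp only [thm_apply, mnr, p1, p2, tmx, jmx, Matrix.of_apply, Sum.elim_inl, Sum.elim_inr, Matrix.cons_val_zero, Matrix.cons_val_one, Matrix.head_cons, Fin.sum_univ_two]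
    linear_combination (0) * h2
  · simp only [thm_apply, mnr, p1, p2, tmx, jmx, Matrix.of_apply, Sum.elim_inl, Sum.elim_inr, Matrix.cons_val_zero, Matrix.cons_val_one, Matrix.head_cons, Fin.sum_univ_two]
    linear_combination (-x1^2*x2^2*c^2) * h2
  · simp only [thm_apply, mnr, p1, p2, tmx, jmx, Matrix.of_apply, Sum.elim_inl, Sum.elim_inr, Matrix.cons_val_zero, Matrix.cons_val_one, Matrix.head_cons, Fin.sum_univ_two]
    linear_combination (0) * h2
  · simp only [thm_apply, mnr, p1, p2, tmx, jmx, Matrix.of_apply, Sum.elim_inl, Sum.elim_inr, Matrix.cons_val_zero, Matrix.cons_val_one, Matrix.head_cons, Fin.sum_univ_two]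
    linear_combination (-x0^2*x1^2*c^2) * h2
  · simp only [thm_apply, mnr, p1, p2, tmx, jmx, Matrix.of_apply, Sum.elim_inl, Sum.elim_inr, Matrix.cons_val_zero, Matrix.cons_val_one, Matrix.head_cons, Fin.sum_univ_two]
    linear_combination (-x1^4*c^2) * h2
  · simp only [thm_apply, mnr, p1, p2, tmx, jmx, Matrix.of_apply, Sum.elim_inl, Sum.elim_inr, Matrix.cons_val_zero, Matrix.cons_val_one, Matrix.head_cons, Fin.sum_univ_two]
    linear_combination (0) * h2
  · simp only [thm_apply, mnr, p1, p2, tmx, jmx, Matrix.of_apply, Sum.elim_inl, Sum.elim_inr, Matrix.cons_val_zero, Matrix.cons_val_one, Matrix.head_cons, Fin.sum_univ_two]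
    linear_combination (-x2^2*x3^2*c^2) * h2
  · simp only [thm_apply, mnr, p1, p2, tmx, jmx, Matrix.of_apply, Sum.elim_inl, Sum.elim_inr, Matrix.cons_val_zero, Matrix.cons_val_one, Matrix.head_cons, Fin.sum_univ_two]
    linear_combination (0) * h2
  · simp only [thm_apply, mnr, p1, p2, tmx, jmx, Matrix.of_apply, Sum.elim_inl, Sum.elim_inr, Matrix.cons_val_zero, Matrix.cons_val_one, Matrix.head_cons, Fin.sum_univ_two]
    linear_combination (0) * h2
  · simp only [thm_apply, mnr, p1, p2, tmx, jmx, Matrix.of_apply, Sum.elim_inl, Sum.elim_inr, Matrix.cons_val_zero, Matrix.cons_val_one, Matrix.head_cons, Fin.sum_univ_two]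
    linear_combination (0) * h2
  · simp only [thm_apply, mnr, p1, p2, tmx, jmx, Matrix.of_apply, Sum.elim_inl, Sum.elim_inr, Matrix.cons_val_zero, Matrix.cons_val_one, Matrix.head_cons, Fin.sum_univ_two]
    linear_combination (-x3^4*c^2) * h2
  · simp only [thm_apply, mnr, p1, p2, tmx, jmx, Matrix.of_apply, Sum.elim_inl, Sum.elim_inr, Matrix.cons_val_zero, Matrix.cons_val_one, Matrix.head_cons, Fin.sum_univ_two]
    linear_combination (0) * h2
  · simp only [thm_apply, mnr, p1, p2, tmx, jmx, Matrix.of_apply, Sum.elim_inl, Sum.elim_inr, Matrix.cons_val_zero, Matrix.cons_val_one, Matrix.head_cons, Fin.sum_univ_two]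
    linear_combination (0) * h2

end Cfsg.Agent.Lib.Helper5.PSpGr
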