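import Mathlib
import Cfsg.Agent.Lib.Helper5.PSpGr2

set_option autoImplicit false

/-! The exceptional endomorphism of `Sp₄(F)` in characteristic two: its square is the Frobenius
map. -/

namespace Cfsg.Agent.Lib.Helper5.PSpGr

open Matrix Cfsg.Agent.Lib.Helper1.SpBasic Cfsg.Agent.Lib.Helper2.Symp

universe u

section
variable {F : Type u} [Field F]

theorem mulJT_apply (A : Matrix I4 I4 F) (a b : I4) :
    (A * Matrix.J (Fin 2) F * Aᵀ) a b
      = ∑ k : Fin 2, (A a (Sum.inr k) * A b (Sum.inl k) - A a (Sum.inl k) * A b (Sum.inr k)) := by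
  simp only [Matrix.mul_apply, Matrix.transpose_apply, Fintype.sum_sum_type, Fin.sum_univ_two,
    Matrix.J, Matrix.fromBlocks_apply₁₁, Matrix.fromBlocks_apply₁₂, Matrix.fromBlocks_apply₂₁,
    Matrix.fromBlocks_apply₂₂, Matrix.zero_apply, Matrix.neg_apply, Matrix.one_apply]
  simp
  ring

theorem thm_T_mem (h2 : (2 : F) = 0) (v : I4 → F) (c : F) :
    thm ((T v c : Matrix.symplecticGroup (Fin 2) F) : Matrix I4 I4 F)
      ∈ Matrix.symplecticGroup (Fin 2) F := by
  rw [SymplecticGroup.mem_iff, T_coe_eq]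
  ext a b
  rw [mulJT_apply, thm_tmx_row h2, J_eq_jmx]

theorem thm_thm_T (h2 : (2 : F) = 0) (v : I4 → F) (c : F) :
    thm (thm ((T v c : Matrix.symplecticGroup (Fin 2) F) : Matrix I4 I4 F))
      = ((T v c : Matrix.symplecticGroup (Fin 2) F) : Matrix I4 I4 F).map (fun z => z ^ 2) := by
  rw [T_coe_eq]
  ext a b
  rw [thm_thm_tmx h2, Matrix.map_apply]

end

section
variable {F : Type u} [Field F] [Fintype F] [CharP F 2]

theorem two_eq_zero' : (2 : F) = 0 := by
  have := CharP.cast_eq_zero F 2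
  exact_mod_cast this

theorem map_sq_eq (A : Matrix I4 I4 F) :
    A.map (fun z => z ^ 2) = A.map (frobeniusEquiv F 2) := by
  ext i j
  rw [Matrix.map_apply, Matrix.map_apply, frobeniusEquiv_def]

theorem thm_spec (A : Matrix.symplecticGroup (Fin 2) F) :
    thm (A : Matrix I4 I4 F) ∈ Matrix.symplecticGroup (Fin 2) F ∧
      thm (thm (A : Matrix I4 I4 F)) = (A : Matrix I4 I4 F).map (frobeniusEquiv F 2) := by
  have h2 : (2 : F) = 0 := two_eq_zero'
  have hA : A ∈ transvGroup 2 F := by
    rw [transvGroup_eq_top]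
    trivial
  unfold transvGroup at hA
  induction hA using Subgroup.closure_induction'' with
  | mem x hx =>
    obtain ⟨w, c, hx⟩ := hx
    have e : x = T w c := Subtype.ext hx
    rw [e]
    exact ⟨thm_T_mem h2 w c, by rw [thm_thm_T h2, map_sq_eq]⟩
  | inv_mem x hx =>
    obtain ⟨w, c, hx⟩ := hx
    have e : x = T w c := Subtype.ext hx
    rw [e, T_inv]
    exact ⟨thm_T_mem h2 w (-c), by rw [thm_thm_T h2, map_sq_eq]⟩
  | one =>
    refine ⟨?_, ?_⟩
    · rw [Submonoid.coe_one, thm_one]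
      exact one_mem _
    · rw [Submonoid.coe_one, thm_one, thm_one, Matrix.map_one _ (map_zero _) (map_one _)]
  | mul x y _ _ hx hy =>
    obtain ⟨hx1, hx2⟩ := hx
    obtain ⟨hy1, hy2⟩ := hy
    refine ⟨?_, ?_⟩
    · rw [Submonoid.coe_mul, thm_mul h2 x.2 y.2]
      exact mul_mem hx1 hy1
    · rw [Submonoid.coe_mul, thm_mul h2 x.2 y.2, thm_mul h2 hx1 hy1, hx2, hy2, Matrix.map_mul]

/-- the exceptional endomorphism of `Sp₄(F)`, characteristic two -/
noncomputable def thHom : ↥(Matrix.symplecticGroup (Fin 2) F) →* ↥(Matrix.symplecticGroup (Fin 2) F) where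
  toFun A := ⟨thm A.1, (thm_spec A).1⟩
  map_one' := by
    apply Subtype.ext
    show thm ((1 : ↥(Matrix.symplecticGroup (Fin 2) F)) : Matrix I4 I4 F) = 1
    rw [Submonoid.coe_one, thm_one]
  map_mul' A B := by
    apply Subtype.ext
    show thm ((A * B : ↥(Matrix.symplecticGroup (Fin 2) F)) : Matrix I4 I4 F) = thm A.1 * thm B.1
    rw [Submonoid.coe_mul, thm_mul two_eq_zero' A.2 B.2]

theorem thHom_coe (A : ↥(Matrix.symplecticGroup (Fin 2) F)) :
    ((thHom A : ↥(Matrix.symplecticGroup (Fin 2) F)) : Matrix I4 I4 F) = thm A.1 := rfl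

theorem thHom_thHom (A : ↥(Matrix.symplecticGroup (Fin 2) F)) :
    ((thHom (thHom A) : ↥(Matrix.symplecticGroup (Fin 2) F)) : Matrix I4 I4 F)
      = A.1.map (frobeniusEquiv F 2) := by
  rw [thHom_coe, thHom_coe, (thm_spec A).2]

theorem thHom_bijective : Function.Bijective (thHom (F := F)) := by
  have hinj : Function.Injective (thHom (F := F)) := by
    intro A B hAB
    have h1 := congrArg (fun X => ((thHom X : ↥(Matrix.symplecticGroup (Fin 2) F)) :
      Matrix I4 I4 F)) hAB
    simp only [thHom_thHom] at h1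
    apply Subtype.ext
    ext i j
    have h2 := congrFun (congrFun h1 i) j
    rw [Matrix.map_apply, Matrix.map_apply] at h2
    exact (frobeniusEquiv F 2).injective h2
  exact ⟨hinj, Finite.surjective_of_injective hinj⟩

/-- the exceptional automorphism of `Sp₄(F)`, characteristic two -/
noncomputable def thAut : MulAut ↥(Matrix.symplecticGroup (Fin 2) F) :=
  MulEquiv.ofBijective thHom thHom_bijective

theorem thAut_coe (A : ↥(Matrix.symplecticGroup (Fin 2) F)) :
    ((thAut A : ↥(Matrix.symplecticGroup (Fin 2) F)) : Matrix I4 I4 F) = thm A.1 := rfl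

end

end Cfsg.Agent.Lib.Helper5.PSpGr
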