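import Mathlib
import Cfsg.Agent.Lib.Helper5.PSpGr3
import Cfsg.Agent.Lib.Helper5.PSpAut10

set_option autoImplicit false

/-! The exceptional automorphism of `PSp₄(F)` in characteristic two. -/

namespace Cfsg.Agent.Lib.Helper5.PSpGr

open Matrix Module Cfsg.Agent.Lib.Helper5.PGO Cfsg.Agent.Lib.Helper2.Symp
  Cfsg.Agent.Lib.Helper2.IsomDecomp Cfsg.Agent.Lib.Helper5.SpAut
  Cfsg.Agent.Lib.Helper1.SpBasic Cfsg.Agent.Lib.Helper5.PSpAut

universe u

section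
variable {F : Type u} [Field F] [Fintype F] [CharP F 2]

theorem mk_injective_two {m : ℕ} (hm : 1 ≤ m) :
    Function.Injective (QuotientGroup.mk :
      ↥(Matrix.symplecticGroup (Fin m) F) → Cfsg.PSp m F) := by
  intro A B hAB
  rw [← rhoSp_e, ← rhoSp_e] at hAB
  have h1 := (sqMap_rhoSp (m := m) (F := F)).injective_two sData_symp (exists_ne_vec hm) hAB
  exact eSp.injective h1

/-- the exceptional automorphism of `PSp₄(F)` -/
noncomputable def thG : MulAut (Cfsg.PSp 2 F) :=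
  quotChar (Subgroup.center ↥(Matrix.symplecticGroup (Fin 2) F)) thAut

theorem thG_mk (A : ↥(Matrix.symplecticGroup (Fin 2) F)) :
    thG (QuotientGroup.mk A : Cfsg.PSp 2 F) = QuotientGroup.mk (thAut A) := rfl

theorem thG_sq : (thG * thG : MulAut (Cfsg.PSp 2 F)) = fa (frobeniusEquiv F 2) := by
  apply MulEquiv.ext
  intro x
  obtain ⟨A, rfl⟩ := QuotientGroup.mk_surjective x
  rw [MulAut.mul_apply, thG_mk, thG_mk, fa_mk]
  congr 1
  apply Subtype.ext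
  rw [spField_coe]
  exact thHom_thHom A

theorem thm_e1_00 (c : F) : thm (tmx 1 0 0 0 c) (Sum.inl 0) (Sum.inr 0) = 0 := by
  simp [thm_apply, mnr, p1, p2, tmx]

theorem thm_e1_11 (c : F) : thm (tmx 1 0 0 0 c) (Sum.inl 1) (Sum.inr 1) = 0 := by
  simp [thm_apply, mnr, p1, p2, tmx]

theorem thm_e1_10 (c : F) : thm (tmx 1 0 0 0 c) (Sum.inl 1) (Sum.inr 0) = c := by
  simp [thm_apply, mnr, p1, p2, tmx]

theorem thG_not_mem : (thG : MulAut (Cfsg.PSp 2 F)) ∉ GamSub 2 F := by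
  rintro ⟨g, τ, h⟩
  have hP : Perm (sData_symp (m := 2) (F := F)) rhoSp thG := by
    rw [h]
    exact perm_cjC_fa g τ
  have hu0 : (Pi.single (Sum.inl 0) 1 : Fin 2 ⊕ Fin 2 → F) ≠ 0 := by
    intro h0
    have := congrFun h0 (Sum.inl 0)
    simp at this
  obtain ⟨v, -, hv⟩ := hP _ hu0
  have h1 : thG (QuotientGroup.mk (T (Pi.single (Sum.inl 0) 1 : Fin 2 ⊕ Fin 2 → F) 1))
      ∈ SpAut.Xb (altF_symp (m := 2) (F := F)) rhoSp v := by
    rw [← hv]
    exact ⟨_, (mem_Xb_iff _ _).2 ⟨1, rfl⟩, rfl⟩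
  obtain ⟨c', hc'⟩ := (mem_Xb_iff _ _).1 h1
  rw [thG_mk] at hc'
  have h2 := mk_injective_two (F := F) (m := 2) (by omega) hc'
  have h3 := congrArg (fun X : ↥(Matrix.symplecticGroup (Fin 2) F) => (X : Matrix I4 I4 F)) h2
  simp only [thAut_coe, T_coe_eq] at h3
  have e0 : (Pi.single (Sum.inl 0) 1 : Fin 2 ⊕ Fin 2 → F) (Sum.inl 0) = 1 := by simp
  have e1 : (Pi.single (Sum.inl 0) 1 : Fin 2 ⊕ Fin 2 → F) (Sum.inl 1) = 0 := by simp
  have e2 : (Pi.single (Sum.inl 0) 1 : Fin 2 ⊕ Fin 2 → F) (Sum.inr 0) = 0 := by simp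
  have e3 : (Pi.single (Sum.inl 0) 1 : Fin 2 ⊕ Fin 2 → F) (Sum.inr 1) = 0 := by simp
  rw [e0, e1, e2, e3] at h3
  have a00 := congrFun (congrFun h3 (Sum.inl 0)) (Sum.inr 0)
  have a11 := congrFun (congrFun h3 (Sum.inl 1)) (Sum.inr 1)
  have a10 := congrFun (congrFun h3 (Sum.inl 1)) (Sum.inr 0)
  rw [thm_e1_00] at a00
  rw [thm_e1_11] at a11
  rw [thm_e1_10] at a10
  simp only [tmx, Matrix.of_apply, Sum.elim_inl, Sum.elim_inr, Matrix.cons_val_zero,
    Matrix.cons_val_one, Matrix.head_cons] at a00 a11 a10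
  have : (1 : F) = 0 := by
    have h4 : (1 : F) * 1 = (v (Sum.inl 0) ^ 2 * c') * (v (Sum.inl 1) ^ 2 * c') := by
      rw [a10]
      ring
    rw [← a00, ← a11] at h4
    simpa using h4
  exact one_ne_zero this

end

end Cfsg.Agent.Lib.Helper5.PSpGr
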