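import Mathlib

set_option autoImplicit false

namespace Cfsg.Agent.Lib.Helper5


open Polynomial

universe u v

section polycount
variable {F : Type u} [Field F]

theorem prodpow_monic {ι : Type v} [Fintype ι] (π : ι → F[X]) (hmon : ∀ j, (π j).Monic)
    (a : ι → ℕ) : (∏ j, π j ^ a j).Monic :=
  monic_prod_of_monic _ _ (fun j _ => (hmon j).pow _)

theorem prodpow_natDegree {ι : Type v} [Fintype ι] (π : ι → F[X]) (hmon : ∀ j, (π j).Monic)
    (a : ι → ℕ) : (∏ j, π j ^ a j).natDegree = ∑ j, a j * (π j).natDegree := by
  rw [natDegree_prod_of_monic _ _ (fun j _ => (hmon j).pow _)]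
  apply Finset.sum_congr rfl
  intro j _
  exact (hmon j).natDegree_pow _

theorem prodpow_dvd {ι : Type v} [Fintype ι] (π : ι → F[X]) (a : ι → ℕ) :
    (∏ j, π j ^ a j) ∣ (∏ j, π j) ^ (∑ j, a j) := by
  rw [← Finset.prod_pow]
  apply Finset.prod_dvd_prod_of_dvd
  intro j _
  apply pow_dvd_pow
  exact Finset.single_le_sum (f := a) (fun _ _ => Nat.zero_le _) (Finset.mem_univ j)

theorem prodpow_le_of_dvd {ι : Type v} [Fintype ι] [DecidableEq ι] (π : ι → F[X])
    (hirr : ∀ j, Irreducible (π j)) (hmon : ∀ j, (π j).Monic) (hinj : Function.Injective π)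
    (a b : ι → ℕ) (h : (∏ j, π j ^ a j) ∣ ∏ j, π j ^ b j) (j : ι) : a j ≤ b j := by
  have h1 : π j ^ a j ∣ ∏ k, π k ^ b k :=
    dvd_trans (Finset.dvd_prod_of_mem (fun k => π k ^ a k) (Finset.mem_univ j)) h
  rw [← Finset.mul_prod_erase Finset.univ (fun k => π k ^ b k) (Finset.mem_univ j)] at h1
  have hcop : IsCoprime (π j ^ a j) (∏ k ∈ Finset.univ.erase j, π k ^ b k) := by
    apply IsCoprime.prod_right
    intro k hk
    apply IsCoprime.pow
    rw [(hirr j).coprime_iff_not_dvd]
    intro hdvd
    have h2 : Associated (π j) (π k) := (hirr j).associated_of_dvd (hirr k) hdvd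
    have h3 : π j = π k := eq_of_monic_of_associated (hmon j) (hmon k) h2
    exact (Finset.ne_of_mem_erase hk) (hinj h3).symm
  have h4 : π j ^ a j ∣ π j ^ b j := hcop.dvd_of_dvd_mul_right h1
  exact (pow_dvd_pow_iff (hirr j).ne_zero (hirr j).not_isUnit).1 h4

/-- Monic polynomials of degree `n` all of whose irreducible factors are among the `π j`
are counted by exponent vectors. -/
theorem card_monic_dvd_pow {ι : Type v} [Fintype ι] [DecidableEq ι] (π : ι → F[X])
    (hirr : ∀ j, Irreducible (π j)) (hmon : ∀ j, (π j).Monic) (hinj : Function.Injective π)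
    (n : ℕ) :
    Nat.card {f : F[X] // f.Monic ∧ f.natDegree = n ∧ ∃ m, f ∣ (∏ j, π j) ^ m} =
      Nat.card {a : ι → ℕ // ∑ j, a j * (π j).natDegree = n} := by
  classical
  symm
  apply Nat.card_eq_of_bijective
    (fun a : {a : ι → ℕ // ∑ j, a j * (π j).natDegree = n} =>
      (⟨∏ j, π j ^ a.1 j, prodpow_monic π hmon a.1,
        (prodpow_natDegree π hmon a.1).trans a.2, _, prodpow_dvd π a.1⟩ :
        {f : F[X] // f.Monic ∧ f.natDegree = n ∧ ∃ m, f ∣ (∏ j, π j) ^ m}))
  constructor
  · rintro ⟨a, ha⟩ ⟨b, hb⟩ hab
    have h1 : (∏ j, π j ^ a j) = ∏ j, π j ^ b j := congrArg Subtype.val hab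
    apply Subtype.ext
    funext j
    exact le_antisymm (prodpow_le_of_dvd π hirr hmon hinj a b (dvd_of_eq h1) j)
      (prodpow_le_of_dvd π hirr hmon hinj b a (dvd_of_eq h1.symm) j)
  · rintro ⟨f, hf, hdeg, m, hm⟩
    have hf0 : f ≠ 0 := hf.ne_zero
    set M := UniqueFactorizationMonoid.normalizedFactors f with hM
    have hMmem : ∀ P ∈ M, ∃ j, P = π j := by
      intro P hP
      have hPirr : Irreducible P := UniqueFactorizationMonoid.irreducible_of_normalized_factor P hP
      have hPmon : P.Monic := by
        have h1 : normalize P = P := UniqueFactorizationMonoid.normalize_normalized_factor P hP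
        rw [← h1]
        exact Polynomial.monic_normalize hPirr.ne_zero
      have hPdvd : P ∣ (∏ j, π j) ^ m :=
        dvd_trans (UniqueFactorizationMonoid.dvd_of_mem_normalizedFactors hP) hm
      have hPdvd' : P ∣ ∏ j, π j := hPirr.prime.dvd_of_dvd_pow hPdvd
      obtain ⟨j, _, hj⟩ := hPirr.prime.exists_mem_finset_dvd hPdvd'
      exact ⟨j, eq_of_monic_of_associated hPmon (hmon j) (hPirr.associated_of_dvd (hirr j) hj)⟩
    have hMprod : M.prod = f := by
      apply Polynomial.eq_of_monic_of_associated _ hf
        (UniqueFactorizationMonoid.prod_normalizedFactors hf0)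
      have := Polynomial.monic_multiset_prod_of_monic M id (fun P hP => by
        obtain ⟨j, rfl⟩ := hMmem P hP
        exact hmon j)
      rwa [Multiset.map_id] at this
    have hsub : M.toFinset ⊆ Finset.univ.image π := by
      intro P hP
      obtain ⟨j, rfl⟩ := hMmem P (Multiset.mem_toFinset.1 hP)
      exact Finset.mem_image_of_mem _ (Finset.mem_univ j)
    have hprod : ∏ j, π j ^ M.count (π j) = f := by
      rw [← hMprod, Finset.prod_multiset_count_of_subset M _ hsub,
        Finset.prod_image (fun x _ y _ hxy => hinj hxy)]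
    have hsum : ∑ j, M.count (π j) * (π j).natDegree = n := by
      rw [← prodpow_natDegree π hmon, hprod, hdeg]
    exact ⟨⟨fun j => M.count (π j), hsum⟩, Subtype.ext hprod⟩

end polycount


section expvec



theorem card_exponent_vectors {T : Type v} [Fintype T] [DecidableEq T] (i n : ℕ) (hi : 1 ≤ i)
    (d : Option T → ℕ) (hd0 : d none = 1) (hd : ∀ P, d (some P) = i) :
    Nat.card {a : Option T → ℕ // ∑ j, a j * d j = n} =
      Nat.choose (n / i + Fintype.card T) (Fintype.card T) := by
  classical
  have hsum : ∀ a : Option T → ℕ, ∑ j, a j * d j = a none + i * ∑ P, a (some P) := by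
    intro a
    rw [Fintype.sum_option, hd0, mul_one, Finset.mul_sum]
    congr 1
    apply Finset.sum_congr rfl
    intro P _
    rw [hd P, mul_comm]
  have hsum' : ∀ b : Option T → ℕ, ∑ j, b j = b none + ∑ P, b (some P) := by
    intro b
    rw [Fintype.sum_option]
  have e : {a : Option T → ℕ // ∑ j, a j * d j = n} ≃ {b : Option T → ℕ // ∑ j, b j = n / i} :=
    { toFun := fun a => ⟨fun j => j.elim (n / i - ∑ P, a.1 (some P)) (fun P => a.1 (some P)), by
        have h1 := a.2
        rw [hsum] at h1
        rw [hsum']
        simp only [Option.elim_none, Option.elim_some]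
        have h2 : (∑ P, a.1 (some P)) ≤ n / i := by
          rw [Nat.le_div_iff_mul_le hi]
          rw [mul_comm]
          omega
        omega⟩
      invFun := fun b => ⟨fun j => j.elim (n - i * ∑ P, b.1 (some P)) (fun P => b.1 (some P)), by
        have h1 := b.2
        rw [hsum'] at h1
        rw [hsum]
        simp only [Option.elim_none, Option.elim_some]
        have h2 : i * (n / i) ≤ n := Nat.mul_div_le n i
        have h3 : i * ∑ P, b.1 (some P) ≤ i * (n / i) := Nat.mul_le_mul_left i (by omega)
        omega⟩
      left_inv := by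
        intro a
        apply Subtype.ext
        funext j
        have h1 := a.2
        rw [hsum] at h1
        cases j with
        | none =>
          simp only [Option.elim_none, Option.elim_some]
          omega
        | some P => rfl
      right_inv := by
        intro b
        apply Subtype.ext
        funext j
        have h1 := b.2
        rw [hsum'] at h1
        cases j with
        | none =>
          simp only [Option.elim_none, Option.elim_some]
          omega
        | some P => rfl }
  rw [Nat.card_congr e, Nat.card_congr (Sym.equivNatSumOfFintype (Option T) (n / i)).symm,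
    Nat.card_eq_fintype_card, Sym.card_sym_eq_choose, Fintype.card_option]
  have h1 : Fintype.card T + 1 + n / i - 1 = n / i + Fintype.card T := by
    generalize n / i = N
    omega
  rw [h1, Nat.choose_symm_add]


end expvec

section cyclo




theorem exists_cyclotomic_factors {F : Type u} [Field F] [Fintype F] {p : ℕ} [Fact p.Prime]
    [CharP F p] (r : ℕ) (hr : r.Prime) (hrp : r ≠ p) :
    ∃ T : Finset F[X],
      (∀ P ∈ T, Irreducible P ∧ P.Monic ∧ P.natDegree = orderOf ((Fintype.card F : ℕ) : ZMod r)) ∧
      T.card * orderOf ((Fintype.card F : ℕ) : ZMod r) = r - 1 ∧ (X - 1 : F[X]) ∉ T ∧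
      (∏ P ∈ T, P) * (X - 1) = X ^ r - 1 := by
  classical
  have hp : p.Prime := Fact.out
  have : Fact r.Prime := ⟨hr⟩
  obtain ⟨f, -, hK⟩ := FiniteField.card F p
  have hn : p.Coprime r := (Nat.coprime_primes hp hr).2 hrp.symm
  have hrF : (r : F) ≠ 0 := by
    intro h
    have h1 : p ∣ r := (CharP.cast_eq_zero_iff F p r).1 h
    exact hrp ((Nat.prime_dvd_prime_iff_eq hp hr).1 h1).symm
  have : NeZero (r : F) := ⟨hrF⟩
  have hsep : (X ^ r - 1 : F[X]).Separable := by
    have := Polynomial.separable_X_pow_sub_C (1 : F) hrF one_ne_zero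
    rwa [map_one] at this
  have hsq : Squarefree (X ^ r - 1 : F[X]) := hsep.squarefree
  have hfact : cyclotomic r F * (X - 1) = X ^ r - 1 := cyclotomic_prime_mul_X_sub_one F r
  have hΦ0 : cyclotomic r F ≠ 0 := cyclotomic_ne_zero r F
  have hsqΦ : Squarefree (cyclotomic r F) := hsq.squarefree_of_dvd ⟨_, hfact.symm⟩
  have hnodup : (UniqueFactorizationMonoid.normalizedFactors (cyclotomic r F)).Nodup :=
    (UniqueFactorizationMonoid.squarefree_iff_nodup_normalizedFactors hΦ0).1 hsqΦ
  have hord : orderOf (ZMod.unitOfCoprime (p ^ (f : ℕ)) (hn.pow_left f)) =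
      orderOf ((Fintype.card F : ℕ) : ZMod r) := by
    rw [← orderOf_units, ZMod.coe_unitOfCoprime, hK]
  refine ⟨(UniqueFactorizationMonoid.normalizedFactors (cyclotomic r F)).toFinset, ?_, ?_, ?_, ?_⟩
  · intro P hP
    rw [Multiset.mem_toFinset] at hP
    have hPirr : Irreducible P := UniqueFactorizationMonoid.irreducible_of_normalized_factor P hP
    refine ⟨hPirr, ?_, ?_⟩
    · have h1 : normalize P = P := UniqueFactorizationMonoid.normalize_normalized_factor P hP
      rw [← h1]
      exact Polynomial.monic_normalize hPirr.ne_zero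
    · rw [← hord]
      exact natDegree_of_mem_normalizedFactors_cyclotomic hK hn hP
  · rw [normalizedFactors_cyclotomic_card hK hn, hord, Nat.totient_prime hr]
    apply Nat.div_mul_cancel
    have h1 : orderOf (ZMod.unitOfCoprime (p ^ (f : ℕ)) (hn.pow_left f)) ∣
        Fintype.card (ZMod r)ˣ := orderOf_dvd_card
    rw [ZMod.card_units_eq_totient, Nat.totient_prime hr, hord] at h1
    exact h1
  · intro hmem
    rw [Multiset.mem_toFinset] at hmem
    have h1 : (X - 1 : F[X]) ∣ cyclotomic r F :=
      UniqueFactorizationMonoid.dvd_of_mem_normalizedFactors hmem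
    have h2 : (X - 1 : F[X]) * (X - 1) ∣ X ^ r - 1 := by
      rw [← hfact]
      exact mul_dvd_mul_right h1 _
    have h3 := hsq _ h2
    have h4 : (X - 1 : F[X]) = X - C 1 := by rw [map_one]
    rw [h4] at h3
    exact Polynomial.not_isUnit_X_sub_C 1 h3
  · rw [← hfact]
    congr 1
    have h1 : (∏ P ∈ (UniqueFactorizationMonoid.normalizedFactors (cyclotomic r F)).toFinset, P) =
        (UniqueFactorizationMonoid.normalizedFactors (cyclotomic r F)).prod := by
      rw [Finset.prod_eq_multiset_prod, Multiset.toFinset_val, Multiset.dedup_eq_self.2 hnodup,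
        Multiset.map_id']
    rw [h1]
    apply Polynomial.eq_of_monic_of_associated _ (cyclotomic.monic r F)
      (UniqueFactorizationMonoid.prod_normalizedFactors hΦ0)
    have := Polynomial.monic_multiset_prod_of_monic
      (UniqueFactorizationMonoid.normalizedFactors (cyclotomic r F)) id (fun P hP => by
        have hPirr : Irreducible P := UniqueFactorizationMonoid.irreducible_of_normalized_factor P hP
        have h1 : normalize P = P := UniqueFactorizationMonoid.normalize_normalized_factor P hP
        rw [id, ← h1]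
        exact Polynomial.monic_normalize hPirr.ne_zero)
    rwa [Multiset.map_id] at this


end cyclo

end Cfsg.Agent.Lib.Helper5
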