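import Mathlib

set_option autoImplicit false

namespace Cfsg.Agent.Lib.Helper5.ProjHyp

open Projectivization Module

variable {F : Type*} [Field F] {V : Type*} [AddCommGroup V] [Module F V]

/-- The points of the projective space lying in a subspace. -/
def pts (W : Submodule F V) : Set (Projectivization F V) := {x | x.submodule ≤ W}

theorem mem_pts (W : Submodule F V) (x : Projectivization F V) : x ∈ pts W ↔ x.submodule ≤ W := Iff.rfl

theorem mk_mem_pts (W : Submodule F V) (v : V) (hv : v ≠ 0) :
    Projectivization.mk F v hv ∈ pts W ↔ v ∈ W := by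
  rw [mem_pts, Projectivization.submodule_mk, Submodule.span_singleton_le_iff_mem]

theorem mem_pts_iff_rep (W : Submodule F V) (x : Projectivization F V) : x ∈ pts W ↔ x.rep ∈ W := by
  conv_lhs => rw [← Projectivization.mk_rep x]
  exact mk_mem_pts W _ _

theorem pts_inf (W₁ W₂ : Submodule F V) : pts (W₁ ⊓ W₂) = pts W₁ ∩ pts W₂ := by
  ext x
  simp [mem_pts]

theorem pts_eq_range (W : Submodule F V) :
    pts W = Set.range (Projectivization.map W.subtype W.injective_subtype) := by
  ext x
  constructor
  · intro hx
    rw [mem_pts_iff_rep] at hx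
    have h0 : (⟨x.rep, hx⟩ : W) ≠ 0 := by
      intro h
      exact x.rep_nonzero (congrArg Subtype.val h)
    refine ⟨Projectivization.mk F (⟨x.rep, hx⟩ : W) h0, ?_⟩
    rw [Projectivization.map_mk]
    simp [Projectivization.mk_rep]
  · rintro ⟨y, rfl⟩
    induction y using Projectivization.ind with
    | h w hw =>
      rw [Projectivization.map_mk, mk_mem_pts]
      exact w.2

theorem card_pts (W : Submodule F V) :
    Nat.card (pts W) * (Nat.card F - 1) = Nat.card W - 1 := by
  rw [pts_eq_range, Nat.card_range_of_injective
    (Projectivization.map_injective (σ := RingHom.id F) (τ := RingHom.id F) W.subtype W.injective_subtype)]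
  exact (Projectivization.card (k := F) (V := W)).symm

theorem card_pts_finrank [Finite F] [FiniteDimensional F V] (W : Submodule F V) :
    Nat.card (pts W) * (Nat.card F - 1) = Nat.card F ^ finrank F W - 1 := by
  rw [card_pts]
  haveI : Fintype F := Fintype.ofFinite F
  haveI : Finite V := Module.finite_of_finite F
  haveI : Fintype W := Fintype.ofFinite W
  rw [Nat.card_eq_fintype_card, Nat.card_eq_fintype_card, Module.card_eq_pow_finrank (K := F) (V := W)]

/-- Preimage of a subspace under an injective semilinear self-map: same dimension, and its points are the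
preimage of the points. -/
theorem exists_comap [Finite F] [FiniteDimensional F V] {σ : F →+* F}
    (f : V →ₛₗ[σ] V) (hf : Function.Injective f) (W : Submodule F V) :
    ∃ W' : Submodule F V, finrank F W' = finrank F W ∧
      ∀ x : Projectivization F V, x ∈ pts W' ↔ Projectivization.map f hf x ∈ pts W := by
  haveI : Finite V := Module.finite_of_finite F
  refine ⟨W.comap f, ?_, ?_⟩
  · have hbij : Function.Bijective f := Finite.injective_iff_bijective.mp hf
    have hcard : Nat.card (W.comap f) = Nat.card W := by
      refine Nat.card_congr (Equiv.ofBijective (fun v => ⟨f v.1, v.2⟩) ⟨?_, ?_⟩)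
      · intro v w h
        exact Subtype.ext (hf (congrArg Subtype.val h))
      · intro w
        obtain ⟨v, hv⟩ := hbij.2 w.1
        exact ⟨⟨v, by rw [Submodule.mem_comap, hv]; exact w.2⟩, Subtype.ext hv⟩
    haveI : Fintype F := Fintype.ofFinite F
    haveI : Fintype W := Fintype.ofFinite W
    haveI : Fintype (W.comap f) := Fintype.ofFinite _
    rw [Nat.card_eq_fintype_card, Nat.card_eq_fintype_card,
      Module.card_eq_pow_finrank (K := F) (V := W),
      Module.card_eq_pow_finrank (K := F) (V := W.comap f)] at hcard
    exact Nat.pow_right_injective Fintype.one_lt_card hcard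
  · intro x
    induction x using Projectivization.ind with
    | h v hv =>
      rw [Projectivization.map_mk, mk_mem_pts, mk_mem_pts, Submodule.mem_comap]

theorem exists_hyperplane_not_mem [FiniteDimensional F V] (x : Projectivization F V) :
    ∃ W : Submodule F V, finrank F W + 1 = finrank F V ∧ x ∉ pts W := by
  obtain ⟨φ, hφ⟩ := Module.Projective.exists_dual_ne_zero F x.rep_nonzero
  have hφ0 : φ ≠ 0 := by
    rintro rfl
    exact hφ rfl
  refine ⟨LinearMap.ker φ, Module.Dual.finrank_ker_add_one_of_ne_zero hφ0, ?_⟩
  rw [mem_pts_iff_rep, LinearMap.mem_ker]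
  exact hφ

theorem finrank_inf_of_ne [FiniteDimensional F V] (W₁ W₂ : Submodule F V)
    (h1 : finrank F W₁ + 1 = finrank F V) (h2 : finrank F W₂ + 1 = finrank F V) (hne : W₁ ≠ W₂) :
    finrank F ↥(W₁ ⊓ W₂) + 2 = finrank F V := by
  have hsum := Submodule.finrank_sup_add_finrank_inf_eq W₁ W₂
  have hle : finrank F ↥(W₁ ⊔ W₂) ≤ finrank F V := Submodule.finrank_le _
  have hlt : finrank F W₁ < finrank F ↥(W₁ ⊔ W₂) := by
    by_contra hcon
    have hle1 : finrank F ↥(W₁ ⊔ W₂) ≤ finrank F W₁ := not_lt.mp hcon
    have hge1 : finrank F W₁ ≤ finrank F ↥(W₁ ⊔ W₂) := Submodule.finrank_mono le_sup_left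
    have heq : W₁ = W₁ ⊔ W₂ :=
      Submodule.eq_of_le_of_finrank_eq le_sup_left (le_antisymm hge1 hle1)
    have h21 : W₂ ≤ W₁ := by
      rw [heq]
      exact le_sup_right
    exact hne (Submodule.eq_of_le_of_finrank_eq h21 (by omega)).symm
  omega

end Cfsg.Agent.Lib.Helper5.ProjHyp
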