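import Mathlib
import Cfsg.Agent.S0278
import Cfsg.Agent.Lib.Helper1.SpCard
import Cfsg.Agent.Lib.Helper5.UStar
import Cfsg.Agent.Lib.Helper5.Wall3
import Cfsg.Agent.S0277
import Cfsg.Agent.Lib.Helper5.PrimeOrderGL

set_option autoImplicit false

namespace Cfsg.Agent.Lib.Helper5.QExt

open Polynomial QuadraticAlgebra

variable {F : Type*} [Field F] [Fintype F] {q : ℕ}

/-- no primitive cube roots of unity when `q ≡ 2 mod 3` -/
theorem no_root (hF : Fintype.card F = q) (hq : q % 3 = 2) :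
    ∀ r : F, r ^ 2 ≠ (-1 : F) + (-1) * r := by
  intro r hr
  have h1 : r ^ 2 + r + 1 = 0 := by rw [hr]; ring
  have h3 : r ^ 3 = 1 := by
    have : r ^ 3 - 1 = (r - 1) * (r ^ 2 + r + 1) := by ring
    rw [h1, mul_zero] at this
    exact sub_eq_zero.1 this
  have hr0 : r ≠ 0 := by
    intro h
    rw [h] at h3
    norm_num at h3
  by_cases hr1 : r = 1
  · rw [hr1] at h1
    have h30 : (3 : F) = 0 := by
      have : (1 : F) ^ 2 + 1 + 1 = 3 := by norm_num
      rw [← this, h1]
    obtain ⟨p, hp⟩ := CharP.exists F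
    obtain ⟨n, hpp, hn⟩ := FiniteField.card F p
    have h4 : p ∣ 3 := by
      have := (CharP.cast_eq_zero_iff F p 3).1 (by exact_mod_cast h30)
      exact this
    have h5 : p = 3 := (Nat.prime_dvd_prime_iff_eq hpp Nat.prime_three).1 h4
    have h6 : 3 ∣ q := by
      rw [← hF, hn, h5]
      exact dvd_pow_self 3 n.ne_zero
    omega
  · have ho : orderOf r = 3 := orderOf_eq_prime h3 hr1
    have h4 : r ^ (q - 1) = 1 := by
      rw [← hF]
      exact FiniteField.pow_card_sub_one_eq_one r hr0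
    have h5 : 3 ∣ q - 1 := by
      rw [← ho]
      exact orderOf_dvd_of_pow_eq_one h4
    have hq1 : 1 ≤ q := by
      rw [← hF]; exact Fintype.card_pos
    omega

/-- the quadratic extension `F[ω]`, `ω² + ω + 1 = 0` -/
abbrev KK (F : Type*) [Field F] := QuadraticAlgebra F (-1 : F) (-1 : F)

noncomputable instance : Fintype (KK F) := Fintype.ofEquiv (F × F) (equivProd (-1 : F) (-1 : F)).symm

theorem card_KK (hF : Fintype.card F = q) : Fintype.card (KK F) = q ^ 2 := by
  rw [Fintype.card_congr (equivProd (-1 : F) (-1 : F)), Fintype.card_prod, hF, sq]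

section
variable [Hab : Fact (∀ r : F, r ^ 2 ≠ (-1 : F) + (-1) * r)]

theorem omega_sq : (ω : KK F) * ω = -1 - ω := by
  ext <;> simp [omega_mul_omega_eq_mk]

theorem C_pow_q (hF : Fintype.card F = q) (a : F) :
    (algebraMap F (KK F) a) ^ q = algebraMap F (KK F) a := by
  rw [← map_pow, ← hF, FiniteField.pow_card]

theorem eq_add_mul_omega (z : KK F) :
    z = algebraMap F (KK F) z.re + algebraMap F (KK F) z.im * ω := by
  ext <;> simp

theorem omega_pow_q (hF : Fintype.card F = q) : (ω : KK F) ^ q = star (ω : KK F) := by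
  classical
  have hK := card_KK (F := F) hF
  -- `ω ^ q` is a root of `X² + X + 1`
  set y := (ω : KK F) ^ q with hy
  have hroot : y * y + y + 1 = 0 := by
    have h1 : Cfsg.Agent.S0278.powQ hK ((ω : KK F) * ω + ω + 1) = 0 := by
      rw [omega_sq]
      have : (-1 - ω + ω + 1 : KK F) = 0 := by ring
      rw [this, map_zero]
    rw [map_add, map_add, map_mul, map_one] at h1
    exact h1
  have hfac : (y - ω) * (y - star (ω : KK F)) = 0 := by
    have hs : star (ω : KK F) = -1 - ω := by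
      ext <;> simp
    rw [hs]
    have : (y - ω) * (y - (-1 - ω)) = y * y + y + 1 - ((ω : KK F) * ω - (-1 - ω)) := by ring
    rw [this, hroot, omega_sq]
    ring
  rcases mul_eq_zero.1 hfac with h | h
  · exfalso
    have hyω : y = ω := sub_eq_zero.1 h
    -- then every element is fixed by the `q`-power map
    have hall : ∀ z : KK F, z ^ q = z := by
      intro z
      have h1 : Cfsg.Agent.S0278.powQ hK z = z := by
        conv_lhs => rw [eq_add_mul_omega z]
        rw [map_add, map_mul]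
        show (algebraMap F (KK F) z.re) ^ q + (algebraMap F (KK F) z.im) ^ q * (ω : KK F) ^ q = z
        rw [C_pow_q hF, C_pow_q hF, ← hy, hyω]
        exact (eq_add_mul_omega z).symm
      exact h1
    have hq1 : 1 < q := by
      have : 1 < Fintype.card F := Fintype.one_lt_card
      rwa [hF] at this
    have hne : (X ^ q - X : (KK F)[X]) ≠ 0 := FiniteField.X_pow_card_sub_X_ne_zero (KK F) hq1
    have hdeg : (X ^ q - X : (KK F)[X]).natDegree = q :=
      FiniteField.X_pow_card_sub_X_natDegree_eq (KK F) hq1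
    have hsub : (Finset.univ : Finset (KK F)) ⊆ (X ^ q - X : (KK F)[X]).roots.toFinset := by
      intro z _
      rw [Multiset.mem_toFinset, mem_roots hne, IsRoot.def, eval_sub, eval_pow, eval_X, hall z,
        sub_self]
    have h1 := Finset.card_le_card hsub
    have h2 := Multiset.toFinset_card_le (X ^ q - X : (KK F)[X]).roots
    have h3 := Polynomial.card_roots' (X ^ q - X : (KK F)[X])
    rw [Finset.card_univ, hK] at h1
    rw [hdeg] at h3
    have : q ^ 2 ≤ q := h1.trans (h2.trans h3)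
    nlinarith
  · exact sub_eq_zero.1 h

theorem pow_q_eq_star (hF : Fintype.card F = q) (z : KK F) : z ^ q = star z := by
  have hK := card_KK (F := F) hF
  have h1 : Cfsg.Agent.S0278.powQ hK z = star z := by
    conv_lhs => rw [eq_add_mul_omega z]
    rw [map_add, map_mul]
    show (algebraMap F (KK F) z.re) ^ q + (algebraMap F (KK F) z.im) ^ q * (ω : KK F) ^ q = star z
    rw [C_pow_q hF, C_pow_q hF, omega_pow_q hF]
    ext <;> simp
  exact h1

end

section model
variable [Hab : Fact (∀ r : F, r ^ 2 ≠ (-1 : F) + (-1) * r)] {m : ℕ}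

open Matrix

/-- a `K`-matrix as an `F`-matrix of twice the size -/
def toF (A : Matrix (Fin m) (Fin m) (KK F)) : Matrix (Fin m ⊕ Fin m) (Fin m ⊕ Fin m) F :=
  Matrix.fromBlocks (A.map QuadraticAlgebra.re) (-(A.map QuadraticAlgebra.im))
    (A.map QuadraticAlgebra.im) (A.map QuadraticAlgebra.re - A.map QuadraticAlgebra.im)

/-- real and imaginary coordinates -/
def Ψ (w : Fin m → KK F) : Fin m ⊕ Fin m → F :=
  Sum.elim (fun i => (w i).re) (fun i => (w i).im)

def Ψinv (x : Fin m ⊕ Fin m → F) : Fin m → KK F := fun i => ⟨x (Sum.inl i), x (Sum.inr i)⟩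

omit [Fintype F] Hab in
theorem Ψ_Ψinv (x : Fin m ⊕ Fin m → F) : Ψ (Ψinv x) = x := by
  funext i
  rcases i with i | i <;> rfl

omit [Fintype F] Hab in
theorem Ψinv_Ψ (w : Fin m → KK F) : Ψinv (Ψ w) = w := by
  funext i
  rfl

omit [Fintype F] Hab in
theorem re_sum' {ι : Type*} (s : Finset ι) (f : ι → KK F) : (∑ j ∈ s, f j).re = ∑ j ∈ s, (f j).re :=
  map_sum (reₗ (-1 : F) (-1 : F)) f s

omit [Fintype F] Hab in
theorem im_sum' {ι : Type*} (s : Finset ι) (f : ι → KK F) : (∑ j ∈ s, f j).im = ∑ j ∈ s, (f j).im :=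
  map_sum (imₗ (-1 : F) (-1 : F)) f s

omit [Fintype F] Hab in
theorem Ψ_mulVec (A : Matrix (Fin m) (Fin m) (KK F)) (w : Fin m → KK F) :
    Ψ (A *ᵥ w) = toF A *ᵥ Ψ w := by
  funext i
  rcases i with i | i
  · simp only [Ψ, toF, Sum.elim_inl, Matrix.mulVec, dotProduct, Matrix.fromBlocks_apply₁₁,
      Matrix.fromBlocks_apply₁₂, Fintype.sum_sum_type, Matrix.map_apply, Matrix.neg_apply, re_sum',
      re_mul, Sum.elim_inr, ← Finset.sum_add_distrib]
    apply Finset.sum_congr rfl
    intro j _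
    ring
  · simp only [Ψ, toF, Sum.elim_inl, Matrix.mulVec, dotProduct, Matrix.fromBlocks_apply₂₁,
      Matrix.fromBlocks_apply₂₂, Fintype.sum_sum_type, Matrix.map_apply, Matrix.sub_apply, im_sum',
      im_mul, Sum.elim_inr, ← Finset.sum_add_distrib]
    apply Finset.sum_congr rfl
    intro j _
    ring

theorem symp_Ψ (hF : Fintype.card F = q) (u v : Fin m → KK F) :
    Cfsg.sympForm m F (Ψ u) (Ψ v) = (Cfsg.hermForm m (KK F) q u v).im := by
  unfold Cfsg.sympForm Cfsg.hermForm
  rw [im_sum']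
  simp only [pow_q_eq_star hF, im_mul, re_star, im_star]
  simp only [dotProduct, Matrix.mulVec, Matrix.J, Fintype.sum_sum_type, Ψ, Sum.elim_inl, Sum.elim_inr,
    Matrix.fromBlocks_apply₁₁, Matrix.fromBlocks_apply₁₂, Matrix.fromBlocks_apply₂₁,
    Matrix.fromBlocks_apply₂₂, Matrix.zero_apply, Matrix.neg_apply, Matrix.one_apply, zero_mul,
    Finset.sum_const_zero, zero_add, add_zero, neg_mul, ite_mul, one_mul, Finset.sum_neg_distrib,
    Finset.sum_ite_eq, Finset.mem_univ, if_true, ← Finset.sum_add_distrib]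
  apply Finset.sum_congr rfl
  intro j _
  ring

omit [Fintype F] Hab in
theorem toF_mul (A B : Matrix (Fin m) (Fin m) (KK F)) : toF (A * B) = toF A * toF B := by
  apply Matrix.mulVec_injective
  funext x
  rw [← Matrix.mulVec_mulVec]
  conv_lhs => rw [← Ψ_Ψinv x]
  conv_rhs => rw [← Ψ_Ψinv x]
  rw [← Ψ_mulVec, ← Ψ_mulVec, ← Ψ_mulVec, Matrix.mulVec_mulVec]

omit [Fintype F] Hab in
theorem toF_one : toF (1 : Matrix (Fin m) (Fin m) (KK F)) = 1 := by
  apply Matrix.mulVec_injective
  funext x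
  conv_lhs => rw [← Ψ_Ψinv x]
  rw [← Ψ_mulVec, Matrix.one_mulVec, Matrix.one_mulVec, Ψ_Ψinv]

omit [Fintype F] Hab in
theorem toF_injective : Function.Injective (toF : Matrix (Fin m) (Fin m) (KK F) → _) := by
  intro A B h
  ext i j
  · have := congrFun (congrFun h (Sum.inl i)) (Sum.inl j)
    simpa [toF] using this
  · have := congrFun (congrFun h (Sum.inr i)) (Sum.inl j)
    simpa [toF] using this

/-- the matrix of multiplication by `ω` -/
def x0 (m : ℕ) (F : Type*) [Field F] : Matrix (Fin m ⊕ Fin m) (Fin m ⊕ Fin m) F :=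
  Matrix.fromBlocks 0 (-1) 1 (-1)

omit [Fintype F] Hab in
theorem toF_omega : toF ((ω : KK F) • (1 : Matrix (Fin m) (Fin m) (KK F))) = x0 m F := by
  unfold toF x0
  have h1 : ((ω : KK F) • (1 : Matrix (Fin m) (Fin m) (KK F))).map QuadraticAlgebra.re = 0 := by
    ext i j
    by_cases hij : i = j <;> simp [Matrix.one_apply, hij]
  have h2 : ((ω : KK F) • (1 : Matrix (Fin m) (Fin m) (KK F))).map QuadraticAlgebra.im = 1 := by
    ext i j
    by_cases hij : i = j <;> simp [Matrix.one_apply, hij]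
  rw [h1, h2, zero_sub]

omit [Fintype F] Hab in
/-- the centraliser of `x0` in the matrix ring -/
theorem exists_toF_of_commute (g : Matrix (Fin m ⊕ Fin m) (Fin m ⊕ Fin m) F)
    (hg : g * x0 m F = x0 m F * g) : ∃ A : Matrix (Fin m) (Fin m) (KK F), toF A = g := by
  have hgb := (Matrix.fromBlocks_toBlocks g).symm
  set P := g.toBlocks₁₁
  set R := g.toBlocks₁₂
  set Q := g.toBlocks₂₁
  set S := g.toBlocks₂₂
  rw [hgb, x0, Matrix.fromBlocks_multiply, Matrix.fromBlocks_multiply, Matrix.fromBlocks_inj] at hg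
  obtain ⟨h1, h2, h3, h4⟩ := hg
  simp only [mul_zero, mul_one, zero_add, mul_neg, zero_mul, one_mul, neg_mul] at h1 h2 h3 h4
  refine ⟨Matrix.of fun i j => ⟨P i j, Q i j⟩, ?_⟩
  rw [hgb]
  unfold toF
  have e1 : (Matrix.of fun i j => (⟨P i j, Q i j⟩ : KK F)).map QuadraticAlgebra.re = P := by
    ext i j; rfl
  have e2 : (Matrix.of fun i j => (⟨P i j, Q i j⟩ : KK F)).map QuadraticAlgebra.im = Q := by
    ext i j; rfl
  rw [e1, e2]
  congr 1
  · exact h1.symm
  · rw [h3, sub_eq_add_neg]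

theorem symp_of_herm (hF : Fintype.card F = q) (A : Matrix (Fin m) (Fin m) (KK F))
    (hA : ∀ u v, Cfsg.hermForm m (KK F) q (A *ᵥ u) (A *ᵥ v) = Cfsg.hermForm m (KK F) q u v) :
    toF A ∈ Matrix.symplecticGroup (Fin m) F := by
  rw [Cfsg.Agent.Lib.Helper1.SpCard.mem_symplectic_iff_form]
  intro x y
  rw [← Ψ_Ψinv x, ← Ψ_Ψinv y, ← Ψ_mulVec, ← Ψ_mulVec, symp_Ψ hF, symp_Ψ hF, hA]

omit [Fintype F] Hab in
theorem im_omega_mul (d : KK F) : ((ω : KK F) * d).im = d.re - d.im := by
  simp
  ring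

theorem herm_of_symp (hF : Fintype.card F = q) (A : Matrix (Fin m) (Fin m) (KK F))
    (hA : toF A ∈ Matrix.symplecticGroup (Fin m) F) (u v : Fin m → KK F) :
    Cfsg.hermForm m (KK F) q (A *ᵥ u) (A *ᵥ v) = Cfsg.hermForm m (KK F) q u v := by
  rw [Cfsg.Agent.Lib.Helper1.SpCard.mem_symplectic_iff_form] at hA
  have him : ∀ u v : Fin m → KK F, (Cfsg.hermForm m (KK F) q (A *ᵥ u) (A *ᵥ v)).im =
      (Cfsg.hermForm m (KK F) q u v).im := by
    intro u v
    rw [← symp_Ψ hF, ← symp_Ψ hF, Ψ_mulVec, Ψ_mulVec, hA]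
  have h1 := him u v
  have h2 := him ((ω : KK F) • u) v
  rw [Matrix.mulVec_smul, Cfsg.Agent.Lib.Helper2.Herm.herm_smul_left,
    Cfsg.Agent.Lib.Helper2.Herm.herm_smul_left, im_omega_mul, im_omega_mul, h1] at h2
  ext
  · exact sub_left_injective h2
  · exact h1

omit [Fintype F] Hab in
theorem omega_mul_star : (ω : KK F) * star (ω : KK F) = 1 := by
  ext <;> simp

theorem x0_mem (hF : Fintype.card F = q) : x0 m F ∈ Matrix.symplecticGroup (Fin m) F := by
  rw [← toF_omega]
  apply symp_of_herm hF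
  intro u v
  rw [Matrix.smul_mulVec, Matrix.smul_mulVec, Matrix.one_mulVec, Matrix.one_mulVec,
    Cfsg.Agent.Lib.Helper2.Herm.herm_smul_left, Cfsg.Agent.Lib.Helper2.Herm.herm_smul_right,
    ← mul_assoc, pow_q_eq_star hF, omega_mul_star, one_mul]

/-- the centraliser of `x0` in the symplectic group has the order of the unitary group -/
theorem card_centralizer_x0 (hF : Fintype.card F = q) :
    Nat.card ↥(Subgroup.centralizer
      ({⟨x0 m F, x0_mem hF⟩} : Set ↥(Matrix.symplecticGroup (Fin m) F))) =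
      Nat.card ↥(Cfsg.GU m (KK F) q) := by
  classical
  have hK := card_KK (F := F) hF
  symm
  have hcomm : ∀ A : Matrix (Fin m) (Fin m) (KK F), x0 m F * toF A = toF A * x0 m F := by
    intro A
    rw [← toF_omega, ← toF_mul, ← toF_mul, Matrix.smul_mul, Matrix.mul_smul, one_mul, mul_one]
  let Θ : ↥(Cfsg.GU m (KK F) q) → ↥(Subgroup.centralizer
      ({⟨x0 m F, x0_mem hF⟩} : Set ↥(Matrix.symplecticGroup (Fin m) F))) := fun A =>
    ⟨⟨toF ((A : GL (Fin m) (KK F)) : Matrix (Fin m) (Fin m) (KK F)),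
      symp_of_herm hF _ (fun u v => A.2 u v)⟩, by
        rw [Subgroup.mem_centralizer_iff]
        intro h hh
        rw [Set.mem_singleton_iff] at hh
        subst hh
        apply Subtype.ext
        exact hcomm _⟩
  apply Nat.card_congr (Equiv.ofBijective Θ ⟨?_, ?_⟩)
  · intro A B hAB
    have h1 : toF ((A : GL (Fin m) (KK F)) : Matrix (Fin m) (Fin m) (KK F)) =
        toF ((B : GL (Fin m) (KK F)) : Matrix (Fin m) (Fin m) (KK F)) :=
      congrArg (fun z : ↥(Subgroup.centralizer
        ({⟨x0 m F, x0_mem hF⟩} : Set ↥(Matrix.symplecticGroup (Fin m) F))) =>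
        (((z : ↥(Matrix.symplecticGroup (Fin m) F))) :
        Matrix (Fin m ⊕ Fin m) (Fin m ⊕ Fin m) F)) hAB
    exact Subtype.ext (Units.ext (toF_injective h1))
  · rintro ⟨⟨g, hg⟩, hc⟩
    rw [Subgroup.mem_centralizer_iff] at hc
    have h1 := hc _ (Set.mem_singleton _)
    have h2 : x0 m F * g = g * x0 m F := congrArg Subtype.val h1
    obtain ⟨A, hA⟩ := exists_toF_of_commute g h2.symm
    have hherm := herm_of_symp hF A (by rw [hA]; exact hg)
    have h3 := Cfsg.Agent.Lib.Helper5.UStar.transpose_mul_map hK A hherm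
    have h4 : IsUnit A.det := by
      have := Matrix.isUnit_det_of_right_inverse h3
      rwa [Matrix.det_transpose] at this
    have h5 : IsUnit A := (Matrix.isUnit_iff_isUnit_det A).2 h4
    have h6 : ((h5.unit : GL (Fin m) (KK F)) : Matrix (Fin m) (Fin m) (KK F)) = A := h5.unit_spec
    have h7 : h5.unit ∈ Cfsg.GU m (KK F) q := by
      intro u v
      show Cfsg.hermForm m (KK F) q (((h5.unit : GL (Fin m) (KK F)) :
        Matrix (Fin m) (Fin m) (KK F)) *ᵥ u) (((h5.unit : GL (Fin m) (KK F)) :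
        Matrix (Fin m) (Fin m) (KK F)) *ᵥ v) = _
      rw [h6]
      exact hherm u v
    refine ⟨⟨h5.unit, h7⟩, ?_⟩
    apply Subtype.ext
    apply Subtype.ext
    show toF ((h5.unit : GL (Fin m) (KK F)) : Matrix (Fin m) (Fin m) (KK F)) = g
    rw [h6, hA]

end model

section charpoly
variable {F : Type*} [Field F] {m : ℕ}

theorem phi_monic : (X ^ 2 + (X + 1) : F[X]).Monic := by
  apply Polynomial.monic_X_pow_add
  rw [show (X + 1 : F[X]) = X + C 1 by simp, Polynomial.degree_X_add_C]
  norm_num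

theorem phi_natDegree : (X ^ 2 + (X + 1) : F[X]).natDegree = 2 := by
  rw [Polynomial.natDegree_add_eq_left_of_degree_lt, natDegree_X_pow]
  rw [show (X + 1 : F[X]) = X + C 1 by simp, Polynomial.degree_X_add_C, degree_X_pow]
  norm_num

theorem phi_irreducible (hirr : ∀ r : F, r ^ 2 ≠ (-1 : F) + (-1) * r) :
    Irreducible (X ^ 2 + (X + 1) : F[X]) := by
  rw [Polynomial.Monic.irreducible_iff_roots_eq_zero_of_degree_le_three phi_monic
    (by rw [phi_natDegree]) (by rw [phi_natDegree]; norm_num)]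
  rw [Multiset.eq_zero_iff_forall_notMem]
  intro r hr
  rw [mem_roots phi_monic.ne_zero, IsRoot.def, eval_add, eval_add, eval_pow, eval_X, eval_one] at hr
  apply hirr r
  linear_combination hr

/-- a matrix killed by the irreducible `X² + X + 1` has characteristic polynomial a power of it -/
theorem charpoly_of_quadratic (hirr : ∀ r : F, r ^ 2 ≠ (-1 : F) + (-1) * r)
    (M : Matrix (Fin m ⊕ Fin m) (Fin m ⊕ Fin m) F) (hM : M * M + M + 1 = 0) :
    M.charpoly = (X ^ 2 + (X + 1) : F[X]) ^ m := by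
  have hφ : aeval (Matrix.toLin' M) (X ^ 2 + (X + 1) : F[X]) = 0 := by
    rw [map_add, map_add, map_pow, aeval_X, map_one, sq]
    have : Matrix.toLin' M * Matrix.toLin' M + (Matrix.toLin' M + 1) =
        Matrix.toLin' (M * M + M + 1) := by
      rw [map_add, map_add, Matrix.toLin'_one, add_assoc, Matrix.toLin'_mul]
      rfl
    rw [this, hM, map_zero]
  obtain ⟨k, hk⟩ := Cfsg.Agent.Lib.Helper5.charpoly_dvd_pow_of_aeval_eq_zero _ _ hφ
  rw [Matrix.charpoly_toLin'] at hk
  obtain ⟨j, -, hj⟩ := (dvd_prime_pow (phi_irreducible hirr).prime _).1 hk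
  have h1 : M.charpoly = (X ^ 2 + (X + 1) : F[X]) ^ j :=
    Polynomial.eq_of_monic_of_associated (Matrix.charpoly_monic M) (phi_monic.pow j) hj
  have h2 := congrArg Polynomial.natDegree h1
  rw [Matrix.charpoly_natDegree_eq_dim, (phi_monic (F := F)).natDegree_pow, phi_natDegree,
    Fintype.card_sum, Fintype.card_fin] at h2
  have : j = m := by omega
  rw [h1, this]

end charpoly

end Cfsg.Agent.Lib.Helper5.QExt
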