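import Mathlib
import Cfsg.Prelude.Def_Quasithin
import Cfsg.Prelude.Def_QuasithinSetup
import Cfsg.Agent.Lib.Helper9.PCore
import Cfsg.Agent.Lib.Helper9.QtkeUpN
import Cfsg.Agent.Lib.Helper9.QtkeUpSZ

/-!
# S1851 swarm, package PD2: `V(K) = 1` implies `K` centralizes `Ω_1 Z(O_2(H))`
-/

set_option autoImplicit false

namespace Cfsg.Agent.Lib.QtkeUp

open Cfsg
open scoped commutatorElement

section basics

variable {G : Type*} [Group G]

/-- conjugation by `h ∈ H` preserves `O_2(H)` (as a subgroup of `G`) -/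
theorem pCoreTwoOf_conj_mem (H : Subgroup G) {h x : G} (hh : h ∈ H) (hx : x ∈ pCoreTwoOf H) :
    h * x * h⁻¹ ∈ pCoreTwoOf H := by
  obtain ⟨y, hy, rfl⟩ := hx
  exact ⟨⟨h, hh⟩ * y * (⟨h, hh⟩ : ↥H)⁻¹,
    (Cfsg.Agent.Lib.Helper9.pCore_normal' (G := ↥H) 2).conj_mem y hy ⟨h, hh⟩, rfl⟩

theorem pCoreTwoOf_le (H : Subgroup G) : pCoreTwoOf H ≤ H := by
  rintro _ ⟨y, _, rfl⟩
  exact y.2

theorem pCoreTwoOf_isPGroup [Finite G] (H : Subgroup G) : IsPGroup 2 ↥(pCoreTwoOf H) := by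
  haveI : Fact (Nat.Prime 2) := ⟨Nat.prime_two⟩
  exact (Cfsg.Agent.Lib.Helper9.pCore_isPGroup' (G := ↥H) 2).map _

/-- a 2-subgroup of `H` normalized by `H` lies in `O_2(H)` -/
theorem le_pCoreTwoOf (H N : Subgroup G) (hNH : N ≤ H) (hN : IsPGroup 2 ↥N)
    (hinv : ∀ h ∈ H, ∀ x ∈ N, h * x * h⁻¹ ∈ N) : N ≤ pCoreTwoOf H := by
  have hn : (N.subgroupOf H).Normal := by
    constructor
    intro n hn h
    rw [Subgroup.mem_subgroupOf] at hn ⊢
    exact hinv h h.2 n hn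
  have hp : IsPGroup 2 (N.subgroupOf H) := hN.comap_subtype
  have hle := Cfsg.Agent.Lib.Helper9.le_pCore hn hp
  intro x hx
  exact ⟨⟨x, hNH hx⟩, hle (Subgroup.mem_subgroupOf.mpr hx), rfl⟩

/-- the centre of `O_2(H)` as a subgroup of `G` -/
abbrev zO2 (H : Subgroup G) : Subgroup G :=
  pCoreTwoOf H ⊓ Subgroup.centralizer (pCoreTwoOf H : Set G)

theorem zO2_conj_mem (H : Subgroup G) {h x : G} (hh : h ∈ H) (hx : x ∈ zO2 H) :
    h * x * h⁻¹ ∈ zO2 H := by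
  refine Subgroup.mem_inf.mpr ⟨pCoreTwoOf_conj_mem H hh hx.1, ?_⟩
  refine Subgroup.mem_centralizer_iff.mpr ?_
  intro r hr
  have hr' : h⁻¹ * r * h ∈ pCoreTwoOf H := by
    have := pCoreTwoOf_conj_mem H (H.inv_mem hh) hr
    simpa using this
  have hc := Subgroup.mem_centralizer_iff.mp hx.2 _ hr'
  -- hc : h⁻¹ * r * h * x = x * (h⁻¹ * r * h)
  calc r * (h * x * h⁻¹) = h * ((h⁻¹ * r * h) * x) * h⁻¹ := by group
    _ = h * (x * (h⁻¹ * r * h)) * h⁻¹ := by rw [hc]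
    _ = h * x * h⁻¹ * r := by group

/-- elements of `Ω_1 Z(O_2(H))` lie in `Z(O_2(H))` and square to one -/
theorem mem_omegaOne_zO2 (H : Subgroup G) {u : G} (hu : u ∈ omegaOne 2 (zO2 H)) :
    u ∈ zO2 H ∧ u ^ 2 = 1 := by
  unfold omegaOne at hu
  induction hu using Subgroup.closure_induction with
  | mem x hx => exact hx
  | one => exact ⟨Subgroup.one_mem _, one_pow 2⟩
  | mul x y _ _ hx hy =>
    refine ⟨Subgroup.mul_mem _ hx.1 hy.1, ?_⟩
    have hc : x * y = y * x := (Subgroup.mem_centralizer_iff.mp hy.1.2 x hx.1.1)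
    have : (x * y) ^ 2 = x ^ 2 * y ^ 2 := by
      rw [pow_two, pow_two, pow_two]
      calc x * y * (x * y) = x * (y * x) * y := by group
        _ = x * (x * y) * y := by rw [← hc]
        _ = x * x * (y * y) := by group
    rw [this, hx.2, hy.2, one_mul]
  | inv x _ hx =>
    exact ⟨Subgroup.inv_mem _ hx.1, by rw [inv_pow, hx.2, inv_one]⟩

theorem mem_omegaOne_of (H : Subgroup G) {u : G} (hu : u ∈ zO2 H) (hu2 : u ^ 2 = 1) :
    u ∈ omegaOne 2 (zO2 H) :=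
  Subgroup.subset_closure ⟨hu, hu2⟩

theorem omegaOne_zO2_conj_mem (H : Subgroup G) {h u : G} (hh : h ∈ H)
    (hu : u ∈ omegaOne 2 (zO2 H)) : h * u * h⁻¹ ∈ omegaOne 2 (zO2 H) := by
  obtain ⟨h1, h2⟩ := mem_omegaOne_zO2 H hu
  apply mem_omegaOne_of H (zO2_conj_mem H hh h1)
  rw [conj_pow, h2, mul_one, mul_inv_cancel]

/-- an element of odd order commuting with `w = x u x⁻¹ u⁻¹` where `w ^ 2 = 1` has `w = 1` -/
theorem comm_eq_one_of_odd {x u : G} (hodd : Odd (orderOf x))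
    (hw2 : (x * u * x⁻¹ * u⁻¹) ^ 2 = 1) (hc : x * (x * u * x⁻¹ * u⁻¹) = (x * u * x⁻¹ * u⁻¹) * x) :
    x * u = u * x := by
  obtain ⟨w, hw⟩ : ∃ w, w = x * u * x⁻¹ * u⁻¹ := ⟨_, rfl⟩
  rw [← hw] at hw2 hc
  have hxu : x * u * x⁻¹ = w * u := by rw [hw]; group
  have hpow : ∀ j : ℕ, x ^ j * u * (x ^ j)⁻¹ = w ^ j * u := by
    intro j
    induction j with
    | zero => simp
    | succ j ih =>
      have hcj : x * w ^ j = w ^ j * x := by
        have : Commute x w := hc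
        exact (this.pow_right j).eq
      calc x ^ (j + 1) * u * (x ^ (j + 1))⁻¹ = x * (x ^ j * u * (x ^ j)⁻¹) * x⁻¹ := by
            rw [pow_succ']; group
        _ = x * (w ^ j * u) * x⁻¹ := by rw [ih]
        _ = (x * w ^ j) * u * x⁻¹ := by group
        _ = (w ^ j * x) * u * x⁻¹ := by rw [hcj]
        _ = w ^ j * (x * u * x⁻¹) := by group
        _ = w ^ j * (w * u) := by rw [hxu]
        _ = w ^ (j + 1) * u := by rw [pow_succ]; group
  have hn := hpow (orderOf x)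
  rw [pow_orderOf_eq_one] at hn
  have hwn : w ^ orderOf x = 1 := by
    have : u = w ^ orderOf x * u := by simpa using hn
    exact (mul_eq_right.mp this.symm)
  obtain ⟨k, hk⟩ := hodd
  have hw1 : w = 1 := by
    rw [hk, pow_succ, pow_mul, hw2, one_pow, one_mul] at hwn
    exact hwn
  have : x * u * x⁻¹ = u := by rw [hxu, hw1, one_mul]
  calc x * u = x * u * x⁻¹ * x := by group
    _ = u * x := by rw [this]

end basics

variable {G : Type*} [Group G] [Finite G]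

/-- **PD2** -/
theorem le_centralizer_of_moduleV_eq_bot (H K : Subgroup G) (hKH : K ≤ H)
    (hsn : (K.subgroupOf H).IsSubnormal) (hK : oddGenerated K = K) (hV : moduleV K = ⊥) :
    K ≤ Subgroup.centralizer
      ((omegaOne 2 (pCoreTwoOf H ⊓ Subgroup.centralizer (pCoreTwoOf H : Set G)) : Subgroup G) : Set G) := by
  have hPN := pCoreTwoOf_le_normalizer H K hKH hsn hK
  have hPS := pCoreTwoOf_le_of_subnormal H K hKH hsn
  -- `U ⊓ K ≤ Ω_1 Z(O_2(K))`
  have hUK : omegaOne 2 (zO2 H) ⊓ K ≤ omegaOne 2 (zO2 K) := by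
    have hle : omegaOne 2 (zO2 H) ⊓ K ≤ pCoreTwoOf K := by
      apply le_pCoreTwoOf K _ inf_le_right
      · exact (pCoreTwoOf_isPGroup H).to_le (fun y hy => (mem_omegaOne_zO2 H hy.1).1.1)
      · intro k hk y hy
        exact ⟨omegaOne_zO2_conj_mem H (hKH hk) hy.1,
          K.mul_mem (K.mul_mem hk hy.2) (K.inv_mem hk)⟩
    intro w hw
    obtain ⟨h1, h2⟩ := mem_omegaOne_zO2 H hw.1
    apply mem_omegaOne_of K _ h2
    refine ⟨hle hw, ?_⟩
    exact Subgroup.centralizer_le (fun y hy => hPS hy) h1.2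
  -- `K` commutes with `Ω_1 Z(O_2(K))`
  have hcomm : ∀ w ∈ omegaOne 2 (zO2 K), ∀ x ∈ K, x * w = w * x := by
    intro w hw x hx
    have h1 : ⁅w, x⁆ ∈ moduleV K := Subgroup.commutator_mem_commutator hw hx
    rw [hV, Subgroup.mem_bot] at h1
    exact (commutatorElement_eq_one_iff_mul_comm.mp h1).symm
  rw [← hK]
  unfold oddGenerated
  rw [Subgroup.closure_le]
  rintro x ⟨hxK, hxodd⟩
  rw [SetLike.mem_coe, Subgroup.mem_centralizer_iff]
  intro u hu
  have hu' : u ∈ omegaOne 2 (zO2 H) := hu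
  have hwU : x * u * x⁻¹ * u⁻¹ ∈ omegaOne 2 (zO2 H) :=
    Subgroup.mul_mem _ (omegaOne_zO2_conj_mem H (hKH hxK) hu') (Subgroup.inv_mem _ hu')
  have huN : u ∈ Subgroup.normalizer (K : Set G) := hPN (mem_omegaOne_zO2 H hu').1.1
  have hwK : x * u * x⁻¹ * u⁻¹ ∈ K := by
    have h1 : u * x⁻¹ * u⁻¹ ∈ K := (Subgroup.mem_normalizer_iff.mp huN x⁻¹).mp (K.inv_mem hxK)
    have : x * u * x⁻¹ * u⁻¹ = x * (u * x⁻¹ * u⁻¹) := by group
    rw [this]; exact K.mul_mem hxK h1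
  have hw := hUK ⟨hwU, hwK⟩
  have hw2 := (mem_omegaOne_zO2 K hw).2
  have hc := hcomm _ hw x hxK
  exact (comm_eq_one_of_odd hxodd hw2 hc).symm

end Cfsg.Agent.Lib.QtkeUp
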