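import Mathlib
import Cfsg.Prelude.Def_Quasithin
import Cfsg.Prelude.Def_QuasithinSetup
import Cfsg.Agent.Lib.Helper9.PCore
import Cfsg.Agent.Lib.Lead.Nilpotent
import Cfsg.Agent.Lib.Helper5.QtkeUpD2

/-!
# S1851 swarm, package PD1 (Thompson A×B, elementary abelian case):
`L = O^2(L)` subnormal in `H` centralizing `Ω_1 Z(O_2(H))` has `V(L) = 1`.
-/

set_option autoImplicit false

namespace Cfsg.Agent.Lib.QtkeUp

open Cfsg
open scoped commutatorElement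

section basics

variable {G : Type*} [Group G]

theorem conj_mem_of_mem_normalizer {H : Subgroup G} {g h : G} (hg : g ∈ Subgroup.normalizer (H : Set G))
    (hh : h ∈ H) : g * h * g⁻¹ ∈ H :=
  (Subgroup.mem_normalizer_iff.mp hg h).mp hh

theorem conj_inv_mem_of_mem_normalizer {H : Subgroup G} {g h : G}
    (hg : g ∈ Subgroup.normalizer (H : Set G)) (hh : h ∈ H) : g⁻¹ * h * g ∈ H := by
  have := conj_mem_of_mem_normalizer (Subgroup.inv_mem _ hg) hh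
  simpa using this

/-- `O_2(H)` is invariant under the normalizer of `H` -/
theorem pCoreTwoOf_conj_mem_of_mem_normalizer [Finite G] (H : Subgroup G) {g x : G}
    (hg : g ∈ Subgroup.normalizer (H : Set G)) (hx : x ∈ pCoreTwoOf H) :
    g * x * g⁻¹ ∈ pCoreTwoOf H := by
  have hle : (pCoreTwoOf H).map (MulAut.conj g).toMonoidHom ≤ pCoreTwoOf H := by
    apply le_pCoreTwoOf
    · rintro _ ⟨y, hy, rfl⟩
      exact conj_mem_of_mem_normalizer hg (pCoreTwoOf_le H hy)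
    · exact (pCoreTwoOf_isPGroup H).map _
    · rintro h hh _ ⟨y, hy, rfl⟩
      refine ⟨(g⁻¹ * h * g) * y * (g⁻¹ * h * g)⁻¹,
        pCoreTwoOf_conj_mem H (conj_inv_mem_of_mem_normalizer hg hh) hy, ?_⟩
      simp only [MulEquiv.coe_toMonoidHom, MulAut.conj_apply]
      group
  exact hle ⟨x, hx, rfl⟩

theorem zO2_conj_mem_of_mem_normalizer [Finite G] (H : Subgroup G) {g x : G}
    (hg : g ∈ Subgroup.normalizer (H : Set G)) (hx : x ∈ zO2 H) : g * x * g⁻¹ ∈ zO2 H := by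
  refine Subgroup.mem_inf.mpr ⟨pCoreTwoOf_conj_mem_of_mem_normalizer H hg hx.1, ?_⟩
  refine Subgroup.mem_centralizer_iff.mpr ?_
  intro r hr
  have hr' : g⁻¹ * r * g ∈ pCoreTwoOf H := by
    have := pCoreTwoOf_conj_mem_of_mem_normalizer H (Subgroup.inv_mem _ hg) hr
    simpa using this
  have hc := Subgroup.mem_centralizer_iff.mp hx.2 _ hr'
  calc r * (g * x * g⁻¹) = g * ((g⁻¹ * r * g) * x) * g⁻¹ := by group
    _ = g * (x * (g⁻¹ * r * g)) * g⁻¹ := by rw [hc]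
    _ = g * x * g⁻¹ * r := by group

theorem omegaOne_zO2_conj_mem_of_mem_normalizer [Finite G] (H : Subgroup G) {g u : G}
    (hg : g ∈ Subgroup.normalizer (H : Set G)) (hu : u ∈ omegaOne 2 (zO2 H)) :
    g * u * g⁻¹ ∈ omegaOne 2 (zO2 H) := by
  obtain ⟨h1, h2⟩ := mem_omegaOne_zO2 H hu
  apply mem_omegaOne_of H (zO2_conj_mem_of_mem_normalizer H hg h1)
  rw [conj_pow, h2, mul_one, mul_inv_cancel]

/-- elements of `Ω_1 Z(O_2(H))` commute -/
theorem omegaOne_zO2_comm (H : Subgroup G) {u v : G} (hu : u ∈ omegaOne 2 (zO2 H))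
    (hv : v ∈ omegaOne 2 (zO2 H)) : u * v = v * u :=
  (Subgroup.mem_centralizer_iff.mp (mem_omegaOne_zO2 H hv).1.2 u (mem_omegaOne_zO2 H hu).1.1)

theorem inv_eq_self_of_sq {u : G} (h : u ^ 2 = 1) : u⁻¹ = u := by
  rw [inv_eq_iff_mul_eq_one, ← pow_two, h]

/-- key computation: if `x` has odd order and commutes with `w = x z x⁻¹ z⁻¹`, where `z` and `x z x⁻¹`
commute and square to one, then `x` commutes with `z` -/
theorem comm_of_comm_commutator {x z : G} (hodd : Odd (orderOf x)) (hz2 : z ^ 2 = 1)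
    (hcz : (x * z * x⁻¹) * z = z * (x * z * x⁻¹))
    (hc : x * (x * z * x⁻¹ * z⁻¹) = (x * z * x⁻¹ * z⁻¹) * x) : x * z = z * x := by
  obtain ⟨a, ha⟩ : ∃ a, a = x * z * x⁻¹ := ⟨_, rfl⟩
  have hzi : z⁻¹ = z := inv_eq_self_of_sq hz2
  have ha2 : a ^ 2 = 1 := by rw [ha, conj_pow, hz2, mul_one, mul_inv_cancel]
  have hai : a⁻¹ = a := inv_eq_self_of_sq ha2
  rw [← ha] at hcz hc
  rw [hzi] at hc
  -- `x (a z) x⁻¹ = a z`, i.e. `(x a x⁻¹) a = a z`
  have h1 : (x * a * x⁻¹) * a = a * z := by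
    have : x * (a * z) * x⁻¹ = a * z := by rw [hc]; group
    calc (x * a * x⁻¹) * a = x * a * x⁻¹ * (x * z * x⁻¹) := by rw [ha]
      _ = x * (a * z) * x⁻¹ := by group
      _ = a * z := this
  -- hence `x a x⁻¹ = a z a⁻¹ = z`
  have h2 : x * a * x⁻¹ = z := by
    have : x * a * x⁻¹ = a * z * a⁻¹ := by rw [← h1]; group
    rw [this, hai, hcz]
    calc z * a * a = z * a ^ 2 := by rw [pow_two]; group
      _ = z := by rw [ha2, mul_one]
  -- `x² z x⁻² = z`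
  have h3 : x ^ 2 * z = z * x ^ 2 := by
    have : x ^ 2 * z * (x ^ 2)⁻¹ = z := by
      calc x ^ 2 * z * (x ^ 2)⁻¹ = x * (x * z * x⁻¹) * x⁻¹ := by rw [pow_two]; group
        _ = x * a * x⁻¹ := by rw [ha]
        _ = z := h2
    calc x ^ 2 * z = x ^ 2 * z * (x ^ 2)⁻¹ * x ^ 2 := by group
      _ = z * x ^ 2 := by rw [this]
  obtain ⟨k, hk⟩ := hodd
  have hx : x = (x ^ 2) ^ (k + 1) := by
    rw [← pow_mul]
    have : 2 * (k + 1) = orderOf x + 1 := by omega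
    rw [this, pow_succ, pow_orderOf_eq_one, one_mul]
  have hcomm : Commute (x ^ 2) z := h3
  have := (hcomm.pow_left (k + 1)).eq
  rw [← hx] at this
  exact this

end basics

variable {G : Type*} [Group G] [Finite G]

/-- **PD1** -/
theorem moduleV_eq_bot_of_le_centralizer (H L : Subgroup G) (hLH : L ≤ H)
    (hsn : (L.subgroupOf H).IsSubnormal) (hL : oddGenerated L = L)
    (hc : L ≤ Subgroup.centralizer
      ((omegaOne 2 (pCoreTwoOf H ⊓ Subgroup.centralizer (pCoreTwoOf H : Set G)) : Subgroup G) : Set G)) :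
    moduleV L = ⊥ := by
  haveI : Fact (Nat.Prime 2) := ⟨Nat.prime_two⟩
  have hPN := pCoreTwoOf_le_normalizer H L hLH hsn hL
  have hPS := pCoreTwoOf_le_of_subnormal H L hLH hsn
  -- notation
  obtain ⟨R, hR⟩ : ∃ R : Subgroup G, R = pCoreTwoOf H := ⟨_, rfl⟩
  obtain ⟨P, hP⟩ : ∃ P : Subgroup G, P = omegaOne 2 (zO2 L) := ⟨_, rfl⟩
  have hPR : P ≤ R := by
    rw [hP, hR]; intro z hz; exact hPS (mem_omegaOne_zO2 L hz).1.1
  have hP2 : ∀ z ∈ P, z ^ 2 = 1 := by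
    intro z hz; rw [hP] at hz; exact (mem_omegaOne_zO2 L hz).2
  have hPcomm : ∀ u ∈ P, ∀ v ∈ P, u * v = v * u := by
    intro u hu v hv; rw [hP] at hu hv; exact omegaOne_zO2_comm L hu hv
  have hPL : ∀ l ∈ L, ∀ z ∈ P, l * z * l⁻¹ ∈ P := by
    intro l hl z hz; rw [hP] at hz ⊢; exact omegaOne_zO2_conj_mem L hl hz
  have hPRn : ∀ r ∈ R, ∀ z ∈ P, r * z * r⁻¹ ∈ P := by
    intro r hr z hz; rw [hP] at hz ⊢
    exact omegaOne_zO2_conj_mem_of_mem_normalizer L (hPN (hR ▸ hr)) hz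
  -- `R ⊓ L ≤ O_2(L)` centralizes `P`
  have hRL : ∀ c ∈ R, c ∈ L → ∀ z ∈ P, c * z = z * c := by
    intro c hcR hcL z hz
    have hle : R ⊓ L ≤ pCoreTwoOf L := by
      apply le_pCoreTwoOf L _ inf_le_right
      · rw [hR]; exact (pCoreTwoOf_isPGroup H).to_le inf_le_left
      · intro l hl y hy
        refine ⟨?_, L.mul_mem (L.mul_mem hl hy.2) (L.inv_mem hl)⟩
        rw [hR]; exact pCoreTwoOf_conj_mem H (hLH hl) (hR ▸ hy.1)
    have hcO : c ∈ pCoreTwoOf L := hle ⟨hcR, hcL⟩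
    rw [hP] at hz
    exact (Subgroup.mem_centralizer_iff.mp (mem_omegaOne_zO2 L hz).1.2 c hcO)
  -- it suffices to treat elements of odd order
  unfold moduleV
  rw [Subgroup.commutator_eq_bot_iff_le_centralizer, ← hP]
  suffices h : L ≤ Subgroup.centralizer (P : Set G) by
    intro z hz
    rw [Subgroup.mem_centralizer_iff]
    intro l hl
    exact (Subgroup.mem_centralizer_iff.mp (h hl) z hz).symm
  rw [← hL]
  unfold oddGenerated
  rw [Subgroup.closure_le]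
  rintro x ⟨hxL, hxodd⟩
  rw [SetLike.mem_coe, Subgroup.mem_centralizer_iff]
  -- the set `W` of all `x z x⁻¹ z⁻¹`
  by_contra hne
  push_neg at hne
  obtain ⟨z₀, hz₀, hz₀x⟩ := hne
  -- `W` as a subgroup of `G`
  let W : Subgroup G :=
    { carrier := {w | ∃ z ∈ P, w = x * z * x⁻¹ * z⁻¹}
      one_mem' := ⟨1, P.one_mem, by group⟩
      mul_mem' := by
        rintro _ _ ⟨z1, hz1, rfl⟩ ⟨z2, hz2, rfl⟩
        refine ⟨z1 * z2, P.mul_mem hz1 hz2, ?_⟩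
        have ha2 : x * z2 * x⁻¹ ∈ P := hPL x hxL z2 hz2
        have hw2 : x * z2 * x⁻¹ * z2⁻¹ ∈ P := P.mul_mem ha2 (P.inv_mem hz2)
        have h1 := hPcomm _ (P.inv_mem hz1) _ hw2
        calc x * z1 * x⁻¹ * z1⁻¹ * (x * z2 * x⁻¹ * z2⁻¹)
            = x * z1 * x⁻¹ * (z1⁻¹ * (x * z2 * x⁻¹ * z2⁻¹)) := by group
          _ = x * z1 * x⁻¹ * ((x * z2 * x⁻¹ * z2⁻¹) * z1⁻¹) := by rw [h1]
          _ = x * (z1 * z2) * x⁻¹ * (z1 * z2)⁻¹ := by group
      inv_mem' := by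
        rintro _ ⟨z, hz, rfl⟩
        refine ⟨z⁻¹, P.inv_mem hz, ?_⟩
        have ha : x * z * x⁻¹ ∈ P := hPL x hxL z hz
        have h1 := hPcomm _ ha _ (P.inv_mem hz)
        calc (x * z * x⁻¹ * z⁻¹)⁻¹ = (z⁻¹ * (x * z * x⁻¹))⁻¹ := by rw [h1]
          _ = x * z⁻¹ * x⁻¹ * z⁻¹⁻¹ := by group }
  have hWmem : ∀ w, w ∈ W ↔ ∃ z ∈ P, w = x * z * x⁻¹ * z⁻¹ := fun w => Iff.rfl
  have hWP : W ≤ P := by
    rintro _ ⟨z, hz, rfl⟩
    exact P.mul_mem (hPL x hxL z hz) (P.inv_mem hz)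
  have hWR : W ≤ R := hWP.trans hPR
  -- `W` is `R`-invariant
  have hWinv : ∀ r ∈ R, ∀ w ∈ W, r * w * r⁻¹ ∈ W := by
    rintro r hr _ ⟨z, hz, rfl⟩
    refine ⟨r * z * r⁻¹, hPRn r hr z hz, ?_⟩
    -- `c = x⁻¹ r x r⁻¹ ∈ R ⊓ L`
    have hrN : r ∈ Subgroup.normalizer (L : Set G) := hPN (hR ▸ hr)
    have hcL : x⁻¹ * (r * x * r⁻¹) ∈ L := L.mul_mem (L.inv_mem hxL) (conj_mem_of_mem_normalizer hrN hxL)
    have hcR : x⁻¹ * (r * x * r⁻¹) ∈ R := by
      have h1 : x⁻¹ * r * x ∈ R := by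
        have := pCoreTwoOf_conj_mem H (H.inv_mem (hLH hxL)) (hR ▸ hr)
        rw [hR]; simpa using this
      have : x⁻¹ * (r * x * r⁻¹) = (x⁻¹ * r * x) * r⁻¹ := by group
      rw [this]; exact R.mul_mem h1 (R.inv_mem hr)
    have hcz := hRL _ hcR hcL _ (hPRn r hr z hz)
    -- `(x c) z' (x c)⁻¹ = x z' x⁻¹`
    have hkey : (x⁻¹ * (r * x * r⁻¹)) * (r * z * r⁻¹) * (x⁻¹ * (r * x * r⁻¹))⁻¹ = r * z * r⁻¹ := by
      rw [hcz]; group
    calc r * (x * z * x⁻¹ * z⁻¹) * r⁻¹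
        = x * ((x⁻¹ * (r * x * r⁻¹)) * (r * z * r⁻¹) * (x⁻¹ * (r * x * r⁻¹))⁻¹) * x⁻¹ * (r * z * r⁻¹)⁻¹ := by
          group
      _ = x * (r * z * r⁻¹) * x⁻¹ * (r * z * r⁻¹)⁻¹ := by rw [hkey]
  -- `W ≠ ⊥`
  have hWne : W ≠ ⊥ := by
    intro hW
    have : x * z₀ * x⁻¹ * z₀⁻¹ ∈ W := ⟨z₀, hz₀, rfl⟩
    rw [hW, Subgroup.mem_bot] at this
    apply hz₀x
    have h2 : x * z₀ * x⁻¹ * z₀⁻¹ * (z₀ * x) = 1 * (z₀ * x) := by rw [this]
    have h3 : x * z₀ = z₀ * x := by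
      have : x * z₀ * x⁻¹ * z₀⁻¹ * (z₀ * x) = x * z₀ := by group
      rw [← this, h2, one_mul]
    exact h3.symm
  -- a nontrivial element of `W` central in `R`
  haveI hRnil : Group.IsNilpotent ↥R := by
    have : IsPGroup 2 ↥R := by rw [hR]; exact pCoreTwoOf_isPGroup H
    exact this.isNilpotent
  haveI hWn : (W.subgroupOf R).Normal := by
    constructor
    intro n hn r
    rw [Subgroup.mem_subgroupOf] at hn ⊢
    exact hWinv r r.2 n hn
  have hWRne : W.subgroupOf R ≠ ⊥ := by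
    intro h
    apply hWne
    rw [Subgroup.subgroupOf_eq_bot] at h
    exact disjoint_of_le_iff_left_eq_bot hWR |>.mp h
  have hcen := Cfsg.Agent.Lib.Lead.inf_center_ne_bot (W.subgroupOf R) hWRne
  obtain ⟨⟨w, hw⟩, hw1⟩ := (Subgroup.ne_bot_iff_exists_ne_one).mp hcen
  have hw1' : (w : G) ≠ 1 := by
    intro h; apply hw1; apply Subtype.ext; apply Subtype.ext; exact h
  have hwW : (w : G) ∈ W := Subgroup.mem_subgroupOf.mp hw.1
  have hwZ : ∀ r ∈ R, r * (w : G) = (w : G) * r := by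
    intro r hr
    have := (Subgroup.mem_center_iff.mp hw.2) ⟨r, hr⟩
    exact congrArg Subtype.val this
  -- `w ∈ Ω_1 Z(O_2(H))`, so `x` commutes with `w`
  have hwΩ : (w : G) ∈ omegaOne 2 (zO2 H) := by
    apply mem_omegaOne_of H _ (hP2 _ (hWP hwW))
    refine Subgroup.mem_inf.mpr ⟨hR ▸ w.2, ?_⟩
    refine Subgroup.mem_centralizer_iff.mpr ?_
    intro r hr
    exact hwZ r (hR ▸ hr)
  have hxw : (w : G) * x = x * (w : G) := Subgroup.mem_centralizer_iff.mp (hc hxL) _ hwΩ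
  obtain ⟨z, hz, hwz⟩ := (hWmem _).mp hwW
  -- conclude `w = 1`
  have hzx : x * z = z * x := by
    apply comm_of_comm_commutator hxodd (hP2 z hz)
    · exact hPcomm _ (hPL x hxL z hz) _ hz
    · rw [← hwz]; exact hxw.symm
  apply hw1'
  rw [hwz, hzx]; group

end Cfsg.Agent.Lib.QtkeUp
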