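import Mathlib
import Cfsg.Prelude.Def_Quasithin
import Cfsg.Prelude.Def_QuasithinSetup
import Cfsg.Agent.Lib.Helper5.QtkeUpD1
import Cfsg.Agent.Lib.Helper1.QtkeUpA
import Cfsg.Agent.Lib.Helper1.QtkeUpC
import Cfsg.Agent.Lib.Helper8.QtkeUpB

/-!
# S1851 swarm, glue: members of `ℒ_f(G,T)` are upward closed in `ℒ(G,T)`
-/

set_option autoImplicit false

namespace Cfsg.Agent.Lib.QtkeUp

open Cfsg

theorem perfect_of_subgroupOf {G : Type*} [Group G] {K H : Subgroup G} (hKH : K ≤ H)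
    (h : ⁅K.subgroupOf H, K.subgroupOf H⁆ = K.subgroupOf H) : ⁅K, K⁆ = K := by
  have h1 := congrArg (Subgroup.map H.subtype) h
  rw [Subgroup.map_commutator, Subgroup.map_subgroupOf_eq_of_le hKH] at h1
  exact h1

theorem main {G : Type*} [Group G] [Finite G] (hE : IsOfEvenCharacteristic G) (T : Sylow 2 G)
    (L : Subgroup G) (hL : L ∈ calLf (T : Subgroup G)) :
    (∀ K ∈ calL (T : Subgroup G), L ≤ K → K ∈ calLf (T : Subgroup G)) ∧
    ((∀ K ∈ calLf (T : Subgroup G), L ≤ K → K = L) → L ∈ calLfMax (T : Subgroup G)) := by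
  have key : ∀ K ∈ calL (T : Subgroup G), L ≤ K → K ∈ calLf (T : Subgroup G) := by
    intro K hK hLK
    refine ⟨hK, ?_⟩
    obtain ⟨hLL, ⟨⟨hLne, hLodd, _⟩, hLV⟩⟩ := hL
    obtain ⟨⟨_, hKperf, hKsn, _⟩, _, hKO⟩ := hK
    obtain ⟨⟨_, _, hLsn, _⟩, _, _⟩ := hLL
    have hTK : (T : Subgroup G) ≤ K ⊔ T := le_sup_right
    have hTL : (T : Subgroup G) ≤ L ⊔ T := le_sup_right
    have hKK : K ≤ K ⊔ T := le_sup_left
    have hcharK := char2_of_sylow_le hE T (K ⊔ T) hTK hKO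
    have hperf : ⁅K, K⁆ = K := perfect_of_subgroupOf hKK hKperf
    have hKodd := oddGenerated_eq_of_perfect K hperf
    have hKne : K ≠ ⊥ := fun h => hLne (le_bot_iff.mp (h ▸ hLK))
    refine ⟨⟨hKne, hKodd, mem_calHe_of_subnormal (K ⊔ T) K hcharK hKK hKsn⟩, ?_⟩
    intro hV
    apply hLV
    apply moduleV_eq_bot_of_le_centralizer (L ⊔ T) L le_sup_left hLsn hLodd
    have h1 := le_centralizer_of_moduleV_eq_bot (K ⊔ T) K hKK hKsn hKodd hV
    have h2 := omegaOne_center_mono (L ⊔ T) (K ⊔ T) (sup_le_sup_right hLK _)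
      ((pCoreTwoOf_le_sylow T (K ⊔ T) hTK).trans hTL) hcharK
    exact hLK.trans (h1.trans (Subgroup.centralizer_le h2))
  refine ⟨key, ?_⟩
  intro hmax
  refine ⟨⟨hL.1, ?_⟩, hL.2⟩
  intro K hK hLK
  exact hmax K (key K hK hLK) hLK

end Cfsg.Agent.Lib.QtkeUp
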