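import Mathlib

set_option autoImplicit false

namespace Cfsg.Agent.Lib.Helper5.RedGL

open Matrix

section mono
variable {n : ℕ} [NeZero n] {F : Type*} [Field F]

/-- monomial matrix: `(mono t j) a b = t a` if `b = a + j`, zero otherwise. -/
def mono (t : Fin n → F) (j : Fin n) : Matrix (Fin n) (Fin n) F :=
  Matrix.of fun a b => if b = a + j then t a else 0

theorem mono_apply (t : Fin n → F) (j a b : Fin n) :
    mono t j a b = if b = a + j then t a else 0 := rfl

theorem mono_apply_self (t : Fin n → F) (j a : Fin n) : mono t j a (a + j) = t a := by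
  rw [mono_apply, if_pos rfl]

theorem mono_mul (t s : Fin n → F) (j k : Fin n) :
    mono t j * mono s k = mono (fun a => t a * s (a + j)) (j + k) := by
  ext a c
  rw [Matrix.mul_apply, mono_apply]
  rw [Finset.sum_eq_single (a + j)]
  · rw [mono_apply_self, mono_apply]
    by_cases h : c = a + j + k
    · rw [if_pos h, if_pos (by rw [h, add_assoc])]
    · rw [if_neg h, if_neg (by rwa [← add_assoc]), mul_zero]
  · intro b _ hb
    rw [mono_apply, if_neg hb, zero_mul]
  · intro h; exact absurd (Finset.mem_univ _) h

theorem mono_one : mono (fun _ : Fin n => (1 : F)) 0 = 1 := by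
  ext a b
  rw [mono_apply, add_zero, Matrix.one_apply]
  by_cases h : a = b
  · rw [if_pos h.symm, if_pos h]
  · rw [if_neg (Ne.symm h), if_neg h]

theorem mono_zero_eq_diagonal (t : Fin n → F) : mono t 0 = Matrix.diagonal t := by
  ext a b
  rw [mono_apply, add_zero, Matrix.diagonal_apply]
  by_cases h : a = b
  · rw [if_pos h.symm, if_pos h]
  · rw [if_neg (Ne.symm h), if_neg h]

/-- a row of a monomial matrix has at most one nonzero entry. -/
theorem mono_row_unique {t : Fin n → F} {j a b c : Fin n} (hb : mono t j a b ≠ 0)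
    (hc : mono t j a c ≠ 0) : b = c := by
  rw [mono_apply] at hb hc
  have h1 : b = a + j := by
    by_contra h; rw [if_neg h] at hb; exact hb rfl
  have h2 : c = a + j := by
    by_contra h; rw [if_neg h] at hc; exact hc rfl
  rw [h1, h2]

/-- a column of a monomial matrix has at most one nonzero entry. -/
theorem mono_col_unique {t : Fin n → F} {j a b c : Fin n} (ha : mono t j a c ≠ 0)
    (hb : mono t j b c ≠ 0) : a = b := by
  rw [mono_apply] at ha hb
  have h1 : c = a + j := by
    by_contra h; rw [if_neg h] at ha; exact ha rfl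
  have h2 : c = b + j := by
    by_contra h; rw [if_neg h] at hb; exact hb rfl
  exact add_right_cancel (h1.symm.trans h2)

theorem mono_injective {t s : Fin n → F} {j k : Fin n} (ht : ∀ a, t a ≠ 0)
    (h : mono t j = mono s k) : t = s ∧ j = k := by
  have h0 : ∀ a, a + j = a + k ∧ t a = s a := by
    intro a
    have h1 : mono s k a (a + j) = t a := by rw [← h, mono_apply_self]
    rw [mono_apply] at h1
    by_cases h2 : a + j = a + k
    · rw [if_pos h2] at h1; exact ⟨h2, h1.symm⟩
    · rw [if_neg h2] at h1; exact absurd h1.symm (ht a)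
  refine ⟨funext fun a => (h0 a).2, ?_⟩
  exact add_left_cancel (h0 0).1

/-- the monomial matrix as an element of the general linear group. -/
def monoGL (t : Fin n → Fˣ) (j : Fin n) : GL (Fin n) F where
  val := mono (fun a => (t a : F)) j
  inv := mono (fun b => ((t (b - j))⁻¹ : Fˣ)) (-j)
  val_inv := by
    rw [mono_mul, add_neg_cancel]
    convert mono_one (n := n) (F := F) using 2
    funext a
    rw [add_sub_cancel_right]
    simp
  inv_val := by
    rw [mono_mul, neg_add_cancel]
    convert mono_one (n := n) (F := F) using 2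
    funext a
    rw [← sub_eq_add_neg]
    simp

theorem monoGL_val (t : Fin n → Fˣ) (j : Fin n) :
    ((monoGL t j : GL (Fin n) F) : Matrix (Fin n) (Fin n) F) = mono (fun a => (t a : F)) j := rfl

theorem monoGL_mul (t s : Fin n → Fˣ) (j k : Fin n) :
    monoGL t j * monoGL s k = monoGL (fun a => t a * s (a + j)) (j + k) := by
  apply Units.ext
  rw [Units.val_mul, monoGL_val, monoGL_val, monoGL_val, mono_mul]
  congr 1

theorem monoGL_one : monoGL (fun _ : Fin n => (1 : Fˣ)) 0 = (1 : GL (Fin n) F) := by
  apply Units.ext
  rw [monoGL_val, Units.val_one]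
  exact mono_one

theorem monoGL_inv (t : Fin n → Fˣ) (j : Fin n) :
    (monoGL t j)⁻¹ = monoGL (fun b => (t (b - j))⁻¹) (-j) := by
  apply Units.ext
  show (monoGL t j).inv = _
  rfl

theorem monoGL_injective {t s : Fin n → Fˣ} {j k : Fin n} (h : monoGL t j = monoGL s k) :
    t = s ∧ j = k := by
  have h1 := congrArg (fun g : GL (Fin n) F => (g : Matrix (Fin n) (Fin n) F)) h
  simp only [monoGL_val] at h1
  obtain ⟨h2, h3⟩ := mono_injective (fun a => (t a).ne_zero) h1
  refine ⟨funext fun a => Units.ext (congrFun h2 a), h3⟩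

end mono

end Cfsg.Agent.Lib.Helper5.RedGL
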