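import Mathlib
import Cfsg.Agent.Lib.Helper5.RedGL1

set_option autoImplicit false

namespace Cfsg.Agent.Lib.Helper5.RedGL

open Matrix

section Q
variable (p : ℕ) [NeZero p] (F : Type*) [Field F]

/-- the monomial subgroup with entries in the `p`-th roots of unity and cyclic permutation part. -/
def QQ : Subgroup (GL (Fin p) F) where
  carrier := {g | ∃ (t : Fin p → Fˣ) (j : Fin p), (∀ a, t a ^ p = 1) ∧ g = monoGL t j}
  mul_mem' := by
    rintro _ _ ⟨t, j, ht, rfl⟩ ⟨s, k, hs, rfl⟩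
    refine ⟨_, _, ?_, monoGL_mul t s j k⟩
    intro a
    rw [mul_pow, ht, hs, one_mul]
  one_mem' := ⟨_, _, fun _ => one_pow _, monoGL_one.symm⟩
  inv_mem' := by
    rintro _ ⟨t, j, ht, rfl⟩
    refine ⟨_, _, ?_, monoGL_inv t j⟩
    intro a
    rw [inv_pow, ht, inv_one]

variable {p F}

theorem mem_QQ_iff (g : GL (Fin p) F) :
    g ∈ QQ p F ↔ ∃ (t : Fin p → Fˣ) (j : Fin p), (∀ a, t a ^ p = 1) ∧ g = monoGL t j := Iff.rfl

theorem monoGL_mem_QQ {t : Fin p → Fˣ} (ht : ∀ a, t a ^ p = 1) (j : Fin p) :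
    monoGL t j ∈ QQ p F := ⟨t, j, ht, rfl⟩

/-- parametrization of `QQ`. -/
noncomputable def QQequiv : ((Fin p → rootsOfUnity p F) × Fin p) ≃ QQ p F :=
  Equiv.ofBijective
    (fun x => ⟨monoGL (fun a => ((x.1 a : rootsOfUnity p F) : Fˣ)) x.2,
      monoGL_mem_QQ (fun a => (mem_rootsOfUnity _ _).mp (x.1 a).2) x.2⟩)
    (by
      constructor
      · rintro ⟨t, j⟩ ⟨s, k⟩ h
        have h1 := congrArg Subtype.val h
        obtain ⟨h2, h3⟩ := monoGL_injective h1
        simp only at h3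
        subst h3
        congr 1
        funext a
        exact Subtype.ext (congrFun h2 a)
      · rintro ⟨g, t, j, ht, rfl⟩
        refine ⟨⟨fun a => ⟨t a, (mem_rootsOfUnity _ _).mpr (ht a)⟩, j⟩, ?_⟩
        rfl)

theorem card_QQ [Finite F] (h : Nat.card (rootsOfUnity p F) = p) :
    Nat.card (QQ p F) = p ^ (p + 1) := by
  rw [← Nat.card_congr (QQequiv (p := p) (F := F)), Nat.card_prod, Nat.card_pi, Finset.prod_const,
    Finset.card_univ, Fintype.card_fin, h, Nat.card_eq_fintype_card, Fintype.card_fin, pow_succ]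

end Q

section roots
variable {F : Type*} [Field F] [Fintype F]

theorem exists_unit_orderOf {p : ℕ} [Fact p.Prime] (h1 : p ∣ Fintype.card F - 1) :
    ∃ ζ : Fˣ, orderOf ζ = p := by
  classical
  have h2 : p ∣ Nat.card Fˣ := by
    rw [Nat.card_eq_fintype_card, Fintype.card_units]; exact h1
  exact exists_prime_orderOf_dvd_card' p h2

theorem card_rootsOfUnity_eq {p : ℕ} [Fact p.Prime] (h1 : p ∣ Fintype.card F - 1) :
    Nat.card (rootsOfUnity p F) = p := by
  haveI : NeZero p := ⟨(Fact.out : p.Prime).ne_zero⟩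
  obtain ⟨ζ, hζ⟩ := exists_unit_orderOf (F := F) h1
  have h2 : IsPrimitiveRoot ζ p := by
    rw [← hζ]; exact IsPrimitiveRoot.orderOf ζ
  exact h2.card_rootsOfUnity'

end roots

end Cfsg.Agent.Lib.Helper5.RedGL
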