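import Mathlib
import Cfsg.Agent.Lib.Helper5.RedGL2

set_option autoImplicit false

namespace Cfsg.Agent.Lib.Helper5.RedGL

open Matrix

theorem padic_sub_one {p q : ℕ} [Fact p.Prime] (h1 : p ∣ q - 1) (h2 : ¬ p ^ 2 ∣ q - 1) :
    padicValNat p (q - 1) = 1 := by
  have h0 : q - 1 ≠ 0 := by
    intro h
    rw [h] at h2
    exact h2 (dvd_zero _)
  have h3 : 1 ≤ padicValNat p (q - 1) := by
    rw [← padicValNat_dvd_iff_le h0, pow_one]; exact h1
  have h4 : ¬ 2 ≤ padicValNat p (q - 1) := by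
    rw [← padicValNat_dvd_iff_le h0]; exact h2
  omega

theorem factorization_term {p q : ℕ} [Fact p.Prime] (hp : p ≠ 2) (h1 : p ∣ q - 1)
    (h2 : ¬ p ^ 2 ∣ q - 1) (i : ℕ) (hi : i < p) :
    (q ^ p - q ^ i ≠ 0) ∧ (q ^ p - q ^ i).factorization p = 1 + if i = 0 then 1 else 0 := by
  have hpp : p.Prime := Fact.out
  have hodd : Odd p := hpp.odd_of_ne_two hp
  have hq1 : q - 1 ≠ 0 := by
    intro h
    rw [h] at h2
    exact h2 (dvd_zero _)
  have hq : 1 < q := by omega
  have hndvd : ¬ p ∣ q := by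
    intro h
    have h3 : p ∣ q - (q - 1) := Nat.dvd_sub h h1
    have h4 : q - (q - 1) = 1 := by omega
    rw [h4] at h3
    exact hpp.one_lt.ne' (Nat.dvd_one.mp h3)
  set m := p - i with hm
  have hm0 : m ≠ 0 := by omega
  have e1 : q ^ p - q ^ i = q ^ i * (q ^ m - 1) := by
    have : q ^ p = q ^ i * q ^ m := by rw [← pow_add]; congr 1; omega
    rw [this, Nat.mul_sub_one]
  have hqm : 1 < q ^ m := Nat.one_lt_pow hm0 hq
  have hne1 : q ^ i ≠ 0 := pow_ne_zero _ (by omega)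
  have hne2 : q ^ m - 1 ≠ 0 := by omega
  refine ⟨by rw [e1]; exact mul_ne_zero hne1 hne2, ?_⟩
  rw [e1, Nat.factorization_mul hne1 hne2, Finsupp.add_apply, Nat.factorization_pow,
    Finsupp.smul_apply, Nat.factorization_eq_zero_of_not_dvd hndvd, smul_zero, zero_add,
    Nat.factorization_def _ hpp]
  have h5 : padicValNat p (q ^ m - 1 ^ m) = padicValNat p (q - 1) + padicValNat p m :=
    padicValNat.pow_sub_pow hodd hq h1 hndvd hm0
  rw [one_pow, padic_sub_one h1 h2] at h5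
  rw [h5]
  congr 1
  by_cases hi0 : i = 0
  · rw [if_pos hi0]
    have : m = p := by omega
    rw [this, padicValNat_self]
  · rw [if_neg hi0]
    apply padicValNat.eq_zero_of_not_dvd
    intro h
    have := Nat.le_of_dvd (by omega) h
    omega

variable {F : Type*} [Field F] [Fintype F]

theorem factorization_card_GL {p : ℕ} [Fact p.Prime] (hp : p ≠ 2)
    (h1 : p ∣ Fintype.card F - 1) (h2 : ¬ p ^ 2 ∣ Fintype.card F - 1) :
    (Nat.card (GL (Fin p) F)).factorization p = p + 1 := by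
  have hpp : p.Prime := Fact.out
  rw [Matrix.card_GL_field, Nat.factorization_prod
    (fun i _ => (factorization_term hp h1 h2 i.1 i.2).1), Finsupp.finset_sum_apply]
  have h3 : ∀ i : Fin p, (Fintype.card F ^ p - Fintype.card F ^ (i : ℕ)).factorization p =
      (fun k : ℕ => 1 + if k = 0 then 1 else 0) (i : ℕ) :=
    fun i => (factorization_term hp h1 h2 i.1 i.2).2
  rw [Finset.sum_congr rfl (fun i _ => h3 i), Fin.sum_univ_eq_sum_range
    (fun k : ℕ => 1 + if k = 0 then 1 else 0) p, Finset.sum_add_distrib, Finset.sum_const,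
    Finset.card_range, smul_eq_mul, mul_one, Finset.sum_ite_eq' (Finset.range p) 0 (fun _ => 1),
    if_pos (Finset.mem_range.mpr hpp.pos)]

/-- the monomial group as a Sylow subgroup. -/
noncomputable def QSylow (p : ℕ) [Fact p.Prime] (hp : p ≠ 2)
    (h1 : p ∣ Fintype.card F - 1) (h2 : ¬ p ^ 2 ∣ Fintype.card F - 1) :
    Sylow p (GL (Fin p) F) :=
  haveI : NeZero p := ⟨(Fact.out : p.Prime).ne_zero⟩
  Sylow.ofCard (QQ p F) (by
    rw [factorization_card_GL hp h1 h2]
    exact card_QQ (card_rootsOfUnity_eq h1))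

theorem coe_QSylow (p : ℕ) [Fact p.Prime] (hp : p ≠ 2)
    (h1 : p ∣ Fintype.card F - 1) (h2 : ¬ p ^ 2 ∣ Fintype.card F - 1) :
    haveI : NeZero p := ⟨(Fact.out : p.Prime).ne_zero⟩
    ((QSylow p hp h1 h2 : Sylow p (GL (Fin p) F)) : Subgroup (GL (Fin p) F)) = QQ p F :=
  Sylow.coe_ofCard _ _

end Cfsg.Agent.Lib.Helper5.RedGL
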