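import Mathlib

set_option autoImplicit false

namespace Cfsg.Agent.Lib.Helper5.RedSyl

variable {G : Type*} [Group G]

/-- redundancy of a Sylow subgroup: every element of prime power order lies in another one. -/
def Red (p : ℕ) (Q : Sylow p G) : Prop :=
  ∀ x : G, (∃ k : ℕ, orderOf x = p ^ k) → ∃ P : Sylow p G, P ≠ Q ∧ x ∈ P

theorem sylow_eq_of_le {p : ℕ} {P Q : Sylow p G} (h : (Q : Subgroup G) ≤ P) : P = Q :=
  Sylow.ext (Q.3 P.2 h)

theorem exists_pow_of_mem {p : ℕ} [Fact p.Prime] (Q : Sylow p G) {x : G} (hx : x ∈ Q) :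
    ∃ k : ℕ, orderOf x = p ^ k := by
  obtain ⟨k, hk⟩ := (IsPGroup.iff_orderOf.mp Q.2) ⟨x, hx⟩
  refine ⟨k, ?_⟩
  rw [← hk]
  exact (Subgroup.orderOf_mk x hx).symm

variable [Finite G]

theorem exists_sylow_of_pow {p : ℕ} [Fact p.Prime] {x : G} (hx : ∃ k : ℕ, orderOf x = p ^ k) :
    ∃ P : Sylow p G, x ∈ P := by
  obtain ⟨k, hk⟩ := hx
  have h1 : IsPGroup p (Subgroup.zpowers x) := by
    apply IsPGroup.of_card (n := k)
    rw [Nat.card_zpowers, hk]
  obtain ⟨P, hP⟩ := h1.exists_le_sylow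
  exact ⟨P, hP (Subgroup.mem_zpowers x)⟩

theorem red_iff {p : ℕ} [Fact p.Prime] (Q : Sylow p G) :
    Red p Q ↔ ∀ x ∈ (Q : Subgroup G), ∃ P : Sylow p G, P ≠ Q ∧ x ∈ P := by
  constructor
  · intro h x hx
    exact h x (exists_pow_of_mem Q hx)
  · intro h x hx
    by_cases hxQ : x ∈ Q
    · exact h x hxQ
    · obtain ⟨P, hP⟩ := exists_sylow_of_pow hx
      refine ⟨P, ?_, hP⟩
      intro hPQ
      rw [hPQ] at hP
      exact hxQ hP

/-- `x` lies in at most one Sylow subgroup. -/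
def Uniq (p : ℕ) (x : G) : Prop := ∀ P P' : Sylow p G, x ∈ P → x ∈ P' → P = P'

theorem mem_smul_iff {p : ℕ} (g x : G) (P : Sylow p G) : x ∈ g • P ↔ g⁻¹ * x * g ∈ P := by
  show x ∈ ((g • P : Sylow p G) : Subgroup G) ↔ _
  rw [Sylow.coe_subgroup_smul, Subgroup.mem_pointwise_smul_iff_inv_smul_mem]
  simp [MulAut.smul_def, mul_assoc]
  rfl

theorem uniq_conj {p : ℕ} {x : G} (h : Uniq p x) (g : G) : Uniq p (g * x * g⁻¹) := by
  intro P P' hP hP'
  have h1 : x ∈ g⁻¹ • P := by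
    rw [mem_smul_iff]; simpa using hP
  have h2 : x ∈ g⁻¹ • P' := by
    rw [mem_smul_iff]; simpa using hP'
  have h3 := h _ _ h1 h2
  have h4 := congrArg (fun R : Sylow p G => g • R) h3
  simpa using h4

theorem not_red_of_uniq {p : ℕ} [Fact p.Prime] {x : G} (hx : ∃ k : ℕ, orderOf x = p ^ k)
    (h : Uniq p x) (Q : Sylow p G) : ¬ Red p Q := by
  intro hQ
  obtain ⟨Q₀, hQ₀⟩ := exists_sylow_of_pow hx
  obtain ⟨g, hg⟩ := MulAction.exists_smul_eq G Q₀ Q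
  have hxg : g * x * g⁻¹ ∈ Q := by
    rw [← hg, mem_smul_iff]
    have : g⁻¹ * (g * x * g⁻¹) * g = x := by group
    rw [this]; exact hQ₀
  obtain ⟨P, hPQ, hP⟩ := (red_iff Q).mp hQ _ hxg
  exact hPQ (uniq_conj h g P Q hP hxg)

theorem red_of_two {p : ℕ} [Fact p.Prime] (Q : Sylow p G)
    (h : ∀ x ∈ (Q : Subgroup G), ∃ P₁ P₂ : Sylow p G, P₁ ≠ P₂ ∧ x ∈ P₁ ∧ x ∈ P₂) : Red p Q := by
  rw [red_iff]
  intro x hx
  obtain ⟨P₁, P₂, hne, h1, h2⟩ := h x hx
  by_cases hP : P₁ = Q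
  · refine ⟨P₂, ?_, h2⟩
    intro h3
    exact hne (hP.trans h3.symm)
  · exact ⟨P₁, hP, h1⟩

/-- a cyclic Sylow subgroup is not redundant. -/
theorem not_red_of_cyclic {p : ℕ} [Fact p.Prime] (Q : Sylow p G)
    (hc : IsCyclic (Q : Subgroup G)) : ¬ Red p Q := by
  intro hQ
  obtain ⟨g, hg⟩ := hc.exists_generator
  obtain ⟨P, hPQ, hP⟩ := (red_iff Q).mp hQ g.1 g.2
  apply hPQ
  apply sylow_eq_of_le
  intro y hy
  obtain ⟨i, hi⟩ := Subgroup.mem_zpowers_iff.mp (hg ⟨y, hy⟩)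
  have h1 : y = g.1 ^ i := by
    have := congrArg Subtype.val hi
    simpa using this.symm
  rw [h1]
  exact (P : Subgroup G).zpow_mem hP i

/-- a central element of prime power order lies in every Sylow subgroup. -/
theorem central_mem_sylow {p : ℕ} [Fact p.Prime] {z : G} (hz : z ∈ Subgroup.center G)
    (hzp : ∃ k : ℕ, orderOf z = p ^ k) (P : Sylow p G) : z ∈ P := by
  obtain ⟨k, hk⟩ := hzp
  have h1 : IsPGroup p (Subgroup.zpowers z) := by
    apply IsPGroup.of_card (n := k)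
    rw [Nat.card_zpowers, hk]
  haveI : (Subgroup.zpowers z).Normal := by
    refine ⟨fun n hn g => ?_⟩
    obtain ⟨i, rfl⟩ := Subgroup.mem_zpowers_iff.mp hn
    have hc : g * z ^ i * g⁻¹ = z ^ i := by
      have h2 : z ^ i ∈ Subgroup.center G := (Subgroup.center G).zpow_mem hz i
      rw [Subgroup.mem_center_iff] at h2
      rw [h2 g]; group
    rw [hc]
    exact Subgroup.mem_zpowers_iff.mpr ⟨i, rfl⟩
  have h2 : IsPGroup p ((P : Subgroup G) ⊔ Subgroup.zpowers z : Subgroup G) :=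
    IsPGroup.to_sup_of_normal_right P.2 h1
  have h3 := P.3 h2 le_sup_left
  have h4 : z ∈ (P : Subgroup G) ⊔ Subgroup.zpowers z :=
    (le_sup_right : Subgroup.zpowers z ≤ _) (Subgroup.mem_zpowers z)
  rw [h3] at h4
  exact h4

end Cfsg.Agent.Lib.Helper5.RedSyl
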