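import Mathlib
import Cfsg.Agent.Lib.Helper5.RedGL3
import Cfsg.Agent.Lib.Helper5.RedSyl1

set_option autoImplicit false

namespace Cfsg.Agent.Lib.Helper5.RedGL

open Matrix Cfsg.Agent.Lib.Helper5.RedSyl

section tools
variable {n : ℕ} [NeZero n] {F : Type*} [Field F]

theorem not_mem_QQ_of_row {g : GL (Fin n) F} {a b c : Fin n} (hbc : b ≠ c)
    (hb : (g : Matrix (Fin n) (Fin n) F) a b ≠ 0) (hc : (g : Matrix (Fin n) (Fin n) F) a c ≠ 0) :
    g ∉ QQ n F := by
  rintro ⟨t, j, -, rfl⟩
  rw [monoGL_val] at hb hc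
  exact hbc (mono_row_unique hb hc)

theorem not_mem_QQ_of_col {g : GL (Fin n) F} {a b c : Fin n} (hab : a ≠ b)
    (ha : (g : Matrix (Fin n) (Fin n) F) a c ≠ 0) (hb : (g : Matrix (Fin n) (Fin n) F) b c ≠ 0) :
    g ∉ QQ n F := by
  rintro ⟨t, j, -, rfl⟩
  rw [monoGL_val] at ha hb
  exact hab (mono_col_unique ha hb)

/-- the test element: diagonal with one entry `z` and the others `1`. -/
def yy (a : Fin n) (z : Fˣ) : GL (Fin n) F := monoGL (Function.update (fun _ => 1) a z) 0

theorem yy_mem {a : Fin n} {z : Fˣ} (hz : z ^ n = 1) : yy a z ∈ QQ n F := by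
  apply monoGL_mem_QQ
  intro b
  by_cases h : b = a
  · rw [h, Function.update_self]; exact hz
  · rw [Function.update_of_ne h]; exact one_pow _

theorem yy_val (a : Fin n) (z : Fˣ) :
    ((yy a z : GL (Fin n) F) : Matrix (Fin n) (Fin n) F) =
      Matrix.diagonal (Function.update (fun _ => (1 : F)) a (z : F)) := by
  unfold yy
  rw [monoGL_val, mono_zero_eq_diagonal]
  congr 1
  funext b
  by_cases h : b = a
  · rw [h, Function.update_self, Function.update_self]
  · rw [Function.update_of_ne h, Function.update_of_ne h, Units.val_one]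

/-- entries of a conjugate of the test element. -/
theorem conj_yy_apply (g : GL (Fin n) F) (a : Fin n) (z : Fˣ) (b c : Fin n) :
    ((g * yy a z * g⁻¹ : GL (Fin n) F) : Matrix (Fin n) (Fin n) F) b c =
      (1 : Matrix (Fin n) (Fin n) F) b c +
        (g : Matrix (Fin n) (Fin n) F) b a * ((z : F) - 1) *
          ((g⁻¹ : GL (Fin n) F) : Matrix (Fin n) (Fin n) F) a c := by
  have h1 : (g : Matrix (Fin n) (Fin n) F) * ((g⁻¹ : GL (Fin n) F) : Matrix (Fin n) (Fin n) F) = 1 := by
    rw [← Units.val_mul, mul_inv_cancel, Units.val_one]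
  rw [Units.val_mul, Units.val_mul, yy_val, Matrix.mul_apply]
  have h2 : ∀ i : Fin n, ((g : Matrix (Fin n) (Fin n) F) *
      Matrix.diagonal (Function.update (fun _ => (1 : F)) a (z : F))) b i *
        ((g⁻¹ : GL (Fin n) F) : Matrix (Fin n) (Fin n) F) i c =
      (g : Matrix (Fin n) (Fin n) F) b i * ((g⁻¹ : GL (Fin n) F) : Matrix (Fin n) (Fin n) F) i c +
        (g : Matrix (Fin n) (Fin n) F) b i *
          (Function.update (fun _ => (1 : F)) a (z : F) i - 1) *
          ((g⁻¹ : GL (Fin n) F) : Matrix (Fin n) (Fin n) F) i c := by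
    intro i
    rw [Matrix.mul_diagonal]
    ring
  rw [Finset.sum_congr rfl (fun i _ => h2 i), Finset.sum_add_distrib, ← Matrix.mul_apply, h1]
  congr 1
  rw [Finset.sum_eq_single a]
  · rw [Function.update_self]
  · intro i _ hi
    rw [Function.update_of_ne hi, sub_self, mul_zero, zero_mul]
  · intro h; exact absurd (Finset.mem_univ _) h

end tools

section sylow
variable {p : ℕ} [Fact p.Prime] {F : Type*} [Field F] [Fintype F]

theorem exists_other_of_conj {G : Type*} [Group G] [Finite G] {Q : Sylow p G} {g x : G}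
    (hx : g⁻¹ * x * g ∈ Q)
    (hg : g ∉ Subgroup.normalizer ((Q : Subgroup G) : Set G)) :
    ∃ P : Sylow p G, P ≠ Q ∧ x ∈ P := by
  refine ⟨g • Q, ?_, (mem_smul_iff g x Q).mpr hx⟩
  intro h
  exact hg (Sylow.smul_eq_iff_mem_normalizer.mp h)

theorem not_mem_normalizer_of {G : Type*} [Group G] {H : Subgroup G} {g y : G} (hy : y ∈ H)
    (h : g * y * g⁻¹ ∉ H) : g ∉ Subgroup.normalizer (H : Set G) := by
  intro hg
  exact h ((Subgroup.mem_normalizer_iff.mp hg y).mp hy)

end sylow

end Cfsg.Agent.Lib.Helper5.RedGL
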