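import Mathlib
import Cfsg.Agent.Lib.Helper5.RedGL4

set_option autoImplicit false

namespace Cfsg.Agent.Lib.Helper5.RedGL

open Matrix Cfsg.Agent.Lib.Helper5.RedSyl

section caseA
variable {n : ℕ} [NeZero n] {F : Type*} [Field F]

/-- transvection as an element of `GL`. -/
def trGL (a b : Fin n) (hab : a ≠ b) : GL (Fin n) F where
  val := transvection a b 1
  inv := transvection a b (-1)
  val_inv := by rw [transvection_mul_transvection_same a b hab, add_neg_cancel, transvection_zero]
  inv_val := by rw [transvection_mul_transvection_same a b hab, neg_add_cancel, transvection_zero]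

theorem trGL_val (a b : Fin n) (hab : a ≠ b) :
    ((trGL a b hab : GL (Fin n) F) : Matrix (Fin n) (Fin n) F) = transvection a b 1 := rfl

theorem trGL_inv_val (a b : Fin n) (hab : a ≠ b) :
    (((trGL a b hab)⁻¹ : GL (Fin n) F) : Matrix (Fin n) (Fin n) F) = transvection a b (-1) := rfl

theorem trGL_commute (a b : Fin n) (hab : a ≠ b) (t : Fin n → Fˣ) (h : t a = t b) :
    (trGL a b hab : GL (Fin n) F) * monoGL t 0 = monoGL t 0 * trGL a b hab := by
  apply Units.ext
  rw [Units.val_mul, Units.val_mul, trGL_val, monoGL_val, mono_zero_eq_diagonal]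
  ext i k
  by_cases hi : i = a
  · subst hi
    rw [transvection_mul_apply_same]
    by_cases hk : k = b
    · subst hk
      rw [mul_transvection_apply_same, Matrix.diagonal_apply_ne _ hab, Matrix.diagonal_apply_eq,
        Matrix.diagonal_apply_eq, h]
    · rw [mul_transvection_apply_of_ne _ _ _ _ hk, Matrix.diagonal_apply_ne _ (Ne.symm hk),
        mul_zero, add_zero]
  · rw [transvection_mul_apply_of_ne _ _ _ _ hi]
    by_cases hk : k = b
    · subst hk
      rw [mul_transvection_apply_same, Matrix.diagonal_apply_ne _ hi, mul_zero, add_zero]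
    · rw [mul_transvection_apply_of_ne _ _ _ _ hk]

theorem transvection_apply_same' (a b : Fin n) (hab : a ≠ b) (c : F) :
    (transvection a b c : Matrix (Fin n) (Fin n) F) a a = 1 := by
  unfold transvection
  rw [Matrix.add_apply, Matrix.one_apply_eq, Matrix.single_apply_of_ne, add_zero]
  intro h; exact hab h.2.symm

theorem transvection_apply_off (a b : Fin n) (hab : a ≠ b) (c : F) :
    (transvection a b c : Matrix (Fin n) (Fin n) F) a b = c := by
  unfold transvection
  rw [Matrix.add_apply, Matrix.one_apply_ne hab, Matrix.single_apply_same, zero_add]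

theorem trGL_not_normalizer (a b : Fin n) (hab : a ≠ b) {z : Fˣ} (hz : z ^ n = 1) (hz1 : z ≠ 1) :
    (trGL a b hab : GL (Fin n) F) ∉ Subgroup.normalizer ((QQ n F : Subgroup (GL (Fin n) F)) :
      Set (GL (Fin n) F)) := by
  apply not_mem_normalizer_of (yy_mem (a := a) hz)
  have hz1' : (z : F) - 1 ≠ 0 := by
    intro h
    apply hz1
    apply Units.ext
    rw [Units.val_one]
    exact sub_eq_zero.mp h
  apply not_mem_QQ_of_row hab (a := a)
  · rw [conj_yy_apply, trGL_val, trGL_inv_val, Matrix.one_apply_eq, transvection_apply_same' a b hab,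
      transvection_apply_same' a b hab, one_mul, mul_one]
    have : (1 : F) + ((z : F) - 1) = z := by ring
    rw [this]
    exact z.ne_zero
  · rw [conj_yy_apply, trGL_val, trGL_inv_val, Matrix.one_apply_ne hab,
      transvection_apply_same' a b hab, transvection_apply_off a b hab, one_mul, zero_add]
    intro h
    apply hz1'
    have : ((z : F) - 1) * -1 = -((z : F) - 1) := by ring
    rw [this, neg_eq_zero] at h
    exact h

end caseA

end Cfsg.Agent.Lib.Helper5.RedGL
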