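import Mathlib
import Cfsg.Agent.Lib.Helper5.RedGL5

set_option autoImplicit false

namespace Cfsg.Agent.Lib.Helper5.RedGL

open Matrix Cfsg.Agent.Lib.Helper5.RedSyl

section caseB
variable {n : ℕ} [NeZero n] {F : Type*} [Field F]

theorem pow_mod_of_pow_eq_one {x : F} (h : x ^ n = 1) (k : ℕ) : x ^ (k % n) = x ^ k := by
  conv_rhs => rw [← Nat.div_add_mod k n, pow_add, pow_mul, h, one_pow, one_mul]

/-- transposed Vandermonde matrix `W i j = d j ^ i`. -/
def WW (d : Fin n → F) : Matrix (Fin n) (Fin n) F := (Matrix.vandermonde d)ᵀ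

theorem WW_apply (d : Fin n → F) (i j : Fin n) : WW d i j = d j ^ (i : ℕ) := by
  simp [WW, Matrix.vandermonde_apply]

theorem det_WW_ne_zero {d : Fin n → F} (hd : Function.Injective d) : (WW d).det ≠ 0 := by
  rw [WW, Matrix.det_transpose]
  exact Matrix.det_vandermonde_ne_zero_iff.mpr hd

theorem shift_mul_WW (d : Fin n → F) (hd : ∀ j, d j ^ n = 1) :
    mono (fun _ : Fin n => (1 : F)) 1 * WW d = WW d * Matrix.diagonal d := by
  ext a j
  rw [Matrix.mul_apply, Finset.sum_eq_single (a + 1)]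
  · rw [mono_apply_self, one_mul, Matrix.mul_diagonal, WW_apply, WW_apply, ← pow_succ]
    have h1 : ((a + 1 : Fin n) : ℕ) = ((a : ℕ) + 1) % n := by
      rw [Fin.val_add, Fin.val_one', Nat.add_mod_mod]
    rw [h1, pow_mod_of_pow_eq_one (hd j)]
  · intro b _ hb
    rw [mono_apply, if_neg hb, zero_mul]
  · intro h; exact absurd (Finset.mem_univ _) h

/-- the Vandermonde matrix as an element of `GL`. -/
noncomputable def WGL (d : Fin n → Fˣ) (hd : Function.Injective d) : GL (Fin n) F :=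
  Matrix.GeneralLinearGroup.mkOfDetNeZero (WW (fun j => (d j : F)))
    (det_WW_ne_zero (fun a b h => hd (Units.ext h)))

theorem WGL_val (d : Fin n → Fˣ) (hd : Function.Injective d) :
    ((WGL d hd : GL (Fin n) F) : Matrix (Fin n) (Fin n) F) = WW (fun j => (d j : F)) := rfl

theorem shift_mul_WGL (d : Fin n → Fˣ) (hd : Function.Injective d) (hdp : ∀ j, d j ^ n = 1) :
    (monoGL (fun _ => 1) 1 : GL (Fin n) F) * WGL d hd = WGL d hd * monoGL d 0 := by
  apply Units.ext
  rw [Units.val_mul, Units.val_mul, WGL_val, monoGL_val, monoGL_val, mono_zero_eq_diagonal]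
  have := shift_mul_WW (fun j => (d j : F)) (fun j => by rw [← Units.val_pow_eq_pow_val, hdp j, Units.val_one])
  simp only [Units.val_one]
  exact this

theorem WGL_not_normalizer (d : Fin n → Fˣ) (hd : Function.Injective d)
    (h10 : (1 : Fin n) ≠ 0) (h20 : (1 + 1 : Fin n) ≠ 0) {z : Fˣ} (hz : z ^ n = 1) (hz1 : z ≠ 1) :
    (WGL d hd : GL (Fin n) F) ∉ Subgroup.normalizer ((QQ n F : Subgroup (GL (Fin n) F)) :
      Set (GL (Fin n) F)) := by
  apply not_mem_normalizer_of (yy_mem (a := 0) hz)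
  have hz1' : (z : F) - 1 ≠ 0 := by
    intro h
    apply hz1
    apply Units.ext
    rw [Units.val_one]
    exact sub_eq_zero.mp h
  -- a nonzero entry in row `0` of the inverse
  obtain ⟨c, hc⟩ : ∃ c : Fin n,
      (((WGL d hd)⁻¹ : GL (Fin n) F) : Matrix (Fin n) (Fin n) F) 0 c ≠ 0 := by
    by_contra hcon
    push Not at hcon
    have h1 : (((WGL d hd)⁻¹ : GL (Fin n) F) : Matrix (Fin n) (Fin n) F) *
        ((WGL d hd : GL (Fin n) F) : Matrix (Fin n) (Fin n) F) = 1 := by
      rw [← Units.val_mul, inv_mul_cancel, Units.val_one]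
    have h2 := congrFun (congrFun h1 0) 0
    rw [Matrix.mul_apply, Matrix.one_apply_eq] at h2
    rw [Finset.sum_eq_zero (fun i _ => by rw [hcon i, zero_mul])] at h2
    exact zero_ne_one h2
  have hne : ∀ b : Fin n, b ≠ c →
      ((WGL d hd * yy 0 z * (WGL d hd)⁻¹ : GL (Fin n) F) : Matrix (Fin n) (Fin n) F) b c ≠ 0 := by
    intro b hb
    rw [conj_yy_apply, Matrix.one_apply_ne hb, zero_add, WGL_val, WW_apply]
    exact mul_ne_zero (mul_ne_zero (pow_ne_zero _ (d 0).ne_zero) hz1') hc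
  have h12 : c + 1 ≠ c + (1 + 1) := by
    intro h
    have h3 : (1 : Fin n) = 1 + 1 := add_left_cancel h
    apply h10
    exact (add_eq_left.mp h3.symm)
  apply not_mem_QQ_of_col h12 (c := c)
  · apply hne
    intro h
    exact h10 (add_eq_left.mp h)
  · apply hne
    intro h
    exact h20 (add_eq_left.mp h)

end caseB

end Cfsg.Agent.Lib.Helper5.RedGL
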