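import Mathlib
import Cfsg.Agent.Lib.Helper5.RedGL6

set_option autoImplicit false

namespace Cfsg.Agent.Lib.Helper5.RedGL

open Matrix Cfsg.Agent.Lib.Helper5.RedSyl

section fin
variable {p : ℕ} [Fact p.Prime] [NeZero p]

theorem exists_nsmul_eq {j : Fin p} (hj : j ≠ 0) (b : Fin p) : ∃ k : ℕ, k • j = b := by
  have h1 : AddSubgroup.zmultiples j = ⊤ :=
    zmultiples_eq_top_of_prime_card (p := p) (by rw [Nat.card_eq_fintype_card, Fintype.card_fin]) hj
  have h2 : b ∈ AddSubgroup.zmultiples j := by rw [h1]; exact AddSubgroup.mem_top b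
  rw [← mem_multiples_iff_mem_zmultiples] at h2
  exact (AddSubmonoid.mem_multiples_iff b j).mp h2

theorem prime_nsmul_eq_zero (j : Fin p) : p • j = 0 := by
  have := card_nsmul_eq_zero (x := j)
  rwa [Fintype.card_fin] at this

theorem nsmul_ne_zero_of_lt {j : Fin p} (hj : j ≠ 0) {i : ℕ} (hi0 : 0 < i) (hip : i < p) :
    i • j ≠ 0 := by
  intro h
  have h1 : addOrderOf j = p := addOrderOf_eq_prime (prime_nsmul_eq_zero j) hj
  have h2 : addOrderOf j ∣ i := addOrderOf_dvd_of_nsmul_eq_zero h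
  rw [h1] at h2
  have := Nat.le_of_dvd hi0 h2
  omega

end fin

section pow
variable {p : ℕ} [Fact p.Prime] [NeZero p] {F : Type*} [Field F]

theorem monoGL_pow (t : Fin p → Fˣ) (ht : ∀ a, t a ^ p = 1) (j : Fin p) (i : ℕ) :
    ∃ τ : Fin p → Fˣ, (∀ a, τ a ^ p = 1) ∧ (monoGL t j) ^ i = monoGL τ (i • j) := by
  induction i with
  | zero =>
    refine ⟨fun _ => 1, fun _ => one_pow _, ?_⟩
    rw [pow_zero, zero_nsmul, monoGL_one]
  | succ i ih =>
    obtain ⟨τ, hτ, h⟩ := ih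
    refine ⟨fun a => τ a * t (a + i • j), ?_, ?_⟩
    · intro a
      rw [mul_pow, hτ, ht, one_mul]
    · rw [pow_succ, h, monoGL_mul, succ_nsmul]

theorem shift_pow (i : ℕ) :
    (monoGL (fun _ => 1) 1 : GL (Fin p) F) ^ i = monoGL (fun _ => 1) (i • (1 : Fin p)) := by
  induction i with
  | zero => rw [pow_zero, zero_nsmul, monoGL_one]
  | succ i ih =>
    rw [pow_succ, ih, monoGL_mul, succ_nsmul]
    congr 1
    funext a
    rw [one_mul]

theorem shift_eq_pow (h10 : (1 : Fin p) ≠ 0) (j : Fin p) :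
    ∃ k : ℕ, (monoGL (fun _ => 1) j : GL (Fin p) F) = (monoGL (fun _ => 1) 1) ^ k := by
  obtain ⟨k, hk⟩ := exists_nsmul_eq h10 j
  exact ⟨k, by rw [shift_pow, hk]⟩

/-- the `p`-th power of a monomial element with nontrivial shift is a scalar. -/
theorem monoGL_pow_prime (t : Fin p → Fˣ) (ht : ∀ a, t a ^ p = 1) {j : Fin p} (hj : j ≠ 0) :
    ∃ c : Fˣ, c ^ p = 1 ∧ (monoGL t j) ^ p = monoGL (fun _ => c) 0 := by
  obtain ⟨τ, hτ, h⟩ := monoGL_pow t ht j p
  rw [prime_nsmul_eq_zero] at h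
  have hcomm : monoGL τ 0 * monoGL t j = monoGL t j * monoGL τ 0 := by
    rw [← h, ← pow_succ, ← pow_succ']
  rw [monoGL_mul, monoGL_mul] at hcomm
  obtain ⟨h1, -⟩ := monoGL_injective hcomm
  have h2 : ∀ a, τ (a + j) = τ a := by
    intro a
    have := congrFun h1 a
    simp only [add_zero] at this
    rw [mul_comm] at this
    exact (mul_left_cancel this).symm
  have h3 : ∀ k : ℕ, τ (k • j) = τ 0 := by
    intro k
    induction k with
    | zero => rw [zero_nsmul]
    | succ k ih => rw [succ_nsmul, h2, ih]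
  refine ⟨τ 0, hτ 0, ?_⟩
  rw [h]
  congr 1
  funext a
  obtain ⟨k, hk⟩ := exists_nsmul_eq hj a
  rw [← hk, h3]

end pow

end Cfsg.Agent.Lib.Helper5.RedGL
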