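import Mathlib
import Cfsg.Agent.Lib.Helper5.RedGL7

set_option autoImplicit false

namespace Cfsg.Agent.Lib.Helper5.RedGL

open Matrix Cfsg.Agent.Lib.Helper5.RedSyl

section caseC2
variable {p : ℕ} [Fact p.Prime] [NeZero p] {F : Type*} [Field F]

theorem one_add_ne_zero_of {c : Fˣ} (hp : p ≠ 2) (hc : c ^ p = 1) (hc1 : c ≠ 1) :
    (1 : F) + (c : F) ≠ 0 := by
  intro h
  have hodd : Odd p := (Fact.out : p.Prime).odd_of_ne_two hp
  have h1 : (c : F) = -1 := by
    rw [add_comm] at h; exact eq_neg_of_add_eq_zero_left h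
  have h2 : (c : F) ^ p = 1 := by rw [← Units.val_pow_eq_pow_val, hc, Units.val_one]
  rw [h1, hodd.neg_one_pow] at h2
  apply hc1
  apply Units.ext
  rw [h1, Units.val_one]
  exact h2

/-- `1 + x` as an element of `GL`, when `x ^ p` is a scalar `c` with `1 + c ≠ 0`. -/
noncomputable def onePlus (X : Matrix (Fin p) (Fin p) F) (c : F) (hX : X ^ p = c • 1)
    (hodd : Odd p) (hc : 1 + c ≠ 0) : GL (Fin p) F :=
  have h : (1 + X) * ((1 + c)⁻¹ • ∑ i ∈ Finset.range p, (-X) ^ i) = 1 := by
    rw [Matrix.mul_smul]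
    have h1 : (1 + X) * ∑ i ∈ Finset.range p, (-X) ^ i = (1 + c) • 1 := by
      have h2 := mul_neg_geom_sum (-X) p
      rw [sub_neg_eq_add, hodd.neg_pow, sub_neg_eq_add, hX] at h2
      rw [h2, add_smul, one_smul]
    rw [h1, smul_smul, inv_mul_cancel₀ hc, one_smul]
  ⟨1 + X, (1 + c)⁻¹ • ∑ i ∈ Finset.range p, (-X) ^ i, h, mul_eq_one_comm.mp h⟩

theorem onePlus_val (X : Matrix (Fin p) (Fin p) F) (c : F) (hX : X ^ p = c • 1)
    (hodd : Odd p) (hc : 1 + c ≠ 0) :
    ((onePlus X c hX hodd hc : GL (Fin p) F) : Matrix (Fin p) (Fin p) F) = 1 + X := rfl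

theorem two_nsmul_ne_zero (hp : p ≠ 2) {j : Fin p} (hj : j ≠ 0) : j + j ≠ 0 := by
  have hp2 : 2 < p := by
    have := (Fact.out : p.Prime).two_le
    omega
  have := nsmul_ne_zero_of_lt hj (i := 2) (by norm_num) hp2
  rwa [two_nsmul] at this

/-- `1 + x` does not normalize the monomial group. -/
theorem onePlus_not_normalizer (hp : p ≠ 2) (t : Fin p → Fˣ) {j : Fin p} (hj : j ≠ 0)
    (c : F) (hX : (mono (fun a => (t a : F)) j) ^ p = c • 1) (hodd : Odd p) (hc : 1 + c ≠ 0)
    {z : Fˣ} (hz : z ^ p = 1) (hz1 : z ≠ 1) :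
    (onePlus (mono (fun a => (t a : F)) j) c hX hodd hc : GL (Fin p) F) ∉
      Subgroup.normalizer ((QQ p F : Subgroup (GL (Fin p) F)) : Set (GL (Fin p) F)) := by
  intro hN
  have h1 := (Subgroup.mem_normalizer_iff.mp hN (yy 0 z)).mp (yy_mem hz)
  obtain ⟨s, k, -, hs⟩ := h1
  have h2 : onePlus (mono (fun a => (t a : F)) j) c hX hodd hc * yy 0 z =
      monoGL s k * onePlus (mono (fun a => (t a : F)) j) c hX hodd hc := by
    rw [← hs]; group
  have h3 := congrArg (fun g : GL (Fin p) F => (g : Matrix (Fin p) (Fin p) F)) h2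
  simp only [Units.val_mul, onePlus_val, monoGL_val] at h3
  have hy : ((yy 0 z : GL (Fin p) F) : Matrix (Fin p) (Fin p) F) =
      mono (fun a => ((Function.update (fun _ => (1 : Fˣ)) 0 z) a : F)) 0 := rfl
  rw [hy, add_mul, mul_add, one_mul, mul_one, mono_mul, mono_mul] at h3
  have e00 := congrFun (congrFun h3 0) 0
  have e0j := congrFun (congrFun h3 0) j
  simp only [Matrix.add_apply, mono_apply, zero_add, add_zero] at e00 e0j
  have hj' : ¬ (0 : Fin p) = j := fun h => hj h.symm
  have hz0 : (z : F) ≠ 0 := z.ne_zero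
  rw [if_pos trivial, if_neg hj', Function.update_self, add_zero] at e00
  rw [if_neg hj, if_pos trivial, Function.update_of_ne hj, Units.val_one, mul_one, zero_add] at e0j
  by_cases hk : k = 0
  · subst hk
    rw [if_pos rfl, zero_add, if_neg hj', add_zero] at e00
    rw [if_neg hj, zero_add, zero_add, if_pos rfl] at e0j
    rw [← e00] at e0j
    have h4 : (z : F) = 1 := by
      have h5 : (t 0 : F) ≠ 0 := (t 0).ne_zero
      have h6 : (z : F) * (t 0 : F) = 1 * (t 0 : F) := by rw [one_mul]; exact e0j.symm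
      exact mul_right_cancel₀ h5 h6
    apply hz1
    apply Units.ext
    rw [h4, Units.val_one]
  · have hk' : ¬ (0 : Fin p) = k := fun h => hk h.symm
    rw [if_neg hk', zero_add] at e00
    have hkj : (0 : Fin p) = k + j := by
      by_contra h
      rw [if_neg h] at e00
      exact hz0 e00
    have hjk : j = k := by
      by_contra h
      rw [if_neg h, zero_add] at e0j
      have h7 : ¬ j = k + j := by
        intro h8
        exact hk (add_eq_right.mp h8.symm)
      rw [if_neg h7] at e0j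
      exact (t 0).ne_zero e0j
    rw [← hjk] at hkj
    exact two_nsmul_ne_zero hp hj hkj.symm

end caseC2

end Cfsg.Agent.Lib.Helper5.RedGL
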