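import Mathlib
import Cfsg.Agent.Lib.Helper5.RedGL8

set_option autoImplicit false

namespace Cfsg.Agent.Lib.Helper5.RedGL

open Matrix Cfsg.Agent.Lib.Helper5.RedSyl

section caseC1
variable {p : ℕ} [Fact p.Prime] [NeZero p] {F : Type*} [Field F]

/-- solving the cocycle equation for a monomial element of order dividing `p`. -/
theorem exists_cocycle (t : Fin p → Fˣ) (ht : ∀ a, t a ^ p = 1) {j : Fin p} (hj : j ≠ 0)
    (hx : (monoGL t j) ^ p = 1) :
    ∃ s : Fin p → Fˣ, (∀ a, s a ^ p = 1) ∧ ∀ b, s (b + j) = s b * t b := by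
  have hp : p.Prime := Fact.out
  set X : Matrix (Fin p) (Fin p) F := mono (fun a => (t a : F)) j with hXdef
  have hXp : X ^ p = 1 := by
    have := congrArg (fun g : GL (Fin p) F => (g : Matrix (Fin p) (Fin p) F)) hx
    simpa only [Units.val_pow_eq_pow_val, monoGL_val, Units.val_one] using this
  set E : Matrix (Fin p) (Fin p) F := ∑ i ∈ Finset.range p, X ^ i with hEdef
  have hXE : X * E = E := by
    have h1 := mul_geom_sum X p
    rw [hXp, sub_self, sub_mul, one_mul, sub_eq_zero] at h1
    exact h1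
  -- recurrence
  have hrec : ∀ b : Fin p, E b 0 = (t b : F) * E (b + j) 0 := by
    intro b
    have h1 := congrFun (congrFun hXE b) 0
    rw [Matrix.mul_apply, Finset.sum_eq_single (b + j)] at h1
    · rw [← h1, hXdef, mono_apply_self]
    · intro c _ hc
      rw [hXdef, mono_apply, if_neg hc, zero_mul]
    · intro h; exact absurd (Finset.mem_univ _) h
  -- normalization
  have hE0 : E 0 0 = 1 := by
    rw [hEdef, Matrix.sum_apply, Finset.sum_eq_single 0]
    · rw [pow_zero, Matrix.one_apply_eq]
    · intro i hi hi0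
      obtain ⟨τ, -, hτ⟩ := monoGL_pow t ht j i
      have h1 := congrArg (fun g : GL (Fin p) F => (g : Matrix (Fin p) (Fin p) F)) hτ
      simp only [Units.val_pow_eq_pow_val, monoGL_val] at h1
      rw [← hXdef] at h1
      rw [h1, mono_apply, zero_add, if_neg]
      intro h
      exact nsmul_ne_zero_of_lt hj (Nat.pos_of_ne_zero hi0) (Finset.mem_range.mp hi) h.symm
    · intro h
      exact absurd (Finset.mem_range.mpr hp.pos) h
  have hmul : ∀ k : ℕ, E (k • j) 0 ≠ 0 ∧ (E (k • j) 0) ^ p = 1 := by
    intro k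
    induction k with
    | zero => rw [zero_nsmul, hE0]; exact ⟨one_ne_zero, one_pow _⟩
    | succ k ih =>
      have h1 := hrec (k • j)
      rw [succ_nsmul]
      have htne : (t (k • j) : F) ≠ 0 := (t (k • j)).ne_zero
      have htp : (t (k • j) : F) ^ p = 1 := by
        rw [← Units.val_pow_eq_pow_val, ht, Units.val_one]
      constructor
      · intro h0
        rw [h0, mul_zero] at h1
        exact ih.1 h1
      · have h2 := ih.2
        rw [h1, mul_pow, htp, one_mul] at h2
        exact h2
  have hall : ∀ b : Fin p, E b 0 ≠ 0 ∧ (E b 0) ^ p = 1 := by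
    intro b
    obtain ⟨k, hk⟩ := exists_nsmul_eq hj b
    rw [← hk]
    exact hmul k
  refine ⟨fun b => (Units.mk0 (E b 0) (hall b).1)⁻¹, ?_, ?_⟩
  · intro a
    apply Units.ext
    rw [Units.val_pow_eq_pow_val, Units.val_inv_eq_inv_val, Units.val_mk0, inv_pow, (hall a).2,
      inv_one, Units.val_one]
  · intro b
    apply Units.ext
    rw [Units.val_mul, Units.val_inv_eq_inv_val, Units.val_inv_eq_inv_val, Units.val_mk0,
      Units.val_mk0, hrec b, mul_inv, mul_comm ((t b : F)⁻¹), mul_assoc,
      inv_mul_cancel₀ (t b).ne_zero, mul_one]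

end caseC1

end Cfsg.Agent.Lib.Helper5.RedGL
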