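import Mathlib
import Cfsg.Agent.Lib.Helper5.RedGL9

set_option autoImplicit false

namespace Cfsg.Agent.Lib.Helper5.RedGL

open Matrix Cfsg.Agent.Lib.Helper5.RedSyl

section main
variable {p : ℕ} [Fact p.Prime] {F : Type*} [Field F] [Fintype F]

theorem one_ne_zero_fin [NeZero p] : (1 : Fin p) ≠ 0 := by
  have hp : p.Prime := Fact.out
  intro h
  have h1 := congrArg Fin.val h
  rw [Fin.val_one', Fin.val_zero, Nat.mod_eq_of_lt hp.one_lt] at h1
  exact one_ne_zero h1

/-- every element of the monomial Sylow subgroup lies in another Sylow subgroup. -/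
theorem exists_other [NeZero p] (hp : p ≠ 2) (h1 : p ∣ Fintype.card F - 1)
    (Q : Sylow p (GL (Fin p) F)) (hQ : (Q : Subgroup (GL (Fin p) F)) = QQ p F)
    (x : GL (Fin p) F) (hx : x ∈ QQ p F) :
    ∃ P : Sylow p (GL (Fin p) F), P ≠ Q ∧ x ∈ P := by
  have hpp : p.Prime := Fact.out
  have hodd : Odd p := hpp.odd_of_ne_two hp
  have h10 : (1 : Fin p) ≠ 0 := one_ne_zero_fin
  have h20 : (1 + 1 : Fin p) ≠ 0 := two_nsmul_ne_zero hp h10
  obtain ⟨ζ, hζ⟩ := exists_unit_orderOf (F := F) h1
  have hζp : ζ ^ p = 1 := by rw [← hζ]; exact pow_orderOf_eq_one ζ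
  have hζ1 : ζ ≠ 1 := by
    intro h
    rw [h, orderOf_one] at hζ
    exact hpp.one_lt.ne hζ
  have hmemQ : ∀ g : GL (Fin p) F, g ∈ Q ↔ g ∈ QQ p F := by
    intro g
    rw [← hQ]; rfl
  have hnormQ : Subgroup.normalizer ((Q : Subgroup (GL (Fin p) F)) : Set (GL (Fin p) F)) =
      Subgroup.normalizer ((QQ p F : Subgroup (GL (Fin p) F)) : Set (GL (Fin p) F)) := by
    rw [hQ]
  obtain ⟨t, j, ht, rfl⟩ := hx
  by_cases hj : j = 0
  · subst hj
    by_cases hinj : Function.Injective t
    · -- regular diagonal element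
      have hW := shift_mul_WGL t hinj ht
      apply exists_other_of_conj (g := (WGL t hinj)⁻¹)
      · rw [inv_inv, hmemQ]
        have : WGL t hinj * monoGL t 0 * (WGL t hinj)⁻¹ = monoGL (fun _ => 1) 1 := by
          rw [← hW]; group
        rw [this]
        exact monoGL_mem_QQ (fun _ => one_pow _) 1
      · rw [hnormQ]
        intro h
        exact WGL_not_normalizer t hinj h10 h20 hζp hζ1 ((Subgroup.inv_mem_iff _).mp h)
    · -- repeated eigenvalue
      unfold Function.Injective at hinj
      push Not at hinj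
      obtain ⟨a, b, hab, hne⟩ := hinj
      have hc := trGL_commute (F := F) a b hne t hab
      apply exists_other_of_conj (g := trGL a b hne)
      · rw [hmemQ]
        have : (trGL a b hne)⁻¹ * monoGL t 0 * trGL a b hne = monoGL t 0 := by
          rw [mul_assoc, ← hc]; group
        rw [this]
        exact monoGL_mem_QQ ht 0
      · rw [hnormQ]
        exact trGL_not_normalizer a b hne hζp hζ1
  · obtain ⟨c, hc, hpow⟩ := monoGL_pow_prime t ht hj
    by_cases hc1 : c = 1
    · -- order `p`, conjugate to the shift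
      subst hc1
      rw [monoGL_one] at hpow
      obtain ⟨s, hs, hst⟩ := exists_cocycle t ht hj hpow
      have hu : monoGL s 0 * monoGL t j = monoGL (fun _ => 1) j * monoGL s 0 := by
        rw [monoGL_mul, monoGL_mul, zero_add, add_zero]
        congr 1
        funext b
        rw [add_zero, one_mul, hst]
      -- the fixed regular diagonal element
      have hdinj : Function.Injective (fun i : Fin p => ζ ^ (i : ℕ)) := by
        intro a b hab
        simp only at hab
        have h3 : (a : ℕ) < orderOf ζ := by rw [hζ]; exact a.2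
        have h4 : (b : ℕ) < orderOf ζ := by rw [hζ]; exact b.2
        exact Fin.ext (pow_injOn_Iio_orderOf h3 h4 hab)
      have hdp : ∀ i : Fin p, (ζ ^ (i : ℕ)) ^ p = 1 := by
        intro i
        rw [← pow_mul, mul_comm, pow_mul, hζp, one_pow]
      have hW := shift_mul_WGL (fun i : Fin p => ζ ^ (i : ℕ)) hdinj hdp
      set W := WGL (fun i : Fin p => ζ ^ (i : ℕ)) hdinj with hWdef
      obtain ⟨k, hk⟩ := shift_eq_pow (F := F) h10 j
      apply exists_other_of_conj (g := (monoGL s 0)⁻¹ * W)
      · rw [hmemQ]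
        have e1 : ((monoGL s 0)⁻¹ * W)⁻¹ * monoGL t j * ((monoGL s 0)⁻¹ * W) =
            W⁻¹ * (monoGL s 0 * monoGL t j * (monoGL s 0)⁻¹) * W := by group
        have e2 : monoGL s 0 * monoGL t j * (monoGL s 0)⁻¹ = monoGL (fun _ => 1) j := by
          rw [hu]; group
        have e3 : W⁻¹ * monoGL (fun _ => 1) 1 * W = monoGL (fun i : Fin p => ζ ^ (i : ℕ)) 0 := by
          rw [mul_assoc, hW]; group
        have e4 : W⁻¹ * (monoGL (fun _ => 1) 1) ^ k * W = (W⁻¹ * monoGL (fun _ => 1) 1 * W) ^ k := by
          have h7 := conj_pow (a := W⁻¹) (b := (monoGL (fun _ => 1) 1 : GL (Fin p) F)) (i := k)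
          rw [inv_inv] at h7
          exact h7.symm
        rw [e1, e2, hk, e4, e3]
        exact Subgroup.pow_mem _ (monoGL_mem_QQ hdp 0) k
      · rw [hnormQ]
        intro h
        have h5 : monoGL s 0 ∈ Subgroup.normalizer ((QQ p F : Subgroup (GL (Fin p) F)) :
            Set (GL (Fin p) F)) := Subgroup.le_normalizer (monoGL_mem_QQ hs 0)
        have h6 := Subgroup.mul_mem _ h5 h
        rw [mul_inv_cancel_left] at h6
        exact WGL_not_normalizer _ hdinj h10 h20 hζp hζ1 h6
    · -- order `p ^ 2`
      have hX : (mono (fun a => (t a : F)) j) ^ p = (c : F) • 1 := by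
        have := congrArg (fun g : GL (Fin p) F => (g : Matrix (Fin p) (Fin p) F)) hpow
        simp only [Units.val_pow_eq_pow_val, monoGL_val] at this
        rw [this, mono_zero_eq_diagonal, Matrix.smul_one_eq_diagonal]
      have hcne := one_add_ne_zero_of (F := F) hp hc hc1
      set g := onePlus (mono (fun a => (t a : F)) j) (c : F) hX hodd hcne with hgdef
      have hcomm : g * monoGL t j = monoGL t j * g := by
        apply Units.ext
        rw [Units.val_mul, Units.val_mul, hgdef, onePlus_val, monoGL_val, add_mul, mul_add, one_mul,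
          mul_one]
      apply exists_other_of_conj (g := g)
      · rw [hmemQ]
        have : g⁻¹ * monoGL t j * g = monoGL t j := by
          rw [mul_assoc, ← hcomm]; group
        rw [this]
        exact monoGL_mem_QQ ht j
      · rw [hnormQ]
        exact onePlus_not_normalizer hp t hj (c : F) hX hodd hcne hζp hζ1

end main

end Cfsg.Agent.Lib.Helper5.RedGL
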