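import Mathlib
import Cfsg.Agent.Lib.Helper5.RedSyl1

set_option autoImplicit false

namespace Cfsg.Agent.Lib.Helper5.RedSyl

variable {G : Type*} [Group G] [Finite G]

section quot
variable {p : ℕ} [Fact p.Prime] (Z : Subgroup G) [Z.Normal]

theorem mk_surj : Function.Surjective (QuotientGroup.mk' Z) := QuotientGroup.mk'_surjective Z

/-- if the product of two commuting elements of `p`-power order ... -/
theorem pow_order_of_commute {a b : G} (hab : Commute a b) (ha : ∃ k : ℕ, orderOf a = p ^ k)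
    (hb : ∃ k : ℕ, orderOf b = p ^ k) : ∃ k : ℕ, orderOf (a * b) = p ^ k := by
  obtain ⟨k, hk⟩ := ha
  obtain ⟨l, hl⟩ := hb
  have h1 : (a * b) ^ (p ^ (k + l)) = 1 := by
    rw [hab.mul_pow, pow_add, pow_mul, ← hk, pow_orderOf_eq_one, one_pow, one_mul, mul_comm,
      pow_mul, ← hl, pow_orderOf_eq_one, one_pow]
  have h2 := orderOf_dvd_of_pow_eq_one h1
  obtain ⟨j, -, hj⟩ := (Nat.dvd_prime_pow Fact.out).mp h2
  exact ⟨j, hj⟩

theorem mem_map_iff (hZ : Z ≤ Subgroup.center G) (P : Sylow p G) (u : G)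
    (hu : ∃ k : ℕ, orderOf u = p ^ k) :
    QuotientGroup.mk' Z u ∈ (P : Subgroup G).map (QuotientGroup.mk' Z) ↔ u ∈ P := by
  constructor
  · intro h
    obtain ⟨v, hv, hvu⟩ := Subgroup.mem_map.mp h
    have h1 : v⁻¹ * u ∈ Z := by
      have := QuotientGroup.eq.mp hvu
      exact this
    have hc : v⁻¹ * u ∈ Subgroup.center G := hZ h1
    have hcomm : Commute v⁻¹ u := by
      have h2 := Subgroup.mem_center_iff.mp hc
      -- (v⁻¹ u) commutes with v
      have h3 := h2 v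
      -- v * (v⁻¹ * u) = (v⁻¹ * u) * v  → u = v⁻¹ u v
      show v⁻¹ * u = u * v⁻¹
      have h4 : u = v⁻¹ * u * v := by
        rw [← h3]; group
      calc v⁻¹ * u = v⁻¹ * u * v * v⁻¹ := by group
        _ = u * v⁻¹ := by rw [← h4]
    have hvp : ∃ k : ℕ, orderOf v⁻¹ = p ^ k := by
      rw [orderOf_inv]; exact exists_pow_of_mem P hv
    have hzp := pow_order_of_commute hcomm hvp hu
    have hz := central_mem_sylow hc hzp P
    have : u = v * (v⁻¹ * u) := by group
    rw [this]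
    exact (P : Subgroup G).mul_mem hv hz
  · intro h
    exact Subgroup.mem_map.mpr ⟨u, h, rfl⟩

theorem map_injective (hZ : Z ≤ Subgroup.center G) {P Q : Sylow p G}
    (h : (P : Subgroup G).map (QuotientGroup.mk' Z) = (Q : Subgroup G).map (QuotientGroup.mk' Z)) :
    P = Q := by
  symm
  apply sylow_eq_of_le
  intro u hu
  have h1 : QuotientGroup.mk' Z u ∈ (P : Subgroup G).map (QuotientGroup.mk' Z) :=
    Subgroup.mem_map.mpr ⟨u, hu, rfl⟩
  rw [h] at h1
  exact (mem_map_iff Z hZ Q u (exists_pow_of_mem P hu)).mp h1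

/-- redundant Sylow subgroups exist in `G` iff they exist in a central quotient. -/
theorem exists_red_quot_iff (hZ : Z ≤ Subgroup.center G) :
    (∃ Q : Sylow p (G ⧸ Z), Red p Q) ↔ ∃ Q : Sylow p G, Red p Q := by
  constructor
  · rintro ⟨Qb, hQb⟩
    obtain ⟨Q, rfl⟩ := Sylow.mapSurjective_surjective (mk_surj Z) p Qb
    refine ⟨Q, ?_⟩
    rw [red_iff]
    intro u hu
    have h1 : QuotientGroup.mk' Z u ∈ (Q.mapSurjective (mk_surj Z) : Sylow p (G ⧸ Z)) := by
      show _ ∈ ((Q.mapSurjective (mk_surj Z) : Sylow p (G ⧸ Z)) : Subgroup (G ⧸ Z))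
      rw [Sylow.coe_mapSurjective]
      exact Subgroup.mem_map.mpr ⟨u, hu, rfl⟩
    obtain ⟨Pb, hPb, hPbu⟩ := (red_iff _).mp hQb _ h1
    obtain ⟨P, rfl⟩ := Sylow.mapSurjective_surjective (mk_surj Z) p Pb
    refine ⟨P, ?_, ?_⟩
    · intro h; apply hPb; rw [h]
    · have h2 : QuotientGroup.mk' Z u ∈ (P : Subgroup G).map (QuotientGroup.mk' Z) := by
        rw [← Sylow.coe_mapSurjective (mk_surj Z)]
        exact hPbu
      exact (mem_map_iff Z hZ P u (exists_pow_of_mem Q hu)).mp h2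
  · rintro ⟨Q, hQ⟩
    refine ⟨Q.mapSurjective (mk_surj Z), ?_⟩
    rw [red_iff]
    intro ub hub
    have hub' : ub ∈ (Q : Subgroup G).map (QuotientGroup.mk' Z) := by
      rw [← Sylow.coe_mapSurjective (mk_surj Z)]
      exact hub
    obtain ⟨u, hu, rfl⟩ := Subgroup.mem_map.mp hub'
    obtain ⟨P, hPQ, hP⟩ := (red_iff Q).mp hQ u hu
    refine ⟨P.mapSurjective (mk_surj Z), ?_, ?_⟩
    · intro h
      apply hPQ
      apply map_injective Z hZ
      rw [← Sylow.coe_mapSurjective (mk_surj Z), ← Sylow.coe_mapSurjective (mk_surj Z), h]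
    · show _ ∈ ((P.mapSurjective (mk_surj Z) : Sylow p (G ⧸ Z)) : Subgroup (G ⧸ Z))
      rw [Sylow.coe_mapSurjective]
      exact Subgroup.mem_map.mpr ⟨u, hP, rfl⟩

end quot

end Cfsg.Agent.Lib.Helper5.RedSyl
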