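import Mathlib
import Cfsg.Agent.Lib.Helper5.RedSyl2
import Cfsg.Agent.Lib.Helper5.SL2TorusNorm
import Cfsg.Agent.Lib.Helper1.SL2Sylow

set_option autoImplicit false

namespace Cfsg.Agent.Lib.Helper5.RedSyl

open Matrix Cfsg.Agent.Lib.Helper5

/-- the neighbour of an odd `q` divisible by four. -/
def dd (q : ℕ) : ℕ := if q % 4 = 1 then q - 1 else q + 1

/-- the other neighbour. -/
def dd' (q : ℕ) : ℕ := if q % 4 = 1 then q + 1 else q - 1

theorem four_dvd_dd {q : ℕ} (hq : q % 2 = 1) : 4 ∣ dd q := by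
  unfold dd
  split_ifs with h <;> omega

theorem dd'_mod {q : ℕ} (hq : q % 2 = 1) : dd' q % 4 = 2 := by
  unfold dd'
  split_ifs with h <;> omega

theorem dd_mul_dd' {q : ℕ} (hq : 1 ≤ q) : dd q * dd' q = q ^ 2 - 1 := by
  have h1 : q ^ 2 - 1 = (q - 1) * (q + 1) := by
    obtain ⟨m, rfl⟩ : ∃ m, q = m + 1 := ⟨q - 1, by omega⟩
    have : (m + 1) ^ 2 = m * (m + 2) + 1 := by ring
    rw [this]; simp
  unfold dd dd'
  split_ifs with h
  · rw [h1]
  · rw [h1, mul_comm]

theorem eq_dd_of_four_dvd {q c : ℕ} (hq : q % 2 = 1) (hc : c = q - 1 ∨ c = q + 1) (h4 : 4 ∣ c) :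
    c = dd q := by
  unfold dd
  split_ifs with h <;> omega

theorem factorization_two_pow_mul {a b : ℕ} (hb : Odd b) : (2 ^ a * b).factorization 2 = a := by
  have hb0 : b ≠ 0 := by
    intro h; rw [h] at hb; exact (Nat.not_odd_iff_even.mpr (by decide)) hb
  have hnd : ¬ 2 ∣ b := by
    intro h
    exact (Nat.not_even_iff_odd.mpr hb) (even_iff_two_dvd.mpr h)
  rw [Nat.factorization_mul (pow_ne_zero _ (by norm_num)) hb0, Finsupp.add_apply,
    Nat.factorization_eq_zero_of_not_dvd hnd, add_zero, Nat.factorization_pow, Finsupp.smul_apply,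
    Nat.prime_two.factorization_self, smul_eq_mul, mul_one]

section sl2
variable {F : Type*} [Field F] [Fintype F] [DecidableEq F]

theorem card_F_odd (p₀ : ℕ) [Fact p₀.Prime] [CharP F p₀] (hp₀ : p₀ ≠ 2) :
    Fintype.card F % 2 = 1 := by
  obtain ⟨n, -, hq⟩ := FiniteField.card F p₀
  rw [hq]
  have hp : p₀.Prime := Fact.out
  have h1 : Odd p₀ := hp.odd_of_ne_two hp₀
  exact Nat.odd_iff.mp (h1.pow)

theorem two_ne_zero_F (p₀ : ℕ) [Fact p₀.Prime] [CharP F p₀] (hp₀ : p₀ ≠ 2) : (2 : F) ≠ 0 := by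
  intro h
  have h1 : ((2 : ℕ) : F) = 0 := by exact_mod_cast h
  have h2 := (CharP.cast_eq_zero_iff F p₀ 2).mp h1
  have hp : p₀.Prime := Fact.out
  have := (Nat.prime_dvd_prime_iff_eq hp Nat.prime_two).mp h2
  exact hp₀ this

/-- a `2`-element with nontrivial square has `tr² ≠ 4`. -/
theorem trace_sq_ne_four (p₀ : ℕ) [Fact p₀.Prime] [CharP F p₀] (hp₀ : p₀ ≠ 2)
    (x : SpecialLinearGroup (Fin 2) F) (hx : ∃ j : ℕ, orderOf x = 2 ^ j) (hxx : x * x ≠ 1) :
    (x : Matrix (Fin 2) (Fin 2) F).trace ^ 2 ≠ 4 := by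
  intro ht
  obtain ⟨c, hc⟩ := pow_char_scalar_of_sq_eq_four p₀ x ht
  have hc2 := (sq_eq_four_of_scalar (x ^ p₀) c hc).2
  have h1 : (x ^ p₀) * (x ^ p₀) = 1 := by
    apply Subtype.ext
    show ((x ^ p₀ : SpecialLinearGroup (Fin 2) F) : Matrix (Fin 2) (Fin 2) F) *
      ((x ^ p₀ : SpecialLinearGroup (Fin 2) F) : Matrix (Fin 2) (Fin 2) F) = 1
    rw [hc, smul_mul_assoc, Matrix.one_mul, smul_smul, ← pow_two, hc2, one_smul]
  have h2 : x ^ (2 * p₀) = 1 := by
    rw [mul_comm, pow_mul, pow_two]; exact h1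
  have h3 := orderOf_dvd_of_pow_eq_one h2
  obtain ⟨j, hj⟩ := hx
  rw [hj] at h3
  have hp : p₀.Prime := Fact.out
  have hcop : Nat.Coprime (2 ^ j) p₀ := by
    apply Nat.Coprime.pow_left
    rw [Nat.coprime_comm]
    exact (Nat.Prime.coprime_iff_not_dvd hp).mpr (by
      intro h
      exact hp₀ ((Nat.prime_dvd_prime_iff_eq hp Nat.prime_two).mp h))
  have h4 : 2 ^ j ∣ 2 := hcop.dvd_of_dvd_mul_right h3
  have h5 : x ^ 2 = 1 := by
    apply orderOf_dvd_iff_pow_eq_one.mp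
    rw [hj]; exact h4
  apply hxx
  rw [← pow_two]; exact h5

theorem card_centralizer_cases (x : SpecialLinearGroup (Fin 2) F)
    (ht : (x : Matrix (Fin 2) (Fin 2) F).trace ^ 2 ≠ 4) :
    Nat.card (Subgroup.centralizer ({x} : Set (SpecialLinearGroup (Fin 2) F))) = Fintype.card F - 1 ∨
    Nat.card (Subgroup.centralizer ({x} : Set (SpecialLinearGroup (Fin 2) F))) = Fintype.card F + 1 := by
  have h1 := card_centralizer_generic x ht
  have hq : 2 ≤ Fintype.card F := Fintype.one_lt_card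
  rcases rootCount_eq_zero_or_two _ ht with h | h
  · right; rw [h] at h1; omega
  · left; rw [h] at h1; omega

theorem mem_centralizer_self (x : SpecialLinearGroup (Fin 2) F) :
    x ∈ Subgroup.centralizer ({x} : Set (SpecialLinearGroup (Fin 2) F)) := by
  rw [Subgroup.mem_centralizer_singleton_iff]

theorem orderOf_dvd_card_centralizer (x : SpecialLinearGroup (Fin 2) F) :
    orderOf x ∣ Nat.card (Subgroup.centralizer ({x} : Set (SpecialLinearGroup (Fin 2) F))) := by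
  have := orderOf_dvd_natCard (⟨x, mem_centralizer_self x⟩ :
    Subgroup.centralizer ({x} : Set (SpecialLinearGroup (Fin 2) F)))
  rwa [Subgroup.orderOf_mk] at this

/-- the centralizer of a `2`-element with nontrivial square. -/
theorem card_centralizer_two (p₀ : ℕ) [Fact p₀.Prime] [CharP F p₀] (hp₀ : p₀ ≠ 2)
    (x : SpecialLinearGroup (Fin 2) F) (hx : ∃ j : ℕ, orderOf x = 2 ^ j) (hxx : x * x ≠ 1) :
    Nat.card (Subgroup.centralizer ({x} : Set (SpecialLinearGroup (Fin 2) F))) =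
      dd (Fintype.card F) := by
  have ht := trace_sq_ne_four p₀ hp₀ x hx hxx
  apply eq_dd_of_four_dvd (card_F_odd p₀ hp₀) (card_centralizer_cases x ht)
  apply dvd_trans _ (orderOf_dvd_card_centralizer x)
  obtain ⟨j, hj⟩ := hx
  rw [hj]
  have hj2 : 2 ≤ j := by
    by_contra hlt
    apply hxx
    have h1 : x ^ 2 = 1 := by
      apply orderOf_dvd_iff_pow_eq_one.mp
      rw [hj]
      have : j = 0 ∨ j = 1 := by omega
      rcases this with rfl | rfl <;> norm_num
    rw [← pow_two]; exact h1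
  exact pow_dvd_pow 2 hj2

/-- the order of a Sylow `2`-subgroup. -/
theorem card_sylow_two (p₀ : ℕ) [Fact p₀.Prime] [CharP F p₀] (hp₀ : p₀ ≠ 2)
    {k m : ℕ} (hm : Odd m) (hd : dd (Fintype.card F) = 2 ^ k * m)
    (P : Sylow 2 (SpecialLinearGroup (Fin 2) F)) : Nat.card P = 2 ^ (k + 1) := by
  haveI : Fact (Nat.Prime 2) := ⟨Nat.prime_two⟩
  have hq := card_F_odd (F := F) p₀ hp₀
  have hq1 : 1 ≤ Fintype.card F := by omega
  obtain ⟨m', hm'⟩ : ∃ m', dd' (Fintype.card F) = 2 * m' ∧ Odd m' := by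
    have := dd'_mod hq
    refine ⟨dd' (Fintype.card F) / 2, by omega, ?_⟩
    rw [Nat.odd_iff]; omega
  have hcard : Nat.card (SpecialLinearGroup (Fin 2) F) =
      2 ^ (k + 1) * (Fintype.card F * m * m') := by
    rw [Cfsg.Agent.Lib.Helper1.card_SL2, ← dd_mul_dd' hq1, hd, hm'.1]
    ring
  rw [Sylow.card_eq_multiplicity, hcard, factorization_two_pow_mul]
  exact ((Nat.odd_iff.mpr hq).mul hm).mul hm'.2

end sl2

end Cfsg.Agent.Lib.Helper5.RedSyl
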