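import Mathlib
import Cfsg.Agent.Lib.Helper5.RedSyl3

set_option autoImplicit false

namespace Cfsg.Agent.Lib.Helper5.RedSyl

open Matrix Cfsg.Agent.Lib.Helper5

theorem conj_mem_of_index_two {G : Type*} [Group G] {D P : Subgroup G} [Finite P] (hDP : D ≤ P)
    (hcard : Nat.card P = 2 * Nat.card D) {w d : G} (hw : w ∈ P) (hd : d ∈ D) :
    w * d * w⁻¹ ∈ D := by
  have h1 : Nat.card (D.subgroupOf P) = Nat.card D :=
    Nat.card_congr (Subgroup.subgroupOfEquivOfLe hDP).toEquiv
  have h2 : (D.subgroupOf P).index = 2 := by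
    have h3 := Subgroup.card_mul_index (D.subgroupOf P)
    rw [h1, hcard] at h3
    have hposP : 0 < Nat.card P := Nat.card_pos
    have hpos : 0 < Nat.card D := by omega
    nlinarith
  haveI := Subgroup.normal_of_index_eq_two h2
  have h4 : (⟨w, hw⟩ : P) * ⟨d, hDP hd⟩ * (⟨w, hw⟩ : P)⁻¹ ∈ D.subgroupOf P :=
    Subgroup.Normal.conj_mem inferInstance _ (Subgroup.mem_subgroupOf.mpr hd) _
  exact Subgroup.mem_subgroupOf.mp h4

section sl2
variable {F : Type*} [Field F] [Fintype F] [DecidableEq F]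

theorem exists_order_dd (p₀ : ℕ) [Fact p₀.Prime] [CharP F p₀] :
    ∃ z : SpecialLinearGroup (Fin 2) F, orderOf z = dd (Fintype.card F) := by
  unfold dd
  split_ifs with h
  · exact exists_orderOf_eq_card_sub_one
  · exact exists_orderOf_eq_card_add_one p₀

theorem trace_conj (w x : SpecialLinearGroup (Fin 2) F) :
    ((w * x * w⁻¹ : SpecialLinearGroup (Fin 2) F) : Matrix (Fin 2) (Fin 2) F).trace =
      (x : Matrix (Fin 2) (Fin 2) F).trace := by
  have h1 : ((w * x * w⁻¹ : SpecialLinearGroup (Fin 2) F) : Matrix (Fin 2) (Fin 2) F) =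
      (w : Matrix (Fin 2) (Fin 2) F) * (x : Matrix (Fin 2) (Fin 2) F) *
        ((w⁻¹ : SpecialLinearGroup (Fin 2) F) : Matrix (Fin 2) (Fin 2) F) := rfl
  rw [h1, Matrix.trace_mul_cycle, ← Matrix.SpecialLinearGroup.coe_mul, inv_mul_cancel,
    Matrix.SpecialLinearGroup.coe_one, Matrix.one_mul]

/-- an element of a Sylow `2`-subgroup outside the centralizer of `x` inverts `x`, if the
conjugate lies in the centralizer. -/
theorem inverts_of_conj_mem (p₀ : ℕ) [Fact p₀.Prime] [CharP F p₀] (hp₀ : p₀ ≠ 2)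
    (x : SpecialLinearGroup (Fin 2) F) (ht : (x : Matrix (Fin 2) (Fin 2) F).trace ^ 2 ≠ 4)
    (w : SpecialLinearGroup (Fin 2) F)
    (hw : w * x * w⁻¹ ∈ Subgroup.centralizer ({x} : Set (SpecialLinearGroup (Fin 2) F)))
    (hwc : w ∉ Subgroup.centralizer ({x} : Set (SpecialLinearGroup (Fin 2) F))) :
    w * x * w⁻¹ = x⁻¹ := by
  rcases eq_or_eq_inv_of_trace_eq (two_ne_zero_F p₀ hp₀) x ht _ hw (trace_conj w x) with h | h
  · exfalso
    apply hwc
    rw [Subgroup.mem_centralizer_singleton_iff]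
    calc w * x = w * x * w⁻¹ * w := by group
      _ = x * w := by rw [h]
  · exact h

/-- case of a power of two: an element lying in a unique Sylow `2`-subgroup. -/
theorem exists_uniq (p₀ : ℕ) [Fact p₀.Prime] [CharP F p₀] (hp₀ : p₀ ≠ 2)
    {k : ℕ} (hd : dd (Fintype.card F) = 2 ^ k) :
    ∃ z : SpecialLinearGroup (Fin 2) F, (∃ j : ℕ, orderOf z = 2 ^ j) ∧ Uniq 2 z := by
  haveI : Fact (Nat.Prime 2) := ⟨Nat.prime_two⟩
  obtain ⟨z, hz⟩ := exists_order_dd (F := F) p₀
  rw [hd] at hz
  refine ⟨z, ⟨k, hz⟩, ?_⟩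
  have hq := card_F_odd (F := F) p₀ hp₀
  have h4 := four_dvd_dd hq
  rw [hd] at h4
  have hk2 : 2 ≤ k := by
    by_contra hlt
    have : k = 0 ∨ k = 1 := by omega
    rcases this with rfl | rfl <;> omega
  have hzz : z * z ≠ 1 := by
    intro h
    have h1 : orderOf z ∣ 2 := by
      apply orderOf_dvd_of_pow_eq_one; rw [pow_two]; exact h
    rw [hz] at h1
    have h2 : 2 ^ k ≤ 2 := Nat.le_of_dvd (by norm_num) h1
    have h3 : 2 ^ 2 ≤ 2 ^ k := Nat.pow_le_pow_right (by norm_num) hk2
    omega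
  have ht := trace_sq_ne_four p₀ hp₀ z ⟨k, hz⟩ hzz
  have hC := card_centralizer_two p₀ hp₀ z ⟨k, hz⟩ hzz
  rw [hd] at hC
  set C := Subgroup.centralizer ({z} : Set (SpecialLinearGroup (Fin 2) F)) with hCdef
  have hCz : Subgroup.zpowers z = C := by
    apply Subgroup.eq_of_le_of_card_ge
    · rw [Subgroup.zpowers_le]; exact mem_centralizer_self z
    · rw [Nat.card_zpowers, hz, hC]
  have hcardP : ∀ P : Sylow 2 (SpecialLinearGroup (Fin 2) F), Nat.card P = 2 ^ (k + 1) := by
    intro P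
    exact card_sylow_two p₀ hp₀ (m := 1) (by decide) (by rw [hd, mul_one]) P
  -- elements of a Sylow subgroup containing z, outside C, invert z
  have hinv : ∀ P : Sylow 2 (SpecialLinearGroup (Fin 2) F), z ∈ P → ∀ w ∈ P, w ∉ C →
      w * z * w⁻¹ = z⁻¹ := by
    intro P hzP w hw hwC
    have hCP : C ≤ (P : Subgroup (SpecialLinearGroup (Fin 2) F)) := by
      rw [← hCz, Subgroup.zpowers_le]; exact hzP
    have hcard : Nat.card (P : Subgroup (SpecialLinearGroup (Fin 2) F)) = 2 * Nat.card C := by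
      rw [hC]
      have := hcardP P
      rw [pow_succ, mul_comm] at this
      exact this
    have h1 := conj_mem_of_index_two hCP hcard hw (mem_centralizer_self z)
    exact inverts_of_conj_mem p₀ hp₀ z ht w h1 hwC
  have hle : ∀ P P' : Sylow 2 (SpecialLinearGroup (Fin 2) F), z ∈ P → z ∈ P' →
      (P' : Subgroup (SpecialLinearGroup (Fin 2) F)) ≤ (P : Subgroup (SpecialLinearGroup (Fin 2) F)) := by
    intro P P' hP hP' u hu
    have hCP : C ≤ (P : Subgroup (SpecialLinearGroup (Fin 2) F)) := by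
      rw [← hCz, Subgroup.zpowers_le]; exact hP
    by_cases huC : u ∈ C
    · exact hCP huC
    · -- find w in P outside C
      obtain ⟨w, hw, hwC⟩ : ∃ w ∈ (P : Subgroup (SpecialLinearGroup (Fin 2) F)), w ∉ C := by
        by_contra hcon
        push Not at hcon
        have h1 : (P : Subgroup (SpecialLinearGroup (Fin 2) F)) ≤ C := hcon
        have h2 := Subgroup.card_le_of_le h1
        rw [hC] at h2
        have h3 : Nat.card (P : Subgroup (SpecialLinearGroup (Fin 2) F)) = 2 ^ (k + 1) := hcardP P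
        rw [h3, pow_succ] at h2
        have : 0 < 2 ^ k := by positivity
        omega
      have h1 := hinv P hP w hw hwC
      have h2 := hinv P' hP' u hu huC
      have h3 : w⁻¹ * u ∈ C := by
        rw [hCdef, Subgroup.mem_centralizer_singleton_iff]
        have e1 : w⁻¹ * z⁻¹ * w = z := by
          rw [← h1]; group
        have e2 : u * z = z⁻¹ * u := by
          calc u * z = u * z * u⁻¹ * u := by group
            _ = z⁻¹ * u := by rw [h2]
        calc w⁻¹ * u * z = w⁻¹ * (u * z) := by group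
          _ = w⁻¹ * (z⁻¹ * u) := by rw [e2]
          _ = (w⁻¹ * z⁻¹ * w) * (w⁻¹ * u) := by group
          _ = z * (w⁻¹ * u) := by rw [e1]
      have : u = w * (w⁻¹ * u) := by group
      rw [this]
      exact (P : Subgroup (SpecialLinearGroup (Fin 2) F)).mul_mem hw (hCP h3)
  intro P P' hP hP'
  exact sylow_eq_of_le (hle P P' hP hP')

end sl2

end Cfsg.Agent.Lib.Helper5.RedSyl
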