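import Mathlib
import Cfsg.Agent.Lib.Helper5.RedSyl4

set_option autoImplicit false

namespace Cfsg.Agent.Lib.Helper5.RedSyl

open Matrix Cfsg.Agent.Lib.Helper5

section sl2
variable {F : Type*} [Field F] [Fintype F] [DecidableEq F]

/-- not a power of two: a `2`-element with nontrivial square lies in two Sylow subgroups. -/
theorem exists_two (p₀ : ℕ) [Fact p₀.Prime] [CharP F p₀] (hp₀ : p₀ ≠ 2)
    {k m : ℕ} (hm : Odd m) (hm1 : 1 < m) (hd : dd (Fintype.card F) = 2 ^ k * m)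
    (x : SpecialLinearGroup (Fin 2) F) (hx : ∃ j : ℕ, orderOf x = 2 ^ j) (hxx : x * x ≠ 1) :
    ∃ P₁ P₂ : Sylow 2 (SpecialLinearGroup (Fin 2) F), P₁ ≠ P₂ ∧ x ∈ P₁ ∧ x ∈ P₂ := by
  haveI : Fact (Nat.Prime 2) := ⟨Nat.prime_two⟩
  have ht := trace_sq_ne_four p₀ hp₀ x hx hxx
  have hns := not_scalar_of_sq_ne_four x ht
  have hC := card_centralizer_two p₀ hp₀ x hx hxx
  rw [hd] at hC
  set C := Subgroup.centralizer ({x} : Set (SpecialLinearGroup (Fin 2) F)) with hCdef
  -- a Sylow 2-subgroup of C containing x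
  have hxC : x ∈ C := mem_centralizer_self x
  have hpx : IsPGroup 2 (Subgroup.zpowers (⟨x, hxC⟩ : C)) := by
    obtain ⟨j, hj⟩ := hx
    apply IsPGroup.of_card (n := j)
    rw [Nat.card_zpowers, Subgroup.orderOf_mk, hj]
  obtain ⟨S, hS⟩ := hpx.exists_le_sylow
  set D : Subgroup (SpecialLinearGroup (Fin 2) F) := (S : Subgroup C).map C.subtype with hDdef
  have hDC : D ≤ C := by
    rw [hDdef]; exact Subgroup.map_subtype_le _
  have hxD : x ∈ D := by
    rw [hDdef, Subgroup.mem_map]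
    exact ⟨⟨x, hxC⟩, hS (Subgroup.mem_zpowers _), rfl⟩
  have hcardD : Nat.card D = 2 ^ k := by
    rw [hDdef, Subgroup.card_map_of_injective (Subgroup.subtype_injective _),
      Sylow.card_eq_multiplicity, hC, factorization_two_pow_mul hm]
  have hpD : IsPGroup 2 D := by
    rw [hDdef]; exact S.2.map _
  obtain ⟨P₁, hP₁⟩ := hpD.exists_le_sylow
  have hcardP : Nat.card (P₁ : Subgroup (SpecialLinearGroup (Fin 2) F)) = 2 * Nat.card D := by
    rw [hcardD]
    have := card_sylow_two p₀ hp₀ hm hd P₁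
    rw [pow_succ, mul_comm] at this
    exact this
  -- an element of P₁ outside C
  obtain ⟨w, hw, hwC⟩ : ∃ w ∈ (P₁ : Subgroup (SpecialLinearGroup (Fin 2) F)), w ∉ C := by
    by_contra hcon
    push Not at hcon
    have h1 : (P₁ : Subgroup (SpecialLinearGroup (Fin 2) F)) ≤ C := hcon
    have h2 := Subgroup.card_dvd_of_le h1
    rw [hC, hcardP, hcardD] at h2
    have h3 : 2 ∣ m := by
      have : 2 ^ k * 2 ∣ 2 ^ k * m := by rw [mul_comm (2 ^ k) 2]; exact h2
      exact Nat.dvd_of_mul_dvd_mul_left (by positivity) this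
    exact (Nat.not_even_iff_odd.mpr hm) (even_iff_two_dvd.mpr h3)
  have hconj : w * x * w⁻¹ ∈ C := hDC (conj_mem_of_index_two hP₁ hcardP hw hxD)
  have hinv : w * x * w⁻¹ = x⁻¹ := inverts_of_conj_mem p₀ hp₀ x ht w hconj hwC
  -- an element of odd prime order in C
  obtain ⟨r, hr, hrm⟩ := Nat.exists_prime_and_dvd (show m ≠ 1 by omega)
  haveI : Fact r.Prime := ⟨hr⟩
  have hr2 : r ≠ 2 := by
    intro h
    rw [h] at hrm
    exact (Nat.not_even_iff_odd.mpr hm) (even_iff_two_dvd.mpr hrm)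
  have hrC : r ∣ Nat.card C := by
    rw [hC]; exact dvd_mul_of_dvd_right hrm _
  obtain ⟨y, hy⟩ := exists_prime_orderOf_dvd_card' r hrC
  have hyo : orderOf (y : SpecialLinearGroup (Fin 2) F) = r := by
    rw [← hy]; exact Subgroup.orderOf_coe y
  have hyinv : w * (y : SpecialLinearGroup (Fin 2) F) * w⁻¹ = (y : SpecialLinearGroup (Fin 2) F)⁻¹ :=
    conj_eq_inv_of_inverting w x hns hinv y.1 y.2
  have hyx : (y : SpecialLinearGroup (Fin 2) F) * x = x * y := by
    have hy2 : (y : SpecialLinearGroup (Fin 2) F) ∈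
        Subgroup.centralizer ({x} : Set (SpecialLinearGroup (Fin 2) F)) := y.2
    exact (Subgroup.mem_centralizer_singleton_iff).mp hy2
  refine ⟨P₁, (y : SpecialLinearGroup (Fin 2) F) • P₁, ?_, hP₁ hxD, ?_⟩
  · intro heq
    have h1 : w ∈ (y : SpecialLinearGroup (Fin 2) F) • P₁ := by rw [← heq]; exact hw
    rw [mem_smul_iff] at h1
    have h2 : w⁻¹ * ((y : SpecialLinearGroup (Fin 2) F)⁻¹ * w * y) ∈
        (P₁ : Subgroup (SpecialLinearGroup (Fin 2) F)) :=
      (P₁ : Subgroup (SpecialLinearGroup (Fin 2) F)).mul_mem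
        ((P₁ : Subgroup (SpecialLinearGroup (Fin 2) F)).inv_mem hw) h1
    have h3 : w⁻¹ * ((y : SpecialLinearGroup (Fin 2) F)⁻¹ * w * y) =
        (y : SpecialLinearGroup (Fin 2) F) ^ 2 := by
      have e1 : w⁻¹ * (y : SpecialLinearGroup (Fin 2) F)⁻¹ * w = y := by
        rw [← hyinv]; group
      calc w⁻¹ * ((y : SpecialLinearGroup (Fin 2) F)⁻¹ * w * y)
          = (w⁻¹ * (y : SpecialLinearGroup (Fin 2) F)⁻¹ * w) * y := by group
        _ = (y : SpecialLinearGroup (Fin 2) F) ^ 2 := by rw [e1, pow_two]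
    rw [h3] at h2
    obtain ⟨a, ha⟩ := exists_pow_of_mem P₁ h2
    have h4 : ((y : SpecialLinearGroup (Fin 2) F) ^ 2) ^ (2 ^ a) = 1 := by
      rw [← ha]; exact pow_orderOf_eq_one _
    rw [← pow_mul, ← pow_succ'] at h4
    have h5 := orderOf_dvd_of_pow_eq_one h4
    rw [hyo] at h5
    have h6 := (Nat.prime_dvd_prime_iff_eq hr Nat.prime_two).mp (hr.dvd_of_dvd_pow h5)
    exact hr2 h6
  · rw [mem_smul_iff]
    have : (y : SpecialLinearGroup (Fin 2) F)⁻¹ * x * y = x := by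
      calc (y : SpecialLinearGroup (Fin 2) F)⁻¹ * x * y
          = (y : SpecialLinearGroup (Fin 2) F)⁻¹ * (x * y) := by group
        _ = (y : SpecialLinearGroup (Fin 2) F)⁻¹ * (y * x) := by rw [hyx]
        _ = x := by group
    rw [this]
    exact hP₁ hxD

/-- not a power of two: every Sylow `2`-subgroup is redundant. -/
theorem red_all (p₀ : ℕ) [Fact p₀.Prime] [CharP F p₀] (hp₀ : p₀ ≠ 2)
    {k m : ℕ} (hm : Odd m) (hm1 : 1 < m) (hd : dd (Fintype.card F) = 2 ^ k * m)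
    (Q : Sylow 2 (SpecialLinearGroup (Fin 2) F)) : Red 2 Q := by
  haveI : Fact (Nat.Prime 2) := ⟨Nat.prime_two⟩
  have h2 := two_ne_zero_F (F := F) p₀ hp₀
  -- two distinct Sylow subgroups
  obtain ⟨R₁, R₂, hR⟩ : ∃ R₁ R₂ : Sylow 2 (SpecialLinearGroup (Fin 2) F), R₁ ≠ R₂ := by
    obtain ⟨z, hz⟩ := exists_order_dd (F := F) p₀
    rw [hd] at hz
    have hq := card_F_odd (F := F) p₀ hp₀
    have h4 := four_dvd_dd hq
    rw [hd] at h4
    have hk2 : 2 ≤ k := by
      by_contra hlt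
      have hk : k = 0 ∨ k = 1 := by omega
      obtain ⟨c, hc⟩ := hm
      rcases hk with rfl | rfl <;> omega
    have hm0 : 0 < m := by omega
    have ho : orderOf (z ^ m) = 2 ^ k := by
      rw [orderOf_pow' _ (by omega), hz, Nat.gcd_mul_left_left, Nat.mul_div_cancel _ hm0]
    have hxx : z ^ m * z ^ m ≠ 1 := by
      intro h
      have h1 : orderOf (z ^ m) ∣ 2 := by
        apply orderOf_dvd_of_pow_eq_one; rw [pow_two]; exact h
      rw [ho] at h1
      have h3 : 2 ^ k ≤ 2 := Nat.le_of_dvd (by norm_num) h1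
      have h5 : 2 ^ 2 ≤ 2 ^ k := Nat.pow_le_pow_right (by norm_num) hk2
      omega
    obtain ⟨P₁, P₂, hne, -, -⟩ := exists_two p₀ hp₀ hm hm1 hd (z ^ m) ⟨k, ho⟩ hxx
    exact ⟨P₁, P₂, hne⟩
  apply red_of_two
  intro x hx
  by_cases hxx : x * x = 1
  · have hc : x ∈ Subgroup.center (SpecialLinearGroup (Fin 2) F) := by
      rcases eq_one_or_negOne_of_mul_self h2 x hxx with h | h
      · rw [h]; exact Subgroup.one_mem _
      · rw [h, Subgroup.mem_center_iff]
        intro g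
        exact negOneSL_commute g
    have hp := exists_pow_of_mem Q hx
    exact ⟨R₁, R₂, hR, central_mem_sylow hc hp R₁, central_mem_sylow hc hp R₂⟩
  · exact exists_two p₀ hp₀ hm hm1 hd x (exists_pow_of_mem Q hx) hxx

end sl2

end Cfsg.Agent.Lib.Helper5.RedSyl
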