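import Mathlib
import Cfsg.Agent.Lib.Helper5.RedSyl5

set_option autoImplicit false

namespace Cfsg.Agent.Lib.Helper5.RedSyl

open Matrix Cfsg.Agent.Lib.Helper5 Cfsg.Agent.Lib.Helper1

/-- arithmetic: for odd `q ≥ 3`, `dd q` is a power of two iff `q` is a Mersenne or Fermat number. -/
theorem dd_pow_iff {q : ℕ} (hq : q % 2 = 1) (hq3 : 3 ≤ q) :
    (∃ k : ℕ, dd q = 2 ^ k) ↔ ((∃ k : ℕ, q + 1 = 2 ^ k) ∨ ∃ k : ℕ, q = 2 ^ k + 1) := by
  constructor
  · rintro ⟨k, hk⟩
    unfold dd at hk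
    split_ifs at hk with h
    · right; exact ⟨k, by omega⟩
    · left; exact ⟨k, hk⟩
  · rintro (⟨k, hk⟩ | ⟨k, hk⟩)
    · have hk2 : 2 ≤ k := by
        by_contra hlt
        have : k = 0 ∨ k = 1 := by omega
        rcases this with rfl | rfl <;> omega
      obtain ⟨j, rfl⟩ : ∃ j, k = j + 2 := ⟨k - 2, by omega⟩
      have h4 : q % 4 = 3 := by
        have : 2 ^ (j + 2) = 4 * 2 ^ j := by ring
        omega
      refine ⟨j + 2, ?_⟩
      unfold dd
      rw [if_neg (by omega)]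
      exact hk
    · by_cases h : q % 4 = 1
      · refine ⟨k, ?_⟩
        unfold dd
        rw [if_pos h]; omega
      · -- q % 4 = 3, so 2^k % 4 = 2, so k = 1, q = 3
        have hk1 : k = 1 := by
          by_contra hne
          have : k = 0 ∨ 2 ≤ k := by omega
          rcases this with rfl | h2
          · omega
          · obtain ⟨j, rfl⟩ : ∃ j, k = j + 2 := ⟨k - 2, by omega⟩
            have : 2 ^ (j + 2) = 4 * 2 ^ j := by ring
            omega
        subst hk1
        refine ⟨2, ?_⟩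
        unfold dd
        rw [if_neg h]; omega

theorem odd_eq_one_of_pow {k m j : ℕ} (hm : Odd m) (h : 2 ^ j = 2 ^ k * m) : m = 1 := by
  have h1 : Nat.Coprime m (2 ^ j) := (Odd.coprime_two_right hm).pow_right j
  exact Nat.Coprime.eq_one_of_dvd h1 (h ▸ Dvd.intro_left _ rfl)

section sl2
variable {F : Type*} [Field F] [Fintype F]

/-- in the defining characteristic, `t01 1` lies in a unique Sylow subgroup. -/
theorem uniq_t01 (p : ℕ) [Fact p.Prime] [CharP F p] :
    (∃ k : ℕ, orderOf (t01 (1 : F)) = p ^ k) ∧ Uniq p (t01 (1 : F)) := by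
  have hmem : t01 (1 : F) ∈ (uSLSylow p : Sylow p (SpecialLinearGroup (Fin 2) F)) := by
    show t01 (1 : F) ∈ ((uSLSylow p : Sylow p (SpecialLinearGroup (Fin 2) F)) :
      Subgroup (SpecialLinearGroup (Fin 2) F))
    rw [coe_uSLSylow]; exact t01_mem 1
  refine ⟨exists_pow_of_mem _ hmem, ?_⟩
  have key : ∀ P : Sylow p (SpecialLinearGroup (Fin 2) F), t01 (1 : F) ∈ P → P = uSLSylow p := by
    intro P hP
    obtain ⟨g, hg⟩ := sylow_SL2_eq_cj p P
    have h1 : t01 (1 : F) ∈ cj g (uSL F) := by rw [← hg]; exact hP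
    rw [mem_cj, mem_uSL_iff] at h1
    obtain ⟨s, hs⟩ := h1
    have h2 : t01 (1 : F) * g = g * t01 s := by rw [← hs]; group
    have h3 : g 1 0 = 0 := by
      have h4 : ((t01 (1 : F) * g : SpecialLinearGroup (Fin 2) F) : Matrix (Fin 2) (Fin 2) F) 0 0 =
          ((g * t01 s : SpecialLinearGroup (Fin 2) F) : Matrix (Fin 2) (Fin 2) F) 0 0 := by rw [h2]
      have e1 : ((t01 (1 : F) * g : SpecialLinearGroup (Fin 2) F) : Matrix (Fin 2) (Fin 2) F) =
          !![1, 1; 0, 1] * (g : Matrix (Fin 2) (Fin 2) F) := by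
        rw [← t01_val]; rfl
      have e2 : ((g * t01 s : SpecialLinearGroup (Fin 2) F) : Matrix (Fin 2) (Fin 2) F) =
          (g : Matrix (Fin 2) (Fin 2) F) * !![1, s; 0, 1] := by
        rw [← t01_val]; rfl
      rw [e1, e2] at h4
      simp [Matrix.mul_apply, Fin.sum_univ_two] at h4
      exact h4
    apply Sylow.ext
    rw [hg, cj_uSL_of_lower_zero g h3, coe_uSLSylow]
  intro P P' hP hP'
  rw [key P hP, key P' hP']

/-- main theorem for `SL(2, q)`, in terms of `Red`. -/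
theorem exists_red_SL2_iff (p : ℕ) [Fact p.Prime] :
    (∃ Q : Sylow p (SpecialLinearGroup (Fin 2) F), Red p Q) ↔
      (p = 2 ∧ (¬ ∃ k : ℕ, Fintype.card F + 1 = 2 ^ k) ∧ (¬ ∃ k : ℕ, Fintype.card F = 2 ^ k) ∧
        ¬ ∃ k : ℕ, Fintype.card F = 2 ^ k + 1) := by
  classical
  obtain ⟨p₀, hcp⟩ := CharP.exists F
  haveI : Fact p₀.Prime := ⟨CharP.char_is_prime F p₀⟩
  have hp₀ : p₀.Prime := Fact.out
  obtain ⟨n, -, hq⟩ := FiniteField.card F p₀
  by_cases hpp : p = p₀
  · -- defining characteristic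
    subst hpp
    have hL : ¬ ∃ Q : Sylow p (SpecialLinearGroup (Fin 2) F), Red p Q := by
      rintro ⟨Q, hQ⟩
      obtain ⟨h1, h2⟩ := uniq_t01 (F := F) p
      exact not_red_of_uniq h1 h2 Q hQ
    have hR : ¬ (p = 2 ∧ (¬ ∃ k : ℕ, Fintype.card F + 1 = 2 ^ k) ∧
        (¬ ∃ k : ℕ, Fintype.card F = 2 ^ k) ∧ ¬ ∃ k : ℕ, Fintype.card F = 2 ^ k + 1) := by
      rintro ⟨h2, -, h3, -⟩
      apply h3
      exact ⟨n, by rw [hq, h2]⟩
    exact iff_of_false hL hR
  · by_cases hp2 : p = 2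
    · subst hp2
      have hp₀2 : p₀ ≠ 2 := fun h => hpp h.symm
      have hodd := card_F_odd (F := F) p₀ hp₀2
      have hq3 : 3 ≤ Fintype.card F := by
        have : 1 < Fintype.card F := Fintype.one_lt_card
        omega
      have hdd0 : dd (Fintype.card F) ≠ 0 := by
        unfold dd; split_ifs <;> omega
      obtain ⟨k, m, hm, hd⟩ := Nat.exists_eq_two_pow_mul_odd hdd0
      by_cases hm1 : m = 1
      · subst hm1
        rw [mul_one] at hd
        have hL : ¬ ∃ Q : Sylow 2 (SpecialLinearGroup (Fin 2) F), Red 2 Q := by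
          rintro ⟨Q, hQ⟩
          obtain ⟨z, h1, h2⟩ := exists_uniq (F := F) p₀ hp₀2 hd
          exact not_red_of_uniq h1 h2 Q hQ
        have hR : ¬ ((2 : ℕ) = 2 ∧ (¬ ∃ k : ℕ, Fintype.card F + 1 = 2 ^ k) ∧
            (¬ ∃ k : ℕ, Fintype.card F = 2 ^ k) ∧ ¬ ∃ k : ℕ, Fintype.card F = 2 ^ k + 1) := by
          rintro ⟨-, h1, -, h3⟩
          rcases (dd_pow_iff hodd hq3).mp ⟨k, hd⟩ with h | h
          · exact h1 h
          · exact h3 h
        exact iff_of_false hL hR
      · have hm0 : m ≠ 0 := by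
          rintro rfl
          exact (Nat.not_odd_iff_even.mpr (by decide)) hm
        have hm1' : 1 < m := by omega
        have hL : ∃ Q : Sylow 2 (SpecialLinearGroup (Fin 2) F), Red 2 Q := by
          haveI : Fact (Nat.Prime 2) := ⟨Nat.prime_two⟩
          obtain ⟨Q⟩ : Nonempty (Sylow 2 (SpecialLinearGroup (Fin 2) F)) := inferInstance
          exact ⟨Q, red_all p₀ hp₀2 hm hm1' hd Q⟩
        have hnp : ¬ ∃ j : ℕ, dd (Fintype.card F) = 2 ^ j := by
          rintro ⟨j, hj⟩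
          rw [hd] at hj
          exact hm1 (odd_eq_one_of_pow hm hj.symm)
        have hR : ((2 : ℕ) = 2 ∧ (¬ ∃ k : ℕ, Fintype.card F + 1 = 2 ^ k) ∧
            (¬ ∃ k : ℕ, Fintype.card F = 2 ^ k) ∧ ¬ ∃ k : ℕ, Fintype.card F = 2 ^ k + 1) := by
          refine ⟨rfl, ?_, ?_, ?_⟩
          · intro h
            exact hnp ((dd_pow_iff hodd hq3).mpr (Or.inl h))
          · rintro ⟨j, hj⟩
            rcases Nat.eq_zero_or_pos j with rfl | hj0
            · omega
            · obtain ⟨i, rfl⟩ : ∃ i, j = i + 1 := ⟨j - 1, by omega⟩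
              rw [pow_succ] at hj
              omega
          · intro h
            exact hnp ((dd_pow_iff hodd hq3).mpr (Or.inr h))
        exact iff_of_true hL hR
    · have hL : ¬ ∃ Q : Sylow p (SpecialLinearGroup (Fin 2) F), Red p Q := by
        rintro ⟨Q, hQ⟩
        exact not_red_of_cyclic Q (sylow_odd_SL2_cyclic p₀ p hp2 hpp Q) hQ
      exact iff_of_false hL (fun h => hp2 h.1)

end sl2

end Cfsg.Agent.Lib.Helper5.RedSyl
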