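import Mathlib

set_option autoImplicit false

/-!
# Unitary elements of a local commutative ring with involution, via the Cayley transform
-/

namespace Cfsg.Agent.Lib.Helper5.RegUnip

section cayley

variable {R : Type*} [CommRing R] [Nontrivial R] (σ : R →+* R)

/-- Cayley transform: unitary elements `g` with `1 + g` invertible correspond to skew elements -/
theorem cayley_bijection (hσ : ∀ x, σ (σ x) = x) (h2 : IsUnit (2 : R))
    (hi : ∀ g : R, IsUnit g ∨ IsNilpotent g) (hii : ∀ g : R, IsNilpotent (σ g - g)) :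
    Nat.card {g : R // σ g * g = 1 ∧ IsUnit (1 + g)} = Nat.card {s : R // σ s = -s} := by
  have hskew : ∀ s : R, σ s = -s → IsNilpotent s := by
    intro s hs
    have h1 := hii s
    rw [hs] at h1
    have h3 : -s - s = -(2 * s) := by ring
    rw [h3] at h1
    have h4 : IsNilpotent (2 * s) := by simpa using h1.neg
    obtain ⟨u, hu⟩ := h2
    have : s = ↑u⁻¹ * (2 * s) := by rw [← hu, ← mul_assoc, Units.inv_mul, one_mul]
    rw [this]
    exact (Commute.all _ _).isNilpotent_mul_left h4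
  -- inverse of sigma on units
  have hσu : ∀ (x y : R), x * y = 1 → σ x * σ y = 1 := by
    intro x y h
    rw [← map_mul, h, map_one]
  symm
  refine Nat.card_congr (Equiv.ofBijective (fun s : {s : R // σ s = -s} =>
    (⟨(1 + s.1) * ↑((hskew s.1 s.2).isUnit_one_sub.unit⁻¹), ?_, ?_⟩ :
      {g : R // σ g * g = 1 ∧ IsUnit (1 + g)})) ⟨?_, ?_⟩)
  · -- unitary
    obtain ⟨s, hs⟩ := s
    set w := (hskew s hs).isUnit_one_sub.unit with hw
    have hw1 : (w : R) = 1 - s := IsUnit.unit_spec _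
    have hw2 : (w : R) * ↑w⁻¹ = 1 := Units.mul_inv w
    show σ ((1 + s) * ↑w⁻¹) * ((1 + s) * ↑w⁻¹) = 1
    have h3 : σ (w : R) = 1 + s := by rw [hw1, map_sub, map_one, hs]; ring
    have h4 : σ (w : R) * σ (↑w⁻¹ : R) = 1 := hσu _ _ hw2
    rw [h3] at h4
    rw [map_mul, map_add, map_one, hs]
    have h5 : (1 + -s) = (w : R) := by rw [hw1]; ring
    rw [h5]
    calc (w : R) * σ (↑w⁻¹ : R) * ((1 + s) * ↑w⁻¹)
        = ((w : R) * ↑w⁻¹) * ((1 + s) * σ (↑w⁻¹ : R)) := by ring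
      _ = 1 := by rw [hw2, h4, one_mul]
  · -- 1 + g unit
    obtain ⟨s, hs⟩ := s
    set w := (hskew s hs).isUnit_one_sub.unit with hw
    have hw1 : (w : R) = 1 - s := IsUnit.unit_spec _
    have hw2 : (w : R) * ↑w⁻¹ = 1 := Units.mul_inv w
    show IsUnit (1 + (1 + s) * ↑w⁻¹)
    have : 1 + (1 + s) * (↑w⁻¹ : R) = 2 * ↑w⁻¹ := by
      calc 1 + (1 + s) * (↑w⁻¹ : R) = (w : R) * ↑w⁻¹ + (1 + s) * ↑w⁻¹ := by rw [hw2]
        _ = 2 * ↑w⁻¹ := by rw [hw1]; ring
    rw [this]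
    exact h2.mul w⁻¹.isUnit
  · -- injective
    rintro ⟨s, hs⟩ ⟨s', hs'⟩ h
    have h1 := congrArg Subtype.val h
    simp only at h1
    set w := (hskew s hs).isUnit_one_sub.unit with hw
    set w' := (hskew s' hs').isUnit_one_sub.unit with hw'
    have hw1 : (w : R) = 1 - s := IsUnit.unit_spec _
    have hw1' : (w' : R) = 1 - s' := IsUnit.unit_spec _
    have h3 : (1 + s) * (w' : R) = (1 + s') * (w : R) := by
      calc (1 + s) * (w' : R) = ((1 + s) * ↑w⁻¹) * (w : R) * w' := by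
            rw [mul_assoc (1 + s), Units.inv_mul, mul_one]
        _ = ((1 + s') * ↑w'⁻¹) * (w : R) * w' := by rw [h1]
        _ = (1 + s') * (w : R) * ((w' : R) * ↑w'⁻¹) := by ring
        _ = (1 + s') * (w : R) := by rw [Units.mul_inv, mul_one]
    rw [hw1, hw1'] at h3
    have h4 : 2 * (s - s') = 0 := by linear_combination h3
    obtain ⟨u, hu⟩ := h2
    have h5 : s - s' = 0 := by
      calc s - s' = ↑u⁻¹ * (2 * (s - s')) := by rw [← hu, ← mul_assoc, Units.inv_mul, one_mul]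
        _ = 0 := by rw [h4, mul_zero]
    exact Subtype.ext (sub_eq_zero.1 h5)
  · -- surjective
    rintro ⟨g, hg, hgu⟩
    obtain ⟨v, hv⟩ := hgu
    have hv2 : (v : R) * ↑v⁻¹ = 1 := Units.mul_inv v
    have hgi : σ g * g = 1 := hg
    -- s = (g - 1) / (g + 1)
    have hσv : σ (v : R) * g = (v : R) := by
      rw [hv, map_add, map_one, add_mul, hgi]; ring
    have hs : σ ((g - 1) * ↑v⁻¹) = -((g - 1) * ↑v⁻¹) := by
      have h4 : σ (v : R) * σ (↑v⁻¹ : R) = 1 := hσu _ _ hv2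
      -- σ(v⁻¹) = g * v⁻¹
      have h5 : σ (↑v⁻¹ : R) = g * ↑v⁻¹ := by
        calc σ (↑v⁻¹ : R) = ((v : R) * ↑v⁻¹) * σ (↑v⁻¹ : R) := by rw [hv2, one_mul]
          _ = (σ (v : R) * g) * ↑v⁻¹ * σ (↑v⁻¹ : R) := by rw [hσv]
          _ = g * ↑v⁻¹ * (σ (v : R) * σ (↑v⁻¹ : R)) := by ring
          _ = g * ↑v⁻¹ := by rw [h4, mul_one]
      rw [map_mul, map_sub, map_one, h5]
      have : (σ g - 1) * (g * ↑v⁻¹) = (σ g * g - g) * ↑v⁻¹ := by ring
      rw [this, hgi]
      ring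
    refine ⟨⟨(g - 1) * ↑v⁻¹, hs⟩, ?_⟩
    apply Subtype.ext
    show (1 + (g - 1) * ↑v⁻¹) * ↑((hskew _ hs).isUnit_one_sub.unit⁻¹) = g
    set w := (hskew _ hs).isUnit_one_sub.unit with hw
    have hw1 : (w : R) = 1 - (g - 1) * ↑v⁻¹ := IsUnit.unit_spec _
    have h6 : (1 + (g - 1) * (↑v⁻¹ : R)) = g * (w : R) := by
      rw [hw1]
      have e1 : (1 : R) = (v : R) * ↑v⁻¹ := hv2.symm
      calc 1 + (g - 1) * (↑v⁻¹ : R) = (v : R) * ↑v⁻¹ + (g - 1) * ↑v⁻¹ := by rw [hv2]
        _ = (2 * g) * ↑v⁻¹ := by rw [hv]; ring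
        _ = g * ((v : R) * ↑v⁻¹ - (g - 1) * ↑v⁻¹) := by rw [hv]; ring
        _ = g * (1 - (g - 1) * ↑v⁻¹) := by rw [hv2]
    rw [h6, mul_assoc, Units.mul_inv, mul_one]


theorem card_or' {α : Type*} [Finite α] (P Q : α → Prop) (h : ∀ a, P a → ¬ Q a) :
    Nat.card {a // P a ∨ Q a} = Nat.card {a // P a} + Nat.card {a // Q a} := by
  classical
  haveI := Fintype.ofFinite α
  rw [Nat.card_eq_fintype_card, Nat.card_eq_fintype_card, Nat.card_eq_fintype_card]
  exact Fintype.card_subtype_or_disjoint P Q (fun r hrp hrq a hra => h a (hrp a hra) (hrq a hra))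

/-- the number of unitary elements is twice the number of skew elements -/
theorem card_unitary [Finite R] (hσ : ∀ x, σ (σ x) = x) (h2 : IsUnit (2 : R))
    (hi : ∀ g : R, IsUnit g ∨ IsNilpotent g) (hii : ∀ g : R, IsNilpotent (σ g - g)) :
    Nat.card {g : R // σ g * g = 1} = 2 * Nat.card {s : R // σ s = -s} := by
  have key : ∀ g : R, σ g * g = 1 ↔
      ((σ g * g = 1 ∧ IsUnit (1 + g)) ∨ (σ g * g = 1 ∧ IsUnit (1 - g))) := by
    intro g
    constructor
    · intro hg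
      by_cases h1 : IsUnit (1 + g)
      · exact Or.inl ⟨hg, h1⟩
      · right
        refine ⟨hg, ?_⟩
        by_contra h3
        have n1 := (hi (1 + g)).resolve_left h1
        have n2 := (hi (1 - g)).resolve_left h3
        have n3 : IsNilpotent ((1 + g) + (1 - g)) := (Commute.all _ _).isNilpotent_add n1 n2
        have e : (1 + g) + (1 - g) = 2 := by ring
        rw [e] at n3
        exact h2.not_isNilpotent n3
    · rintro (⟨h, -⟩ | ⟨h, -⟩) <;> exact h
  have hdisj : ∀ g : R, (σ g * g = 1 ∧ IsUnit (1 + g)) → ¬ (σ g * g = 1 ∧ IsUnit (1 - g)) := by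
    rintro g ⟨hg, h1⟩ ⟨-, h3⟩
    have h4 : IsUnit ((1 + g) * (1 - g)) := h1.mul h3
    have e : (1 + g) * (1 - g) = g * (σ g - g) := by
      calc (1 + g) * (1 - g) = 1 - g * g := by ring
        _ = σ g * g - g * g := by rw [hg]
        _ = g * (σ g - g) := by ring
    rw [e] at h4
    exact h4.not_isNilpotent ((Commute.all _ _).isNilpotent_mul_left (hii g))
  rw [Nat.card_congr (Equiv.subtypeEquivRight key), card_or' _ _ hdisj,
    cayley_bijection σ hσ h2 hi hii]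
  have hneg : Nat.card {g : R // σ g * g = 1 ∧ IsUnit (1 - g)} =
      Nat.card {g : R // σ g * g = 1 ∧ IsUnit (1 + g)} := by
    refine Nat.card_congr ((Equiv.neg R).subtypeEquiv ?_)
    intro g
    show _ ↔ (σ (-g) * (-g) = 1 ∧ IsUnit (1 + -g))
    rw [map_neg, neg_mul_neg, ← sub_eq_add_neg]
  rw [hneg, cayley_bijection σ hσ h2 hi hii]
  ring

end cayley

end Cfsg.Agent.Lib.Helper5.RegUnip
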