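import Mathlib

set_option autoImplicit false

/-!
# Regular nilpotent matrices: the commutant consists of polynomials
-/

namespace Cfsg.Agent.Lib.Helper5.RegUnip

open Matrix Module

section kernel

variable {F : Type*} [Field F] {V : Type*} [AddCommGroup V] [Module F V] [FiniteDimensional F V]

/-- the kernels of the powers of an endomorphism grow by at most the nullity -/
theorem finrank_ker_pow_le (f : Module.End F V) (k : ℕ) :
    finrank F (LinearMap.ker (f ^ k)) ≤ k * finrank F (LinearMap.ker f) := by
  induction k with
  | zero =>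
    rw [pow_zero, zero_mul]
    have : LinearMap.ker (1 : Module.End F V) = ⊥ := by
      rw [LinearMap.ker_eq_bot']
      intro v hv
      exact hv
    rw [this, finrank_bot]
  | succ k ih =>
    have hmem : ∀ x ∈ LinearMap.ker (f ^ (k + 1)), f x ∈ LinearMap.ker (f ^ k) := by
      intro x hx
      rw [LinearMap.mem_ker] at hx ⊢
      rw [pow_succ, Module.End.mul_apply] at hx
      exact hx
    set g : LinearMap.ker (f ^ (k + 1)) →ₗ[F] LinearMap.ker (f ^ k) := f.restrict hmem with hg
    have h1 := LinearMap.finrank_range_add_finrank_ker g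
    have h2 : finrank F (LinearMap.range g) ≤ finrank F (LinearMap.ker (f ^ k)) :=
      Submodule.finrank_le _
    have h3 : finrank F (LinearMap.ker g) ≤ finrank F (LinearMap.ker f) := by
      let j : LinearMap.ker g →ₗ[F] LinearMap.ker f :=
        LinearMap.codRestrict (LinearMap.ker f)
          ((LinearMap.ker (f ^ (k + 1))).subtype.comp (LinearMap.ker g).subtype) (by
            intro x
            have hx := x.2
            rw [LinearMap.mem_ker] at hx ⊢
            have h5 : ((g x.1 : LinearMap.ker (f ^ k)) : V) = f (x.1 : V) := rfl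
            have h6 := congrArg Subtype.val hx
            rw [h5] at h6
            exact h6)
      apply LinearMap.finrank_le_finrank_of_injective (f := j)
      intro x y hxy
      have := congrArg Subtype.val hxy
      apply Subtype.ext
      apply Subtype.ext
      simpa [j] using this
    calc finrank F (LinearMap.ker (f ^ (k + 1)))
        = finrank F (LinearMap.range g) + finrank F (LinearMap.ker g) := h1.symm
      _ ≤ k * finrank F (LinearMap.ker f) + finrank F (LinearMap.ker f) := by omega
      _ = (k + 1) * finrank F (LinearMap.ker f) := by ring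

end kernel


section matrix

variable {ι : Type*} [Fintype ι] [DecidableEq ι] {F : Type*} [Field F]

/-- a nilpotent matrix of corank one has maximal nilpotency index -/
theorem pow_pred_ne_zero (c : Matrix ι ι F) {n : ℕ} (hn : Fintype.card ι = n) (hpos : 0 < n)
    (hr : c.rank = n - 1) : c ^ (n - 1) ≠ 0 := by
  intro h0
  set f : Module.End F (ι → F) := Matrix.toLinAlgEquiv' c with hf
  have hfk : f ^ (n - 1) = 0 := by
    rw [hf, ← map_pow, h0, map_zero]
  have hker : finrank F (LinearMap.ker f) = 1 := by
    have h1 := LinearMap.finrank_range_add_finrank_ker f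
    rw [finrank_fintype_fun_eq_card, hn] at h1
    have h2 : finrank F (LinearMap.range f) = n - 1 := by
      rw [← hr]
      rfl
    omega
  have h3 := finrank_ker_pow_le f (n - 1)
  rw [hfk, hker, mul_one] at h3
  have h4 : LinearMap.ker (0 : Module.End F (ι → F)) = ⊤ := LinearMap.ker_zero
  rw [h4, finrank_top, finrank_fintype_fun_eq_card, hn] at h3
  omega

/-- polynomials in `c` with coefficient vector `a` -/
def P (c : Matrix ι ι F) {n : ℕ} (a : Fin n → F) : Matrix ι ι F := ∑ k : Fin n, a k • c ^ (k : ℕ)

theorem P_commute (c : Matrix ι ι F) {n : ℕ} (a : Fin n → F) (X : Matrix ι ι F) (hX : X * c = c * X) :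
    X * P c a = P c a * X := by
  unfold P
  rw [Finset.mul_sum, Finset.sum_mul]
  apply Finset.sum_congr rfl
  intro k _
  rw [Matrix.mul_smul, Matrix.smul_mul]
  congr 1
  have : Commute X c := hX
  exact (this.pow_right _).eq

theorem P_comm (c : Matrix ι ι F) {n : ℕ} (a b : Fin n → F) : P c a * P c b = P c b * P c a :=
  P_commute c b (P c a) (P_commute c a c rfl).symm

theorem P_mulVec (c : Matrix ι ι F) {n : ℕ} (a : Fin n → F) (v : ι → F) :
    (P c a).mulVec v = ∑ k : Fin n, a k • (c ^ (k : ℕ)).mulVec v := by
  unfold P
  rw [Matrix.sum_mulVec]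
  apply Finset.sum_congr rfl
  intro k _
  rw [Matrix.smul_mulVec]

/-- evaluation at a cyclic vector is injective on coefficient vectors -/
theorem E_injective (c : Matrix ι ι F) {n : ℕ} (hc : c ^ n = 0) (v : ι → F)
    (hv : (c ^ (n - 1)).mulVec v ≠ 0) (a : Fin n → F) (ha : (P c a).mulVec v = 0) : a = 0 := by
  have key : ∀ j : ℕ, ∀ hj : j < n, a ⟨j, hj⟩ = 0 := by
    intro j
    induction j using Nat.strong_induction_on with
    | _ j ih =>
      intro hj
      have h1 := congrArg (fun w => (c ^ (n - 1 - j)).mulVec w) ha
      simp only [Matrix.mulVec_zero] at h1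
      rw [P_mulVec, Matrix.mulVec_sum] at h1
      rw [Finset.sum_eq_single (⟨j, hj⟩ : Fin n)] at h1
      · rw [Matrix.mulVec_smul, Matrix.mulVec_mulVec, ← pow_add] at h1
        have e : n - 1 - j + j = n - 1 := by omega
        simp only [e] at h1
        rcases smul_eq_zero.1 h1 with h | h
        · exact h
        · exact absurd h hv
      · intro k _ hk
        rw [Matrix.mulVec_smul, Matrix.mulVec_mulVec, ← pow_add]
        rcases lt_or_gt_of_ne (fun h => hk (Fin.ext h) : (k : ℕ) ≠ j) with hlt | hgt
        · have := ih k hlt k.2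
          rw [show (⟨(k : ℕ), k.2⟩ : Fin n) = k from rfl] at this
          rw [this, zero_smul]
        · have e : n - 1 - j + (k : ℕ) = n + ((k : ℕ) - j - 1) := by omega
          rw [e, pow_add, hc, zero_mul, Matrix.zero_mulVec, smul_zero]
      · intro h
        exact absurd (Finset.mem_univ _) h
  funext k
  exact key k k.2

theorem P_injective (c : Matrix ι ι F) {n : ℕ} (hc : c ^ n = 0) (hne : c ^ (n - 1) ≠ 0)
    (a b : Fin n → F) (h : P c a = P c b) : a = b := by
  obtain ⟨v, hv⟩ : ∃ v : ι → F, (c ^ (n - 1)).mulVec v ≠ 0 := by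
    by_contra hcon
    push Not at hcon
    apply hne
    apply Matrix.toLin'.injective
    apply LinearMap.ext
    intro v
    rw [Matrix.toLin'_apply, hcon v, map_zero, LinearMap.zero_apply]
  have h1 : P c (a - b) = 0 := by
    unfold P at h ⊢
    simp only [Pi.sub_apply, sub_smul, Finset.sum_sub_distrib]
    rw [h, sub_self]
  have h3 := E_injective c hc v hv (a - b) (by rw [h1, Matrix.zero_mulVec])
  exact sub_eq_zero.1 h3

/-- the commutant of a regular nilpotent matrix consists of polynomials -/
theorem exists_P_of_commute (c : Matrix ι ι F) {n : ℕ} (hn : Fintype.card ι = n) (hpos : 0 < n)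
    (hc : c ^ n = 0) (hr : c.rank = n - 1) (X : Matrix ι ι F) (hX : X * c = c * X) :
    ∃ a : Fin n → F, X = P c a := by
  have hne := pow_pred_ne_zero c hn hpos hr
  obtain ⟨v, hv⟩ : ∃ v : ι → F, (c ^ (n - 1)).mulVec v ≠ 0 := by
    by_contra hcon
    push Not at hcon
    apply hne
    apply Matrix.toLin'.injective
    apply LinearMap.ext
    intro v
    rw [Matrix.toLin'_apply, hcon v, map_zero, LinearMap.zero_apply]
  -- the evaluation map
  let E : (Fin n → F) →ₗ[F] (ι → F) :=
    { toFun := fun a => (P c a).mulVec v
      map_add' := by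
        intro a b
        rw [P_mulVec, P_mulVec, P_mulVec, ← Finset.sum_add_distrib]
        apply Finset.sum_congr rfl
        intro k _
        rw [Pi.add_apply, add_smul]
      map_smul' := by
        intro t a
        rw [P_mulVec, P_mulVec, Finset.smul_sum]
        apply Finset.sum_congr rfl
        intro k _
        rw [Pi.smul_apply, smul_eq_mul, mul_smul, RingHom.id_apply] }
  have hEinj : Function.Injective E := by
    rw [← LinearMap.ker_eq_bot, LinearMap.ker_eq_bot']
    intro a ha
    exact E_injective c hc v hv a ha
  have hEsurj : Function.Surjective E := by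
    apply (LinearMap.injective_iff_surjective_of_finrank_eq_finrank _).1 hEinj
    rw [finrank_fintype_fun_eq_card, finrank_fintype_fun_eq_card, Fintype.card_fin, hn]
  obtain ⟨a, ha⟩ := hEsurj (X.mulVec v)
  refine ⟨a, ?_⟩
  apply Matrix.toLin'.injective
  apply LinearMap.ext
  intro w
  obtain ⟨b, hb⟩ := hEsurj w
  rw [Matrix.toLin'_apply, Matrix.toLin'_apply, ← hb]
  show X.mulVec ((P c b).mulVec v) = (P c a).mulVec ((P c b).mulVec v)
  rw [Matrix.mulVec_mulVec, Matrix.mulVec_mulVec, P_commute c b X hX, P_comm c a b,
    ← Matrix.mulVec_mulVec, ← Matrix.mulVec_mulVec]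
  congr 1
  exact ha.symm

end matrix

end Cfsg.Agent.Lib.Helper5.RegUnip
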