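import Mathlib
import Cfsg.Agent.Lib.Helper5.RegUnip1
import Cfsg.Agent.Lib.Helper5.RegUnip2
import Cfsg.Agent.Lib.Helper5.Wall2

set_option autoImplicit false

/-!
# Regular unipotent elements of symplectic groups: the centraliser
-/

namespace Cfsg.Agent.Lib.Helper5.RegUnip

open Matrix Module Cfsg.Agent.Lib.Helper5.Wall

section more

variable {ι : Type*} [Fintype ι] [DecidableEq ι] {F : Type*} [Field F]

theorem P_succ (c : Matrix ι ι F) {n : ℕ} (a : Fin (n + 1) → F) :
    P c a = a 0 • (1 : Matrix ι ι F) + c * P c (fun k : Fin n => a k.succ) := by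
  unfold P
  rw [Fin.sum_univ_succ, Finset.mul_sum]
  simp only [Fin.val_zero, pow_zero, Fin.val_succ, Matrix.mul_smul, pow_succ']

theorem P_pow_eq_zero (c : Matrix ι ι F) {n : ℕ} (hc : c ^ (n + 1) = 0) (a : Fin (n + 1) → F)
    (ha : a 0 = 0) : P c a ^ (n + 1) = 0 := by
  rw [P_succ, ha, zero_smul, zero_add]
  have hcomm : Commute c (P c (fun k : Fin n => a k.succ)) := P_commute c _ c rfl
  rw [hcomm.mul_pow, hc, zero_mul]

theorem P_isUnit (c : Matrix ι ι F) {n : ℕ} (hc : c ^ (n + 1) = 0) (a : Fin (n + 1) → F)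
    (ha : a 0 ≠ 0) : IsUnit (P c a) := by
  rw [P_succ]
  have hcomm : Commute c (P c (fun k : Fin n => a k.succ)) := P_commute c _ c rfl
  have hnil : IsNilpotent (c * P c (fun k : Fin n => a k.succ)) :=
    ⟨n + 1, by rw [hcomm.mul_pow, hc, zero_mul]⟩
  apply hnil.isUnit_add_left_of_commute
  · have : IsUnit (a 0) := isUnit_iff_ne_zero.2 ha
    obtain ⟨t, ht⟩ := this
    refine ⟨⟨a 0 • 1, (↑t⁻¹ : F) • 1, ?_, ?_⟩, rfl⟩
    · rw [Matrix.smul_mul, Matrix.mul_smul, Matrix.mul_one, smul_smul, ← ht, Units.mul_inv, one_smul]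
    · rw [Matrix.smul_mul, Matrix.mul_smul, Matrix.mul_one, smul_smul, ← ht, Units.inv_mul, one_smul]
  · exact (Commute.one_right _).smul_right _

end more

section symp

variable {l : Type*} [Fintype l] [DecidableEq l] {F : Type*} [Field F]

/-- the symplectic adjoint -/
def tau (X : Matrix (l ⊕ l) (l ⊕ l) F) : Matrix (l ⊕ l) (l ⊕ l) F := -J l F * Xᵀ * J l F

theorem tau_add (X Y : Matrix (l ⊕ l) (l ⊕ l) F) : tau (X + Y) = tau X + tau Y := by
  unfold tau
  rw [Matrix.transpose_add, Matrix.mul_add, Matrix.add_mul]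

theorem tau_smul (t : F) (X : Matrix (l ⊕ l) (l ⊕ l) F) : tau (t • X) = t • tau X := by
  unfold tau
  rw [Matrix.transpose_smul, Matrix.mul_smul, Matrix.smul_mul]

theorem tau_neg (X : Matrix (l ⊕ l) (l ⊕ l) F) : tau (-X) = -tau X := by
  unfold tau
  rw [Matrix.transpose_neg, Matrix.mul_neg, Matrix.neg_mul]

theorem tau_sub (X Y : Matrix (l ⊕ l) (l ⊕ l) F) : tau (X - Y) = tau X - tau Y := by
  rw [sub_eq_add_neg, tau_add, tau_neg, ← sub_eq_add_neg]

theorem tau_mul (X Y : Matrix (l ⊕ l) (l ⊕ l) F) : tau (X * Y) = tau Y * tau X := by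
  unfold tau
  rw [Matrix.transpose_mul]
  have h : J l F * J l F = -1 := J_squared l F
  calc -J l F * (Yᵀ * Xᵀ) * J l F = -(J l F * Yᵀ * Xᵀ * J l F) := by
        simp only [Matrix.neg_mul, Matrix.mul_assoc]
    _ = J l F * Yᵀ * (J l F * J l F) * Xᵀ * J l F := by
        rw [h]; simp only [Matrix.mul_neg, Matrix.neg_mul, Matrix.mul_one]
    _ = -J l F * Yᵀ * J l F * (-J l F * Xᵀ * J l F) := by
        simp only [Matrix.neg_mul, Matrix.mul_neg, neg_neg, Matrix.mul_assoc]

theorem tau_one : tau (1 : Matrix (l ⊕ l) (l ⊕ l) F) = 1 := by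
  unfold tau
  rw [Matrix.transpose_one, Matrix.mul_one, Matrix.neg_mul, J_squared, neg_neg]

theorem tau_tau (X : Matrix (l ⊕ l) (l ⊕ l) F) : tau (tau X) = X := by
  unfold tau
  rw [Matrix.transpose_mul, Matrix.transpose_mul, Matrix.transpose_transpose, Matrix.transpose_neg,
    J_transpose]
  have h : J l F * J l F = -1 := J_squared l F
  calc -J l F * (-J l F * (X * - -J l F)) * J l F
      = (J l F * J l F) * X * (J l F * J l F) := by
        simp only [Matrix.neg_mul, Matrix.mul_neg, neg_neg, Matrix.mul_assoc]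
    _ = X := by rw [h]; simp

theorem tau_pow (X : Matrix (l ⊕ l) (l ⊕ l) F) (k : ℕ) : tau (X ^ k) = tau X ^ k := by
  induction k with
  | zero => rw [pow_zero, pow_zero, tau_one]
  | succ k ih => rw [pow_succ, tau_mul, ih, pow_succ']

theorem mem_symplectic_iff_tau (g : Matrix (l ⊕ l) (l ⊕ l) F) :
    g ∈ symplecticGroup l F ↔ tau g * g = 1 := by
  rw [SymplecticGroup.mem_iff']
  unfold tau
  have h : J l F * J l F = -1 := J_squared l F
  constructor
  · intro hg
    calc -J l F * gᵀ * J l F * g = -(J l F * (gᵀ * J l F * g)) := by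
          simp only [Matrix.neg_mul, Matrix.mul_assoc]
      _ = 1 := by rw [hg, h, neg_neg]
  · intro hg
    calc gᵀ * J l F * g = -(J l F * J l F) * (gᵀ * J l F * g) := by rw [h, neg_neg, Matrix.one_mul]
      _ = J l F * (-J l F * gᵀ * J l F * g) := by
          simp only [Matrix.neg_mul, Matrix.mul_neg, Matrix.mul_assoc]
      _ = J l F := by rw [hg, Matrix.mul_one]

theorem tau_P (c : Matrix (l ⊕ l) (l ⊕ l) F) (hc : tau c = -c) {n : ℕ} (a : Fin n → F) :
    tau (P c a) = P c (fun k => (-1) ^ (k : ℕ) * a k) := by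
  unfold P
  have hsum : ∀ (s : Finset (Fin n)) (f : Fin n → Matrix (l ⊕ l) (l ⊕ l) F),
      tau (∑ k ∈ s, f k) = ∑ k ∈ s, tau (f k) := by
    intro s f
    induction s using Finset.induction_on with
    | empty =>
      simp only [Finset.sum_empty]
      unfold tau
      simp
    | insert x s hx ih => rw [Finset.sum_insert hx, Finset.sum_insert hx, tau_add, ih]
  rw [hsum]
  apply Finset.sum_congr rfl
  intro k _
  rw [tau_smul, tau_pow, hc, neg_pow, mul_smul, smul_comm]
  congr 1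
  rcases Nat.even_or_odd (k : ℕ) with h | h
  · rw [h.neg_one_pow, h.neg_one_pow, one_mul, one_smul]
  · rw [h.neg_one_pow, h.neg_one_pow, neg_one_mul, neg_one_smul]


theorem P_sub (c : Matrix (l ⊕ l) (l ⊕ l) F) {n : ℕ} (a b : Fin n → F) :
    P c a - P c b = P c (a - b) := by
  unfold P
  rw [← Finset.sum_sub_distrib]
  apply Finset.sum_congr rfl
  intro k _
  rw [Pi.sub_apply, sub_smul]

theorem P_neg (c : Matrix (l ⊕ l) (l ⊕ l) F) {n : ℕ} (a : Fin n → F) :
    P c (-a) = -P c a := by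
  unfold P
  rw [← Finset.sum_neg_distrib]
  apply Finset.sum_congr rfl
  intro k _
  rw [Pi.neg_apply, neg_smul]

theorem P_mem_bic (c : Matrix (l ⊕ l) (l ⊕ l) F) {n : ℕ} (a : Fin n → F) :
    P c a ∈ bic ({c} : Set (Matrix (l ⊕ l) (l ⊕ l) F)) := by
  rw [mem_bic]
  intro u hu
  exact P_commute c a u (hu c rfl).symm

theorem commute_of_mem_bic (c x : Matrix (l ⊕ l) (l ⊕ l) F)
    (hx : x ∈ bic ({c} : Set (Matrix (l ⊕ l) (l ⊕ l) F))) : x * c = c * x := by
  rw [mem_bic] at hx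
  exact (hx c (fun t ht => by rw [Set.mem_singleton_iff.1 ht])).symm

theorem setup_tau [Finite F] (c : Matrix (l ⊕ l) (l ⊕ l) F) (hτ : tau c = -c) :
    Setup tau ({c} : Set (Matrix (l ⊕ l) (l ⊕ l) F)) where
  add := tau_add
  mul := tau_mul
  one := tau_one
  inv := fun x _ => tau_tau x
  comm := by
    intro x hx y hy
    rw [Set.mem_singleton_iff.1 hx, Set.mem_singleton_iff.1 hy]
  stable := by
    intro x hx t ht
    rw [Set.mem_singleton_iff.1 ht]
    have h1 : c * x = x * c := hx c rfl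
    have h3 := congrArg tau h1
    rw [tau_mul, tau_mul, hτ] at h3
    have h4 : tau x * c = c * tau x := by
      have := congrArg (fun M => -M) h3
      simpa using this
    exact h4.symm

/-- vectors vanishing at even indices -/
def oddEquiv (m n : ℕ) (hn : n = 2 * m) :
    {a : Fin n → F // ∀ k : Fin n, Even (k : ℕ) → a k = 0} ≃ (Fin m → F) where
  toFun a := fun j => a.1 ⟨2 * (j : ℕ) + 1, by omega⟩
  invFun b := ⟨fun k => if h : Odd (k : ℕ) then b ⟨(k : ℕ) / 2, by
      have := k.2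
      omega⟩ else 0, by
    intro k hk
    simp only [dif_neg (Nat.not_odd_iff_even.2 hk)]⟩
  left_inv a := by
    apply Subtype.ext
    funext k
    by_cases h : Odd (k : ℕ)
    · simp only [dif_pos h]
      have e : (⟨2 * ((k : ℕ) / 2) + 1, by have := k.2; obtain ⟨r, hr⟩ := h; omega⟩ : Fin n) = k := by
        apply Fin.ext
        obtain ⟨r, hr⟩ := h
        simp only
        omega
      rw [e]
    · simp only [dif_neg h]
      exact (a.2 k (Nat.not_odd_iff_even.1 h)).symm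
  right_inv b := by
    funext j
    have h : Odd (2 * (j : ℕ) + 1) := ⟨j, rfl⟩
    simp only [dif_pos h]
    congr 1
    apply Fin.ext
    simp only
    omega


/-- **Main count**: matrices commuting with a skew regular nilpotent `c` and unitary for `tau` -/
theorem card_commuting_unitary [Fintype F] {m : ℕ} (hm : 1 ≤ m) (hl : Fintype.card l = m)
    (h2 : (2 : F) ≠ 0) (c : Matrix (l ⊕ l) (l ⊕ l) F) (hτ : tau c = -c) (hc : c ^ (2 * m) = 0)
    (hr : c.rank = 2 * m - 1) :
    Nat.card {g : Matrix (l ⊕ l) (l ⊕ l) F // g * c = c * g ∧ tau g * g = 1} =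
      2 * Fintype.card F ^ m := by
  classical
  obtain ⟨n', hn'⟩ : ∃ n', 2 * m = n' + 1 := ⟨2 * m - 1, by omega⟩
  have hcard : Fintype.card (l ⊕ l) = n' + 1 := by rw [Fintype.card_sum, hl]; omega
  rw [hn'] at hc
  have hr' : c.rank = (n' + 1) - 1 := by rw [hr, hn']
  have hS := setup_tau c hτ
  letI := hS.commRing
  have hrep : ∀ X, X * c = c * X → ∃ a : Fin (n' + 1) → F, X = P c a :=
    fun X hX => exists_P_of_commute c hcard (Nat.succ_pos _) hc hr' X hX
  have hne := pow_pred_ne_zero c hcard (Nat.succ_pos _) hr'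
  have hrepR : ∀ x : bic ({c} : Set (Matrix (l ⊕ l) (l ⊕ l) F)),
      ∃ a : Fin (n' + 1) → F, (x : Matrix (l ⊕ l) (l ⊕ l) F) = P c a :=
    fun x => hrep x.1 (commute_of_mem_bic c _ x.2)
  -- step 1: pass to the bicommutant
  let e1 : {g : Matrix (l ⊕ l) (l ⊕ l) F // g * c = c * g ∧ tau g * g = 1} ≃
      {x : bic ({c} : Set (Matrix (l ⊕ l) (l ⊕ l) F)) // hS.sigma x * x = 1} :=
    { toFun := fun g => ⟨⟨g.1, by
          obtain ⟨a, ha⟩ := hrep g.1 g.2.1
          rw [ha]
          exact P_mem_bic c a⟩, Subtype.ext g.2.2⟩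
      invFun := fun x => ⟨x.1.1, commute_of_mem_bic c _ x.1.2, congrArg Subtype.val x.2⟩
      left_inv := fun g => rfl
      right_inv := fun x => rfl }
  rw [Nat.card_congr e1]
  haveI : Nonempty (l ⊕ l) := Fintype.card_pos_iff.1 (by rw [hcard]; exact Nat.succ_pos _)
  haveI : Nontrivial (bic ({c} : Set (Matrix (l ⊕ l) (l ⊕ l) F))) :=
    ⟨⟨0, 1, fun h => zero_ne_one (congrArg Subtype.val h)⟩⟩
  haveI : Finite (bic ({c} : Set (Matrix (l ⊕ l) (l ⊕ l) F))) := Subtype.finite
  have hσ : ∀ x : bic ({c} : Set (Matrix (l ⊕ l) (l ⊕ l) F)), hS.sigma (hS.sigma x) = x :=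
    fun x => Subtype.ext (tau_tau x.1)
  have hnilR : ∀ x : bic ({c} : Set (Matrix (l ⊕ l) (l ⊕ l) F)),
      ∀ a : Fin (n' + 1) → F, (x : Matrix (l ⊕ l) (l ⊕ l) F) = P c a → a 0 = 0 →
        IsNilpotent x := by
    intro x a hxa ha
    refine ⟨n' + 1, ?_⟩
    apply Subtype.ext
    show (x : Matrix (l ⊕ l) (l ⊕ l) F) ^ (n' + 1) = 0
    rw [hxa]
    exact P_pow_eq_zero c hc a ha
  have h2R : IsUnit (2 : bic ({c} : Set (Matrix (l ⊕ l) (l ⊕ l) F))) := by
    rw [isUnit_bic_iff hS]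
    have e : ((2 : bic ({c} : Set (Matrix (l ⊕ l) (l ⊕ l) F))) : Matrix (l ⊕ l) (l ⊕ l) F) =
        (2 : F) • (1 : Matrix (l ⊕ l) (l ⊕ l) F) := by
      rw [← one_add_one_eq_two, two_smul]
      rfl
    rw [e]
    refine ⟨⟨(2 : F) • 1, (2 : F)⁻¹ • 1, ?_, ?_⟩, rfl⟩
    · rw [Matrix.smul_mul, Matrix.mul_smul, Matrix.mul_one, smul_smul, mul_inv_cancel₀ h2, one_smul]
    · rw [Matrix.smul_mul, Matrix.mul_smul, Matrix.mul_one, smul_smul, inv_mul_cancel₀ h2, one_smul]
  have hi : ∀ x : bic ({c} : Set (Matrix (l ⊕ l) (l ⊕ l) F)), IsUnit x ∨ IsNilpotent x := by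
    intro x
    obtain ⟨a, ha⟩ := hrepR x
    by_cases h0 : a 0 = 0
    · exact Or.inr (hnilR x a ha h0)
    · left
      rw [isUnit_bic_iff hS, ha]
      exact P_isUnit c hc a h0
  have hii : ∀ x : bic ({c} : Set (Matrix (l ⊕ l) (l ⊕ l) F)), IsNilpotent (hS.sigma x - x) := by
    intro x
    obtain ⟨a, ha⟩ := hrepR x
    apply hnilR _ ((fun k : Fin (n' + 1) => (-1) ^ (k : ℕ) * a k) - a)
    · show tau (x : Matrix (l ⊕ l) (l ⊕ l) F) - x = _
      rw [ha, tau_P c hτ, P_sub]
    · simp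
  rw [card_unitary hS.sigma hσ h2R hi hii]
  -- step 2: skew elements
  have e2 : {a : Fin (n' + 1) → F // ∀ k : Fin (n' + 1), Even (k : ℕ) → a k = 0} ≃
      {x : bic ({c} : Set (Matrix (l ⊕ l) (l ⊕ l) F)) // hS.sigma x = -x} := by
    refine Equiv.ofBijective (fun a => ⟨⟨P c a.1, P_mem_bic c a.1⟩, ?_⟩) ⟨?_, ?_⟩
    · apply Subtype.ext
      show tau (P c a.1) = -P c a.1
      rw [tau_P c hτ, ← P_neg]
      congr 1
      funext k
      rcases Nat.even_or_odd (k : ℕ) with h | h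
      · simp [a.2 k h]
      · rw [h.neg_one_pow]; simp
    · intro a b hab
      have h1 := congrArg (fun x : {x : bic ({c} : Set (Matrix (l ⊕ l) (l ⊕ l) F)) //
        hS.sigma x = -x} => (x.1.1 : Matrix (l ⊕ l) (l ⊕ l) F)) hab
      exact Subtype.ext (P_injective c hc hne a.1 b.1 h1)
    · rintro ⟨x, hx⟩
      obtain ⟨a, ha⟩ := hrepR x
      have h1 : tau (x : Matrix (l ⊕ l) (l ⊕ l) F) = -x := congrArg Subtype.val hx
      rw [ha, tau_P c hτ, ← P_neg] at h1
      have h3 := P_injective c hc hne _ _ h1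
      refine ⟨⟨a, ?_⟩, ?_⟩
      · intro k hk
        have h4 := congrFun h3 k
        simp only [Pi.neg_apply] at h4
        rw [hk.neg_one_pow, one_mul] at h4
        have h5 : (2 : F) * a k = 0 := by linear_combination h4
        exact (mul_eq_zero.1 h5).resolve_left h2
      · apply Subtype.ext
        apply Subtype.ext
        exact ha.symm
  rw [← Nat.card_congr e2, Nat.card_congr (oddEquiv m (n' + 1) hn'.symm), Nat.card_fun,
    Nat.card_eq_fintype_card, Nat.card_eq_fintype_card, Fintype.card_fin]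

end symp

end Cfsg.Agent.Lib.Helper5.RegUnip
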