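import Mathlib
import Cfsg.Agent.Lib.Helper5.RegUnip3

set_option autoImplicit false

/-!
# Existence of regular unipotent elements in symplectic groups
-/

namespace Cfsg.Agent.Lib.Helper5.RegUnip

open Matrix Module

section graded

variable {ι : Type*} [Fintype ι] [DecidableEq ι] {F : Type*} [Field F]

/-- a matrix raising a level function by one is nilpotent -/
theorem pow_apply_ne_zero_level (X : Matrix ι ι F) (lev : ι → ℕ)
    (h : ∀ a b, X a b ≠ 0 → lev a = lev b + 1) (k : ℕ) :
    ∀ a b, (X ^ k) a b ≠ 0 → lev a = lev b + k := by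
  induction k with
  | zero =>
    intro a b hab
    rw [pow_zero, Matrix.one_apply] at hab
    by_cases e : a = b
    · rw [e, add_zero]
    · rw [if_neg e] at hab
      exact absurd rfl hab
  | succ k ih =>
    intro a b hab
    rw [pow_succ, Matrix.mul_apply] at hab
    obtain ⟨d, -, hd⟩ := Finset.exists_ne_zero_of_sum_ne_zero hab
    have h1 := ih a d (left_ne_zero_of_mul hd)
    have h3 := h d b (right_ne_zero_of_mul hd)
    omega

theorem pow_eq_zero_of_level (X : Matrix ι ι F) (lev : ι → ℕ)
    (h : ∀ a b, X a b ≠ 0 → lev a = lev b + 1) (N : ℕ) (hN : ∀ a, lev a < N) : X ^ N = 0 := by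
  ext a b
  by_contra hab
  have := pow_apply_ne_zero_level X lev h N a b hab
  have := hN a
  omega

end graded

section construct

variable {F : Type*} [Field F] (m : ℕ)

/-- the lower shift matrix -/
def shiftM : Matrix (Fin m) (Fin m) F := Matrix.of fun i j => if (i : ℕ) = (j : ℕ) + 1 then 1 else 0

/-- the corner matrix -/
def cornerM : Matrix (Fin m) (Fin m) F :=
  Matrix.of fun i j => if (i : ℕ) + 1 = m ∧ (j : ℕ) + 1 = m then 1 else 0

/-- the standard skew regular nilpotent matrix -/
def c0 : Matrix (Fin m ⊕ Fin m) (Fin m ⊕ Fin m) F :=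
  fromBlocks (shiftM m) 0 (cornerM m) (-(shiftM m)ᵀ)

theorem cornerM_transpose : (cornerM m : Matrix (Fin m) (Fin m) F)ᵀ = cornerM m := by
  ext i j
  simp only [cornerM, Matrix.transpose_apply, Matrix.of_apply]
  congr 1
  exact propext and_comm

theorem tau_c0 : tau (c0 m : Matrix (Fin m ⊕ Fin m) (Fin m ⊕ Fin m) F) = -c0 m := by
  unfold tau c0 J
  rw [Matrix.fromBlocks_transpose, Matrix.fromBlocks_neg, Matrix.fromBlocks_multiply,
    Matrix.fromBlocks_multiply, Matrix.fromBlocks_neg]
  simp [cornerM_transpose]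


/-- the level function of the chain `e₀ → … → e_{m-1} → f_{m-1} → … → f₀` -/
def lev : Fin m ⊕ Fin m → ℕ
  | Sum.inl i => (i : ℕ)
  | Sum.inr i => 2 * m - 1 - (i : ℕ)

theorem c0_level (a b : Fin m ⊕ Fin m)
    (h : (c0 m : Matrix (Fin m ⊕ Fin m) (Fin m ⊕ Fin m) F) a b ≠ 0) : lev m a = lev m b + 1 := by
  rcases a with i | i <;> rcases b with j | j
  · simp only [c0, Matrix.fromBlocks_apply₁₁, shiftM, Matrix.of_apply] at h
    simp only [lev]
    by_contra hne
    rw [if_neg hne] at h
    exact h rfl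
  · simp [c0] at h
  · simp only [c0, Matrix.fromBlocks_apply₂₁, cornerM, Matrix.of_apply] at h
    simp only [lev]
    by_contra hne
    rw [if_neg (by omega)] at h
    exact h rfl
  · simp only [c0, Matrix.fromBlocks_apply₂₂, Matrix.neg_apply, Matrix.transpose_apply, shiftM,
      Matrix.of_apply] at h
    simp only [lev]
    have hi := i.2
    have hj := j.2
    by_contra hne
    rw [if_neg (by omega)] at h
    simp at h

theorem c0_pow : (c0 m : Matrix (Fin m ⊕ Fin m) (Fin m ⊕ Fin m) F) ^ (2 * m) = 0 := by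
  apply pow_eq_zero_of_level _ (lev m) (c0_level m)
  intro a
  rcases a with i | i
  · simp only [lev]; have := i.2; omega
  · simp only [lev]; have := i.2; omega

/-- the kernel of `c0` is spanned by the last vector of the chain -/
theorem c0_mulVec_eq_zero (hm : 1 ≤ m) (x : Fin m ⊕ Fin m → F)
    (hx : (c0 m : Matrix (Fin m ⊕ Fin m) (Fin m ⊕ Fin m) F).mulVec x = 0) :
    ∀ a : Fin m ⊕ Fin m, a ≠ Sum.inr ⟨0, hm⟩ → x a = 0 := by
  have hrow : ∀ a, ∑ b, (c0 m : Matrix (Fin m ⊕ Fin m) (Fin m ⊕ Fin m) F) a b * x b = 0 := by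
    intro a
    have := congrFun hx a
    simpa [Matrix.mulVec, dotProduct] using this
  intro a ha
  rcases a with i | i
  · -- x (inl i) appears in the row of the successor
    by_cases hi : (i : ℕ) + 1 < m
    · have h1 := hrow (Sum.inl ⟨(i : ℕ) + 1, hi⟩)
      rw [Fintype.sum_sum_type] at h1
      simp only [c0, Matrix.fromBlocks_apply₁₁, Matrix.fromBlocks_apply₁₂, Matrix.zero_apply,
        zero_mul, Finset.sum_const_zero, add_zero, shiftM, Matrix.of_apply] at h1
      rw [Finset.sum_eq_single i] at h1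
      · simpa using h1
      · intro j _ hj
        rw [if_neg, zero_mul]
        intro h
        apply hj
        apply Fin.ext
        omega
      · intro h
        exact absurd (Finset.mem_univ _) h
    · have him : (i : ℕ) + 1 = m := by have := i.2; omega
      have h1 := hrow (Sum.inr i)
      rw [Fintype.sum_sum_type] at h1
      simp only [c0, Matrix.fromBlocks_apply₂₁, Matrix.fromBlocks_apply₂₂, cornerM, shiftM,
        Matrix.of_apply, Matrix.neg_apply, Matrix.transpose_apply] at h1
      rw [Finset.sum_eq_single i, Finset.sum_eq_zero] at h1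
      · simpa [him] using h1
      · intro j _
        rw [if_neg, neg_zero, zero_mul]
        have := j.2
        omega
      · intro j _ hj
        rw [if_neg, zero_mul]
        rintro ⟨-, h⟩
        apply hj
        apply Fin.ext
        omega
      · intro h
        exact absurd (Finset.mem_univ _) h
  · -- x (inr i), i ≥ 1, appears in the row of inr (i - 1)
    have hi0 : (i : ℕ) ≠ 0 := by
      intro h
      apply ha
      congr 1
      exact Fin.ext h
    have hlt : (i : ℕ) - 1 < m := by have := i.2; omega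
    have h1 := hrow (Sum.inr ⟨(i : ℕ) - 1, hlt⟩)
    rw [Fintype.sum_sum_type] at h1
    simp only [c0, Matrix.fromBlocks_apply₂₁, Matrix.fromBlocks_apply₂₂, cornerM, shiftM,
      Matrix.of_apply, Matrix.neg_apply, Matrix.transpose_apply] at h1
    rw [Finset.sum_eq_zero, Finset.sum_eq_single i] at h1
    · rw [if_pos (by show (i : ℕ) = (i : ℕ) - 1 + 1; omega)] at h1
      simpa using h1
    · intro j _ hj
      rw [if_neg, neg_zero, zero_mul]
      intro h
      apply hj
      apply Fin.ext
      have h' : (j : ℕ) = (i : ℕ) - 1 + 1 := h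
      omega
    · intro h
      exact absurd (Finset.mem_univ _) h
    · intro j _
      rw [if_neg, zero_mul]
      rintro ⟨h, -⟩
      have h' : (i : ℕ) - 1 + 1 = m := h
      have := i.2
      omega


theorem c0_rank (hm : 1 ≤ m) :
    (c0 m : Matrix (Fin m ⊕ Fin m) (Fin m ⊕ Fin m) F).rank = 2 * m - 1 := by
  set c : Matrix (Fin m ⊕ Fin m) (Fin m ⊕ Fin m) F := c0 m with hc
  have h1 := LinearMap.finrank_range_add_finrank_ker c.mulVecLin
  rw [finrank_fintype_fun_eq_card, Fintype.card_sum, Fintype.card_fin] at h1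
  have hrank : c.rank = finrank F (LinearMap.range c.mulVecLin) := rfl
  -- the kernel has dimension at most one
  have hle : finrank F (LinearMap.ker c.mulVecLin) ≤ 1 := by
    let f : LinearMap.ker c.mulVecLin →ₗ[F] F :=
      (LinearMap.proj (Sum.inr ⟨0, hm⟩)).comp (LinearMap.ker c.mulVecLin).subtype
    have hf : Function.Injective f := by
      rw [← LinearMap.ker_eq_bot, LinearMap.ker_eq_bot']
      intro x hx
      apply Subtype.ext
      funext a
      by_cases ha : a = Sum.inr ⟨0, hm⟩
      · rw [ha]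
        exact hx
      · have h3 : c.mulVec x.1 = 0 := x.2
        exact c0_mulVec_eq_zero m hm x.1 h3 a ha
    have := LinearMap.finrank_le_finrank_of_injective hf
    rwa [finrank_self] at this
  -- the kernel is nonzero
  have hge : 1 ≤ finrank F (LinearMap.ker c.mulVecLin) := by
    have hdet : c.det = 0 := by
      have h3 := congrArg Matrix.det (c0_pow (F := F) m)
      haveI : Nonempty (Fin m ⊕ Fin m) := ⟨Sum.inl ⟨0, hm⟩⟩
      rw [Matrix.det_pow, Matrix.det_zero] at h3
      exact pow_eq_zero_iff (by omega) |>.1 h3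
    obtain ⟨v, hv0, hv⟩ := Matrix.exists_mulVec_eq_zero_iff.2 hdet
    rw [Nat.succ_le_iff, finrank_pos_iff_exists_ne_zero]
    exact ⟨⟨v, hv⟩, fun h => hv0 (congrArg Subtype.val h)⟩
  omega

/-- **Existence** of a regular unipotent symplectic matrix -/
theorem exists_regular_unipotent (hm : 1 ≤ m) (h2 : (2 : F) ≠ 0) :
    ∃ u : Matrix (Fin m ⊕ Fin m) (Fin m ⊕ Fin m) F, tau u * u = 1 ∧ (u - 1) ^ (2 * m) = 0 ∧
      (u - 1).rank = 2 * m - 1 := by
  set c : Matrix (Fin m ⊕ Fin m) (Fin m ⊕ Fin m) F := c0 m with hc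
  have hnil : IsNilpotent c := ⟨2 * m, c0_pow m⟩
  have hτ : tau c = -c := tau_c0 m
  obtain ⟨wi, hw1, hw2⟩ : ∃ wi : Matrix (Fin m ⊕ Fin m) (Fin m ⊕ Fin m) F,
      (1 - c) * wi = 1 ∧ wi * (1 - c) = 1 := by
    obtain ⟨w, hw⟩ := hnil.isUnit_one_sub
    refine ⟨((w⁻¹ : (Matrix (Fin m ⊕ Fin m) (Fin m ⊕ Fin m) F)ˣ) :
      Matrix (Fin m ⊕ Fin m) (Fin m ⊕ Fin m) F), ?_, ?_⟩
    · rw [← hw]; exact w.mul_inv
    · rw [← hw]; exact w.inv_mul
  have hcw : Commute c wi := by
    have h1 : Commute c (1 - c) := (Commute.one_right c).sub_right (Commute.refl c)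
    show c * wi = wi * c
    calc c * wi = (wi * (1 - c)) * (c * wi) := by rw [hw2, Matrix.one_mul]
      _ = wi * ((1 - c) * c) * wi := by simp only [Matrix.mul_assoc]
      _ = wi * (c * (1 - c)) * wi := by rw [h1.eq]
      _ = wi * c * ((1 - c) * wi) := by simp only [Matrix.mul_assoc]
      _ = wi * c := by rw [hw1, Matrix.mul_one]
  have e : (1 + c) * wi - 1 = c * ((2 : F) • wi) := by
    calc (1 + c) * wi - 1 = (1 + c) * wi - (1 - c) * wi := by rw [hw1]
      _ = c * ((2 : F) • wi) := by
        rw [← Matrix.sub_mul, Matrix.mul_smul, two_smul]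
        have : (1 + c) - (1 - c) = c + c := by abel
        rw [this, Matrix.add_mul]
  refine ⟨(1 + c) * wi, ?_, ?_, ?_⟩
  · -- unitary
    have h3 : tau wi * (1 + c) = 1 := by
      have := congrArg tau hw1
      rw [tau_mul, tau_sub, tau_one, hτ, sub_neg_eq_add] at this
      exact this
    rw [tau_mul, tau_add, tau_one, hτ, ← sub_eq_add_neg]
    have hc2 : Commute (1 - c) (1 + c) :=
      ((Commute.one_left _).sub_left ((Commute.one_right c).add_right (Commute.refl c)))
    calc tau wi * (1 - c) * ((1 + c) * wi)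
        = tau wi * ((1 - c) * (1 + c)) * wi := by simp only [Matrix.mul_assoc]
      _ = (tau wi * (1 + c)) * ((1 - c) * wi) := by
          rw [hc2.eq]; simp only [Matrix.mul_assoc]
      _ = 1 := by rw [h3, hw1, Matrix.one_mul]
  · rw [e]
    have hcomm : Commute c ((2 : F) • wi) := hcw.smul_right _
    rw [hcomm.mul_pow, c0_pow, Matrix.zero_mul]
  · rw [e, ← c0_rank (F := F) m hm]
    apply Matrix.rank_mul_eq_left_of_isUnit_det
    rw [← Matrix.isUnit_iff_isUnit_det]
    refine ⟨⟨(2 : F) • wi, (2 : F)⁻¹ • (1 - c), ?_, ?_⟩, rfl⟩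
    · rw [Matrix.smul_mul, Matrix.mul_smul, smul_smul, mul_inv_cancel₀ h2, one_smul]
      exact hw2
    · rw [Matrix.smul_mul, Matrix.mul_smul, smul_smul, inv_mul_cancel₀ h2, one_smul]
      exact hw1

end construct

end Cfsg.Agent.Lib.Helper5.RegUnip
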