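import Mathlib
import Cfsg.Agent.Lib.Helper5.RegUnip4

set_option autoImplicit false

/-!
# Regular nilpotent matrices are conjugate; square roots in the commutant
-/

namespace Cfsg.Agent.Lib.Helper5.RegUnip

open Matrix Module

section conj

variable {ι : Type*} [Fintype ι] [DecidableEq ι] {F : Type*} [Field F]

/-- a cyclic basis for a regular nilpotent matrix -/
theorem exists_cyclic_basis (c : Matrix ι ι F) {n : ℕ} (hn : Fintype.card ι = n) (hpos : 0 < n)
    (hc : c ^ n = 0) (hr : c.rank = n - 1) :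
    ∃ (v : ι → F) (b : Basis (Fin n) F (ι → F)), ∀ k : Fin n, b k = (c ^ (k : ℕ)).mulVec v := by
  have hne := pow_pred_ne_zero c hn hpos hr
  obtain ⟨v, hv⟩ : ∃ v : ι → F, (c ^ (n - 1)).mulVec v ≠ 0 := by
    by_contra hcon
    push Not at hcon
    apply hne
    apply Matrix.toLin'.injective
    apply LinearMap.ext
    intro v
    rw [Matrix.toLin'_apply, hcon v, map_zero, LinearMap.zero_apply]
  have hli : LinearIndependent F (fun k : Fin n => (c ^ (k : ℕ)).mulVec v) := by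
    rw [Fintype.linearIndependent_iff]
    intro a ha
    have h1 : (P c a).mulVec v = 0 := by rw [P_mulVec]; exact ha
    have := E_injective c hc v hv a h1
    intro k
    rw [this]
    rfl
  haveI : Nonempty (Fin n) := ⟨⟨0, hpos⟩⟩
  refine ⟨v, basisOfLinearIndependentOfCardEqFinrank hli (by
    rw [finrank_fintype_fun_eq_card, Fintype.card_fin, hn]), ?_⟩
  intro k
  rw [coe_basisOfLinearIndependentOfCardEqFinrank]

/-- two regular nilpotent matrices are conjugate -/
theorem exists_conj_regular (c c' : Matrix ι ι F) {n : ℕ} (hn : Fintype.card ι = n) (hpos : 0 < n)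
    (hc : c ^ n = 0) (hr : c.rank = n - 1) (hc' : c' ^ n = 0) (hr' : c'.rank = n - 1) :
    ∃ g gi : Matrix ι ι F, g * gi = 1 ∧ gi * g = 1 ∧ g * c = c' * g := by
  obtain ⟨v, b, hb⟩ := exists_cyclic_basis c hn hpos hc hr
  obtain ⟨v', b', hb'⟩ := exists_cyclic_basis c' hn hpos hc' hr'
  let e : (ι → F) ≃ₗ[F] (ι → F) := b.equiv b' (Equiv.refl _)
  refine ⟨LinearMap.toMatrix' e.toLinearMap, LinearMap.toMatrix' e.symm.toLinearMap, ?_, ?_, ?_⟩
  · rw [← LinearMap.toMatrix'_comp]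
    have : e.toLinearMap.comp e.symm.toLinearMap = LinearMap.id := by
      ext x; simp
    rw [this, LinearMap.toMatrix'_id]
  · rw [← LinearMap.toMatrix'_comp]
    have : e.symm.toLinearMap.comp e.toLinearMap = LinearMap.id := by
      ext x; simp
    rw [this, LinearMap.toMatrix'_id]
  · apply Matrix.toLin'.injective
    apply b.ext
    intro k
    rw [Matrix.toLin'_mul, Matrix.toLin'_mul, Matrix.toLin'_toMatrix', LinearMap.comp_apply,
      LinearMap.comp_apply, Matrix.toLin'_apply, Matrix.toLin'_apply]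
    have hek : e (b k) = b' k := by simp [e]
    show e (c.mulVec (b k)) = c'.mulVec (e (b k))
    rw [hek, hb, hb', Matrix.mulVec_mulVec, Matrix.mulVec_mulVec, ← pow_succ', ← pow_succ']
    by_cases hk : (k : ℕ) + 1 < n
    · have h1 := hb ⟨(k : ℕ) + 1, hk⟩
      have h1' := hb' ⟨(k : ℕ) + 1, hk⟩
      simp only at h1 h1'
      rw [← h1, ← h1']
      simp [e]
    · have : (k : ℕ) + 1 = n := by have := k.2; omega
      rw [this, hc, hc', Matrix.zero_mulVec, Matrix.zero_mulVec, map_zero]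

end conj


section rad

variable {ι : Type*} [Fintype ι] [DecidableEq ι] {F : Type*} [Field F]

/-- membership in the radical `c · F[c]` of the commutant -/
def InRad (c X : Matrix ι ι F) : Prop := ∃ W : Matrix ι ι F, W * c = c * W ∧ X = c * W

theorem InRad.comm {c X : Matrix ι ι F} (h : InRad c X) : X * c = c * X := by
  obtain ⟨W, hW, rfl⟩ := h
  rw [Matrix.mul_assoc, hW]

theorem InRad.add {c X Y : Matrix ι ι F} (hX : InRad c X) (hY : InRad c Y) : InRad c (X + Y) := by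
  obtain ⟨W, hW, rfl⟩ := hX
  obtain ⟨W', hW', rfl⟩ := hY
  exact ⟨W + W', by rw [Matrix.add_mul, Matrix.mul_add, hW, hW'], by rw [Matrix.mul_add]⟩

theorem InRad.smul {c X : Matrix ι ι F} (hX : InRad c X) (t : F) : InRad c (t • X) := by
  obtain ⟨W, hW, rfl⟩ := hX
  exact ⟨t • W, by rw [Matrix.smul_mul, Matrix.mul_smul, hW], by rw [Matrix.mul_smul]⟩

theorem InRad.neg {c X : Matrix ι ι F} (hX : InRad c X) : InRad c (-X) := by
  have := hX.smul (-1)
  rwa [neg_one_smul] at this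

theorem InRad.sub {c X Y : Matrix ι ι F} (hX : InRad c X) (hY : InRad c Y) : InRad c (X - Y) := by
  rw [sub_eq_add_neg]
  exact hX.add hY.neg

theorem InRad.mul_right {c X : Matrix ι ι F} (hX : InRad c X) (Y : Matrix ι ι F)
    (hY : Y * c = c * Y) : InRad c (X * Y) := by
  obtain ⟨W, hW, rfl⟩ := hX
  refine ⟨W * Y, ?_, by rw [Matrix.mul_assoc]⟩
  rw [Matrix.mul_assoc, hY, ← Matrix.mul_assoc, hW, Matrix.mul_assoc]

theorem InRad.mul_left {c X : Matrix ι ι F} (hX : InRad c X) (Y : Matrix ι ι F)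
    (hY : Y * c = c * Y) : InRad c (Y * X) := by
  obtain ⟨W, hW, rfl⟩ := hX
  refine ⟨Y * W, ?_, by rw [← Matrix.mul_assoc, hY, Matrix.mul_assoc]⟩
  rw [Matrix.mul_assoc, hW, ← Matrix.mul_assoc, hY, Matrix.mul_assoc]

theorem InRad.pow_eq_zero {c X : Matrix ι ι F} (hX : InRad c X) {n : ℕ} (hc : c ^ n = 0) :
    X ^ n = 0 := by
  obtain ⟨W, hW, rfl⟩ := hX
  have : Commute c W := hW.symm
  rw [this.mul_pow, hc, Matrix.zero_mul]

theorem InRad.isNilpotent {c X : Matrix ι ι F} (hX : InRad c X) {n : ℕ} (hc : c ^ n = 0) :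
    IsNilpotent X := ⟨n, hX.pow_eq_zero hc⟩

theorem scalar_eq_zero_of_inRad [Nonempty ι] {c : Matrix ι ι F} {n : ℕ} (hc : c ^ n = 0) (t : F)
    (h : InRad c (t • (1 : Matrix ι ι F))) : t = 0 := by
  have h1 := h.pow_eq_zero hc
  rw [smul_pow, one_pow] at h1
  rcases smul_eq_zero.1 h1 with h3 | h3
  · exact (pow_eq_zero_iff (by
      rintro rfl
      rw [pow_zero] at hc
      exact one_ne_zero hc)).1 h3
  · exact absurd h3 one_ne_zero

/-- the constant term of an element of the commutant -/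
theorem exists_const (c : Matrix ι ι F) {n : ℕ} (hn : Fintype.card ι = n) (hpos : 0 < n)
    (hc : c ^ n = 0) (hr : c.rank = n - 1) (X : Matrix ι ι F) (hX : X * c = c * X) :
    ∃ t : F, InRad c (X - t • 1) := by
  obtain ⟨n', rfl⟩ : ∃ n', n = n' + 1 := ⟨n - 1, by omega⟩
  obtain ⟨a, ha⟩ := exists_P_of_commute c hn hpos hc hr X hX
  refine ⟨a 0, P c (fun k : Fin n' => a k.succ), (P_commute c _ c rfl).symm, ?_⟩
  rw [ha, P_succ, add_sub_cancel_left]

theorem isUnit_of_const {c : Matrix ι ι F} {n : ℕ} (hc : c ^ n = 0) (X : Matrix ι ι F) (t : F)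
    (ht : t ≠ 0) (h : InRad c (X - t • 1)) : IsUnit X := by
  have e : X = t • (1 : Matrix ι ι F) + (X - t • 1) := by abel
  rw [e]
  apply (h.isNilpotent hc).isUnit_add_left_of_commute
  · refine ⟨⟨t • 1, t⁻¹ • 1, ?_, ?_⟩, rfl⟩
    · rw [Matrix.smul_mul, Matrix.mul_smul, Matrix.mul_one, smul_smul, mul_inv_cancel₀ ht, one_smul]
    · rw [Matrix.smul_mul, Matrix.mul_smul, Matrix.mul_one, smul_smul, inv_mul_cancel₀ ht, one_smul]
  · exact (Commute.one_right _).smul_right _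

theorem const_ne_zero [Nonempty ι] {c : Matrix ι ι F} {n : ℕ} (hc : c ^ n = 0) (X : Matrix ι ι F)
    (t : F) (hX : IsUnit X) (h : InRad c (X - t • 1)) : t ≠ 0 := by
  rintro rfl
  rw [zero_smul, sub_zero] at h
  exact hX.not_isNilpotent (h.isNilpotent hc)

end rad


section symp

variable {l : Type*} [Fintype l] [DecidableEq l] {F : Type*} [Field F]

theorem tau_commute (c : Matrix (l ⊕ l) (l ⊕ l) F) (hτ : tau c = -c) (X : Matrix (l ⊕ l) (l ⊕ l) F)
    (hX : X * c = c * X) : tau X * c = c * tau X := by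
  have h3 := congrArg tau hX
  rw [tau_mul, tau_mul, hτ] at h3
  have := congrArg (fun M => -M) h3
  simpa using this.symm

theorem InRad.map_tau {c X : Matrix (l ⊕ l) (l ⊕ l) F} (hτ : tau c = -c) (hX : InRad c X) :
    InRad c (tau X) := by
  obtain ⟨W, hW, rfl⟩ := hX
  refine ⟨-tau W, ?_, ?_⟩
  · rw [Matrix.neg_mul, Matrix.mul_neg, tau_commute c hτ W hW]
  · rw [tau_mul, hτ, Matrix.mul_neg, Matrix.mul_neg, tau_commute c hτ W hW]

/-- the constant term of a norm is a square -/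
theorem norm_const (c : Matrix (l ⊕ l) (l ⊕ l) F) (hτ : tau c = -c) {n : ℕ}
    (hn : Fintype.card (l ⊕ l) = n) (hpos : 0 < n) (hc : c ^ n = 0) (hr : c.rank = n - 1)
    (r : Matrix (l ⊕ l) (l ⊕ l) F) (hrc : r * c = c * r) :
    ∃ t : F, InRad c (r - t • 1) ∧ InRad c (tau r * r - (t * t) • 1) := by
  obtain ⟨t, ht⟩ := exists_const c hn hpos hc hr r hrc
  refine ⟨t, ht, ?_⟩
  have ht' := ht.map_tau hτ
  rw [tau_sub, tau_smul, tau_one] at ht'
  have e : tau r * r - (t * t) • 1 =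
      (tau r - t • 1) * r + t • (r - t • 1) := by
    rw [Matrix.sub_mul, Matrix.smul_mul, Matrix.one_mul, smul_sub, smul_smul]
    abel
  rw [e]
  exact (ht'.mul_right r hrc).add (ht.smul t)

/-- square roots of symmetric elements of the commutant with square constant term -/
theorem exists_sqrt [Finite F] (h2 : (2 : F) ≠ 0) (c : Matrix (l ⊕ l) (l ⊕ l) F) (hτ : tau c = -c)
    {n : ℕ} (hn : Fintype.card (l ⊕ l) = n) (hpos : 0 < n) (hc : c ^ n = 0) (hr : c.rank = n - 1)
    (s : Matrix (l ⊕ l) (l ⊕ l) F) (hsc : s * c = c * s) (hsτ : tau s = s) (b : F) (hb : b ≠ 0)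
    (hs : InRad c (s - (b * b) • 1)) :
    ∃ r : Matrix (l ⊕ l) (l ⊕ l) F, r * c = c * r ∧ tau r = r ∧ r * r = s ∧ IsUnit r := by
  classical
  haveI : Nonempty (l ⊕ l) := Fintype.card_pos_iff.1 (by rw [hn]; exact hpos)
  -- the finite set of symmetric unipotent elements of the commutant
  let U := {X : Matrix (l ⊕ l) (l ⊕ l) F // X * c = c * X ∧ tau X = X ∧ InRad c (X - 1)}
  haveI : Finite U := Subtype.finite
  have hcommU : ∀ X Y : U, X.1 * Y.1 = Y.1 * X.1 := by
    intro X Y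
    obtain ⟨a, ha⟩ := exists_P_of_commute c hn hpos hc hr X.1 X.2.1
    obtain ⟨a', ha'⟩ := exists_P_of_commute c hn hpos hc hr Y.1 Y.2.1
    rw [ha, ha']
    exact P_comm c a a'
  let sq : U → U := fun X => ⟨X.1 * X.1, by
    refine ⟨?_, ?_, ?_⟩
    · rw [Matrix.mul_assoc, X.2.1, ← Matrix.mul_assoc, X.2.1, Matrix.mul_assoc]
    · rw [tau_mul, X.2.2.1]
    · have e : X.1 * X.1 - 1 = (X.1 - 1) * (X.1 + 1) := by noncomm_ring
      rw [e]
      apply X.2.2.2.mul_right
      rw [Matrix.add_mul, Matrix.mul_add, X.2.1, Matrix.one_mul, Matrix.mul_one]⟩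
  have hinj : Function.Injective sq := by
    intro X Y hXY
    have h1 : X.1 * X.1 = Y.1 * Y.1 := congrArg Subtype.val hXY
    have h3 : (X.1 - Y.1) * (X.1 + Y.1) = 0 := by
      have := hcommU X Y
      calc (X.1 - Y.1) * (X.1 + Y.1) = X.1 * X.1 - Y.1 * Y.1 + (X.1 * Y.1 - Y.1 * X.1) := by
            noncomm_ring
        _ = 0 := by rw [h1, this, sub_self, sub_self, add_zero]
    have hu : IsUnit (X.1 + Y.1) := by
      apply isUnit_of_const hc (X.1 + Y.1) 2 h2
      have e : X.1 + Y.1 - (2 : F) • 1 = (X.1 - 1) + (Y.1 - 1) := by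
        rw [two_smul]; abel
      rw [e]
      exact X.2.2.2.add Y.2.2.2
    obtain ⟨w, hw⟩ := hu
    have h4 : X.1 - Y.1 = 0 := by
      calc X.1 - Y.1 = (X.1 - Y.1) * (X.1 + Y.1) * ↑w⁻¹ := by
            rw [Matrix.mul_assoc, ← hw, w.mul_inv, Matrix.mul_one]
        _ = 0 := by rw [h3, Matrix.zero_mul]
    exact Subtype.ext (sub_eq_zero.1 h4)
  have hsurj : Function.Surjective sq := Finite.injective_iff_surjective.1 hinj
  have hbb : b * b ≠ 0 := mul_ne_zero hb hb
  obtain ⟨r₁, hr₁⟩ := hsurj ⟨(b * b)⁻¹ • s, by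
    refine ⟨?_, ?_, ?_⟩
    · rw [Matrix.smul_mul, Matrix.mul_smul, hsc]
    · rw [tau_smul, hsτ]
    · have e : (b * b)⁻¹ • s - 1 = (b * b)⁻¹ • (s - (b * b) • 1) := by
        rw [smul_sub, smul_smul, inv_mul_cancel₀ hbb, one_smul]
      rw [e]
      exact hs.smul _⟩
  have h5 : r₁.1 * r₁.1 = (b * b)⁻¹ • s := congrArg Subtype.val hr₁
  refine ⟨b • r₁.1, ?_, ?_, ?_, ?_⟩
  · rw [Matrix.smul_mul, Matrix.mul_smul, r₁.2.1]
  · rw [tau_smul, r₁.2.2.1]
  · rw [Matrix.smul_mul, Matrix.mul_smul, smul_smul, h5, smul_smul, mul_inv_cancel₀ hbb, one_smul]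
  · have hu1 : IsUnit r₁.1 := by
      apply isUnit_of_const hc r₁.1 1 one_ne_zero
      rw [one_smul]
      exact r₁.2.2.2
    obtain ⟨w, hw⟩ := hu1
    refine ⟨⟨b • r₁.1, b⁻¹ • ↑w⁻¹, ?_, ?_⟩, rfl⟩
    · rw [Matrix.smul_mul, Matrix.mul_smul, smul_smul, mul_inv_cancel₀ hb, one_smul, ← hw]
      exact w.mul_inv
    · rw [Matrix.smul_mul, Matrix.mul_smul, smul_smul, inv_mul_cancel₀ hb, one_smul, ← hw]
      exact w.inv_mul

end symp

end Cfsg.Agent.Lib.Helper5.RegUnip
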