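import Cfsg.Agent.Lib.Helper1.RuS
import Cfsg.Agent.Lib.Helper5.Chain1

set_option autoImplicit false
set_option maxRecDepth 100000

/-! # The Rudvalis group (the group generated by two permutations of 4060 points) as a
permutation model: four letters, the two generators and their inverses -/

namespace Cfsg.Agent.Lib.Helper5.RuOut

open Cfsg Equiv Cfsg.Agent.Lib.Helper1 Cfsg.Agent.Lib.Helper1.Ru Cfsg.Agent.Lib.Helper1.GraphRef
  Cfsg.Agent.Lib.Helper1.MatCode Cfsg.Agent.Lib.Helper6.TC Cfsg.Agent.Lib.Helper6.PM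

/-- the right action of the letters: the tables of the inverses of the letters -/
def px (c q : ℕ) : ℕ := DR.pi ([2, 3, 0, 1].getD c 0) q

/-- the element of a word -/
noncomputable def elt (w : List ℕ) : ↥RuH := wordProd gsH w

/-- the inclusion -/
noncomputable def φ : ↥RuH →* Equiv.Perm (Fin 4060) := RuH.subtype

theorem φ_injective : Function.Injective φ := Subgroup.subtype_injective RuH

theorem px_lt : ∀ c < 4, ∀ q < 4060, px c q < 4060 := by
  intro c hc q hq
  unfold px
  interval_cases c
  · exact piR_lt 2 q (by norm_num) hq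
  · exact piR_lt 3 q (by norm_num) hq
  · exact piR_lt 0 q (by norm_num) hq
  · exact piR_lt 1 q (by norm_num) hq

theorem phi_inv_letter (c : ℕ) (hc : c < 4) (x : Fin 4060) :
    ((φ (gsH.getD c 1))⁻¹ x).val = px c x.val := by
  interval_cases c
  · rfl
  · rfl
  · show ((φ xH⁻¹)⁻¹ x).val = _
    rw [map_inv, inv_inv]
    rfl
  · show ((φ yH⁻¹)⁻¹ x).val = _
    rw [map_inv, inv_inv]
    rfl

theorem phi_inv_val (w : List ℕ) (hw : ∀ c ∈ w, c < 4) (x : Fin 4060) :
    ((φ (elt w))⁻¹ x).val = wapp px w x.val := by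
  induction w generalizing x with
  | nil =>
    show ((φ (wordProd gsH []))⁻¹ x).val = _
    rw [wordProd_nil, map_one, inv_one]
    rfl
  | cons c w ih =>
    show ((φ (wordProd gsH (c :: w)))⁻¹ x).val = _
    rw [wordProd_cons, map_mul, mul_inv_rev, Equiv.Perm.mul_apply, wapp_cons]
    have hc : c < 4 := hw c List.mem_cons_self
    have h1 := ih (fun c' hc' => hw c' (List.mem_cons_of_mem _ hc')) ((φ (gsH.getD c 1))⁻¹ x)
    rw [phi_inv_letter c hc x] at h1
    exact h1

theorem closure_letters : Subgroup.closure {g : ↥RuH | ∃ c < 4, g = elt [c]} = ⊤ := by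
  rw [eq_top_iff, ← hgenH]
  apply Subgroup.closure_mono
  rintro g ⟨i, hi, rfl⟩
  refine ⟨i, hi, ?_⟩
  show _ = wordProd gsH [i]
  rw [wordProd_cons, wordProd_nil, mul_one]

/-- the model -/
noncomputable def ruModel : PModel where
  G := ↥RuH
  n := 4060
  nl := 4
  px := px
  elt := elt
  phi := φ
  elt_nil := wordProd_nil gsH
  elt_append := wordProd_append gsH
  px_lt := px_lt
  phi_inv_val := phi_inv_val
  phi_injective := φ_injective
  closure_letters := closure_letters

theorem card_ruModel : Nat.card ruModel.G = 145926144000 := card_H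

end Cfsg.Agent.Lib.Helper5.RuOut
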