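import Cfsg.Agent.Lib.Helper5.Srch2
import Cfsg.Agent.Lib.Helper5.RuOut3

set_option autoImplicit false
set_option maxRecDepth 100000
set_option maxHeartbeats 0

/-! # The Rudvalis group: certificates of searches and words (generated data) -/

namespace Cfsg.Agent.Lib.Helper5.RuOut

open Cfsg.Agent.Lib.Helper5.Srch

/-- a piece of a certificate -/
noncomputable def cCp_0 : Cert := (Cert.rl [(1, (.step [] (.step [] (.step [] (.done []))))), (1, (.step [] (.step [] (.step [] (.done [0, 0, 0, 0, 0, 0, 0, 0, 0, 0, 0, 0, 0, 0, 0, 0, 0, 0, 0, 0, 0, 0, 0, 0, 0, 0, 0, 0]))))), (1, .fail), (1, (.step [] (.step [] (.step [] (.done [0]))))), (1, (.step [4, 10, 9, 5] (.step [10, 12, 10, 9] .fail))), (1, (.step [] (.step [] (.step [] (.done [0, 0, 0, 0, 0, 0, 0, 0, 0, 0, 0, 0, 0, 0, 0, 0, 0, 0, 0, 0, 0, 0, 0, 0, 0, 0, 0]))))), (1, .fail), (1, (.step [4, 7, 11, 6] .fail)), (1, .fail), (1, (.step [5, 11, 7, 5,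 5] (.step [10, 13, 8, 10, 10] .fail))), (2, .fail), (1, (.step [] (.step [] (.step [] (.done [0, 0]))))), (1, .fail), (2, (.step [4, 10, 9, 5] (.step [10, 12, 10, 9] .fail))), (1, (.step [4, 8, 5, 11, 5] (.step [10, 8, 8, 11] .fail))), (1, (.step [] (.step [] (.step [] (.done [0, 0, 0, 0, 0, 0, 0, 0, 0, 0, 0, 0, 0, 0, 0, 0, 0, 0, 0, 0, 0, 0, 0, 0, 0, 0]))))), (1, .fail), (1, (.step [4, 7, 5, 8, 5] .fail)), (1, .fail), (1, (.step [5, 7, 8, 11, 9] .fail)), (1, .fail), (2, (.step [4, 7, 11, 6] .fail)), (3, .fail), (1, (.step [4, 4, 7, 5, 10] .fail)), (1, (.step [5, 11, 7, 5, 5] (.step [10, 13, 8, 10, 10] .fail))), (1, (.step [7, 5, 11, 8, 8] .fail)), (1, (.step [5, 11, 7, 5, 5] (.step [10, 13, 8, 10, 10] .fail))), (2, .fail), (1, (.step [7, 7, 7, 9] .fail)), (3, .fail), (1, (.step [4, 8, 11, 8, 5] .fail)), (1, (.step [] (.step [] (.step [] (.done [0, 0, 0]))))), (1, (.step [5, 6, 9, 6, 9] .fail)),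 (3, .fail), (1, (.step [4, 10, 9, 5] (.step [10, 12, 10, 9] .fail))), (1, (.step [4, 9, 6, 8, 5] .fail)), (1, .fail), (1, (.step [5, 8, 6, 4] (.step [8, 11, 13] .fail))), (1, (.step [4, 10, 9, 5] (.step [10, 12, 10, 9] .fail))), (1, (.step [4, 4, 7, 9, 6] .fail)), (2, (.step [4, 8, 5, 11, 5] (.step [10, 8, 8, 11] .fail))), (1, .fail), (1, (.step [] (.step [] (.step [] (.done [0, 0, 0, 0, 0, 0, 0, 0, 0, 0, 0, 0, 0, 0, 0, 0, 0, 0, 0, 0, 0, 0, 0, 0, 0]))))), (1, (.step [7, 8, 7, 11] .fail)), (2, .fail), (1, (.step [4, 8, 8, 5] .fail)), (1, .fail), (2, (.step [4, 7, 5, 8, 5] .fail)), (3, .fail), (1, (.step [6, 9, 5, 11] .fail)), (1, (.step [5, 7, 8, 11, 9] .fail)), (1, .fail), (1, (.step [5, 7, 8, 11, 9] .fail)), (1, (.step [4, 9, 7, 7] .fail)), (1, .fail), (1, (.step [4, 8, 5, 8, 10] .fail)), (1, (.step [4, 7, 11, 6] .fail)), (1, (.step [5, 7, 10, 6] .fail)), (1, (.step [4, 8, 5, 10, 7] .fail)),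 (1, (.step [7, 10, 9, 7] (.step [11, 13, 9, 10] .fail))), (1, (.step [4, 7, 11, 6] .fail)), (1, (.step [4, 6, 10] .fail)), (5, .fail), (1, (.step [6, 5, 11, 7, 5] .fail)), (1, .fail), (1, (.step [7, 9, 7, 10, 4] .fail)), (1, .fail), (2, (.step [4, 4, 7, 5, 10] .fail)), (1, (.step [5, 6, 8, 10, 9] (.step [11, 13, 11, 8] .fail))), (1, (.step [5, 11, 7, 5, 5] (.step [10, 13, 8, 10, 10] .fail))), (1, (.step [5, 11, 7, 7] .fail)), (1, (.step [4, 7, 10, 7] (.step [9, 13, 8] .fail))), (1, (.step [7, 5, 11, 8, 8] .fail)), (1, .fail), (1, (.step [7, 5, 11, 8, 8] .fail)), (1, (.step [5, 8, 7, 8, 8] .fail)), (1, (.step [5, 11, 7, 5, 5] (.step [10, 13, 8, 10, 10] .fail))), (1, (.step [4, 6, 5, 7, 9] .fail)), (1, .fail), (1, (.step [4, 9, 7, 11, 7] .fail)), (4, .fail), (2, (.step [7, 7, 7, 9] .fail)), (2, .fail), (1, (.step [4, 8, 7, 7, 4] .fail)), (2, .fail), (1, (.step [5, 9, 7, 11, 5] .fail)), (1, .fail),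 (1, (.step [6, 8, 7] (.step [8, 12, 9, 9] .fail))), (1, .fail), (1, (.step [7, 5, 10, 9] .fail)), (1, (.step [4, 8, 11, 8, 5] .fail)), (1, .fail), (1, (.step [4, 8, 11, 8, 5] .fail)), (1, (.step [7, 11, 9] .fail)), (1, (.step [] (.step [] (.step [] (.done [0, 0, 0, 0]))))), (1, .fail), (2, (.step [5, 6, 9, 6, 9] .fail)), (1, (.step [4, 6, 9, 10, 4] (.step [9, 11, 8, 13, 10] .fail))), (2, .fail), (1, (.step [5, 6, 5, 9] .fail)), (1, (.step [4, 6, 4, 10, 10] .fail)), (1, .fail), (1, (.step [6, 4, 8, 10] (.step [9, 10, 9] .fail))), (3, .fail), (1, (.step [4, 10, 9, 5] (.step [10, 12, 10, 9] .fail))), (1, (.step [4, 4, 9, 10, 5] (.step [11, 9] .fail))), (1, .fail), (1, (.step [4, 9, 6, 8, 5] .fail)), (1, .fail), (1, (.step [4, 9, 6, 8, 5] .fail)), (2, .fail), (1, (.step [4, 8, 4, 9, 5] (.step [8, 10, 13, 11, 8] .fail))), (1, (.step [5, 8, 6, 4] (.step [8, 11, 13] .fail))), (1, (.step [6, 8, 4, 7,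 9] .fail)), (1, (.step [5, 8, 6, 4] (.step [8, 11, 13] .fail))), (1, .fail), (1, (.step [4, 10, 9, 5] (.step [10, 12, 10, 9] .fail))), (1, .fail), (2, (.step [4, 4, 7, 9, 6] .fail)), (1, (.step [4, 8, 7, 5, 6] .fail)), (1, (.step [4, 8, 5, 11, 5] (.step [10, 8, 8, 11] .fail))), (1, (.step [7, 5, 10, 9] .fail)), (1, .fail), (1, (.step [4, 11, 4, 11] (.step [8, 11, 13, 11, 13] .fail))), (1, (.step [4, 8, 5, 11, 5] (.step [10, 8, 8, 11] .fail))), (4, .fail), (1, (.step [] (.step [] (.step [] (.done [0, 0, 0, 0, 0, 0, 0, 0, 0, 0, 0, 0, 0, 0, 0, 0, 0, 0, 0, 0, 0, 0, 0, 0]))))), (2, .fail), (1, (.step [7, 8, 7, 11] .fail)), (1, (.step [6, 11, 6, 10] .fail)), (1, (.step [7, 8, 7, 11] .fail)), (2, .fail), (1, (.step [4, 8, 4, 9, 11] .fail)), (1, .fail), (1, (.step [5, 6, 10, 8, 7] .fail)), (1, .fail), (1, (.step [4, 8, 8, 5] .fail)), (1, .fail), (1, (.step [4, 8, 8, 5] .fail)), (1, (.step [4, 8, 6, 9,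 7] .fail)), (1, .fail), (1, (.step [6, 9, 6, 8] .fail)), (1, (.step [4, 7, 5, 8, 5] .fail)), (1, (.step [4, 6, 9, 6, 11] .fail)), (1, (.step [4, 6, 5, 7, 4, 11] .fail)), (1, .fail), (1, (.step [4, 7, 5, 8, 5] .fail)), (1, (.step [4, 9, 5, 8] .fail)), (5, .fail), (1, (.step [4, 10, 9, 4, 6] .fail)), (1, .fail), (1, (.step [6, 9, 6, 10, 5] .fail)), (1, .fail), (2, (.step [6, 9, 5, 11] .fail)), (1, (.step [4, 4, 6, 6, 9] (.step [8, 13, 11, 12, 12] .fail))), (1, (.step [5, 7, 8, 11, 9] .fail)), (1, .fail), (1, (.step [4, 4] .fail)), (4, .fail), (1, (.step [5, 7, 8, 11, 9] .fail)), (1, .fail), (1, (.step [4, 9, 7, 7] .fail)), (1, (.step [5, 6, 5, 9] .fail)), (1, (.step [4, 9, 7, 7] .fail)), (3, .fail), (2, (.step [4, 8, 5, 8, 10] .fail)), (1, (.step [7, 10, 7] .fail)), (1, (.step [4, 7, 11, 6] .fail)), (1, .fail), (1, (.step [7, 7, 4, 6] (.step [8, 11, 8, 12, 8] .fail))), (1, (.step [5, 7, 10, 6] .fail)),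 (1, (.step [4, 7, 11, 6] .fail)), (1, (.step [5, 7, 10, 6] .fail)), (2, (.step [4, 8, 5, 10, 7] .fail)), (1, (.step [5, 10, 6, 9] (.step [10, 9, 9, 11, 13] .fail))), (1, (.step [7, 10, 9, 7] (.step [11, 13, 9, 10] .fail))), (1, (.step [7, 5, 9, 7, 11] .fail)), (1, (.step [7, 10, 9, 7] (.step [11, 13, 9, 10] .fail))), (1, (.step [6, 11, 5, 8] .fail)), (1, (.step [4, 7, 11, 6, 11] .fail)), (2, (.step [4, 6, 10] .fail)), (1, (.step [4, 7, 8, 6, 5] .fail)), (1, .fail), (1, (.step [5, 5, 8, 8, 5] .fail)), (1, (.step [6, 6, 6] .fail)), (1, (.step [4, 7, 5, 8, 6] .fail)), (3, .fail), (1, (.step [6, 4, 11, 9] .fail)), (1, .fail), (1, (.step [4, 8, 5, 10, 4] .fail)), (1, .fail), (1, (.step [4, 4, 9, 10, 5] (.step [11, 9] .fail))), (1, .fail), (2, (.step [6, 5, 11, 7, 5] .fail)), (1, (.step [4, 6, 6, 9, 7] (.step [8, 12, 8] .fail))), (2, .fail), (1, (.step [6, 4, 6, 10] .fail)), (1, (.step [7, 9, 7, 10,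 4] .fail)), (1, .fail), (1, (.step [7, 9, 7, 10, 4] .fail)), (1, (.step [5, 6, 9, 10] .fail)), (1, .fail), (1, (.step [5, 6, 10, 6, 10] .fail)), (1, (.step [4, 4, 7, 5, 10] .fail)), (1, .fail), (1, (.step [4, 6, 6, 10] .fail)), (1, (.step [4, 4, 4, 9, 6] .fail)), (1, (.step [4, 4, 7, 5, 10] .fail)), (1, (.step [4, 10, 7, 9, 10] .fail)), (1, (.step [7, 9, 7, 5] (.step [8, 13, 9, 11, 9] .fail))), (1, (.step [5, 6, 8, 10, 9] (.step [11, 13, 11, 8] .fail))), (1, (.step [5, 6, 8, 6] .fail)), (1, (.step [5, 11, 7, 5, 5] (.step [10, 13, 8, 10, 10] .fail))), (1, (.step [6, 8, 10, 10] (.step [8, 8, 8, 11, 8] .fail))), (1, .fail), (1, (.step [5, 11, 7, 7] .fail)), (1, (.step [4, 4, 9, 10, 5] .fail)), (1, (.step [5, 11, 7, 7] .fail)), (2, (.step [4, 7, 10, 7] (.step [9, 13, 8] .fail))), (1, (.step [5, 8, 7, 8, 8] .fail)), (2, .fail), (1, (.step [6, 6, 6, 6, 8] .fail)), (2, .fail), (1, (.step [7, 5, 11, 8,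 8] .fail)), (1, (.step [7, 11, 8, 8] (.step [8, 11, 9, 13] .fail))), (1, (.step [5, 8, 7, 8, 8] .fail)), (1, .fail), (1, (.step [7, 7, 10, 5] (.step [9, 11, 8, 13] .fail))), (1, (.step [5, 11, 7, 5, 5] (.step [10, 13, 8, 10, 10] .fail))), (1, (.step [6, 5, 5, 9, 6] .fail)), (2, (.step [4, 6, 5, 7, 9] .fail)), (2, .fail), (1, (.step [6, 10, 4, 8] .fail)), (1, (.step [4, 9, 7, 11, 7] .fail)), (1, .fail), (1, (.step [4, 9, 7, 11, 7] .fail)), (1, (.step [4, 6, 11, 8] (.step [9, 11, 8, 10, 10] .fail))), (1, .fail), (1, (.step [5, 6, 6, 5] .fail)), (1, .fail), (1, (.step [6, 9, 7, 9] .fail)), (3, .fail), (1, (.step [4, 11, 9, 7, 11] .fail)), (2, .fail), (1, (.step [4, 11] (.step [9, 12, 12, 11, 13] .fail))), (1, (.step [7, 7, 7, 9] .fail)), (1, (.step [4, 6, 4, 9, 9] .fail)), (1, (.step [4, 6, 6, 6] .fail)), (1, .fail), (1, (.step [7, 7, 7, 9] .fail)), (1, (.step [6, 4, 11, 6] (.step [9, 10, 13, 11,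 11] .fail))), (6, .fail), (1, (.step [4, 8, 7, 7, 4] .fail)), (1, .fail), (1, (.step [4, 8, 7, 7, 4] .fail)), (2, .fail), (1, (.step [4, 4, 10, 10, 10] .fail)), (3, .fail), (1, (.step [5, 9, 7, 11, 5] .fail)), (1, .fail), (1, (.step [5, 9, 7, 11, 5] .fail)), (1, (.step [4, 7, 5, 6, 11] .fail)), (1, .fail), (1, (.step [4, 6, 5, 7] .fail)), (1, (.step [6, 8, 7] (.step [8, 12, 9, 9] .fail))), (1, .fail), (1, (.step [6, 8, 7] (.step [8, 12, 9, 9] .fail))), (2, .fail), (1, (.step [5, 11, 7, 9, 11] (.step [11, 13, 10, 12] .fail))), (2, (.step [7, 5, 10, 9] .fail)), (1, .fail), (1, (.step [4, 8, 11, 8, 5] .fail)), (1, .fail), (1, (.step [5, 5, 9, 6] .fail)), (3, .fail), (1, (.step [5, 6, 10, 8] .fail)), (1, (.step [4, 8, 11, 8, 5] .fail)), (1, (.step [6, 10, 4] .fail)), (1, (.step [7, 11, 9] .fail)), (1, .fail), (1, (.step [7, 11, 9] .fail)), (1, .fail), (1, (.step [] (.step [] (.step [] (.done [0, 0,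 0, 0, 0]))))), (1, (.step [5, 8, 4, 8, 7] .fail)), (3, .fail), (1, (.step [5, 6, 9, 6, 9] .fail)), (2, .fail), (1, (.step [5, 10, 4, 7, 5] .fail)), (1, (.step [5, 6, 9, 6, 9] .fail)), (1, (.step [4, 6, 11, 5] (.step [8, 8, 11, 12, 11] .fail))), (2, (.step [4, 6, 9, 10, 4] (.step [9, 11, 8, 13, 10] .fail))), (3, .fail), (1, (.step [4, 6, 11, 9] .fail)), (1, .fail), (1, (.step [5, 10, 4, 9] .fail)), (1, .fail), (1, (.step [5, 6, 5, 9] .fail)), (1, (.step [4, 8, 5, 8, 6] .fail)), (1, (.step [4, 6, 4, 10, 10] .fail)), (1, .fail), (1, (.step [4, 6, 4, 10, 10] .fail)), (2, .fail), (1, (.step [7, 4, 6, 4] (.step [9, 11, 9, 11] .fail))), (2, (.step [6, 4, 8, 10] (.step [9, 10, 9] .fail))), (2, .fail), (1, (.step [4, 4, 4, 8, 6] .fail)), (1, (.step [5, 7, 11, 7, 10] (.step [9, 11, 9, 11] .fail))), (1, (.step [4, 10, 10, 7, 8] .fail)), (3, .fail), (1, (.step [4, 10, 7, 8, 11] .fail)), (1, (.step [4, 10,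 9, 5] (.step [10, 12, 10, 9] .fail))), (2, .fail), (1, (.step [4, 4, 9, 10, 5] (.step [11, 9] .fail))), (1, (.step [4, 6, 10, 7, 7] .fail)), (2, .fail), (1, (.step [7, 11, 7, 7] (.step [11, 13, 9, 13] .fail))), (3, .fail), (1, (.step [4, 11, 11, 6, 10] .fail)), (1, .fail), (1, (.step [4, 9, 6, 8, 5] .fail)), (1, (.step [5, 11, 11, 4] (.step [8, 12, 11, 13, 9] .fail))), (2, .fail), (1, (.step [4, 9, 7, 4, 7] .fail)), (1, (.step [4, 11, 11, 6] .fail)), (1, .fail), (1, (.step [5, 5, 9, 7] .fail)), (2, (.step [4, 8, 4, 9, 5] (.step [8, 10, 13, 11, 8] .fail))), (1, .fail), (1, (.step [5, 8, 6, 4] (.step [8, 11, 13] .fail))), (1, (.step [4, 6, 10, 5] .fail)), (1, (.step [5, 10, 7, 4, 11] .fail)), (1, (.step [6, 8, 4, 7, 9] .fail)), (1, .fail), (1, (.step [6, 8, 4, 7, 9] .fail)), (1, (.step [7, 11, 9, 7, 11] .fail)), (1, (.step [5, 8, 6, 4] (.step [8, 11, 13] .fail))), (1, (.step [5, 7, 4, 4] .fail)),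 (1, .fail), (1, (.step [6, 8, 4, 10, 4] .fail)), (1, .fail), (1, (.step [4, 10, 9, 5] (.step [10, 12, 10, 9] .fail))), (1, (.step [6, 5, 7, 5, 8] .fail)), (2, .fail), (1, (.step [6, 11, 6, 6, 10] (.step [10, 9, 12, 10] .fail))), (1, (.step [4, 4, 7, 9, 6] .fail)), (1, (.step [5, 7, 11, 7, 11] .fail)), (1, (.step [6, 5, 6] .fail)), (1, (.step [4, 4, 7, 9, 6] .fail)), (1, (.step [4, 10, 6, 6, 6] (.step [9, 10, 10, 13, 10] .fail))), (1, (.step [4, 8, 7, 5, 6] .fail)), (1, .fail), (1, (.step [4, 8, 5, 11, 5] (.step [10, 8, 8, 11] .fail))), (1, (.step [4, 6, 4, 10, 10] .fail)), (1, (.step [7, 5, 10, 9] .fail)), (1, .fail), (1, (.step [7, 5, 10, 9] .fail)), (3, .fail), (1, (.step [4, 11, 4, 11] (.step [8, 11, 13, 11, 13] .fail))), (1, (.step [4, 9, 7, 5, 5] .fail)), (1, (.step [4, 11, 4, 11] (.step [8, 11, 13, 11, 13] .fail))), (1, (.step [4, 8, 5, 11, 5] (.step [10, 8, 8, 11] .fail))), (1, (.step [4,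 8, 5, 9] .fail)), (2, .fail), (1, (.step [5, 6, 6, 9, 6] .fail)), (2, .fail), (1, (.step [4, 10, 4, 6, 4] (.step [8, 13, 10, 10] (.step [14, 13] (.badAt 1))))), (1, (.step [4, 8, 8, 5, 6] .fail)), (4, .fail), (1, (.step [] (.step [] (.step [] (.done [0, 0, 0, 0, 0, 0, 0, 0, 0, 0, 0, 0, 0, 0, 0, 0, 0, 0, 0, 0, 0, 0, 0]))))), (1, .fail), (1, (.step [4, 10, 8, 4] .fail)), (3, .fail), (1, (.step [4, 11, 4, 7, 5] .fail)), (1, (.step [7, 8, 7, 11] .fail)), (1, (.step [4, 7, 5] .fail)), (1, .fail), (1, (.step [6, 11, 6, 10] .fail)), (1, (.step [5, 10, 9, 9, 6] .fail)), (1, (.step [6, 11, 6, 10] .fail)), (1, .fail), (1, (.step [7, 8, 7, 11] .fail)), (1, (.step [4, 8, 8, 5] (.step [8, 11, 8, 11, 9] .fail))), (2, .fail), (1, (.step [4, 7, 4, 6] (.step [9, 11, 12, 12] .fail))), (1, .fail), (1, (.step [5, 7, 10, 5, 8] .fail)), (2, (.step [4, 8, 4, 9, 11] .fail)), (1, (.step [6, 10, 6, 5] .fail)), (1, .fail),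 (1, (.step [4, 4, 10, 7, 7] (.step [11, 13, 10, 9] .fail))), (1, .fail), (1, (.step [5, 6, 10, 8, 7] .fail)), (1, (.step [4, 6, 11, 4, 4] .fail)), (1, (.step [5, 6, 10, 8, 7] .fail)), (2, .fail), (1, (.step [7, 10, 10] .fail)), (1, (.step [4, 8, 8, 5] .fail)), (1, (.step [7, 9, 10, 8] .fail)), (2, .fail), (1, (.step [5, 7, 11, 7, 11] .fail)), (3, .fail), (1, (.step [4, 8, 6, 9, 7] .fail)), (1, .fail), (1, (.step [4, 8, 6, 9, 7] .fail)), (2, .fail), (1, (.step [5, 7, 5, 7] .fail)), (2, (.step [6, 9, 6, 8] .fail)), (1, (.step [5, 8, 10, 4] .fail)), (1, (.step [4, 7, 5, 8, 5] .fail)), (2, .fail), (1, (.step [4, 6, 9, 6, 11] .fail)), (1, .fail), (1, (.step [4, 6, 9, 6, 11] .fail)), (1, (.step [4, 6, 5, 7, 4, 11] .fail)), (1, (.step [4, 9, 6, 11, 4] .fail)), (4, .fail), (1, (.step [4, 7, 5, 8, 5] .fail)), (1, (.step [4, 9, 6, 8, 6] .fail)), (2, (.step [4, 9, 5, 8] .fail)), (1, .fail), (1, (.step [4,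 8, 10, 5, 9] .fail)), (1, (.step [4, 11, 4, 10, 9] (.step [10, 9, 10, 10] .fail))), (4, .fail), (1, (.step [4, 10, 10, 7, 8] .fail)), (1, .fail), (1, (.step [4, 7, 8, 8] (.step [10, 12, 11, 8] .fail))), (4, .fail), (2, (.step [4, 10, 9, 4, 6] .fail)), (1, (.step [4, 7, 11, 5, 10] (.step [10, 9, 11, 12] .fail))), (1, .fail), (1, (.step [7, 11, 4, 9] .fail)), (1, (.step [6, 11, 7, 8] (.step [8, 10, 12, 10, 13] (.step [13, 15] (.badAt 1))))), (1, (.step [6, 9, 6, 10, 5] .fail)), (1, .fail), (1, (.step [6, 9, 6, 10, 5] .fail)), (1, (.step [4, 11, 7, 5] .fail)), (1, .fail), (1, (.step [7, 9, 4] .fail)), (1, .fail), (1, (.step [5, 10, 5, 7] .fail)), (1, .fail), (1, (.step [6, 9, 5, 11] .fail)), (1, (.step [4, 10, 9, 10, 6] .fail)), (2, (.step [4, 4, 6, 6, 9] (.step [8, 13, 11, 12, 12] .fail))), (1, .fail), (1, (.step [4, 10, 9, 10, 6] .fail)), (2, .fail), (1, (.step [4, 6, 8, 7, 7] .fail)), (1, .fail),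 (2, (.step [4, 4] .fail)), (1, (.step [4, 8, 5, 10, 7] .fail)), (3, .fail), (1, (.step [4, 7, 7, 8, 6] .fail)), (6, .fail), (1, (.step [5, 7, 8, 11, 9] .fail)), (3, .fail), (1, (.step [4, 11, 5, 6] .fail)), (1, .fail), (1, (.step [4, 7, 9, 9, 7] (.step [10, 13, 10, 12] .fail))), (1, (.step [5, 6, 5, 9] .fail)), (1, (.step [5, 8, 6, 11] .fail)), (3, .fail), (1, (.step [5, 5, 11, 5] .fail)), (6, .fail), (1, (.step [4, 8, 5, 8, 10] .fail)), (1, (.step [6, 4, 11, 5] (.step [11, 12, 10, 12, 10, 9] .fail))), (1, (.step [7, 5, 7] (.step [8, 11, 13, 9] .fail))), (1, (.step [5, 6, 8, 7, 5] .fail)), (1, (.step [5, 5, 9, 4, 8] .fail)), (1, (.step [5, 7, 9, 9, 10] .fail)), (2, (.step [7, 10, 7] .fail)), (1, (.step [5, 6, 8, 10, 7] .fail)), (1, (.step [4, 7, 11, 6] .fail)), (2, .fail), (1, (.step [5, 5, 5, 8, 4] .fail)), (1, .fail), (2, (.step [7, 7, 4, 6] (.step [8, 11, 8, 12, 8] .fail))), (1, (.step [5,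 7, 10, 6] .fail)), (1, (.step [4, 4, 11, 11, 9] .fail)), (1, .fail), (1, (.step [4, 7, 11, 6] .fail)), (1, (.step [4, 8, 4, 7, 8] .fail)), (1, (.step [4, 7, 5, 7, 8] .fail)), (1, (.step [4, 8, 5, 10, 7] .fail)), (1, (.step [5, 6, 9, 5, 7] .fail)), (1, .fail), (1, (.step [5, 11, 6, 5] .fail)), (1, .fail), (2, (.step [5, 10, 6, 9] (.step [10, 9, 9, 11, 13] .fail))), (1, (.step [4, 8, 7, 8, 7] .fail)), (1, (.step [7, 10, 9, 7] (.step [11, 13, 9, 10] .fail))), (1, .fail), (1, (.step [7, 7, 5, 10, 4] .fail)), (1, (.step [7, 5, 9, 7, 11] .fail)), (1, (.step [4, 4, 11, 9, 4] .fail)), (1, (.step [7, 5, 9, 7, 11] .fail)), (1, (.step [5, 8, 4, 7, 4] .fail)), (1, (.step [7, 10, 9, 7] (.step [11, 13, 9, 10] .fail))), (1, .fail), (1, (.step [4, 7, 9, 10] .fail)), (1, (.step [6, 9, 4, 7] (.step [10, 13, 9, 12] .fail))), (1, (.step [6, 11, 5, 8] .fail)), (2, (.step [4, 7, 11, 6, 11] .fail)), (1, (.step [6, 11,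 8, 7] .fail)), (1, (.step [4, 6, 10] .fail)), (1, (.step [5, 11, 7, 9, 11] (.step [11, 13, 10, 12] .fail))), (1, (.step [4, 6, 10] .fail)), (1, (.step [4, 7, 10] .fail)), (1, (.step [4, 7, 8, 6, 5] .fail)), (4, .fail), (1, (.step [5, 5, 8, 8, 5] .fail)), (1, .fail), (1, (.step [5, 5, 8, 8, 5] .fail)), (2, (.step [6, 6, 6] .fail)), (1, .fail), (1, (.step [4, 7, 5, 8, 6] .fail)), (1, (.step [4, 6, 9, 7] .fail)), (1, (.step [4, 7, 5, 8, 6] .fail)), (4, .fail), (1, (.step [5, 9, 7, 11, 5] .fail)), (1, (.step [5, 9, 4, 7, 4] .fail)), (1, (.step [5, 9, 11, 4] (.step [9, 13, 11, 11] .fail))), (1, .fail), (1, (.step [6, 4, 11, 9] .fail)), (1, (.step [6, 11, 8, 10] (.step [10, 8, 11, 12] .fail))), (2, .fail), (1, (.step [4, 8, 6, 11, 4] .fail)), (1, (.step [4, 8, 5, 10, 4] .fail)), (1, .fail), (1, (.step [4, 8, 5, 10, 4] .fail)), (1, .fail), (1, (.step [5, 10, 5, 8, 4] (.step [10, 10, 10] .fail))), (1,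 .fail), (1, (.step [5, 10, 7, 11] .fail)), (1, (.step [4, 4, 9, 10, 5] (.step [11, 9] .fail))), (2, .fail), (1, (.step [4, 6, 9, 10, 4] (.step [9, 11, 8, 13, 10] .fail))), (1, (.step [6, 8, 7, 10] .fail)), (1, (.step [4, 8, 7, 9] .fail)), (1, .fail), (1, (.step [6, 5, 11, 7, 5] .fail)), (1, (.step [4, 8, 5, 11, 7] (.step [8, 8, 10, 12, 8] .fail))), (2, (.step [4, 6, 6, 9, 7] (.step [8, 12, 8] .fail))), (2, .fail), (1, (.step [7, 4, 6, 4] .fail)), (2, .fail), (1, (.step [4, 7, 5] .fail)), (1, .fail), (1, (.step [6, 4, 6, 10] .fail)), (1, (.step [4, 9, 7, 5, 5] .fail)), (1, (.step [5, 5, 5, 8] (.step [8, 8, 10, 12, 9] .fail))), (1, (.step [7, 9, 7, 10, 4] .fail)), (5, .fail), (1, (.step [6, 5, 7, 5, 8] .fail)), (1, (.step [7, 9, 7, 10, 4] .fail)), (1, (.step [4, 8, 5, 9, 6] .fail)), (1, (.step [5, 10, 5, 5] (.step [8, 11, 12, 11, 13] .fail))), (3, .fail), (2, (.step [5, 6, 10, 6, 10] .fail)), (1,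 (.step [5, 5, 10, 9] (.step [8, 11, 12, 11] .fail))), (1, (.step [4, 4, 7, 5, 10] .fail)), (1, (.step [6, 6, 4, 8] .fail)), (1, .fail), (1, (.step [4, 8, 10, 8] .fail)), (1, .fail), (2, (.step [4, 6, 6, 10] .fail)), (1, (.step [4, 6, 5, 7, 8] (.step [9, 10, 10, 9, 10] .fail))), (1, (.step [4, 4, 4, 9, 6] .fail)), (1, (.step [4, 8, 5, 8, 10] .fail)), (1, (.step [6, 9, 9, 4] .fail)), (1, (.step [4, 6, 5, 7] .fail)), (1, (.step [4, 4, 4, 10] .fail)), (1, (.step [4, 9, 7, 11, 6] (.step [10, 8, 8, 11] .fail))), (1, (.step [7, 9, 7, 5] (.step [8, 13, 9, 11, 9] .fail))), (1, (.step [5, 7, 11, 7, 8] .fail)), (1, (.step [5, 6, 10, 9, 4] (.step [11, 8, 10, 13, 10] .fail))), (1, (.step [5, 6, 8, 10, 9] (.step [11, 13, 11, 8] .fail))), (1, .fail), (2, (.step [5, 6, 8, 6] .fail)), (1, .fail), (1, (.step [5, 11, 7, 5, 5] (.step [10, 13, 8, 10, 10] .fail))), (1, (.step [7, 9, 5, 11] .fail)), (1, (.step [5, 8,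 10, 10] (.step [11, 9, 13, 11] .fail))), (1, (.step [6, 8, 10, 10] (.step [8, 8, 8, 11, 8] .fail))), (1, .fail), (1, (.step [6, 8, 10, 10] (.step [8, 8, 8, 11, 8] .fail))), (3, .fail), (1, (.step [5, 11, 7, 7] .fail)), (1, (.step [5, 6, 10] (.step [8, 11, 13, 11, 13] .fail))), (1, .fail), (2, (.step [4, 4, 9, 10, 5] .fail)), (1, (.step [7, 11, 11, 6] (.step [8, 11, 8, 13, 10] .fail))), (1, (.step [5, 11, 7, 7] .fail)), (1, (.step [4, 7, 10, 7] (.step [9, 13, 8] .fail))), (2, .fail), (1, (.step [4, 7, 10, 7] (.step [9, 13, 8] .fail))), (1, (.step [5, 9, 6, 9, 11] .fail)), (3, .fail), (1, (.step [4, 4, 8, 6, 5] .fail)), (1, .fail), (1, (.step [4, 8, 6, 11, 5] .fail)), (1, (.step [6, 6, 6, 6, 8] .fail)), (1, (.step [6, 9, 6, 8, 11] .fail)), (2, .fail), (1, (.step [5, 9, 5, 11] (.step [9, 10] .fail))), (2, .fail), (1, (.step [7, 11, 8, 8] (.step [8, 11, 9, 13] .fail))), (1, (.step [4, 6, 8, 10, 6]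 (.step [9, 11, 9, 11] .fail))), (1, (.step [5, 8, 7, 8, 8] .fail)), (1, (.step [5, 6, 10, 8, 8] .fail)), (1, (.step [4, 9, 4, 4] .fail)), (1, .fail), (1, (.step [5, 11, 7, 4] (.step [8, 13, 11, 11] .fail))), (2, .fail), (1, (.step [4, 4, 4, 7, 10, 10] (.step [9, 9, 10, 13, 11] .fail))), (1, (.step [4, 10, 4, 6, 4] (.step [8, 10, 12, 10, 12] .fail))), (1, (.step [5, 11, 7, 7, 10] (.step [9, 13] .fail))), (1, (.step [7, 8, 5, 7] .fail)), (2, (.step [6, 5, 5, 9, 6] .fail)), (1, .fail), (1, (.step [4, 6, 5, 7, 9] .fail)), (1, (.step [5, 11] .fail)), (1, (.step [5, 8, 7, 4] (.step [10, 9, 9] .fail))), (1, (.step [7, 4, 9, 9] (.step [10, 8, 11] .fail))), (1, (.step [4, 6, 5, 7, 9] .fail)), (2, .fail), (1, (.step [4, 6, 4, 10, 10] .fail)), (1, .fail), (1, (.step [5, 8, 5, 6, 11] .fail)), (1, (.step [5, 9, 9, 6, 11] (.step [11, 11, 8, 13] .fail))), (2, (.step [6, 10, 4, 8] .fail)), (1, (.step [4, 11,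 4, 6] .fail)), (1, (.step [4, 9, 7, 11, 7] .fail)), (1, (.step [5, 5, 5, 10, 8] (.step [8, 8, 10, 12, 12] .fail))), (1, (.step [5, 8, 5, 5] .fail)), (1, .fail), (1, (.step [4, 8, 6, 6, 8] .fail)), (2, .fail), (1, (.step [5, 10, 5, 8, 4] .fail)), (1, .fail), (1, (.step [4, 6, 11, 8] (.step [9, 11, 8, 10, 10] .fail))), (1, .fail), (1, (.step [4, 6, 11, 8] (.step [9, 11, 8, 10, 10] .fail))), (3, .fail), (1, (.step [4, 6, 6, 6] .fail)), (1, (.step [5, 6, 6, 5] .fail)), (3, .fail), (1, (.step [4, 10, 6, 9, 4] .fail)), (1, (.step [6, 9, 7, 9] .fail)), (1, .fail), (1, (.step [6, 9, 7, 9] .fail)), (1, (.step [6, 8, 10, 7, 5] .fail)), (1, .fail), (1, (.step [5, 9, 10, 8] .fail)), (1, .fail), (1, (.step [4, 11, 4, 9] .fail)), (1, (.step [6, 11, 5, 8] .fail)), (2, (.step [4, 11, 9, 7, 11] .fail)), (1, (.step [4, 4, 11, 4, 7] (.step [11, 8, 10, 13, 10] .fail))), (1, (.step [5, 9, 4, 8] .fail)), (1, (.step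 [5, 8, 10, 5] .fail)), (1, .fail), (1, (.step [7, 11, 7, 9] .fail)), (1, (.step [4, 11] (.step [9, 12, 12, 11, 13] .fail))), (1, (.step [6, 8, 4, 10] (.step [9, 13] .fail))), (1, .fail), (1, (.step [7, 7, 7, 9] .fail)), (1, (.step [4, 9, 4, 4, 10] .fail)), (1, (.step [4, 7, 10, 10] (.step [8, 8, 10] .fail))), (2, (.step [4, 6, 4, 9, 9] .fail)), (1, (.step [4, 6, 6, 6] .fail)), (2, .fail), (1, (.step [4, 4, 8, 6, 4, 10] .fail)), (1, .fail), (1, (.step [5, 7, 8, 8] .fail)), (1, (.step [7, 7, 7, 9] .fail)), (1, (.step [6, 9, 7, 11] (.step [11, 9, 9, 13, 11] .fail))), (2, (.step [6, 4, 11, 6] (.step [9, 10, 13, 11, 11] .fail))), (1, (.step [4, 6, 11, 5] (.step [8, 8, 11, 12, 11] .fail))), (1, .fail), (1, (.step [4, 11, 9, 5, 5] .fail)), (1, (.step [4, 4, 4, 9, 10] .fail)), (1, .fail), (1, (.step [5, 11, 11, 4] .fail)), (2, .fail), (1, (.step [4, 7, 7, 7, 4] .fail)), (3, .fail), (1, (.step [4, 6, 5,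 7, 10] .fail)), (3, .fail), (1, (.step [5, 8, 7, 5] (.step [10, 12, 10, 9] .fail))), (1, (.step [4, 8, 4, 6, 10] .fail)), (1, (.step [4, 9, 7, 10, 5] .fail)), (1, .fail), (1, (.step [4, 8, 7, 7, 4] .fail)), (1, (.step [4, 4, 6, 4, 4] .fail)), (3, .fail), (1, (.step [5, 7, 11, 7, 10] .fail)), (2, .fail), (2, (.step [4, 4, 10, 10, 10] .fail)), (2, .fail), (1, (.step [4, 7, 4, 9, 5] .fail)), (1, (.step [4, 11, 9, 4] (.step [9, 11, 11, 9, 9] .fail))), (3, .fail), (1, (.step [5, 9, 7, 11, 5] .fail)), (1, (.step [6, 5, 7, 10] .fail)), (1, (.step [4, 7, 5, 11, 7] .fail)), (1, .fail), (1, (.step [4, 4, 7, 9, 6] .fail)), (1, (.step [4, 11, 5, 11, 11] .fail)), (1, (.step [5, 9, 7, 11, 5] .fail)), (1, (.step [7, 9, 10, 5] .fail)), (1, (.step [4, 7, 5, 6, 11] .fail)), (1, (.step [4, 9, 6, 6] (.step [9, 10, 13, 11] .fail))), (1, (.step [4, 7, 5, 6, 11] .fail)), (1, (.step [4, 11, 5, 6] .fail)), (2, .fail),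 (1, (.step [4, 4, 6, 6, 9] .fail)), (1, (.step [6, 8, 7] (.step [8, 12, 9, 9] .fail))), (1, (.step [4, 10, 10, 6] (.step [9, 10, 10, 13] .fail))), (1, (.step [5, 7, 11, 5] (.step [11, 12, 10, 12, 11] .fail))), (1, .fail), (1, (.step [4, 9, 6, 10, 6] .fail)), (1, .fail), (1, (.step [6, 8, 7] (.step [8, 12, 9, 9] .fail))), (1, (.step [4, 6, 5, 11, 7] .fail)), (4, .fail), (1, (.step [4, 4, 10, 5, 8] .fail)), (1, (.step [5, 11, 7, 9, 11] (.step [11, 13, 10, 12] .fail))), (1, (.step [6, 8, 8, 5] .fail)), (1, (.step [7, 5, 10, 9] .fail)), (2, .fail), (1, (.step [4, 4, 7, 8, 10] .fail)), (1, (.step [7, 5, 10, 9] .fail)), (1, (.step [7, 8, 10, 4, 8] (.step [10, 9, 10, 12] .fail))), (2, .fail), (1, (.step [4, 8, 11, 8, 5] .fail)), (1, (.step [6, 8, 10, 4] (.step [11, 12, 8] (.step [13, 14, 13, 14] (.done [0, 0, 0, 0, 0, 0, 0, 0, 0, 0, 0, 0]))))), (1, (.step [6, 6, 9] .fail)), (2, .fail), (2, (.step [5,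 5, 9, 6] .fail)), (2, .fail), (1, (.step [5, 5, 11, 7] .fail)), (1, .fail), (1, (.step [5, 5, 7, 4] (.step [9, 9, 11, 13] .fail))), (2, .fail), (1, (.step [5, 6, 10, 8] .fail)), (1, (.step [6, 8, 8, 7] .fail)), (1, (.step [5, 6, 10, 8] .fail)), (1, (.step [4, 8, 11, 8, 5] .fail)), (1, (.step [4, 7, 7, 9] .fail)), (2, (.step [6, 10, 4] .fail)), (1, .fail), (1, (.step [7, 11, 9] .fail)), (4, .fail), (1, (.step [6, 8, 10, 7, 5] (.step [10] .fail))), (1, (.step [7, 11, 9] .fail)), (1, (.step [7, 11, 7, 9] (.step [10, 8, 8, 11, 11] .fail))), (1, .fail), (1, (.step [4, 4, 7, 7, 9, 4] .fail)), (1, .fail), (1, (.step [7, 7, 7, 7] .fail)), (1, (.step [] (.step [] (.step [] (.done [0, 0, 0, 0, 0, 0]))))), (1, (.step [5, 5, 7, 4, 6] .fail)), (2, (.step [5, 8, 4, 8, 7] .fail)), (1, (.step [7, 9, 7, 10, 7] .fail)), (3, .fail), (1, (.step [4, 6, 6, 6] .fail)), (1, .fail), (1, (.step [4, 8, 6, 11, 6] .fail)),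 (1, .fail), (1, (.step [4, 6, 5, 9] .fail)), (1, (.step [5, 6, 9, 6, 9] .fail)), (1, (.step [5, 8, 5, 5] .fail)), (3, .fail), (1, (.step [5, 10, 4, 7, 5] .fail)), (1, (.step [4, 8, 10, 6] (.step [9, 11, 9, 12] .fail))), (1, (.step [5, 10, 4, 7, 5] .fail)), (1, (.step [5, 6, 9, 6, 9] .fail)), (1, (.step [4, 10, 7, 4, 7] .fail)), (1, (.step [4, 6, 11, 5] (.step [8, 8, 11, 12, 11] .fail))), (1, (.step [4, 9, 6, 11] .fail)), (1, .fail), (1, (.step [5, 6, 10, 6, 10] (.step [8, 10, 13, 10, 9] .fail))), (1, (.step [4, 7, 10, 4, 6] .fail)), (1, (.step [4, 6, 9, 10, 4] (.step [9, 11, 8, 13, 10] .fail))), (3, .fail), (1, (.step [6, 8, 4, 4, 10] (.step [8, 12, 12] .fail))), (1, .fail), (1, (.step [5, 6, 8, 7, 11] (.step [11, 13, 8, 10] .fail))), (1, (.step [4, 10, 10, 10, 7] .fail)), (1, .fail), (2, (.step [4, 6, 11, 9] .fail)), (2, .fail), (1, (.step [4, 11, 7, 10, 10] (.step [8, 11, 13] .fail))), (1, (.step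 [5, 10, 4, 9] .fail)), (1, .fail), (1, (.step [5, 10, 4, 9] .fail)), (1, .fail), (1, (.step [5, 6, 5, 9] .fail)), (1, (.step [5, 11, 7, 11] .fail)), (2, (.step [4, 8, 5, 8, 6] .fail)), (1, (.step [4, 9, 4, 4] .fail)), (1, (.step [4, 6, 4, 10, 10] .fail)), (1, (.step [5, 5, 6, 4, 6] .fail)), (1, (.step [4, 8, 5, 9, 6] (.step [10, 12, 11, 9] .fail))), (3, .fail), (1, (.step [4, 6, 4, 10, 10] .fail)), (1, (.step [4, 4, 4, 7, 10, 10] (.step [10, 12, 12, 11] .fail))), (1, .fail), (1, (.step [7, 11, 8, 5] .fail)), (1, .fail), (1, (.step [5, 11, 11, 11] .fail)), (1, .fail), (1, (.step [4, 7, 4, 11] .fail)), (2, (.step [7, 4, 6, 4] (.step [9, 11, 9, 11] .fail))), (1, (.step [6, 4, 8, 10] (.step [9, 10, 9] .fail))), (1, (.step [4, 4, 11, 5, 8] .fail)), (2, .fail), (1, (.step [6, 4, 8, 10] (.step [9, 10, 9] .fail))), (3, .fail), (1, (.step [4, 7, 9, 9, 7] .fail)), (1, (.step [4, 10, 7, 4, 7] .fail)), (1,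 (.step [4, 4, 4, 8, 6] .fail)), (1, (.step [7, 10, 4, 7] .fail)), (1, (.step [4, 4, 4, 8, 6] .fail)), (2, (.step [5, 7, 11, 7, 10] (.step [9, 11, 9, 11] .fail))), (1, .fail), (2, (.step [4, 10, 10, 7, 8] .fail)), (2, .fail), (1, (.step [7, 8, 10, 8] .fail)), (3, .fail), (1, (.step [6, 10, 4, 10, 6] .fail)), (2, (.step [4, 10, 7, 8, 11] .fail)), (1, (.step [4, 10, 9, 5] (.step [10, 12, 10, 9] .fail))), (1, (.step [4, 11, 9, 9, 6] .fail)), (1, (.step [7, 11, 6, 8] (.step [11, 8] .fail))), (1, .fail), (1, (.step [5, 9, 4, 7, 4] .fail)), (4, .fail), (1, (.step [4, 4, 9, 10, 5] (.step [11, 9] .fail))), (1, (.step [4, 7, 8] (.step [8, 11, 8, 12, 8] .fail))), (1, (.step [4, 6, 10, 7, 7] .fail)), (1, .fail), (1, (.step [4, 6, 10, 7, 7] .fail)), (2, .fail), (1, (.step [5, 6, 6, 8, 6] .fail)), (1, (.step [4, 10, 9, 11] (.step [10, 13, 9] .fail))), (2, .fail), (2, (.step [7, 11, 7, 7] (.step [11, 13, 9,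 13] .fail))), (1, (.step [5, 6, 8, 11, 8] (.step [8, 12, 11, 8, 12] .fail))), (8, .fail), (1, (.step [4, 11, 11, 6, 10] .fail)), (1, .fail), (1, (.step [4, 11, 11, 6, 10] .fail)), (1, .fail), (1, (.step [7, 11, 11] .fail)), (1, (.step [4, 7, 4, 6, 5] .fail)), (1, .fail), (2, (.step [5, 11, 11, 4] (.step [8, 12, 11, 13, 9] .fail))), (1, (.step [6, 5, 8, 4] (.step [9, 11, 11, 9, 9] .fail))), (1, .fail), (1, (.step [4, 6, 11, 11] (.step [8, 8, 11, 8, 10] .fail))), (4, .fail), (1, (.step [5, 6, 8, 6, 6] .fail)), (1, (.step [4, 11, 11, 6] .fail)), (1, .fail), (1, (.step [4, 11, 11, 6] .fail)), (1, (.step [5, 8, 5, 8, 6] .fail)), (1, .fail), (1, (.step [4, 4, 7, 10, 9] .fail)), (1, (.step [5, 5, 9, 7] .fail)), (1, .fail), (1, (.step [4, 8, 4, 9, 5] (.step [8, 10, 13, 11, 8] .fail))), (1, (.step [4, 7, 4, 6, 8] .fail)), (2, .fail), (1, (.step [4, 8, 4, 9, 5] (.step [8, 10, 13, 11, 8] .fail))), (1, (.step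 [4, 10, 6, 6, 6] .fail)), (2, .fail), (1, (.step [5, 8, 6, 4] (.step [8, 11, 13] .fail))), (2, .fail), (1, (.step [4, 6, 10, 5] .fail)), (1, (.step [5, 6, 4, 4] .fail)), (1, (.step [4, 6, 10, 5] .fail)), (2, (.step [5, 10, 7, 4, 11] .fail)), (1, .fail), (1, (.step [6, 8, 4, 7, 9] .fail)), (1, (.step [4, 6, 11, 11, 8] .fail)), (1, (.step [4, 10, 6, 10, 4] .fail)), (1, .fail), (1, (.step [4, 8, 10, 5, 6] .fail)), (1, .fail), (1, (.step [6, 8, 4, 7, 9] .fail)), (1, .fail), (1, (.step [6, 4, 7, 4, 6] .fail)), (1, (.step [6, 9, 10, 7] .fail)), (1, (.step [7, 11, 9, 7, 11] .fail)), (1, .fail), (1, (.step [5, 8, 6, 4] (.step [8, 11, 13] .fail))), (2, (.step [5, 7, 4, 4] .fail)), (2, .fail), (1, (.step [6, 8, 4, 10, 4] .fail)), (1, (.step [7, 8, 10, 5] .fail)), (1, (.step [6, 8, 4, 10, 4] .fail)), (1, (.step [5, 9, 5, 11, 5] (.step [8, 8, 11, 8, 11, 11] .fail))), (1, .fail), (1, (.step [6, 4, 8, 10] .fail)),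 (1, (.step [4, 8, 10, 6] .fail)), (1, (.step [4, 10, 9, 5] (.step [10, 12, 10, 9] .fail))), (1, .fail), (1, (.step [6, 5, 7, 5, 8] .fail)), (1, (.step [4, 6, 8, 6] .fail)), (1, .fail), (1, (.step [5, 5, 8, 10] .fail)), (1, (.step [4, 4, 7, 4, 8] (.step [8, 11, 11, 9, 10] .fail))), (1, (.step [4, 7, 8] .fail)), (1, (.step [6, 11, 6, 6, 10] (.step [10, 9, 12, 10] .fail))), (1, (.step [4, 8, 10, 4] .fail)), (1, (.step [4, 4, 7, 9, 6] .fail)), (1, (.step [6, 4, 8, 5, 10] .fail)), (1, (.step [4, 7, 5, 11, 5] .fail)), (1, (.step [5, 7, 11, 7, 11] .fail)), (1, (.step [6, 5, 6] .fail)), (1, .fail), (1, (.step [6, 5, 6] .fail)), (1, (.step [5, 5, 7, 10, 4] .fail)), (1, (.step [4, 4, 7, 9, 6] .fail)), (1, (.step [4, 4, 7, 10, 7] .fail)), (1, (.step [4, 10, 6, 6, 6] (.step [9, 10, 10, 13, 10] .fail))), (1, (.step [4, 6, 8, 11, 5] .fail)), (1, (.step [4, 8, 7, 5, 6] .fail)), (1, (.step [5, 6, 6] (.step [10,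 13, 9, 12] .fail))), (1, .fail), (1, (.step [4, 8, 5, 11, 5] (.step [10, 8, 8, 11] .fail))), (1, (.step [7, 9, 7] .fail)), (2, .fail), (1, (.step [4, 6, 4, 10, 10] .fail)), (1, (.step [7, 5, 10, 9] .fail)), (1, .fail), (1, (.step [4, 9, 5, 11, 11] .fail)), (1, (.step [7, 5, 10, 9] .fail)), (2, .fail), (1, (.step [4, 4, 8, 10, 8] .fail)), (2, .fail), (1, (.step [5, 8, 5, 6, 11] (.step [11, 8, 11, 11, 8] .fail))), (2, .fail), (1, (.step [6, 8, 4, 8] .fail)), (1, (.step [5, 7, 5, 7, 8] (.step [8, 10, 13, 11, 8, 11] .fail))), (2, .fail), (1, (.step [4, 9, 7, 5, 5] .fail)), (1, (.step [4, 11, 4, 11] (.step [8, 11, 13, 11, 13] .fail))), (2, .fail), (1, (.step [4, 8, 5, 11, 5] (.step [10, 8, 8, 11] .fail))), (1, (.step [4, 8, 5, 9] .fail)), (1, (.step [4, 4, 11, 6, 10] .fail)), (1, .fail), (1, (.step [4, 7, 8, 5] .fail)), (1, (.step [6, 4, 8, 11, 8] .fail)), (2, .fail), (2, (.step [5, 6, 6, 9, 6] .fail)),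 (1, (.step [6, 10, 10, 4] .fail)), (1, (.step [4, 9, 10, 8] .fail)), (1, (.step [4, 6, 5, 10, 6] .fail)), (2, .fail), (2, (.step [4, 10, 4, 6, 4] (.step [8, 13, 10, 10] (.step [14, 13] (.badAt 1))))), (1, (.step [4, 8, 8, 5, 6] .fail)), (1, (.step [7, 9, 5, 11] .fail)), (1, .fail), (1, (.step [4, 9, 7, 8, 7] (.step [8, 13, 11, 11, 9, 10] .fail))), (2, .fail), (1, (.step [4, 4, 10, 8, 10] (.step [8, 13, 9, 11, 8, 10] .fail))), (4, .fail), (1, (.step [4, 6, 5, 10, 7] (.step [8, 12, 9, 10] .fail))), (1, (.step [] (.step [] (.step [] (.done [0, 0, 0, 0, 0, 0, 0, 0, 0, 0, 0, 0, 0, 0, 0, 0, 0, 0, 0, 0, 0, 0]))))), (1, .fail), (1, (.step [4, 11, 4, 7, 7] .fail)), (1, .fail), (1, (.step [5, 5, 5, 5, 9] .fail)), (1, .fail), (1, (.step [4, 10, 8, 4] .fail)), (3, .fail), (1, (.step [4, 8, 4, 9] .fail)), (1, (.step [6, 8, 7, 10, 5] .fail)), (1, .fail), (1, (.step [4, 11, 4, 7, 5] .fail)), (2, .fail), (1,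 (.step [5, 7, 11, 6, 4] .fail)), (1, (.step [4, 9, 10, 10] .fail)), (1, .fail), (1, (.step [7, 11, 9, 11, 6] .fail)), (1, (.step [6, 11, 6, 10] .fail)), (1, .fail), (1, (.step [6, 11, 6, 5, 9] .fail)), (2, (.step [5, 10, 9, 9, 6] .fail)), (1, .fail), (1, (.step [6, 11, 6, 10] .fail)), (4, .fail), (1, (.step [7, 8, 7, 11] .fail)), (1, (.step [4, 6, 5, 10, 4] (.step [11, 11, 12, 12] .fail))), (2, (.step [4, 8, 8, 5] (.step [8, 11, 8, 11, 9] .fail))), (1, (.step [4, 6, 4, 10, 9] .fail)), (1, .fail), (1, (.step [4, 4, 9, 10] .fail)), (3, .fail), (1, (.step [4, 7, 4, 6] (.step [9, 11, 12, 12] .fail))), (1, .fail), (1, (.step [7, 11, 7, 9] (.step [10, 8, 8, 11, 11] .fail))), (1, (.step [4, 6, 5, 10, 4] .fail)), (1, .fail), (1, (.step [4, 4, 7, 5, 8] .fail)), (1, (.step [5, 7, 10, 5, 8] .fail)), (1, (.step [5, 9, 4, 8] .fail)), (1, (.step [4, 4, 11, 11] .fail)), (1, (.step [4, 9, 5, 10, 10] .fail)),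 (1, .fail), (1, (.step [4, 8, 4, 9, 11] .fail)), (2, (.step [6, 10, 6, 5] .fail)), (1, (.step [5, 10, 4, 9, 9] .fail)), (1, .fail), (1, (.step [4, 6, 4, 10, 10] .fail)), (1, .fail), (1, (.step [4, 4, 10, 7, 7] (.step [11, 13, 10, 9] .fail))), (2, .fail), (1, (.step [6, 4, 7, 4, 6] .fail)), (1, (.step [5, 6, 10, 8, 7] .fail)), (1, (.step [5, 9, 6, 4] .fail)), (1, (.step [7, 8, 11, 8] (.step [8, 11, 13, 9] (.step [14] (.done [0, 0, 0, 0, 0, 0, 0, 0, 0, 0, 0, 0, 0, 0, 0, 0, 0, 0, 0, 0]))))), (1, (.step [4, 6, 11, 4, 4] .fail)), (1, (.step [4, 4, 9, 7, 11] .fail)), (1, (.step [5, 6, 10, 8, 7] .fail)), (7, .fail), (2, (.step [7, 10, 10] .fail)), (1, (.step [7, 10, 8, 10, 8] .fail)), (1, (.step [7, 5, 11, 5] (.step [11, 11, 12, 12] .fail))), (1, (.step [7, 9, 10, 8] .fail)), (1, (.step [6, 6, 6, 11] (.step [10, 8, 10, 9, 9] .fail))), (1, (.step [7, 9, 10, 8] .fail)), (5, .fail), (1, (.step [6, 6, 9,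 7, 5] .fail)), (1, (.step [5, 7, 11, 7, 11] .fail)), (1, (.step [5, 10, 4, 9] .fail)), (1, .fail), (1, (.step [7, 11, 9, 9] .fail)), (5, .fail), (1, (.step [4, 11, 5, 7] .fail)), (1, (.step [4, 8, 6, 9, 7] .fail)), (1, .fail), (1, (.step [5, 11, 7, 4] .fail)), (3, .fail), (1, (.step [4, 7, 9, 10] .fail)), (1, (.step [4, 8, 6, 9, 7] .fail)), (5, .fail), (1, (.step [5, 5, 9, 4, 8] (.step [11, 12, 12] .fail))), (2, (.step [5, 7, 5, 7] .fail)), (1, (.step [7, 7, 7, 4] .fail)), (1, (.step [6, 9, 6, 8] .fail)), (3, .fail), (1, (.step [6, 9, 6, 8] .fail)), (1, (.step [5, 10, 4, 7, 5] .fail)), (1, (.step [5, 8, 10, 4] .fail)), (1, (.step [6, 8, 8, 10, 5] .fail)), (1, (.step [4, 7, 5, 8, 5] .fail)), (1, (.step [6, 8, 4, 11] (.step [11, 9, 12, 10, 12] .fail))), (1, (.step [5, 6, 4, 9, 5] (.step [8, 10, 9, 12, 10] .fail))), (5, .fail), (1, (.step [5, 8, 5, 8, 10] .fail)), (1, (.step [4, 4, 4, 7, 10, 10]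 (.step [9, 9, 10, 13, 11] .fail))), (4, .fail), (1, (.step [5, 5, 10, 6] .fail)), (1, (.step [4, 6, 9, 6, 11] .fail)), (1, .fail), (1, (.step [5, 10, 9, 9, 6] .fail)), (1, .fail), (2, (.step [4, 9, 6, 11, 4] .fail)), (1, .fail), (1, (.step [5, 10, 6, 11] (.step [9, 9, 11] .fail))), (1, (.step [5, 6, 9, 6, 8] (.step [11, 9, 12, 10] .fail))), (1, .fail), (1, (.step [7, 10, 8, 6] .fail)), (1, .fail), (1, (.step [4, 11, 5, 11, 4] .fail)), (1, (.step [5, 8, 11, 9] (.step [8, 13, 10, 9, 12] .fail))), (1, (.step [4, 4, 4, 6, 6] .fail)), (1, (.step [4, 7, 8, 6, 8] (.step [10, 13, 9, 10] .fail))), (1, (.step [4, 9, 6, 8, 6] .fail)), (1, (.step [4, 9, 5, 8] .fail)), (1, (.step [4, 6, 6, 8] .fail)), (2, .fail), (1, (.step [5, 5, 11, 7, 11] .fail)), (1, .fail), (1, (.step [4, 10, 9] (.step [10, 8, 11, 13] .fail))), (2, (.step [4, 8, 10, 5, 9] .fail)), (1, (.step [4, 7, 4, 6] .fail)), (1, (.step [4, 11, 4,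 10, 9] (.step [10, 9, 10, 10] .fail))), (1, (.step [6, 5, 7, 5, 5] (.step [8, 10, 10, 9, 10] .fail))), (10, .fail), (1, (.step [5, 8, 5, 7, 7] .fail)), (1, (.step [4, 6, 5, 9, 6] (.step [8, 8, 11, 8, 11, 11] .fail))), (1, (.step [6, 4, 8, 10] (.step [9, 10, 9] .fail))), (2, .fail), (1, (.step [4, 9, 9, 5, 6] .fail)), (1, .fail), (1, (.step [5, 8, 7, 9, 7] .fail)), (1, .fail), (1, (.step [7, 4, 11, 8] .fail)), (4, .fail), (1, (.step [4, 10, 9, 4, 6] .fail)), (1, .fail), (1, (.step [4, 6, 11, 5, 10] (.step [9, 11, 9, 12] .fail))), (1, (.step [4, 10, 9, 4, 6] .fail)), (1, .fail), (2, (.step [4, 7, 11, 5, 10] (.step [10, 9, 11, 12] .fail))), (1, (.step [5, 5, 9, 11] .fail)), (1, .fail), (1, (.step [4, 8, 11, 7] .fail)), (1, .fail), (1, (.step [7, 11, 4, 9] .fail)), (1, .fail), (1, (.step [7, 11, 4, 9] .fail)), (2, (.step [6, 11, 7, 8] (.step [8, 10, 12, 10, 13] (.step [13, 15] (.badAt 1))))), (1,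 .fail), (1, (.step [6, 9, 6, 10, 5] .fail)), (1, (.step [4, 6, 11, 8, 4] (.step [8, 11, 9, 11, 11, 9] .fail))), (1, .fail), (1, (.step [7, 5, 11, 5, 7] .fail)), (1, (.step [6, 9, 6, 10, 5] .fail)), (1, (.step [4, 10, 6, 4, 8] .fail)), (1, (.step [4, 11, 7, 5] .fail)), (1, (.step [4, 11] (.step [10, 9, 12, 10] .fail))), (1, .fail), (1, (.step [4, 11, 4, 4] .fail)), (1, (.step [7, 9, 4] .fail)), (3, .fail), (2, (.step [5, 10, 5, 7] .fail)), (4, .fail), (1, (.step [5, 5, 11, 5] .fail)), (1, .fail), (1, (.step [4, 7, 4, 9, 5] .fail)), (1, (.step [4, 4, 6, 6, 9] (.step [8, 13, 11, 12, 12] .fail))), (1, (.step [4, 6, 9, 7] .fail)), (1, .fail), (1, (.step [5, 6, 9, 10, 4] (.step [9, 10, 12] .fail))), (2, .fail), (1, (.step [7, 7, 5, 9] .fail)), (1, .fail), (1, (.step [6, 11, 6, 10] (.step [10, 12, 10, 12] .fail))), (1, .fail), (1, (.step [6, 4, 6, 4] .fail)), (1, (.step [4, 11, 6, 10, 7] .fail)), (1,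 (.step [4, 6, 8, 7, 7] .fail)), (1, (.step [6, 10, 6] .fail)), (1, (.step [4, 4] .fail)), (1, (.step [4, 6, 9, 10, 8] .fail)), (1, .fail), (1, (.step [4, 4] .fail)), (1, (.step [4, 8, 7, 4] .fail)), (1, (.step [4, 8, 5, 10, 7] .fail)), (1, (.step [4, 4, 10, 4, 8] .fail)), (7, .fail), (1, (.step [4, 7, 7, 8, 6] .fail)), (1, (.step [4, 9, 5, 10, 10] .fail)), (1, (.step [4, 7, 7, 8, 6] .fail)), (3, .fail), (1, (.step [4, 6, 9, 7, 11] .fail)), (1, .fail), (1, (.step [5, 5, 9, 9] .fail)), (1, (.step [4, 7, 9, 6, 9] (.step [8, 12, 11, 11] .fail))), (1, (.step [5, 9, 11, 4] (.step [9, 13, 11, 11] .fail))), (1, (.step [4, 4, 10, 9] .fail)), (2, .fail), (1, (.step [4, 6, 10, 9, 9] .fail)), (2, .fail), (1, (.step [5, 7, 8, 11, 9] .fail)), (2, .fail), (1, (.step [4, 9, 7, 10, 8] (.step [8, 11, 9] .fail))), (1, .fail), (1, (.step [5, 6, 8, 10, 7] .fail)), (1, (.step [4, 11, 5, 6] .fail)), (1, (.step [5, 8,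 4, 8, 7] .fail)), (1, (.step [7, 10] .fail)), (1, .fail), (1, (.step [5, 7, 11] .fail)), (1, .fail), (2, (.step [4, 7, 9, 9, 7] (.step [10, 13, 10, 12] .fail))), (1, .fail), (1, (.step [5, 6, 5, 9] .fail)), (1, .fail), (1, (.step [4, 9, 10, 7, 9] .fail)), (1, (.step [5, 8, 6, 11] .fail)), (1, .fail), (1, (.step [4, 6, 5, 7, 8] (.step [8, 8, 8, 12] (.step [14] (.badAt 1))))), (6, .fail), (1, (.step [6, 11, 9, 4, 11] .fail)), (2, .fail), (1, (.step [7, 10, 6, 10] .fail)), (6, .fail), (1, (.step [4, 8, 5, 8, 10] .fail)), (1, .fail), (1, (.step [6, 6, 5, 9] .fail)), (1, (.step [7, 9, 7, 4, 4] (.step [8, 11, 11, 11, 8] .fail))), (1, (.step [4, 4, 7, 10] .fail)), (1, (.step [7, 5, 7] (.step [8, 11, 13, 9] .fail))), (1, (.step [4, 11, 11, 4, 8] .fail)), (2, (.step [5, 6, 8, 7, 5] .fail)), (1, (.step [5, 5, 9, 4, 8] .fail)), (1, (.step [6, 8, 8, 5] .fail)), (1, (.step [5, 7, 9, 9, 10] .fail)), (1, .fail),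 (1, (.step [7, 10, 7] .fail)), (1, .fail), (1, (.step [5, 8, 4, 7, 9] .fail)), (1, .fail), (1, (.step [7, 10, 7] .fail)), (1, .fail), (1, (.step [6, 11, 5, 8] .fail)), (1, (.step [7, 7, 5] .fail)), (1, (.step [4, 4, 9, 7, 9] (.step [10, 12, 10] .fail))), (2, .fail), (1, (.step [4, 11, 6, 10, 8] (.step [8, 11, 8, 11] .fail))), (1, (.step [4, 7, 8, 8, 8] (.step [8, 11, 13, 10] .fail))), (1, (.step [5, 5, 5, 8, 4] .fail)), (1, (.step [4, 4, 4, 7, 5] .fail)), (1, (.step [4, 6, 10, 9, 7] .fail)), (1, (.step [4, 10, 6, 9, 4] .fail)), (1, .fail), (1, (.step [5, 8, 4, 11] (.step [9, 10, 12] .fail))), (1, .fail), (1, (.step [5, 11, 9, 4, 6] .fail)), (1, (.step [4, 4, 8, 10] .fail)), (1, (.step [4, 6, 11, 8, 11] .fail)), (2, (.step [4, 4, 11, 11, 9] .fail)), (2, .fail), (1, (.step [6, 4, 7, 9] (.step [8, 11, 9, 10] .fail))), (1, (.step [4, 7, 11, 6] .fail)), (1, (.step [4, 8, 4, 7, 8] .fail)), (1, (.step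 [4, 4, 7, 10, 5] .fail)), (1, (.step [4, 8, 4, 7, 8] .fail)), (1, (.step [4, 7, 5, 7, 8] .fail)), (1, .fail), (1, (.step [5, 6, 9, 5, 7] .fail)), (1, (.step [4, 9, 4, 4, 10] .fail)), (2, .fail), (1, (.step [5, 11, 7] .fail)), (1, (.step [5, 11, 6, 5] .fail)), (1, .fail), (1, (.step [4, 10, 4, 6, 4] .fail)), (1, (.step [5, 10, 6, 9] (.step [10, 9, 9, 11, 13] .fail))), (1, .fail), (1, (.step [4, 7, 10, 9, 4] .fail)), (1, .fail), (1, (.step [5, 10, 6, 9] (.step [10, 9, 9, 11, 13] .fail))), (2, (.step [4, 8, 7, 8, 7] .fail)), (1, (.step [5, 7, 9, 11] .fail)), (1, (.step [7, 10, 9, 7] (.step [11, 13, 9, 10] .fail))), (3, .fail), (1, (.step [5, 9, 9, 6, 11] .fail)), (1, (.step [7, 7, 5, 10, 4] .fail)), (1, .fail), (1, (.step [7, 10, 10] (.step [9, 13, 11, 8, 10] .fail))), (1, (.step [4, 4, 11, 9, 4] .fail)), (1, (.step [7, 8, 5, 9] (.step [9, 11, 9] (.step [12] (.badAt 1))))), (1, (.step [4, 4, 11,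 9, 4] .fail)), (1, .fail), (1, (.step [7, 5, 9, 7, 11] .fail)), (1, (.step [5, 8, 6, 4] .fail)), (1, (.step [4, 9, 6, 8, 5] .fail)), (1, (.step [5, 8, 4, 7, 4] .fail)), (1, (.step [4, 7, 7, 4] .fail)), (1, (.step [4, 11, 6] (.step [8, 12, 11, 9, 9] .fail))), (1, .fail), (1, (.step [4, 7, 4, 7, 4] .fail)), (1, (.step [6, 10, 6, 10] (.step [10, 12] .fail))), (2, .fail), (1, (.step [4, 7, 11, 6, 11] .fail)), (1, (.step [4, 8, 4, 4, 10] .fail)), (1, (.step [4, 7, 5, 8, 6] .fail)), (1, .fail), (1, (.step [6, 11, 8, 7] .fail)), (1, .fail), (1, (.step [4, 6, 10] .fail)), (1, (.step [5, 11, 7, 9, 11] (.step [11, 13, 10, 12] .fail))), (1, (.step [6, 8, 4, 4, 10] (.step [8, 10, 10, 9, 10, 12] .fail))), (1, (.step [4, 6, 10] .fail)), (2, (.step [4, 7, 10] .fail)), (2, .fail), (1, (.step [4, 4, 10, 5] .fail)), (4, .fail), (1, (.step [5, 8, 4] .fail)), (5, .fail), (1, (.step [5, 5, 8, 8, 5] .fail)), (1, (.step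 [7, 11, 8] (.step [8, 11, 8, 13, 11] .fail))), (1, (.step [4, 10, 10, 6] (.step [9, 10, 10, 13] .fail))), (2, .fail), (1, (.step [5, 5, 8, 8, 5] .fail)), (1, .fail), (1, (.step [5, 11, 11, 11] .fail)), (1, (.step [6, 6, 6] .fail)), (1, (.step [6, 4, 8, 4] .fail)), (1, .fail), (1, (.step [4, 4, 10, 10, 10] .fail)), (1, .fail), (1, (.step [4, 6, 11, 5, 11] (.step [10, 8, 10, 9] .fail))), (2, (.step [4, 6, 9, 7] .fail)), (1, (.step [4, 7, 5, 6, 6] .fail)), (1, .fail), (1, (.step [5, 8, 10, 7] .fail)), (1, (.step [5, 8, 11, 6, 6] .fail)), (1, (.step [7, 8, 10, 7] (.step [8, 11, 11] .fail))), (5, .fail), (1, (.step [5, 9, 7, 11, 5] .fail)), (1, (.step [7, 9, 7, 10, 4] (.step [9, 10, 10, 9, 13] .fail))), (1, (.step [5, 6, 8, 4] .fail)), (1, (.step [5, 9, 4, 7, 4] .fail)), (1, (.step [4, 7, 8, 7] .fail)), (1, (.step [4, 6, 6, 9, 4] .fail)), (1, (.step [5, 9, 11, 4] (.step [9, 13, 11, 11] .fail))), (2,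 .fail), (1, (.step [4, 4, 11, 8, 11] .fail)), (1, (.step [6, 4, 11, 9] .fail)), (1, .fail), (1, (.step [6, 11, 8, 10] (.step [10, 8, 11, 12] .fail))), (1, .fail), (1, (.step [6, 5, 8, 5] .fail)), (1, (.step [4, 6, 6, 10] .fail)), (1, .fail), (1, (.step [4, 8, 6, 11, 4] .fail)), (1, (.step [5, 5, 7, 4] (.step [9, 9, 11, 13] .fail))), (1, (.step [5] .fail)), (2, .fail), (1, (.step [5, 7, 4, 8] (.step [9, 11, 13, 10] .fail))), (1, (.step [4, 8, 5, 10, 4] .fail)), (1, (.step [4, 4, 4, 11, 8] .fail)), (4, .fail), (1, (.step [5, 10, 5, 8, 4] (.step [10, 10, 10] .fail))), (3, .fail), (1, (.step [5, 10, 7, 11] .fail)), (1, (.step [4, 4, 8, 6, 5] .fail)), (1, (.step [5, 10, 7, 11] .fail)), (1, (.step [5, 11, 9, 5, 6] .fail)), (1, (.step [4, 4, 9, 10, 5] (.step [11, 9] .fail))), (4, .fail), (1, (.step [4, 6, 9, 10, 4] (.step [9, 11, 8, 13, 10] .fail))), (1, (.step [4, 8, 8, 4, 8] .fail)), (1, (.step [6,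 8, 7, 10] .fail)), (1, (.step [4, 4, 7, 7, 4] (.step [9, 10, 13, 11] .fail))), (1, (.step [6, 8, 7, 10] .fail)), (1, (.step [4, 8, 7, 9] .fail)), (1, .fail), (1, (.step [4, 4, 7, 10, 9] .fail)), (1, .fail), (1, (.step [7, 7, 7, 8] .fail)), (1, (.step [6, 5, 11, 7, 5] .fail)), (1, .fail), (1, (.step [4, 8, 5, 11, 7] (.step [8, 8, 10, 12, 8] .fail))), (1, .fail), (1, (.step [4, 6, 6, 9, 7] (.step [8, 12, 8] .fail))), (1, (.step [4, 6, 10, 7, 7] (.step [8, 13, 10, 10, 10] .fail))), (1, (.step [4, 6, 11, 8, 7] .fail)), (1, (.step [4, 11, 9, 9, 6] (.step [8, 8, 11, 11, 8] (.step [12, 14, 13, 14] (.badAt 1))))), (4, .fail), (1, (.step [6, 6, 9, 10] .fail)), (1, (.step [4, 9, 5, 10, 10] .fail)), (1, .fail), (1, (.step [7, 4, 6, 4] .fail)), (4, .fail), (1, (.step [5, 5, 7, 11] .fail)), (2, .fail), (1, (.step [4, 7, 5] .fail)), (1, (.step [5, 8, 10, 5, 6] .fail)), (1, .fail), (1, (.step [4, 4, 9, 7, 7]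 .fail)), (1, .fail), (1, (.step [5, 5, 5, 8] (.step [8, 8, 10, 12, 9] .fail))), (1, .fail), (1, (.step [7, 11, 9, 10] .fail)), (1, (.step [5, 10, 5, 11] (.step [8, 10, 9, 10, 10] .fail))), (2, .fail), (1, (.step [4, 4, 8, 6, 4, 10] .fail)), (1, .fail), (1, (.step [4, 6, 8, 5] .fail)), (1, (.step [5, 7, 5, 7, 8] (.step [8, 10, 13, 11, 8, 11] .fail))), (2, .fail), (1, (.step [5, 6, 4, 10] (.step [10, 8, 8, 10] .fail))), (1, (.step [7, 5, 11, 8, 10] .fail)), (1, (.step [6, 5, 7, 5, 8] .fail)), (1, .fail), (1, (.step [4, 7, 9, 6, 8] .fail)), (1, .fail), (1, (.step [4, 4, 9, 4, 10] .fail)), (1, (.step [4, 6, 11, 9] .fail)), (1, (.step [7, 4, 4, 8] .fail)), (2, .fail), (1, (.step [4, 6, 11, 11, 8] .fail)), (1, .fail), (1, (.step [4, 6, 5, 8, 7] .fail)), (1, (.step [6, 4, 4, 11] .fail)), (1, (.step [5, 6, 10, 6, 10] .fail)), (1, (.step [5, 8, 7, 8, 11] .fail)), (1, (.step [5, 6, 10, 6, 10] .fail)), (2,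 (.step [5, 5, 10, 9] (.step [8, 11, 12, 11] .fail))), (1, (.step [4, 7, 11, 11] (.step [10, 9, 10] .fail))), (1, (.step [4, 8, 5, 7, 5] .fail)), (1, (.step [6, 6, 4, 8] .fail)), (1, .fail), (1, (.step [6, 6, 4, 8] .fail)), (1, (.step [4, 8, 10, 8] .fail)), (5, .fail), (1, (.step [5, 8, 6, 6] .fail)), (1, .fail), (1, (.step [4, 9, 7, 8, 7] (.step [8, 13, 11, 11, 9, 10] .fail))), (1, (.step [4, 8, 5, 8, 10] .fail)), (1, .fail), (1, (.step [4, 8, 5, 8, 10] .fail)), (1, (.step [4, 4, 6, 11, 7] .fail)), (1, (.step [4, 9, 6, 5] .fail)), (1, (.step [6, 8, 4, 7] .fail)), (1, (.step [4, 10, 7, 8] .fail)), (1, (.step [4, 4, 4, 10] .fail)), (1, (.step [4, 7, 10, 6] .fail)), (1, (.step [4, 8, 6, 11, 4] (.step [9, 9, 11, 13, 9] .fail))), (1, (.step [4, 9, 7, 11, 6] (.step [10, 8, 8, 11] .fail))), (1, (.step [7, 9, 7, 5] (.step [8, 13, 9, 11, 9] .fail))), (2, (.step [5, 7, 11, 7, 8] .fail)), (1, (.step [7,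 9, 7, 10] .fail)), (1, (.step [5, 6, 10, 9, 4] (.step [11, 8, 10, 13, 10] .fail))), (1, (.step [4, 6, 5, 7, 10] .fail)), (1, (.step [4, 8, 7, 10] .fail)), (2, .fail), (1, (.step [5, 6, 8, 6] .fail)), (1, (.step [6, 8, 4, 4, 10] .fail)), (3, .fail), (1, (.step [4, 10, 10, 7, 8] .fail)), (1, .fail), (1, (.step [5, 10, 5, 8, 6] .fail)), (1, (.step [5, 10, 5, 5, 7] .fail)), (1, (.step [7, 9, 5, 11] .fail)), (1, (.step [5, 8, 10, 10] (.step [11, 9, 13, 11] .fail))), (1, .fail), (1, (.step [4, 8, 4, 9, 5] (.step [8, 10, 13, 11, 8] .fail))), (1, (.step [4, 6, 9, 11, 4] .fail)), (1, (.step [5, 6, 8, 6, 6] .fail)), (1, .fail), (1, (.step [4, 6, 8, 5, 10] .fail)), (1, .fail), (1, (.step [5, 6, 6, 8, 6] (.step [9, 13, 8, 11] (.step [12, 12, 14, 13] (.done [0, 0, 0, 0, 0, 0, 0, 0, 0, 0, 0, 0, 0, 0, 0]))))), (1, (.step [6, 8, 10, 10] (.step [8, 8, 8, 11, 8] .fail))), (1, (.step [4, 8, 10, 9, 10] .fail)), (1,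 (.step [4, 11, 11, 6] .fail)), (1, (.step [7, 8, 11, 9] .fail)), (3, .fail), (1, (.step [5, 11, 7, 7] .fail)), (1, (.step [4, 7, 4, 6, 5] .fail)), (1, (.step [5, 6, 10] (.step [8, 11, 13, 11, 13] .fail))), (1, (.step [5, 7, 9, 7] .fail)), (1, (.step [5, 6, 10] (.step [8, 11, 13, 11, 13] .fail))), (2, .fail), (1, (.step [7, 11] .fail)), (1, (.step [4, 4, 9, 10, 5] .fail)), (1, (.step [4, 9, 5, 5] .fail)), (1, .fail), (1, (.step [4, 4, 9, 10, 5] .fail)), (1, (.step [5, 5, 8] .fail)), (1, (.step [7, 11, 11, 6] (.step [8, 11, 8, 13, 10] .fail))), (1, (.step [6, 10, 4, 6] (.step [11, 8, 11, 11] .fail))), (1, (.step [4, 9, 6, 9] (.step [10, 9] .fail))), (1, (.step [4, 4, 8, 11] (.step [9, 11, 11, 8, 11] (.step [13, 15, 12] (.badAt 1))))), (1, .fail), (1, (.step [4, 7, 10, 7] (.step [9, 13, 8] .fail))), (1, (.step [6, 8, 4] .fail)), (3, .fail), (1, (.step [4, 7, 10, 7] (.step [9, 13, 8] .fail))), (1,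 .fail), (1, (.step [5, 9, 6, 9, 11] .fail)), (1, (.step [5, 7, 10, 10, 8] .fail)), (1, .fail), (1, (.step [4, 6, 6, 6] .fail)), (2, .fail), (1, (.step [4, 4, 8, 6, 5] .fail)), (3, .fail), (1, (.step [5, 5, 8, 5, 5] .fail)), (1, (.step [4, 9, 7, 5, 5] (.step [9, 11, 11, 11] .fail))), (2, (.step [6, 9, 6, 8, 11] .fail)), (1, (.step [4, 9, 5, 9] (.step [8, 8, 11] .fail))), (4, .fail), (1, (.step [5, 9, 5, 11] (.step [9, 10] .fail))), (1, (.step [7, 11, 4, 8] (.step [10, 9, 10, 12, 8] .fail))), (2, .fail), (1, (.step [4, 4, 8, 6, 4, 10] (.step [11, 11, 11, 12] .fail))), (1, .fail), (1, (.step [4, 6, 8, 10, 6] (.step [9, 11, 9, 11] .fail))), (1, (.step [5, 8, 7, 8, 8] .fail)), (1, .fail), (1, (.step [5, 6, 9, 10] .fail)), (1, .fail), (1, (.step [5, 6, 10, 8, 8] .fail)), (1, (.step [4, 9, 4, 4] .fail)), (1, .fail), (1, (.step [5, 11, 7, 4] (.step [8, 13, 11, 11] .fail))), (1, (.step [7, 11, 6, 9] (.step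 [9, 10, 13, 10] .fail))), (1, (.step [5, 11, 7, 4] (.step [8, 13, 11, 11] .fail))), (5, .fail), (1, (.step [5, 6, 8, 11] .fail)), (2, (.step [4, 10, 4, 6, 4] (.step [8, 10, 12, 10, 12] .fail))), (1, (.step [4, 8, 10, 10, 4] .fail)), (1, (.step [5, 5, 7, 10, 4] (.step [8, 8, 8, 11, 11, 8] .fail))), (1, (.step [7, 8, 5, 7] .fail)), (1, .fail), (1, (.step [6, 9, 7, 9] .fail)), (5, .fail), (1, (.step [4, 8, 6] .fail)), (1, (.step [4, 6, 5, 7, 9] .fail)), (1, .fail), (1, (.step [5, 11, 9] .fail)), (2, (.step [5, 11] .fail)), (2, (.step [5, 8, 7, 4] (.step [10, 9, 9] .fail))), (1, (.step [5, 7, 11, 7, 10] (.step [9, 11, 9, 11] .fail))), (1, (.step [4, 4, 7, 10, 7] .fail)), (1, (.step [4, 7, 4, 11] .fail)), (1, (.step [5, 6, 4, 6] (.step [9, 10, 8, 11, 8] .fail))), (1, .fail), (1, (.step [5, 7, 11, 11] .fail)), (1, (.step [4, 4, 7, 4, 9] .fail)), (1, .fail), (1, (.step [4, 6, 4, 10, 10] .fail)), (1,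 (.step [6, 5, 8, 4] .fail)), (2, .fail), (1, (.step [4, 7, 7, 8, 7] (.step [11, 8, 11] .fail))), (1, (.step [5, 10, 10] .fail)), (1, .fail), (1, (.step [5, 8, 5, 6, 11] .fail)), (1, (.step [5, 8, 5, 8, 10] .fail)), (1, .fail), (1, (.step [6, 10, 4, 8] .fail)), (1, .fail), (2, (.step [4, 11, 4, 6] .fail)), (1, (.step [4, 9, 7, 11, 7] .fail)), (1, .fail), (1, (.step [5, 8, 4, 7, 9] .fail)), (1, (.step [5, 5, 5, 10, 8] (.step [8, 8, 10, 12, 12] .fail))), (1, (.step [4, 8, 7, 7, 4] .fail)), (1, (.step [5, 5, 5, 10, 8] (.step [8, 8, 10, 12, 12] .fail))), (1, (.step [5, 8, 5, 5] .fail)), (1, (.step [4, 7, 10, 6, 9] .fail)), (3, .fail), (1, (.step [5, 8] .fail)), (1, (.step [6, 4, 10] .fail)), (3, .fail), (1, (.step [5, 10, 5, 8, 4] .fail)), (3, .fail), (1, (.step [4, 10, 9, 4, 4] (.step [8, 8, 8, 12] .fail))), (2, .fail), (1, (.step [4, 6, 11, 8] (.step [9, 11, 8, 10, 10] .fail))), (2, .fail), (1, (.step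 [4, 7, 9, 6, 9] .fail)), (1, .fail), (1, (.step [4, 4, 7, 9, 6] .fail)), (3, .fail), (1, (.step [5, 8, 5, 6] .fail)), (1, (.step [5, 6, 6, 5] .fail)), (2, .fail), (1, (.step [4, 10, 10, 8, 4] (.step [8, 8, 10, 9, 13] (.step [12, 12] (.done [0, 0, 0, 0, 0, 0, 0, 0, 0, 0, 0, 0, 0, 0, 0, 0, 0, 0, 0]))))), (3, .fail), (1, (.step [5, 8, 7, 4, 6] .fail)), (1, (.step [4, 10, 9, 7, 5] .fail)), (1, (.step [6, 9, 7, 9] .fail)), (1, (.step [4, 10, 4, 10, 6] (.step [9, 9, 11, 13, 9] .fail))), (1, (.step [7, 4, 7, 8] .fail)), (1, .fail), (1, (.step [6, 9, 7, 9] .fail)), (1, (.step [6, 8, 8, 10] .fail)), (1, (.step [6, 8, 10, 7, 5] .fail)), (1, .fail), (1, (.step [6, 4, 4, 10] (.step [9, 10, 10, 8, 10] .fail))), (1, (.step [7, 11, 6] .fail)), (1, (.step [7, 11, 9] .fail)), (1, .fail)])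

/-- a piece of a certificate -/
noncomputable def cCp_1 : Cert := (Cert.rl [(1, .fail), (1, (.step [4, 11, 6, 6, 11] .fail)), (1, (.step [4, 11, 6, 4, 11] .fail)), (1, (.step [6, 11] .fail)), (1, (.step [5, 7, 5, 7, 8] (.step [8, 10, 13, 11, 8, 11] .fail))), (1, .fail), (1, (.step [4, 11, 9, 7, 11] .fail)), (1, (.step [7, 4, 10, 5] (.step [9, 12, 11, 11] .fail))), (1, (.step [6, 10, 4, 6] (.step [8, 13, 9, 11, 8] .fail))), (1, (.step [4, 9, 7, 7, 11] .fail)), (1, .fail), (1, (.step [5, 9, 4, 8] .fail)), (2, (.step [5, 8, 10, 5] .fail)), (1, (.step [4, 7, 8, 5] .fail)), (1, (.step [4, 10, 4, 6, 4] (.step [8, 12, 11, 8] .fail))), (1, (.step [6, 4, 11, 7] .fail)), (1, (.step [4, 7, 7, 8, 5] .fail)), (1, .fail), (1, (.step [4, 11] (.step [9, 12, 12, 11, 13] .fail))), (1, (.step [4, 8, 5, 8, 10] (.step [9, 13, 8, 11, 8] .fail))), (1, .fail), (1, (.step [6, 8, 4, 10] (.step [9, 13] .fail))), (1, (.step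 [4, 10, 4, 11] .fail)), (1, .fail), (1, (.step [4, 9, 4, 11, 4] .fail)), (1, (.step [4, 9, 4, 4, 10] .fail)), (1, .fail), (1, (.step [7, 11, 7, 9] (.step [10, 8, 8, 11, 11] .fail))), (1, (.step [4, 7, 10, 10] (.step [8, 8, 10] .fail))), (1, (.step [4, 6, 4, 9, 9] .fail)), (1, (.step [4, 8, 7, 8, 6] .fail)), (1, (.step [4, 7, 9, 9, 7] .fail)), (6, .fail), (1, (.step [4, 4, 8, 6, 4, 10] .fail)), (1, (.step [5, 9, 4, 4] .fail)), (2, (.step [5, 7, 8, 8] .fail)), (1, (.step [5, 7, 7, 7, 8] .fail)), (1, (.step [7, 7, 7, 9] .fail)), (1, .fail), (2, (.step [6, 9, 7, 11] (.step [11, 9, 9, 13, 11] .fail))), (1, .fail), (1, (.step [4, 4, 7, 8, 10] (.step [8, 10, 9, 12, 11] (.step [14, 13] (.done [0, 0, 0, 0, 0, 0, 0, 0, 0, 0, 0, 0, 0, 0, 0, 0, 0, 0]))))), (1, (.step [6, 4, 11, 6] (.step [9, 10, 13, 11, 11] .fail))), (1, (.step [4, 6, 11, 5] (.step [8, 8, 11, 12, 11] .fail))), (1, (.step [4, 9, 6, 10, 4]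 .fail)), (1, (.step [6, 4, 8, 11, 9] (.step [8, 8, 10, 10, 8] .fail))), (1, (.step [7, 7, 4, 10] (.step [9, 9, 11, 12] .fail))), (1, (.step [5, 7, 4, 4] .fail)), (1, (.step [5, 8, 7, 7] (.step [11, 11, 11, 9] .fail))), (1, (.step [5, 5, 9, 6] .fail)), (1, (.step [4, 4, 4, 9, 10] .fail)), (1, .fail), (2, (.step [5, 11, 11, 4] .fail)), (2, .fail), (1, (.step [4, 8, 8, 6, 9] (.step [9, 10, 10, 9, 9] .fail))), (3, .fail), (2, (.step [4, 7, 7, 7, 4] .fail)), (1, (.step [5, 11, 5] .fail)), (3, .fail), (1, (.step [6, 8, 4, 4, 10] (.step [8, 12, 12] .fail))), (1, (.step [5, 6, 11, 8, 4] (.step [8, 13, 11, 12] .fail))), (1, (.step [5, 6, 8, 10, 9] (.step [8, 13, 11, 11, 9, 10] .fail))), (1, .fail), (1, (.step [7, 4, 8, 6] .fail)), (3, .fail), (1, (.step [4, 10, 7, 10, 4] .fail)), (2, (.step [5, 8, 7, 5] (.step [10, 12, 10, 9] .fail))), (2, (.step [4, 8, 4, 6, 10] .fail)), (1, (.step [4, 9, 7, 10, 5] .fail)),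 (1, .fail), (1, (.step [4, 9, 7, 10, 5] .fail)), (1, .fail), (1, (.step [4, 8, 7, 7, 4] .fail)), (1, (.step [5, 11, 7, 7, 10] .fail)), (1, (.step [4, 4, 6, 4, 4] .fail)), (1, (.step [4, 4, 7, 4] .fail)), (3, .fail), (1, (.step [6, 4, 7, 8] .fail)), (3, .fail), (1, (.step [5, 7, 11, 7, 10] .fail)), (1, (.step [4, 8, 10, 5, 6] .fail)), (1, (.step [5, 7, 11, 7, 10] .fail)), (1, .fail), (1, (.step [4, 4, 8, 6, 4, 8] .fail)), (2, .fail), (1, (.step [5, 10, 9, 9, 6] (.step [8, 11, 8, 11, 11] .fail))), (1, .fail), (1, (.step [5, 10, 7, 4] .fail)), (2, .fail), (1, (.step [6, 10, 4] .fail)), (3, .fail), (1, (.step [4, 7, 4, 9, 5] .fail)), (1, (.step [4, 4, 6, 6, 8] (.step [11, 11, 8] .fail))), (2, (.step [4, 11, 9, 4] (.step [9, 11, 11, 9, 9] .fail))), (7, .fail), (1, (.step [4, 11, 5, 10, 10] .fail)), (1, (.step [4, 10, 8, 4] .fail)), (1, .fail), (2, (.step [4, 7, 5, 11, 7] .fail)), (2, .fail), (1, (.step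 [6, 11, 9] .fail)), (1, (.step [4, 4, 7, 9, 6] .fail)), (1, (.step [6, 4, 7, 10, 4] .fail)), (1, (.step [5, 5, 8, 11] .fail)), (1, (.step [5, 9, 7, 11, 5] .fail)), (2, (.step [7, 9, 10, 5] .fail)), (1, (.step [4, 7, 5, 6, 11] .fail)), (1, (.step [6, 5, 6, 6] (.step [8, 13, 9, 10] .fail))), (2, (.step [4, 9, 6, 6] (.step [9, 10, 13, 11] .fail))), (1, (.step [4, 7, 5, 6, 11] .fail)), (1, .fail), (1, (.step [4, 11, 5, 6] .fail)), (1, (.step [6, 8, 10, 7] (.step [8, 13, 10, 10, 10] .fail))), (1, (.step [7, 10, 4, 9, 4] .fail)), (1, .fail), (1, (.step [5, 7, 11, 4, 9] .fail)), (2, (.step [4, 4, 6, 6, 9] .fail)), (1, (.step [4, 10, 10, 6] (.step [9, 10, 10, 13] .fail))), (2, (.step [5, 7, 11, 5] (.step [11, 12, 10, 12, 11] .fail))), (1, (.step [5, 9, 6, 6] .fail)), (1, (.step [4, 4, 10, 9, 7] .fail)), (1, (.step [4, 6, 8, 7, 4] .fail)), (1, (.step [4, 9, 6, 10, 6] .fail)), (2, .fail), (1, (.step [5,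 11, 11, 6] .fail)), (1, (.step [6, 8, 7] (.step [8, 12, 9, 9] .fail))), (1, .fail), (1, (.step [4, 6, 5, 11, 7] .fail)), (1, (.step [4, 7, 10, 4, 6] .fail)), (6, .fail), (1, (.step [4, 4, 10, 5, 8] .fail)), (1, .fail), (1, (.step [5, 11, 7, 9, 11] (.step [11, 13, 10, 12] .fail))), (1, (.step [6, 8, 8, 5] .fail)), (1, (.step [4, 11, 7, 5, 11] .fail)), (1, (.step [7, 5, 10, 9] .fail)), (1, .fail), (1, (.step [6, 5, 8, 8] .fail)), (1, .fail), (1, (.step [4, 9, 7, 11, 7] .fail)), (3, .fail), (1, (.step [6, 5, 9, 10] .fail)), (1, (.step [4, 4, 7, 8, 10] .fail)), (1, .fail), (2, (.step [7, 8, 10, 4, 8] (.step [10, 9, 10, 12] .fail))), (1, (.step [5, 5, 11, 8] (.step [8, 11, 12, 10, 12, 8] .fail))), (1, (.step [5, 5, 11, 8, 6] .fail)), (1, .fail), (1, (.step [7, 10, 10] .fail)), (1, (.step [4, 8, 11, 8, 5] .fail)), (2, .fail), (1, (.step [6, 8, 10, 4] (.step [11, 12, 8] (.step [13, 14, 13, 14] (.done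 [0, 0, 0, 0, 0, 0, 0, 0, 0, 0, 0]))))), (1, .fail), (1, (.step [4, 9, 4, 9, 11] (.step [9, 11, 8, 12] (.step [14, 13, 14] (.done [0, 0, 0, 0, 0, 0, 0, 0, 0, 0, 0, 0, 0]))))), (1, (.step [6, 6, 9] .fail)), (1, (.step [5, 10, 4, 7, 5] .fail)), (1, (.step [4, 7, 9, 9] .fail)), (1, (.step [5, 6, 11, 5, 5] .fail)), (1, (.step [5, 5, 9, 6] .fail)), (1, (.step [6, 6, 5, 11] .fail)), (3, .fail), (1, (.step [4, 8, 4, 9] .fail)), (1, (.step [6, 4, 8, 11, 9] .fail)), (1, .fail), (1, (.step [5, 5, 7, 4] (.step [9, 9, 11, 13] .fail))), (5, .fail), (1, (.step [5, 6, 10, 8] .fail)), (2, .fail), (1, (.step [5, 6, 10, 8] .fail)), (2, .fail), (1, (.step [4, 8, 11, 8, 5] .fail)), (1, (.step [5, 10, 7, 8] .fail)), (1, (.step [6, 9, 6, 8, 11] .fail)), (1, .fail), (1, (.step [4, 9, 5, 5, 7] .fail)), (1, (.step [4, 6, 9, 10, 8] .fail)), (1, (.step [6, 10, 6, 4] (.step [8, 8, 8, 11] .fail))), (1, .fail), (1, (.step [7,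 9, 6, 6, 5] .fail)), (1, .fail), (1, (.step [4, 8, 6, 11, 6] .fail)), (4, .fail), (1, (.step [6, 8, 10, 7, 5] (.step [10] .fail))), (1, .fail), (1, (.step [6, 8, 10, 7, 5] (.step [10] .fail))), (1, (.step [7, 7, 7, 7] .fail)), (1, (.step [4, 4, 7, 7, 9, 4] .fail)), (1, .fail), (1, (.step [4, 4, 7, 7, 9, 4] .fail)), (1, (.step [7, 7, 7, 7] .fail)), (1, .fail), (1, (.step [7, 8, 4] .fail)), (1, (.step [] (.step [] (.step [] (.done [0, 0, 0, 0, 0, 0, 0]))))), (1, (.step [5, 5, 7, 4, 6] .fail)), (1, .fail), (1, (.step [6, 9, 6, 4] .fail)), (1, .fail), (1, (.step [5, 8, 4, 8, 7] .fail)), (1, (.step [7, 9, 7, 10, 7] .fail)), (1, (.step [5, 9, 5, 10, 4] .fail)), (1, .fail), (1, (.step [4, 9, 7, 11, 6] (.step [11, 8, 8, 11] .fail))), (6, .fail), (1, (.step [4, 8, 8, 8, 10] .fail)), (1, (.step [4, 4, 7, 9, 6] (.step [11, 11, 8, 13] .fail))), (2, .fail), (1, (.step [4, 6, 5, 9] .fail)), (1, (.step [5, 6,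 9, 6, 9] .fail)), (1, (.step [5, 8, 5, 5] .fail)), (1, .fail), (1, (.step [4, 7, 9, 4] .fail)), (5, .fail), (1, (.step [4, 9, 7, 10, 4] .fail)), (1, .fail), (1, (.step [4, 8, 10, 6] (.step [9, 11, 9, 12] .fail))), (2, .fail), (1, (.step [5, 6, 9, 6, 9] .fail)), (2, (.step [4, 10, 7, 4, 7] .fail)), (1, (.step [4, 9, 6, 8, 8] .fail)), (1, (.step [4, 7, 11, 9] .fail)), (1, (.step [4, 6, 11, 5] (.step [8, 8, 11, 12, 11] .fail))), (1, (.step [4, 9, 6, 11] .fail)), (2, .fail), (1, (.step [4, 11, 4, 9, 6] (.step [11, 12, 10, 12, 10, 9] .fail))), (2, (.step [5, 6, 10, 6, 10] (.step [8, 10, 13, 10, 9] .fail))), (1, .fail), (1, (.step [4, 7, 10, 4, 6] .fail)), (6, .fail), (1, (.step [6, 8, 11, 7] .fail)), (1, (.step [4, 10, 7, 7, 4] (.step [9, 12, 11, 9] .fail))), (1, .fail), (1, (.step [6, 8, 4, 4, 10] (.step [8, 12, 12] .fail))), (2, .fail), (1, (.step [5, 6, 8, 7, 11] (.step [11, 13, 8, 10] .fail))),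 (1, (.step [6, 8, 10, 9] .fail)), (1, (.step [5, 6, 8, 7, 11] (.step [11, 13, 8, 10] .fail))), (1, (.step [4, 10, 10, 10, 7] .fail)), (2, .fail), (1, (.step [7, 4, 4, 6] .fail)), (1, .fail), (1, (.step [4, 7, 4, 10] (.step [8, 12, 8, 10] .fail))), (1, (.step [4, 6, 11, 11] .fail)), (1, .fail), (1, (.step [4, 11, 7, 10, 10] (.step [8, 11, 13] .fail))), (1, (.step [4, 9, 7, 7] .fail)), (1, (.step [6, 5, 11, 7, 5] .fail)), (5, .fail), (1, (.step [5, 6, 5, 9] .fail)), (1, (.step [5, 11, 7, 11] .fail)), (1, (.step [4, 11, 4, 7, 5] .fail)), (3, .fail), (1, (.step [5, 6, 5] (.step [10, 13, 8, 10] .fail))), (1, .fail), (1, (.step [5, 5, 6, 4, 6] .fail)), (1, .fail), (1, (.step [5, 5, 6, 4, 6] .fail)), (6, .fail), (1, (.step [4, 6, 4, 10, 10] .fail)), (1, (.step [4, 7, 11, 11, 9] .fail)), (2, (.step [4, 4, 4, 7, 10, 10] (.step [10, 12, 12, 11] .fail))), (1, (.step [4, 4, 9, 6, 8] (.step [10, 13] (.step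 [13, 14, 13] (.badAt 1))))), (1, .fail), (1, (.step [7, 11, 8, 5] .fail)), (1, (.step [4, 4, 11, 6] (.step [9, 9, 11] .fail))), (1, (.step [7, 11, 8, 5] .fail)), (1, (.step [5, 8, 6, 4, 10] .fail)), (3, .fail), (1, (.step [4, 8, 6, 10] .fail)), (1, (.step [4, 7, 4, 11] .fail)), (1, (.step [4, 8, 7, 4, 10] .fail)), (1, .fail), (1, (.step [5, 11, 7, 7] .fail)), (1, (.step [5, 11, 9, 7] (.step [8, 10, 10, 12, 11, 8] (.step [13, 14, 13] (.done [0, 0, 0, 0, 0, 0, 0, 0, 0, 0, 0, 0, 0, 0, 0, 0, 0, 0, 0, 0, 0]))))), (1, (.step [4, 4, 11, 4, 11] .fail)), (1, (.step [4, 4, 11, 5, 8] .fail)), (1, (.step [7, 11, 9, 4] .fail)), (1, (.step [4, 4, 11, 5, 8] .fail)), (1, (.step [6, 4, 7, 5, 5] .fail)), (2, .fail), (1, (.step [5, 9, 6, 9] (.step [9, 10, 12, 9, 11] .fail))), (1, (.step [6, 4, 8, 10] (.step [9, 10, 9] .fail))), (1, (.step [6, 5, 7, 5, 5] (.step [11, 12, 10] .fail))), (6, .fail), (1, (.step [7, 10,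 4, 7] .fail)), (1, (.step [7, 5, 9, 9, 10] (.step [8, 10, 9, 13, 11] .fail))), (1, (.step [7, 10, 4, 7] .fail)), (1, (.step [4, 11, 5, 7] .fail)), (1, (.step [4, 4, 4, 8, 6] .fail)), (2, .fail), (1, (.step [5, 7, 11, 7, 10] (.step [9, 11, 9, 11] .fail))), (4, .fail), (1, (.step [4, 4, 11, 6, 10] .fail)), (1, (.step [7, 11, 5, 10] .fail)), (1, (.step [4, 10, 10, 7, 8] .fail)), (2, .fail), (1, (.step [5, 8, 7, 4, 6] .fail)), (1, (.step [7, 8, 10, 8] .fail)), (1, (.step [4, 6, 5, 10, 6] .fail)), (1, (.step [4, 6, 9, 10, 9] .fail)), (1, .fail), (1, (.step [5, 8, 11, 7, 9] .fail)), (1, .fail), (1, (.step [6, 10, 4, 10, 6] .fail)), (2, .fail), (1, (.step [4, 11, 11, 9] (.step [8, 13, 10, 10] .fail))), (1, .fail), (1, (.step [4, 10, 7, 8, 11] .fail)), (1, .fail), (1, (.step [4, 10, 9, 5] (.step [10, 12, 10, 9] .fail))), (1, (.step [6, 8, 8, 5] .fail)), (1, (.step [4, 11, 9, 9, 6] .fail)), (2, (.step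 [7, 11, 6, 8] (.step [11, 8] .fail))), (1, (.step [5, 8, 5, 11, 7] .fail)), (1, .fail), (1, (.step [4, 4, 9, 4, 10] .fail)), (2, (.step [5, 9, 4, 7, 4] .fail)), (1, (.step [4, 8, 10, 10, 4] .fail)), (2, .fail), (1, (.step [6, 9, 7, 4, 8] (.step [8, 13, 11, 8] .fail))), (2, .fail), (1, (.step [4, 10, 9, 5, 8] .fail)), (1, .fail), (1, (.step [4, 7, 8] (.step [8, 11, 8, 12, 8] .fail))), (1, (.step [5, 6, 8, 11, 8] (.step [8, 12, 11, 8, 12] .fail))), (3, .fail), (1, (.step [4, 6, 8, 11, 11] .fail)), (2, .fail), (2, (.step [5, 6, 6, 8, 6] .fail)), (1, (.step [4, 4, 11, 5, 10] .fail)), (1, (.step [4, 10, 9, 11] (.step [10, 13, 9] .fail))), (1, (.step [4, 9, 6, 6, 10] (.step [10, 9, 9, 10, 10] .fail))), (3, .fail), (1, (.step [4, 11, 5] .fail)), (1, (.step [7, 11, 7, 7] (.step [11, 13, 9, 13] .fail))), (1, (.step [6, 9, 9] .fail)), (1, .fail), (1, (.step [6, 10, 7] .fail)), (1, (.step [7, 11, 7, 7] (.step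 [11, 13, 9, 13] .fail))), (1, (.step [4, 9, 6, 9, 10] .fail)), (1, (.step [5, 6, 8, 11, 8] (.step [8, 12, 11, 8, 12] .fail))), (1, (.step [5, 7, 10, 5, 8] .fail)), (1, (.step [5, 10, 5, 8, 4] (.step [8, 13, 9, 11, 8, 10] .fail))), (1, (.step [5, 6, 10, 8, 7] (.step [9, 11, 12, 11, 13] .fail))), (2, .fail), (1, (.step [4, 8, 7, 5, 6] .fail)), (1, (.step [4, 10, 8, 7] .fail)), (5, .fail), (1, (.step [4, 11, 11, 6, 10] .fail)), (1, (.step [4, 8, 11, 4, 6] (.step [9, 13, 8, 11, 13] .fail))), (4, .fail), (1, (.step [7, 11, 11] .fail)), (2, .fail), (1, (.step [4, 7, 8, 7, 5] .fail)), (1, (.step [5, 7, 5, 10, 5] .fail)), (1, .fail), (1, (.step [5, 11, 11, 4] (.step [8, 12, 11, 13, 9] .fail))), (1, (.step [6, 5, 8, 4] (.step [9, 11, 11, 9, 9] .fail))), (1, (.step [6, 4, 7, 8, 11] .fail)), (1, (.step [4, 11, 6, 5] .fail)), (1, (.step [4, 6, 11, 11] (.step [8, 8, 11, 8, 10] .fail))), (1, .fail), (1, (.step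 [4, 8, 4, 9] .fail)), (2, .fail), (1, (.step [4, 7, 11, 6, 11] .fail)), (2, .fail), (1, (.step [5, 6, 8, 6, 6] .fail)), (2, .fail), (1, (.step [7, 10, 9, 5] .fail)), (1, (.step [7, 11, 8, 4] .fail)), (1, (.step [5, 8, 5, 8, 6] .fail)), (1, (.step [4, 8, 6, 11, 11] .fail)), (1, (.step [5, 8, 5, 8, 6] .fail)), (1, (.step [7, 8, 10, 5] .fail)), (1, (.step [5, 9, 6, 9, 11] .fail)), (1, (.step [4, 8, 4, 9, 5] (.step [8, 10, 13, 11, 8] .fail))), (4, .fail), (1, (.step [4, 11, 9, 5, 9] (.step [10, 13, 10, 8] .fail))), (1, (.step [4, 9, 7] .fail)), (1, (.step [6, 11, 8, 10] .fail)), (1, (.step [4, 10, 6, 6, 6] .fail)), (3, .fail), (1, (.step [4, 6, 5, 8, 5] .fail)), (1, (.step [5, 8, 6, 4] (.step [8, 11, 13] .fail))), (4, .fail), (1, (.step [4, 6, 10, 5] .fail)), (1, (.step [4, 4, 10, 8, 10, 5] .fail)), (1, (.step [5, 6, 4, 4] .fail)), (1, (.step [5, 9, 11, 11] (.step [8, 12, 11, 8, 12] (.step [13, 14,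 13, 14] (.badAt 1))))), (1, .fail), (1, (.step [5, 10, 7, 4, 11] .fail)), (1, .fail), (1, (.step [5, 10, 7, 4, 11] .fail)), (1, (.step [5, 6, 6, 8, 7] .fail)), (1, .fail), (1, (.step [6, 5, 7, 11] .fail)), (1, (.step [6, 4, 7, 4, 6] .fail)), (1, .fail), (1, (.step [4, 10, 6, 10, 4] .fail)), (3, .fail), (1, (.step [4, 8, 10, 5, 6] .fail)), (1, (.step [6, 4, 4, 7, 10] (.step [9, 11, 12, 11, 12] .fail))), (1, (.step [4, 8, 10, 5, 6] .fail)), (1, (.step [4, 6, 8, 6] .fail)), (5, .fail), (1, (.step [5, 9, 4, 6, 5] .fail)), (1, (.step [7, 11, 9, 7, 11] .fail)), (1, (.step [4, 6, 11] (.step [8, 13, 11, 13] .fail))), (2, .fail), (1, (.step [5, 8, 6, 4] (.step [8, 11, 13] .fail))), (1, (.step [6, 11, 8, 5, 11] .fail)), (1, (.step [4, 4, 7, 8, 10] .fail)), (1, .fail), (1, (.step [4, 8, 10, 5, 10] .fail)), (1, .fail), (1, (.step [6, 8, 4, 10, 4] .fail)), (1, (.step [4, 4, 6, 11] .fail)), (1, (.step [5, 9,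 5, 11, 5] (.step [8, 8, 11, 8, 11, 11] .fail))), (2, .fail), (1, (.step [4, 10, 7, 4] .fail)), (1, (.step [4, 8, 10, 6] .fail)), (1, .fail), (1, (.step [4, 9, 5, 10, 10] .fail)), (1, (.step [5, 10, 9, 9] .fail)), (1, (.step [5, 8, 11, 4] (.step [10, 9, 10] .fail))), (1, (.step [4, 6, 8, 6] .fail)), (2, .fail), (1, (.step [5, 7, 5, 7, 11] .fail)), (1, (.step [4, 4, 7, 4, 8] (.step [8, 11, 11, 9, 10] .fail))), (1, (.step [6, 11, 6, 6, 10] (.step [10, 9, 12, 10] .fail))), (1, .fail), (1, (.step [5, 5, 6, 6, 10] .fail)), (2, (.step [4, 8, 10, 4] .fail)), (2, .fail), (1, (.step [6, 4, 8, 5, 10] .fail)), (1, (.step [4, 7, 5, 11, 5] .fail)), (1, (.step [5, 9, 9, 11, 4] .fail)), (1, (.step [5, 7, 5, 9] (.step [11, 11, 13] .fail))), (1, (.step [6, 5, 6] .fail)), (2, .fail), (1, (.step [4, 10, 9, 11] .fail)), (1, (.step [6, 5, 6] .fail)), (1, (.step [5, 6, 8, 6, 6] .fail)), (1, (.step [5, 5, 7, 10, 4] .fail)),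 (1, .fail), (1, (.step [4, 4, 7, 9, 6] .fail)), (1, (.step [5, 6, 6, 9, 9] (.step [8, 12, 12, 10, 9] .fail))), (1, (.step [4, 4, 7, 10, 7] .fail)), (1, (.step [4, 11, 7, 5, 11] (.step [11, 12, 12, 10, 8] .fail))), (1, .fail), (1, (.step [4, 10, 6, 6, 6] (.step [9, 10, 10, 13, 10] .fail))), (1, (.step [6, 11, 6, 5, 7] .fail)), (2, (.step [4, 6, 8, 11, 5] .fail)), (1, .fail), (1, (.step [4, 10, 4, 11] .fail)), (2, (.step [5, 6, 6] (.step [10, 13, 9, 12] .fail))), (1, .fail), (1, (.step [4, 8, 10] .fail)), (1, (.step [4, 8, 4, 7, 8] .fail)), (1, (.step [6, 5, 5, 9, 6] .fail)), (1, (.step [4, 10, 8, 11, 8] .fail)), (1, .fail), (1, (.step [4, 4, 6, 6, 4] .fail)), (2, .fail), (1, (.step [4, 7, 7, 4] (.step [9, 11, 8, 12, 11] .fail))), (1, (.step [7, 5, 10, 9] .fail)), (4, .fail), (2, (.step [4, 9, 5, 11, 11] .fail)), (1, .fail), (1, (.step [7, 5, 10, 9] .fail)), (1, .fail), (1, (.step [4, 6, 11, 5,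 10] .fail)), (1, (.step [4, 9, 5, 11, 11] (.step [11] (.step [12, 12] (.badAt 1))))), (1, (.step [4, 4, 8, 10, 8] .fail)), (5, .fail), (1, (.step [4, 4, 9, 10, 5] .fail)), (1, (.step [4, 4, 7, 10, 7] .fail)), (1, .fail), (1, (.step [6, 8, 4, 8] .fail)), (3, .fail), (1, (.step [6, 4, 6, 10, 8] (.step [10, 9, 9, 10, 10] (.step [13, 14, 13] (.badAt 1))))), (2, .fail), (1, (.step [4, 9, 7, 5, 5] .fail)), (1, (.step [6, 8, 6, 4] .fail)), (1, (.step [4, 11, 4, 11] (.step [8, 11, 13, 11, 13] .fail))), (5, .fail), (1, (.step [4, 8, 5, 11, 5] (.step [10, 8, 8, 11] .fail))), (1, (.step [7, 7, 5, 10, 4] (.step [11, 11, 8, 12] .fail))), (1, .fail), (1, (.step [4, 8, 5, 9] .fail)), (1, .fail), (1, (.step [4, 4, 11, 6, 10] .fail)), (1, .fail), (1, (.step [5, 7, 11, 6, 6] (.step [8, 10, 10, 10, 8] .fail))), (1, .fail), (1, (.step [4, 7, 8, 5] .fail)), (2, (.step [6, 4, 8, 11, 8] .fail)), (4, .fail), (1, (.step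 [5, 6, 6, 9, 6] .fail)), (1, .fail), (1, (.step [4, 8, 8, 4, 6] (.step [11, 12, 8, 10, 13] .fail))), (2, .fail), (1, (.step [6, 10, 10, 4] .fail)), (2, (.step [4, 9, 10, 8] .fail)), (1, (.step [4, 6, 5, 10, 6] .fail)), (2, .fail), (1, (.step [4, 10, 4, 6, 4] (.step [8, 13, 10, 10] (.step [14, 13] (.badAt 1))))), (1, (.step [6, 10, 8, 7] .fail)), (1, .fail), (1, (.step [4, 8, 8, 5, 6] .fail)), (1, .fail), (1, (.step [4, 9, 9, 11] .fail)), (1, (.step [6, 4, 9, 9] .fail)), (1, .fail), (1, (.step [4, 9, 7, 8, 7] (.step [8, 13, 11, 11, 9, 10] .fail))), (3, .fail), (1, (.step [4, 11, 9, 5, 5] .fail)), (1, (.step [4, 4, 10, 8, 10] (.step [8, 13, 9, 11, 8, 10] .fail))), (3, .fail), (1, (.step [4, 10, 5, 11, 8] .fail)), (1, (.step [5, 8, 8, 6] .fail)), (1, .fail), (1, (.step [6, 8, 11, 9] (.step [8, 13, 11, 12, 11] .fail))), (1, .fail), (1, (.step [5, 5, 9, 4] .fail)), (1, (.step [7, 4, 9] .fail)), (1,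 .fail), (1, (.step [5, 10, 8, 11] .fail)), (1, (.step [5, 6, 8, 11] .fail)), (5, .fail), (1, (.step [6, 6] .fail)), (1, (.step [6, 8, 7, 10, 5] .fail)), (5, .fail), (1, (.step [5, 7, 11, 6, 4] .fail)), (1, (.step [4, 9, 10, 10] .fail)), (1, (.step [5, 10, 4, 7, 7] (.step [8, 11, 12, 11] .fail))), (1, (.step [4, 9, 10, 10] .fail)), (1, .fail), (1, (.step [7, 9, 6] .fail)), (2, (.step [7, 11, 9, 11, 6] .fail)), (2, .fail), (1, (.step [6, 11, 6, 5, 9] .fail)), (1, (.step [4, 7, 4, 4] .fail)), (1, (.step [4, 7, 11, 6, 11] .fail)), (5, .fail), (1, (.step [7, 10, 5, 11] .fail)), (2, .fail), (1, (.step [4, 9, 5, 5, 7] .fail)), (1, (.step [4, 6, 9, 7, 7] .fail)), (1, (.step [5, 5, 7, 4] (.step [9, 9, 11, 13] .fail))), (1, (.step [6, 4, 11, 5] (.step [11, 8, 12, 12, 8] .fail))), (1, (.step [7, 11, 6, 4, 10] .fail)), (1, .fail), (1, (.step [4, 7, 9, 9, 7] .fail)), (2, .fail), (1, (.step [4, 4, 9, 10] .fail)),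 (1, (.step [4, 8, 8, 8, 10] .fail)), (1, (.step [5, 6, 10, 10] .fail)), (4, .fail), (1, (.step [4, 7, 4, 6] (.step [9, 11, 12, 12] .fail))), (1, .fail), (1, (.step [4, 11, 4, 9, 9] .fail)), (1, .fail), (1, (.step [4, 6, 6, 9, 4] .fail)), (1, (.step [5, 5, 11, 8, 6] .fail)), (1, (.step [4, 6, 5, 10, 4] .fail)), (2, .fail), (1, (.step [4, 9, 9, 5, 6] .fail)), (1, (.step [5, 9, 4, 8] .fail)), (1, (.step [4, 4, 7, 4, 4] (.step [8, 12, 11, 9, 11] .fail))), (1, (.step [4, 9, 5, 10, 10] .fail)), (1, (.step [6, 10, 5, 5] .fail)), (1, (.step [4, 10, 6, 5, 10] .fail)), (1, (.step [5, 10, 8, 4] .fail)), (1, (.step [5, 10, 6, 5] .fail)), (1, .fail), (1, (.step [4, 6, 4, 10, 10] .fail)), (1, (.step [4, 10, 10, 7] .fail)), (1, (.step [4, 4, 10, 7, 7] (.step [11, 13, 10, 9] .fail))), (1, (.step [6, 8, 11, 7] .fail)), (1, .fail), (1, (.step [4, 8, 10, 5, 9] .fail)), (1, (.step [6, 4, 7, 4, 6] .fail)), (1, (.step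 [6, 8, 5, 8, 5] .fail)), (1, (.step [5, 6, 10, 8, 7] .fail)), (1, (.step [6, 6, 4, 6] .fail)), (1, (.step [4, 10, 8] .fail)), (1, (.step [4, 6, 11, 4, 4] .fail)), (1, .fail), (1, (.step [4, 4, 9, 7, 11] .fail)), (1, (.step [4, 4, 8, 10, 8] .fail)), (1, (.step [4, 4, 9, 7, 11] .fail)), (9, .fail), (1, (.step [4, 8] .fail)), (1, .fail), (1, (.step [7, 8, 10, 4, 8] (.step [10, 9, 10, 12] .fail))), (1, (.step [5, 6, 11, 5, 5] .fail)), (3, .fail), (1, (.step [4, 6, 4, 7, 8] (.step [11, 12, 12, 9, 10] .fail))), (1, (.step [4, 9, 4, 11, 6] .fail)), (1, (.step [4, 9, 9, 4, 8] (.step [11, 11, 11, 11] .fail))), (1, (.step [7, 9, 10, 8] .fail)), (3, .fail), (1, (.step [7, 9, 7, 9] .fail)), (5, .fail), (1, (.step [4, 6, 9, 4, 7] .fail)), (1, .fail), (1, (.step [6, 9, 5, 8, 6] .fail)), (1, (.step [5, 9, 4, 9] (.step [10, 8, 11, 12] (.step [12, 12, 15] (.badAt 1))))), (1, (.step [4, 6, 10, 9, 9] .fail)), (1,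 (.step [7, 8, 10, 9] .fail)), (2, .fail), (1, (.step [7, 11, 9, 9] .fail)), (1, .fail), (1, (.step [4, 8, 10, 10] .fail)), (5, .fail), (1, (.step [4, 11, 5, 7] .fail)), (6, .fail), (1, (.step [5, 7, 9, 7] (.step [8, 11, 8, 8, 8] .fail))), (1, (.step [5, 6, 6, 9, 6] .fail)), (1, (.step [5, 11, 6, 5, 6] .fail)), (1, (.step [4, 4, 7, 4, 9] .fail)), (2, .fail), (1, (.step [4, 11, 11, 6, 5] .fail)), (1, (.step [4, 4, 9, 4, 10] .fail)), (2, .fail), (1, (.step [5, 8, 5, 6, 6] (.step [10, 13, 9, 12] (.step [12, 14] (.badAt 1))))), (6, .fail), (1, (.step [4, 8, 5, 11] .fail)), (1, (.step [6, 9, 6, 8] .fail)), (1, (.step [4, 8, 10, 8, 8] .fail)), (3, .fail), (1, (.step [6, 8, 4, 7] .fail)), (1, .fail), (1, (.step [6, 4, 4, 7, 10] .fail)), (1, (.step [6, 9, 6, 8] .fail)), (1, .fail), (1, (.step [4, 6, 10, 9, 9] .fail)), (1, (.step [4, 6] .fail)), (1, (.step [7, 7, 7, 8] .fail)), (1, (.step [6, 8, 4, 11]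 (.step [11, 9, 12, 10, 12] .fail))), (1, (.step [5, 6, 4, 9, 5] (.step [8, 10, 9, 12, 10] .fail))), (3, .fail), (1, (.step [6, 9, 10, 4] .fail)), (5, .fail), (1, (.step [4, 7, 11, 9] .fail)), (2, .fail), (1, (.step [5, 7, 11, 6, 11] .fail)), (1, (.step [5, 11, 7, 11] .fail)), (1, (.step [5, 10, 9, 9, 6] .fail)), (2, .fail), (1, (.step [4, 7, 8, 5, 7] .fail)), (1, .fail), (1, (.step [6, 8, 6, 6] .fail)), (1, (.step [5, 10, 6, 11] (.step [9, 9, 11] .fail))), (1, (.step [5, 6, 9, 6, 8] (.step [11, 9, 12, 10] .fail))), (1, (.step [4, 4, 4, 7, 10, 10] (.step [10, 12, 12, 11] .fail))), (1, .fail), (1, (.step [7, 10, 8, 6] .fail)), (1, .fail), (1, (.step [4, 8, 6, 11, 4] (.step [8, 11, 9, 11, 11] .fail))), (1, .fail), (1, (.step [4, 4, 7, 10, 9] .fail)), (1, .fail), (1, (.step [6, 5, 7, 5, 5] (.step [11, 12, 10] .fail))), (1, (.step [4, 4, 4, 6, 6] .fail)), (1, (.step [5, 5, 11] .fail)), (1, (.step [5,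 6, 5, 9] (.step [8, 11] .fail))), (1, (.step [4, 9, 6, 8, 6] .fail)), (1, .fail), (1, (.step [4, 6, 10, 9, 7] .fail)), (2, (.step [4, 6, 6, 8] .fail)), (1, .fail), (1, (.step [4, 6, 11, 5, 11] .fail)), (1, (.step [7, 5, 10, 9] .fail)), (1, (.step [4, 10, 9] (.step [10, 8, 11, 13] .fail))), (1, (.step [4, 7, 4, 6] .fail)), (1, (.step [4, 11, 4, 10, 9] (.step [10, 9, 10, 10] .fail))), (1, (.step [6, 5, 7, 5, 5] (.step [8, 10, 10, 9, 10] .fail))), (1, (.step [7, 7, 5, 10] .fail)), (1, .fail), (1, (.step [4, 6, 11, 7, 5] (.step [11, 9, 13, 8] .fail))), (3, .fail), (1, (.step [4, 6, 8, 5, 8] (.step [9, 10, 8, 13] .fail))), (5, .fail), (1, (.step [5, 8, 4, 7, 4] .fail)), (3, .fail), (1, (.step [5, 8, 5, 7, 7] .fail)), (1, (.step [4, 6, 5, 9, 6] (.step [8, 8, 11, 8, 11, 11] .fail))), (1, (.step [4, 9, 5, 10, 9] .fail)), (1, (.step [5, 10, 6, 9] (.step [8, 12, 11, 13] .fail))), (3, .fail), (1, (.step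 [4, 9, 6, 8, 8] .fail)), (1, .fail), (1, (.step [4, 8, 5, 9, 10] .fail)), (1, (.step [5, 8, 4, 9, 6] .fail)), (1, (.step [4, 9, 10, 8] (.step [10, 9, 11, 8, 10] .fail))), (1, .fail), (1, (.step [4, 4, 7, 9, 6] (.step [11, 11, 8, 13] .fail))), (2, .fail), (1, (.step [7, 4, 8, 7] .fail)), (1, (.step [4, 8, 6, 10] .fail)), (1, .fail), (1, (.step [5, 8, 4, 11] (.step [8, 11, 8, 10, 10] .fail))), (1, (.step [4, 9, 6] .fail)), (1, (.step [4, 10, 9, 4, 6] .fail)), (1, .fail), (1, (.step [4, 4, 9, 11, 4] .fail)), (1, (.step [4, 9, 4, 9, 11] (.step [9, 11, 8, 12] (.step [14, 13, 14] (.done [0, 0, 0, 0, 0, 0, 0, 0, 0, 0, 0, 0, 0, 0]))))), (1, (.step [5, 11, 11, 11] .fail)), (1, .fail), (1, (.step [4, 10, 7, 10, 4] .fail)), (1, .fail), (1, (.step [7, 11, 4, 9] .fail)), (2, .fail), (1, (.step [5, 9, 4, 9] (.step [8, 12] .fail))), (1, (.step [6, 11, 7, 8] (.step [8, 10, 12, 10, 13] (.step [13, 15] (.badAt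 1))))), (2, .fail), (1, (.step [5, 6, 8, 7, 11] .fail)), (1, .fail), (1, (.step [4, 6, 9, 10, 9] .fail)), (1, (.step [7, 10, 7, 5] (.step [10, 12, 11, 8, 11] .fail))), (4, .fail), (1, (.step [7, 10, 8, 6] .fail)), (5, .fail), (1, (.step [5, 10, 5, 7] .fail)), (1, .fail), (1, (.step [4, 7, 7, 10, 4] .fail)), (1, .fail), (1, (.step [4, 7, 11, 11, 9] .fail)), (4, .fail), (1, (.step [4, 6, 10, 6] .fail)), (2, .fail), (2, (.step [4, 6, 9, 7] .fail)), (1, .fail), (1, (.step [4, 6, 6, 9, 4] .fail)), (1, (.step [5, 6, 9, 10, 4] (.step [9, 10, 12] .fail))), (1, (.step [7, 4, 11] .fail)), (1, (.step [6, 10, 6, 10] (.step [10, 12] .fail))), (1, (.step [4, 4, 7] .fail)), (1, .fail), (1, (.step [5, 6, 4, 9, 5] (.step [8, 11, 12, 12] .fail))), (1, (.step [4, 8, 7, 8, 7] .fail)), (1, (.step [5, 6, 8, 6] .fail)), (1, (.step [7, 7, 10, 8] .fail)), (1, (.step [6, 11, 6, 10] (.step [10, 12, 10, 12] .fail))), (1,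 .fail), (2, (.step [6, 4, 6, 4] .fail)), (1, (.step [6, 6, 8, 7] (.step [11, 8, 10, 13, 10] (.step [12, 12] (.badAt 1))))), (1, (.step [5, 6, 8, 10, 7] .fail)), (1, (.step [5, 7, 9, 10] (.step [9, 9, 11] .fail))), (1, (.step [4, 8, 10, 5, 10] .fail)), (1, (.step [6, 6, 8, 11] .fail)), (1, (.step [7, 8, 5, 9] (.step [9, 11, 9] (.step [12] (.badAt 1))))), (1, (.step [4, 4] .fail)), (1, (.step [5, 8, 6, 4, 10] .fail)), (5, .fail), (1, (.step [4, 9, 4, 6, 4] .fail)), (1, (.step [5, 6, 8, 11] .fail)), (3, .fail), (1, (.step [4, 6, 5, 10, 6] .fail)), (1, .fail), (1, (.step [5, 5, 9, 4, 8] .fail)), (1, (.step [5, 8, 11] .fail)), (1, (.step [6, 10, 4] .fail)), (1, (.step [5, 7, 5, 7, 11] .fail)), (3, .fail), (1, (.step [7, 11, 8, 5] .fail)), (1, (.step [4, 6, 9, 7, 11] .fail)), (1, (.step [5, 5, 11, 8, 6] .fail)), (1, (.step [4, 7, 9, 6, 9] (.step [8, 12, 11, 11] .fail))), (1, (.step [7, 11, 5, 10] .fail)),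 (1, (.step [6, 8, 10, 4] (.step [11, 12, 8] (.step [13, 14, 13, 14] (.done [0, 0, 0, 0, 0, 0, 0, 0, 0, 0]))))), (1, (.step [4, 4, 6, 8, 7] .fail)), (1, (.step [4, 7, 7, 4] .fail)), (1, .fail), (1, (.step [6, 9, 4, 4, 10] (.step [8, 12, 10, 9, 9] .fail))), (1, (.step [4, 8, 7, 8, 7] .fail)), (2, .fail), (1, (.step [5, 8, 11, 9, 4] .fail)), (1, (.step [4, 6, 8, 6, 5] .fail)), (1, (.step [4, 9, 7, 10, 8] (.step [8, 11, 9] .fail))), (2, .fail), (1, (.step [6, 11, 9, 4, 11] .fail)), (1, (.step [7, 10] .fail)), (1, (.step [4, 6, 5, 6, 4] .fail)), (3, .fail), (1, (.step [4, 7, 4, 10] (.step [8, 12, 8, 10] .fail))), (1, (.step [4, 7, 9, 9, 7] (.step [10, 13, 10, 12] .fail))), (1, .fail), (1, (.step [5, 8, 6, 10] (.step [10, 9, 10, 12] (.step [12, 14, 13, 14] (.badAt 1))))), (1, (.step [4, 4, 7, 4, 9] (.step [8, 10, 12] .fail))), (1, (.step [6, 9, 6, 8] .fail)), (4, .fail), (1, (.step [4, 7, 7, 7, 4] .fail)),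 (1, (.step [4, 6, 5, 7, 8] (.step [8, 8, 8, 12] (.step [14] (.badAt 1))))), (1, (.step [6, 6, 5, 8] .fail)), (1, .fail), (1, (.step [4, 10, 7, 4, 7] .fail)), (1, .fail), (1, (.step [5, 5, 10, 6] (.step [9, 10, 9, 9] .fail))), (1, (.step [4, 6, 10, 4] .fail)), (10, .fail), (1, (.step [7, 11, 6] .fail)), (1, (.step [4, 6, 11, 11] .fail)), (1, (.step [4, 4, 7, 10] .fail)), (1, (.step [4, 6, 10, 4, 9] .fail)), (1, (.step [7, 5, 7] (.step [8, 11, 13, 9] .fail))), (2, .fail), (1, (.step [4, 11, 11, 4, 8] .fail)), (1, (.step [4, 9, 6, 8, 8] .fail)), (1, .fail), (1, (.step [5, 5, 9, 4, 8] .fail)), (1, (.step [5, 9, 5, 10, 4] .fail)), (1, (.step [4, 11, 4, 6] .fail)), (2, .fail), (1, (.step [4, 6, 8, 7] .fail)), (1, (.step [6, 5, 7, 4, 11] .fail)), (1, (.step [5, 8, 4, 7, 9] .fail)), (1, (.step [4, 4, 10, 10, 5] .fail)), (2, .fail), (1, (.step [6, 8, 7, 8] (.step [10, 13, 9] .fail))), (1, (.step [4, 11,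 11, 9] (.step [8, 13, 10, 10] .fail))), (1, (.step [5, 5, 11, 8] (.step [8, 11, 12, 10, 12, 8] .fail))), (1, (.step [4, 10, 4, 8, 10] (.step [8, 12, 8] .fail))), (1, .fail), (1, (.step [5, 8, 7, 9, 7] (.step [10, 12, 10, 9] .fail))), (1, (.step [4, 7, 8, 8, 8] (.step [8, 11, 13, 10] .fail))), (1, (.step [5, 5, 5, 8, 4] .fail)), (1, (.step [4, 10, 7, 8] .fail)), (1, .fail), (1, (.step [4, 10, 6, 9, 4] .fail)), (7, .fail), (1, (.step [4, 9, 6, 11] .fail)), (1, (.step [4, 4, 8, 10] .fail)), (1, (.step [4, 6, 8, 7, 4] .fail)), (1, (.step [4, 9, 6, 10, 4] .fail)), (5, .fail), (1, (.step [6, 4, 7, 9] (.step [8, 11, 9, 10] .fail))), (1, .fail), (1, (.step [4, 6, 5, 11, 11] (.step [11, 12, 10] .fail))), (1, (.step [4, 7, 10, 7, 8] .fail)), (1, .fail), (1, (.step [4, 4, 11, 8, 11] (.step [8, 13, 11, 11] .fail))), (1, (.step [4, 8, 4, 7, 8] .fail)), (1, (.step [4, 7, 5, 7, 8] .fail)), (1, (.step [4, 7,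 10, 6, 9] .fail)), (1, .fail), (1, (.step [5, 8, 4] .fail)), (1, (.step [7, 8, 4, 7] (.step [10, 13, 9] .fail))), (1, (.step [5, 5, 7, 4, 6] .fail)), (1, (.step [4, 9, 4, 4, 10] .fail)), (3, .fail), (1, (.step [6, 6, 5, 11] .fail)), (1, (.step [4, 10, 4, 6, 4] .fail)), (1, (.step [5, 5, 6, 4, 6] .fail)), (1, (.step [6, 8, 4, 10] .fail)), (1, .fail), (1, (.step [5, 8, 4, 7, 9] .fail)), (1, (.step [5, 10, 6, 9] (.step [10, 9, 9, 11, 13] .fail))), (1, .fail), (2, (.step [5, 7, 9, 11] .fail)), (1, (.step [7, 10, 9, 7] (.step [11, 13, 9, 10] .fail))), (1, .fail), (1, (.step [4, 7, 9, 9] .fail)), (2, .fail), (1, (.step [4, 6, 8, 8, 5] .fail)), (1, (.step [6, 9, 11, 4] .fail)), (1, (.step [7, 9, 7, 10, 7] .fail)), (1, (.step [7, 8, 5, 9] (.step [9, 11, 9] (.step [12] (.badAt 1))))), (1, (.step [5, 9, 10] .fail)), (1, (.step [4, 9, 10, 6] .fail)), (2, .fail), (1, (.step [4, 8, 10, 9] (.step [8, 11, 12,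 9, 10] .fail))), (1, (.step [5, 11, 9, 6, 9] .fail)), (3, .fail), (1, (.step [5, 7, 8] .fail)), (1, (.step [5, 7, 11, 5] .fail)), (2, .fail), (1, (.step [4, 7, 5, 8, 6] .fail)), (1, (.step [5, 5, 9, 9] (.step [11, 12, 12, 10] .fail))), (4, .fail), (1, (.step [4, 6, 10] .fail)), (1, .fail), (1, (.step [6, 8, 4, 4, 10] (.step [8, 10, 10, 9, 10, 12] .fail))), (1, (.step [5, 8, 5, 5] .fail)), (3, .fail), (1, (.step [5, 7, 8, 11, 8] .fail)), (1, (.step [5, 8, 4] .fail)), (1, .fail), (1, (.step [5, 11, 7, 9, 11] (.step [11, 13, 10, 12] .fail))), (1, (.step [7, 10, 6, 10] .fail)), (3, .fail), (1, (.step [5, 5, 8, 8, 5] .fail)), (2, .fail), (1, (.step [5, 7, 4, 4, 4] .fail)), (1, .fail), (1, (.step [4, 4, 4, 11, 4] .fail)), (1, (.step [6, 4, 8, 4] .fail)), (1, .fail), (1, (.step [6, 6, 6, 11] .fail)), (2, .fail), (1, (.step [4, 8, 4, 6, 10] (.step [10, 12, 8, 11] .fail))), (1, (.step [6, 9, 6, 8, 11]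 .fail)), (2, .fail), (1, (.step [4, 4, 7, 8, 10] .fail)), (1, (.step [5, 8, 11, 6, 6] .fail)), (1, (.step [4, 8, 10] .fail)), (4, .fail), (1, (.step [4, 8, 8, 8, 10] .fail)), (1, (.step [4, 7, 9, 6] .fail)), (1, (.step [4, 7, 8, 7] .fail)), (1, (.step [6, 8, 8, 10, 5] .fail)), (1, (.step [7, 9, 4, 7] .fail)), (1, (.step [6, 6, 5, 11] .fail)), (1, (.step [4, 4, 11, 8, 11] .fail)), (1, (.step [5, 6, 8, 7, 11] (.step [11, 13, 8, 10] .fail))), (1, (.step [6, 4, 11, 9] .fail)), (1, (.step [7, 8, 5, 10] .fail)), (1, (.step [4, 9, 5, 5] .fail)), (2, .fail), (1, (.step [5, 5, 7, 4] (.step [9, 9, 11, 13] .fail))), (2, .fail), (1, (.step [7, 11, 5, 10] .fail)), (1, .fail), (2, (.step [4, 4, 4, 11, 8] .fail)), (5, .fail), (1, (.step [6, 4, 10, 8] (.step [8, 13, 11, 8] .fail))), (1, .fail), (1, (.step [4, 8, 11, 4] .fail)), (5, .fail), (1, (.step [5, 10, 7, 11] .fail)), (1, (.step [4, 4, 8, 6, 5] .fail)),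 (1, .fail), (1, (.step [5, 10, 7, 11] .fail)), (1, (.step [5, 7, 11, 11, 6] (.step [8, 11, 12, 8, 11, 11] .fail))), (1, (.step [4, 4, 9, 7, 5] .fail)), (1, (.step [4, 4, 6, 6, 8] (.step [11, 11, 8] .fail))), (1, (.step [5, 6, 6, 8, 7] .fail)), (1, (.step [4, 8, 10] .fail)), (1, .fail), (1, (.step [4, 6, 9, 10, 4] (.step [9, 11, 8, 13, 10] .fail))), (1, (.step [4, 8, 8, 4, 8] .fail)), (1, (.step [4, 4, 9, 4, 4] (.step [8, 12, 11, 8, 8] .fail))), (1, (.step [6, 8, 4, 4, 10] (.step [8, 12, 12] .fail))), (1, (.step [6, 5, 8, 8] .fail)), (2, .fail), (1, (.step [4, 7, 4, 6, 5] .fail)), (1, (.step [4, 9, 7, 11, 6] (.step [11, 8, 8, 11] .fail))), (2, .fail), (1, (.step [6, 4, 6, 9] .fail)), (1, (.step [4, 11, 4, 6, 10] (.step [9, 9, 10] .fail))), (1, (.step [4, 9, 11, 9] (.step [9, 13, 8, 11] .fail))), (1, (.step [5, 7, 11, 5, 5] (.step [9, 10, 12, 11, 8, 10] (.step [13, 14, 13] (.badAt 1))))), (1, (.step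 [4, 4, 9, 4, 4] .fail)), (1, .fail), (1, (.step [4, 10, 4, 11] .fail)), (1, .fail), (1, (.step [4, 9, 6, 9, 10] .fail)), (1, .fail), (1, (.step [5, 6, 9, 6, 8] .fail)), (1, (.step [4, 6, 11, 11] (.step [8, 8, 11, 8, 10] .fail))), (2, .fail), (1, (.step [7, 7, 10, 8] .fail)), (1, (.step [4, 11, 9, 5, 9] (.step [10, 13, 10, 8] .fail))), (1, (.step [7, 11, 8] .fail)), (5, .fail), (1, (.step [7, 4, 8, 6] .fail)), (1, (.step [4, 10, 9, 11, 6] .fail)), (1, (.step [4, 8, 10, 9] .fail)), (1, (.step [4, 4, 10, 8, 10, 5] .fail)), (1, (.step [4, 8, 10, 5, 10] .fail)), (1, .fail), (1, (.step [5, 5, 5, 8] (.step [8, 8, 10, 12, 9] .fail))), (1, (.step [7, 4, 10, 5] (.step [9, 12, 11, 11] .fail))), (1, (.step [7, 11, 9, 10] .fail)), (1, (.step [6, 10, 6] .fail)), (1, (.step [4, 6, 11, 8, 8] (.step [8, 10, 13, 10, 8] .fail))), (1, (.step [7, 11, 8, 8] .fail)), (2, .fail), (1, (.step [5, 6, 4, 10] (.step [10,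 8, 8, 10] .fail))), (1, (.step [5, 7, 11, 7, 8] .fail)), (1, .fail), (1, (.step [4, 9, 6, 6] (.step [9, 10, 13, 11] .fail))), (1, (.step [4, 7, 9, 6, 8] .fail)), (1, (.step [4, 6, 11, 9] .fail)), (1, (.step [7, 8, 5, 11] (.step [9, 11, 8, 11, 11] .fail))), (1, (.step [7, 7, 10] .fail)), (3, .fail), (1, (.step [4, 4, 7, 9, 6] .fail)), (1, .fail), (1, (.step [4, 6, 5, 8, 7] .fail)), (1, (.step [4, 8, 10, 4] .fail)), (1, (.step [6, 4, 4, 11] .fail)), (1, (.step [4, 6, 9, 9, 7] .fail)), (1, (.step [5, 9, 6, 6] .fail)), (1, (.step [5, 11, 11, 6] .fail)), (1, (.step [4, 9, 9, 11, 5] .fail)), (1, (.step [4, 4, 11, 4, 11] .fail)), (1, (.step [5, 5, 11, 8, 6] (.step [10, 8, 8, 8] .fail))), (1, (.step [4, 8, 5, 7, 5] .fail)), (1, (.step [6, 4, 11, 7] .fail)), (2, .fail), (1, (.step [4, 10, 9, 5, 8] .fail)), (1, .fail), (1, (.step [4, 9, 6, 9] .fail)), (1, (.step [5, 5, 8, 11] .fail)), (3, .fail), (1, (.step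 [5, 9, 4, 6, 5] .fail)), (4, .fail), (1, (.step [6, 8, 8, 7] .fail)), (1, (.step [4, 4, 6, 11, 7] .fail)), (1, (.step [4, 10, 7, 8] .fail)), (1, .fail), (1, (.step [4, 7, 10, 6] .fail)), (2, .fail), (1, (.step [4, 6, 5, 7, 10] .fail)), (2, .fail), (1, (.step [6, 8, 4, 4, 10] (.step [8, 12, 12] .fail))), (2, .fail), (1, (.step [6, 5, 9, 4] .fail)), (1, (.step [6, 6, 4, 7] .fail)), (1, .fail), (1, (.step [4, 9, 11, 4] .fail)), (1, (.step [5, 10, 5, 5, 7] .fail)), (1, (.step [7, 9, 5, 11] .fail)), (1, (.step [5, 7, 5, 7, 8] (.step [8, 10, 13, 11, 8, 11] .fail))), (1, (.step [7, 7, 4, 8] .fail)), (2, .fail), (1, (.step [4, 4, 6, 6, 9] .fail)), (1, (.step [4, 9, 4, 6, 4] (.step [9, 10, 13, 11, 11] (.step [12, 14] (.done [0, 0, 0, 0, 0, 0, 0, 0, 0, 0, 0, 0, 0, 0, 0, 0]))))), (1, (.step [4, 11, 11, 9] (.step [8, 13, 10, 10] .fail))), (1, .fail), (1, (.step [4, 8, 10] .fail)), (1, (.step [5, 7, 9, 7]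 .fail)), (1, (.step [5, 8, 5] (.step [11, 9, 9, 11] .fail))), (3, .fail), (1, (.step [7, 7, 4, 10] (.step [9, 9, 11, 12] .fail))), (1, .fail), (1, (.step [4, 9, 5, 10, 6] .fail)), (1, (.step [4, 4, 11, 6, 10] .fail)), (1, .fail), (1, (.step [5, 5, 8] .fail)), (1, (.step [4, 4, 7, 4, 4] .fail)), (1, (.step [4, 4, 8, 5, 8] (.step [10, 9, 11, 12] .fail))), (1, (.step [6, 4, 7, 4, 6] (.step [9, 11, 11, 8] .fail))), (1, (.step [4, 4, 9, 6, 8] (.step [10, 13] (.step [13, 14, 13] (.badAt 1))))), (1, (.step [6, 6, 4, 10] (.step [8, 8, 11, 9, 11] .fail))), (1, (.step [6, 8, 4] .fail)), (2, .fail), (1, (.step [5, 6, 8, 7, 9] (.step [11, 13, 9, 10, 10] .fail))), (1, .fail), (1, (.step [4, 4, 4, 7, 11] .fail)), (1, .fail), (1, (.step [5, 5, 6, 5, 6] .fail)), (1, (.step [4, 9, 7, 11, 6] (.step [11, 8, 8, 11] .fail))), (1, (.step [4, 8, 4, 9, 11] (.step [8, 11, 12, 11, 12] .fail))), (1, (.step [4, 9, 6, 9,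 10] .fail)), (1, .fail), (1, (.step [5, 5, 8, 5, 5] .fail)), (1, (.step [4, 8, 5, 8, 10] .fail)), (1, .fail), (1, (.step [4, 8, 8, 5, 6] .fail)), (1, .fail), (1, (.step [4, 6, 11, 7, 5] (.step [11, 13, 9, 10, 10] .fail))), (5, .fail), (1, (.step [7, 11, 4, 8] (.step [10, 9, 10, 12, 8] .fail))), (1, (.step [4, 4, 7, 10, 7] .fail)), (1, (.step [6, 6, 8, 11] (.step [8, 8, 11] .fail))), (1, .fail), (1, (.step [6, 9, 5, 6] .fail)), (3, .fail), (1, (.step [4, 4, 7, 4] .fail)), (1, .fail), (1, (.step [7, 11, 6, 9] (.step [9, 10, 13, 10] .fail))), (1, .fail), (1, (.step [6, 4, 9, 9] .fail)), (3, .fail), (1, (.step [6, 4, 4, 6] (.step [8, 8, 11, 8, 10, 9] (.step [12, 12, 15, 12] (.badAt 1))))), (1, (.step [4, 10, 4, 6, 4] (.step [8, 10, 12, 10, 12] .fail))), (1, .fail), (1, (.step [5, 5, 7, 10, 4] (.step [8, 8, 8, 11, 11, 8] .fail))), (1, .fail), (1, (.step [7, 8, 5, 7] .fail)), (1, .fail), (1, (.step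 [6, 11, 8, 5, 11] .fail)), (4, .fail), (1, (.step [4, 10, 8, 11, 4] .fail)), (1, (.step [5, 6, 10, 6, 4] .fail)), (1, (.step [4, 4, 7, 7, 9, 4] .fail)), (1, .fail), (1, (.step [4, 10, 7, 9, 10] .fail)), (1, (.step [5, 8, 7, 4] (.step [10, 9, 9] .fail))), (1, (.step [4, 4, 4, 9] .fail)), (1, .fail), (1, (.step [5, 8, 7, 4] (.step [10, 9, 9] .fail))), (1, .fail), (1, (.step [5, 7, 10, 10] (.step [9, 12, 11, 11] .fail))), (1, (.step [4, 6, 4, 10, 10] .fail)), (4, .fail), (1, (.step [4, 7, 11, 6, 11] .fail)), (3, .fail), (1, (.step [4, 7, 8, 4] .fail)), (1, .fail), (1, (.step [4, 11, 4, 6] .fail)), (2, .fail), (1, (.step [5, 8, 4, 7, 9] .fail)), (1, (.step [5, 5, 5, 10, 8] (.step [8, 8, 10, 12, 12] .fail))), (1, (.step [6, 10, 4, 6] (.step [8, 13, 9, 11, 8] .fail))), (1, (.step [4, 9, 6, 10, 4] .fail)), (1, (.step [4, 7, 10, 6, 9] .fail)), (1, .fail), (1, (.step [4, 7, 9, 11] .fail)), (3, .fail),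 (1, (.step [4, 10, 9, 4, 4] (.step [8, 8, 8, 12] .fail))), (1, (.step [4, 10, 4, 6, 4] (.step [8, 12, 11, 8] .fail))), (1, (.step [5, 5, 7, 10, 4] .fail)), (1, .fail), (1, (.step [4, 9, 7, 4, 10] .fail)), (1, (.step [7, 7, 8, 4, 8] .fail)), (2, .fail), (1, (.step [6, 4, 4, 10] (.step [9, 10, 10, 8, 10] .fail))), (1, (.step [7, 4, 7] .fail)), (6, .fail), (1, (.step [5, 8, 7, 4, 6] .fail)), (1, (.step [6, 5, 6, 9, 5] .fail)), (1, (.step [4, 10, 4, 10, 6] (.step [9, 9, 11, 13, 9] .fail))), (1, .fail), (1, (.step [4, 6, 10, 6, 4] (.step [8, 8, 11, 12] .fail))), (1, (.step [5, 11, 6, 5] .fail)), (1, (.step [7, 4, 7, 8] .fail)), (1, (.step [4, 9, 9, 5] (.step [11, 11, 13, 9] .fail))), (1, .fail), (1, (.step [4, 11, 4, 7, 7] .fail)), (1, (.step [5, 6, 10] .fail)), (6, .fail), (1, (.step [4, 11, 6, 4, 11] .fail)), (1, (.step [6, 10, 6, 4] (.step [8, 8, 8, 11] .fail))), (1, (.step [6, 11] .fail)), (1,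 .fail), (1, (.step [4, 6, 9, 10, 9] .fail)), (1, (.step [4, 8, 10, 9, 9] .fail)), (1, (.step [5, 9, 4, 7, 5] .fail)), (1, (.step [5, 8, 10, 5] .fail)), (1, (.step [4, 4, 9, 7] (.step [9, 13, 11, 13] .fail))), (1, (.step [6, 5, 7, 11] .fail)), (1, (.step [4, 10, 4, 6, 4] (.step [8, 12, 11, 8] .fail))), (1, (.step [4, 7, 4, 9, 5] .fail)), (2, .fail), (1, (.step [4, 4, 11, 4, 11] .fail)), (1, .fail), (1, (.step [5, 7, 7, 7, 8] .fail)), (1, (.step [6, 8, 4, 10] (.step [9, 13] .fail))), (1, .fail), (1, (.step [4, 11, 6, 5, 5] .fail)), (1, (.step [4, 9, 4, 11, 4] .fail)), (1, .fail), (1, (.step [4, 9, 4, 4, 10] .fail)), (2, .fail), (1, (.step [4, 7, 10, 10] (.step [8, 8, 10] .fail))), (1, (.step [4, 4, 7, 9, 6] .fail)), (3, .fail), (1, (.step [5, 9, 4, 4] .fail)), (1, (.step [4, 6, 8, 6, 11] .fail)), (1, (.step [7, 9, 6, 6, 5] .fail)), (2, .fail), (1, (.step [4, 10, 5, 5, 5] (.step [8, 12, 8] (.step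 [13, 15, 12] (.done [0, 0, 0, 0, 0, 0, 0, 0, 0, 0, 0, 0, 0, 0, 0, 0, 0]))))), (1, (.step [6, 8, 7, 10, 5] (.step [8, 12, 12, 8] .fail))), (1, .fail), (1, (.step [7, 11, 6] (.step [9, 9, 11, 13, 9] .fail))), (2, .fail), (1, (.step [5, 8, 7, 7] (.step [11, 11, 11, 9] .fail))), (1, (.step [4, 6, 9, 7] .fail)), (1, .fail), (1, (.step [4, 10] .fail)), (1, (.step [4, 4, 4, 10, 9] (.step [8, 8, 11, 9, 9] .fail))), (2, .fail), (1, (.step [4, 8, 8, 6, 9] (.step [9, 10, 10, 9, 9] .fail))), (1, (.step [4, 10, 10, 6] (.step [9, 10, 10, 13] .fail))), (1, (.step [4, 7, 9, 4] .fail)), (1, (.step [6, 8, 4, 8] (.step [11, 13, 9, 10, 10] .fail))), (1, (.step [5, 11, 5] .fail)), (1, .fail), (1, (.step [5, 5, 10, 6, 5] .fail)), (1, .fail), (1, (.step [5, 6, 5] (.step [10, 13, 8, 10] .fail))), (1, (.step [4, 11, 6, 8, 11] .fail)), (1, (.step [6, 8, 8, 5] (.step [9, 9, 11, 12, 8] .fail))), (1, (.step [4, 4, 11, 6]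 (.step [9, 9, 11] .fail))), (1, (.step [5, 8, 7, 5] (.step [10, 12, 10, 9] .fail))), (2, .fail), (1, (.step [4, 8, 4, 7, 7] (.step [8, 10, 12, 12, 11] (.step [12, 14, 13] (.badAt 1))))), (1, (.step [7, 11, 7] .fail)), (1, .fail), (1, (.step [4, 9, 7, 10, 5] .fail)), (1, (.step [5, 7, 9, 9] .fail)), (1, .fail), (1, (.step [4, 8, 7, 7, 4] .fail)), (2, .fail), (1, (.step [6, 4, 7, 8] .fail)), (1, (.step [6, 8, 6, 4] .fail)), (1, .fail), (1, (.step [] (.step [] (.step [] (.done [0, 0, 0, 0, 0, 0, 0, 0]))))), (1, (.step [5, 6, 9, 5, 6] (.step [10, 12, 12, 11] .fail))), (2, .fail), (1, (.step [6, 11, 9, 6] .fail)), (1, (.step [4, 8, 7, 11, 4] .fail)), (1, (.step [4, 4, 8, 6, 4, 8] .fail)), (1, .fail), (1, (.step [5, 8, 5, 11, 7] (.step [11, 12, 12, 10] .fail))), (1, (.step [5, 6, 5, 5] (.step [9, 11] .fail))), (1, (.step [6, 5, 7, 9, 7] .fail)), (1, .fail), (1, (.step [6, 4, 8] .fail)), (2, .fail),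 (1, (.step [4, 8, 5, 7, 5] .fail)), (1, (.step [4, 7, 4, 9, 5] .fail)), (1, (.step [4, 11, 4, 7, 5] .fail)), (1, (.step [4, 11, 9, 4] (.step [9, 11, 11, 9, 9] .fail))), (1, .fail), (1, (.step [4, 11, 5, 10, 10] .fail)), (1, (.step [4, 7, 7, 7, 5] .fail)), (1, (.step [4, 10, 8, 4] .fail)), (1, .fail), (1, (.step [6, 4, 9] .fail)), (1, .fail), (1, (.step [6, 4, 7, 10, 4] .fail)), (1, (.step [7, 4, 7, 4] .fail)), (2, .fail), (1, (.step [7, 9, 10, 5] .fail)), (1, .fail), (1, (.step [4, 7, 5, 6, 11] .fail)), (1, (.step [6, 5, 8, 4, 10] .fail)), (1, .fail), (1, (.step [5, 11, 9, 6, 9] .fail)), (1, (.step [6, 9, 6, 4] .fail)), (1, (.step [7, 7, 8, 5] .fail)), (1, .fail), (1, (.step [7, 5, 7, 9] .fail)), (1, (.step [7, 10, 4, 9, 4] .fail)), (1, (.step [5, 7, 11, 4, 9] .fail)), (1, .fail), (1, (.step [4, 4, 6, 6, 9] .fail)), (1, (.step [5, 9, 6, 6] .fail)), (1, (.step [5, 5, 6, 10] .fail)), (1, .fail),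 (1, (.step [4, 7, 4, 11] .fail)), (5, .fail), (1, (.step [6, 8, 8, 5] .fail)), (1, (.step [4, 11, 7, 5, 11] .fail)), (1, (.step [7, 4, 11, 7] .fail)), (1, (.step [4, 11, 7, 8, 10] .fail)), (1, .fail), (1, (.step [4, 4, 10, 9, 6] .fail)), (2, .fail), (1, (.step [6, 5, 6, 10] (.step [11, 11, 12, 9, 10] .fail))), (1, (.step [5, 9, 5, 10, 4] .fail)), (1, (.step [4, 6, 9, 6] .fail)), (1, (.step [6, 9, 9] .fail)), (1, .fail), (1, (.step [4, 4, 8, 6, 9] (.step [11, 8, 12, 12] .fail))), (1, (.step [4, 11, 4, 9, 6] .fail)), (4, .fail), (1, (.step [4, 8, 4, 9] .fail)), (1, (.step [6, 4, 8, 11, 9] .fail)), (1, .fail), (1, (.step [4, 4, 4, 9, 7] (.step [11, 12, 8, 10] .fail))), (1, (.step [4, 4, 6, 5, 7] .fail)), (1, .fail), (1, (.step [4, 8, 7, 8] .fail)), (1, .fail), (1, (.step [6, 8, 6, 6] .fail)), (2, .fail), (1, (.step [4, 4, 7, 7, 9, 4] .fail)), (4, .fail), (1, (.step [7, 8, 7, 9] .fail)), (1, (.step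 [4, 7, 8, 6] (.step [10, 12, 12] .fail))), (2, .fail), (1, (.step [7, 8, 4] .fail)), (1, (.step [7, 11, 11, 6] (.step [11, 9, 9, 13, 11] .fail))), (1, .fail), (1, (.step [6, 9, 6, 4] .fail)), (1, (.step [7, 9, 7, 10, 7] .fail)), (1, (.step [5, 9, 10, 7] (.step [10, 13, 10] (.step [12, 12, 14, 13, 14] (.badAt 1))))), (2, .fail), (1, (.step [6, 5, 6, 9] .fail)), (1, .fail), (1, (.step [4, 9, 9, 4] .fail)), (1, (.step [4, 8, 8, 8, 10] .fail)), (1, (.step [4, 6, 9, 10, 5] .fail)), (1, (.step [5, 6, 9, 6, 9] .fail)), (1, (.step [4, 4, 11, 11, 9] .fail)), (1, (.step [4, 7, 9, 4] .fail)), (2, .fail), (1, (.step [5, 8, 5, 5] .fail)), (2, .fail), (1, (.step [4, 10, 9, 11, 6] .fail)), (1, .fail), (1, (.step [5, 6, 9, 6, 9] .fail)), (1, .fail), (1, (.step [4, 7, 8, 5, 8] .fail)), (1, .fail), (1, (.step [4, 7, 11, 9] .fail)), (1, .fail), (1, (.step [5, 6, 10, 6, 10] (.step [8, 10, 13, 10, 9] .fail))), (5,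 .fail), (1, (.step [4, 10, 7, 7, 4] (.step [9, 12, 11, 9] .fail))), (1, .fail), (1, (.step [4, 11, 9, 10, 10] (.step [11, 9, 10, 8] .fail))), (1, (.step [4, 10, 10, 10, 7] .fail)), (1, (.step [7, 4, 4, 6] .fail)), (1, .fail), (1, (.step [4, 10, 6, 4, 8] .fail)), (1, (.step [4, 6, 11, 11] .fail)), (1, (.step [4, 6, 6, 5, 11] .fail)), (1, (.step [5, 8, 5, 9, 11] .fail)), (1, .fail), (1, (.step [4, 4, 6] .fail)), (1, (.step [6, 11, 8, 10] .fail)), (3, .fail), (1, (.step [6, 9, 6, 8, 11] .fail)), (1, (.step [5, 5, 6, 4, 6] .fail)), (1, (.step [4, 11, 4, 4] .fail)), (4, .fail), (1, (.step [4, 4, 6, 6, 8, 5] .fail)), (3, .fail), (2, (.step [5, 11, 7, 7] .fail)), (1, (.step [4, 4, 9, 7, 9] .fail)), (1, (.step [5, 9, 6, 9] (.step [9, 10, 12, 9, 11] .fail))), (3, .fail), (1, (.step [4, 9, 9, 5, 6] (.step [8, 10, 10, 10] .fail))), (1, (.step [4, 7, 5, 8] .fail)), (1, (.step [4, 11, 5, 10, 7] .fail)), (1,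 (.step [4, 4, 4, 8, 6] .fail)), (1, (.step [5, 7, 11, 6, 4] .fail)), (1, .fail), (1, (.step [5, 7, 11, 7, 10] (.step [9, 11, 9, 11] .fail))), (1, .fail), (1, (.step [4, 10, 10, 8] .fail)), (1, .fail), (1, (.step [4, 4, 11, 6, 10] .fail)), (1, (.step [4, 9, 11, 9, 6] .fail)), (1, .fail), (1, (.step [4, 4, 4, 9, 6] (.step [9, 10, 13, 10, 8] .fail))), (1, (.step [5, 9, 5, 11, 5] .fail)), (1, (.step [4, 11, 7, 11, 5] .fail)), (2, .fail), (1, (.step [7, 8, 7, 11] (.step [8, 12, 11, 8, 13] .fail))), (1, (.step [7, 11, 8] .fail)), (2, .fail), (1, (.step [4, 6, 8, 6] .fail)), (1, (.step [4, 8, 10, 10, 4] .fail)), (1, .fail), (1, (.step [4, 10, 5, 6, 4] .fail)), (1, (.step [7, 4, 7, 8, 6] (.step [10, 10] .fail))), (1, .fail), (1, (.step [5, 7, 4, 4, 7] .fail)), (1, (.step [7, 8, 10] .fail)), (1, (.step [5, 6, 8, 6, 10] (.step [8, 10, 10, 9] .fail))), (1, (.step [4, 8, 5, 9, 6] (.step [9, 10, 12, 10] .fail))),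 (2, .fail), (1, (.step [5, 6, 6, 8, 6] .fail)), (1, (.step [6, 4, 4, 4] .fail)), (1, (.step [4, 11, 6, 4, 9] .fail)), (2, (.step [4, 11, 5] .fail)), (1, (.step [7, 11, 7, 7] (.step [11, 13, 9, 13] .fail))), (1, (.step [6, 10, 6, 4, 7] .fail)), (1, (.step [7, 7, 7, 4] .fail)), (1, (.step [5, 7, 10, 5, 8] .fail)), (1, (.step [4, 8, 7, 4, 9] (.step [11, 9, 11, 11] .fail))), (1, .fail), (1, (.step [4, 6, 6, 10, 9] .fail)), (4, .fail), (1, (.step [4, 11, 11, 6, 10] .fail)), (1, .fail), (1, (.step [4, 6, 9, 6, 11] .fail)), (1, (.step [4, 7, 11] (.step [11, 8, 13] .fail))), (1, (.step [4, 11, 6, 8] .fail)), (1, (.step [5, 11, 11, 4] (.step [8, 12, 11, 13, 9] .fail))), (1, .fail), (1, (.step [6, 4, 7, 8, 11] .fail)), (1, (.step [4, 11, 6, 10] .fail)), (1, (.step [4, 6, 11, 8] .fail)), (1, (.step [4, 7, 7, 5, 11] .fail)), (1, (.step [4, 11, 9, 5, 9] (.step [10, 13, 10, 8] .fail))), (1, (.step [4, 6, 8]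 (.step [8, 11, 9, 10, 10] .fail))), (1, .fail), (1, (.step [5, 8, 6, 4] (.step [8, 11, 13] .fail))), (3, .fail), (1, (.step [5, 6, 4, 4] .fail)), (2, .fail), (1, (.step [5, 6, 6, 8, 7] .fail)), (1, (.step [6, 5, 7, 11] .fail)), (1, (.step [4, 4, 7, 4, 8] (.step [8, 11, 11, 9, 10] .fail))), (1, .fail), (1, (.step [6, 5, 6, 4] .fail)), (4, .fail), (1, (.step [5, 9, 4, 6, 5] .fail)), (3, .fail), (1, (.step [5, 9, 5, 11, 5] (.step [8, 8, 11, 8, 11, 11] .fail))), (1, (.step [4, 9, 5, 10, 10] .fail)), (1, (.step [5, 8, 11, 4] (.step [10, 9, 10] .fail))), (3, .fail), (1, (.step [4, 7, 5, 11, 5] .fail)), (1, (.step [7, 11, 5] .fail)), (1, .fail), (1, (.step [5, 6, 8, 6, 6] .fail)), (1, (.step [4, 9, 7, 4, 4] .fail)), (1, (.step [6, 11, 6, 5, 7] .fail)), (1, .fail), (1, (.step [4, 10, 4, 11] .fail)), (1, (.step [5, 6, 6] (.step [10, 13, 9, 12] .fail))), (2, .fail), (1, (.step [4, 4, 4, 8, 11] .fail)),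 (1, (.step [4, 4, 6, 6, 4] .fail)), (1, (.step [5, 5, 10, 4] (.step [10, 9, 9, 10] .fail))), (1, (.step [7, 5, 10, 9] .fail)), (1, (.step [6, 8, 6, 4] .fail)), (2, .fail), (1, (.step [6, 6, 6, 6, 5] .fail)), (1, .fail), (1, (.step [4, 9, 5, 11, 11] .fail)), (1, (.step [6, 10, 7, 10] .fail)), (1, (.step [4, 11, 5, 5, 8] .fail)), (1, (.step [4, 6, 11, 5, 10] .fail)), (1, .fail), (1, (.step [4, 4, 9, 10, 5] .fail)), (1, .fail), (1, (.step [6, 11, 9] .fail)), (1, .fail), (1, (.step [4, 4, 11, 6, 10] .fail)), (1, .fail), (1, (.step [5, 6, 6, 9, 6] .fail)), (1, .fail), (1, (.step [7, 11, 11, 6] .fail)), (1, .fail), (1, (.step [4, 6, 6, 6] (.step [9, 10, 9, 10, 10] .fail))), (3, .fail), (1, (.step [4, 11, 7, 4] .fail)), (1, (.step [4, 10, 5, 11, 8] .fail)), (2, .fail), (1, (.step [4, 7, 11, 8, 6] .fail)), (1, (.step [5, 8, 4, 9, 6] .fail)), (1, .fail), (1, (.step [4, 11, 4, 10] (.step [9, 11, 8, 12]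 .fail))), (1, (.step [6, 4, 4, 11] .fail)), (1, .fail), (1, (.step [4, 4, 6] .fail)), (4, .fail), (1, (.step [4, 9, 5, 5, 7] .fail)), (1, (.step [5, 7, 4, 4, 4] .fail)), (1, (.step [4, 10, 5, 11] .fail)), (1, (.step [4, 10, 7, 7] .fail)), (1, .fail), (1, (.step [5, 7, 11, 7, 10] (.step [9, 11, 9, 11] .fail))), (2, .fail), (1, (.step [4, 11, 7, 5, 11] .fail)), (1, (.step [] (.step [] (.step [] (.done [0, 0, 0, 0, 0, 0, 0, 0, 0]))))), (1, .fail), (1, (.step [4, 6, 11, 6] .fail)), (1, (.step [4, 9, 5, 10] (.step [9, 13, 11, 12, 10] .fail))), (1, .fail), (1, (.step [5, 8, 5, 7] .fail)), (1, (.step [4, 11, 7, 5, 5] .fail)), (1, (.step [4, 11, 7, 11, 5] .fail)), (1, (.step [4, 8, 11, 8, 7] .fail)), (1, (.step [5, 10, 5, 8, 4] .fail)), (1, (.step [6, 5, 11, 7, 5] .fail)), (1, .fail), (1, (.step [7, 8, 10, 4, 8] (.step [10, 9, 10, 12] .fail))), (2, .fail), (1, (.step [4, 9, 4, 11, 6] .fail)), (1, (.step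 [7, 9, 7, 9] .fail)), (1, (.step [4, 6, 10, 4, 9] .fail)), (1, .fail), (1, (.step [5, 9, 10, 7] (.step [10, 13, 10] (.step [12, 12, 14, 13, 14] (.badAt 1))))), (3, .fail), (1, (.step [4, 7, 7, 4, 4] .fail)), (1, .fail), (1, (.step [5, 5, 7, 4] (.step [9, 9, 11, 13] .fail))), (1, (.step [4, 6, 10, 6, 4] .fail)), (1, (.step [7, 7, 7, 8] .fail)), (1, (.step [4, 11, 9, 10, 10] (.step [11, 9, 10, 8] .fail))), (6, .fail), (1, (.step [4, 7, 10, 8, 4] .fail)), (1, .fail), (1, (.step [4, 4, 9, 7, 5] .fail)), (1, (.step [7, 10, 6, 10] (.step [11, 13, 11, 11] .fail))), (4, .fail), (1, (.step [4, 8, 8, 5] .fail)), (1, .fail), (1, (.step [7, 9, 6, 6, 5] .fail)), (1, (.step [4, 7, 11, 11, 9] .fail)), (2, .fail), (1, (.step [5, 6] .fail)), (1, (.step [7, 9, 10, 8] .fail)), (1, (.step [6, 4, 11, 7] .fail)), (1, (.step [4, 9, 11, 9, 6] .fail)), (1, .fail), (1, (.step [4, 9, 9, 4, 8] (.step [10, 12, 8, 12] .fail))),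 (2, .fail), (1, (.step [6, 8, 6, 6] .fail)), (3, .fail), (1, (.step [5, 9, 9] .fail)), (1, .fail), (1, (.step [4, 6, 10, 4] .fail)), (1, (.step [4, 10, 10, 7] .fail)), (1, .fail), (1, (.step [4, 7, 5, 11] .fail)), (1, (.step [5, 5, 9, 11] .fail)), (1, (.step [4, 9, 9, 7] .fail)), (1, (.step [4, 6, 4, 10, 10] .fail)), (1, (.step [4, 4, 11, 11, 9] .fail)), (1, .fail), (1, (.step [6, 5, 6, 10] (.step [8, 8, 10, 8, 13] .fail))), (1, .fail), (1, (.step [6, 5, 6, 10] (.step [11, 11, 12, 9, 10] .fail))), (1, .fail), (1, (.step [4, 9, 11, 4] .fail)), (2, .fail), (1, (.step [4, 10, 9, 11, 6] .fail)), (2, .fail), (1, (.step [6, 5, 7, 9, 7] .fail)), (1, .fail), (1, (.step [4, 8, 10] .fail)), (2, .fail), (1, (.step [7, 9, 10, 5] .fail)), (1, .fail), (1, (.step [4, 9, 11, 9, 6] .fail)), (1, (.step [4, 11, 9, 5, 9] .fail)), (1, (.step [7, 5, 7, 9] .fail)), (1, (.step [4, 4, 4, 8, 6] .fail)), (1, .fail), (1,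 (.step [5, 6, 8, 10] .fail)), (1, (.step [4, 8, 6, 9] (.step [8, 12, 10, 13] .fail))), (1, (.step [4, 10, 5, 6, 6] .fail)), (1, (.step [4, 4, 4, 9] .fail)), (1, (.step [5, 11, 6, 5] .fail)), (1, .fail), (1, (.step [4, 11, 7, 5] .fail)), (1, (.step [6, 5, 9, 4] .fail)), (1, (.step [4, 6, 5, 7] (.step [8, 10, 12, 12, 11] .fail))), (1, (.step [4, 4, 4, 9] .fail)), (4, .fail), (1, (.step [5, 6, 9, 6, 9] .fail)), (1, .fail), (1, (.step [7, 10, 5] .fail)), (1, .fail), (1, (.step [4, 4, 6, 6, 8, 5] .fail)), (1, (.step [5, 6, 4, 4] .fail)), (1, (.step [4, 4, 6, 6, 4] .fail))])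

/-- the pieces of a certificate -/
noncomputable def pcsCp : List (List (List ℕ) × Cert) := [(UA_0, cCp_0), (UA_1, cCp_1)]

/-- a piece of a certificate -/
noncomputable def cT2_0 : Cert := (Cert.rl [(2, (.step [5, 8, 10, 5, 6] .fail)), (1, (.step [6, 9, 5, 8, 6] .fail)), (1, (.step [5, 8, 10, 5, 6] .fail)), (1, (.step [4, 4, 8, 5, 5] .fail)), (1, (.step [5, 8, 10, 5, 6] .fail)), (1, (.step [5, 9, 7, 11, 8] .fail)), (1, .fail), (1, (.step [6, 9, 5, 8, 6] .fail)), (1, (.step [4, 7, 5, 8, 4] .fail)), (1, (.step [6, 9, 5, 8, 6] .fail)), (1, .fail), (1, (.step [5, 8, 10, 5, 6] .fail)), (1, (.step [5, 8, 10, 4, 8] .fail)), (2, (.step [4, 4, 8, 5, 5] .fail)), (1, (.step [4, 9, 10, 9, 9] .fail)), (1, (.step [5, 8, 10, 5, 6] .fail)), (1, (.step [6, 8, 11, 7] .fail)), (1, (.step [5, 9, 6, 11, 8] (.step [11, 11, 8] .fail))), (1, (.step [5, 9, 7, 11, 8] .fail)), (1, (.step [6, 6, 9, 5] .fail)), (1, (.step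 [5, 9, 7, 11, 8] .fail)), (2, .fail), (1, (.step [4, 6, 11, 9, 6] .fail)), (1, (.step [6, 9, 5, 8, 6] .fail)), (1, (.step [4, 7, 10, 10, 10] .fail)), (1, .fail), (1, (.step [4, 7, 5, 8, 4] .fail)), (1, .fail), (1, (.step [4, 7, 5, 8, 4] .fail)), (1, (.step [4, 4, 7, 8, 10, 7] .fail)), (1, (.step [6, 9, 5, 8, 6] .fail)), (1, (.step [6, 11, 6, 5] .fail)), (3, .fail), (1, (.step [5, 8, 5, 9, 11] .fail)), (1, (.step [5, 8, 10, 5, 6] .fail)), (1, .fail), (2, (.step [5, 8, 10, 4, 8] .fail)), (1, .fail), (1, (.step [4, 4, 8, 5, 5] .fail)), (1, (.step [6, 5, 7, 9, 7] (.step [9, 13, 11, 8, 10] .fail))), (1, (.step [4, 7, 11, 5, 6] (.step [11, 8, 12, 12] .fail))), (1, (.step [7, 9, 7, 10] .fail)), (1, (.step [4, 4, 8, 5, 5] .fail)), (1, .fail), (2, (.step [4, 9, 10, 9, 9] .fail)), (1, (.step [4, 10, 6] (.step [11, 9] .fail))), (1, (.step [5, 8, 10, 5, 6] .fail)), (1, .fail), (1, (.step [4, 10, 7, 7, 8]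 .fail)), (1, (.step [6, 8, 11, 7] .fail)), (1, (.step [5, 7, 7, 4, 9] .fail)), (1, (.step [6, 8, 11, 7] .fail)), (2, (.step [5, 9, 6, 11, 8] (.step [11, 11, 8] .fail))), (1, .fail), (1, (.step [5, 9, 7, 11, 8] .fail)), (2, .fail), (1, (.step [6, 6, 9, 5] .fail)), (1, (.step [4, 10, 5] .fail)), (1, (.step [6, 6, 9, 5] .fail)), (1, .fail), (1, (.step [5, 9, 7, 11, 8] .fail)), (1, (.step [6, 8, 7] .fail)), (3, .fail), (1, (.step [6, 4, 11, 6] .fail)), (2, .fail), (2, (.step [4, 6, 11, 9, 6] .fail)), (1, (.step [5, 8, 4, 9, 6] .fail)), (1, (.step [6, 9, 5, 8, 6] .fail)), (1, (.step [7, 5, 11] (.step [8, 8, 11, 12, 8] .fail))), (1, (.step [6, 10, 6, 5] (.step [8, 13, 10, 8] .fail))), (1, (.step [4, 7, 10, 10, 10] .fail)), (1, (.step [5, 6, 8, 7] .fail)), (1, (.step [4, 7, 10, 10, 10] .fail)), (2, .fail), (1, (.step [5, 7, 5, 9, 7] .fail)), (1, (.step [4, 7, 5, 8, 4] .fail)), (1, .fail), (1, (.step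 [4, 8, 11, 8, 5] .fail)), (4, .fail), (1, (.step [4, 7, 5, 8, 4] .fail)), (1, (.step [5, 11, 8, 7] .fail)), (1, (.step [4, 4, 7, 8, 10, 7] .fail)), (1, .fail), (1, (.step [4, 4, 7, 8, 10, 7] .fail)), (1, .fail), (1, (.step [6, 9, 5, 8, 6] .fail)), (1, .fail), (2, (.step [6, 11, 6, 5] .fail)), (1, (.step [5, 7, 4, 4, 7] .fail)), (6, .fail), (1, (.step [4, 7, 11, 11, 5] .fail)), (2, .fail), (1, (.step [5, 8, 5, 9, 11] .fail)), (1, .fail), (1, (.step [5, 8, 5, 9, 11] .fail)), (1, .fail), (1, (.step [5, 8, 10, 5, 6] .fail)), (1, (.step [4, 8, 5, 7, 5] (.step [9, 10, 8, 11, 8] .fail))), (2, .fail), (1, (.step [6, 4, 11, 6] .fail)), (1, (.step [5, 8, 10, 4, 8] .fail)), (1, (.step [6, 11, 8, 5, 11] .fail)), (2, .fail), (1, (.step [5, 8, 10, 4, 8] .fail)), (1, (.step [6, 11, 11] .fail)), (2, .fail), (1, (.step [4, 7, 8, 11] (.step [11, 12, 8] .fail))), (1, (.step [4, 4, 8, 5, 5] .fail)), (1, (.step [4,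 9, 11, 7] .fail)), (1, (.step [5, 10, 10, 8] (.step [8, 10, 10, 13, 8] .fail))), (1, (.step [6, 5, 7, 9, 7] (.step [9, 13, 11, 8, 10] .fail))), (1, (.step [4, 7, 5, 8] (.step [10, 13, 8] (.step [12, 12, 15] (.badAt 1))))), (1, (.step [6, 5, 7, 9, 7] (.step [9, 13, 11, 8, 10] .fail))), (2, (.step [4, 7, 11, 5, 6] (.step [11, 8, 12, 12] .fail))), (1, (.step [4, 9, 10, 10, 5] .fail)), (1, (.step [7, 9, 7, 10] .fail)), (1, (.step [4, 7, 5, 8, 11] (.step [10, 8, 8, 10] .fail))), (1, (.step [7, 9, 7, 10] .fail)), (1, (.step [7, 7, 4, 11] .fail)), (1, (.step [4, 4, 8, 5, 5] .fail)), (1, (.step [7, 9, 7, 8] .fail)), (3, .fail), (1, (.step [4, 9, 10, 9, 9] .fail)), (2, .fail), (1, (.step [5, 9, 7, 10] .fail)), (1, (.step [4, 9, 10, 9, 9] .fail)), (1, .fail), (2, (.step [4, 10, 6] (.step [11, 9] .fail))), (1, (.step [6, 11, 9, 7, 4] .fail)), (1, (.step [5, 8, 10, 5, 6] .fail)), (5, .fail), (2, (.step [4,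 10, 7, 7, 8] .fail)), (1, (.step [5, 10, 8, 11, 6] .fail)), (1, (.step [6, 8, 11, 7] .fail)), (1, (.step [4, 9, 6, 10, 6] .fail)), (1, .fail), (1, (.step [5, 7, 7, 4, 9] .fail)), (1, .fail), (1, (.step [5, 7, 7, 4, 9] .fail)), (1, (.step [7, 7, 10, 10] (.step [11, 12] .fail))), (1, (.step [6, 8, 11, 7] .fail)), (1, .fail), (1, (.step [5, 9, 6, 11, 8] (.step [11, 11, 8] .fail))), (2, .fail), (1, (.step [7, 7, 4, 8] .fail)), (1, (.step [5, 9, 6, 11, 8] (.step [11, 11, 8] .fail))), (4, .fail), (1, (.step [5, 9, 7, 11, 8] .fail)), (1, .fail), (1, (.step [5, 11, 9, 5, 6] (.step [10, 13, 9, 10] .fail))), (5, .fail), (1, (.step [4, 6, 6, 11, 9] .fail)), (1, (.step [6, 6, 9, 5] .fail)), (1, (.step [4, 7, 10, 7, 8] .fail)), (1, (.step [6, 4, 8, 6, 6] .fail)), (1, (.step [4, 10, 5] .fail)), (1, .fail), (1, (.step [4, 10, 5] .fail)), (1, (.step [4, 10, 10, 8, 8] .fail)), (1, (.step [6, 6, 9, 5] .fail)),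 (5, .fail), (1, (.step [5, 9, 7, 11, 8] .fail)), (1, .fail), (2, (.step [6, 8, 7] .fail)), (1, (.step [5, 6, 6, 5] .fail)), (2, .fail), (1, (.step [4, 4, 6, 10, 5] .fail)), (5, .fail), (1, (.step [7, 10, 5, 5] .fail)), (1, (.step [6, 4, 11, 6] .fail)), (1, .fail), (1, (.step [6, 4, 11, 6] .fail)), (5, .fail), (1, (.step [4, 6, 11, 9, 6] .fail)), (4, .fail), (2, (.step [5, 8, 4, 9, 6] .fail)), (1, (.step [4, 6, 11, 7, 9] (.step [8, 11, 11] .fail))), (1, (.step [6, 9, 5, 8, 6] .fail)), (1, .fail), (1, (.step [7, 5, 11] (.step [8, 8, 11, 12, 8] .fail))), (1, (.step [4, 9, 11, 7] .fail)), (1, (.step [7, 5, 11] (.step [8, 8, 11, 12, 8] .fail))), (2, (.step [6, 10, 6, 5] (.step [8, 13, 10, 8] .fail))), (1, (.step [4, 6, 10, 6, 5] .fail)), (1, (.step [4, 7, 10, 10, 10] .fail)), (1, (.step [4, 7, 7, 7, 5] (.step [11, 9, 11] .fail))), (1, .fail), (1, (.step [5, 6, 8, 7] .fail)), (1, (.step [5, 7, 10, 10,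 8] .fail)), (1, (.step [5, 6, 8, 7] .fail)), (1, (.step [6] (.step [11, 12, 8, 10] .fail))), (1, (.step [4, 7, 10, 10, 10] .fail)), (3, .fail), (1, (.step [6, 10, 6, 4] .fail)), (3, .fail), (1, (.step [4, 8, 8, 6] .fail)), (1, (.step [5, 7, 5, 9, 7] .fail)), (1, .fail), (1, (.step [4, 7, 5, 8, 4] .fail)), (1, (.step [7, 10, 7, 10] .fail)), (1, (.step [5, 6, 8, 7, 11] (.step [9, 13, 11, 8] .fail))), (3, .fail), (2, (.step [4, 8, 11, 8, 5] .fail)), (1, .fail), (1, (.step [5, 8, 11, 4] (.step [9, 12, 8, 10] .fail))), (3, .fail), (1, (.step [4, 8, 7, 4] .fail)), (1, .fail), (1, (.step [4, 4, 11, 6, 10] .fail)), (1, .fail), (1, (.step [6, 9, 9, 7] .fail)), (1, (.step [5, 9, 10] (.step [8, 10, 13, 11, 8, 11] .fail))), (1, (.step [4, 7, 5, 8, 4] .fail)), (1, .fail), (2, (.step [5, 11, 8, 7] .fail)), (1, .fail), (1, (.step [4, 4, 7, 8, 10, 7] .fail)), (1, (.step [4, 4, 8, 6, 5] .fail)), (1, .fail), (1,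 (.step [4, 10, 5, 6, 5] .fail)), (1, .fail), (1, (.step [5, 6, 8, 4] (.step [10, 13, 10] .fail))), (1, (.step [4, 4, 7, 8, 10, 7] .fail)), (1, (.step [4, 4, 8, 11, 6] (.step [8, 12, 10, 9] .fail))), (3, .fail), (1, (.step [5, 5, 9] .fail)), (1, (.step [6, 11, 9, 7, 4] .fail)), (3, .fail), (1, (.step [4, 8, 6, 8, 8] .fail)), (1, (.step [6, 11, 6, 5] .fail)), (1, (.step [4, 11, 4, 9, 10] .fail)), (1, (.step [7, 8, 11, 8] (.step [8, 12, 11, 8] .fail))), (1, .fail), (1, (.step [6, 11, 6, 5] .fail)), (1, (.step [4, 6, 6, 5, 11] (.step [8, 10, 10, 8, 10] .fail))), (2, (.step [5, 7, 4, 4, 7] .fail)), (2, .fail), (1, (.step [5, 6, 5, 7, 10] (.step [8, 13, 10, 10, 10, 12] .fail))), (1, (.step [6, 4, 4, 10] .fail)), (5, .fail), (1, (.step [6, 9, 5, 7] (.step [11, 9, 9] .fail))), (1, .fail), (1, (.step [6, 8, 8] (.step [11, 12, 8] .fail))), (2, .fail), (1, (.step [4, 8, 4, 9] (.step [8, 13] .fail))), (4,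 .fail), (1, (.step [4, 7, 11, 11, 5] .fail)), (1, .fail), (1, (.step [4, 7, 11, 11, 5] .fail)), (1, (.step [4, 11, 9, 9, 6] .fail)), (1, .fail), (1, (.step [5, 9, 7, 11, 5] .fail)), (2, .fail), (1, (.step [4, 4, 10, 9] .fail)), (1, (.step [5, 8, 5, 9, 11] .fail)), (3, .fail), (1, (.step [4, 4, 10, 10, 7] (.step [8, 8, 10, 9] .fail))), (2, .fail), (1, (.step [5, 8, 5, 9, 11] .fail)), (1, (.step [7, 9, 6, 10] (.step [9, 11, 11, 8] .fail))), (4, .fail), (1, (.step [5, 8, 10, 5, 6] .fail)), (1, (.step [6, 9, 7, 4] .fail)), (2, (.step [4, 8, 5, 7, 5] (.step [9, 10, 8, 11, 8] .fail))), (1, (.step [5, 9, 11, 4, 8] .fail)), (1, .fail), (1, (.step [4, 4, 9, 6] (.step [8, 13, 11] .fail))), (1, (.step [4, 7, 5, 8, 5] (.step [10, 9, 9, 13] .fail))), (1, (.step [7, 4, 4] (.step [8, 11, 12, 9] .fail))), (1, .fail), (1, (.step [4, 10, 8, 7, 4] .fail)), (2, (.step [6, 4, 11, 6] .fail)), (1, .fail), (1, (.step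 [5, 8, 10, 4, 8] .fail)), (1, (.step [4, 10, 10, 8, 8] .fail)), (1, (.step [7, 4, 7, 11] (.step [8, 10, 10, 10, 8] .fail))), (1, (.step [6, 11, 8, 5, 11] .fail)), (1, (.step [7, 9, 4, 7] (.step [11, 11, 9, 13] .fail))), (1, (.step [6, 11, 8, 5, 11] .fail)), (5, .fail), (1, (.step [4, 6, 9, 9, 7] (.step [8, 12, 10, 9] .fail))), (1, (.step [5, 8, 10, 4, 8] .fail)), (1, (.step [5, 5, 9, 4, 10] .fail)), (2, (.step [6, 11, 11] .fail)), (3, .fail), (1, (.step [6, 5, 11, 8, 10] .fail)), (3, .fail), (1, (.step [4, 7, 8, 11] (.step [11, 12, 8] .fail))), (1, (.step [7, 10, 8, 5] (.step [8, 11, 11, 12] .fail))), (1, (.step [4, 4, 8, 5, 5] .fail)), (1, (.step [4, 9, 7, 8, 7] (.step [10, 10, 10, 13, 11] (.step [12, 12, 15] (.badAt 1))))), (1, (.step [6, 6, 4, 7, 10] (.step [10, 8, 8, 11, 11] .fail))), (1, (.step [4, 9, 11, 7] .fail)), (1, .fail), (2, (.step [5, 10, 10, 8] (.step [8, 10, 10, 13, 8] .fail))),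 (1, (.step [5, 7, 4, 8] .fail)), (1, (.step [4, 4, 9, 4, 8] (.step [8, 10, 9, 10, 10, 12] .fail))), (1, (.step [4, 7, 7, 8] .fail)), (1, (.step [4, 7, 5, 8] (.step [10, 13, 8] (.step [12, 12, 15] (.badAt 1))))), (1, .fail), (1, (.step [4, 7, 5, 8] (.step [10, 13, 8] (.step [12, 12, 15] (.badAt 1))))), (1, (.step [6, 5, 7, 9, 7] (.step [9, 13, 11, 8, 10] .fail))), (1, (.step [6, 9, 7, 4] .fail)), (1, (.step [4, 7, 11, 5, 6] (.step [11, 8, 12, 12] .fail))), (1, .fail), (1, (.step [5, 6, 9, 4] (.step [9, 11, 8, 10, 10, 8] .fail))), (1, .fail), (1, (.step [4, 7, 11, 5, 6] (.step [11, 8, 12, 12] .fail))), (1, .fail), (2, (.step [4, 9, 10, 10, 5] .fail)), (1, .fail), (1, (.step [7, 9, 7, 10] .fail)), (2, .fail), (1, (.step [4, 7, 5, 8, 11] (.step [10, 8, 8, 10] .fail))), (1, (.step [4, 8, 6, 9, 7] .fail)), (1, (.step [4, 7, 5, 8, 11] (.step [10, 8, 8, 10] .fail))), (1, .fail), (1, (.step [7, 9, 7, 10]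 .fail)), (1, .fail), (1, (.step [7, 7, 4, 11] .fail)), (1, (.step [6, 5, 9] (.step [8, 11, 11] .fail))), (1, (.step [7, 7, 4, 11] .fail)), (1, (.step [4, 4, 8, 5, 5] .fail)), (1, .fail), (2, (.step [7, 9, 7, 8] .fail)), (1, (.step [5, 9, 10, 7, 5] .fail)), (4, .fail), (1, (.step [4, 10, 7, 7] .fail)), (1, .fail), (1, (.step [7, 11, 11, 11] .fail)), (1, (.step [4, 9, 10, 9, 9] .fail)), (1, (.step [4, 7, 10, 10, 4] .fail)), (5, .fail), (1, (.step [5, 8, 10, 4, 7] .fail)), (1, (.step [5, 9, 7, 10] .fail)), (1, .fail), (1, (.step [5, 9, 7, 10] .fail)), (1, (.step [4, 9, 10, 9, 9] .fail)), (3, .fail), (1, (.step [7, 10, 7, 5] .fail)), (1, (.step [4, 10, 6] (.step [11, 9] .fail))), (1, .fail), (1, (.step [5, 6, 4, 10, 10] .fail)), (1, .fail), (1, (.step [4, 10, 6] (.step [11, 9] .fail))), (1, (.step [4, 11, 4, 9, 6] .fail)), (1, (.step [6, 11, 9, 7, 4] .fail)), (1, (.step [4, 8, 7, 8, 6] .fail)), (1,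 (.step [5, 8, 10, 5, 6] .fail)), (1, .fail), (1, (.step [4, 6, 9, 5, 6] .fail)), (3, .fail), (1, (.step [6, 5, 7, 5] .fail)), (2, .fail), (1, (.step [4, 4, 9, 4, 8] .fail)), (1, .fail), (1, (.step [5, 9, 4, 7] .fail)), (3, .fail), (1, (.step [4, 10, 7, 7] .fail)), (1, (.step [5, 6, 10, 10] .fail)), (1, .fail), (1, (.step [7, 11, 11] .fail)), (1, (.step [4, 10, 7, 7, 8] .fail)), (1, .fail), (2, (.step [5, 10, 8, 11, 6] .fail)), (1, (.step [6, 4, 10, 9] .fail)), (1, (.step [6, 8, 11, 7] .fail)), (1, (.step [6, 4, 7, 4, 6] .fail)), (1, .fail), (1, (.step [4, 9, 6, 10, 6] .fail)), (1, (.step [4, 6, 6, 4] .fail)), (1, (.step [4, 9, 6, 10, 6] .fail)), (2, .fail), (1, (.step [4, 9, 5, 10, 5] .fail)), (1, (.step [5, 7, 7, 4, 9] .fail)), (1, (.step [5, 9, 5, 11] .fail)), (1, (.step [4, 7, 7, 7] .fail)), (1, .fail), (1, (.step [4, 11, 7, 4, 4] .fail)), (1, .fail), (1, (.step [4, 4, 11, 8] .fail)), (1, .fail),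 (1, (.step [7, 7, 10, 10] (.step [11, 12] .fail))), (1, .fail), (1, (.step [7, 7, 10, 10] (.step [11, 12] .fail))), (1, .fail), (1, (.step [6, 8, 11, 7] .fail)), (1, (.step [5, 11, 7, 9, 6] (.step [9, 10, 13, 10, 8] .fail))), (2, .fail), (1, (.step [6, 8, 6] (.step [8, 11, 9, 11] .fail))), (1, (.step [5, 9, 6, 11, 8] (.step [11, 11, 8] .fail))), (1, .fail), (1, (.step [4, 4, 7, 11] (.step [8, 10, 12, 12, 11] .fail))), (1, .fail), (1, (.step [5, 11, 5, 8] .fail)), (2, .fail), (1, (.step [4, 4, 6, 6, 10] .fail)), (1, (.step [7, 7, 4, 8] .fail)), (1, (.step [4, 11, 4, 4] .fail)), (1, (.step [4, 10, 10, 8, 8] .fail)), (1, (.step [6, 6] .fail)), (1, (.step [5, 9, 6, 11, 8] (.step [11, 11, 8] .fail))), (1, (.step [5, 9, 7, 11] (.step [8, 8, 13] .fail))), (4, .fail), (1, (.step [7, 7, 7, 8] .fail)), (1, .fail), (1, (.step [4, 6, 8, 11, 11] .fail)), (3, .fail), (1, (.step [5, 9, 7, 11, 8] .fail)), (1,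 (.step [4, 6, 6, 5, 10] .fail)), (2, .fail), (1, (.step [4, 6, 6, 6, 4] .fail)), (1, .fail), (2, (.step [5, 11, 9, 5, 6] (.step [10, 13, 9, 10] .fail))), (1, (.step [4, 6, 8, 11] .fail)), (1, .fail), (1, (.step [4, 4, 11, 11, 9] .fail)), (1, (.step [6, 8, 4] .fail)), (1, .fail), (1, (.step [6, 9, 10, 7] .fail)), (4, .fail), (1, (.step [7, 11, 4, 7] .fail)), (1, (.step [5, 6, 4, 10, 4] (.step [9, 11, 8] .fail))), (1, (.step [4, 10, 4, 10, 5] .fail)), (1, .fail), (1, (.step [4, 9, 7, 7, 11] .fail)), (2, (.step [4, 6, 6, 11, 9] .fail)), (1, (.step [5, 7, 11, 5] .fail)), (2, .fail), (1, (.step [7, 7, 7, 9] .fail)), (1, (.step [7, 11, 8, 5] .fail)), (1, (.step [4, 7, 10, 7, 8] .fail)), (2, (.step [6, 4, 8, 6, 6] .fail)), (1, .fail), (1, (.step [4, 10, 5] .fail)), (1, (.step [5, 8] (.step [9, 12] .fail))), (3, .fail), (1, (.step [5, 5, 5, 8] (.step [10, 13, 8, 10, 10] .fail))), (1, (.step [4, 10, 5]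 .fail)), (2, (.step [4, 10, 10, 8, 8] .fail)), (1, (.step [6, 11, 8, 5, 11] .fail)), (1, (.step [6, 6, 9, 5] .fail)), (3, .fail), (1, (.step [4, 8, 10, 5, 10] .fail)), (1, (.step [6, 4, 4, 6, 9] .fail)), (1, (.step [4, 4, 7, 8, 8] (.step [11] .fail))), (3, .fail), (1, (.step [4, 7, 11, 6, 6] .fail)), (3, .fail), (1, (.step [4, 8, 4, 6, 6] .fail)), (3, .fail), (1, (.step [7, 7, 5, 10, 9] (.step [11, 8, 10, 13, 10] .fail))), (1, (.step [6, 8, 7] .fail)), (1, (.step [4, 8] (.step [8, 11, 12, 9, 9] .fail))), (1, (.step [4, 6, 11, 9, 4] (.step [8, 11, 8, 11, 11, 12] .fail))), (1, .fail), (1, (.step [4, 11, 7, 8, 7] .fail)), (1, (.step [4, 4, 10, 4, 4, 4] .fail)), (2, (.step [5, 6, 6, 5] .fail)), (6, .fail), (2, (.step [4, 4, 6, 10, 5] .fail)), (2, .fail), (1, (.step [4, 4, 7, 9, 7] .fail)), (1, .fail), (1, (.step [4, 8, 7, 11] .fail)), (2, .fail), (1, (.step [7, 11, 11, 9] (.step [8, 8, 8, 11, 11]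 .fail))), (2, .fail), (1, (.step [4, 10, 7, 8, 11] .fail)), (2, (.step [7, 10, 5, 5] .fail)), (1, (.step [5, 9, 5, 8] .fail)), (1, (.step [6, 4, 11, 6] .fail)), (1, .fail), (1, (.step [5, 8, 10, 10, 7] .fail)), (1, .fail), (1, (.step [4, 6, 11, 8, 11] .fail)), (1, .fail), (1, (.step [5, 7, 5, 5, 6] .fail)), (1, (.step [6, 4, 11, 6] .fail)), (1, (.step [5, 10, 4, 9, 9] .fail)), (1, .fail), (1, (.step [5, 10, 7, 4, 11] .fail)), (5, .fail), (1, (.step [5, 9, 7, 11, 5] .fail)), (1, .fail), (1, (.step [5, 6, 4, 8, 11] .fail)), (1, .fail), (1, (.step [5, 5, 8, 5, 5] .fail)), (1, (.step [4, 7, 8, 7, 7] .fail)), (1, .fail), (1, (.step [6, 5, 5] .fail)), (5, .fail), (1, (.step [4, 11, 4, 11] .fail)), (1, .fail), (1, (.step [4, 4, 4, 8, 5] .fail)), (3, .fail), (1, (.step [7, 9, 10] .fail)), (1, (.step [5, 8, 4, 9, 6] .fail)), (1, (.step [5, 8, 7, 10] .fail)), (1, .fail), (1, (.step [4, 9, 4, 10] .fail)),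 (1, (.step [5, 8, 4, 9, 6] .fail)), (1, (.step [4, 6, 11, 7, 9] (.step [8, 11, 11] .fail))), (1, (.step [4, 6, 6, 5, 11] .fail)), (1, (.step [6, 9, 5, 8, 6] .fail)), (1, (.step [5, 6, 8, 7, 5] (.step [8, 13, 11, 12] .fail))), (2, .fail), (1, (.step [5, 5, 6, 6] (.step [10, 9, 10, 12, 8] .fail))), (1, .fail), (1, (.step [7, 5, 11] (.step [8, 8, 11, 12, 8] .fail))), (1, (.step [5, 6, 6, 9, 11] .fail)), (2, .fail), (1, (.step [4, 9, 11, 7] .fail)), (1, .fail), (1, (.step [7, 5, 11] (.step [8, 8, 11, 12, 8] .fail))), (1, (.step [6, 4, 11, 6] .fail)), (1, .fail), (1, (.step [5, 5, 7, 5] (.step [8, 13, 10, 10, 10, 12] .fail))), (1, .fail), (1, (.step [6, 10, 6, 5] (.step [8, 13, 10, 8] .fail))), (1, (.step [6, 10] .fail)), (2, (.step [4, 6, 10, 6, 5] .fail)), (1, (.step [6, 11, 6, 5] .fail)), (1, (.step [4, 7, 10, 10, 10] .fail)), (1, (.step [4, 8, 7, 7, 4] .fail)), (1, (.step [4, 10, 7, 8] (.step [10,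 13, 10, 8] .fail))), (1, (.step [4, 7, 7, 7, 5] (.step [11, 9, 11] .fail))), (1, .fail), (1, (.step [4, 7, 7, 7, 5] (.step [11, 9, 11] .fail))), (2, .fail), (1, (.step [5, 6, 4, 4, 9] .fail)), (1, (.step [5, 6, 8, 7] .fail)), (1, .fail), (1, (.step [6, 8, 7, 8] .fail)), (1, (.step [5, 7, 10, 10, 8] .fail)), (1, (.step [7, 9, 6] .fail)), (1, (.step [5, 7, 10, 10, 8] .fail)), (1, .fail), (1, (.step [5, 6, 8, 7] .fail)), (1, (.step [6, 11, 8, 10] .fail)), (1, (.step [7, 9, 7, 4, 11] (.step [10, 9, 9, 11, 13] .fail))), (1, .fail), (1, (.step [4, 7, 10, 10, 10] .fail)), (1, (.step [4, 4, 11, 4] .fail)), (2, .fail), (1, (.step [7, 4, 11, 7] .fail)), (5, .fail), (2, (.step [6, 10, 6, 4] .fail)), (1, (.step [6, 9, 7, 4, 8] .fail)), (5, .fail), (1, (.step [4, 6, 9, 10, 4] (.step [11, 12, 12, 9, 10] .fail))), (1, (.step [4, 8, 8, 6] .fail)), (1, .fail), (1, (.step [6, 9, 5, 6] .fail)), (1, (.step [5, 7,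 5, 9, 7] .fail)), (1, (.step [4, 4, 8, 7, 11] .fail)), (2, .fail), (1, (.step [7, 11, 6, 4] (.step [9, 10, 12, 11, 8, 10] .fail))), (1, (.step [4, 7, 5, 8, 4] .fail)), (1, .fail), (1, (.step [4, 10, 4, 4] (.step [8, 11, 12, 11] .fail))), (1, (.step [7, 10, 7, 10] .fail)), (1, .fail), (1, (.step [7, 10, 7, 10] .fail)), (2, (.step [5, 6, 8, 7, 11] (.step [9, 13, 11, 8] .fail))), (1, (.step [4, 10, 9, 7, 9] .fail)), (1, .fail), (1, (.step [5, 8, 7, 5, 5] .fail)), (3, .fail), (1, (.step [4, 4, 8, 5] .fail)), (1, .fail), (1, (.step [4, 8, 11, 8, 5] .fail)), (2, .fail), (1, (.step [4, 8, 11, 8, 5] .fail)), (1, (.step [4, 6, 10, 6, 5] .fail)), (1, (.step [4, 11, 4, 9] (.step [8, 10, 9, 10] .fail))), (1, (.step [5, 8, 11, 4] (.step [9, 12, 8, 10] .fail))), (1, .fail), (1, (.step [4, 11, 9, 7] .fail)), (1, (.step [4, 7, 8, 6, 9] (.step [10, 8, 8, 8] .fail))), (2, .fail), (1, (.step [6, 4, 8, 5] (.step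 [10, 8, 13, 11] .fail))), (2, .fail), (1, (.step [7, 5, 7, 4] .fail)), (1, (.step [4, 8, 7, 4] .fail)), (1, .fail), (1, (.step [4, 4, 11, 6, 10] .fail)), (1, (.step [4, 7] .fail)), (2, .fail), (1, (.step [4, 6, 10, 7, 7] .fail)), (1, (.step [6, 9, 9, 7] .fail)), (1, (.step [5, 9, 6, 4] (.step [9, 11, 11, 8, 11] .fail))), (1, (.step [4, 7, 5, 10, 7] .fail)), (1, (.step [7, 11, 7, 9] .fail)), (1, (.step [4, 6, 11, 5, 11] (.step [9, 11, 9, 12] .fail))), (1, (.step [5, 6, 10, 10, 6] .fail)), (1, (.step [4, 9, 9, 4, 11] .fail)), (4, .fail), (1, (.step [5, 11, 8, 7] .fail)), (1, (.step [4, 7, 7, 4] .fail)), (1, (.step [4, 10, 5, 5, 5] .fail)), (1, (.step [6, 8, 7, 8] .fail)), (1, (.step [5, 11, 8, 7] .fail)), (1, (.step [4, 6, 9, 4, 4] (.step [8, 8, 10, 10, 12] .fail))), (1, .fail), (1, (.step [4, 7, 10, 10, 4] .fail)), (1, (.step [4, 4, 7, 8, 10, 7] .fail)), (1, (.step [4, 7, 5, 11, 6] .fail)), (1,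 (.step [4, 4, 11, 4, 11] .fail)), (2, (.step [4, 4, 8, 6, 5] .fail)), (1, (.step [5, 7, 5, 5, 9] .fail)), (1, .fail), (1, (.step [4, 6, 8, 10, 6] .fail)), (1, .fail), (1, (.step [4, 10, 5, 6, 5] .fail)), (1, .fail), (1, (.step [4, 10, 5, 6, 5] .fail)), (2, .fail), (1, (.step [7, 11, 5, 8] (.step [9, 10, 8, 12, 10] .fail))), (1, (.step [5, 6, 8, 4] (.step [10, 13, 10] .fail))), (1, (.step [7, 4, 8, 7] .fail)), (1, (.step [5, 6, 8, 4] (.step [10, 13, 10] .fail))), (1, (.step [4, 8, 7, 11, 4] (.step [8, 11, 8, 12] .fail))), (1, (.step [4, 4, 7, 8, 10, 7] .fail)), (1, .fail), (1, (.step [7, 8, 11, 8] (.step [8, 12, 11, 8] .fail))), (1, (.step [4, 4, 8, 11, 6] (.step [8, 12, 10, 9] .fail))), (3, .fail), (1, (.step [5, 9, 6, 9] .fail)), (3, .fail), (1, (.step [4, 7, 11, 9, 9] .fail)), (1, (.step [5, 5, 9] .fail)), (1, .fail), (1, (.step [5, 5, 9] .fail)), (1, (.step [4, 7, 5, 11, 6] .fail)), (3, .fail),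 (1, (.step [4, 8, 10, 7, 8] .fail)), (2, .fail), (1, (.step [5, 9, 11, 4, 8] .fail)), (1, .fail), (1, (.step [4, 8, 6, 8, 8] .fail)), (1, (.step [4, 10, 7, 9, 4] .fail)), (1, (.step [6, 8, 8] (.step [11, 12, 8] .fail))), (1, (.step [6, 11, 6, 5] .fail)), (1, .fail), (1, (.step [5, 7, 11, 4, 11] .fail)), (2, (.step [4, 11, 4, 9, 10] .fail)), (1, (.step [7, 8, 11, 8] (.step [8, 12, 11, 8] .fail))), (2, .fail), (1, (.step [4, 4, 4, 7] .fail)), (2, .fail), (1, (.step [6, 11, 6, 5] .fail)), (1, (.step [5, 6, 11, 11] .fail)), (2, (.step [4, 6, 6, 5, 11] (.step [8, 10, 10, 8, 10] .fail))), (1, (.step [4, 10, 8, 7, 4] .fail)), (1, (.step [5, 7, 4, 4, 7] .fail)), (2, .fail), (1, (.step [6, 4, 8, 5, 10] .fail)), (3, .fail), (1, (.step [4, 11, 7, 8, 5] (.step [10, 8, 10, 8, 10] .fail))), (1, (.step [5, 6, 6, 9, 6] .fail)), (1, .fail), (1, (.step [5, 6, 5, 7, 10] (.step [8, 13, 10, 10, 10, 12] .fail))), (1,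 .fail), (1, (.step [5, 6, 5, 7, 10] (.step [8, 13, 10, 10, 10, 12] .fail))), (2, (.step [6, 4, 4, 10] .fail)), (1, (.step [7, 10, 8] .fail)), (6, .fail), (1, (.step [4, 7, 10, 4] (.step [11, 9, 12, 10, 12] .fail))), (1, (.step [5, 9, 9, 5] .fail)), (2, .fail), (1, (.step [4, 6, 11] .fail)), (2, (.step [6, 9, 5, 7] (.step [11, 9, 9] .fail))), (1, (.step [4, 8, 11, 8, 5] .fail)), (1, .fail), (1, (.step [5, 9, 6, 6, 5] .fail)), (1, (.step [6, 4, 8, 6, 6] .fail)), (6, .fail), (1, (.step [4, 8, 4, 9] (.step [8, 13] .fail))), (1, (.step [5, 10, 6, 11, 8] .fail)), (1, (.step [4, 11, 11, 6, 5] (.step [10, 9, 11, 13] .fail))), (1, .fail), (1, (.step [4, 7, 11, 8, 6] .fail)), (1, .fail), (1, (.step [4, 10, 10, 7, 8] .fail)), (3, .fail), (1, (.step [6, 9, 11] .fail)), (1, .fail), (1, (.step [4, 7, 11, 11, 5] .fail)), (1, (.step [5, 11, 6, 6] (.step [8, 10, 10] .fail))), (1, (.step [4, 4, 6, 9, 6] .fail)),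 (1, .fail), (1, (.step [5, 6, 4] (.step [9, 13, 11, 13, 10] .fail))), (1, .fail), (1, (.step [4, 7, 11, 11, 5] .fail)), (1, (.step [7, 8, 4, 4] .fail)), (1, (.step [4, 11, 9, 9, 6] .fail)), (1, (.step [4, 9, 7, 11, 6] (.step [11, 9, 9, 11] (.step [12, 12, 14, 13, 14] (.badAt 1))))), (1, (.step [4, 11, 9, 9, 6] .fail)), (2, .fail), (1, (.step [5, 9, 7, 11, 5] .fail)), (1, (.step [5, 7, 4, 6] .fail)), (1, .fail), (1, (.step [5, 8, 6] (.step [8, 10, 12, 8] (.step [12, 12, 14, 13] (.badAt 1))))), (3, .fail), (1, (.step [5, 8, 7, 7, 7] .fail)), (2, (.step [4, 4, 10, 9] .fail)), (1, (.step [5, 8, 5, 9, 11] .fail)), (1, (.step [5, 9, 10] .fail)), (5, .fail), (1, (.step [5, 7, 9, 11] (.step [9, 11, 11, 8, 10] .fail))), (2, .fail), (1, (.step [4, 4, 10, 10, 7] (.step [8, 8, 10, 9] .fail))), (1, (.step [4, 7, 4, 7, 10] .fail)), (1, .fail), (1, (.step [4, 9, 10, 7, 9] (.step [9, 10, 12] .fail))), (3, .fail),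 (1, (.step [5, 8, 5, 9, 11] .fail)), (1, (.step [6, 4, 10] .fail)), (2, (.step [7, 9, 6, 10] (.step [9, 11, 11, 8] .fail))), (1, (.step [6, 8, 8, 5] .fail)), (1, .fail), (1, (.step [6, 11, 7, 8] (.step [8, 10, 10, 8, 10, 9] .fail))), (3, .fail), (1, (.step [7, 5, 11, 8, 10] .fail)), (1, .fail), (1, (.step [6, 6, 8, 10, 7] .fail)), (1, .fail), (1, (.step [6, 6, 11] .fail)), (1, .fail), (1, (.step [4, 11, 9] (.step [9, 11, 12, 11, 12] .fail))), (1, (.step [5, 8, 10, 5, 6] .fail)), (1, .fail), (2, (.step [6, 9, 7, 4] .fail)), (1, (.step [4, 6, 6, 11, 4] .fail)), (1, (.step [4, 8, 5, 7, 5] (.step [9, 10, 8, 11, 8] .fail))), (1, (.step [4, 8, 11, 6, 10] .fail)), (1, (.step [5, 11, 7, 4] (.step [10, 13, 10, 12] .fail))), (1, .fail), (1, (.step [4, 8, 5, 7, 5] (.step [9, 10, 8, 11, 8] .fail))), (1, .fail), (1, (.step [5, 9, 11, 4, 8] .fail)), (1, (.step [6, 8, 11] .fail)), (1, .fail), (1, (.step [5,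 10, 4, 4] .fail)), (1, (.step [4, 4, 9, 6] (.step [8, 13, 11] .fail))), (1, (.step [4, 9, 10, 7] .fail)), (1, (.step [4, 7, 5, 8, 5] (.step [10, 9, 9, 13] .fail))), (1, (.step [7, 4, 4] (.step [8, 11, 12, 9] .fail))), (1, (.step [5, 9, 9, 4] .fail)), (1, (.step [7, 4, 4] (.step [8, 11, 12, 9] .fail))), (1, .fail), (1, (.step [5, 6, 6, 8, 4] .fail)), (1, (.step [4, 10, 8, 7, 4] .fail)), (1, .fail), (1, (.step [5, 10, 7, 4, 11] .fail)), (1, (.step [6, 11, 7, 8] (.step [9, 11, 8, 10, 10] .fail))), (1, (.step [5, 9, 10] .fail)), (1, (.step [6, 4, 11, 6] .fail)), (1, (.step [4, 11, 7, 11] (.step [11, 8, 10, 9] .fail))), (2, .fail), (1, (.step [4, 6, 11, 11] .fail)), (1, (.step [5, 8, 10, 4, 8] .fail)), (1, (.step [4, 7, 9, 9, 5] .fail)), (1, .fail), (1, (.step [4, 10, 10, 8, 8] .fail)), (2, (.step [7, 4, 7, 11] (.step [8, 10, 10, 10, 8] .fail))), (1, (.step [6, 11, 8, 5, 11] .fail)), (1, .fail), (1,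 (.step [7, 4, 7, 9] .fail)), (1, (.step [7, 9, 4, 7] (.step [11, 11, 9, 13] .fail))), (1, (.step [6, 9, 4, 9] .fail)), (1, (.step [7, 9, 4, 7] (.step [11, 11, 9, 13] .fail))), (1, (.step [4, 7, 5, 10, 9] .fail)), (1, .fail), (1, (.step [4, 8, 4] (.step [11, 9, 9] .fail))), (5, .fail), (1, (.step [6, 8, 5, 9] .fail)), (4, .fail), (1, (.step [6, 5, 5, 9, 6] .fail)), (1, (.step [4, 6, 9, 9, 7] (.step [8, 12, 10, 9] .fail))), (1, .fail), (1, (.step [4, 6, 9, 9, 7] (.step [8, 12, 10, 9] .fail))), (1, .fail), (1, (.step [5, 8, 10, 4, 8] .fail)), (1, (.step [4, 8, 7, 9, 6] .fail)), (2, (.step [5, 5, 9, 4, 10] .fail)), (1, (.step [6, 11, 11] .fail)), (1, .fail), (1, (.step [7, 4, 7, 9] (.step [9, 10, 12, 9, 11] .fail))), (1, (.step [5, 5, 7, 5, 8] (.step [9, 9, 11, 13] .fail))), (1, (.step [6, 11, 11] .fail)), (8, .fail), (2, (.step [6, 5, 11, 8, 10] .fail)), (1, (.step [7, 9, 4] .fail)), (4, .fail),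 (1, (.step [5, 8, 7, 5, 6] .fail)), (2, .fail), (1, (.step [4, 4, 8, 10, 7] (.step [9, 10, 8, 8] .fail))), (1, (.step [5, 7, 10, 8, 5] .fail)), (2, (.step [7, 10, 8, 5] (.step [8, 11, 11, 12] .fail))), (1, (.step [4, 4, 8, 5, 5] .fail)), (1, (.step [4, 4, 11, 11, 4] .fail)), (1, (.step [5, 6, 4, 7, 11] (.step [9, 10, 10, 12, 10] .fail))), (1, (.step [4, 9, 7, 8, 7] (.step [10, 10, 10, 13, 11] (.step [12, 12, 15] (.badAt 1))))), (1, .fail), (1, (.step [4, 9, 7, 8, 7] (.step [10, 10, 10, 13, 11] (.step [12, 12, 15] (.badAt 1))))), (2, (.step [6, 6, 4, 7, 10] (.step [10, 8, 8, 11, 11] .fail))), (1, (.step [6, 6, 4, 8] .fail)), (1, (.step [4, 9, 11, 7] .fail)), (1, (.step [5, 11, 5, 8] .fail)), (1, .fail), (1, (.step [4, 6, 10, 5, 7] (.step [10, 8, 10, 9] (.step [12, 14, 13] (.badAt 1))))), (1, .fail), (1, (.step [5, 10, 10, 8] (.step [8, 10, 10, 13, 8] .fail))), (1, (.step [4, 4, 11, 5] .fail)),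 (1, (.step [4, 4, 7, 7] .fail)), (1, (.step [4, 8, 10, 9] .fail)), (1, (.step [5, 10, 10, 8] (.step [8, 10, 10, 13, 8] .fail))), (1, .fail), (2, (.step [5, 7, 4, 8] .fail)), (1, (.step [6, 5, 6, 10] .fail)), (1, (.step [4, 4, 9, 4, 8] (.step [8, 10, 9, 10, 10, 12] .fail))), (1, .fail), (1, (.step [4, 4, 9, 4, 8] (.step [8, 10, 9, 10, 10, 12] .fail))), (2, (.step [4, 7, 7, 8] .fail)), (1, (.step [6, 4, 10, 9] .fail)), (1, (.step [7, 11, 7, 11] .fail)), (1, (.step [7, 11, 8, 5] (.step [10, 10, 10, 12, 8] .fail))), (3, .fail), (1, (.step [7, 11, 6, 4] .fail)), (1, (.step [7, 11, 7, 7] .fail)), (2, .fail), (2, (.step [6, 9, 7, 4] .fail)), (1, (.step [7, 10, 7, 5] .fail)), (1, (.step [4, 7, 11, 5, 6] (.step [11, 8, 12, 12] .fail))), (1, (.step [4, 10, 9, 10, 6] .fail)), (9, .fail), (1, (.step [4, 7, 11, 5, 6] (.step [11, 8, 12, 12] .fail))), (1, (.step [4, 6, 5, 8, 7] .fail)), (1, .fail), (1, (.step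 [7, 10, 7, 10] .fail)), (1, (.step [4, 9, 10, 10, 5] .fail)), (1, .fail), (1, (.step [4, 4, 11, 11, 4] .fail)), (1, .fail), (1, (.step [4, 9, 10, 10, 5] .fail)), (2, .fail), (1, (.step [4, 8, 6, 11, 6] .fail)), (1, (.step [7, 9, 7, 10] .fail)), (1, (.step [7, 4, 11] .fail)), (1, (.step [4, 7, 10, 5, 8] .fail)), (1, .fail), (1, (.step [4, 4, 6, 6, 4] .fail)), (3, .fail), (1, (.step [4, 8, 5, 11, 4] .fail)), (1, (.step [4, 7, 5, 8, 11] (.step [10, 8, 8, 10] .fail))), (1, (.step [7, 11, 8, 6] .fail)), (1, .fail), (1, (.step [4, 8, 6, 9, 7] .fail)), (1, .fail), (1, (.step [4, 8, 6, 9, 7] .fail)), (1, (.step [4, 7, 5, 8, 11] (.step [10, 8, 8, 10] .fail))), (2, .fail), (1, (.step [4, 4, 8, 7, 11] (.step [9, 11, 11, 9] .fail))), (2, .fail), (1, (.step [7, 9, 7, 10] .fail)), (2, .fail), (1, (.step [7, 7, 4, 11] .fail)), (1, (.step [7, 8, 4, 4] .fail)), (1, (.step [6, 5, 9] (.step [8, 11, 11] .fail))),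 (1, (.step [4, 4, 6, 5, 5] .fail)), (1, (.step [6, 5, 9] (.step [8, 11, 11] .fail))), (1, (.step [4, 10, 6, 8, 4] (.step [8, 8, 8, 12] .fail))), (1, (.step [7, 7, 4, 11] .fail)), (1, (.step [5, 5, 5, 9] (.step [9, 10, 12, 11, 8, 10] .fail))), (1, .fail), (1, (.step [4, 4, 8, 5, 5] .fail)), (3, .fail), (1, (.step [7, 9, 7, 8] .fail)), (1, .fail), (1, (.step [4, 6, 11, 8, 8] .fail)), (1, (.step [7, 4, 7, 8, 6] .fail)), (1, (.step [5, 9, 10, 7, 5] .fail)), (1, (.step [5, 8, 7, 9, 5] .fail)), (1, .fail), (1, (.step [6, 4, 8, 11, 9] .fail)), (3, .fail), (1, (.step [5, 6, 6, 5] .fail)), (1, .fail), (1, (.step [6, 9, 6, 10] .fail)), (2, .fail), (1, (.step [4, 10, 7, 7] .fail)), (2, .fail), (1, (.step [7, 4, 9, 6] (.step [8, 10, 9, 10, 10] .fail))), (1, (.step [7, 11, 11, 11] .fail)), (1, (.step [4, 9, 10, 9, 9] .fail)), (1, (.step [5, 11, 7, 11, 11] .fail)), (2, .fail), (1, (.step [4, 7, 10, 10, 4] .fail)),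 (6, .fail), (1, (.step [5, 5, 6, 5, 11] .fail)), (2, .fail), (1, (.step [4, 7, 4] .fail)), (2, (.step [5, 8, 10, 4, 7] .fail)), (1, (.step [4, 7, 8, 6, 10] .fail)), (1, (.step [4, 9, 7, 4, 6] (.step [8, 10, 10, 9] .fail))), (1, .fail), (1, (.step [4, 11, 11, 9] (.step [11, 8, 11, 11] .fail))), (1, .fail), (1, (.step [5, 9, 7, 10] .fail)), (1, .fail), (1, (.step [5, 9, 4, 7, 5] (.step [8, 11, 13, 9, 12] .fail))), (1, (.step [4, 9, 10, 9, 9] .fail)), (3, .fail), (1, (.step [5, 7, 4, 4] .fail)), (1, (.step [6, 6, 4, 9] .fail)), (1, (.step [7, 10, 4, 6] .fail)), (1, .fail), (2, (.step [7, 10, 7, 5] .fail)), (1, (.step [4, 11, 4, 9, 4] .fail)), (1, (.step [7, 7, 5, 8] (.step [11, 9, 9, 11] .fail))), (3, .fail), (2, (.step [5, 6, 4, 10, 10] .fail)), (1, .fail), (1, (.step [5, 10, 4, 9, 9] .fail)), (1, (.step [4, 10, 6] (.step [11, 9] .fail))), (1, (.step [6, 10, 10, 7] (.step [8, 11, 8, 11, 11] .fail))),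 (2, (.step [4, 11, 4, 9, 6] .fail)), (1, (.step [5, 9, 5, 11, 5] (.step [10, 12, 11, 8, 10] .fail))), (1, (.step [6, 11, 9, 7, 4] .fail)), (1, .fail), (2, (.step [4, 8, 7, 8, 6] .fail)), (1, (.step [6, 11, 5, 8] .fail)), (1, (.step [5, 8, 10, 5, 6] .fail)), (1, (.step [4, 4, 11, 4, 7] (.step [8, 11, 8, 10] (.step [12, 15] (.badAt 1))))), (1, (.step [4, 7, 4, 11] .fail)), (1, .fail), (1, (.step [4, 6, 11, 8, 4] .fail)), (1, .fail), (1, (.step [4, 6, 9, 5, 6] .fail)), (1, (.step [4, 4, 10, 9] .fail)), (1, .fail), (1, (.step [4, 10, 6, 9] .fail)), (3, .fail), (1, (.step [6, 5, 7, 5] .fail)), (1, (.step [5, 5, 5, 8] (.step [8, 11, 13, 8, 10] .fail))), (3, .fail), (1, (.step [5, 9, 5] .fail)), (2, .fail), (1, (.step [5, 6, 10, 10] .fail)), (1, .fail), (2, (.step [5, 9, 4, 7] .fail)), (1, (.step [4, 7, 5, 10, 9] .fail)), (3, .fail), (1, (.step [4, 8, 7, 8, 4] (.step [9, 11, 8, 10, 10, 8] (.step [12]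 (.badAt 1))))), (2, .fail), (1, (.step [4, 8, 4] .fail)), (2, (.step [4, 10, 7, 7] .fail)), (1, .fail), (1, (.step [5, 6, 10, 10] .fail)), (1, .fail), (1, (.step [5, 6, 10, 10] .fail)), (2, .fail), (1, (.step [7, 11, 11] .fail)), (1, (.step [6, 8, 5, 6] .fail)), (1, (.step [6, 6, 8, 10, 7] .fail)), (1, (.step [4, 8, 7, 7, 4] .fail)), (1, (.step [4, 10, 7, 7, 8] .fail)), (2, .fail), (1, (.step [4, 4, 9, 11] .fail)), (3, .fail), (1, (.step [5, 10, 8, 11, 6] .fail)), (2, (.step [6, 4, 10, 9] .fail)), (1, .fail), (1, (.step [6, 8, 11, 7] .fail)), (1, .fail), (1, (.step [6, 11, 6, 5] (.step [8, 8, 10, 10] .fail))), (1, (.step [6, 4, 7, 4, 6] .fail)), (3, .fail), (1, (.step [4, 9, 6, 10, 6] .fail)), (1, .fail), (1, (.step [4, 7, 7, 4, 7] .fail)), (1, (.step [4, 6, 6, 4] .fail)), (1, .fail), (1, (.step [4, 9, 6, 10, 6] .fail)), (4, .fail), (1, (.step [5, 9, 6, 6, 5] (.step [9, 13, 11, 11] .fail))), (2,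 .fail), (2, (.step [4, 9, 5, 10, 5] .fail)), (1, .fail), (1, (.step [4, 7, 7, 8, 6] .fail)), (1, (.step [5, 9, 5, 11] .fail)), (1, (.step [6, 8, 6, 4, 6] (.step [9, 11, 9, 13] .fail))), (1, (.step [5, 9, 5, 11] .fail)), (1, (.step [5, 6, 6, 9, 6] .fail)), (1, (.step [7, 4, 11, 7, 8] .fail)), (1, .fail), (1, (.step [4, 4, 6, 4, 8] .fail)), (1, (.step [6, 10, 6, 4, 7] .fail)), (1, (.step [5, 5, 7, 5, 8] .fail)), (1, (.step [4, 11, 7, 4, 4] .fail)), (1, (.step [7, 9, 4, 7] (.step [11, 11, 9, 13] .fail))), (2, .fail), (1, (.step [4, 4, 11, 8] .fail)), (1, (.step [4, 6, 5, 11, 5] .fail)), (1, (.step [4, 4, 11, 8] .fail)), (3, .fail), (1, (.step [7, 7, 10, 10] (.step [11, 12] .fail))), (1, (.step [7, 11, 9, 11, 6] .fail)), (5, .fail), (1, (.step [7, 7, 10, 10] (.step [11, 12] .fail))), (1, (.step [4, 7, 8, 6, 11] .fail)), (4, .fail), (1, (.step [4, 4, 9, 4, 4] .fail)), (2, (.step [5, 11, 7, 9, 6] (.step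 [9, 10, 13, 10, 8] .fail))), (1, (.step [6, 4, 8, 4] .fail)), (5, .fail), (1, (.step [7, 4, 4] (.step [8, 11, 12, 9] .fail))), (1, (.step [6, 8, 6] (.step [8, 11, 9, 11] .fail))), (1, (.step [5, 10, 4, 10, 9] .fail)), (1, (.step [5, 9, 6, 11, 8] (.step [11, 11, 8] .fail))), (1, (.step [4, 7, 5, 11, 5] (.step [8, 11, 8, 8] .fail))), (1, (.step [5, 5, 9, 11] .fail)), (3, .fail), (1, (.step [7, 11, 7, 11] (.step [11, 8, 8, 11, 11] .fail))), (1, (.step [4, 4, 7, 11] (.step [8, 10, 12, 12, 11] .fail))), (1, .fail), (1, (.step [4, 6, 11, 5, 11] (.step [9, 11, 9, 12] .fail))), (1, .fail), (1, (.step [5, 11, 5, 8] .fail)), (1, (.step [7, 5, 5] .fail)), (1, (.step [5, 11, 5, 8] .fail)), (1, (.step [4, 4, 11, 7, 10] (.step [10, 8, 11, 9, 13] .fail))), (1, .fail), (1, (.step [4, 10, 10, 7, 11] .fail)), (2, .fail), (2, (.step [4, 4, 6, 6, 10] .fail)), (1, (.step [7, 7, 4, 8] .fail)), (1, (.step [5, 7, 10,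 8, 5] .fail)), (1, (.step [5, 10, 4, 9, 9] .fail)), (1, (.step [4, 11, 4, 4] .fail)), (1, (.step [4, 4, 8, 4, 8] .fail)), (1, .fail), (1, (.step [4, 4, 9, 7, 5] .fail)), (1, (.step [5, 8, 7] .fail)), (1, (.step [6, 6, 4, 6] .fail)), (1, (.step [4, 8, 7, 10, 7] (.step [9, 11, 8, 10, 10, 8] .fail))), (1, (.step [5, 9, 7, 11] (.step [8, 8, 13] .fail))), (1, .fail), (1, (.step [4, 4, 6, 4, 4] (.step [11, 11, 11, 12] .fail))), (1, (.step [4, 4, 11] (.step [8, 11, 9, 11] .fail))), (1, (.step [5, 5, 10, 6] .fail)), (2, .fail), (1, (.step [4, 4, 8, 11] .fail)), (3, .fail), (1, (.step [7, 7, 7, 8] .fail)), (1, (.step [4, 4, 7, 9, 11] .fail)), (1, (.step [5, 6, 10, 8] .fail)), (1, .fail), (1, (.step [5, 10, 6, 9] .fail)), (2, (.step [4, 6, 8, 11, 11] .fail)), (1, (.step [6, 10, 7, 9] (.step [9, 11, 12, 12] .fail))), (1, .fail), (1, (.step [4, 4, 4, 8, 6] .fail)), (1, (.step [5, 9, 7, 11, 8] .fail)), (1,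 (.step [6, 5, 7, 11, 6] (.step [8, 11, 9, 10, 12] (.step [12, 12, 14] (.badAt 1))))), (1, (.step [4, 7, 8, 4] .fail)), (1, (.step [4, 7, 7, 11, 7] .fail)), (1, (.step [6, 11, 11] .fail)), (5, .fail), (1, (.step [4, 6, 6, 6, 4] .fail)), (1, .fail), (1, (.step [6, 8, 6, 9] .fail)), (2, .fail), (1, (.step [6, 4, 9, 9] .fail)), (1, (.step [5, 11, 9, 5, 6] (.step [10, 13, 9, 10] .fail))), (1, (.step [4, 9, 7, 11, 6] (.step [11, 9, 9, 11] (.step [12, 12, 14, 13, 14] (.badAt 1))))), (1, (.step [5, 11, 7, 5] (.step [11, 8] .fail))), (1, (.step [5, 11, 9, 5, 6] (.step [10, 13, 9, 10] .fail))), (1, .fail), (2, (.step [4, 6, 8, 11] .fail)), (3, .fail), (1, (.step [5, 7, 10, 5] .fail)), (1, (.step [4, 4, 11, 11, 9] .fail)), (1, (.step [7, 8, 7, 7] .fail)), (1, (.step [4, 4, 11, 11, 9] .fail)), (2, (.step [6, 8, 4] .fail)), (1, (.step [6, 11, 7, 4] .fail)), (1, .fail), (1, (.step [6, 4, 6, 5, 10] .fail)),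 (1, (.step [4, 6, 11, 7, 8] .fail)), (2, .fail), (1, (.step [5, 6, 11, 5] .fail)), (1, .fail), (1, (.step [4, 9, 10, 4] .fail)), (3, .fail), (1, (.step [7, 11, 4, 7] .fail)), (1, (.step [5, 11, 6, 5, 6] (.step [11, 12, 10, 12] (.step [12, 15, 12] (.badAt 1))))), (1, (.step [7, 11, 4, 7] .fail)), (2, (.step [5, 6, 4, 10, 4] (.step [9, 11, 8] .fail))), (1, (.step [5, 10, 7, 4, 11] .fail)), (1, (.step [4, 10, 4, 10, 5] .fail)), (1, .fail), (1, (.step [4, 6, 5, 7, 5] .fail)), (1, .fail), (1, (.step [4, 4, 9, 11, 4] .fail)), (1, (.step [5, 9, 6, 6, 5] .fail)), (1, (.step [4, 6, 6, 11, 9] .fail)), (1, .fail), (1, (.step [4, 7, 11, 6, 6] .fail)), (1, (.step [6, 6, 10, 6] .fail)), (1, (.step [5, 7, 11, 5] .fail)), (1, (.step [6, 4, 6, 5] .fail)), (1, (.step [6, 9, 6] .fail)), (1, .fail), (1, (.step [5, 5, 5, 10, 9] (.step [11, 8, 10, 13, 10] .fail))), (1, (.step [7, 7, 7, 9] .fail)), (2, .fail), (1, (.step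 [7, 11, 8, 5] .fail)), (1, (.step [4, 9, 5, 11, 9] (.step [8, 12, 9] .fail))), (1, (.step [6, 4, 8, 6, 6] .fail)), (1, (.step [5, 8, 11, 8] .fail)), (1, (.step [5, 11, 5, 7, 11] .fail)), (1, (.step [6, 4, 8, 6, 6] .fail)), (1, (.step [5, 6, 5, 8] (.step [10, 9, 9, 10] .fail))), (2, .fail), (1, (.step [4, 10, 5] .fail)), (1, (.step [5, 8, 10] .fail)), (1, .fail), (1, (.step [5, 8] (.step [9, 12] .fail))), (1, .fail), (1, (.step [5, 8] (.step [9, 12] .fail))), (1, (.step [5, 6, 9, 6] (.step [9, 12, 8, 12] .fail))), (1, .fail), (1, (.step [4, 4, 6, 4, 4] .fail)), (3, .fail), (1, (.step [5, 5, 5, 8] (.step [10, 13, 8, 10, 10] .fail))), (1, .fail), (1, (.step [5, 5, 5, 8] (.step [10, 13, 8, 10, 10] .fail))), (1, (.step [4, 9, 6, 11] .fail)), (1, (.step [5, 11, 6] .fail)), (1, (.step [4, 9, 4, 10] .fail)), (1, (.step [4, 4, 6, 6, 10] .fail)), (1, (.step [4, 10, 10, 8, 8] .fail)), (1, (.step [4, 10,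 7, 8, 11] .fail)), (1, (.step [4, 9, 5, 6, 4] (.step [8, 12, 11, 11, 8] .fail))), (1, (.step [6, 11, 8, 5, 11] .fail)), (1, (.step [6, 5, 7, 4] .fail)), (1, (.step [6, 6, 9, 5] .fail)), (1, (.step [7, 11, 4] (.step [8, 10, 10, 10] .fail))), (1, .fail), (1, (.step [4, 8, 10, 8, 11] .fail)), (2, .fail), (1, (.step [4, 8, 10, 5, 10] .fail)), (1, (.step [6, 9, 7, 4] .fail)), (1, .fail), (1, (.step [6, 4, 4, 6, 9] .fail)), (1, (.step [4, 4, 6, 4] (.step [10, 9, 9, 10, 10] .fail))), (1, (.step [6, 4, 4, 6, 9] .fail)), (2, (.step [4, 4, 7, 8, 8] (.step [11] .fail))), (1, (.step [4, 4, 7, 5, 7] (.step [10, 10, 9, 9] .fail))), (1, .fail), (1, (.step [5, 9, 10, 7, 7] .fail)), (3, .fail), (1, (.step [6, 9, 11, 7] .fail)), (1, .fail), (1, (.step [4, 11, 4, 11] .fail)), (1, .fail), (1, (.step [7, 8, 11, 6] (.step [11, 9, 11, 11, 8] .fail))), (1, (.step [4, 8, 5, 8, 6] (.step [9, 11, 13, 10] (.step [12, 12,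 14] (.badAt 1))))), (2, .fail), (1, (.step [4, 8, 4, 6, 6] .fail)), (5, .fail), (2, (.step [7, 7, 5, 10, 9] (.step [11, 8, 10, 13, 10] .fail))), (1, (.step [4, 7, 11, 6, 6] .fail)), (1, (.step [6, 8, 7] .fail)), (1, (.step [7, 8, 4, 4] .fail)), (1, .fail), (1, (.step [4, 10, 4, 9] (.step [10, 12, 11, 8] .fail))), (1, .fail), (1, (.step [4, 6, 11, 9, 4] (.step [8, 11, 8, 11, 11, 12] .fail))), (3, .fail), (1, (.step [4, 11, 7, 8, 7] .fail)), (1, (.step [5, 7, 4, 6] .fail)), (1, (.step [4, 4, 10, 4, 4, 4] .fail)), (1, .fail), (1, (.step [5, 6, 6, 5] .fail)), (2, .fail), (1, (.step [6, 5, 11, 6] (.step [9, 10, 9, 9, 11] .fail))), (1, (.step [5, 6, 6, 5] .fail)), (1, (.step [5, 6, 8, 10, 7] .fail)), (1, .fail), (1, (.step [6, 8, 4, 7, 9] (.step [10, 9, 10, 12, 8] .fail))), (1, (.step [4, 7, 5, 10, 8] .fail)), (2, .fail), (1, (.step [4, 8, 6, 11, 6] .fail)), (1, (.step [4, 10, 9, 11, 6] (.step [9, 10,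 12, 11, 8] .fail))), (5, .fail), (1, (.step [6, 8, 10, 6] .fail)), (3, .fail), (1, (.step [4, 7, 7, 5] (.step [11, 8, 8, 11, 13] .fail))), (3, .fail), (1, (.step [4, 4, 7, 9, 7] .fail)), (1, (.step [6, 6, 9, 6, 4] .fail)), (1, .fail), (1, (.step [4, 8, 7, 11] .fail)), (1, .fail), (1, (.step [4, 8, 7, 11] .fail)), (2, .fail), (1, (.step [7, 11, 11, 9] (.step [8, 8, 8, 11, 11] .fail))), (5, .fail), (1, (.step [4, 4, 10, 9] .fail)), (1, .fail), (1, (.step [7, 10, 5, 5] .fail)), (3, .fail), (1, (.step [7, 10, 5, 5] .fail)), (2, (.step [5, 9, 5, 8] .fail)), (1, .fail), (1, (.step [6, 4, 11, 6] .fail)), (4, .fail), (1, (.step [5, 8, 10, 10, 7] .fail)), (1, (.step [5, 7, 8, 8] .fail)), (1, (.step [4, 11, 5, 7] .fail)), (1, (.step [4, 6, 11, 8, 11] .fail)), (1, (.step [5, 10, 5, 9] .fail)), (1, (.step [4, 6, 11, 8, 11] .fail)), (3, .fail), (1, (.step [6, 8, 5, 8, 5] .fail)), (1, (.step [5, 7, 5, 5, 6]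 .fail)), (1, (.step [4, 6, 6, 9, 11] .fail)), (1, (.step [7, 9, 7, 9] .fail)), (1, .fail), (1, (.step [5, 7, 7, 9] .fail)), (1, (.step [5, 6, 6, 8, 6] .fail)), (1, .fail), (1, (.step [4, 4, 11, 5, 6] .fail)), (3, .fail), (1, (.step [6, 4, 7, 8, 11] (.step [11, 9, 12, 10, 10] .fail))), (3, .fail), (1, (.step [5, 9, 7, 11, 5] .fail)), (1, (.step [5, 7, 7, 10] .fail)), (1, .fail), (2, (.step [5, 6, 4, 8, 11] .fail)), (1, (.step [4, 4, 4, 9, 9] .fail)), (1, (.step [5, 6, 8, 6, 9] (.step [8, 11, 12, 10, 9] .fail))), (1, .fail), (2, (.step [5, 5, 8, 5, 5] .fail)), (1, (.step [5, 6, 6, 9] .fail)), (1, (.step [4, 7, 8, 7, 7] .fail)), (1, (.step [4, 7, 5, 10] (.step [11, 11, 12] .fail))), (1, .fail), (1, (.step [4, 6, 10, 6, 5] .fail)), (1, .fail), (2, (.step [6, 5, 5] .fail)), (1, .fail), (1, (.step [6, 11, 6, 8] .fail)), (1, (.step [5, 11, 6, 6] (.step [8, 10, 10] .fail))), (1, .fail), (1, (.step [4,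 6, 5, 9, 6] .fail)), (4, .fail), (1, (.step [7, 7, 5, 8] .fail)), (1, (.step [4, 11, 4, 11] .fail)), (1, (.step [6, 9, 5, 7] (.step [11, 9, 9] .fail))), (1, .fail), (1, (.step [5, 5, 5, 8, 5] .fail)), (2, (.step [4, 4, 4, 8, 5] .fail)), (1, .fail), (1, (.step [4, 4, 8, 4] .fail)), (2, .fail), (1, (.step [5, 9, 6, 11] .fail)), (2, (.step [7, 9, 10] .fail)), (1, (.step [5, 8, 4, 9, 6] .fail)), (2, .fail), (1, (.step [5, 8, 7, 10] .fail)), (1, (.step [4, 4, 9, 7, 5] .fail)), (1, (.step [5, 5, 5, 8, 5] .fail)), (3, .fail), (1, (.step [4, 9, 4, 10] .fail)), (1, .fail), (1, (.step [5, 8, 4, 9, 6] .fail)), (1, .fail), (1, (.step [4, 6, 11, 7, 9] (.step [8, 11, 11] .fail))), (1, (.step [4, 6, 5, 10, 7, 8] .fail)), (1, (.step [4, 6, 6, 5, 11] .fail)), (1, (.step [6, 9, 5, 8, 6] .fail)), (1, (.step [4, 8, 7, 9] .fail)), (1, (.step [5, 6, 5, 9, 10] .fail)), (1, (.step [5, 6, 8, 7, 5] (.step [8, 13, 11, 12]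 .fail))), (1, .fail), (1, (.step [4, 7, 4, 7, 10] .fail)), (1, .fail), (1, (.step [5, 9, 10, 8, 7] .fail)), (1, (.step [5, 5, 6, 6] (.step [10, 9, 10, 12, 8] .fail))), (1, (.step [4, 10, 7, 8] .fail)), (2, .fail), (1, (.step [5, 10, 9, 9, 6] (.step [8, 11, 8, 11] .fail))), (1, (.step [5, 9, 10, 7, 10] .fail)), (1, (.step [6, 5, 5, 6] .fail)), (1, (.step [7, 9, 5, 9] .fail)), (1, (.step [5, 6, 6, 9, 11] .fail)), (2, .fail), (1, (.step [4, 9, 7, 11, 5] (.step [9, 10, 12, 11, 8] .fail))), (4, .fail), (1, (.step [4, 9, 11, 7] .fail)), (3, .fail), (1, (.step [7, 11, 5, 8] (.step [9, 13, 8] .fail))), (1, (.step [6, 4, 11, 6] .fail)), (2, .fail), (1, (.step [4, 4, 8, 5, 8] .fail)), (1, .fail), (1, (.step [5, 5, 7, 5] (.step [8, 13, 10, 10, 10, 12] .fail))), (3, .fail), (1, (.step [6, 11, 5] (.step [11, 12, 12, 9] .fail))), (1, (.step [6, 10, 6, 5] (.step [8, 13, 10, 8] .fail))), (1, (.step [4, 4, 10,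 10] .fail)), (1, (.step [6, 10] .fail)), (1, (.step [5, 9, 9, 5] .fail)), (1, (.step [4, 6, 10, 6, 5] .fail)), (1, (.step [6, 4, 9] .fail)), (1, .fail), (1, (.step [4, 7, 10, 6] .fail)), (2, (.step [6, 11, 6, 5] .fail)), (1, .fail), (1, (.step [4, 6, 10, 4, 11] .fail)), (1, .fail), (1, (.step [5, 6, 5, 6, 5] .fail)), (1, (.step [6, 6, 6, 6, 5] (.step [8, 10, 13, 9] .fail))), (1, (.step [4, 8, 7, 7, 4] .fail)), (2, (.step [4, 10, 7, 8] (.step [10, 13, 10, 8] .fail))), (1, (.step [4, 9, 4, 11, 11] .fail)), (1, (.step [4, 7, 7, 7, 5] (.step [11, 9, 11] .fail))), (1, (.step [4, 4, 7, 8, 10] (.step [9, 11, 11, 8] .fail))), (1, (.step [6, 11, 8, 8] (.step [11, 13, 10] .fail))), (2, .fail), (1, (.step [5, 10, 4] .fail)), (1, (.step [4, 7, 7, 7, 5] (.step [11, 9, 11] .fail))), (2, .fail), (1, (.step [5, 6, 4, 4, 9] .fail)), (1, (.step [7, 11, 8, 5] (.step [10, 10, 10, 12, 8] .fail))), (1, .fail), (1,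 (.step [4, 6, 5, 10, 7, 8] (.step [8, 10, 13, 8] .fail))), (1, .fail), (1, (.step [6, 8, 7, 8] .fail)), (1, (.step [4, 8, 6, 8] .fail)), (1, (.step [6, 4, 8, 11, 9] .fail)), (1, .fail), (1, (.step [4, 9, 7, 4, 6] (.step [8, 10, 10, 9] .fail))), (2, (.step [7, 9, 6] .fail)), (1, (.step [4, 8, 6, 10, 7] .fail)), (2, .fail), (1, (.step [4, 7, 7, 10] (.step [11, 13, 9] (.step [] (.badAt 1))))), (1, (.step [4, 8, 6, 4] .fail)), (1, (.step [5, 6, 6, 9, 9] (.step [8, 11, 12, 10, 13] (.step [14, 13] (.badAt 1))))), (1, (.step [5, 8, 6] .fail)), (3, .fail), (1, (.step [4, 4, 10, 4, 8] .fail)), (1, (.step [7, 11, 8, 6] .fail)), (1, (.step [4, 7, 10, 10, 10] .fail)), (1, .fail), (1, (.step [5, 6, 9, 6, 5] .fail)), (3, .fail), (2, (.step [7, 4, 11, 7] .fail)), (1, (.step [4, 4, 6] .fail)), (1, (.step [7, 9, 7, 8] .fail)), (1, .fail), (1, (.step [6, 4, 8, 4] .fail)), (2, .fail), (1, (.step [4, 7, 5, 11, 9]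 .fail)), (4, .fail), (1, (.step [4, 9, 5, 11, 9] .fail)), (1, .fail), (1, (.step [6, 10, 10, 7] (.step [8, 11, 8, 11, 11] .fail))), (9, .fail), (1, (.step [6, 6, 9, 6] (.step [11, 11, 8, 11] .fail))), (1, (.step [4, 6, 9, 10, 4] (.step [11, 12, 12, 9, 10] .fail))), (1, (.step [4, 8, 8, 6] .fail)), (2, .fail), (1, (.step [4, 10, 7, 5, 5] .fail)), (1, (.step [6, 9, 5, 6] .fail)), (2, .fail), (2, (.step [4, 4, 8, 7, 11] .fail)), (1, .fail), (1, (.step [7, 4, 7, 9] .fail)), (1, .fail), (1, (.step [5, 5, 7, 5, 8] (.step [9, 9] .fail))), (1, (.step [4, 4, 9, 6] (.step [8, 13, 11] .fail))), (2, .fail), (1, (.step [4, 8, 10, 9, 7] (.step [8, 10, 13, 9] .fail))), (2, .fail), (1, (.step [4, 10, 4, 4] (.step [8, 11, 12, 11] .fail))), (1, .fail), (1, (.step [4, 9, 10, 10, 5] .fail)), (3, .fail), (1, (.step [5, 6, 4, 10, 4] .fail)), (1, .fail), (1, (.step [6, 9, 4, 4, 10] .fail)), (1, (.step [7, 10, 7, 10]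 .fail)), (3, .fail), (1, (.step [4, 6, 9, 9, 7] (.step [8, 12, 10, 9] .fail))), (1, (.step [6, 8, 8, 5] .fail)), (1, (.step [7, 11, 7, 11] .fail)), (2, .fail), (1, (.step [5, 8, 7, 5, 5] .fail)), (1, .fail), (1, (.step [5, 8, 7, 5, 5] .fail)), (2, .fail), (1, (.step [4, 10, 7, 4] .fail)), (5, .fail), (1, (.step [4, 4, 8, 5] .fail)), (1, (.step [5, 9, 7] .fail)), (1, (.step [6, 5, 6, 9, 4] .fail)), (1, (.step [6, 8, 7, 7] .fail)), (1, (.step [6, 9, 5, 6] .fail)), (1, (.step [4, 8, 11, 8, 5] .fail)), (1, (.step [4, 11, 9, 9, 6] .fail)), (1, .fail), (1, (.step [4, 6, 6, 10] .fail)), (1, .fail), (1, (.step [4, 8, 11, 8, 5] .fail)), (1, (.step [5, 10, 10, 8] (.step [8, 10, 10, 13, 8] .fail))), (1, (.step [4, 6, 10, 6, 5] .fail)), (1, (.step [5, 9, 4] .fail)), (1, (.step [5, 8, 11, 4] (.step [9, 12, 8, 10] .fail))), (3, .fail), (1, (.step [4, 11, 9, 7] .fail)), (2, (.step [4, 7, 8, 6, 9] (.step [10,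 8, 8, 8] .fail))), (1, (.step [7, 4, 9] .fail)), (1, .fail), (1, (.step [4, 10, 4, 10, 8] (.step [9, 10, 12, 11, 12] .fail))), (2, (.step [6, 4, 8, 5] (.step [10, 8, 13, 11] .fail))), (1, (.step [4, 11, 7, 10] .fail)), (3, .fail), (1, (.step [4, 8, 8, 6, 6] (.step [10, 10, 10, 9] .fail))), (1, (.step [7, 5, 7, 4] .fail)), (1, (.step [6, 11, 8, 8] .fail)), (1, (.step [4, 8, 7, 4] .fail)), (1, .fail), (1, (.step [4, 9, 9, 4] .fail)), (2, (.step [4, 7] .fail)), (1, .fail), (1, (.step [5, 9, 6, 10] (.step [8, 13, 11, 12, 11] (.step [12, 12, 14, 13, 14] (.badAt 1))))), (1, (.step [4, 9, 10, 6, 11] .fail)), (2, .fail), (1, (.step [4, 6, 10, 7, 7] .fail)), (1, (.step [4, 6, 8, 11, 5] .fail)), (1, (.step [5, 9, 6, 4] (.step [9, 11, 11, 8, 11] .fail))), (1, (.step [6, 6, 10, 9] .fail)), (1, (.step [5, 9, 6, 4] (.step [9, 11, 11, 8, 11] .fail))), (1, .fail), (1, (.step [4, 7, 5, 10, 7] .fail)), (1, (.step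 [7, 11, 7, 9] .fail)), (1, .fail), (1, (.step [7, 11, 7, 9] .fail)), (1, (.step [4, 6, 11, 5, 11] .fail)), (2, (.step [5, 6, 10, 10, 6] .fail)), (1, (.step [5, 9, 10, 6] .fail)), (1, (.step [4, 6, 5, 10, 8] .fail)), (1, .fail), (1, (.step [5, 11, 7, 5, 5] .fail)), (1, (.step [5, 10, 9, 9, 6] .fail)), (1, .fail), (1, (.step [5, 11, 6, 6] .fail)), (1, (.step [4, 7, 11, 5, 6] (.step [11, 8, 12, 12] .fail))), (3, .fail), (1, (.step [5, 11, 8, 7] .fail)), (1, .fail), (1, (.step [7, 5, 9, 6] .fail)), (2, (.step [4, 7, 7, 4] .fail)), (2, (.step [4, 10, 5, 5, 5] .fail)), (1, (.step [6, 5, 11, 8, 10] .fail)), (1, .fail), (1, (.step [4, 8, 7, 9, 6] .fail)), (1, (.step [4, 4, 10, 5] .fail)), (1, (.step [4, 6, 9, 4, 4] (.step [8, 8, 10, 10, 12] .fail))), (3, .fail), (1, (.step [4, 7, 10, 10, 4] .fail)), (1, .fail), (1, (.step [4, 4, 7, 8, 10, 7] .fail)), (1, .fail), (1, (.step [5, 5, 6, 6, 11] .fail)), (1,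 (.step [6, 6, 6, 11] .fail)), (1, .fail), (1, (.step [4, 7, 5, 11, 6] .fail)), (1, .fail), (1, (.step [4, 4, 11, 11] (.step [10, 10, 10, 12] .fail))), (1, (.step [4, 4, 8, 6, 5] .fail)), (1, (.step [4, 6, 9, 4, 4] .fail)), (2, (.step [5, 7, 5, 5, 9] .fail)), (3, .fail), (1, (.step [4, 6, 8, 10, 6] .fail)), (1, .fail), (1, (.step [4, 6, 8, 10, 6] .fail)), (1, .fail), (1, (.step [4, 7, 10, 9, 5] .fail)), (1, (.step [4, 10, 5, 6, 5] .fail)), (1, (.step [5, 5, 10, 10, 4] (.step [9, 10, 10] (.step [15, 12] (.badAt 1))))), (1, (.step [4, 11, 4, 10, 4] .fail)), (2, .fail), (1, (.step [4, 10, 5, 6, 5] .fail)), (4, .fail), (1, (.step [7, 11, 5, 8] (.step [9, 10, 8, 12, 10] .fail))), (1, (.step [5, 11, 5, 5] .fail)), (1, (.step [6, 8, 5, 8, 5] (.step [9, 10, 12, 11, 8, 10] .fail))), (1, .fail), (1, (.step [7, 4, 8, 7] .fail)), (1, (.step [5, 6, 8, 4] (.step [10, 13, 10] .fail))), (1, .fail), (1, (.step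 [4, 8, 7, 11, 4] (.step [8, 11, 8, 12] .fail))), (1, .fail), (1, (.step [4, 8, 7, 11, 4] (.step [8, 11, 8, 12] .fail))), (3, .fail), (1, (.step [7, 11, 8, 6] (.step [11, 9, 11, 11, 9] (.step [13, 14, 13, 14] (.badAt 1))))), (1, .fail), (1, (.step [4, 4, 8, 11, 6] (.step [8, 12, 10, 9] .fail))), (1, (.step [6, 11, 5, 8, 10] .fail)), (1, .fail), (1, (.step [4, 9, 10, 7] .fail)), (1, .fail), (1, (.step [6, 4, 4, 10] .fail)), (1, .fail), (1, (.step [5, 7, 10, 5] .fail)), (2, .fail), (1, (.step [6, 6, 9, 6] (.step [9, 13] .fail))), (4, .fail), (1, (.step [4, 7, 11, 9, 9] .fail)), (1, (.step [5, 5, 9] .fail)), (1, (.step [4, 6, 5] .fail)), (3, .fail)])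

/-- a piece of a certificate -/
noncomputable def cT2_1 : Cert := (Cert.rl [(1, (.step [5, 5, 9] .fail)), (1, (.step [6, 6] .fail)), (2, .fail), (1, (.step [4, 9, 7, 4, 6] (.step [8, 10, 10, 9] .fail))), (2, .fail), (1, (.step [4, 8, 10, 5, 9] .fail)), (1, (.step [4, 6, 8, 5, 5] .fail)), (1, .fail), (1, (.step [6, 9, 7, 11] (.step [10, 12, 10, 9] .fail))), (3, .fail), (1, (.step [5, 7, 4, 4] .fail)), (1, (.step [6, 4, 10, 10] (.step [10, 12, 11, 12] .fail))), (2, .fail), (1, (.step [6, 4, 9, 10, 8] (.step [9, 13, 8, 11, 8] .fail))), (1, (.step [4, 8, 6, 8, 8] .fail)), (1, (.step [6, 9, 6, 10] .fail)), (1, .fail), (1, (.step [4, 10, 7, 9, 4] .fail)), (1, .fail), (1, (.step [4, 9, 9, 5, 6] .fail)), (3, .fail), (1, (.step [6, 6, 8, 10, 7] .fail)), (1, (.step [5, 7, 11, 4, 11] .fail)), (1, (.step [4, 11, 4, 9, 10] .fail)), (2, .fail), (1, (.step [4, 10, 4, 8] .fail)), (1, (.step [4, 8, 4, 7, 7] .fail)),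 (2, .fail), (1, (.step [6, 9, 4, 9] .fail)), (1, .fail), (1, (.step [4, 4, 4, 7] .fail)), (1, (.step [4, 6, 5, 11, 4] .fail)), (3, .fail), (1, (.step [6, 11, 6, 5] .fail)), (1, (.step [4, 10, 4, 10, 6] .fail)), (2, (.step [5, 6, 11, 11] .fail)), (1, (.step [4, 6, 10, 5, 7] (.step [9, 11, 13, 11, 13] .fail))), (1, (.step [5, 5, 5] .fail)), (1, (.step [4, 6, 6, 5, 11] (.step [8, 10, 10, 8, 10] .fail))), (1, (.step [4, 10, 8, 7, 4] .fail)), (1, .fail), (1, (.step [6, 5, 6, 4] (.step [9, 10, 10, 12] .fail))), (1, (.step [4, 8, 7, 10, 4] .fail)), (1, .fail), (1, (.step [4, 8, 4, 7] (.step [11, 13, 8, 12] .fail))), (2, .fail), (1, (.step [6, 4, 8, 5, 10] .fail)), (2, .fail), (1, (.step [4, 6, 9, 5, 8, 7] .fail)), (1, .fail), (1, (.step [4, 4, 9, 7] (.step [8, 13, 11, 11] .fail))), (1, (.step [7, 9, 6, 6, 5] (.step [10, 9, 11, 13] (.step [13, 14, 13, 14] (.badAt 1))))), (1, (.step [5, 5, 6, 10] (.step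 [8, 13, 9, 11, 8] .fail))), (1, .fail), (2, (.step [4, 11, 7, 8, 5] (.step [10, 8, 10, 8, 10] .fail))), (1, (.step [4, 6, 4, 11, 4] .fail)), (1, .fail), (1, (.step [5, 6, 5, 7, 10] (.step [8, 13, 10, 10, 10, 12] .fail))), (1, (.step [4, 7, 5, 6] .fail)), (1, (.step [4, 6, 11, 11] .fail)), (1, (.step [4, 7, 9, 6, 8] .fail)), (1, (.step [4, 8, 6, 10, 5] .fail)), (1, (.step [5, 6, 5, 7, 10] (.step [8, 13, 10, 10, 10, 12] .fail))), (1, .fail), (1, (.step [4, 4, 9, 10] .fail)), (1, .fail), (1, (.step [6, 4, 4, 10] .fail)), (1, .fail), (2, (.step [7, 10, 8] .fail)), (9, .fail), (1, (.step [6, 5, 8, 10] .fail)), (1, .fail), (1, (.step [5, 11, 7, 5, 5] .fail)), (1, (.step [4, 7, 10, 4] (.step [11, 9, 12, 10, 12] .fail))), (1, .fail), (1, (.step [4, 7, 10, 4] (.step [11, 9, 12, 10, 12] .fail))), (2, (.step [5, 9, 9, 5] .fail)), (5, .fail), (2, (.step [4, 6, 11] .fail)), (1, (.step [5, 8, 4, 9] .fail)),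 (1, (.step [5, 8, 6, 5] (.step [11, 9, 13] (.step [12, 14] (.badAt 1))))), (1, .fail), (2, (.step [4, 8, 11, 8, 5] .fail)), (1, (.step [7, 9, 6, 10] (.step [9, 11, 11, 8] .fail))), (1, .fail), (1, (.step [4, 7, 7, 4, 11] .fail)), (1, .fail), (1, (.step [5, 9, 6, 6, 5] .fail)), (1, (.step [4, 10, 7, 7, 8] .fail)), (2, (.step [6, 4, 8, 6, 6] .fail)), (1, (.step [4, 6, 11] .fail)), (1, (.step [4, 9, 7, 4] .fail)), (2, .fail), (1, (.step [7, 10, 6, 11] (.step [8, 10, 12, 8] .fail))), (7, .fail), (1, (.step [6, 4, 7, 10, 6] .fail)), (1, (.step [4, 8, 4, 9] (.step [8, 13] .fail))), (1, .fail), (1, (.step [5, 10, 6, 11, 8] .fail)), (3, .fail), (2, (.step [4, 7, 11, 8, 6] .fail)), (1, .fail), (1, (.step [6, 11, 6, 10] .fail)), (2, (.step [4, 10, 10, 7, 8] .fail)), (3, .fail), (1, (.step [5, 8, 7, 9, 5] .fail)), (1, (.step [4, 6, 9, 5, 8, 7] (.step [10, 8, 10, 12] .fail))), (1, (.step [6, 9, 11] .fail)),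 (1, (.step [4, 11, 11, 8, 4] (.step [11, 11, 9] .fail))), (2, .fail), (1, (.step [5, 11, 6, 6] (.step [8, 10, 10] .fail))), (2, (.step [4, 4, 6, 9, 6] .fail)), (1, (.step [5, 5, 11, 5] .fail)), (1, (.step [4, 6, 6, 6, 5] .fail)), (1, (.step [6, 4, 11, 11] (.step [8, 8, 11, 8, 11, 11] .fail))), (1, (.step [5, 6, 4] (.step [9, 13, 11, 13, 10] .fail))), (1, (.step [7, 10, 5, 11] (.step [8, 11, 8, 13, 10] .fail))), (1, .fail), (1, (.step [4, 11, 5, 10] (.step [10, 9, 9, 12, 10] .fail))), (1, (.step [4, 7, 11, 11, 5] .fail)), (1, (.step [4, 6, 8, 5] (.step [10, 13, 8, 10, 10] .fail))), (1, (.step [7, 8, 4, 4] .fail)), (1, (.step [5, 9, 10] .fail)), (1, .fail), (1, (.step [4, 11, 9, 9, 6] .fail)), (1, (.step [4, 7, 5, 10, 9] (.step [10, 9, 9, 11, 13] (.step [] (.badAt 1))))), (1, (.step [6, 8, 7] .fail)), (1, (.step [5, 7, 4, 4, 4] .fail)), (2, .fail), (1, (.step [4, 8, 8, 10, 9] .fail)), (1, (.step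 [5, 9, 7, 11, 5] .fail)), (1, (.step [5, 7, 4, 6] .fail)), (4, .fail), (1, (.step [5, 8, 6] (.step [8, 10, 12, 8] (.step [12, 12, 14, 13] (.badAt 1))))), (1, .fail), (1, (.step [5, 8, 6] (.step [8, 10, 12, 8] (.step [12, 12, 14, 13] (.badAt 1))))), (1, .fail), (1, (.step [4, 4, 9, 4, 7] (.step [8, 8, 11, 8, 10, 13] .fail))), (3, .fail), (2, (.step [5, 8, 7, 7, 7] .fail)), (1, (.step [4, 8, 5, 11] .fail)), (1, (.step [5, 6, 5, 6] .fail)), (1, (.step [6, 9, 9, 7] (.step [10, 9, 11, 12, 12] .fail))), (1, .fail), (1, (.step [5, 8, 5, 9, 11] .fail)), (1, (.step [6, 5, 7, 4] .fail)), (1, (.step [7] (.step [9, 11, 12, 9, 10] .fail))), (1, (.step [5, 9, 10] .fail)), (1, (.step [4, 10, 7] (.step [10, 9, 10, 8, 12] .fail))), (1, (.step [4, 6, 4, 10] .fail)), (1, .fail), (1, (.step [7, 4, 4] (.step [8, 11, 12, 9] .fail))), (4, .fail), (2, (.step [5, 7, 9, 11] (.step [9, 11, 11, 8, 10] .fail))), (1, (.step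 [4, 4, 8, 10, 4] .fail)), (1, (.step [5, 9, 9, 6, 11] .fail)), (1, .fail), (1, (.step [4, 4, 10, 10, 7] (.step [8, 8, 10, 9] .fail))), (1, (.step [4, 7, 4, 7, 10] .fail)), (1, .fail), (1, (.step [4, 6, 5, 6, 8] .fail)), (2, (.step [4, 9, 10, 7, 9] (.step [9, 10, 12] .fail))), (1, (.step [7, 11, 9, 11] (.step [8, 11, 8] .fail))), (1, .fail), (1, (.step [4, 6, 5, 7, 7] .fail)), (1, (.step [4, 10, 10, 5, 5] (.step [9, 10, 8, 11, 12] .fail))), (1, .fail), (1, (.step [6, 8, 10, 8] (.step [8, 10, 12, 12] .fail))), (1, .fail), (1, (.step [5, 8, 5, 9, 11] .fail)), (1, .fail), (1, (.step [4, 8, 10, 10] .fail)), (1, (.step [5, 7, 4, 9] .fail)), (1, (.step [6, 4, 4, 7, 10] (.step [8, 11, 8, 12] .fail))), (1, (.step [4, 10, 5, 11, 4] .fail)), (1, (.step [5, 8, 4, 6] (.step [8, 13, 10, 13] .fail))), (1, (.step [6, 8, 8, 5] .fail)), (1, .fail), (1, (.step [6, 11, 7, 8] (.step [8, 10, 10, 8, 10, 9] .fail))),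 (1, .fail), (1, (.step [6, 11, 7, 8] (.step [8, 10, 10, 8, 10, 9] .fail))), (2, .fail), (1, (.step [5, 11, 7, 4] (.step [10, 13, 10, 12] .fail))), (1, (.step [7, 5, 11, 8, 10] .fail)), (1, .fail), (1, (.step [7, 5, 11, 8, 10] .fail)), (1, (.step [4, 11, 9] (.step [9, 11, 12, 11, 12] .fail))), (1, (.step [6, 6, 11] .fail)), (1, (.step [4, 8, 4, 9] .fail)), (1, (.step [6, 6, 11] .fail)), (1, (.step [4, 11, 9] (.step [9, 11, 12, 11, 12] .fail))), (1, (.step [4, 4, 8, 11, 5] .fail)), (1, (.step [5, 5, 11, 7] (.step [8, 10, 13, 10, 9] .fail))), (1, (.step [5, 8, 10, 5, 6] .fail)), (1, .fail), (1, (.step [7, 7, 10, 8] .fail)), (1, .fail), (1, (.step [6, 11, 8, 8, 5] .fail)), (1, (.step [6, 9, 7, 4] .fail)), (1, (.step [4, 6, 6, 11, 4] .fail)), (1, .fail), (1, (.step [4, 8, 5, 7, 5] (.step [9, 10, 8, 11, 8] .fail))), (1, (.step [4, 10, 7, 4, 10] .fail)), (1, .fail), (2, (.step [4, 8, 11, 6, 10] .fail)),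 (1, (.step [5, 11, 7, 4] (.step [10, 13, 10, 12] .fail))), (1, .fail), (1, (.step [4, 8, 5, 7, 5] (.step [9, 10, 8, 11, 8] .fail))), (1, (.step [6, 11, 6, 8] .fail)), (1, (.step [4, 10, 8, 4, 6] .fail)), (1, (.step [5, 9, 11, 4, 8] .fail)), (1, .fail), (1, (.step [6, 8, 11] .fail)), (1, .fail), (1, (.step [5, 10, 4, 4] .fail)), (1, (.step [4, 8, 10, 4] .fail)), (1, .fail), (1, (.step [4, 9, 10, 7] .fail)), (1, (.step [4, 6, 11, 4, 4] (.step [9, 9, 11, 8, 11] .fail))), (1, (.step [4, 9, 10, 7] .fail)), (1, (.step [4, 7, 5, 8, 5] (.step [10, 9, 9, 13] .fail))), (1, .fail), (1, (.step [4, 8, 4, 10, 6] .fail)), (1, (.step [6, 8, 5] .fail)), (1, (.step [5, 9, 9, 4] .fail)), (3, .fail), (2, (.step [5, 6, 6, 8, 4] .fail)), (2, .fail), (1, (.step [4, 10, 8, 7, 4] .fail)), (1, .fail), (1, (.step [4, 8, 5, 8, 4] .fail)), (1, (.step [5, 10, 7, 4, 11] .fail)), (1, (.step [6, 4] .fail)), (2, (.step [6, 11,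 7, 8] (.step [9, 11, 8, 10, 10] .fail))), (1, (.step [6, 6, 6, 6, 5] (.step [8, 10, 13, 9, 13] .fail))), (1, (.step [5, 9, 10] .fail)), (1, (.step [4, 9, 6, 10, 7] .fail)), (1, .fail), (2, (.step [4, 11, 7, 11] (.step [11, 8, 10, 9] .fail))), (1, (.step [4, 10, 10, 8, 4] .fail)), (1, .fail), (1, (.step [7, 5, 5] (.step [11, 13, 9] .fail))), (1, (.step [4, 8, 8, 4] (.step [8, 12, 8] .fail))), (1, .fail), (1, (.step [4, 6, 11, 11] .fail)), (1, (.step [5, 11, 7, 4] .fail)), (1, (.step [5, 8, 10, 4, 8] .fail)), (1, (.step [4, 7, 9, 9, 5] .fail)), (1, .fail), (1, (.step [4, 7, 9, 9, 5] .fail)), (1, .fail), (1, (.step [4, 4, 6, 10, 9] .fail)), (3, .fail), (1, (.step [4, 9, 9, 11, 5] (.step [8, 12, 8, 10] .fail))), (2, .fail), (1, (.step [7, 4, 7, 9] .fail)), (1, (.step [4, 6, 5, 10] .fail)), (1, .fail), (1, (.step [6, 6, 6, 8, 10] (.step [8, 13, 9, 11, 9] .fail))), (1, (.step [6, 9, 4, 9] .fail)), (1,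 (.step [4, 11, 7, 10, 6] (.step [10, 12, 8] .fail))), (1, (.step [6, 8, 7, 5] .fail)), (1, (.step [6, 5, 7, 9] .fail)), (1, .fail), (1, (.step [4, 8, 4] (.step [11, 9, 9] .fail))), (1, (.step [4, 4, 6, 9, 9] .fail)), (1, .fail), (1, (.step [5, 9, 6, 9, 11] (.step [11, 8, 10, 8] .fail))), (1, (.step [4, 9, 9, 11, 5] (.step [8, 12, 11, 9] .fail))), (1, (.step [4, 11, 5, 10, 7] .fail)), (1, (.step [7, 7, 4, 10] (.step [8, 13, 10, 12] (.step [14, 13] (.badAt 1))))), (1, .fail), (1, (.step [4, 8, 11, 8, 5] .fail)), (2, .fail), (1, (.step [4, 10, 7, 10, 4] (.step [8, 12, 10, 13, 8] .fail))), (1, .fail), (1, (.step [4, 6, 10, 7, 5] (.step [8, 8, 13, 8] .fail))), (1, (.step [6, 6, 8, 6] .fail)), (3, .fail), (2, (.step [6, 5, 5, 9, 6] .fail)), (1, (.step [4, 4, 8, 7, 11] .fail)), (2, .fail), (1, (.step [4, 4, 7, 10] .fail)), (2, .fail), (1, (.step [4, 6, 9, 9, 7] (.step [8, 12, 10, 9] .fail))), (1, (.step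 [4, 8, 5, 9, 10] .fail)), (1, (.step [5, 8, 10, 4, 8] .fail)), (1, .fail), (1, (.step [4, 8, 7, 9, 6] .fail)), (1, .fail), (1, (.step [4, 10, 9, 10] .fail)), (1, .fail), (1, (.step [4, 8, 10, 5, 9] .fail)), (1, (.step [5, 7, 11, 6, 4] .fail)), (4, .fail), (2, (.step [5, 5, 7, 5, 8] (.step [9, 9, 11, 13] .fail))), (1, (.step [4, 11, 5, 10, 6] .fail)), (1, (.step [6, 11, 11] .fail)), (1, (.step [4, 4, 11, 8, 10] .fail)), (1, (.step [7, 5, 9, 7, 11] .fail)), (6, .fail), (1, (.step [4, 9, 11, 4, 10] .fail)), (3, .fail), (1, (.step [4, 6, 11, 9, 4] .fail)), (1, .fail), (1, (.step [6, 5, 11, 8, 10] .fail)), (1, (.step [4, 4, 11, 4, 11] .fail)), (1, (.step [7, 9, 4] .fail)), (1, (.step [6, 6, 9, 4] .fail)), (1, (.step [4, 8, 6, 11, 11] .fail)), (1, .fail), (1, (.step [4, 11, 4] .fail)), (4, .fail), (1, (.step [5, 8, 7, 5, 6] .fail)), (1, (.step [6, 5, 8] (.step [10, 9, 9, 10, 10] .fail))), (2, .fail),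 (1, (.step [4, 11, 11, 8] .fail)), (1, (.step [4, 4, 8, 10, 7] (.step [9, 10, 8, 8] .fail))), (1, (.step [5, 7, 10, 8, 5] .fail)), (1, (.step [7, 4, 8, 6] .fail)), (1, (.step [6, 6, 5] (.step [8, 11, 12, 10] .fail))), (1, (.step [4, 4, 4, 7, 5] .fail)), (1, .fail), (1, (.step [7, 10, 8, 5] (.step [8, 11, 11, 12] .fail))), (1, (.step [4, 7, 5, 11] .fail)), (1, (.step [4, 4, 8, 5, 5] .fail)), (1, .fail), (1, (.step [4, 4, 11, 11, 4] .fail)), (2, (.step [5, 6, 4, 7, 11] (.step [9, 10, 10, 12, 10] .fail))), (1, (.step [7, 5, 11, 6] .fail)), (4, .fail), (1, (.step [6, 11, 9, 10] .fail)), (1, (.step [4, 9, 7, 8, 7] (.step [10, 10, 10, 13, 11] (.step [12, 12, 15] (.badAt 1))))), (1, .fail), (1, (.step [5, 10, 9, 7, 4] .fail)), (1, (.step [6, 6, 4, 7, 10] (.step [10, 8, 8, 11, 11] .fail))), (1, (.step [6, 6, 4, 8] .fail)), (1, .fail), (1, (.step [4, 9, 6, 6, 6] .fail)), (1, (.step [5, 11, 5, 8] .fail)),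 (1, (.step [6, 5, 6, 10] .fail)), (1, (.step [5, 6, 4, 8, 11] .fail)), (2, (.step [4, 6, 10, 5, 7] (.step [10, 8, 10, 9] (.step [12, 14, 13] (.badAt 1))))), (1, .fail), (1, (.step [4, 10, 4, 10] .fail)), (1, (.step [4, 4, 11, 5] .fail)), (2, (.step [4, 4, 7, 7] .fail)), (1, .fail), (1, (.step [4, 8, 10, 9] .fail)), (1, (.step [4, 8, 11, 7] (.step [10, 8, 11, 9, 10] .fail))), (1, (.step [5, 10, 4, 11, 9] .fail)), (3, .fail), (1, (.step [5, 7, 4, 8] .fail)), (1, (.step [4, 7, 5, 5, 6] (.step [10, 9, 10, 12, 11] .fail))), (2, .fail), (1, (.step [5, 7, 4, 8] .fail)), (1, .fail), (1, (.step [6, 5, 6, 10] .fail)), (1, (.step [7, 4, 6, 4] (.step [11, 9, 9, 13, 11] .fail))), (1, (.step [4, 4, 4, 11] (.step [10] .fail))), (1, (.step [4, 9, 5, 5, 10] .fail)), (1, (.step [4, 4, 9, 4, 8] (.step [8, 10, 9, 10, 10, 12] .fail))), (2, .fail), (1, (.step [4, 7, 4, 11, 6] .fail)), (2, (.step [6, 4, 10, 9] .fail)),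 (1, (.step [4, 7, 10, 5, 8] .fail)), (1, (.step [7, 11, 8, 5] (.step [10, 10, 10, 12, 8] .fail))), (2, .fail), (1, (.step [4, 8, 10, 9, 10] (.step [8, 10, 9, 10] .fail))), (3, .fail), (1, (.step [7, 11, 6, 4] .fail)), (1, (.step [7, 11, 7, 7] .fail)), (1, (.step [6, 9, 7] .fail)), (4, .fail), (1, (.step [6, 9, 7, 4] .fail)), (1, (.step [7, 10, 7, 5] .fail)), (1, .fail), (1, (.step [7, 7, 7, 7] .fail)), (1, (.step [4, 10, 9, 10, 6] .fail)), (3, .fail), (1, (.step [5, 8, 6, 10] (.step [8, 11, 12, 10, 9] (.step [12, 14, 13, 14] (.badAt 1))))), (1, (.step [4, 4, 7, 5, 10] .fail)), (3, .fail), (1, (.step [4, 11, 7, 8, 5] (.step [10, 12, 11, 12] .fail))), (1, .fail), (1, (.step [5, 5, 11, 4, 10] .fail)), (5, .fail), (1, (.step [4, 11, 4, 7, 5] .fail)), (1, (.step [4, 9, 10, 10, 5] .fail)), (2, (.step [4, 4, 11, 11, 4] .fail)), (1, .fail), (1, (.step [4, 4, 4, 9, 7] (.step [11, 13, 11, 8] .fail))), (1,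 (.step [6, 10, 6, 5] .fail)), (3, .fail), (1, (.step [6, 4, 4, 6, 9] (.step [11, 11, 11, 12] (.step [14, 13] (.badAt 1))))), (1, .fail), (1, (.step [4, 4, 9, 11, 8] .fail)), (1, .fail), (1, (.step [7, 9, 7, 10] .fail)), (1, (.step [4, 4, 8, 11, 6] (.step [10, 13, 10, 8] .fail))), (1, .fail), (1, (.step [7, 4, 11] .fail)), (1, (.step [4, 11, 6, 4, 11] (.step [8, 10, 9] .fail))), (2, .fail), (1, (.step [4, 4, 6, 6, 4] .fail)), (1, (.step [6, 4, 11] .fail)), (4, .fail), (1, (.step [5, 7, 7, 7, 8] (.step [9, 13, 8, 11, 13] .fail))), (1, (.step [4, 4, 11, 8, 11] (.step [9, 13, 11, 8] .fail))), (1, (.step [4, 4, 11, 5, 8] .fail)), (1, .fail), (1, (.step [7, 5, 11, 8, 10] .fail)), (2, .fail), (1, (.step [4, 8, 6, 9, 7] .fail)), (2, .fail), (1, (.step [7, 9, 6, 5] .fail)), (2, .fail), (1, (.step [4, 8, 6, 9, 7] .fail)), (1, (.step [4, 8, 8, 10, 8] .fail)), (5, .fail), (1, (.step [4, 10, 9] .fail)), (1,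 (.step [4, 11, 9, 9, 7] .fail)), (1, .fail), (1, (.step [7, 9, 7, 10] .fail)), (1, (.step [5, 5, 7, 10, 4] .fail)), (1, .fail), (1, (.step [4, 7, 5, 7] .fail)), (1, .fail), (1, (.step [4, 4, 7, 5, 8] .fail)), (1, (.step [6, 5, 9] (.step [8, 11, 11] .fail))), (1, .fail), (1, (.step [4, 10, 6, 8, 4] (.step [8, 8, 8, 12] .fail))), (1, (.step [7, 7, 4, 11] .fail)), (1, (.step [6, 11, 8, 7] (.step [9, 12, 12] .fail))), (2, .fail), (1, (.step [4, 8, 8, 5, 7] .fail)), (1, .fail), (1, (.step [4, 8, 6, 11, 7] .fail)), (1, (.step [6] .fail)), (1, .fail), (1, (.step [4, 8, 4, 7, 7] .fail)), (1, (.step [7, 9, 7, 8] .fail)), (1, .fail), (1, (.step [4, 6, 11, 8, 8] .fail)), (1, (.step [5, 9, 10, 7, 5] .fail)), (1, (.step [7, 7] .fail)), (1, (.step [7, 10, 5, 11] .fail)), (2, (.step [5, 8, 7, 9, 5] .fail)), (1, .fail), (1, (.step [5, 5, 10, 6, 5] .fail)), (1, (.step [6, 4, 8, 11, 9] .fail)), (2, .fail), (1,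 (.step [5, 5, 11, 6] .fail)), (1, .fail), (1, (.step [6, 9, 6, 10, 5] .fail)), (4, .fail), (1, (.step [6, 9, 6, 10] .fail)), (2, .fail), (1, (.step [4, 10, 10, 10, 5] .fail)), (1, .fail), (1, (.step [6, 6, 8, 11, 5] (.step [8, 8, 10, 10, 12] .fail))), (1, (.step [5, 7, 11, 7, 10] .fail)), (1, (.step [4, 10, 7, 7] .fail)), (3, .fail), (1, (.step [4, 4, 8, 11, 5] (.step [8, 11, 13, 8, 10] .fail))), (1, (.step [4, 4, 9, 4, 4] (.step [8, 12, 10, 13, 8] .fail))), (2, (.step [7, 4, 9, 6] (.step [8, 10, 9, 10, 10] .fail))), (4, .fail), (1, (.step [7, 11, 5, 8] .fail)), (4, .fail), (1, (.step [6, 6, 9, 7] .fail)), (2, .fail), (1, (.step [7, 11, 8, 5] (.step [10, 10, 10, 12] (.step [14] (.badAt 1))))), (4, .fail), (1, (.step [4, 6, 4, 6] .fail)), (2, .fail), (1, (.step [7, 10, 6, 5] .fail)), (1, (.step [4, 8, 6, 8] .fail)), (1, (.step [5, 5, 6, 5, 11] .fail)), (3, .fail), (1, (.step [4, 7, 9, 10, 6] (.step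 [9, 10, 12, 11, 8] .fail))), (1, (.step [5, 8, 10, 4, 7] .fail)), (1, .fail), (1, (.step [5, 7, 4] .fail)), (1, (.step [4, 4, 9, 11, 5] .fail)), (1, (.step [4, 7, 8, 6, 10] .fail)), (1, (.step [4, 8, 5, 11, 4] .fail)), (2, .fail), (1, (.step [4, 4, 6, 11, 9] .fail)), (1, (.step [4, 11, 11, 9] (.step [11, 8, 11, 11] .fail))), (1, (.step [4, 11, 7, 8, 5] (.step [9, 12, 12] .fail))), (2, .fail), (1, (.step [5, 9, 7, 10] .fail)), (3, .fail), (2, (.step [5, 9, 4, 7, 5] (.step [8, 11, 13, 9, 12] .fail))), (1, (.step [4, 9, 10, 9, 9] .fail)), (1, (.step [4, 4, 9, 6] (.step [11, 13, 11, 8, 10] .fail))), (2, .fail), (1, (.step [4, 7, 4, 4, 7] .fail)), (2, .fail), (1, (.step [5, 8, 7, 9] .fail)), (1, (.step [4, 4, 6, 10] .fail)), (1, (.step [5, 7, 4, 4] .fail)), (2, (.step [6, 6, 4, 9] .fail)), (2, (.step [7, 10, 4, 6] .fail)), (2, .fail), (1, (.step [7, 10, 7, 5] .fail)), (1, .fail), (1, (.step [5, 6,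 8, 7, 4] .fail)), (1, (.step [7, 9, 4, 10] .fail)), (1, .fail), (1, (.step [4, 11, 4, 9, 4] .fail)), (2, (.step [7, 7, 5, 8] (.step [11, 9, 9, 11] .fail))), (2, .fail), (1, (.step [7, 8, 10, 10, 7] .fail)), (1, (.step [5, 6, 4, 10, 10] .fail)), (3, .fail), (1, (.step [4, 11, 5, 11, 4] .fail)), (1, (.step [6, 5, 7, 5, 8] .fail)), (1, (.step [7, 8, 7] .fail)), (1, (.step [4, 10, 6] (.step [11, 9] .fail))), (1, (.step [6, 10, 10, 7] (.step [8, 11, 8, 11, 11] .fail))), (1, (.step [6, 10, 5, 5] .fail)), (1, (.step [7, 4, 8, 4] (.step [8, 11, 9, 11, 8] .fail))), (1, (.step [4, 11, 4, 9, 6] .fail)), (1, (.step [4, 10, 9, 7, 8] .fail)), (1, (.step [5, 9, 5, 11, 5] (.step [10, 12, 11, 8, 10] .fail))), (2, .fail), (1, (.step [4, 8, 7, 8, 6] .fail)), (1, .fail), (1, (.step [4, 6, 4, 7, 7] .fail)), (1, (.step [4, 8, 7, 8, 6] .fail)), (1, (.step [4, 10, 7, 9, 4] (.step [8, 11, 12, 10, 13] .fail))), (1, (.step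 [4, 4, 11, 4, 7] (.step [8, 11, 8, 10] (.step [12, 15] (.badAt 1))))), (1, .fail), (1, (.step [5, 7, 5, 9] .fail)), (1, (.step [4, 8, 5] .fail)), (1, (.step [4, 9, 5, 10] .fail)), (1, (.step [4, 6, 11, 5, 11] .fail)), (1, .fail), (1, (.step [5, 8, 6, 5] (.step [11, 9, 13] (.step [12, 14] (.badAt 1))))), (1, .fail), (1, (.step [4, 4, 10, 5, 9] .fail)), (1, (.step [4, 10, 6, 9] .fail)), (2, .fail), (1, (.step [4, 6, 11, 6] .fail)), (1, .fail), (2, (.step [5, 5, 5, 8] (.step [8, 11, 13, 8, 10] .fail))), (1, (.step [6, 6, 11, 9] (.step [8, 8, 10, 9, 9] .fail))), (2, .fail), (1, (.step [6, 11, 6, 10] (.step [11, 9, 9, 12] .fail))), (1, .fail), (1, (.step [5, 9, 5] .fail)), (3, .fail), (1, (.step [5, 11, 7, 4] .fail)), (1, (.step [4, 4, 4, 6] .fail)), (1, .fail), (1, (.step [4, 7, 10, 8, 5] .fail)), (1, (.step [5, 10, 8, 11, 6] .fail)), (1, (.step [4, 6, 11] .fail)), (1, (.step [4, 8, 4, 4, 11] .fail)),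 (1, (.step [4, 7, 5, 10, 9] .fail)), (3, .fail), (1, (.step [7, 9, 10, 4] .fail)), (1, (.step [4, 8, 7, 8, 4] (.step [9, 11, 8, 10, 10, 8] (.step [12] (.badAt 1))))), (1, (.step [6, 4, 4, 7, 10] (.step [8, 11, 8, 12] .fail))), (1, (.step [5, 6, 9, 5, 6] .fail)), (1, (.step [4, 7, 4, 7, 10] .fail)), (1, (.step [4, 11, 11, 8] .fail)), (3, .fail), (1, (.step [4, 10, 4, 8, 10] .fail)), (1, (.step [6, 5, 6] .fail)), (1, .fail), (1, (.step [7, 5, 9] .fail)), (2, .fail), (1, (.step [4, 8, 11, 8, 5] .fail)), (1, (.step [7, 7, 4, 10] (.step [8, 13, 10, 12] (.step [14, 13] (.badAt 1))))), (1, .fail), (1, (.step [7, 11, 11] .fail)), (1, (.step [7, 4, 9, 6] .fail)), (1, .fail), (1, (.step [6, 8, 5, 6] .fail)), (1, (.step [4, 4, 4, 6, 6] (.step [9, 10, 8, 8, 8] .fail))), (1, (.step [5, 6, 5, 6] .fail)), (1, (.step [4, 8, 7, 7, 4] .fail)), (1, (.step [4, 4, 9, 10] .fail)), (1, (.step [6, 4, 8, 7] .fail)), (1,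 .fail), (1, (.step [4, 4, 9, 11] .fail)), (1, (.step [4, 7, 5, 6, 6] .fail)), (2, .fail), (1, (.step [5, 9, 6, 6] .fail)), (1, (.step [6, 5, 7, 11, 6] .fail)), (1, .fail), (1, (.step [4, 6, 9, 4, 7] .fail)), (2, .fail), (1, (.step [6, 4, 7, 4, 6] .fail)), (1, (.step [7, 5, 5] (.step [11, 13, 9] .fail))), (1, (.step [4, 9, 7, 5] .fail)), (3, .fail), (1, (.step [4, 9, 6, 10, 6] .fail)), (2, .fail), (1, (.step [4, 6, 6, 4] .fail)), (8, .fail), (1, (.step [4, 10, 7] (.step [10, 9, 10, 8, 12] .fail))), (4, .fail), (1, (.step [7, 11, 8, 6] .fail)), (1, (.step [5, 9, 6, 6, 5] (.step [9, 13, 11, 11] .fail))), (1, (.step [5, 8, 7, 7, 7] .fail)), (3, .fail), (1, (.step [5, 6, 4, 10, 5] (.step [8, 8, 10, 10, 12, 11] .fail))), (1, (.step [4, 4, 6, 4] (.step [11, 13, 11, 13] .fail))), (1, (.step [6, 8, 4, 8] .fail)), (1, (.step [6, 5, 7, 11] (.step [10, 8, 8, 13] .fail))), (1, (.step [5, 9, 5, 11] .fail)),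 (1, .fail), (1, (.step [7, 5, 7, 5] .fail)), (2, .fail), (1, (.step [4, 4, 6, 4, 8] .fail)), (1, .fail), (1, (.step [6, 10, 6, 4, 7] .fail)), (1, (.step [4, 4, 7, 8] .fail)), (1, (.step [4, 7, 7, 4, 11] .fail)), (1, (.step [4, 7, 4, 6] .fail)), (1, (.step [4, 10, 10, 10, 7] (.step [8, 8, 11, 9, 11] .fail))), (1, (.step [4, 4, 4, 6] .fail)), (1, (.step [7, 9, 5, 9] .fail)), (1, (.step [4, 9, 5, 6, 4] (.step [8, 12, 11, 11, 8] .fail))), (2, .fail), (1, (.step [4, 7, 10, 8, 6] (.step [8, 11, 12, 9, 10] .fail))), (1, .fail), (1, (.step [4, 4, 11, 8] .fail)), (1, .fail), (1, (.step [4, 4, 11, 8] .fail)), (2, .fail), (1, (.step [4, 8, 6, 5, 7] (.step [10, 10, 9, 10] (.step [15] (.badAt 1))))), (2, .fail), (1, (.step [4, 7, 5, 10, 9] (.step [10, 9, 9, 11, 13] (.step [] (.badAt 1))))), (1, (.step [4, 4, 8, 10, 4] .fail)), (2, (.step [7, 11, 9, 11, 6] .fail)), (1, .fail), (1, (.step [4, 8, 8, 10] .fail)),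 (1, (.step [6, 11, 8, 10] .fail)), (1, (.step [4, 9, 7, 4, 4] .fail)), (1, (.step [6, 9, 11, 9] (.step [10, 8, 10, 13, 8] .fail))), (1, (.step [5, 8, 4, 6] (.step [9, 11, 9] .fail))), (1, (.step [7, 10, 5, 11] .fail)), (1, (.step [4, 7, 8, 6, 11] .fail)), (1, (.step [7, 9, 4] .fail)), (3, .fail), (1, (.step [6, 5, 7, 5, 8] .fail)), (5, .fail), (1, (.step [4, 8, 10, 6] .fail)), (1, (.step [4, 4, 11, 11, 9] .fail)), (10, .fail), (1, (.step [4, 9, 5, 6, 4] (.step [8, 12, 11, 11, 8] .fail))), (1, (.step [5, 5, 9, 11] .fail)), (1, (.step [6, 11, 5] (.step [11, 12, 12, 9] .fail))), (1, (.step [4, 7, 5, 11, 5] (.step [8, 11, 8, 8] .fail))), (1, (.step [5, 5, 9, 11] .fail)), (1, (.step [6, 5, 8, 8] .fail)), (1, (.step [4, 4, 6, 6, 9] .fail)), (1, (.step [4, 4, 4, 11, 11] .fail)), (1, (.step [4, 4, 11, 7] .fail)), (2, .fail), (1, (.step [5, 11, 5, 8] .fail)), (1, .fail), (1, (.step [4, 8, 4, 9] .fail)),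 (2, .fail), (1, (.step [5, 11, 5, 8] .fail)), (1, (.step [5, 7, 8, 11] (.step [10, 8, 11] .fail))), (1, (.step [4, 8, 4] (.step [11, 9, 9] .fail))), (4, .fail), (1, (.step [4, 9, 7, 11, 6] .fail)), (1, .fail), (1, (.step [5, 7, 10, 8, 5] .fail)), (1, (.step [5, 10, 4, 9, 9] .fail)), (1, (.step [6, 5, 5, 9, 6] .fail)), (1, (.step [4, 8, 10, 4] .fail)), (1, (.step [4, 4, 8, 4, 8] .fail)), (1, .fail), (1, (.step [4, 9, 5, 8] .fail)), (2, .fail), (1, (.step [7, 11, 9, 11] (.step [8, 11, 8] .fail))), (1, (.step [4, 4, 11, 8, 10] .fail)), (1, (.step [6, 6, 4, 6] .fail)), (1, .fail), (1, (.step [5, 9, 10, 8, 7] (.step [10, 12, 8, 12] .fail))), (1, (.step [5, 9, 7, 11] (.step [8, 8, 13] .fail))), (1, (.step [4, 9, 6, 4, 8] .fail)), (1, .fail), (2, (.step [4, 4, 6, 4, 4] (.step [11, 11, 11, 12] .fail))), (1, (.step [6, 11, 7, 8] (.step [8, 10, 10, 8, 10, 9] .fail))), (2, .fail), (1, (.step [4, 4, 8, 11]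 .fail)), (1, .fail), (1, (.step [7, 7, 7, 8] .fail)), (1, (.step [4, 4, 7, 9, 11] .fail)), (1, .fail), (1, (.step [4, 6, 5, 6, 8] .fail)), (1, (.step [5, 9] .fail)), (1, (.step [4, 4, 6, 4, 9] .fail)), (1, (.step [5, 10, 6, 9] .fail)), (1, (.step [4, 6, 8, 11, 11] .fail)), (1, (.step [4, 6, 8, 11, 5, 10] .fail)), (1, .fail), (1, (.step [6, 10, 7, 9] (.step [9, 11, 12, 12] .fail))), (1, (.step [4, 11, 7, 11] (.step [11, 8, 10, 9] .fail))), (1, (.step [4, 8, 5, 10] .fail)), (1, .fail), (1, (.step [5, 7, 5, 5, 6] .fail)), (1, (.step [4, 4, 4, 8, 6] .fail)), (1, (.step [6, 4, 4, 10] .fail)), (1, (.step [6, 5, 7, 11, 6] (.step [8, 11, 9, 10, 12] (.step [12, 12, 14] (.badAt 1))))), (1, (.step [4, 7, 8, 4] .fail)), (1, (.step [4, 7, 7, 11, 7] .fail)), (1, (.step [4, 9, 10, 10, 5] (.step [8, 10, 13, 11] .fail))), (1, (.step [5, 10] .fail)), (1, (.step [7, 9, 5, 10] .fail)), (3, .fail), (1, (.step [6,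 4, 6, 5] (.step [8, 12, 12, 9] .fail))), (2, .fail), (1, (.step [4, 11, 7, 4, 4] (.step [11, 13, 11, 8, 12] .fail))), (1, (.step [6, 8, 6, 9] .fail)), (1, (.step [4, 10, 8, 4, 6] .fail)), (1, (.step [4, 10, 5, 11] .fail)), (1, (.step [5, 11, 9, 10, 5] (.step [8, 13, 10, 13] .fail))), (1, (.step [6, 4, 7, 10, 6] .fail)), (1, (.step [5, 6, 4, 6] (.step [9, 11, 8, 11, 11] .fail))), (1, (.step [4, 9, 7, 11, 6] (.step [11, 9, 9, 11] (.step [12, 12, 14, 13, 14] (.badAt 1))))), (1, (.step [4, 8, 7, 5, 6] (.step [11, 9] .fail))), (1, .fail), (1, (.step [5, 11, 9, 5, 6] (.step [10, 13, 9, 10] .fail))), (1, .fail), (1, (.step [4, 10, 7, 5] .fail)), (1, (.step [4, 6, 4, 10] .fail)), (1, .fail), (1, (.step [5, 6, 5, 6] (.step [9, 10, 10, 9, 13] (.step [12, 12, 14, 13, 14] (.badAt 1))))), (1, .fail), (1, (.step [4, 8, 5, 8, 4] .fail)), (1, (.step [4, 4, 11, 11, 9] .fail)), (1, (.step [7, 8, 7, 7] .fail)),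 (1, (.step [4, 7] .fail)), (1, (.step [4, 7, 10, 7, 11] .fail)), (1, (.step [6, 8, 4] .fail)), (1, (.step [4, 6, 6, 10, 10] .fail)), (2, .fail), (1, (.step [5, 8, 4, 9, 6] .fail)), (1, .fail), (1, (.step [4, 10, 7, 11, 8] .fail)), (1, (.step [5, 8, 11, 8] (.step [11, 8, 12, 12, 8] .fail))), (1, (.step [4, 6, 5, 7, 7] .fail)), (1, .fail), (1, (.step [4, 8, 5, 9] .fail)), (1, (.step [4, 4, 7, 4, 6] (.step [9, 10, 12, 9, 11] .fail))), (1, (.step [5, 11, 6, 5, 6] (.step [11, 12, 10, 12] (.step [12, 15, 12] (.badAt 1))))), (1, (.step [5, 9, 11, 4, 8] .fail)), (1, (.step [5, 6, 9, 11, 5] .fail)), (1, .fail), (1, (.step [4, 8, 10, 5, 6] (.step [8, 8, 11, 8, 11] .fail))), (1, (.step [5, 6, 4, 10, 4] (.step [9, 11, 8] .fail))), (1, (.step [5, 10, 7, 4, 11] .fail)), (1, (.step [4, 6, 8, 8, 5] .fail)), (3, .fail), (1, (.step [4, 6, 5, 7, 5] .fail)), (1, .fail), (1, (.step [4, 6, 5, 7, 5] .fail)), (1, (.step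 [5, 5, 5, 8, 4] .fail)), (1, (.step [4, 4, 9, 11, 4] .fail)), (1, (.step [4, 9, 6, 10, 7] .fail)), (2, .fail), (1, (.step [4, 7, 11, 6, 6] .fail)), (1, .fail), (1, (.step [6, 6, 10, 6] .fail)), (1, .fail), (1, (.step [5, 6, 6, 8, 6] .fail)), (1, .fail), (1, (.step [6, 4, 6, 5] .fail)), (1, (.step [4, 6, 11, 8, 4] .fail)), (1, (.step [5, 9, 5, 8] .fail)), (1, (.step [7, 11, 8, 7] .fail)), (1, (.step [4, 9, 10] (.step [11, 9, 9, 11] .fail))), (1, (.step [5, 5, 5, 10, 9] (.step [11, 8, 10, 13, 10] .fail))), (3, .fail), (1, (.step [4, 9, 5, 10] .fail)), (1, .fail), (1, (.step [6, 5, 7, 10, 6] .fail)), (1, .fail), (1, (.step [7, 8, 5, 9] .fail)), (1, (.step [5, 10, 5, 9] .fail)), (1, (.step [6, 4, 8, 6, 6] .fail)), (2, .fail), (1, (.step [4, 7, 5, 8, 4] .fail)), (1, .fail), (1, (.step [4, 10, 4, 11] (.step [9, 10, 12] (.step [12, 12, 15, 12] (.badAt 1))))), (1, (.step [7, 5, 9, 7, 11] .fail)), (1,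 .fail), (1, (.step [4, 6, 11, 5, 11] .fail)), (1, (.step [4, 10, 5] .fail)), (1, (.step [6, 6, 6, 8] .fail)), (1, (.step [5, 5, 7, 5, 8] (.step [9, 9] .fail))), (1, (.step [6, 5, 8] (.step [10, 9, 9, 10, 10] .fail))), (1, (.step [5, 6, 9, 6] (.step [9, 12, 8, 12] .fail))), (1, .fail), (1, (.step [4, 7, 8, 11] .fail)), (2, .fail), (1, (.step [5, 7, 11, 4, 9] (.step [11, 11, 8, 13] .fail))), (1, .fail), (1, (.step [5, 8, 5, 6, 6] .fail)), (2, .fail), (1, (.step [5, 6, 5, 6] .fail)), (1, (.step [5, 11, 6] .fail)), (1, (.step [4, 11, 4] .fail)), (1, (.step [5, 9, 10] .fail)), (1, (.step [6, 5, 6, 9, 5] .fail)), (1, (.step [4, 6, 6, 9, 11] .fail)), (1, (.step [6, 11, 7] (.step [11, 13, 9, 13] (.step [12, 12, 14, 13] (.badAt 1))))), (1, (.step [4, 11, 4, 9, 10] .fail)), (1, (.step [5, 9, 5, 8] .fail)), (1, .fail), (1, (.step [7, 11, 4] (.step [8, 10, 10, 10] .fail))), (1, .fail), (1, (.step [4, 7, 10]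 (.step [8, 10, 9, 10] .fail))), (1, (.step [4, 8, 10, 8, 11] .fail)), (1, (.step [4, 8, 4, 10, 8] (.step [10, 10, 10, 10] .fail))), (4, .fail), (1, (.step [6, 8, 6, 4] .fail)), (1, (.step [5, 8, 11, 4, 10] (.step [10, 9, 10, 10] .fail))), (1, (.step [6, 10, 5, 5] .fail)), (1, (.step [4, 9, 9, 11, 5] (.step [8, 12, 8, 10] .fail))), (1, (.step [4, 4, 7, 8, 8] (.step [11] .fail))), (1, (.step [4, 9, 10, 7, 9] (.step [9, 10, 12] .fail))), (1, (.step [4, 9, 7, 10, 5] .fail)), (1, (.step [4, 10, 10, 6, 11] .fail)), (1, (.step [4, 11, 9, 4] .fail)), (1, (.step [5, 9, 10, 7, 7] .fail)), (4, .fail), (1, (.step [6, 9, 11, 7] .fail)), (1, .fail), (1, (.step [7] (.step [9, 11, 12, 9, 10] .fail))), (1, (.step [5, 6, 6, 8, 4] .fail)), (1, (.step [7, 8, 11, 6] (.step [11, 9, 11, 11, 8] .fail))), (1, (.step [4, 6, 4, 7, 8] (.step [8, 8, 11, 11] .fail))), (1, (.step [4, 6, 9, 11] .fail)), (1, .fail), (1, (.step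 [4, 8, 5, 8, 4] .fail)), (1, (.step [6, 4, 7, 4] .fail)), (1, .fail), (1, (.step [4, 6, 11, 6, 8] (.step [8, 11, 11, 11] (.step [12, 12, 14, 13, 14] (.badAt 1))))), (2, .fail), (1, (.step [7, 7, 5, 10, 9] (.step [11, 8, 10, 13, 10] .fail))), (1, .fail), (1, (.step [7, 9, 10, 4] .fail)), (4, .fail), (1, (.step [4, 6, 11, 9, 4] (.step [8, 11, 8, 11, 11, 12] .fail))), (1, (.step [5, 5, 6, 4] (.step [8, 8, 8, 11, 11, 8] (.step [12, 14, 13, 14] (.badAt 1))))), (3, .fail), (1, (.step [4, 9, 11, 7] (.step [9, 13, 8, 11, 9] .fail))), (1, (.step [4, 11, 7, 8, 7] .fail)), (1, .fail), (1, (.step [5, 5, 7, 5, 8] .fail)), (6, .fail), (1, (.step [5, 6, 8, 10, 7] .fail)), (1, .fail), (1, (.step [4, 4, 8, 6, 4, 10] .fail)), (1, (.step [4, 4, 4, 7, 5] .fail)), (1, (.step [4, 8, 5, 11] .fail)), (1, (.step [4, 6, 10, 7, 5] .fail)), (1, (.step [4, 4, 11, 9, 5] .fail)), (1, (.step [7, 8, 10, 7] .fail)), (1, (.step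 [4, 10, 9, 11, 6] (.step [9, 10, 12, 11, 8] .fail))), (2, .fail), (1, (.step [4, 6, 5, 7, 7] .fail)), (1, .fail), (1, (.step [4, 7, 5, 11, 9] .fail)), (2, .fail), (1, (.step [5, 8, 4, 9] (.step [8, 8, 10, 12, 8] .fail))), (5, .fail), (1, (.step [6, 4, 11, 11] (.step [8, 8, 11, 8, 11, 11] .fail))), (2, .fail), (1, (.step [7, 10, 6, 11] (.step [8, 10, 12, 8] .fail))), (2, .fail), (1, (.step [6, 6, 10, 6] .fail)), (1, (.step [6, 6, 9, 6, 4] .fail)), (1, (.step [4, 6, 8, 8] .fail)), (1, (.step [4, 6, 11, 7, 10] .fail)), (1, (.step [6, 9, 9] .fail)), (1, (.step [6, 6, 6, 8, 10] (.step [8, 13, 9, 11, 9] .fail))), (1, (.step [4, 4, 6, 4, 8] (.step [10, 12, 12] .fail))), (1, (.step [4, 8, 7, 11] .fail)), (3, .fail), (1, (.step [4, 7, 5, 10] (.step [11, 11, 12] .fail))), (1, (.step [4, 11, 6, 6, 9] (.step [9, 12, 12] .fail))), (9, .fail), (1, (.step [4, 10, 7, 9, 4] .fail)), (1, .fail), (1, (.step [7,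 10, 5, 5] .fail)), (1, (.step [7, 11, 4, 8] .fail)), (2, .fail), (1, (.step [6, 4, 11, 6] .fail)), (2, .fail), (1, (.step [5, 10, 8, 11] .fail)), (1, (.step [5, 7, 8, 8] .fail)), (1, (.step [7, 11, 9, 7] .fail)), (1, (.step [5, 11, 11, 4] .fail)), (1, .fail), (1, (.step [5, 10, 5, 9] .fail)), (1, (.step [7, 11, 6, 9] .fail)), (1, (.step [6, 9, 9, 6, 8] .fail)), (2, .fail), (1, (.step [4, 6, 9, 6, 10] (.step [9, 13, 11, 13, 10] .fail))), (1, (.step [4, 8, 6, 11, 11] .fail)), (2, .fail), (1, (.step [4, 8, 8, 10, 9] .fail)), (3, .fail), (1, (.step [5, 11, 7, 4] (.step [10, 13, 10, 12] .fail))), (1, .fail), (1, (.step [4, 8, 5, 8, 4] .fail)), (1, (.step [6, 4, 7, 8, 11] (.step [11, 9, 12, 10, 10] .fail))), (4, .fail), (1, (.step [5, 6, 9, 9, 6] .fail)), (1, (.step [5, 7, 7, 10] .fail)), (1, .fail), (1, (.step [4, 4, 4, 9, 9] .fail)), (1, (.step [5, 6, 8, 6, 9] (.step [8, 11, 12, 10, 9] .fail))), (1,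 (.step [4, 6, 10, 5, 6] .fail)), (1, .fail), (1, (.step [4, 7, 5, 10] (.step [11, 11, 12] .fail))), (1, (.step [6, 5] (.step [11, 13, 9, 10, 10] (.step [12, 14, 13, 14] (.badAt 1))))), (1, (.step [5, 9, 7, 11, 5] .fail)), (2, .fail), (1, (.step [4, 6, 5, 9, 6] .fail)), (1, (.step [6, 6, 9, 4] .fail)), (2, .fail), (1, (.step [5, 6, 4, 10, 4] .fail)), (1, (.step [5, 10, 8, 8, 8] (.step [8, 11, 9, 12] .fail))), (2, .fail), (1, (.step [7, 7, 5, 8] .fail)), (1, (.step [4, 11, 4, 11] .fail)), (1, .fail), (1, (.step [7, 9, 7, 7] (.step [8, 11, 11, 11, 8] (.step [12, 14, 13, 14] (.badAt 1))))), (1, .fail), (1, (.step [5, 8, 11, 8] .fail)), (1, (.step [4, 8, 10, 10] .fail)), (1, (.step [4, 4, 8, 4] .fail)), (1, (.step [4, 11, 7, 5, 5] .fail)), (2, .fail), (1, (.step [6, 8, 8, 7] .fail)), (1, (.step [7, 9, 10] .fail)), (1, (.step [5, 6, 4, 10] .fail)), (2, .fail), (1, (.step [6, 11, 6, 8] .fail)), (6, .fail),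 (1, (.step [4, 7, 9, 9, 5] .fail)), (1, (.step [4, 6, 11, 7, 9] (.step [8, 11, 11] .fail))), (1, .fail), (1, (.step [6, 11, 7, 7] .fail)), (2, .fail), (1, (.step [4, 7, 4, 7, 10] .fail)), (1, (.step [5, 9, 10, 8, 7] .fail)), (1, (.step [4, 6, 9, 5, 8, 7] .fail)), (1, (.step [4, 11, 4] .fail)), (1, (.step [4, 4, 9, 11, 4] .fail)), (2, .fail), (1, (.step [4, 8, 6, 9, 7] .fail)), (1, .fail), (1, (.step [6, 5, 5, 6] .fail)), (1, (.step [5, 7, 4, 9] .fail)), (1, (.step [4, 8, 7, 11, 11] .fail)), (1, (.step [4, 4, 7, 4, 4] .fail)), (1, (.step [4, 7, 9, 9] .fail)), (1, (.step [4, 7, 7, 4, 4] .fail)), (1, (.step [4, 8, 7, 11, 6] (.step [9, 10, 10, 9, 10] .fail))), (2, .fail), (1, (.step [5, 7, 9, 9, 10] (.step [11, 8, 13] .fail))), (1, (.step [4, 10, 10, 8] (.step [8, 11] .fail))), (2, .fail), (1, (.step [4, 4, 6, 5, 11] .fail)), (1, .fail), (1, (.step [6, 5, 7, 4, 11] .fail)), (1, .fail), (1, (.step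 [4, 10, 7, 7, 8] .fail)), (1, (.step [6, 9, 11, 7] .fail)), (2, .fail), (1, (.step [6, 4, 11, 6] .fail)), (1, .fail), (1, (.step [5, 7, 5] .fail)), (1, (.step [4, 6, 11, 11] .fail)), (1, .fail), (1, (.step [4, 4, 8, 11, 5] .fail)), (2, .fail), (1, (.step [4, 10, 7, 4, 10] .fail)), (2, (.step [4, 4, 10, 10] .fail)), (1, .fail), (1, (.step [5, 7, 11, 6, 4] .fail)), (1, (.step [7, 7, 10, 6] .fail)), (1, (.step [4, 10, 4, 6, 11] .fail)), (1, (.step [6, 5, 7, 4] .fail)), (1, (.step [6, 11, 6, 5] .fail)), (1, (.step [4, 4, 9, 4, 4] (.step [8, 12, 10, 13, 8] .fail))), (2, .fail), (1, (.step [4, 7, 5, 7] .fail)), (1, .fail), (1, (.step [4, 10, 9, 10, 6] .fail)), (1, (.step [4, 8, 7, 11, 4] .fail)), (1, (.step [4, 10, 7, 8] (.step [10, 13, 10, 8] .fail))), (1, .fail), (1, (.step [6, 10, 6, 5] .fail)), (1, .fail), (1, (.step [5, 6, 6, 9, 9] (.step [8, 11, 12, 10, 13] (.step [14, 13] (.badAt 1))))), (1,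 (.step [7, 9, 7, 9] .fail)), (1, (.step [4, 10, 8, 7, 5] .fail)), (1, (.step [6, 11, 8, 8] (.step [11, 13, 10] .fail))), (1, (.step [4, 6, 11, 4, 4] (.step [9, 9, 11, 8, 11] .fail))), (2, .fail), (1, (.step [4, 8, 7] .fail)), (3, .fail), (1, (.step [5, 6, 4, 4, 9] .fail)), (1, (.step [4, 8, 10, 5, 9] .fail)), (1, .fail), (1, (.step [4, 6, 10, 5, 7] .fail)), (1, (.step [7, 7, 4, 10] (.step [8, 12, 11, 8, 8, 8] .fail))), (1, .fail), (1, (.step [5, 6, 10, 8, 8] (.step [8, 12, 11, 8, 8] .fail))), (1, (.step [4, 9, 10, 7] .fail)), (1, (.step [4, 8, 6, 10, 7] .fail)), (2, .fail), (1, (.step [4, 10, 10, 7, 8] .fail)), (1, (.step [4, 8, 6, 4] .fail)), (1, .fail), (1, (.step [6, 6, 9, 5] (.step [11, 9, 9, 11] .fail))), (2, .fail), (1, (.step [4, 10, 10] (.step [9, 11] .fail))), (1, (.step [4, 4, 10, 4, 8] .fail)), (1, (.step [5, 10, 6, 11, 8] .fail)), (1, (.step [4, 6, 5, 7, 7] .fail)), (1, .fail), (1,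 (.step [5, 8, 7, 9, 5] .fail)), (1, (.step [5, 6, 9, 6, 5] .fail)), (2, .fail), (1, (.step [4, 11, 5, 10] (.step [10, 9, 9, 12, 10] .fail))), (1, .fail), (1, (.step [5, 7, 11, 6, 4] .fail)), (1, (.step [5, 7, 11, 6, 6] .fail)), (1, (.step [7, 9, 7, 8] .fail)), (1, .fail), (2, (.step [4, 7, 4, 4, 7] .fail)), (1, .fail), (1, (.step [4, 10, 10, 6] .fail)), (2, .fail), (1, (.step [6, 4, 9, 9] .fail)), (1, (.step [4, 6, 5, 10, 4] .fail)), (4, .fail), (1, (.step [4, 10, 5, 5, 11] (.step [11, 13, 9, 11] .fail))), (6, .fail), (1, (.step [5, 7, 9, 9, 10] (.step [11, 8, 8, 11, 11] .fail))), (1, (.step [7, 5, 11, 8, 8] .fail)), (1, .fail), (1, (.step [5, 8, 7, 9] .fail)), (1, (.step [4, 4, 8, 7, 11] .fail)), (1, (.step [4, 6, 11, 11] .fail)), (1, (.step [5, 5, 6, 10] (.step [8, 13, 9, 11, 8] .fail))), (1, (.step [4, 6, 4, 10, 7] .fail)), (1, .fail), (1, (.step [4, 8, 11, 8] .fail)), (1, (.step [5, 7, 4]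 .fail)), (3, .fail), (1, (.step [4, 9, 7, 4, 6] (.step [8, 10, 10, 9] .fail))), (2, .fail), (1, (.step [4, 8, 7, 8, 6] .fail)), (1, .fail), (1, (.step [5, 6, 4, 4, 6] .fail)), (1, (.step [4, 4, 4, 7, 5] .fail)), (1, (.step [6, 6, 5] (.step [8, 11, 12, 10] .fail))), (2, .fail), (1, (.step [5, 10, 5, 8, 6] .fail)), (1, (.step [6, 8, 4] .fail)), (2, .fail), (1, (.step [4, 8, 7, 10, 4] .fail)), (1, .fail), (1, (.step [4, 8, 11, 4, 7] .fail)), (4, .fail), (1, (.step [4, 8, 10, 8, 7] .fail)), (1, (.step [5, 7, 10, 4, 11] .fail)), (1, (.step [4, 4, 8, 7, 11] .fail)), (1, (.step [7, 4, 8, 11] .fail)), (1, (.step [4, 11, 9, 9, 6] .fail)), (2, .fail), (1, (.step [6, 8, 11, 11] .fail)), (1, .fail), (1, (.step [4, 11, 7, 11] .fail)), (1, (.step [5, 8, 11, 4] (.step [9, 12, 8, 10] .fail))), (1, (.step [4, 6, 9, 10, 8] .fail)), (1, (.step [4, 10, 7, 4, 10] .fail)), (1, (.step [7, 5, 9, 7] .fail)), (1, .fail),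 (1, (.step [4, 7, 11, 5, 6] (.step [11, 8, 12, 12] .fail))), (2, .fail), (1, (.step [5, 8, 11, 6] (.step [10, 8, 11] .fail))), (1, (.step [4, 6, 11, 6, 9] .fail)), (1, (.step [4, 9, 7, 4] .fail)), (1, (.step [4, 4, 4, 7, 5] .fail)), (1, (.step [4, 4, 9, 4, 7] (.step [8, 8, 11, 8, 10, 13] .fail))), (4, .fail), (1, (.step [6, 11, 8, 8] .fail)), (1, .fail), (1, (.step [7, 10, 5, 8] .fail)), (2, .fail), (1, (.step [5, 9, 6, 10] (.step [8, 13, 11, 12, 11] (.step [12, 12, 14, 13, 14] (.badAt 1))))), (1, (.step [6, 5, 5, 6] .fail)), (1, .fail), (1, (.step [6, 5, 8, 10] .fail)), (1, (.step [6, 6, 4, 6] (.step [10, 9, 10, 13] .fail))), (1, (.step [6, 6, 10, 9] .fail)), (1, .fail), (1, (.step [7, 8, 7] .fail)), (1, (.step [5, 5, 11, 7, 5] (.step [10, 9, 10, 12] .fail))), (1, .fail), (1, (.step [6, 10, 8, 6] .fail)), (1, (.step [4, 4, 10, 9, 7] .fail)), (1, (.step [5, 6, 10, 10, 6] .fail)), (1, (.step [5,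 11, 7, 4] .fail)), (1, (.step [4, 6, 5, 10, 8] .fail)), (2, .fail), (1, (.step [5, 11, 7, 5, 5] .fail)), (1, (.step [5, 5, 7, 10, 4] .fail)), (1, .fail), (1, (.step [5, 8, 6, 5] (.step [11, 9, 13] (.step [12, 14] (.badAt 1))))), (1, (.step [7, 5, 11, 8, 10] .fail)), (1, (.step [5, 11, 6, 6] .fail)), (2, .fail), (1, (.step [6, 6, 11] .fail)), (1, .fail), (1, (.step [4, 10, 8, 4] .fail)), (1, (.step [4, 10, 5, 5, 5] .fail)), (1, .fail), (1, (.step [7, 4, 8, 5] .fail)), (1, (.step [4, 10, 5, 5, 5] .fail)), (1, (.step [4, 6, 10, 5, 7] (.step [10, 12, 8] .fail))), (1, (.step [7, 10, 7, 11] .fail)), (1, .fail), (1, (.step [4, 7, 7, 10, 7] (.step [11, 8, 8, 8] .fail))), (1, (.step [5, 10, 7, 4, 11] .fail)), (1, .fail), (1, (.step [4, 7, 5, 8, 5] (.step [10, 9, 9, 13] .fail))), (1, (.step [4, 4, 7, 5, 10] .fail)), (2, .fail), (1, (.step [4, 4, 11, 11] (.step [10, 10, 10, 12] .fail))), (1, (.step [5, 6,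 4, 10] .fail)), (1, (.step [4, 9, 9, 11, 5] (.step [8, 12, 11, 9] .fail))), (1, (.step [5, 7, 5, 5, 9] .fail)), (1, .fail), (1, (.step [4, 9, 6, 6, 6] .fail)), (1, .fail), (1, (.step [4, 6, 8, 10, 6] .fail)), (1, (.step [4, 6, 8, 5, 5] .fail)), (1, .fail), (1, (.step [4, 7, 10, 9, 5] .fail)), (2, .fail), (1, (.step [4, 10, 5, 6, 5] .fail)), (1, (.step [4, 4, 10, 5] (.step [9, 12, 12] .fail))), (1, (.step [7, 11, 5, 8] (.step [9, 10, 8, 12, 10] .fail))), (1, (.step [6, 8, 5, 8, 5] (.step [9, 10, 12, 11, 8, 10] .fail))), (1, (.step [6, 4, 10, 10] (.step [10, 12, 11, 12] .fail))), (1, (.step [6, 9, 6, 10] .fail)), (1, (.step [4, 4, 6, 10] .fail)), (2, .fail), (1, (.step [5, 9, 4, 4] .fail)), (1, .fail), (1, (.step [4, 6, 5] .fail)), (1, .fail), (1, (.step [6, 11, 5, 8, 10] .fail)), (3, .fail), (1, (.step [6, 4, 4, 10] .fail)), (1, (.step [4, 10, 5, 7] .fail)), (1, (.step [5, 7, 10, 5] .fail)), (1,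 .fail), (1, (.step [6, 6, 9, 6] (.step [9, 13] .fail))), (1, (.step [4, 4, 9, 11, 8] .fail)), (1, (.step [5, 6, 6, 9] (.step [10, 13, 9, 11] .fail))), (2, .fail), (1, (.step [6, 6, 8] .fail)), (1, .fail), (1, (.step [6, 9, 5, 8] .fail)), (3, .fail), (1, (.step [4, 7, 4, 7, 10] .fail)), (1, (.step [5, 5, 9] .fail)), (1, (.step [7, 11, 6, 8] (.step [9, 13] (.step [12, 12, 15, 12] (.badAt 1))))), (1, (.step [6, 11, 8, 8, 5] .fail)), (1, .fail), (1, (.step [5, 8, 4, 6] (.step [8, 13, 10, 13] .fail))), (6, .fail), (1, (.step [6, 4, 8, 6, 6] (.step [8, 11, 9, 11, 11] .fail))), (1, (.step [4, 4, 11, 5, 8] .fail)), (1, (.step [6, 4, 10, 10] (.step [10, 12, 11, 12] .fail))), (1, (.step [4, 11, 6, 5] (.step [8, 13, 11, 12] .fail))), (1, (.step [4, 6, 11, 4, 4] (.step [9, 9, 11, 8, 11] .fail))), (1, (.step [4, 6, 6, 5, 10] (.step [10, 12, 11, 8, 11] .fail))), (1, (.step [4, 7, 5, 7, 8] (.step [8, 13, 10,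 9, 9] .fail))), (2, .fail), (1, (.step [4, 10, 7, 9, 4] .fail)), (1, (.step [4, 8, 6] .fail)), (2, .fail), (1, (.step [7, 4, 8, 6] .fail)), (1, .fail), (1, (.step [4, 8, 6, 10, 5] .fail)), (1, .fail), (1, (.step [5, 7, 11, 4, 11] .fail)), (1, .fail), (1, (.step [5, 8, 10, 4, 8] .fail)), (1, .fail), (1, (.step [6, 9, 4, 9] .fail)), (1, (.step [4, 6, 5, 11, 4] .fail)), (2, .fail), (1, (.step [6, 4, 10, 9] .fail)), (1, (.step [5, 6, 9, 11] (.step [8, 8, 10, 10, 8, 10] .fail))), (1, (.step [4, 7, 7, 4] .fail)), (1, (.step [4, 4, 10, 7, 10] .fail)), (1, (.step [4, 7, 9, 10] .fail)), (1, (.step [7, 4, 9, 4] (.step [9, 9, 11, 9, 11] .fail))), (1, (.step [4, 7, 9] .fail)), (1, .fail), (1, (.step [4, 8, 4, 7] (.step [11, 13, 8, 12] .fail))), (3, .fail), (1, (.step [7, 8] (.step [11, 8] .fail))), (1, (.step [4, 6, 9, 5, 8, 7] .fail)), (1, .fail), (1, (.step [4, 4, 9, 7] (.step [8, 13, 11, 11] .fail))),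 (1, (.step [5, 11, 6, 6] (.step [8, 10, 10] .fail))), (1, .fail), (1, (.step [6, 4, 8, 5, 7] .fail)), (1, (.step [4, 6, 4, 11, 4] .fail)), (2, .fail), (1, (.step [4, 7, 5, 6] .fail)), (1, (.step [4, 11, 5, 10, 7] .fail)), (1, (.step [5, 6, 5, 6] .fail)), (1, (.step [4, 6, 11, 7, 10] .fail)), (1, (.step [4, 4, 7, 10] .fail)), (1, (.step [7, 10, 8] .fail)), (1, (.step [4, 7, 10, 5] .fail)), (1, .fail), (1, (.step [5, 7, 9, 10, 6] .fail)), (3, .fail), (1, (.step [4, 7, 11, 4] .fail)), (2, .fail), (1, (.step [7, 5, 9, 7] (.step [8, 11, 12, 10, 9] .fail))), (1, (.step [4, 9, 7, 8, 5] .fail)), (2, .fail), (1, (.step [4, 7, 10, 4] (.step [11, 9, 12, 10, 12] .fail))), (1, (.step [5, 8, 10, 5, 6] .fail)), (1, (.step [4, 4, 4, 6, 8] .fail)), (1, (.step [6, 11, 8, 8, 5] .fail)), (1, (.step [5, 10, 4, 7] (.step [8, 10, 12, 10, 12] .fail))), (1, .fail), (1, (.step [5, 10, 4, 4] .fail)), (1, .fail), (1, (.step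 [4, 6, 11] .fail)), (1, (.step [4, 4, 7, 9, 7] .fail)), (1, (.step [4, 8, 10, 8] .fail)), (1, .fail), (1, (.step [4, 8, 11, 8, 5] .fail)), (1, (.step [] (.step [8, 10, 9] .fail))), (1, .fail), (1, (.step [6, 5, 5, 9] .fail)), (1, .fail), (1, (.step [5, 9, 6, 6, 5] .fail)), (1, (.step [4, 4, 6, 9, 9] .fail)), (1, (.step [6, 4, 8, 6, 6] .fail)), (4, .fail), (1, (.step [6, 4, 7, 10, 6] .fail)), (3, .fail), (1, (.step [5, 7, 10, 10] .fail)), (1, (.step [7, 7, 10, 8] .fail)), (1, .fail), (1, (.step [4, 7, 11, 8, 6] .fail)), (1, (.step [4, 8, 5, 10, 5] (.step [10, 8, 10] .fail))), (2, .fail), (1, (.step [4, 11, 11, 4, 6] .fail)), (2, .fail), (1, (.step [4, 8, 11, 7] .fail)), (1, (.step [5, 5, 7, 5, 8] (.step [9, 9, 11, 13] .fail))), (1, .fail), (1, (.step [4, 6, 9, 5, 8, 7] (.step [10, 8, 10, 12] .fail))), (1, (.step [4, 11, 11, 8, 4] (.step [11, 11, 9] .fail))), (1, (.step [4, 6, 4, 7, 7] .fail)),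 (1, .fail), (1, (.step [5, 5, 11, 5] .fail)), (2, .fail), (1, (.step [4, 8, 7, 9, 6] .fail)), (1, (.step [4, 7, 5, 10, 9] (.step [10, 9, 9, 11, 13] (.step [] (.badAt 1))))), (1, (.step [6, 8, 7] .fail)), (1, (.step [5, 7, 4, 4, 4] .fail)), (1, (.step [4, 7, 10, 4] .fail)), (1, .fail), (1, (.step [5, 7, 4, 6] .fail)), (3, .fail), (1, (.step [5, 8, 6] (.step [8, 10, 12, 8] (.step [12, 12, 14, 13] (.badAt 1))))), (2, .fail), (1, (.step [4, 8, 5, 7, 5] (.step [9, 10, 8, 11, 8] .fail))), (1, (.step [4, 6, 5, 8] (.step [9] .fail))), (1, .fail), (1, (.step [4, 10, 6, 10] .fail)), (1, (.step [4, 6, 4, 9, 10] .fail)), (1, (.step [4, 7, 5, 10, 9] .fail)), (1, (.step [4, 8, 11, 4, 7] .fail)), (1, .fail), (1, (.step [5, 7, 9, 11] (.step [9, 11, 11, 8, 10] .fail))), (1, (.step [7, 9, 7, 4, 4] .fail)), (1, (.step [5, 7, 9, 11] (.step [9, 11, 11, 8, 10] .fail))), (1, .fail), (1, (.step [5, 9, 9, 6, 11] .fail)),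 (1, .fail), (1, (.step [4, 4, 10, 10, 7] (.step [8, 8, 10, 9] .fail))), (1, (.step [4, 9, 6] .fail)), (3, .fail), (1, (.step [6, 8, 10, 8] (.step [8, 10, 12, 12] .fail))), (1, (.step [7, 9, 10, 4] .fail)), (1, (.step [4, 10, 10, 5, 5] (.step [9, 10, 8, 11, 12] .fail))), (1, (.step [7, 5] .fail)), (1, (.step [6, 6, 11] .fail)), (1, (.step [5, 7, 4, 9] .fail)), (2, .fail), (1, (.step [6, 6, 4, 8] (.step [10, 9, 9, 12] .fail))), (1, .fail), (1, (.step [7, 8, 10, 9] .fail)), (1, (.step [5, 9, 5, 6] .fail)), (1, (.step [4, 8, 4, 9] .fail)), (1, (.step [5, 5, 11, 7] (.step [8, 10, 13, 10, 9] .fail))), (1, (.step [5, 7, 4, 9] (.step [9, 13, 11, 13, 10] .fail))), (1, (.step [5, 10, 4, 7, 7] .fail)), (1, .fail), (1, (.step [4, 6, 6, 11, 4] .fail)), (1, (.step [4, 7, 4, 9, 5] .fail)), (2, .fail), (1, (.step [6, 9, 4, 9] .fail)), (1, (.step [4, 8, 11, 6, 10] .fail)), (1, .fail), (1, (.step [6, 11, 6, 8]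 .fail)), (2, .fail), (1, (.step [7, 11, 7] .fail)), (2, .fail), (1, (.step [7, 7, 8, 5] .fail)), (1, .fail), (2, (.step [6, 8, 5] .fail)), (1, .fail), (1, (.step [5, 7, 5, 5, 5] (.step [11, 13, 9, 10] .fail))), (1, .fail), (1, (.step [4, 6, 10, 5] .fail)), (1, (.step [4, 9, 6, 9] .fail)), (1, (.step [6, 5, 7, 11, 6] .fail)), (1, .fail), (1, (.step [7, 4, 6, 5] (.step [10, 8, 10, 8, 11] .fail))), (1, (.step [6, 11, 7, 8] (.step [9, 11, 8, 10, 10] .fail))), (3, .fail), (1, (.step [4, 11, 9, 7] .fail)), (1, (.step [6, 6, 9, 6, 4] .fail)), (1, (.step [4, 8, 8, 4] (.step [8, 12, 8] .fail))), (1, .fail), (1, (.step [7, 11, 8, 6] .fail)), (7, .fail), (1, (.step [6, 8, 7, 5] .fail)), (1, (.step [6, 11, 9, 4] .fail)), (1, .fail), (1, (.step [7, 7, 4, 10] (.step [8, 13, 10, 12] (.step [14, 13] (.badAt 1))))), (1, (.step [4, 8, 7] .fail)), (3, .fail), (1, (.step [4, 4, 6, 11, 8] .fail)), (1, (.step [4, 10,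 7, 10, 4] (.step [8, 12, 10, 13, 8] .fail))), (1, (.step [4, 6, 10, 7, 5] (.step [8, 8, 13, 8] .fail))), (1, (.step [6, 6, 8, 6] .fail)), (2, .fail), (1, (.step [5, 9, 9, 11] .fail)), (1, (.step [4, 8, 5, 9, 10] .fail)), (1, (.step [5, 6, 9, 4, 11] (.step [8, 8, 11, 8, 10, 13] .fail))), (2, .fail), (1, (.step [5, 6, 4, 8, 8] .fail)), (1, (.step [4, 11, 5, 10, 6] .fail)), (1, (.step [4, 9, 4, 6] .fail)), (1, (.step [5, 9, 10, 6, 11] .fail)), (1, .fail), (1, (.step [6, 8, 4, 4, 10] (.step [10, 9, 9, 11, 13] .fail))), (3, .fail), (1, (.step [4, 6, 8, 5, 5] (.step [10, 9, 10, 12, 11] .fail))), (1, .fail), (1, (.step [6, 5, 11, 8, 10] .fail)), (1, (.step [4, 4, 11, 4, 11] .fail)), (1, .fail), (1, (.step [7, 9, 4] .fail)), (2, .fail), (1, (.step [5, 10, 9, 4] .fail)), (1, (.step [5, 6, 8, 7, 5] (.step [8, 10, 13, 11] .fail))), (1, (.step [4, 6, 9] (.step [9, 11, 8, 11, 11] .fail))), (1, .fail), (1,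 (.step [5, 8, 11] .fail)), (1, (.step [5, 6, 5, 7, 8] .fail)), (1, (.step [6, 6, 11, 9] (.step [9, 10, 8, 12] .fail))), (1, (.step [5, 11, 11] .fail)), (1, (.step [4, 11, 11, 9, 10] .fail)), (2, .fail), (1, (.step [6, 11, 9, 10] .fail)), (1, (.step [4, 4, 8, 11, 6] (.step [10, 13, 10, 8] .fail))), (1, (.step [7, 11, 5, 10] .fail)), (1, (.step [4, 8, 4, 4] .fail)), (2, .fail), (1, (.step [4, 8, 5, 9, 10, 8] .fail)), (1, (.step [5, 9, 10, 7, 10] (.step [9, 11, 12, 12, 9] .fail))), (1, (.step [4, 10, 9, 7, 9] (.step [10, 8] .fail))), (1, .fail), (1, (.step [4, 4, 11, 5] .fail)), (1, (.step [4, 4, 7, 7] .fail)), (1, (.step [4, 6, 5, 11] (.step [8, 11, 12, 8] .fail))), (1, (.step [4, 4, 9, 6, 4] .fail)), (2, .fail), (1, (.step [5, 7, 4, 8] .fail)), (1, (.step [4, 9, 5, 8, 10] .fail)), (1, .fail), (1, (.step [7, 4, 6, 4] (.step [11, 9, 9, 13, 11] .fail))), (1, (.step [4, 9, 6, 6, 10] .fail)), (1, (.step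 [4, 4, 9, 4, 8] (.step [8, 10, 9, 10, 10, 12] .fail))), (2, .fail), (1, (.step [6, 4, 10, 9] .fail)), (1, .fail), (1, (.step [5, 6, 9, 5, 7] (.step [9, 13, 11, 12, 11] .fail))), (1, .fail), (1, (.step [7, 8, 7, 9] .fail)), (1, .fail), (1, (.step [4, 10, 10, 8, 4] (.step [8, 12, 10, 9] .fail))), (1, .fail), (1, (.step [6, 9, 7, 4] .fail)), (1, (.step [5, 6, 11, 5] .fail)), (2, .fail), (1, (.step [4, 7, 8, 7] .fail)), (1, .fail), (1, (.step [6, 10, 6, 5] .fail)), (1, (.step [4, 11, 7, 11, 5] .fail)), (1, (.step [6, 4, 4, 6, 9] (.step [11, 11, 11, 12] (.step [14, 13] (.badAt 1))))), (1, (.step [7, 9, 7, 10] .fail)), (1, (.step [4, 4, 8, 11, 6] (.step [10, 13, 10, 8] .fail))), (1, .fail), (1, (.step [4, 11, 6, 4, 11] (.step [8, 10, 9] .fail))), (1, (.step [4, 4, 6, 6, 4] .fail)), (1, .fail), (1, (.step [4, 9, 6, 8, 5] .fail)), (1, (.step [5, 7, 7, 7, 8] (.step [9, 13, 8, 11, 13] .fail))), (1, (.step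 [4, 4, 11, 5, 8] .fail)), (1, (.step [4, 6, 11, 8, 8] .fail)), (1, (.step [4, 8, 6, 9, 7] .fail)), (1, .fail), (1, (.step [4, 9, 9, 5] .fail)), (4, .fail), (1, (.step [4, 7, 5, 7] .fail)), (1, (.step [4, 4, 7, 5, 8] .fail)), (1, (.step [4, 10, 10, 6, 11] .fail)), (1, (.step [4, 10, 6, 8, 4] (.step [8, 8, 8, 12] .fail))), (1, .fail), (1, (.step [6] .fail)), (1, (.step [4, 6, 6, 11, 6] .fail)), (1, (.step [4, 6, 5, 6, 10] (.step [8, 8, 11, 8, 11, 11] .fail))), (2, .fail), (1, (.step [4, 9, 4, 6, 10] .fail)), (4, .fail), (1, (.step [4, 9, 7, 5] .fail)), (1, (.step [4, 4, 9, 4, 4] (.step [8, 12, 10, 13, 8] .fail))), (1, (.step [7, 4, 9, 6] (.step [8, 10, 9, 10, 10] .fail))), (1, .fail), (1, (.step [4, 4, 9, 11, 6] .fail)), (1, (.step [6, 4, 11, 5] (.step [10, 12, 10] .fail))), (1, .fail), (1, (.step [4, 10, 7, 11, 8] .fail)), (2, .fail), (1, (.step [7, 11, 8, 5] (.step [10, 10, 10, 12] (.step [14]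 (.badAt 1))))), (2, .fail), (1, (.step [5, 7, 5, 7, 11] .fail)), (2, .fail), (1, (.step [4, 8, 4, 9, 11] .fail)), (1, (.step [7, 10, 6, 5] .fail)), (1, (.step [6, 8, 11] .fail)), (1, .fail), (1, (.step [4, 11, 7, 8, 5] (.step [9, 12, 12] .fail))), (1, .fail), (1, (.step [4, 7, 4, 4, 7] .fail)), (1, .fail), (1, (.step [4, 4, 6, 10] .fail)), (1, (.step [7, 10, 7, 5] .fail)), (1, .fail), (1, (.step [4, 4, 11, 11, 6] .fail)), (1, .fail), (1, (.step [7, 5, 9, 4] .fail)), (5, .fail), (1, (.step [4, 8, 7, 8, 6] .fail)), (1, (.step [4, 10, 10, 8, 4] (.step [9, 12, 11, 9] (.step [12, 12, 15, 12] (.badAt 1))))), (2, .fail), (1, (.step [5, 9, 5] .fail)), (1, (.step [4, 4, 8, 5] .fail)), (1, .fail), (1, (.step [5, 11, 7, 4] .fail)), (1, (.step [5, 5, 11, 7, 11] .fail)), (1, (.step [5, 7, 5] (.step [8, 11, 13, 11, 13] .fail))), (1, .fail), (1, (.step [4, 10, 8, 5] (.step [11, 8, 11, 11, 8] .fail))), (1, (.step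 [4, 8, 5, 9, 10] .fail)), (1, (.step [6, 4, 4, 7, 10] (.step [8, 11, 8, 12] .fail))), (1, (.step [5, 10, 8, 8, 8] (.step [8, 11, 9, 12] .fail))), (1, .fail), (1, (.step [4, 7, 11, 8] .fail)), (1, (.step [7, 4, 6, 5] (.step [10, 8, 10, 8, 11] .fail))), (1, (.step [6, 5, 11, 8, 10] .fail)), (1, (.step [7, 4, 9, 6] .fail)), (1, (.step [4, 8, 5, 9] .fail)), (1, (.step [7, 7, 4, 8] (.step [11, 9, 11, 11, 8] .fail))), (1, (.step [5, 8, 10, 5, 6] .fail)), (1, (.step [4, 4, 7, 10, 5] (.step [11, 11, 11, 11] .fail))), (1, (.step [4, 8, 4, 7] .fail)), (1, (.step [6, 8, 7, 5] .fail)), (1, (.step [4, 9, 7, 5] .fail)), (1, .fail), (1, (.step [4, 8, 6, 9, 9] .fail)), (3, .fail), (1, (.step [4, 8, 10] .fail)), (1, (.step [4, 6, 11, 7, 5] .fail)), (1, (.step [5, 8, 7, 7, 7] .fail)), (1, .fail), (1, (.step [6, 5, 7, 11, 6] .fail)), (1, (.step [6, 8, 4, 8] .fail)), (3, .fail), (1, (.step [4, 7, 4, 9, 5] .fail)),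 (1, (.step [4, 4, 8, 11, 6] .fail)), (3, .fail), (1, (.step [4, 7, 5, 6] .fail)), (1, (.step [4, 7, 4, 7, 10] .fail)), (1, .fail), (1, (.step [6, 11, 5] (.step [11, 12, 12, 9] .fail))), (1, (.step [7, 11, 8, 6] .fail)), (1, (.step [4, 4, 9, 10, 7] .fail)), (2, .fail), (1, (.step [4, 7, 9, 10] .fail)), (1, (.step [6, 5, 5, 9, 6] .fail)), (1, (.step [6, 4, 8, 11] .fail)), (1, .fail), (1, (.step [7, 9, 7, 4, 4] .fail)), (1, .fail), (1, (.step [6, 8, 4, 7, 9] .fail)), (1, (.step [4, 7, 10, 4] .fail)), (1, .fail), (1, (.step [5, 10, 4, 7, 7] .fail)), (1, (.step [6, 6, 10, 6] .fail)), (1, .fail), (1, (.step [5, 9, 5, 6] .fail)), (3, .fail), (1, (.step [7, 7, 5, 10, 9] (.step [11, 8, 10, 13, 10] .fail))), (1, .fail), (1, (.step [5, 11, 8, 7, 5] (.step [10, 10, 10] .fail))), (3, .fail), (1, (.step [7, 11, 7, 7] .fail)), (1, (.step [4, 7, 7, 8] .fail)), (1, (.step [7, 5, 9, 7, 11] .fail)), (1, (.step [7,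 9, 10, 4] .fail)), (1, (.step [4, 10, 10, 7, 7] .fail)), (1, (.step [7, 4, 6, 5] (.step [10, 8, 10, 8, 11] .fail))), (2, .fail), (1, (.step [5, 7, 5, 9, 11] .fail)), (1, (.step [4, 6, 9, 11] .fail)), (4, .fail), (1, (.step [4, 6, 10, 6] .fail)), (1, .fail), (1, (.step [7, 11, 7] .fail)), (1, (.step [4, 6, 11, 8, 7] .fail)), (1, (.step [6, 6, 6] .fail)), (1, .fail), (1, (.step [4, 6, 5, 8] (.step [9] .fail))), (1, (.step [5, 10, 8, 11] .fail)), (1, .fail), (1, (.step [4, 10, 7, 10, 4] (.step [8, 12, 10, 13, 8] .fail))), (2, .fail), (1, (.step [5, 8, 11] .fail)), (1, (.step [4, 4, 10, 7, 7] .fail)), (1, .fail), (1, (.step [6, 10, 6] .fail)), (1, .fail), (1, (.step [4, 10, 6, 4, 8] .fail)), (1, (.step [7, 8, 5, 11] (.step [8, 11, 12] .fail))), (1, (.step [4, 7, 11, 8, 6] .fail)), (1, (.step [4, 4, 8, 11, 6] (.step [10, 13, 10, 8] .fail))), (6, .fail), (1, (.step [4, 7, 10, 8] .fail)), (3, .fail),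 (1, (.step [5, 7, 5, 9] (.step [9, 11, 9, 10] .fail))), (1, (.step [5, 6, 8, 10, 7] .fail)), (1, .fail), (1, (.step [4, 7, 5, 8, 11] .fail)), (1, .fail), (1, (.step [4, 4, 4, 6, 6] (.step [8, 11, 9, 11, 11, 9] .fail))), (1, (.step [5, 6, 11, 5] .fail)), (1, (.step [4, 6, 9, 5, 8, 7] .fail)), (2, .fail), (1, (.step [4, 8, 6, 10, 5] .fail)), (1, .fail), (1, (.step [5, 5, 6] .fail)), (1, .fail), (1, (.step [4, 4, 6, 6, 4] .fail)), (1, .fail)])

/-- the pieces of a certificate -/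
noncomputable def pcsT2 : List (List (List ℕ) × Cert) := [(UA_0, cT2_0), (UA_1, cT2_1)]

/-- a piece of a certificate -/
noncomputable def cCh_0 : Cert := (Cert.rl [(1, (.step [] (.step [] (.step [] (.done []))))), (1, (.step [18, 22, 4] (.step [22, 25, 23, 20] .fail))), (1, .fail), (1, (.step [19, 19, 21, 22] (.step [22, 25, 28, 21] .fail))), (1, (.step [18, 4, 25, 19, 20] .fail)), (1, (.step [18, 4, 18, 5, 23] .fail)), (1, .fail), (1, (.step [19, 25, 4, 21] .fail)), (1, .fail), (1, (.step [18, 22, 21, 22] .fail)), (1, (.step [4, 18, 23, 25] .fail)), (1, (.step [18, 20, 5, 21, 5] .fail)), (1, (.step [18, 20, 18, 20, 23] .fail)), (1, .fail), (1, (.step [4, 25, 19, 5] (.step [20, 27, 23, 24] .fail))), (1, (.step [5, 19, 20] .fail)), (1, (.step [5] .fail)), (1, (.step [18, 22, 19, 23, 24] .fail)), (2, .fail), (1, (.step [19, 19, 21] .fail)), (1, (.step [19, 24, 19, 4] .fail)), (1, .fail), (1, (.step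 [18, 5, 25, 18] .fail)), (1, .fail), (1, (.step [4, 25, 4, 4] .fail)), (1, (.step [18, 4, 22, 20, 24] .fail)), (1, .fail), (1, (.step [5, 20, 20] .fail)), (2, .fail), (1, (.step [18, 4, 19, 24, 19] (.step [21, 22, 24] .fail))), (6, .fail), (1, (.step [18, 20, 23, 21, 23] .fail)), (1, (.step [18, 18, 5, 19, 5] (.step [23, 20, 27, 20] .fail))), (2, .fail), (1, (.step [18, 22, 21, 21] .fail)), (1, (.step [4, 4, 23, 18] .fail)), (4, .fail), (1, (.step [18, 21, 19, 4] (.step [23, 20, 22, 27] (.step [28, 24] (.done [29]))))), (1, (.step [18, 18, 5, 22, 22] .fail)), (2, .fail), (1, (.step [4, 4, 22, 24] (.step [23, 20, 22] .fail))), (2, .fail), (1, (.step [4, 23, 25] (.step [21, 27, 27, 23] .fail))), (3, .fail), (1, (.step [18, 24, 18, 24] .fail)), (1, .fail), (1, (.step [19, 21, 4, 20] .fail)), (1, (.step [18, 21, 23, 23] .fail)), (1, (.step [18, 18, 21, 21] .fail)), (1, .fail), (1, (.step [19, 20,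 22, 5] .fail)), (1, .fail), (1, (.step [18, 20, 4, 4, 25] .fail)), (1, (.step [19, 19, 23, 18] .fail)), (1, (.step [19, 24, 4, 19] .fail)), (1, .fail), (1, (.step [18, 4, 19, 19] .fail)), (1, (.step [4, 19, 22, 24] (.step [22, 20, 22, 28] .fail))), (1, (.step [19, 5, 20, 23] (.step [22, 27, 20] .fail))), (1, (.step [18, 24, 23] .fail)), (1, (.step [18, 4, 24, 19, 20] .fail)), (1, (.step [18, 18, 4, 18, 22] (.step [22, 28, 22, 25] .fail))), (1, (.step [18, 20, 18, 4, 18] (.step [22, 24, 27] .fail))), (2, .fail), (1, (.step [18, 21, 5, 23] .fail)), (1, (.step [5, 23, 19, 19] .fail)), (1, (.step [18, 18, 24, 22, 21] .fail)), (2, .fail), (1, (.step [18, 22, 21, 24] .fail)), (4, .fail), (1, (.step [19, 24, 5, 18] (.step [21, 28, 21, 21] .fail))), (1, (.step [18, 24, 22, 4] .fail)), (1, (.step [19, 20, 19, 5, 5] .fail)), (1, (.step [19, 23, 24] (.step [21, 28, 22, 28] .fail))), (1, (.step [18, 18, 18,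 25, 22] .fail)), (1, (.step [18, 22, 20, 22] .fail)), (1, (.step [19, 24, 5, 24] .fail)), (1, (.step [18, 5, 5, 23, 21] .fail)), (2, .fail), (1, (.step [18, 18, 22, 22] .fail)), (1, (.step [19, 5, 23, 23, 5] (.step [20, 27, 22, 22] .fail))), (1, .fail), (1, (.step [19, 20, 5, 5] .fail)), (1, (.step [5, 19, 4, 23] .fail)), (1, (.step [4, 4, 19, 19] (.step [20, 28, 22, 22, 28] .fail))), (1, .fail), (1, (.step [19, 19, 20, 25] .fail)), (1, .fail), (1, (.step [18, 18, 23, 23, 20] .fail)), (3, .fail), (1, (.step [18, 22, 5, 19, 21] .fail)), (1, (.step [19, 23, 18] .fail)), (1, (.step [19, 5, 25, 18] .fail)), (1, (.step [4, 25, 4, 19] .fail)), (1, (.step [18, 24, 4, 24] .fail)), (1, (.step [18, 4, 18, 23, 25] .fail)), (1, .fail), (1, (.step [5] (.step [21, 23, 28, 22] .fail))), (1, .fail), (1, (.step [18, 5, 5, 22, 22] .fail)), (1, (.step [4, 4, 18, 22] .fail)), (3, .fail), (1, (.step [5, 18, 24, 4]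 (.step [20, 27, 23, 27] .fail))), (1, (.step [18, 18, 25, 19, 24] .fail)), (1, (.step [18, 4, 21, 5, 23] (.step [20, 23, 27, 22, 24] .fail))), (1, (.step [18, 20, 20, 23, 24] .fail)), (1, .fail), (1, (.step [19, 23, 18, 25] (.step [22, 22, 24] .fail))), (1, (.step [4, 4, 23, 4] .fail)), (2, .fail), (1, (.step [19, 20, 23, 21] .fail)), (1, .fail), (1, (.step [4, 21, 4] .fail)), (1, .fail), (1, (.step [19, 21, 5, 19] .fail)), (1, (.step [5, 25, 5] .fail)), (3, .fail), (1, (.step [18, 20, 18, 5] .fail)), (1, .fail), (1, (.step [18, 4, 18, 5, 23] .fail)), (1, (.step [4, 19, 23, 18] (.step [21, 21] (.step [24, 26] (.badAt 1))))), (1, (.step [4, 21, 24, 5] .fail)), (1, (.step [18, 18, 18, 20] .fail)), (1, (.step [19, 23, 20, 18] .fail)), (1, (.step [18, 4, 20] (.step [20, 20, 27, 22, 25, 22] (.step [24, 28] (.done [24, 28, 20, 20, 27, 22, 25, 22, 18, 4, 20, 1, 1, 2, 2]))))), (3, .fail), (1, (.step [4,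 21, 19, 20] .fail)), (1, .fail), (1, (.step [19, 20, 22, 5, 19] (.step [22, 21, 28, 21] .fail))), (1, (.step [18, 5, 21, 21] .fail)), (2, .fail), (1, (.step [5, 25, 22] .fail)), (3, .fail), (1, (.step [4, 20, 23, 19] .fail)), (1, (.step [19, 5, 25, 18] .fail)), (1, .fail), (1, (.step [4, 20, 4, 22] .fail)), (1, (.step [18, 22, 19, 5] .fail)), (1, (.step [19, 4, 19, 21] .fail)), (1, (.step [4, 18, 5, 19] (.step [23, 21] .fail))), (1, (.step [18, 22, 21, 25, 18] (.step [23, 24, 27] (.step [26, 28] (.badAt 1))))), (2, .fail), (1, (.step [18, 4, 4, 20] .fail)), (1, .fail), (1, (.step [19, 23, 18] .fail)), (1, (.step [18, 5, 21, 19] .fail)), (1, (.step [18, 20, 18, 4, 21] .fail)), (1, .fail), (1, (.step [5, 19, 19, 5] (.step [21, 23, 28, 24, 23] .fail))), (1, (.step [19, 4, 4, 22] (.step [22, 20, 23, 23] .fail))), (1, (.step [18, 23, 23, 24] .fail)), (1, (.step [18, 18, 22, 19, 20] (.step [23, 24,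 23, 24] .fail))), (5, .fail), (1, (.step [19, 21, 24, 22] .fail)), (4, .fail), (1, (.step [4, 4, 20, 22] .fail)), (2, .fail), (1, (.step [18, 21, 25, 18, 24] .fail)), (1, (.step [18, 4, 24, 5, 23] .fail)), (1, .fail), (1, (.step [19, 24, 22, 24] .fail)), (1, .fail), (1, (.step [18, 18, 21, 18, 4] .fail)), (1, .fail), (1, (.step [19, 22, 4, 24, 5] (.step [20, 27, 23, 28] (.step [27, 27] (.badAt 1))))), (1, .fail), (1, (.step [19, 22, 22, 20] .fail)), (1, .fail), (1, (.step [18, 22, 19, 22, 25] .fail)), (3, .fail), (1, (.step [18, 21, 21, 24] (.step [23, 28] (.step [24, 26, 27] (.done [24, 26, 27, 23, 28, 18, 21, 21, 24, 2, 3, 0, 1, 1]))))), (1, (.step [18, 18, 20, 4] (.step [22, 21, 24, 22] .fail))), (2, .fail), (1, (.step [19, 20, 4, 24] (.step [20, 20, 22, 20] .fail))), (1, (.step [18, 25, 5] .fail)), (1, .fail), (1, (.step [19, 20, 18, 20] .fail)), (1, (.step [18, 18, 18, 21, 22] .fail)), (1,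 (.step [18, 23, 18, 25] .fail)), (1, .fail), (1, (.step [18, 4, 20, 4] .fail)), (1, (.step [18, 20, 4, 18] (.step [20, 27, 23, 28] .fail))), (2, .fail), (1, (.step [18, 4, 19, 19, 22] .fail)), (1, (.step [18, 20, 22, 24] .fail)), (1, (.step [18, 24, 5, 18] .fail)), (1, .fail), (1, (.step [18, 5, 22, 21] .fail)), (1, (.step [19, 21, 24, 4] .fail)), (4, .fail), (1, (.step [18, 4, 24, 23, 19] .fail)), (3, .fail), (1, (.step [5, 18, 21, 21] .fail)), (1, (.step [18, 21, 19, 21, 4] .fail)), (2, .fail), (1, (.step [18, 4, 20, 23, 5] .fail)), (1, (.step [19, 19, 24] .fail)), (1, (.step [18, 21, 25, 19, 24] .fail)), (2, .fail), (1, (.step [4, 19, 20, 5] .fail)), (1, (.step [19, 4, 24, 18, 18] .fail)), (1, (.step [18, 5, 23, 4] .fail)), (1, (.step [19, 23, 24, 22] (.step [20, 27, 27] .fail))), (1, (.step [19, 20, 18, 18] (.step [20, 22, 20, 23, 24] .fail))), (2, .fail), (1, (.step [18, 22, 20, 22, 22] .fail)),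 (1, .fail), (1, (.step [18, 4, 4, 24, 19] .fail)), (1, (.step [18, 4, 18, 24] .fail)), (2, .fail), (1, (.step [19, 19, 25, 22] .fail)), (1, (.step [5, 25, 23, 18] (.step [22, 21, 23, 21, 27] .fail))), (3, .fail), (1, (.step [4, 22, 22, 19] .fail)), (1, (.step [19, 22, 19, 19] .fail)), (1, (.step [5, 19, 21, 21] .fail)), (2, .fail), (1, (.step [18, 22, 25, 5] (.step [22, 22, 20, 20] .fail))), (1, .fail), (1, (.step [18, 4, 22, 18, 24] (.step [21, 23, 27, 20] .fail))), (2, .fail), (1, (.step [5, 22, 21, 24] .fail)), (1, (.step [19, 21, 22] .fail)), (1, .fail), (1, (.step [18, 4, 18, 4, 19] .fail)), (1, (.step [18, 21] .fail)), (1, (.step [19, 4, 21, 22, 21] .fail)), (1, (.step [18, 4, 20, 24, 18] .fail)), (4, .fail), (1, (.step [18, 22, 20, 19] .fail)), (2, .fail), (1, (.step [18, 4, 4, 23, 24] .fail)), (2, .fail), (1, (.step [19, 19, 21, 19] .fail)), (2, .fail), (1, (.step [19, 25, 18, 21] .fail)),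 (1, .fail), (1, (.step [4, 23, 24] .fail)), (1, .fail), (1, (.step [4, 18, 23, 20] .fail)), (1, (.step [18, 21, 18, 22, 18] .fail)), (1, (.step [18, 5, 19] .fail)), (1, (.step [18, 4, 24, 19, 20] .fail)), (1, (.step [18, 22, 19, 5, 25] .fail)), (1, .fail), (1, (.step [19, 5, 23, 21] .fail)), (4, .fail), (1, (.step [18, 22, 20, 5] (.step [21, 23, 27, 21, 24] .fail))), (1, (.step [19, 4, 20, 4] .fail)), (1, (.step [19, 22, 22, 20] .fail)), (1, (.step [18, 20, 4, 22] .fail)), (1, (.step [18, 4, 4, 25] .fail)), (1, (.step [4, 23, 20, 25] .fail)), (2, .fail), (1, (.step [4, 19, 24, 19] (.step [20, 22, 20, 27, 23] .fail))), (1, .fail), (1, (.step [18, 24, 18, 5] .fail)), (1, (.step [5, 25, 19] .fail)), (1, (.step [4, 24, 18, 4] .fail)), (2, .fail), (1, (.step [18, 4, 25, 19, 25] .fail)), (1, (.step [19, 22, 5, 22] .fail)), (1, .fail), (1, (.step [18, 5, 24, 18] .fail)), (1, (.step [18, 4, 22, 20, 19]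 .fail)), (1, (.step [18, 20, 23, 25, 18] .fail)), (1, .fail), (1, (.step [18, 20, 5, 18, 23] .fail)), (2, .fail), (1, (.step [18, 21, 19, 20, 18] .fail)), (1, .fail), (1, (.step [18, 22, 21, 22] .fail)), (1, .fail), (1, (.step [19, 4, 20, 19] (.step [20, 27, 20, 20] .fail))), (1, (.step [18, 4, 20, 22] (.step [21, 23, 27, 21, 21] .fail))), (1, (.step [18, 21, 23, 23, 5] .fail)), (1, .fail), (1, (.step [19, 5, 19, 22, 4] .fail)), (2, .fail), (1, (.step [19, 22, 21, 25] .fail)), (1, .fail), (1, (.step [18, 25, 19, 4] .fail)), (1, (.step [18, 5, 23, 25, 5] .fail)), (1, (.step [19, 20, 23, 18] .fail)), (1, .fail), (1, (.step [18, 22, 24, 4] .fail)), (1, (.step [19, 21, 5, 20] .fail)), (1, (.step [18, 18] (.step [20, 28, 23, 23] .fail))), (1, .fail), (1, (.step [4, 25] .fail)), (1, (.step [18, 5, 22, 5, 24] (.step [21, 23, 23, 25] .fail))), (2, .fail), (1, (.step [18, 4, 22, 22, 25] (.step [22, 21,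 22, 20, 27] .fail))), (1, .fail), (1, (.step [18, 22, 18, 22] .fail)), (1, (.step [18, 21, 22, 22] .fail)), (1, (.step [19, 22, 19, 21] .fail)), (1, .fail), (1, (.step [19, 5, 18, 18] .fail)), (3, .fail), (1, (.step [19, 19, 4, 20] .fail)), (1, .fail), (1, (.step [18, 5, 23, 4] (.step [21, 23, 25, 23] .fail))), (2, .fail), (1, (.step [18, 5, 23, 5] .fail)), (1, (.step [4, 20, 4, 18] .fail)), (1, (.step [19, 21, 18] .fail)), (2, .fail), (1, (.step [18, 21, 5, 24] (.step [22, 28, 22, 21] .fail))), (4, .fail), (1, (.step [19, 25, 22, 21] (.step [21, 23, 27, 22] .fail))), (1, (.step [18, 5, 22, 21, 19] .fail)), (1, (.step [18, 18, 4, 23, 24] .fail)), (3, .fail), (1, (.step [4, 22, 21, 23] .fail)), (1, (.step [18, 5, 23, 20, 19] (.step [22, 20, 27] .fail))), (1, (.step [19, 22, 4] .fail)), (1, (.step [18, 18, 24, 22, 5] .fail)), (1, (.step [18, 20, 25, 5, 18] .fail)), (1, (.step [19, 23, 25, 23, 4]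 .fail)), (1, (.step [4, 24, 23, 25] .fail)), (3, .fail), (1, (.step [18, 24, 18, 25] .fail)), (1, .fail), (1, (.step [19, 24, 22, 4] (.step [23, 24, 28] .fail))), (3, .fail), (1, (.step [18, 4, 4, 23, 4] (.step [22, 22] .fail))), (1, .fail), (1, (.step [4, 22, 24, 23] .fail)), (3, .fail), (1, (.step [19, 24, 4] .fail)), (1, .fail), (1, (.step [18, 23, 4, 23] .fail)), (2, .fail), (1, (.step [19, 22, 21, 25] .fail)), (1, (.step [18, 20, 20, 19] .fail)), (1, (.step [4, 25, 4, 19] .fail)), (2, .fail), (1, (.step [5, 18, 18, 24] .fail)), (3, .fail), (1, (.step [5, 25, 18, 4] (.step [23, 27, 20] .fail))), (2, .fail), (1, (.step [19, 21, 4, 18] .fail)), (1, (.step [18, 24, 23, 5] .fail)), (1, (.step [4, 25, 18, 21] (.step [20, 20, 20, 23, 21] .fail))), (2, .fail), (1, (.step [18, 20, 25, 19] .fail)), (1, .fail), (1, (.step [4, 4, 22] .fail)), (1, (.step [18, 4, 4, 23, 4] .fail)), (6, .fail), (1, (.step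 [18, 18, 21, 18, 4] .fail)), (1, .fail), (1, (.step [19, 24, 22, 5] .fail)), (1, (.step [19, 25, 23, 21] .fail)), (1, .fail), (1, (.step [19, 19, 21, 25] (.step [20, 23, 27] .fail))), (4, .fail), (1, (.step [19, 22, 22] (.step [22, 27, 22, 24] .fail))), (1, (.step [4, 25, 23, 23] (.step [23, 21, 28, 22] .fail))), (1, (.step [18, 18, 4, 25, 5] .fail)), (1, .fail), (1, (.step [18, 5, 19] .fail)), (1, .fail), (1, (.step [18, 23, 21, 19] (.step [21, 27, 23, 25] (.step [24, 26, 27] (.done [24, 26, 27, 21, 27, 23, 25, 18, 23, 21, 19, 1, 1, 1, 1, 1]))))), (1, (.step [5, 22, 18] .fail)), (1, .fail), (1, (.step [18, 21, 21, 24] (.step [21, 28] (.step [25, 26] (.done [25, 26, 21, 28, 18, 21, 21, 24, 2, 2, 2, 2, 3, 3]))))), (1, .fail), (1, (.step [19, 4, 23, 5] (.step [21, 23, 21] .fail))), (1, (.step [18, 20, 19, 20, 18] .fail)), (1, (.step [19, 19, 22, 24] .fail)), (1, (.step [18, 5, 21, 4, 21] .fail)),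 (2, .fail), (1, (.step [19, 5, 5, 18] .fail)), (2, .fail), (1, (.step [18, 4, 19, 5, 25] .fail)), (1, .fail), (1, (.step [4, 19, 20, 19] .fail)), (1, .fail), (1, (.step [18, 21, 23, 19, 23] .fail)), (1, (.step [19, 25, 18] (.step [21, 23, 28, 24, 23] (.step [24, 26, 27] (.done [24, 26, 27, 21, 23, 28, 24, 23, 19, 25, 18, 2, 2, 2, 1, 0, 3]))))), (1, (.step [18, 4, 18, 21] (.step [23, 21, 24, 27] .fail))), (1, .fail), (1, (.step [5, 18, 22, 19] .fail)), (1, (.step [18, 21, 5, 20, 4] .fail)), (1, (.step [18, 4, 19, 25] (.step [20, 27, 23, 23, 20] .fail))), (1, (.step [18, 5, 20, 19, 19] .fail)), (1, (.step [19, 22, 19, 19] .fail)), (3, .fail), (1, (.step [18, 18, 20, 19] (.step [23, 27, 25] .fail))), (2, .fail), (1, (.step [19, 21, 23, 5] .fail)), (2, .fail), (1, (.step [18, 5, 21, 23, 5] .fail)), (1, (.step [18, 23, 21, 5] (.step [23, 25, 22, 22] .fail))), (1, .fail), (1, (.step [19, 22, 20, 22]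 .fail)), (1, .fail), (1, (.step [19, 4, 18, 22] .fail)), (2, .fail), (1, (.step [19, 20, 25, 23, 5] .fail)), (1, .fail), (1, (.step [19, 4, 20, 4] (.step [21, 21, 27, 21, 22] .fail))), (1, (.step [18, 5, 18] .fail)), (1, (.step [18, 18, 4, 22, 21] .fail)), (1, (.step [5, 20, 23] .fail)), (1, .fail), (1, (.step [4, 23, 23] (.step [21, 22, 20, 22] .fail))), (1, .fail), (1, (.step [4, 23, 4, 23] (.step [20, 27, 20, 28] (.step [24, 28] (.badAt 1))))), (2, .fail), (1, (.step [19, 19, 4] .fail)), (3, .fail), (1, (.step [18, 5, 25, 23, 19] .fail)), (5, .fail), (1, (.step [4, 4, 19] .fail)), (1, (.step [5, 22, 18, 18] (.step [21, 23, 25, 23] .fail))), (1, .fail), (1, (.step [5, 18, 23, 4] .fail)), (1, (.step [19, 4, 19, 4] .fail)), (1, (.step [18, 18, 21, 5] .fail)), (1, (.step [18, 4, 18, 20, 4] (.step [21, 21, 28, 23] .fail))), (1, (.step [18, 20, 4, 24] .fail)), (1, .fail), (1, (.step [19, 4, 20, 4]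 .fail)), (1, (.step [18, 18, 23, 5, 21] .fail)), (2, .fail), (1, (.step [18, 18, 18, 24, 18] .fail)), (1, (.step [18, 22, 21, 25] .fail)), (4, .fail), (1, (.step [19, 22, 20] (.step [20, 22, 20, 27] .fail))), (1, (.step [18, 4, 4, 20, 25] (.step [22, 27, 20, 20] .fail))), (1, (.step [4, 4, 22] .fail)), (1, (.step [19, 24, 4, 4] .fail)), (1, (.step [18, 5, 25, 22, 18] (.step [21, 21, 22, 22, 28] .fail))), (1, (.step [4, 24, 19] .fail)), (1, (.step [4, 22, 24, 23] .fail)), (1, (.step [18, 20, 18, 4, 21] .fail)), (1, .fail), (1, (.step [18, 18, 23, 25, 19] .fail)), (1, .fail), (1, (.step [18, 4, 21, 23, 25] .fail)), (1, (.step [4, 19, 22, 20] .fail)), (2, .fail), (1, (.step [19, 19, 22, 19] .fail)), (1, (.step [18, 21, 19, 23] (.step [21, 23, 28] .fail))), (2, .fail), (1, (.step [18, 18, 23, 18, 20] .fail)), (2, .fail), (1, (.step [18, 23, 24, 22] .fail)), (2, .fail), (1, (.step [18, 18, 21] .fail)),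 (1, .fail), (1, (.step [18, 21, 21, 19, 20] .fail)), (1, (.step [18, 5, 19, 22, 18] .fail)), (2, .fail), (1, (.step [4, 19, 20] (.step [21, 22, 21, 21] .fail))), (1, (.step [19, 22, 5, 20] .fail)), (1, (.step [18, 18, 20, 24] .fail)), (1, .fail), (1, (.step [19, 4] .fail)), (2, .fail), (1, (.step [4, 4, 23, 19] .fail)), (1, (.step [19, 20, 19, 5] .fail)), (1, (.step [18, 20, 25, 23] .fail)), (1, (.step [18, 5, 20, 19, 21] .fail)), (2, .fail), (1, (.step [19, 4, 21, 21] .fail)), (1, (.step [18, 24, 23, 5] (.step [21, 21, 27, 21, 22] .fail))), (2, .fail), (1, (.step [18, 23, 4, 19] .fail)), (2, .fail), (1, (.step [18, 18, 25, 22] (.step [22, 24, 28, 24] .fail))), (1, (.step [18, 4, 22, 21] .fail)), (1, (.step [18, 23, 25] .fail)), (1, (.step [18, 18, 22, 24, 23] .fail)), (1, .fail), (1, (.step [5, 19, 19, 20] .fail)), (1, (.step [18, 25, 19, 21, 25] .fail)), (7, .fail), (1, (.step [18, 4, 20, 22]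 .fail)), (2, .fail), (1, (.step [19, 20, 19, 23, 18] (.step [21, 22, 22] (.step [28, 26] (.badAt 1))))), (1, (.step [18, 18, 18, 5, 18] .fail)), (1, (.step [4, 25, 5, 20] (.step [22, 27, 27, 23] .fail))), (1, (.step [4, 20, 23, 25] .fail)), (1, .fail), (1, (.step [19, 25, 18, 21] (.step [20, 20, 20, 23, 20] .fail))), (1, (.step [4, 18, 21, 21] .fail)), (1, (.step [18, 5, 22, 19] .fail)), (1, (.step [18, 4, 20, 18, 23] (.step [22, 28, 22] .fail))), (1, .fail), (1, (.step [19, 19, 23, 4] (.step [22, 21, 28, 20] .fail))), (1, (.step [18, 4, 4, 20] (.step [21, 21, 23, 20] .fail))), (1, (.step [18, 4, 20, 22, 18] (.step [22, 24, 23, 28] .fail))), (2, .fail), (1, (.step [19, 25, 22, 21] .fail)), (1, (.step [5, 23, 23] .fail)), (1, (.step [4, 19, 22] (.step [20, 22, 20, 22, 22] .fail))), (3, .fail), (1, (.step [18, 25, 4, 4] .fail)), (1, .fail), (1, (.step [5, 19, 20, 19] .fail)), (1, (.step [19, 21,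 25, 23] (.step [20, 27, 27, 23] .fail))), (3, .fail), (1, (.step [18, 20] .fail)), (2, .fail), (1, (.step [19, 23, 23, 25] (.step [22, 20, 23, 20] .fail))), (1, (.step [4, 19, 23, 21] .fail)), (1, (.step [19, 19, 20, 5, 24] .fail)), (1, (.step [18, 20, 18, 23, 5] .fail)), (1, .fail), (1, (.step [19, 24, 18, 23] .fail)), (1, (.step [18, 4, 19, 22, 25] (.step [22, 24, 28, 24] .fail))), (4, .fail), (1, (.step [18, 20, 25, 22, 18] .fail)), (2, .fail), (1, (.step [5, 22, 5, 19] .fail)), (1, (.step [19, 25, 19, 19] .fail)), (1, (.step [19, 25, 5, 23] .fail)), (1, (.step [4, 18, 4] .fail)), (1, .fail), (1, (.step [4, 25, 18] .fail)), (1, (.step [18, 22, 21, 19, 22] .fail)), (1, .fail), (1, (.step [4, 19, 22, 18] (.step [21, 22, 22, 28, 24] .fail))), (1, (.step [4, 22, 4, 22] (.step [21, 21, 27, 21] .fail))), (1, .fail), (1, (.step [18, 18, 18, 18, 25] .fail)), (1, (.step [19, 19, 21, 25] .fail)), (2,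 .fail), (1, (.step [18, 18, 25, 5, 25] .fail)), (1, .fail), (1, (.step [18, 18, 18, 18, 20] .fail)), (1, .fail), (1, (.step [18, 4, 18, 5, 24] .fail)), (1, (.step [18, 18, 25, 5, 19] .fail)), (1, .fail), (1, (.step [4, 18, 23, 5] .fail)), (2, .fail), (1, (.step [18, 5, 20, 23] .fail)), (1, (.step [18, 5, 23, 18] .fail)), (1, .fail), (1, (.step [18, 24, 19, 25, 4] .fail)), (1, (.step [19, 24, 22, 4] .fail)), (1, (.step [18, 24, 18, 25] .fail)), (1, (.step [19, 19, 19, 20] .fail)), (2, .fail), (1, (.step [18, 18, 20, 24, 4] .fail)), (1, (.step [18, 18, 20, 24, 19] .fail)), (1, (.step [18, 18, 22, 4] .fail)), (1, (.step [18, 4, 20, 19] .fail)), (1, (.step [5, 18, 21, 24] (.step [23, 20] .fail))), (2, .fail), (1, (.step [18, 20, 20, 5] .fail)), (1, (.step [4, 18, 4, 23] .fail)), (1, .fail), (1, (.step [18, 21, 19, 4, 23] .fail)), (1, .fail), (1, (.step [5, 18, 23, 4] .fail)), (2, .fail), (1, (.step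 [19, 23, 5, 18, 5] .fail)), (1, (.step [19, 19, 23, 24, 4] .fail)), (1, (.step [18, 24, 23, 18] (.step [20, 27, 21, 22, 28] .fail))), (1, (.step [19, 19, 24, 5] .fail)), (1, (.step [18, 20, 5, 18, 5] .fail)), (1, (.step [18, 18, 21, 23, 23] .fail)), (1, (.step [19, 23, 4] .fail)), (1, (.step [19, 25, 23, 21] (.step [23, 20, 27] .fail))), (1, .fail), (1, (.step [18, 22, 5, 5, 25] .fail)), (1, .fail), (1, (.step [18, 20, 20, 23, 5] (.step [21, 22, 21, 27, 20] .fail))), (1, .fail), (1, (.step [19, 5, 20, 25] .fail)), (1, .fail), (1, (.step [18, 22, 24, 4] (.step [21, 21, 27, 21] .fail))), (2, .fail), (1, (.step [4, 20, 5, 5] .fail)), (1, (.step [18, 5, 19, 20, 20] .fail)), (1, (.step [5, 20, 4, 25] .fail)), (1, .fail), (1, (.step [19, 5, 21, 4, 21] .fail)), (1, .fail), (1, (.step [4, 18, 4, 22] .fail)), (1, (.step [4, 20, 23, 4] .fail)), (1, .fail), (1, (.step [19, 20, 4, 24] .fail)), (1, (.step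 [18, 20, 20, 20] .fail)), (1, .fail), (1, (.step [4, 20, 4, 25] .fail)), (1, (.step [19, 21, 5, 23] .fail)), (3, .fail), (1, (.step [18, 18, 22, 18] (.step [20, 27, 22, 20, 22] .fail))), (2, .fail), (1, (.step [4, 18, 25] .fail)), (1, (.step [19, 20, 5, 5, 18] .fail)), (1, (.step [19, 23, 21, 23] (.step [20, 23, 20, 23, 24] .fail))), (1, .fail), (1, (.step [18, 21, 23, 5] .fail)), (1, (.step [18, 23, 4, 18, 5] .fail)), (1, (.step [18, 23, 20, 25, 23] .fail)), (1, (.step [18, 25] .fail)), (1, .fail), (1, (.step [19, 21, 18] .fail)), (2, .fail), (1, (.step [19, 20, 23, 23] (.step [20, 27, 20, 28, 21] .fail))), (1, (.step [4, 24, 18, 20] .fail)), (1, .fail), (1, (.step [18, 22, 24, 4, 21] .fail)), (1, (.step [18, 21, 19, 5] .fail)), (1, .fail), (1, (.step [5, 19, 20] .fail)), (1, (.step [18, 18, 21, 21] .fail)), (1, (.step [18, 20, 19, 19, 21] .fail)), (1, (.step [18, 23, 24, 4, 23] .fail)), (1,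 (.step [18, 18, 4, 4, 18] .fail)), (1, .fail), (1, (.step [18, 20, 19] .fail)), (3, .fail), (1, (.step [4, 25, 18, 5] .fail)), (1, .fail), (1, (.step [19, 25, 22, 22] .fail)), (1, (.step [19, 23, 24, 23] .fail)), (3, .fail), (1, (.step [5, 22, 20] (.step [22, 22, 21] .fail))), (1, (.step [19, 22, 22, 18] .fail)), (1, (.step [18, 5, 21, 25] .fail)), (1, (.step [18, 18, 18, 24, 23] .fail)), (1, (.step [4, 21, 18, 5] .fail)), (2, .fail), (1, (.step [4, 22, 18, 20] .fail)), (1, (.step [18, 21, 23, 4] .fail)), (1, (.step [19, 19, 20, 20] .fail)), (1, (.step [18, 5, 22, 20] .fail)), (2, .fail), (1, (.step [4, 19, 22, 5] .fail)), (1, (.step [18, 18, 18, 5] (.step [21, 23, 23, 23] .fail))), (1, (.step [18, 5, 23, 21, 22] .fail)), (1, (.step [18, 5, 21, 21, 19] .fail)), (1, .fail), (1, (.step [4, 19, 23, 5] .fail)), (2, .fail), (1, (.step [18, 25, 5, 19, 25] .fail)), (1, (.step [19, 25, 19, 24] .fail)),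 (1, (.step [19, 24, 4, 18] .fail)), (1, (.step [19, 5, 22, 19] .fail)), (1, .fail), (1, (.step [18, 21, 19, 21] (.step [20, 28, 21, 27] .fail))), (4, .fail), (1, (.step [19, 19, 23, 25] (.step [20, 22] .fail))), (1, .fail), (1, (.step [4, 18, 23, 20] .fail)), (1, (.step [18, 18, 21, 21, 22] .fail)), (1, (.step [19, 21, 23, 5] .fail)), (1, .fail), (1, (.step [18, 4, 24, 18] .fail)), (1, (.step [18, 5, 24, 23, 4] .fail)), (1, (.step [18, 5, 18, 4, 18] .fail)), (1, (.step [19, 5, 21] (.step [20, 27, 22, 20, 20] .fail))), (2, .fail), (1, (.step [19, 22, 19, 24] .fail)), (1, (.step [18, 18, 24, 19] (.step [20, 20, 22, 22, 21] .fail))), (1, (.step [18, 4, 22, 21] .fail)), (1, .fail), (1, (.step [18, 18, 5, 5, 23] .fail)), (1, (.step [5, 18, 21, 4] .fail)), (1, (.step [18, 18, 4, 22, 18] .fail)), (3, .fail), (1, (.step [18, 24, 4, 21, 25] .fail)), (1, (.step [4, 23, 25, 5] (.step [21, 27, 25, 22] .fail))),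 (1, .fail), (1, (.step [18, 20, 18, 18, 18] .fail)), (1, .fail), (1, (.step [5, 23, 19, 5] .fail)), (1, (.step [18, 5, 20, 23] .fail)), (1, (.step [5, 22, 21] .fail)), (2, .fail), (1, (.step [18, 23, 25, 18] (.step [20, 20, 27, 23, 27] .fail))), (1, (.step [18, 25, 19, 22] .fail)), (1, .fail), (1, (.step [18, 5, 19, 23, 4] .fail)), (1, (.step [18, 18, 18, 4, 23] (.step [21, 28, 22, 22] .fail))), (2, .fail), (1, (.step [18, 5, 21, 21, 19] .fail)), (1, .fail), (1, (.step [18, 24, 18, 4] (.step [21, 22, 20] .fail))), (2, .fail), (1, (.step [18, 20, 25, 5] .fail)), (1, (.step [4, 4, 19, 21] (.step [22, 25, 23, 20] .fail))), (1, (.step [4, 4, 22, 18] .fail)), (1, (.step [18, 23, 23, 24] .fail)), (1, .fail), (1, (.step [4, 4, 21] .fail)), (3, .fail), (1, (.step [19, 24, 19, 25] (.step [20, 23, 21, 23] .fail))), (2, .fail), (1, (.step [4, 18, 24, 18] .fail)), (1, (.step [19, 20, 5, 5] .fail)), (1, (.step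 [18, 21, 21, 5] .fail)), (2, .fail), (1, (.step [19, 24, 23, 20] (.step [22, 28, 22, 25] .fail))), (4, .fail), (1, (.step [18, 18, 23, 4, 20] .fail)), (1, (.step [4, 4, 4, 23] .fail)), (1, .fail), (1, (.step [18, 5, 21, 18, 5] .fail)), (1, (.step [18, 22, 20, 20] .fail)), (1, (.step [4, 20, 18, 18] .fail)), (5, .fail), (1, (.step [18, 23, 18, 23] (.step [20, 20, 23, 23] .fail))), (2, .fail), (1, (.step [5, 25, 22] .fail)), (3, .fail), (1, (.step [5, 23, 21] .fail)), (1, .fail), (1, (.step [18, 5, 5, 20, 19] .fail)), (1, (.step [4, 18, 4, 22] .fail)), (1, (.step [18, 18, 23, 5, 5] (.step [22, 22, 22, 28] .fail))), (1, (.step [18, 24, 22, 4] .fail)), (6, .fail), (1, (.step [18, 18, 4, 22, 18] .fail)), (1, .fail), (1, (.step [18, 21, 22, 19, 4] .fail)), (3, .fail), (1, (.step [19, 21, 25] .fail)), (2, .fail), (1, (.step [4, 22, 5, 18] .fail)), (1, .fail), (1, (.step [19, 19, 24, 22, 20] .fail)),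 (3, .fail), (1, (.step [19, 4, 18, 20] .fail)), (1, .fail), (1, (.step [19, 19, 4, 20, 22] .fail)), (1, (.step [18, 4, 25, 18, 18] .fail)), (1, (.step [5, 18, 4, 19] .fail)), (1, .fail), (1, (.step [19, 23, 4] (.step [21, 28, 21, 27] .fail))), (1, .fail), (1, (.step [5, 18, 22] .fail)), (1, (.step [19, 4, 25] .fail)), (1, .fail), (1, (.step [18, 22, 4, 20] .fail)), (1, .fail), (1, (.step [5, 18, 18, 23] .fail)), (1, (.step [18, 20, 19, 22] .fail)), (1, .fail), (1, (.step [4, 4, 20, 22] .fail)), (2, .fail), (1, (.step [4, 21, 23, 24] .fail)), (1, (.step [19, 23, 20] .fail)), (1, (.step [19, 22, 4, 20, 5] .fail)), (1, (.step [19, 22, 25] .fail)), (3, .fail), (1, (.step [5, 19, 23] .fail)), (1, .fail), (1, (.step [4, 25, 4, 21] .fail)), (1, (.step [5, 19] (.step [22, 27, 21, 24] .fail))), (1, (.step [18, 5, 20, 19, 23] (.step [20, 20, 27, 27, 22] (.step [27, 26] (.done [27, 26, 20, 20, 27, 27, 22,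 18, 5, 20, 19, 23, 0, 0, 3, 0, 0, 1]))))), (1, (.step [18, 5, 22, 5, 23] .fail)), (1, (.step [5, 19, 20, 19] (.step [20, 20, 20, 23, 25] .fail))), (1, (.step [19, 23, 23, 25] .fail)), (2, .fail), (1, (.step [18, 4, 20, 4, 23] (.step [21, 22, 22, 28, 21] .fail))), (1, (.step [18, 23, 5, 23, 19] .fail)), (1, (.step [18, 22, 20, 23] .fail)), (2, .fail), (1, (.step [18, 18, 23, 5, 18] .fail)), (1, (.step [18, 21, 5] (.step [20, 20, 20, 23, 27] .fail))), (1, (.step [19, 4, 20, 24] .fail)), (4, .fail), (1, (.step [18, 25, 4, 18] (.step [23, 20, 28, 22] .fail))), (2, .fail), (1, (.step [19, 5, 19, 22, 4] (.step [22, 27, 22] .fail))), (1, .fail), (1, (.step [19, 19, 5, 23, 19] .fail)), (5, .fail), (1, (.step [19, 21, 19, 20] .fail)), (1, (.step [18, 22, 18, 25] (.step [20, 20, 28, 23, 23] (.step [28] (.badAt 1))))), (2, .fail), (1, (.step [18, 22, 5, 19, 23] .fail)), (1, (.step [18, 18, 4, 4, 20] .fail)),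 (1, .fail), (1, (.step [5, 23, 20, 22] (.step [21, 21, 23, 28] (.step [24, 28] (.done [24, 28, 21, 21, 23, 28, 5, 23, 20, 22, 0, 0, 1, 0, 3, 0]))))), (1, (.step [19, 21, 4, 19] .fail)), (1, .fail), (1, (.step [5, 23, 4] .fail)), (1, (.step [18, 23, 19, 24] .fail)), (2, .fail), (1, (.step [18, 4, 24, 22] .fail)), (1, (.step [19, 20, 18, 4] .fail)), (1, (.step [18, 25, 5, 5] .fail)), (1, (.step [19, 19, 23, 18] .fail)), (1, .fail), (1, (.step [19, 21, 24, 18] .fail)), (1, .fail), (1, (.step [18, 4, 22, 20, 19] (.step [23, 28, 22] .fail))), (3, .fail), (1, (.step [19, 22, 20, 18] .fail)), (1, (.step [4, 4, 20, 19] (.step [23, 24, 27] .fail))), (1, .fail), (1, (.step [18, 5, 5, 21] (.step [20, 22, 25, 28, 22] (.step [25, 27] (.badAt 1))))), (1, (.step [5, 19, 22, 25] .fail)), (1, .fail), (1, (.step [18, 5, 21, 23, 5] (.step [20, 28, 23, 24, 27] .fail))), (1, (.step [18, 5, 5, 24] .fail)), (1, (.step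 [4, 24, 22] .fail)), (1, (.step [18, 20, 5, 5, 23] .fail)), (1, (.step [5, 20, 18, 4] .fail)), (1, (.step [19, 5, 23, 23, 5] .fail)), (1, .fail), (1, (.step [18, 18, 18, 22, 18] (.step [20, 20, 20, 22, 27] .fail))), (1, (.step [18, 20, 5, 18] (.step [20, 28, 23, 25, 22] .fail))), (1, .fail), (1, (.step [19, 19, 25, 23] .fail)), (1, (.step [18, 18, 5, 23, 20] .fail)), (1, .fail), (1, (.step [5, 18, 4, 20] .fail)), (1, .fail), (1, (.step [19, 22, 20, 4] (.step [21, 21, 23] .fail))), (3, .fail), (1, (.step [18, 21, 19, 23] .fail)), (4, .fail), (1, (.step [18, 4, 24, 18, 22] (.step [20, 28, 22, 22, 27] .fail))), (1, .fail), (1, (.step [4, 19, 4, 24] .fail)), (1, (.step [18, 22, 19, 24] .fail)), (1, (.step [18, 18, 5, 22, 20] .fail)), (1, .fail), (1, (.step [19, 24, 22, 5] .fail)), (1, (.step [18, 18, 23, 18, 23] .fail)), (1, (.step [4, 20, 23, 25] .fail)), (1, (.step [18, 24, 23, 18] .fail)), (1,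 (.step [18, 25, 22, 20, 4] (.step [23, 25, 22, 22] .fail))), (1, (.step [18, 5, 5, 23, 19] .fail)), (1, (.step [18, 18, 21, 23, 23] .fail)), (1, (.step [4, 25, 19, 22] (.step [21, 22, 21, 21] .fail))), (2, .fail), (1, (.step [18, 18, 22, 4, 25] .fail)), (1, .fail), (1, (.step [18, 4, 24, 22, 5] (.step [20, 23, 21, 21] .fail))), (1, .fail), (1, (.step [4, 4, 19, 4] (.step [21, 21, 23, 25] .fail))), (2, .fail), (1, (.step [5, 22, 5] .fail)), (1, (.step [18, 18, 5, 19, 23] .fail)), (1, (.step [19, 23, 4, 22] .fail)), (1, (.step [18, 22, 24, 5, 25] .fail)), (1, (.step [5, 23, 5, 23] .fail)), (1, (.step [18, 18, 23, 18, 23] .fail)), (1, .fail), (1, (.step [18, 5, 18, 4, 18] .fail)), (1, (.step [5, 19, 19] .fail)), (1, (.step [18, 24, 4, 4] .fail)), (1, (.step [18, 20, 22, 25, 23] .fail)), (1, (.step [18, 24, 18, 5, 21] .fail)), (1, .fail), (1, (.step [18, 5, 18, 4, 19] .fail)), (1, (.step [19, 5, 21]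 .fail)), (1, (.step [19, 22, 20, 4] (.step [23, 23, 23, 23] .fail))), (1, .fail), (1, (.step [18, 5, 21, 18, 5] .fail)), (3, .fail), (1, (.step [19, 4, 20, 24] .fail)), (2, .fail), (1, (.step [18, 4, 20, 20, 23] .fail)), (1, (.step [18, 23, 24, 19] (.step [22, 20, 23, 27] (.step [25, 26, 27] (.done [25, 26, 27, 22, 20, 23, 27, 18, 23, 24, 19, 1, 2, 2, 1, 1, 1]))))), (1, (.step [19, 24, 22] .fail)), (1, (.step [19, 19, 5, 20, 24] .fail)), (1, (.step [18, 18, 23, 25, 19] (.step [23, 25, 22] .fail))), (1, (.step [18, 5, 19, 24] .fail)), (1, (.step [18, 21, 23, 23, 5] .fail)), (1, (.step [18, 20, 20, 19, 22] .fail)), (1, (.step [19, 23, 23, 21] (.step [22, 21, 23, 21] .fail))), (1, (.step [18, 23, 24, 4, 23] (.step [21, 22, 24, 23, 28] .fail))), (1, .fail), (1, (.step [18, 5, 25, 23] .fail)), (1, .fail), (1, (.step [18, 18, 22] .fail)), (1, .fail), (1, (.step [19, 21, 4] .fail)), (1, (.step [18, 23,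 20, 22] .fail)), (1, (.step [19, 4, 21, 21] .fail)), (1, .fail), (1, (.step [4, 25, 18, 25] (.step [21, 21, 23] (.step [24, 26, 28] (.badAt 1))))), (1, (.step [19, 20, 25, 23, 5] .fail)), (2, .fail), (1, (.step [18, 18, 18, 18, 25] .fail)), (1, (.step [4, 22, 5, 19] (.step [22, 20, 23] .fail))), (1, (.step [4, 21, 4] (.step [20, 20, 28, 20, 27] .fail))), (2, .fail), (1, (.step [19, 21, 25] (.step [21, 22, 24, 27] .fail))), (1, .fail), (1, (.step [19, 5, 20, 24] .fail)), (1, (.step [19, 22, 5, 5] .fail)), (2, .fail), (1, (.step [19, 20, 25, 19] .fail)), (1, .fail), (1, (.step [18, 20, 18, 24] .fail)), (3, .fail), (1, (.step [19, 19, 25, 22] .fail)), (1, (.step [18, 18, 4, 21, 25] .fail)), (1, (.step [19, 22, 24] (.step [22, 28, 23, 20, 24] .fail))), (1, .fail), (1, (.step [19, 4, 21, 24] .fail)), (1, (.step [18, 23, 23, 19] (.step [20, 20, 23, 28] .fail))), (1, (.step [4, 22, 22, 19] .fail)), (1,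 .fail), (1, (.step [18, 23, 19, 5, 25] .fail)), (1, (.step [5, 23, 19, 20] .fail)), (1, (.step [18, 5, 5, 22, 22] .fail)), (5, .fail), (1, (.step [18, 18, 21] .fail)), (2, .fail), (1, (.step [19, 20, 23, 21] .fail)), (1, .fail), (1, (.step [19, 20, 4, 25, 19] .fail)), (1, .fail), (1, (.step [5, 22, 25] .fail)), (1, .fail), (1, (.step [18, 22, 21, 21] .fail)), (1, .fail), (1, (.step [18, 20, 20, 4, 20] .fail)), (1, (.step [19, 22, 19, 24] .fail)), (1, (.step [5, 18, 4] .fail)), (1, (.step [18, 23, 18, 25] .fail)), (1, (.step [5, 23, 25, 22] .fail)), (2, .fail), (1, (.step [18, 21, 19, 23] .fail)), (1, (.step [4, 23, 25, 18] .fail)), (1, .fail), (1, (.step [18, 20, 24, 23, 18] .fail)), (4, .fail), (1, (.step [18, 22, 18] .fail)), (1, .fail), (1, (.step [5, 19, 5, 5] (.step [22, 28, 22] .fail))), (1, (.step [18, 25, 22, 24] (.step [20, 27, 20, 28, 21] .fail))), (1, (.step [18, 4, 4, 4, 4] (.step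 [20, 20, 28, 21, 22] .fail))), (1, (.step [18, 18, 4, 23, 19] (.step [22, 25, 27, 20] .fail))), (1, (.step [4, 20, 4, 22] .fail)), (1, (.step [18, 20, 24, 4] .fail)), (3, .fail), (1, (.step [18, 18, 5, 22, 18] .fail)), (1, (.step [4, 25, 4, 4] .fail)), (1, (.step [19, 4, 19, 22] .fail)), (1, .fail), (1, (.step [19, 4, 21, 22] .fail)), (1, (.step [18, 25, 22, 25] .fail)), (1, (.step [5, 20, 4, 22] (.step [22, 27, 23] .fail))), (1, (.step [4, 24, 5, 19] .fail)), (1, .fail), (1, (.step [18, 18, 5, 5, 20] .fail)), (1, (.step [18, 18, 5, 23] .fail)), (1, .fail), (1, (.step [18, 22, 5, 19, 20] .fail)), (1, .fail), (1, (.step [5, 18, 21, 19] .fail)), (1, (.step [5, 22, 24] (.step [21, 23, 25, 23] .fail))), (1, .fail), (1, (.step [18, 20, 4, 4, 20] .fail)), (1, (.step [18, 5, 23, 19] .fail)), (3, .fail), (1, (.step [18, 20, 18, 4, 18] (.step [21, 23, 27, 21, 24] .fail))), (1, .fail), (1, (.step [19, 20,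 22, 5, 19] .fail)), (1, .fail), (1, (.step [18, 4, 4, 25, 18] .fail)), (1, (.step [19, 19, 25, 22, 21] .fail)), (1, (.step [18, 4, 21, 5, 24] (.step [21, 22, 25, 28] (.step [26, 28] (.done [26, 28, 21, 22, 25, 28, 18, 4, 21, 5, 24, 1, 1, 0, 3, 3, 3]))))), (1, (.step [18, 18, 4, 18, 23] .fail)), (1, (.step [4, 23, 5, 22] .fail)), (1, (.step [19, 4, 24, 4] .fail)), (3, .fail), (1, (.step [18, 5, 5, 18] .fail)), (2, .fail), (1, (.step [4, 25, 4, 23] .fail)), (7, .fail), (1, (.step [4, 20, 5, 22] .fail)), (1, (.step [18, 4, 22, 21, 19] .fail)), (1, (.step [18, 18, 23, 5, 21] (.step [21, 22, 21] .fail))), (1, (.step [18, 18, 20, 23] .fail)), (1, (.step [5, 23, 19, 4] (.step [20, 23, 27, 22, 20] .fail))), (1, (.step [19, 20, 5, 18] .fail)), (1, (.step [18, 4, 4, 4, 18] .fail)), (1, (.step [18, 18, 23, 23, 25] .fail)), (1, .fail), (1, (.step [18, 18, 25, 5, 19] (.step [22, 20, 23, 20] .fail))), (1, .fail),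 (1, (.step [19, 25, 18, 25] .fail)), (2, .fail), (1, (.step [18, 4, 21, 5, 22] .fail)), (1, (.step [4, 25, 5] (.step [23, 20, 25, 22] .fail))), (1, (.step [4, 18, 22] .fail)), (1, (.step [18, 4, 24, 19, 22] .fail)), (1, (.step [19, 5, 19, 19] .fail)), (1, (.step [19, 25, 23, 23] .fail)), (1, (.step [5, 20, 22, 4] .fail)), (1, (.step [18, 22, 21, 19, 22] .fail)), (1, (.step [5, 18, 4, 24] .fail)), (1, .fail), (1, (.step [18, 20, 18, 22, 5] .fail)), (1, (.step [19, 20, 22, 18] (.step [22, 27, 25] .fail))), (3, .fail), (1, (.step [18, 22, 20, 22, 18] (.step [23, 21, 28, 23, 23] .fail))), (1, (.step [19, 20, 23, 18] .fail)), (2, .fail), (1, (.step [18, 5, 23, 5, 23] .fail)), (1, (.step [18, 20, 5, 21, 5] (.step [22, 28, 23, 25] .fail))), (3, .fail), (1, (.step [18, 22, 5, 22, 18] (.step [23, 24, 28, 21] .fail))), (1, (.step [4, 25, 4] .fail)), (1, (.step [18, 18, 25, 19, 24] .fail)), (1, .fail), (1,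 (.step [5, 20, 24, 23] .fail)), (1, .fail), (1, (.step [5, 20, 4, 22] .fail)), (2, .fail), (1, (.step [19, 22, 4, 24] (.step [22, 27, 23] .fail))), (1, (.step [18, 20, 4, 21, 24] .fail)), (1, (.step [18, 4, 20, 22, 4] .fail)), (1, (.step [4, 18, 21, 25] (.step [23, 20, 28, 24] .fail))), (1, (.step [4] (.step [21, 22, 22, 27] .fail))), (6, .fail), (1, (.step [19, 21, 22] .fail)), (1, .fail), (1, (.step [18, 4, 18, 23, 21] .fail)), (1, (.step [18, 23, 4, 18, 5] .fail)), (1, (.step [18, 23, 19, 21, 25] .fail)), (3, .fail), (1, (.step [18, 5, 24, 22] (.step [21, 28, 21, 21] .fail))), (1, (.step [4, 19, 20, 4] .fail)), (1, (.step [18, 20, 20, 20, 23] (.step [21, 21, 27, 22] .fail))), (1, .fail), (1, (.step [18, 21, 5, 21] .fail)), (1, .fail), (1, (.step [18, 25, 18, 4, 20] .fail)), (4, .fail), (1, (.step [19, 19, 25, 18] .fail)), (2, .fail), (1, (.step [18, 5, 23, 21] (.step [21, 28, 20] .fail))),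 (1, .fail), (1, (.step [18, 4, 19, 24, 19] .fail)), (1, (.step [19, 20, 19, 19] (.step [21, 21, 22, 27] .fail))), (1, (.step [18, 22, 20, 22, 22] .fail)), (1, (.step [19, 4, 18, 24] (.step [23, 24, 28, 21] .fail))), (1, (.step [18, 4, 4, 20, 18] .fail)), (1, (.step [18, 18, 23, 4, 21] .fail)), (1, .fail), (1, (.step [4, 4, 19, 22] .fail)), (1, (.step [18, 23, 18, 23, 19] .fail)), (1, (.step [5, 19, 19, 21] .fail)), (1, .fail), (1, (.step [18, 21, 23, 19] .fail)), (1, (.step [19, 19, 25, 22, 21] .fail)), (1, (.step [19, 23, 25, 22, 20] .fail)), (1, .fail), (1, (.step [18, 18, 18, 22] .fail)), (1, (.step [19, 19, 24, 19, 19] .fail)), (1, (.step [18, 18, 4, 22, 21] .fail)), (1, (.step [19, 5, 21, 4, 21] .fail)), (1, .fail), (1, (.step [18, 4, 22, 20] .fail)), (1, (.step [18, 4, 21, 5] (.step [20, 22, 20, 20] .fail))), (1, (.step [5, 25, 23] .fail)), (2, .fail), (1, (.step [18, 18, 5, 21] .fail)),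 (3, .fail), (1, (.step [4, 22, 25] .fail)), (4, .fail), (1, (.step [18, 5, 22, 20] (.step [21, 23, 23, 25] .fail))), (1, (.step [19, 20, 19, 4] (.step [20, 20, 22, 22, 21] .fail))), (1, (.step [18, 4, 22, 22] (.step [21, 22, 28, 22] .fail))), (1, (.step [5, 25, 5, 25] .fail)), (1, .fail), (1, (.step [19, 4, 25, 19] .fail)), (1, .fail), (1, (.step [5, 25, 23, 18] (.step [20, 27, 23, 24] .fail))), (3, .fail), (1, (.step [5, 20, 4, 22] .fail)), (1, .fail), (1, (.step [19, 5, 5, 19] .fail)), (1, (.step [19, 24, 19, 24] .fail)), (1, (.step [18, 25, 4, 18] (.step [20, 20, 22, 22, 25] (.step [28] (.badAt 1))))), (1, .fail), (1, (.step [4, 18, 4, 20] .fail)), (1, (.step [18, 23, 23, 21] .fail)), (1, .fail), (1, (.step [18, 24, 5, 24] (.step [22, 21, 23, 28] .fail))), (2, .fail), (1, (.step [4, 20, 19, 24] .fail)), (1, (.step [19, 23, 18, 22] .fail)), (1, (.step [18, 21, 22, 4] .fail)), (1, .fail), (1,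 (.step [18, 5, 5, 21] .fail)), (1, .fail), (1, (.step [18, 4, 24, 18, 20] .fail)), (1, (.step [4, 19, 23, 20] .fail)), (1, .fail), (1, (.step [19, 21, 24, 22] .fail)), (2, .fail), (1, (.step [19, 22, 20, 22] .fail)), (1, .fail), (1, (.step [19, 23, 23, 24] .fail)), (1, (.step [5, 22, 20] .fail)), (1, (.step [19, 22, 25, 19] (.step [22, 20, 25] (.step [24, 28] (.badAt 1))))), (1, (.step [4, 20, 18] .fail)), (1, (.step [18, 18, 18, 20] .fail)), (1, (.step [18, 18, 4, 25] (.step [22, 25, 27] .fail))), (2, .fail), (1, (.step [18, 25, 19, 21] .fail)), (1, .fail), (1, (.step [18, 4, 19, 22] .fail)), (1, (.step [18, 22, 25, 23] .fail)), (1, (.step [18, 22, 19, 4] .fail)), (1, (.step [5, 25, 23] (.step [22, 28, 23] .fail))), (1, (.step [19, 21, 23, 25] .fail)), (1, .fail), (1, (.step [18, 20, 20, 19, 25] .fail)), (2, .fail), (1, (.step [19, 22, 18] .fail)), (1, .fail), (1, (.step [4, 19, 23, 19] .fail)),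 (1, .fail), (1, (.step [18, 18, 4, 4, 25] .fail)), (1, .fail), (1, (.step [19, 24, 4, 4] .fail)), (1, (.step [18, 22, 21, 23, 5] .fail)), (1, (.step [19, 5, 5, 25] .fail)), (1, (.step [19, 19, 23, 24] .fail)), (2, .fail), (1, (.step [18, 24, 19, 19, 25] .fail)), (1, (.step [18, 5, 21, 19, 21] .fail)), (5, .fail), (1, (.step [4, 21, 24, 4] .fail)), (1, .fail), (1, (.step [5, 19, 23, 25] (.step [22, 27, 20] .fail))), (2, .fail), (1, (.step [18, 23, 20, 25] .fail)), (1, (.step [19, 22, 24] .fail)), (1, .fail), (1, (.step [18, 4, 24, 23] .fail)), (1, (.step [4, 4, 4, 25] .fail)), (2, .fail), (1, (.step [19, 5, 23, 25] .fail)), (1, (.step [18, 4, 4, 22, 4] .fail)), (1, (.step [5, 19] .fail)), (3, .fail), (1, (.step [19, 24, 4] .fail)), (1, .fail), (1, (.step [5, 22, 5, 18] (.step [20, 20, 23, 20, 24] (.step [27, 26] (.done [27, 26, 20, 20, 23, 20, 24, 5, 22, 5, 18, 2, 3, 2, 2, 1, 0, 0]))))), (1, (.step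 [18, 22, 4, 22] .fail)), (1, (.step [19, 20, 23, 24] (.step [20, 22, 20, 22] .fail))), (1, (.step [19, 5, 21, 19] .fail)), (1, (.step [18, 18, 23, 23, 18] .fail)), (2, .fail), (1, (.step [18, 24, 18, 24] (.step [21, 28, 20] (.step [26, 27] (.done [26, 27, 21, 28, 20, 18, 24, 18, 24, 2, 3, 2, 3, 2, 2, 1]))))), (2, .fail), (1, (.step [18, 4, 22, 18, 4] .fail)), (1, (.step [19, 24] (.step [23, 27, 23] (.step [26, 27] (.done [26, 27, 23, 27, 23, 19, 24, 2, 3, 2, 3, 2, 1, 2]))))), (1, (.step [18, 20, 18, 20, 23] .fail)), (1, .fail), (1, (.step [18, 22] .fail)), (1, (.step [19, 20, 22] .fail)), (1, (.step [4, 23, 5, 5] .fail)), (1, (.step [18, 18, 20, 20, 23] .fail)), (1, (.step [18, 5, 22, 22, 19] .fail)), (1, .fail), (1, (.step [18, 4, 21, 5, 24] (.step [23, 25, 28, 22] .fail))), (1, .fail), (1, (.step [5, 18, 24] .fail)), (1, (.step [19, 24, 5, 22] .fail)), (1, (.step [18, 5, 21, 19] .fail)), (1,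 (.step [18, 18, 5, 5, 21] (.step [20, 20, 23] (.step [28, 24] (.badAt 1))))), (1, (.step [5, 19, 4, 25] .fail)), (1, .fail), (1, (.step [18, 20, 20, 23, 5] .fail)), (1, .fail), (1, (.step [19, 21, 22, 5, 5] (.step [22, 20, 27] .fail))), (1, (.step [19, 5, 5, 24] .fail)), (2, .fail), (1, (.step [5, 23, 4, 4] (.step [22, 20, 20] .fail))), (1, (.step [19, 23, 20, 18] .fail)), (1, (.step [4, 18, 18, 20] .fail)), (1, (.step [5, 19, 4] (.step [23, 25, 22] .fail))), (2, .fail), (1, (.step [19, 20, 25, 23] .fail)), (1, (.step [19, 24, 22, 5] .fail)), (1, (.step [4, 4, 18, 25] .fail)), (1, (.step [18, 5, 19, 22, 22] .fail)), (1, .fail), (1, (.step [5, 25, 4] .fail)), (1, (.step [19, 24, 4, 4] .fail)), (1, .fail), (1, (.step [18, 5, 25, 23] (.step [23, 20, 28, 22] (.step [27] (.done [27, 23, 20, 28, 22, 18, 5, 25, 23, 2, 3, 3, 2, 3, 3, 3]))))), (1, (.step [4, 4, 19, 23] (.step [22, 27, 25, 27] .fail))),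 (1, (.step [18, 23, 5, 22] .fail)), (1, (.step [4, 23, 25, 5] .fail)), (1, (.step [19, 4, 24, 23] .fail)), (2, .fail), (1, (.step [4, 22, 19, 20] .fail)), (1, (.step [5, 19, 19] .fail)), (1, .fail), (1, (.step [18, 24, 19] (.step [22, 20] .fail))), (1, .fail), (1, (.step [19, 4, 18, 22] .fail)), (1, (.step [5, 20, 4, 25] .fail)), (2, .fail), (1, (.step [4, 18, 22, 19] .fail)), (1, (.step [18, 24, 19, 25, 19] .fail)), (1, .fail), (1, (.step [18, 5, 18] .fail)), (3, .fail), (1, (.step [18, 18, 5, 18, 4] (.step [20, 28, 22, 28] .fail))), (1, (.step [5, 19, 22, 25] .fail)), (1, (.step [4, 23, 21] .fail)), (1, (.step [4, 25, 23, 21] .fail)), (1, (.step [19, 5, 21, 5] (.step [22, 27, 21, 22] .fail))), (1, .fail), (1, (.step [4, 4, 22, 20] .fail)), (1, (.step [4, 20, 19, 5] .fail)), (1, (.step [18, 4, 25, 5] .fail)), (1, (.step [4, 25] .fail)), (4, .fail), (1, (.step [4, 21, 19] (.step [21, 21, 27] .fail))),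 (1, (.step [4, 18, 18, 4] .fail)), (1, (.step [18, 24, 4] .fail)), (1, .fail), (1, (.step [18, 21, 25, 23] (.step [21, 22] (.step [25, 26] (.badAt 1))))), (1, (.step [18, 4, 20, 25] .fail)), (1, (.step [4, 18, 20, 19] (.step [20, 23, 27, 23] .fail))), (1, (.step [19, 25, 4, 22] .fail)), (1, (.step [19, 24, 18, 25] .fail)), (1, (.step [18, 4, 19, 5] .fail)), (2, .fail), (1, (.step [5, 22, 22, 24] .fail)), (1, (.step [18, 21, 18, 22] .fail)), (3, .fail), (1, (.step [4, 23, 4, 23] .fail)), (1, (.step [18, 18, 5, 22, 24] .fail)), (1, (.step [18, 24, 19, 25, 5] (.step [23, 25, 27, 22, 28] .fail))), (4, .fail), (1, (.step [5, 22, 21, 24] .fail)), (1, .fail), (1, (.step [19, 4, 18, 20] .fail)), (4, .fail), (1, (.step [4, 20, 23, 25] .fail)), (7, .fail), (1, (.step [5, 25, 23, 21] (.step [23, 24, 22, 25] .fail))), (1, (.step [18, 20, 23, 24] .fail)), (2, .fail), (1, (.step [18, 24, 5, 22] (.step [22,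 22, 20, 20] .fail))), (1, (.step [18, 24, 22, 22] .fail)), (1, (.step [4, 4, 20] (.step [22, 21, 22, 25] .fail))), (1, .fail), (1, (.step [18, 18, 5, 22, 19] (.step [23, 21, 28, 23, 23] .fail))), (3, .fail), (1, (.step [19, 21, 5] .fail)), (1, (.step [19, 21, 25, 23] .fail)), (1, (.step [19, 5, 21, 19] .fail)), (1, (.step [19, 4, 23, 5] .fail)), (2, .fail), (1, (.step [4, 20, 20] (.step [20, 27, 23, 23] .fail))), (1, (.step [19, 23, 25, 5] .fail)), (1, (.step [18, 21, 21, 5] (.step [23, 20, 28, 23] (.step [28, 24] (.badAt 1))))), (1, .fail), (1, (.step [18, 4, 4, 22, 25] .fail)), (1, (.step [18, 4, 24, 4] .fail)), (1, (.step [18, 18, 5, 21, 19] .fail)), (3, .fail), (1, (.step [18, 21, 18, 20, 4] .fail)), (1, .fail), (1, (.step [19, 22, 22] .fail)), (1, .fail), (1, (.step [18, 18, 23, 25] .fail)), (1, (.step [4, 25, 4, 19] .fail)), (1, (.step [18, 25, 5, 19, 25] (.step [23, 27, 21] .fail))), (1,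 (.step [18, 20, 4, 19, 20] .fail)), (1, (.step [18, 18, 20, 20, 23] .fail)), (1, (.step [4, 18, 18, 18] .fail)), (2, .fail), (1, (.step [18, 4, 4, 25, 18] .fail)), (1, (.step [19, 23, 18, 20] .fail)), (1, .fail), (1, (.step [18, 4, 19, 23] .fail)), (1, (.step [19, 25] .fail)), (1, (.step [18, 20, 24, 23, 24] .fail)), (2, .fail), (1, (.step [19, 21, 22, 20] .fail)), (1, (.step [18, 18, 5, 18] .fail)), (1, (.step [19, 19, 4, 22] .fail)), (1, (.step [18, 18, 4, 18, 23] (.step [20, 20, 28, 23] .fail))), (1, .fail), (1, (.step [4, 18, 23, 19] (.step [20, 23, 27, 22, 24] .fail))), (1, .fail), (1, (.step [4, 25, 4, 19] .fail)), (1, (.step [19, 5, 21, 24] (.step [21, 22, 20] .fail))), (1, (.step [19, 5, 21] .fail)), (2, .fail), (1, (.step [18, 22, 5, 19] .fail)), (1, (.step [18, 23, 21, 25] .fail)), (1, (.step [19, 5, 24, 23, 24] .fail)), (1, .fail), (1, (.step [18, 18, 24, 19, 20] (.step [20, 22, 25,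 28] .fail))), (1, .fail), (1, (.step [5, 18, 22, 19] .fail)), (1, .fail), (1, (.step [18, 22, 18, 4, 23] (.step [20, 23, 20, 28, 22] .fail))), (1, .fail), (1, (.step [18, 25, 22, 21, 4] .fail)), (1, .fail), (1, (.step [18, 23, 4, 18] (.step [23, 23, 23] .fail))), (1, .fail), (1, (.step [19, 25, 22, 18] .fail)), (4, .fail), (1, (.step [4, 19, 19] (.step [20, 20, 20, 22] .fail))), (1, (.step [19, 21, 25] (.step [20, 23, 20] .fail))), (1, (.step [4, 24, 18, 23] (.step [22, 22, 24, 23] (.step [26, 27] (.done [26, 27, 22, 22, 24, 23, 4, 24, 18, 23, 2, 1, 0, 0, 1, 2, 2]))))), (1, .fail), (1, (.step [5, 20, 18] .fail)), (1, .fail), (1, (.step [18, 4, 4, 23, 19] .fail)), (1, (.step [18, 4, 19, 24] (.step [20, 20, 22, 20, 27] .fail))), (1, (.step [18, 4, 22, 25, 23] .fail)), (1, (.step [19, 19, 23, 24] .fail)), (1, (.step [5, 19, 19, 24] (.step [22, 20, 28, 20] (.step [24, 26, 27] (.badAt 1))))), (2, .fail),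 (1, (.step [18, 4, 18, 23, 23] .fail)), (1, .fail), (1, (.step [4, 18, 22, 25] .fail)), (1, (.step [19, 4, 21, 24] .fail)), (1, (.step [19, 5, 20, 4] .fail)), (1, (.step [19, 22, 22, 22] .fail)), (1, (.step [18, 18, 4, 25] .fail)), (1, (.step [18, 20, 24, 18, 20] .fail)), (1, (.step [5, 22, 21, 24] (.step [21, 22, 20, 20] .fail))), (1, .fail), (1, (.step [4, 25, 19, 5] .fail)), (1, (.step [19, 19, 5, 22, 5] .fail)), (1, .fail), (1, (.step [4, 18, 18, 23] .fail)), (1, .fail), (1, (.step [18, 20, 23, 20] .fail)), (3, .fail), (1, (.step [18, 24, 23, 18] .fail)), (1, (.step [18, 5, 20, 20, 19] (.step [20, 20, 28, 22, 22] .fail))), (1, .fail), (1, (.step [19, 22, 21] .fail)), (1, (.step [18, 22, 18, 4] .fail)), (1, .fail), (1, (.step [5, 23, 23, 20] .fail)), (1, .fail), (1, (.step [18, 4, 24, 19, 24] .fail)), (2, .fail), (1, (.step [19, 24, 5, 22] .fail)), (2, .fail), (1, (.step [5, 22, 25, 19] .fail)),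 (4, .fail), (1, (.step [4, 21, 24] .fail)), (1, .fail), (1, (.step [18, 22, 18, 21] .fail)), (4, .fail), (1, (.step [4, 4, 23, 4] .fail)), (2, .fail), (1, (.step [18, 5, 21, 21] .fail)), (1, .fail), (1, (.step [18, 20, 20, 25, 23] .fail)), (1, (.step [18, 20, 25, 18, 24] .fail)), (2, .fail), (1, (.step [5, 23, 24, 19] .fail)), (1, (.step [18, 18, 21, 25] .fail)), (5, .fail), (1, (.step [4, 21, 19, 20] (.step [22, 21, 28] .fail))), (1, (.step [19, 25, 23] .fail)), (1, (.step [18, 20, 23, 23] .fail)), (2, .fail), (1, (.step [4, 4, 19, 23] .fail)), (1, (.step [18, 18, 23, 5, 23] (.step [20, 28, 21, 27] .fail))), (1, (.step [19, 20, 4, 25] .fail)), (1, (.step [19, 21, 19, 22, 25] .fail)), (3, .fail), (1, (.step [18, 4, 21, 5, 24] .fail)), (1, (.step [18, 18, 20, 24, 19] .fail)), (1, .fail), (1, (.step [4, 22, 25, 22] .fail)), (1, .fail), (1, (.step [18, 21, 5, 22] .fail)), (1, .fail), (1, (.step [18,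 22, 4, 4, 18] .fail)), (1, (.step [18, 20, 23, 24] .fail)), (1, (.step [18, 4, 18, 4, 23] .fail)), (1, (.step [19, 5, 5, 25] (.step [20, 23, 23, 23] .fail))), (1, (.step [4, 19, 22, 24] .fail)), (1, .fail), (1, (.step [4, 23, 21, 21] (.step [21, 23, 21] .fail))), (1, .fail), (1, (.step [18, 24, 4, 24] .fail)), (1, .fail), (1, (.step [19, 19, 5, 5] .fail)), (2, .fail), (1, (.step [18, 4, 20, 24, 18] (.step [20, 20, 22, 22] .fail))), (1, (.step [4, 19, 19, 24] .fail)), (1, (.step [5, 19, 21] .fail)), (1, (.step [19, 25, 22, 21] .fail)), (1, .fail), (1, (.step [18, 21, 25, 19, 23] .fail)), (1, .fail), (1, (.step [4, 4, 25] .fail)), (2, .fail), (1, (.step [18, 24, 4, 24, 23] .fail)), (1, (.step [19, 24, 18, 21, 22] .fail)), (1, (.step [4, 24, 5, 25] .fail)), (1, (.step [18, 5, 23, 21] .fail)), (1, (.step [18, 4, 4, 24] .fail)), (1, (.step [18, 18, 18, 18] .fail)), (3, .fail), (1, (.step [19, 5, 21,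 24] .fail)), (1, (.step [19, 19, 25, 23] .fail)), (1, .fail), (1, (.step [18, 4, 18, 22] (.step [20, 22, 22, 22, 25] .fail))), (1, (.step [4, 22, 18, 25] .fail)), (3, .fail), (1, (.step [5, 18, 21, 4] .fail)), (1, (.step [19, 22, 21, 5] .fail)), (1, .fail), (1, (.step [18, 22, 21, 4] .fail)), (2, .fail), (1, (.step [5, 23, 19, 19] .fail)), (1, .fail), (1, (.step [19, 5, 20, 20] .fail)), (1, (.step [18, 22, 21, 4, 24] .fail)), (2, .fail), (1, (.step [18, 23, 4, 4] (.step [20, 27, 22, 20, 20] .fail))), (1, (.step [18, 21, 25, 18, 20] (.step [21] .fail))), (1, .fail), (1, (.step [18, 23, 5, 20] .fail)), (1, (.step [19, 23, 24, 22] .fail)), (1, (.step [4, 19, 19, 23] (.step [21, 23, 20, 24] .fail))), (1, .fail), (1, (.step [19, 22, 18, 4] (.step [20, 20, 28, 22, 20] .fail))), (1, (.step [18, 4, 4, 20, 18] .fail)), (1, (.step [18, 18, 18, 24, 18] .fail)), (1, (.step [18, 18, 5, 22] (.step [20, 20,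 23, 24, 22] .fail))), (1, .fail), (1, (.step [19, 5, 23, 21] .fail)), (4, .fail), (1, (.step [18, 22, 22] .fail)), (1, (.step [5, 22, 21, 22] .fail)), (1, (.step [19, 22, 19, 24] .fail)), (1, (.step [4, 25, 4, 21] .fail)), (4, .fail), (1, (.step [18, 20, 20, 19, 22] (.step [23, 28] .fail))), (1, (.step [18, 5, 24, 22, 18] .fail)), (1, (.step [19, 5, 5, 25] .fail)), (1, (.step [19, 22, 21, 24] (.step [20, 22, 25, 22, 22] .fail))), (1, (.step [4, 4, 19, 19] .fail)), (1, .fail), (1, (.step [18, 20, 20, 20, 18] .fail)), (1, (.step [4, 21, 22, 20] .fail)), (1, (.step [18, 24, 5, 5] (.step [21, 23, 23, 25, 22] .fail))), (2, .fail), (1, (.step [19, 20, 23, 19] (.step [22, 24, 23, 23] .fail))), (2, .fail), (1, (.step [19, 23, 23] .fail)), (1, (.step [18, 4, 18, 4] .fail)), (1, .fail), (1, (.step [18, 5, 22, 22, 5] .fail)), (1, (.step [18, 21, 25, 4] .fail)), (1, (.step [4, 25, 4, 23] .fail)), (1, .fail),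 (1, (.step [18, 5, 23, 5, 23] .fail)), (2, .fail), (1, (.step [19, 5, 19, 25] .fail)), (1, (.step [19, 19, 22, 24] .fail)), (1, (.step [4, 19, 23, 18] .fail)), (3, .fail), (1, (.step [4, 19, 20, 19] .fail)), (1, .fail), (1, (.step [18, 21, 5, 18] .fail)), (1, (.step [4, 19, 5, 25] (.step [21, 23, 21] .fail))), (1, (.step [4, 19, 22, 5] .fail)), (1, (.step [18, 23, 19, 5, 20] (.step [21, 22, 21, 28, 22] .fail))), (1, (.step [18, 5, 23, 21, 22] .fail)), (1, .fail), (1, (.step [19, 25, 22, 18] .fail)), (1, (.step [5, 23, 24, 19] .fail)), (1, .fail), (1, (.step [4, 18, 21, 22] (.step [20, 20, 28] .fail))), (1, (.step [18, 4, 4, 20, 25] .fail)), (1, (.step [19, 20, 23, 18] (.step [21, 21, 27, 22] .fail))), (1, (.step [4, 23, 20] .fail)), (3, .fail), (1, (.step [18, 21, 18, 22, 25] .fail)), (1, (.step [19, 20, 19, 23, 18] .fail)), (1, .fail), (1, (.step [19, 25, 18, 22] .fail)), (1, .fail), (1, (.step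 [18, 20, 4, 21] .fail)), (1, (.step [18, 23, 23, 24] (.step [20, 27, 27, 22] .fail))), (1, (.step [18, 18, 23, 20] .fail)), (1, .fail), (1, (.step [5, 19, 21, 22] (.step [23, 20, 24, 22] .fail))), (1, (.step [19, 20, 22, 18] .fail)), (2, .fail), (1, (.step [18, 5, 22, 5, 24] .fail)), (1, (.step [18, 18, 23, 24] .fail)), (1, (.step [18, 4, 20] .fail)), (1, .fail), (1, (.step [18, 22, 4, 20, 20] .fail)), (1, (.step [18, 4, 25] (.step [22, 27, 23, 27] .fail))), (1, .fail), (1, (.step [18, 20, 23, 20] .fail)), (1, .fail), (1, (.step [19, 23, 21, 21] .fail)), (4, .fail), (1, (.step [18, 22, 21, 18] .fail)), (1, (.step [18, 24, 18, 20, 20] .fail)), (1, (.step [18, 21, 25, 19, 24] .fail)), (1, (.step [19, 24, 23, 4] (.step [20, 22, 21, 21] .fail))), (2, .fail), (1, (.step [4, 20, 19, 4] .fail)), (1, (.step [18, 23, 24, 4, 21] .fail)), (5, .fail), (1, (.step [18, 4, 20, 5] (.step [23, 21, 28] .fail))),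 (1, .fail), (1, (.step [18, 18, 5, 25] .fail)), (1, .fail), (1, (.step [18, 22, 22, 19, 21] .fail)), (2, .fail), (1, (.step [19, 19, 23, 19, 22] (.step [20, 22, 22, 22, 25] .fail))), (2, .fail), (1, (.step [5, 20, 20] (.step [21, 22, 21, 28] .fail))), (4, .fail), (1, (.step [19, 22, 4, 20, 5] .fail)), (2, .fail), (1, (.step [19, 5, 5, 19, 24] .fail)), (1, (.step [19, 21, 24, 22] (.step [20, 20, 27, 20] .fail))), (1, (.step [18, 22, 20, 4] .fail)), (1, (.step [18, 20, 23, 21, 22] .fail)), (1, (.step [19, 19, 20, 23] .fail)), (1, (.step [4, 24, 18, 4] .fail)), (1, (.step [18, 20, 20, 18] .fail)), (2, .fail), (1, (.step [4, 19, 5, 25] .fail)), (1, .fail), (1, (.step [19, 21, 19, 25, 19] .fail)), (2, .fail), (1, (.step [18, 4, 4, 22] .fail)), (1, (.step [5, 23, 19, 5] .fail)), (1, .fail), (1, (.step [18, 24, 5, 18, 5] (.step [20, 27, 22, 20] .fail))), (1, (.step [18, 18, 20, 20, 20] (.step [20, 20,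 22, 22, 22] .fail))), (1, (.step [18, 20, 4, 4, 25] .fail)), (1, (.step [18, 5, 19, 21, 22] .fail)), (1, (.step [5, 18, 23, 24] .fail)), (1, .fail), (1, (.step [5, 19, 4, 25] .fail)), (1, (.step [19, 5, 23, 4] (.step [20, 28, 23, 27, 20] .fail))), (1, .fail), (1, (.step [18, 20, 23, 4, 21] .fail)), (2, .fail), (1, (.step [18, 4, 24, 5, 23] .fail)), (1, .fail), (1, (.step [18, 21, 22, 19, 5] .fail)), (1, (.step [18, 24, 4, 24, 23] (.step [21, 22, 25, 28] (.step [27] (.done [27, 21, 22, 25, 28, 18, 24, 4, 24, 23, 3, 3, 0, 1, 2, 3, 2]))))), (1, (.step [4, 18, 4, 25] (.step [23, 25, 27] .fail))), (3, .fail), (1, (.step [19, 22] (.step [23, 28, 22, 20] .fail))), (1, (.step [18, 22, 24, 19] .fail)), (1, .fail), (1, (.step [18, 5, 5] (.step [22, 20, 28] .fail))), (1, (.step [5, 20, 18, 5] (.step [22, 22, 20, 27] .fail))), (1, (.step [19, 4, 19, 5, 20] .fail)), (1, (.step [19, 21, 22, 21] .fail)), (4,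 .fail), (1, (.step [18, 21, 22, 19, 5] .fail)), (1, (.step [18, 5, 5, 19, 25] (.step [21, 23, 25, 27] .fail))), (2, .fail), (1, (.step [19, 22, 20, 18] .fail)), (1, (.step [18, 4, 20] .fail)), (1, .fail), (1, (.step [18, 5, 24, 18] .fail)), (1, .fail), (1, (.step [19, 4, 20, 22] (.step [22, 20, 23, 20] .fail))), (1, (.step [19, 19, 23, 18, 23] .fail)), (2, .fail), (1, (.step [18, 23, 4, 4] .fail)), (1, (.step [5, 18, 5] .fail)), (2, .fail), (1, (.step [4, 25, 23, 21] .fail)), (1, .fail), (1, (.step [18, 18, 5, 18, 4] .fail)), (1, .fail), (1, (.step [19, 4, 4, 4] .fail)), (1, .fail), (1, (.step [18, 22, 22, 19] .fail)), (1, (.step [4, 22, 18, 25] .fail)), (1, .fail), (1, (.step [18, 5, 19, 24, 4] .fail)), (2, .fail), (1, (.step [18, 22, 19, 5, 18] (.step [22, 24, 22, 28] .fail))), (1, (.step [19, 23, 18, 5] .fail)), (1, .fail), (1, (.step [19, 19, 24, 23] (.step [22, 22, 20] .fail))), (1, .fail),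 (1, (.step [19, 21, 4, 19] .fail)), (1, (.step [4, 22, 19, 21] (.step [21, 21, 21, 23] (.step [28] (.done [28, 21, 21, 21, 23, 4, 22, 19, 21, 3, 0, 3, 0, 0, 3, 2]))))), (1, (.step [18, 20, 24] .fail)), (1, (.step [19, 19, 20, 23] .fail)), (1, (.step [18, 20, 25, 23] .fail)), (1, .fail), (1, (.step [18, 18, 24, 22, 21] (.step [21, 23, 21] .fail))), (2, .fail), (1, (.step [18, 20, 18, 5, 19] .fail)), (1, (.step [4, 19, 23, 20] .fail)), (1, (.step [19, 5, 20, 4] .fail)), (1, (.step [5, 18, 22, 4] .fail)), (1, (.step [18, 20, 20, 23, 5] .fail)), (1, (.step [18, 4, 18, 24] .fail)), (11, .fail), (1, (.step [5, 22, 18] .fail)), (1, (.step [19, 21, 24, 22] .fail)), (1, .fail), (1, (.step [18, 18, 22, 19, 25] .fail))])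

/-- a piece of a certificate -/
noncomputable def cCh_1 : Cert := (Cert.rl [(3, .fail), (1, (.step [18, 22, 19, 4, 19] .fail)), (1, (.step [18, 4, 20] (.step [20, 20, 28, 23] .fail))), (3, .fail), (1, (.step [19, 23, 21, 4] .fail)), (1, .fail), (1, (.step [19, 19, 4, 18] .fail)), (1, .fail), (1, (.step [18, 18, 25, 19, 24] (.step [23, 23, 20, 27] .fail))), (7, .fail), (1, (.step [18, 20, 18, 22, 5] .fail)), (3, .fail), (1, (.step [4, 19, 24] .fail)), (1, (.step [5, 20, 24, 18] .fail)), (1, (.step [18, 18, 5, 22, 24] (.step [23, 20, 24, 22] .fail))), (1, (.step [4, 19, 23, 21] .fail)), (1, .fail), (1, (.step [18, 4, 4, 25, 4] (.step [21, 28, 23, 24] .fail))), (2, .fail), (1, (.step [18, 22, 25, 5] .fail)), (1, (.step [18, 24, 19, 25] .fail)), (5, .fail), (1, (.step [4, 4, 19, 21] .fail)), (1, (.step [18, 20, 20, 20] .fail)), (2, .fail), (1, (.step [5, 18, 20, 19] .fail)), (1, .fail), (1, (.step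 [18, 4, 22] .fail)), (1, (.step [18, 4, 22, 25] (.step [20, 27, 21] .fail))), (1, (.step [19, 5, 21, 19] .fail)), (1, (.step [19, 21, 24, 4] (.step [21, 27, 23] .fail))), (1, (.step [5, 25, 22, 19] .fail)), (1, (.step [19, 23, 25] .fail)), (1, (.step [19, 5, 22, 25] .fail)), (1, .fail), (1, (.step [4, 18, 20, 4] .fail)), (1, .fail), (1, (.step [4, 23, 19, 24] .fail)), (1, .fail), (1, (.step [18, 20, 25, 18, 24] .fail)), (1, .fail), (1, (.step [18, 4, 21, 22, 18] (.step [20, 20, 28, 23, 23] .fail))), (1, (.step [18, 18, 5, 21] .fail)), (1, (.step [18, 20, 25, 5] .fail)), (1, (.step [18, 5, 19, 20] .fail)), (1, .fail), (1, (.step [18, 20, 4, 24, 23] .fail)), (1, (.step [18, 25, 4, 18, 23] .fail)), (1, .fail), (1, (.step [19, 22, 19, 24] .fail)), (2, .fail), (1, (.step [4, 20, 20] .fail)), (1, (.step [18, 5, 22, 19] .fail)), (1, (.step [18, 18, 23, 5, 22] .fail)), (1, (.step [19, 23, 23, 24] (.step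 [20, 22, 25, 28, 22] .fail))), (1, (.step [18, 4, 4, 21] (.step [20, 27, 21, 22, 20] .fail))), (1, (.step [18, 18, 21, 19, 4] .fail)), (1, (.step [4, 18, 21, 21] .fail)), (1, (.step [18, 23, 4, 24] (.step [23, 20] .fail))), (1, (.step [19, 19, 21, 21] .fail)), (1, (.step [18, 18, 24, 22, 25] .fail)), (1, .fail), (1, (.step [18, 22, 25, 19] .fail)), (1, .fail), (1, (.step [18, 18, 21, 18, 4] .fail)), (1, (.step [5, 22, 21, 18] (.step [20, 20, 27] .fail))), (3, .fail), (1, (.step [18, 21, 19, 21, 4] .fail)), (1, .fail), (1, (.step [19, 20, 24] .fail)), (1, .fail), (1, (.step [18, 4, 18] .fail)), (2, .fail), (1, (.step [4, 18, 4] (.step [21, 22, 28, 22, 27] .fail))), (1, (.step [18, 18, 22, 5] (.step [23, 20, 24, 22] .fail))), (2, .fail), (1, (.step [18, 21, 5, 23] (.step [20, 28, 23, 25] .fail))), (1, (.step [18, 4, 4, 20] (.step [20, 22, 21, 21, 22] .fail))), (2, .fail), (1, (.step [19, 5, 21,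 23] .fail)), (1, (.step [18, 4, 22, 21, 19] (.step [21, 27, 21] .fail))), (3, .fail), (1, (.step [18, 23, 18] .fail)), (1, (.step [4, 20, 5, 20] .fail)), (1, (.step [18, 21, 18, 22, 25] .fail)), (1, (.step [19, 24, 23, 25] .fail)), (2, .fail), (1, (.step [18, 4, 21, 23, 24] .fail)), (1, (.step [4, 22, 21, 23] .fail)), (3, .fail), (1, (.step [18, 4, 21, 22, 18] .fail)), (1, (.step [18, 5, 24, 23, 19] .fail)), (1, .fail), (1, (.step [18, 20, 5, 5] .fail)), (1, (.step [19, 25, 18] .fail)), (1, (.step [4, 23, 21, 18] .fail)), (1, (.step [4, 4, 20, 19] .fail)), (5, .fail), (1, (.step [19, 5, 19, 22, 4] .fail)), (1, (.step [18, 25, 5, 5] .fail)), (1, .fail), (1, (.step [4, 4, 21] .fail)), (1, (.step [19, 24, 19, 23] .fail)), (1, .fail), (1, (.step [4, 24, 22, 21] .fail)), (5, .fail), (1, (.step [19, 23, 18, 23] .fail)), (1, (.step [18, 18, 18, 4, 23] .fail)), (1, (.step [18, 18, 21, 18, 4] .fail)),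 (1, (.step [4, 21, 4, 24] .fail)), (1, (.step [5, 23, 25] .fail)), (1, .fail), (1, (.step [19, 23, 21, 23] (.step [20, 20, 27, 20] .fail))), (1, (.step [5, 20, 5, 21] .fail)), (1, .fail), (1, (.step [18, 5, 20, 24] (.step [20, 20, 20, 22, 21] .fail))), (1, .fail), (1, (.step [4, 23, 24, 22] .fail)), (1, (.step [19, 20, 5, 18] (.step [21, 21] .fail))), (1, (.step [19, 4, 19] .fail)), (2, .fail), (1, (.step [18, 18, 23, 20, 20] .fail)), (1, (.step [19, 21, 4, 20] .fail)), (2, .fail), (1, (.step [18, 22, 24, 19] (.step [20, 27, 20] .fail))), (1, (.step [19, 25, 4, 21] (.step [23, 21, 24] (.step [24, 27, 26] (.badAt 1))))), (1, (.step [18, 5, 23] .fail)), (1, (.step [18, 4, 19, 5, 21] .fail)), (1, (.step [18, 18, 5, 20] .fail)), (1, (.step [4, 19, 21, 21] .fail)), (1, .fail), (1, (.step [18, 22, 21, 5, 18] (.step [22, 21, 21, 21] .fail))), (6, .fail), (1, (.step [18, 18, 20, 23, 5] (.step [22, 20,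 20, 27] .fail))), (1, (.step [19, 4, 19, 5, 20] .fail)), (1, .fail), (1, (.step [19, 21, 22] .fail)), (2, .fail), (1, (.step [19, 21, 4, 25, 18] (.step [20, 28, 22] .fail))), (1, (.step [18, 20, 4, 18, 24] .fail)), (1, (.step [18, 23, 19, 24] .fail)), (1, .fail), (1, (.step [19, 22, 22, 24] .fail)), (1, .fail), (1, (.step [18, 4, 24, 22] .fail)), (4, .fail), (1, (.step [19, 20, 4, 25, 19] (.step [22, 20, 22, 25] .fail))), (1, (.step [18, 20, 20, 19] .fail)), (1, (.step [18, 18, 22, 25] .fail)), (1, (.step [18, 23, 21, 18] .fail)), (3, .fail), (1, (.step [18, 18, 4, 23, 21] .fail)), (1, .fail), (1, (.step [18, 22, 21, 19, 22] .fail)), (1, .fail), (1, (.step [18, 22, 21, 19, 21] .fail)), (1, (.step [5, 18, 22, 21] .fail)), (1, (.step [18, 4, 25, 19, 22] (.step [23, 21, 28, 23, 23] .fail))), (1, (.step [18, 20, 23, 21] .fail)), (1, .fail), (1, (.step [4, 19, 20, 22] .fail)), (2, .fail), (1, (.step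 [19, 19, 20, 25] (.step [22, 22, 21, 23] .fail))), (1, .fail), (1, (.step [18, 18, 5, 22, 20] (.step [21, 21, 22, 20, 20] .fail))), (1, (.step [18, 4, 4, 24] (.step [23, 20, 28, 20] .fail))), (1, (.step [19, 19, 20, 4] .fail)), (2, .fail), (1, (.step [4, 23, 4] .fail)), (1, (.step [19, 22, 18, 25] .fail)), (1, .fail), (1, (.step [5, 18, 22, 21] .fail)), (1, (.step [19, 20, 19, 23] .fail)), (1, .fail), (1, (.step [18, 4, 4, 18] (.step [21, 28, 21, 21] .fail))), (1, .fail), (1, (.step [19, 19, 23, 19] (.step [20, 22, 21, 22, 20] .fail))), (1, (.step [19, 21, 22] (.step [21, 28, 21, 21] .fail))), (1, (.step [19, 25, 18, 22] .fail)), (1, (.step [18, 23, 18, 24] (.step [22, 22, 28] .fail))), (1, (.step [18, 18, 20, 4, 22] (.step [21, 22, 25] .fail))), (1, .fail), (1, (.step [5, 19] .fail)), (1, .fail), (1, (.step [5, 18, 21] .fail)), (1, (.step [18, 18, 20, 22] .fail)), (3, .fail), (1, (.step [18,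 5, 19, 22, 25] .fail)), (1, (.step [4, 18, 20, 18] .fail)), (1, .fail), (1, (.step [19, 4, 4, 23, 4] .fail)), (3, .fail), (1, (.step [4, 19, 19, 19] .fail)), (1, .fail), (1, (.step [5, 23, 25] (.step [20, 22, 22, 28, 21] .fail))), (1, .fail), (1, (.step [18, 24, 5, 18, 5] .fail)), (1, .fail), (1, (.step [18, 18, 5, 24, 18] .fail)), (3, .fail), (1, (.step [4, 25, 18, 4] (.step [22, 25, 23, 23] .fail))), (1, .fail), (1, (.step [18, 20, 18, 4, 22] .fail)), (2, .fail), (1, (.step [18, 18, 21, 19, 20] .fail)), (1, (.step [4, 23, 24, 22] .fail)), (1, (.step [5, 20, 4, 25] .fail)), (1, .fail), (1, (.step [19, 19, 21, 22] .fail)), (1, (.step [18, 23, 24, 22] .fail)), (7, .fail), (1, (.step [18, 4, 4, 4, 4] .fail)), (1, (.step [18, 18, 18, 24] .fail)), (1, (.step [19, 19, 4, 20, 19] (.step [22, 21, 22, 20] .fail))), (1, .fail), (1, (.step [18, 23, 5, 23] .fail)), (1, (.step [19, 19, 5, 23, 19] .fail)),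 (1, (.step [4, 18, 18, 23] (.step [21, 23, 27, 23] .fail))), (1, .fail), (1, (.step [4, 19, 23, 5] (.step [20, 20, 20, 20, 22] .fail))), (3, .fail), (1, (.step [4, 4, 4, 18] .fail)), (1, (.step [4, 19, 4, 4] .fail)), (2, .fail), (1, (.step [4, 20, 18, 20] .fail)), (1, .fail), (1, (.step [18, 21, 23, 21] (.step [20, 22, 20, 20] (.step [25] (.done [25, 20, 22, 20, 20, 18, 21, 23, 21, 0, 0, 1, 0, 1, 1, 0]))))), (1, (.step [19, 19, 4, 18] .fail)), (1, (.step [18, 20, 23, 25] .fail)), (1, (.step [19, 25, 18, 23] .fail)), (1, (.step [18, 23, 24, 19] .fail)), (1, .fail), (1, (.step [4, 22, 19, 19] .fail)), (1, (.step [18, 23, 4, 18] .fail)), (2, .fail), (1, (.step [18, 18, 23, 4, 21] .fail)), (1, .fail), (1, (.step [19, 5, 24] (.step [20, 28, 20] .fail))), (1, (.step [18, 4, 24, 23, 18] .fail)), (4, .fail), (1, (.step [18, 22, 21, 23, 5] .fail)), (1, (.step [19, 19, 22] .fail)), (2, .fail), (1, (.step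 [4, 19, 20, 4] .fail)), (1, (.step [18, 18, 18, 20, 22] .fail)), (1, (.step [18, 4, 21, 4, 24] .fail)), (1, (.step [19, 5, 18, 21] (.step [21, 27, 23, 23] .fail))), (1, .fail), (1, (.step [4, 21, 23, 24, 23] (.step [21, 23, 24, 28, 20] .fail))), (1, (.step [18, 18, 23, 5, 19] .fail)), (1, .fail), (1, (.step [18, 21, 19, 22, 22] .fail)), (3, .fail), (1, (.step [18, 18, 5, 25, 22] .fail)), (1, .fail), (1, (.step [4, 24] (.step [20, 28, 23, 27, 20] .fail))), (3, .fail), (1, (.step [18, 20, 20, 24, 5] .fail)), (1, .fail), (1, (.step [18, 24, 23, 25] (.step [21, 23, 28] .fail))), (1, (.step [4, 20, 5] (.step [20, 20, 23, 28, 24] .fail))), (1, (.step [19, 23, 18, 23] .fail)), (1, (.step [18, 4, 4, 23, 20] .fail)), (1, (.step [18, 24, 19, 19] .fail)), (1, .fail), (1, (.step [18, 18, 22, 25] (.step [20, 23, 23, 20, 20] .fail))), (1, (.step [18, 4, 19, 19] .fail)), (1, .fail), (1, (.step [18, 22, 5] (.step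 [23, 20, 27, 20] .fail))), (1, (.step [5, 18, 18, 5] (.step [20, 27, 23, 25] .fail))), (1, .fail), (1, (.step [19, 21, 24] (.step [21, 27, 21, 28] .fail))), (1, (.step [19, 22, 20, 5] .fail)), (1, (.step [18, 24, 23, 24] .fail)), (2, .fail), (1, (.step [18, 24, 22, 20] .fail)), (1, (.step [18, 5, 19, 22, 18] .fail)), (1, (.step [18, 18, 5, 23, 4] .fail)), (1, .fail), (1, (.step [4, 18, 23, 5] (.step [21, 21, 22, 25, 27] .fail))), (1, (.step [18, 23, 23, 23] .fail)), (1, (.step [4, 22, 18] .fail)), (1, (.step [19, 20, 19, 23, 18] (.step [20, 22, 22, 20, 23] .fail))), (1, .fail), (1, (.step [18, 18, 23, 20, 4] (.step [22, 24, 27, 27] .fail))), (1, (.step [4, 22, 19] .fail)), (1, (.step [4, 21, 18, 20] .fail)), (1, (.step [5, 20] .fail)), (1, (.step [4, 18, 22, 25] (.step [22, 28, 24] .fail))), (1, (.step [19, 5, 20, 23] .fail)), (1, (.step [18, 18, 25, 19, 22] .fail)), (1, (.step [19, 21, 19, 22,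 20] .fail)), (5, .fail), (1, (.step [19, 22, 24, 4] (.step [20, 22, 22, 28, 24] .fail))), (1, .fail), (1, (.step [4, 22, 19, 19] .fail)), (1, (.step [18, 4, 22, 24] (.step [20, 28, 23, 27] (.step [27] (.badAt 1))))), (1, (.step [4, 4, 4, 25] .fail)), (1, (.step [4, 23, 25, 18] .fail)), (1, .fail), (1, (.step [5, 23, 23, 20] (.step [23, 21] .fail))), (1, (.step [18, 21, 21, 4] .fail)), (1, .fail), (1, (.step [18, 22, 21, 21] .fail)), (1, (.step [18, 21, 5, 21, 19] (.step [23, 21, 23] .fail))), (1, .fail), (1, (.step [18, 23, 23] (.step [20, 28, 23, 20] .fail))), (1, (.step [18, 22, 5, 21, 24] .fail)), (1, .fail), (1, (.step [18, 25, 22, 22] .fail)), (2, .fail), (1, (.step [18, 18, 22, 5, 22] (.step [22, 21, 28, 20] .fail))), (1, (.step [18, 21, 25, 4] .fail)), (1, .fail), (1, (.step [18, 4, 19, 5, 23] .fail)), (1, (.step [4, 20, 20] .fail)), (1, .fail), (1, (.step [5, 22, 20] .fail)), (1, .fail),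 (1, (.step [18, 5, 24, 23, 4] .fail)), (2, .fail), (1, (.step [18, 20, 19] .fail)), (1, (.step [18, 20, 5, 18] .fail)), (2, .fail), (1, (.step [18, 18, 23, 5] .fail)), (1, (.step [4, 19, 21] (.step [23, 20, 28, 22, 25] .fail))), (1, .fail), (1, (.step [4, 24, 22] (.step [21, 22, 20, 23] (.step [25, 28] (.badAt 1))))), (2, .fail), (1, (.step [19, 19, 20, 25] .fail)), (1, (.step [18, 20, 24, 4] .fail)), (1, (.step [19, 19, 5, 22, 25] .fail)), (1, (.step [4, 19, 5] .fail)), (1, (.step [19, 21, 5] .fail)), (1, (.step [4, 18, 18, 20] .fail)), (1, .fail), (1, (.step [18, 21, 25, 4, 22] .fail)), (2, .fail), (1, (.step [4, 24, 23, 4] (.step [20, 22, 20, 22, 27] .fail))), (7, .fail), (1, (.step [18, 20, 19, 5] (.step [22, 20, 23, 27] .fail))), (4, .fail), (1, (.step [18, 20, 25] .fail)), (1, (.step [19, 23, 5, 22] .fail)), (2, .fail), (1, (.step [18, 22, 19, 23, 24] .fail)), (1, (.step [4, 19, 22, 20]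 .fail)), (1, .fail), (1, (.step [5, 19, 20, 24] .fail)), (1, .fail), (1, (.step [18, 23, 18, 25, 5] .fail)), (1, (.step [19, 22, 18, 23] (.step [20, 28, 22, 20] .fail))), (3, .fail), (1, (.step [18, 18, 20, 19, 23] .fail)), (2, .fail), (1, (.step [18, 20, 18, 20, 23] (.step [22, 24, 22, 22] .fail))), (1, .fail), (1, (.step [19, 4, 20, 19] .fail)), (1, .fail), (1, (.step [19, 20, 22, 5, 22] .fail)), (1, .fail), (1, (.step [18, 4, 4, 21, 25] .fail)), (1, (.step [18, 4, 24, 23, 18] .fail)), (1, .fail), (1, (.step [18, 22, 4, 22] .fail)), (1, .fail), (1, (.step [19, 5, 5, 5] (.step [23, 20, 24] .fail))), (4, .fail), (1, (.step [18, 20, 18, 18, 18] .fail)), (1, (.step [19, 19, 5, 20, 24] .fail)), (1, (.step [19, 19, 22, 18] .fail)), (1, (.step [18, 22, 19, 25] .fail)), (1, (.step [19, 24, 4, 22] .fail)), (1, (.step [18, 22, 19, 24] (.step [20, 27, 27, 23] .fail))), (3, .fail), (1, (.step [19, 5, 5,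 18] .fail)), (1, (.step [18, 18, 4] .fail)), (1, (.step [19, 20, 19, 4] .fail)), (1, (.step [18, 5, 19, 20, 23] .fail)), (1, .fail), (1, (.step [19, 20, 5, 23] (.step [21, 23, 23, 25, 28] .fail))), (1, (.step [18, 22, 5, 19, 23] .fail)), (1, (.step [19, 25, 22, 22] .fail)), (1, (.step [19, 19, 4, 20, 19] .fail)), (1, (.step [18, 18, 21, 18, 23] (.step [21, 27, 23, 24] .fail))), (2, .fail), (1, (.step [18, 5, 23, 5, 5] .fail)), (1, (.step [4, 22, 19, 20] .fail)), (1, .fail), (1, (.step [18, 20, 22, 21] .fail)), (1, (.step [19, 24, 19] .fail)), (1, (.step [19, 22, 4, 23] .fail)), (3, .fail), (1, (.step [18, 21, 23, 19] .fail)), (4, .fail), (1, (.step [18, 20, 20, 19, 24] (.step [23, 24, 23] .fail))), (2, .fail), (1, (.step [18, 21, 5, 21, 19] (.step [23, 24, 23, 24] .fail))), (1, .fail), (1, (.step [5, 18, 23, 4] .fail)), (4, .fail), (1, (.step [19, 4, 19, 24] .fail)), (1, (.step [18, 5, 21, 25]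 .fail)), (1, (.step [18, 18, 21, 21, 23] .fail)), (1, (.step [19, 19, 20, 22] (.step [20, 22, 25, 28, 22] .fail))), (1, .fail), (1, (.step [4, 25, 4, 22] .fail)), (1, (.step [4, 19, 23, 25] .fail)), (2, .fail), (1, (.step [18, 5, 5, 23, 19] .fail)), (1, (.step [18, 22, 20, 19] .fail)), (2, .fail), (1, (.step [19, 22, 20, 25] (.step [22, 27, 22, 25] .fail))), (1, (.step [18, 20, 5, 5, 23] .fail)), (1, (.step [19, 23, 18, 23] .fail)), (1, .fail), (1, (.step [18, 20, 18, 18] .fail)), (1, .fail), (1, (.step [19, 20, 18, 20] .fail)), (1, (.step [18, 5, 22, 22, 21] .fail)), (1, .fail), (1, (.step [18, 20, 4, 22] (.step [22, 27, 21, 23] .fail))), (1, (.step [18, 22, 18, 20, 19] (.step [22, 25, 27] (.step [] (.done [22, 25, 27, 18, 22, 18, 20, 19, 1, 0, 3, 3, 3, 3, 2]))))), (1, (.step [19, 19, 5, 25] .fail)), (1, (.step [18, 4, 19, 5, 25] .fail)), (7, .fail), (1, (.step [18, 4, 4, 19] .fail)), (1, .fail),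 (1, (.step [4, 25, 4, 21] .fail)), (1, .fail), (1, (.step [19, 19, 20, 5] (.step [22, 20, 27] .fail))), (3, .fail), (1, (.step [18, 18, 22, 4] (.step [20, 27, 23, 23] .fail))), (1, (.step [18, 18, 4, 23, 19] .fail)), (1, (.step [18, 18, 25, 19, 22] .fail)), (1, .fail), (1, (.step [18, 5, 18, 22, 19] .fail)), (1, .fail), (1, (.step [18, 22, 18, 20] (.step [20, 22, 27, 21] .fail))), (2, .fail), (1, (.step [18, 5, 21, 23] .fail)), (1, .fail), (1, (.step [18, 4, 18, 22] .fail)), (1, (.step [18, 21, 18, 24, 22] .fail)), (1, .fail), (1, (.step [5, 18, 4] (.step [21, 28, 22, 28] (.step [26, 28] (.badAt 1))))), (1, (.step [19, 19, 21, 21] .fail)), (1, (.step [4, 22, 24, 18] (.step [21, 21, 23, 25] .fail))), (1, .fail), (1, (.step [18, 5, 24, 23] (.step [23, 21, 28, 21] .fail))), (1, .fail), (1, (.step [5, 25, 5, 25] .fail)), (2, .fail), (1, (.step [4, 23] (.step [21, 23, 23, 25] .fail))), (1, (.step [18,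 18, 4, 18, 23] .fail)), (1, .fail), (1, (.step [19, 5, 19, 4] .fail)), (1, (.step [18, 4, 20, 4] (.step [23, 23, 23, 27] .fail))), (1, .fail), (1, (.step [5, 25, 5, 20] .fail)), (1, (.step [4, 4, 18, 23] .fail)), (1, .fail), (1, (.step [19, 23, 5, 18] .fail)), (1, (.step [4, 19, 20] (.step [20, 20, 20, 28] .fail))), (1, (.step [18, 18, 5, 22, 5] .fail)), (3, .fail), (1, (.step [18, 4, 21, 5, 24] (.step [23, 27] .fail))), (4, .fail), (1, (.step [18, 18, 25, 5, 25] (.step [21, 21, 21, 23] .fail))), (1, .fail), (1, (.step [19, 22, 19, 4] (.step [21, 21, 23, 24] .fail))), (1, (.step [18, 21, 23, 21, 4] .fail)), (1, .fail), (1, (.step [4, 4, 25] (.step [21, 22, 21, 24, 27] .fail))), (1, .fail), (1, (.step [18, 5, 5, 24] (.step [22, 20, 28, 23] .fail))), (1, .fail), (1, (.step [18, 18, 20, 24, 19] (.step [22, 25, 23, 23] .fail))), (1, (.step [18, 20, 20, 19, 25] .fail)), (3, .fail), (1, (.step [18,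 23, 4, 19] .fail)), (1, (.step [18, 25, 22, 21, 4] .fail)), (1, (.step [4, 22, 20, 5] .fail)), (1, (.step [18, 21, 19, 22, 22] .fail)), (2, .fail), (1, (.step [18, 22, 22, 19, 25] (.step [23, 21, 24] .fail))), (1, (.step [18, 4, 20, 18, 18] .fail)), (1, (.step [19, 25, 5] .fail)), (1, (.step [19, 23, 23, 4] (.step [21, 21, 22, 22] .fail))), (1, .fail), (1, (.step [18, 5, 25, 23, 23] .fail)), (2, .fail), (1, (.step [19, 21, 19, 22, 25] (.step [22, 22, 25, 22] .fail))), (1, (.step [18, 4, 20, 23, 18] .fail)), (1, .fail), (1, (.step [18, 5, 24, 4] .fail)), (1, .fail), (1, (.step [5, 22, 4, 18] .fail)), (1, (.step [18, 20, 5, 18, 5] (.step [20, 28] (.step [28, 26] (.done [28, 26, 20, 28, 18, 20, 5, 18, 5, 1, 1, 2, 1, 1, 2, 2]))))), (1, (.step [18, 4, 18, 5, 23] (.step [21, 27, 25] .fail))), (1, .fail), (1, (.step [4, 23, 23] .fail)), (1, (.step [18, 22, 18, 20] .fail)), (2, .fail), (1, (.step [4,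 19, 23, 21] .fail)), (9, .fail), (1, (.step [5, 19, 21, 19] .fail)), (1, .fail), (1, (.step [5, 23, 24, 19] .fail)), (1, (.step [18, 5, 23, 19, 23] (.step [22, 27, 25, 22] .fail))), (1, (.step [5, 18, 20, 25] .fail)), (1, .fail), (1, (.step [18, 18, 20, 20, 23] .fail)), (1, (.step [19, 20, 18, 18] (.step [22, 22, 25, 22] .fail))), (1, .fail), (1, (.step [4, 18, 4, 23] .fail)), (1, (.step [5, 22, 22, 21] .fail)), (1, (.step [19, 25, 18] .fail)), (1, (.step [18, 5, 23, 4] .fail)), (1, (.step [4, 23, 19, 24] (.step [21, 23, 23] .fail))), (1, (.step [18, 4, 18, 4] (.step [21, 23, 20, 28] .fail))), (1, (.step [18, 4, 25, 19] (.step [20, 20, 23, 23] .fail))), (1, (.step [19, 25, 23, 21] .fail)), (1, (.step [19, 24, 4, 19] .fail)), (1, .fail), (1, (.step [19, 4, 23, 23] (.step [21, 22, 22, 27] (.step [] (.badAt 1))))), (1, (.step [18, 18, 22, 19] .fail)), (1, (.step [5, 22, 4, 4] .fail)), (1, .fail),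 (1, (.step [18, 22, 4] .fail)), (1, (.step [19, 19, 24, 22, 20] (.step [21, 28, 20] .fail))), (5, .fail), (1, (.step [18, 20, 22, 21] (.step [22, 21, 23] .fail))), (1, .fail), (1, (.step [5, 20, 24, 18] .fail)), (1, (.step [4, 19, 23, 4] .fail)), (2, .fail), (1, (.step [18, 4, 18, 25, 4] (.step [23, 20, 22, 27] .fail))), (1, (.step [18, 18, 18, 20, 4] .fail)), (1, .fail), (1, (.step [19, 4, 4, 20] (.step [21, 21, 21, 22] .fail))), (1, .fail), (1, (.step [18, 20, 23, 21, 24] .fail)), (1, (.step [19, 19, 19, 19] .fail)), (4, .fail), (1, (.step [18, 22, 19, 22] .fail)), (1, .fail), (1, (.step [5, 23, 4, 18] .fail)), (1, (.step [19, 19, 25] .fail)), (1, .fail), (1, (.step [4, 19, 24] .fail)), (1, (.step [19, 19, 4, 18, 4] .fail)), (1, (.step [5, 22, 21, 18] .fail)), (1, .fail), (1, (.step [19, 23, 5, 20] .fail)), (1, .fail), (1, (.step [19, 21, 24, 4] .fail)), (1, .fail), (1, (.step [18, 5, 24, 4,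 19] .fail)), (1, (.step [18, 21, 25] .fail)), (1, (.step [18, 24, 5, 21] .fail)), (1, (.step [19, 24, 23, 23] .fail)), (1, .fail), (1, (.step [19, 20, 19, 19] .fail)), (1, (.step [18, 23, 21, 21] .fail)), (1, .fail), (1, (.step [18, 5, 21, 21, 22] (.step [23, 20, 20, 25] .fail))), (1, .fail), (1, (.step [18, 20, 23, 23] .fail)), (1, .fail), (1, (.step [18, 4, 20, 25, 18] .fail)), (2, .fail), (1, (.step [19, 19, 5, 24] (.step [21, 22, 28, 24] .fail))), (1, .fail), (1, (.step [19, 22, 19, 22, 4] (.step [20, 20, 22, 21] .fail))), (3, .fail), (1, (.step [18, 4, 21, 22] (.step [23, 20, 20] (.step [24, 27, 26] (.done [24, 27, 26, 23, 20, 20, 18, 4, 21, 22, 0, 3, 2, 1, 0, 1, 0, 0]))))), (1, (.step [18, 24, 4, 19, 19] .fail)), (1, .fail), (1, (.step [18, 22, 19, 19] .fail)), (1, .fail), (1, (.step [19, 4, 19, 20] (.step [20, 20, 20] .fail))), (1, (.step [18, 20, 4, 18, 24] .fail)), (2, .fail), (1, (.step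 [19, 24, 5, 18] .fail)), (2, .fail), (1, (.step [19, 23, 24, 18] .fail)), (1, .fail), (1, (.step [19, 24, 18, 25] .fail)), (1, (.step [4, 18, 4, 18] .fail)), (1, (.step [19, 22, 18] (.step [22, 25, 23, 27] .fail))), (1, (.step [18, 22, 20, 4, 18] .fail)), (1, (.step [18, 25, 22, 20] (.step [21, 21, 21, 28] .fail))), (1, (.step [19, 5, 25, 19] .fail)), (1, (.step [18, 4, 21, 23, 24] .fail)), (1, (.step [4, 18, 4, 20] (.step [22, 20] .fail))), (1, (.step [18, 4, 25, 18, 18] .fail)), (1, (.step [18, 24, 18, 20, 20] .fail)), (2, .fail), (1, (.step [18, 18, 20, 20, 23] .fail)), (1, (.step [18, 25, 19, 24, 22] .fail)), (1, .fail), (1, (.step [18, 5, 22, 4] .fail)), (1, (.step [18, 22, 20, 4, 18] .fail)), (1, (.step [18, 5, 19, 20, 22] .fail)), (1, (.step [18, 22, 5, 19] .fail)), (2, .fail), (1, (.step [18, 5, 23, 20, 22] .fail)), (1, .fail), (1, (.step [18, 5, 24, 23, 19] .fail)), (1, .fail), (1, (.step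 [18, 18, 5, 22, 20] .fail)), (1, (.step [18, 5, 21, 23] .fail)), (2, .fail), (1, (.step [18, 18, 23, 18, 23] (.step [23, 20, 22, 22] .fail))), (1, (.step [19, 20, 19, 23] (.step [23, 23, 23, 27] (.step [28] (.done [28, 23, 23, 23, 27, 19, 20, 19, 23, 2, 2, 3, 2, 2, 3, 0, 0]))))), (1, (.step [4, 19, 22, 5] (.step [20, 28, 21, 28] .fail))), (1, (.step [4, 23, 5, 19] .fail)), (1, (.step [19, 22] .fail)), (1, (.step [5, 19, 20, 19] .fail)), (1, (.step [4, 24, 19] .fail)), (2, .fail), (1, (.step [5, 22, 25, 19] .fail)), (1, (.step [18, 22, 20, 5] .fail)), (1, .fail), (1, (.step [18, 4, 22, 18, 24] .fail)), (1, .fail), (1, (.step [19, 19, 4, 24, 22] .fail)), (1, (.step [18, 20, 18, 4, 18] .fail)), (1, .fail), (1, (.step [18, 20, 5, 21, 22] .fail)), (1, (.step [4, 19, 23] .fail)), (2, .fail), (1, (.step [18, 18, 5, 25, 22] .fail)), (1, (.step [18, 22, 21, 4] .fail)), (2, .fail), (1, (.step [18, 5, 25,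 18] .fail)), (1, (.step [19, 5, 5, 25] (.step [22, 22, 21, 28] .fail))), (1, (.step [18, 4, 4, 21, 21] .fail)), (1, (.step [18, 5, 23, 25] (.step [22, 27, 23, 27] .fail))), (1, (.step [18, 18, 4, 22, 25] .fail)), (1, (.step [19, 19, 5, 21] .fail)), (3, .fail), (1, (.step [19, 23, 20, 5] .fail)), (2, .fail), (1, (.step [5, 20, 18] .fail)), (4, .fail), (1, (.step [4, 24, 18, 4] .fail)), (1, .fail), (1, (.step [19, 19, 5, 22, 4] (.step [21, 23, 24, 28, 20] .fail))), (1, (.step [18, 20, 22, 4, 23] (.step [23, 21, 24] .fail))), (2, .fail), (1, (.step [18, 5, 19] .fail)), (2, .fail), (1, (.step [4, 23] .fail)), (1, (.step [18, 22, 21, 4, 24] .fail)), (1, (.step [5, 23, 23, 23] .fail)), (1, (.step [5, 18, 20, 25] .fail)), (1, (.step [18, 18, 25, 22, 25] .fail)), (1, (.step [18, 18, 5, 24, 4] .fail)), (1, (.step [18, 4, 18, 5, 24] (.step [21, 21, 27, 21] (.step [28, 24] (.badAt 1))))), (1, (.step [19,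 4, 23, 20] .fail)), (1, (.step [4, 18, 23, 21] .fail)), (1, (.step [19, 24, 19] .fail)), (1, (.step [18, 4, 21] .fail)), (1, (.step [18, 22, 20, 19] (.step [22, 20, 22] .fail))), (1, .fail), (1, (.step [5, 23, 19, 5] (.step [20, 28, 21, 27] .fail))), (1, (.step [4, 4, 23] (.step [20, 20, 22, 21] .fail))), (1, .fail), (1, (.step [4, 22, 18, 25] .fail)), (1, .fail), (1, (.step [19, 23, 5, 5] .fail)), (1, (.step [18, 21, 25, 19, 23] (.step [22, 27, 20, 22] .fail))), (1, (.step [4, 4, 20, 20] .fail)), (1, (.step [19, 21, 18, 22] (.step [22, 25, 23, 20] .fail))), (1, .fail), (1, (.step [18, 4, 25, 18, 18] .fail)), (1, .fail), (1, (.step [18, 5, 18, 18, 18] .fail)), (1, (.step [18, 4, 18, 21, 22] .fail)), (1, (.step [18, 22, 24, 4, 20] .fail)), (1, .fail), (1, (.step [18, 21, 19, 20, 4] (.step [20, 20, 23, 28, 24] .fail))), (3, .fail), (1, (.step [19, 25, 5, 18] .fail)), (1, (.step [19, 4, 20, 23] .fail)),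 (1, .fail), (1, (.step [5, 20, 5, 21] (.step [20] .fail))), (1, .fail), (1, (.step [4, 4, 22, 18] .fail)), (1, (.step [18, 4, 22, 21] .fail)), (1, (.step [4, 18, 18, 23] .fail)), (2, .fail), (1, (.step [19, 20, 22, 19, 21] (.step [23, 28, 22] .fail))), (1, (.step [18, 18, 5, 20, 18] .fail)), (1, (.step [4, 25, 5] .fail)), (1, (.step [18, 18, 5, 19, 5] .fail)), (1, (.step [18, 18, 22, 19, 20] .fail)), (1, .fail), (1, (.step [18, 23, 21, 24] .fail)), (1, .fail), (1, (.step [19, 5, 19, 4] .fail)), (1, (.step [18, 23, 20, 5] .fail)), (1, (.step [19, 21, 5, 18] .fail)), (1, .fail), (1, (.step [18, 25] .fail)), (1, (.step [4, 24, 5, 19] .fail)), (1, (.step [19, 25, 5, 18] (.step [20, 20, 23, 24, 22] .fail))), (1, (.step [18, 18, 25, 5, 23] .fail)), (1, (.step [19, 25, 22, 24] (.step [20, 20, 20, 28] .fail))), (2, .fail), (1, (.step [18, 22, 5, 23] (.step [20, 27, 20, 22, 28] .fail))), (1, .fail), (1,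 (.step [5, 19, 4, 24] .fail)), (1, (.step [19, 4, 19, 19] (.step [21, 22, 27] .fail))), (1, (.step [18, 18, 5, 22, 22] .fail)), (2, .fail), (1, (.step [19, 21, 22] (.step [20, 28, 23, 27] .fail))), (1, (.step [5, 19, 4, 24] .fail)), (1, .fail), (1, (.step [18, 18, 23, 23, 20] .fail)), (1, (.step [19, 19, 25, 18] .fail)), (1, .fail), (1, (.step [18, 18, 18, 5, 21] .fail)), (1, (.step [18, 25, 18, 5] (.step [21, 21, 21, 23] .fail))), (4, .fail), (1, (.step [19, 24, 4] .fail)), (1, (.step [19, 23, 20, 20] .fail)), (1, (.step [18, 4, 20, 24, 4] (.step [22, 20, 23, 20] .fail))), (1, (.step [4, 20, 19, 21] .fail)), (1, (.step [19, 19, 5, 5, 21] (.step [20, 23, 23] .fail))), (1, (.step [4, 23, 19, 24] .fail)), (1, .fail), (1, (.step [5, 22, 25, 19] .fail)), (1, (.step [4, 22, 19, 5] (.step [21, 22, 28, 22, 27] .fail))), (1, (.step [19, 25, 23, 23] (.step [21, 22, 20, 24, 28] .fail))), (1, (.step [19,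 19, 5, 22, 4] .fail)), (1, .fail), (1, (.step [4, 24, 22, 20] .fail)), (1, (.step [18, 22, 21, 22] .fail)), (1, (.step [5, 18, 22, 21] .fail)), (1, (.step [19, 4, 25] .fail)), (1, (.step [4, 22, 4] .fail)), (1, (.step [19, 5, 25] .fail)), (2, .fail), (1, (.step [18, 22, 20, 19] .fail)), (2, .fail), (1, (.step [19, 24, 23, 20] (.step [22, 24, 23, 28] .fail))), (1, .fail), (1, (.step [18, 4, 21, 19] (.step [21] (.step [24, 27, 26] (.badAt 1))))), (1, .fail), (1, (.step [18, 22, 20, 23] .fail)), (1, (.step [18, 20, 22, 25, 5] .fail)), (1, (.step [18, 4, 22, 4, 19] (.step [20, 23, 20, 23] .fail))), (1, .fail), (1, (.step [19, 19, 21, 18] .fail)), (1, (.step [4, 22, 25] (.step [20, 27, 23, 27] (.step [25, 27] (.done [25, 27, 20, 27, 23, 27, 4, 22, 25, 0, 0, 0, 0, 0, 0, 1, 1]))))), (1, (.step [19, 5, 19, 19] .fail)), (1, (.step [18, 24, 5, 22, 4] .fail)), (1, (.step [4, 22, 24, 18] (.step [22, 22, 21]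 .fail))), (1, (.step [19, 5, 22, 21] (.step [23, 24, 28, 21] .fail))), (3, .fail), (1, (.step [4, 22, 4, 22] .fail)), (1, (.step [19, 4, 24] (.step [21, 23, 27] .fail))), (1, (.step [19, 25, 5, 20] .fail)), (1, (.step [4, 22, 22, 22] .fail)), (1, (.step [4, 25, 5, 23] .fail)), (1, (.step [19, 21, 5, 19] (.step [20, 27, 22, 20, 20] .fail))), (1, (.step [19, 23, 25, 22] .fail)), (2, .fail), (1, (.step [5, 22, 19, 23] (.step [22, 21, 22, 20, 27] .fail))), (2, .fail), (1, (.step [18, 4, 21] .fail)), (3, .fail), (1, (.step [18, 22, 20, 22, 22] (.step [22, 25, 27] .fail))), (1, (.step [19, 24, 23, 23] .fail)), (1, (.step [4, 20, 19, 5] .fail)), (2, .fail), (1, (.step [4, 18, 22, 25] (.step [20, 22, 27, 22, 27] .fail))), (1, (.step [4, 20, 23] (.step [20, 20, 20, 20, 27] .fail))), (1, (.step [18, 20, 22, 25, 5] .fail)), (1, .fail), (1, (.step [18, 21, 5, 20] .fail)), (1, (.step [4, 23, 20, 18] .fail)),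 (1, (.step [18, 18, 23, 21] .fail)), (1, .fail), (1, (.step [18, 20, 23, 4, 21] .fail)), (1, (.step [4, 19, 20, 22] .fail)), (1, .fail), (1, (.step [18, 18, 20, 23, 20] .fail)), (1, (.step [18, 18, 23, 24, 23] .fail)), (1, (.step [18, 21, 21, 5] (.step [23, 20, 28, 22, 25] .fail))), (1, (.step [18, 23, 4, 18, 5] .fail)), (1, .fail), (1, (.step [5, 18, 21, 4] (.step [20, 27, 22, 20, 28] (.step [24] (.badAt 1))))), (3, .fail), (1, (.step [18, 23, 18, 25] .fail)), (2, .fail), (1, (.step [18, 18, 20] .fail)), (1, .fail), (1, (.step [19, 5, 5, 24] .fail)), (1, (.step [18, 18, 22, 25, 4] .fail)), (1, (.step [18, 22, 22, 20] .fail)), (1, (.step [4, 22, 22] .fail)), (4, .fail), (1, (.step [18, 18, 24, 22, 21] .fail)), (1, (.step [19, 5, 25, 4] .fail)), (5, .fail), (1, (.step [18, 5, 23, 19] .fail)), (1, .fail), (1, (.step [4, 4, 20, 20] .fail)), (1, (.step [19, 20, 25, 5] .fail)), (1, .fail), (1, (.step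 [18, 18, 18, 24, 18] .fail)), (1, (.step [18, 22, 19, 5] .fail)), (1, (.step [18, 25, 18, 4, 20] .fail)), (1, (.step [18, 4, 21, 4, 24] .fail)), (1, (.step [18, 21, 25, 4, 22] .fail)), (1, (.step [18, 4, 19, 5, 25] .fail)), (2, .fail), (1, (.step [4, 24, 5, 21] .fail)), (2, .fail), (1, (.step [18, 21, 18, 25, 23] .fail)), (1, (.step [18, 25, 18, 25] (.step [23, 20, 24, 23] .fail))), (2, .fail), (1, (.step [18, 18, 4, 20, 4] .fail)), (1, .fail), (1, (.step [18, 20, 19, 19, 19] .fail)), (1, (.step [18, 18, 4, 23, 18] .fail)), (1, (.step [19, 5, 19, 20] .fail)), (1, (.step [18, 4, 4, 25, 19] .fail)), (1, .fail), (1, (.step [18, 4, 4, 24, 23] .fail)), (1, (.step [19, 22, 20, 25] .fail)), (1, .fail), (1, (.step [19, 22, 4, 21] .fail)), (1, .fail), (1, (.step [18, 23, 18] .fail)), (1, .fail), (1, (.step [4, 25, 18, 4] .fail)), (1, (.step [4, 18, 21, 18, 23] .fail)), (1, (.step [4, 20, 20] (.step [20,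 22, 27, 22, 27] .fail))), (2, .fail), (1, (.step [4, 4, 23, 18] .fail)), (1, .fail), (1, (.step [19, 20, 22, 5, 22] (.step [20, 20, 23, 24, 22] (.step [24, 26] (.badAt 1))))), (8, .fail), (1, (.step [19, 21, 5, 18] .fail)), (1, .fail), (1, (.step [19, 5] .fail)), (4, .fail), (1, (.step [18, 18, 25, 5, 23] (.step [22, 28, 23, 20, 24] .fail))), (1, (.step [19, 20, 23, 21] .fail)), (1, .fail), (1, (.step [19, 24, 18, 25] .fail)), (1, (.step [18, 4, 25, 4] .fail)), (1, (.step [18, 21, 22, 5] .fail)), (1, (.step [18, 5, 18, 22, 19] .fail)), (1, .fail), (1, (.step [18, 18, 18, 18, 23] .fail)), (2, .fail), (1, (.step [18, 24, 4, 21, 25] .fail)), (4, .fail), (1, (.step [4, 24, 18, 23] .fail)), (1, (.step [18, 25, 19, 5] .fail)), (1, (.step [18, 22, 22, 20] .fail)), (3, .fail), (1, (.step [18, 18, 20, 20] (.step [20, 28, 22, 22] .fail))), (1, .fail), (1, (.step [18, 5, 19, 21, 25] (.step [20, 20, 22, 20,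 28] .fail))), (1, .fail), (1, (.step [19, 5, 22, 24] .fail)), (1, (.step [18, 5] (.step [22, 20, 28, 20] .fail))), (1, .fail), (1, (.step [18, 18, 23, 20, 4] .fail)), (1, (.step [18, 18, 20, 24] .fail)), (1, (.step [4, 22, 20] .fail)), (1, .fail), (1, (.step [4, 19, 23, 4] .fail)), (1, .fail), (1, (.step [18, 5, 25] .fail)), (1, .fail), (1, (.step [18, 18, 21, 19, 23] .fail)), (1, .fail), (1, (.step [18, 4, 20] .fail)), (1, .fail), (1, (.step [18, 4, 22, 4, 21] (.step [21, 28, 20, 27] .fail))), (1, (.step [18, 20, 19, 19, 19] .fail)), (1, (.step [18, 20, 23, 4] .fail)), (1, .fail), (1, (.step [4, 20, 19] .fail)), (1, (.step [4, 19, 4, 20] (.step [21, 22, 24] (.step [25, 27] (.done [25, 27, 21, 22, 24, 4, 19, 4, 20, 2, 3, 0, 1, 1, 2, 3, 3]))))), (1, (.step [18, 18, 18, 22] .fail)), (1, (.step [4, 20, 23, 4] .fail)), (1, (.step [19, 21, 18] .fail)), (1, (.step [18, 18, 20, 22] (.step [22, 28, 23,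 25] .fail))), (1, .fail), (1, (.step [4, 18, 18, 24] (.step [23, 20] .fail))), (1, (.step [4, 22, 21] (.step [22, 20, 22, 21] .fail))), (1, (.step [18, 5, 24, 4] .fail)), (1, (.step [18, 4, 22, 25] .fail)), (1, (.step [18, 18, 5, 23, 19] (.step [20, 27, 20, 20] .fail))), (1, (.step [4, 22, 19, 25] .fail)), (1, (.step [18, 18, 24, 22, 4] (.step [21, 23, 20, 25] .fail))), (4, .fail), (1, (.step [18, 24, 18, 25] (.step [21, 28, 21, 27] .fail))), (1, (.step [5, 20, 20, 19] (.step [20, 20, 28, 22, 24] .fail))), (1, (.step [5, 18, 20] .fail)), (3, .fail), (1, (.step [18, 5, 19, 24, 18] .fail)), (1, (.step [19, 23, 24, 22] (.step [22, 22, 20] .fail))), (1, (.step [18, 4, 22, 22, 25] (.step [22, 27, 22, 24] .fail))), (1, (.step [18, 24, 4, 21, 22] .fail)), (1, (.step [18, 22, 4, 20, 20] (.step [20, 22, 22, 27, 27] .fail))), (1, (.step [18, 18, 18, 22] (.step [23, 23, 23, 27] .fail))), (1, (.step [18,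 18, 4, 24] (.step [22, 27, 22] .fail))), (1, (.step [19, 24, 5, 22] .fail)), (1, .fail), (1, (.step [18, 4, 20, 25, 19] (.step [23, 23, 23, 28] .fail))), (3, .fail), (1, (.step [18, 4, 18, 4, 19] .fail)), (1, (.step [18, 18, 25, 22] .fail)), (1, .fail), (1, (.step [19, 5, 23, 18] .fail)), (1, (.step [4, 24, 22, 21] .fail)), (1, .fail), (1, (.step [19, 23, 23, 21] .fail)), (1, .fail), (1, (.step [19, 19, 4, 18] (.step [22, 20, 20, 24] .fail))), (1, (.step [4, 22, 22, 19] .fail)), (2, .fail), (1, (.step [18, 21, 18, 18, 24] .fail)), (2, .fail), (1, (.step [4, 21, 19, 25] (.step [23, 24, 23, 23] .fail))), (3, .fail), (1, (.step [4, 24, 22, 5] .fail)), (1, (.step [18, 21, 22] .fail)), (1, .fail), (1, (.step [18, 18, 5, 22] .fail)), (2, .fail), (1, (.step [18, 21, 19, 22, 21] .fail)), (2, .fail), (1, (.step [18, 18, 21, 19, 20] .fail)), (1, (.step [18, 22, 20, 4, 18] (.step [21, 21, 27, 21, 22] .fail))),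 (1, (.step [19, 19, 20] (.step [21, 23, 21, 23] .fail))), (1, .fail), (1, (.step [19, 23, 4] .fail)), (1, (.step [19, 21, 24, 5] .fail)), (1, (.step [18, 25, 22] .fail)), (1, (.step [4, 23, 25] (.step [20, 20, 23] (.step [24, 27, 26] (.badAt 1))))), (5, .fail), (1, (.step [18, 4, 22, 4] .fail)), (1, (.step [4, 19, 23, 21] .fail)), (1, (.step [19, 19, 24, 23] .fail)), (1, (.step [4, 4, 4, 22] .fail)), (1, .fail), (1, (.step [18, 22, 21, 23, 5] (.step [20, 28, 23, 27, 23] .fail))), (1, .fail), (1, (.step [19, 22, 4, 24, 5] (.step [23, 27, 21, 23] .fail))), (1, .fail), (1, (.step [18, 5, 19, 25, 5] .fail)), (1, .fail), (1, (.step [18, 4, 21, 5] .fail)), (2, .fail), (1, (.step [18, 4, 22, 20] (.step [21, 23, 28] .fail))), (1, .fail), (1, (.step [4, 22, 22] (.step [23, 24, 22, 21] .fail))), (1, .fail), (1, (.step [5, 18, 23] .fail)), (1, .fail), (1, (.step [18, 21, 5, 24] .fail)), (4, .fail), (1, (.step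 [4, 19, 21, 4] (.step [20, 27, 20, 28, 21] .fail))), (1, (.step [4, 19, 21, 4] .fail)), (1, (.step [18, 20, 18, 4, 18] .fail)), (1, (.step [18, 5, 25, 18, 21] .fail)), (1, .fail), (1, (.step [4, 24, 23] .fail)), (2, .fail), (1, (.step [18, 23, 20, 25, 23] (.step [20, 20, 23, 20, 25] .fail))), (1, (.step [19, 19, 4, 24] (.step [20, 22, 25, 28, 22] .fail))), (2, .fail), (1, (.step [4, 25] (.step [21, 23, 28, 21, 25] .fail))), (1, (.step [19, 4, 21, 22] .fail)), (1, (.step [5, 23, 5, 23] .fail)), (1, (.step [19, 22, 25, 19] (.step [22, 21, 22] .fail))), (1, .fail), (1, (.step [18, 20, 20, 19] .fail)), (3, .fail), (1, (.step [19, 19, 4] .fail)), (1, (.step [4, 4, 19, 5] .fail)), (1, (.step [19, 19, 20, 24] (.step [20, 22, 22, 27, 21] .fail))), (1, (.step [18, 20, 20, 22] .fail)), (2, .fail), (1, (.step [4, 22, 22, 19] .fail)), (1, (.step [19, 19, 22, 22] (.step [22, 28, 22, 24] .fail))), (1, (.step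 [18, 5, 18, 4, 19] .fail)), (3, .fail), (1, (.step [18, 18, 23, 20, 19] .fail)), (2, .fail), (1, (.step [19, 5, 20, 23] .fail)), (1, (.step [5, 25, 18, 24] .fail)), (2, .fail), (1, (.step [18, 5, 25, 18] .fail)), (1, (.step [18, 20, 19, 19] .fail)), (1, (.step [18, 4, 18, 5, 18] .fail)), (1, (.step [18, 18, 21, 25, 23] .fail)), (1, (.step [4, 22, 25, 22] (.step [20, 20, 28, 21] .fail))), (1, .fail), (1, (.step [18, 18, 22, 4, 20] .fail)), (1, (.step [4, 18, 5, 21] .fail)), (3, .fail), (1, (.step [19, 23, 23] .fail)), (4, .fail), (1, (.step [18, 20, 4, 4, 19] .fail)), (3, .fail), (1, (.step [18, 4, 19, 24] .fail)), (3, .fail), (1, (.step [19, 20, 22, 5] .fail)), (1, (.step [18, 5, 22, 5] .fail)), (1, .fail), (1, (.step [5, 19, 4, 25] (.step [21, 23, 27, 20] .fail))), (1, .fail), (1, (.step [19, 22] .fail)), (1, (.step [19, 23, 4, 4] .fail)), (1, (.step [5, 20, 22] .fail)), (2, .fail), (1, (.step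 [18, 18, 25, 4, 18] .fail)), (1, (.step [18, 21, 19, 21, 4] .fail)), (1, (.step [19, 20, 5, 18, 24] .fail)), (4, .fail), (1, (.step [18, 18, 21, 5, 19] .fail)), (2, .fail), (1, (.step [18, 25, 4, 23] (.step [21, 22, 21] .fail))), (2, .fail), (1, (.step [18, 5, 5, 22] .fail)), (1, (.step [4, 18, 22, 21] .fail)), (1, (.step [4, 18, 23, 23] .fail)), (1, (.step [19, 24, 4] .fail)), (1, (.step [18, 20, 22, 19] (.step [21, 22, 22] .fail))), (1, .fail), (1, (.step [18, 18, 22, 4, 25] (.step [20, 28, 23, 20] .fail))), (2, .fail), (1, (.step [19, 22, 21, 25, 18] .fail)), (1, .fail), (1, (.step [18, 4, 19, 19] (.step [22, 22, 24] .fail))), (3, .fail), (1, (.step [4, 23, 25] .fail)), (1, (.step [18, 24, 5, 24] .fail)), (1, (.step [18, 5, 25] .fail)), (1, (.step [18, 4, 22, 18, 24] .fail)), (3, .fail), (1, (.step [19, 5, 21] .fail)), (1, (.step [18, 25, 19, 24, 22] .fail)), (1, .fail), (1, (.step [19, 22,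 5, 22] (.step [20, 23, 23, 28] .fail))), (3, .fail), (1, (.step [18, 24, 19, 25, 5] .fail)), (1, (.step [18, 4, 22, 5] .fail)), (1, (.step [4, 23, 4] (.step [23, 23, 23] .fail))), (1, .fail), (1, (.step [18, 18, 25, 19] (.step [20, 27, 27, 21, 23] .fail))), (1, (.step [19, 4, 19, 4, 24] .fail)), (1, (.step [18, 21, 5, 23] .fail)), (1, (.step [18, 22, 19, 5] .fail)), (1, (.step [5, 18, 24] (.step [23, 20, 27, 20] .fail))), (1, (.step [18, 20, 5, 21, 19] (.step [23, 25, 23] .fail))), (1, (.step [4, 24, 19, 5] .fail)), (1, (.step [18, 4, 19, 5, 23] .fail)), (1, .fail), (1, (.step [18, 5, 19, 23] .fail)), (1, (.step [5, 23, 19, 22] .fail)), (1, (.step [18, 22, 20, 4, 19] .fail)), (1, .fail), (1, (.step [18, 5, 18, 22, 19] .fail)), (1, .fail), (1, (.step [19, 23, 25] .fail)), (1, .fail), (1, (.step [19, 21] .fail)), (1, .fail), (1, (.step [4, 18, 25, 19] .fail)), (1, .fail), (1, (.step [4, 19, 20,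 5, 20] .fail)), (1, .fail), (1, (.step [18, 22, 19, 25] .fail)), (2, .fail), (1, (.step [19, 5, 18, 24] .fail)), (2, .fail), (1, (.step [19, 5, 20, 4] .fail)), (2, .fail), (1, (.step [18, 18, 18, 24] .fail)), (3, .fail), (1, (.step [19, 5, 20, 4] (.step [22, 20, 23, 23] .fail))), (1, .fail), (1, (.step [18, 20, 24, 18, 20] .fail)), (1, .fail), (1, (.step [19, 19, 5, 22] .fail)), (1, .fail), (1, (.step [4, 19, 23, 18] .fail)), (1, (.step [19, 4, 19, 19] .fail)), (1, (.step [4, 21, 22] .fail)), (1, (.step [18, 4, 4, 20, 18] .fail)), (1, (.step [19, 22, 19, 19] (.step [21, 23, 24, 28] .fail))), (1, (.step [4, 23, 19] (.step [20, 23, 20, 27] .fail))), (1, .fail), (1, (.step [18, 20, 23, 19] .fail)), (1, .fail), (1, (.step [19, 23, 23, 21] .fail)), (1, (.step [19, 22, 18, 23] .fail)), (1, (.step [18, 24, 4] .fail)), (1, .fail), (1, (.step [18, 22, 4, 18] .fail)), (1, .fail), (1, (.step [18, 4, 19,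 21] .fail)), (2, .fail), (1, (.step [18, 23, 18, 23] .fail)), (1, (.step [18, 24, 5, 21] (.step [23, 20, 25, 22] .fail))), (1, (.step [18, 22, 5, 5, 25] (.step [23, 28, 23, 27] .fail))), (1, (.step [4, 24, 18, 5] .fail)), (1, .fail), (1, (.step [19, 24, 18, 25] (.step [21, 21, 21, 23] .fail))), (1, (.step [19, 24, 4, 18] (.step [21, 22, 28, 24] .fail))), (3, .fail), (1, (.step [4, 23, 5] .fail)), (1, .fail), (1, (.step [19, 5, 19, 19] .fail)), (1, (.step [5, 23, 24] .fail)), (5, .fail), (1, (.step [18, 20, 18, 22] .fail)), (1, (.step [18, 18, 18, 22] .fail)), (1, .fail), (1, (.step [4, 22, 21, 24] .fail)), (1, (.step [5, 22, 5, 18] (.step [22, 27, 25, 22] .fail))), (1, .fail), (1, (.step [18, 4, 24, 18, 4] (.step [22, 22, 25] .fail))), (2, .fail), (1, (.step [4, 21, 23] .fail)), (1, .fail), (1, (.step [5, 18, 24] .fail)), (1, (.step [19, 25, 19, 22] .fail)), (1, (.step [18, 20, 20, 20, 25] .fail)),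 (1, (.step [19, 19, 4, 24] .fail)), (1, (.step [18, 4, 19, 21] .fail)), (1, (.step [18, 20, 5, 21, 22] .fail)), (1, .fail), (1, (.step [19, 19, 20, 18] (.step [21, 28, 21, 27] .fail))), (1, (.step [19, 23, 20, 20] .fail)), (1, (.step [19, 25, 22, 18] .fail)), (1, .fail), (1, (.step [19, 21, 24, 4] (.step [20, 28, 21] .fail))), (2, .fail), (1, (.step [19, 21, 5, 19] .fail)), (1, (.step [18, 23, 21, 5] .fail)), (2, .fail), (1, (.step [4, 22, 25, 22] .fail)), (1, (.step [18, 22, 5, 23] (.step [21, 23, 27, 21, 21] .fail))), (1, (.step [19, 21, 22, 5, 5] .fail)), (1, (.step [18, 5, 19, 21] .fail)), (1, .fail), (1, (.step [18, 4, 19, 5, 23] .fail)), (1, (.step [19, 22, 5, 21] .fail)), (5, .fail), (1, (.step [4, 21, 18] (.step [21, 27, 25, 22] .fail))), (1, (.step [4, 18, 21, 21] .fail)), (1, (.step [19, 22, 4, 21] .fail)), (1, (.step [18, 20, 19, 20, 18] .fail)), (1, (.step [18, 20, 25, 19, 25] (.step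 [22, 27, 23, 20] .fail))), (3, .fail), (1, (.step [19, 19, 24, 23] .fail)), (1, (.step [5, 20, 4, 25] .fail)), (1, (.step [19, 25, 22] (.step [20, 22, 22, 28, 24] .fail))), (1, (.step [18, 4, 4, 21, 21] .fail)), (1, (.step [18, 24, 23, 25] .fail)), (1, (.step [18, 20, 22, 18] .fail)), (1, .fail), (1, (.step [19, 4, 25, 22] .fail)), (1, (.step [19, 5, 25, 18] (.step [20, 28, 22, 22, 28] .fail))), (1, (.step [18, 18, 5, 20, 20] .fail)), (1, (.step [19, 4, 18, 24] .fail)), (1, .fail), (1, (.step [5, 23, 5] .fail)), (1, (.step [4, 4, 4, 24] (.step [20, 23] .fail))), (4, .fail), (1, (.step [4, 19, 22, 18] .fail)), (1, .fail), (1, (.step [4, 19, 21, 24] .fail)), (1, (.step [4, 19, 19, 25] .fail)), (1, (.step [4, 21, 25] (.step [20] .fail))), (1, .fail), (1, (.step [4, 20, 23, 5] (.step [23, 23] .fail))), (3, .fail), (1, (.step [5, 25, 22, 22] .fail)), (1, (.step [18, 20, 23, 23] .fail)), (1, (.step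 [19, 19, 20] (.step [21, 23, 20, 28] .fail))), (1, (.step [18, 22, 22] .fail)), (1, .fail), (1, (.step [18, 5, 22, 19, 25] (.step [22, 25, 23, 27] .fail))), (2, .fail), (1, (.step [18, 25, 22] .fail)), (2, .fail), (1, (.step [18, 5, 22, 22, 19] .fail)), (1, (.step [18, 23, 25, 4] (.step [21, 21, 28, 22] .fail))), (1, (.step [19, 22, 19, 21] .fail)), (1, (.step [18, 5, 25, 18] (.step [22, 28, 22] .fail))), (3, .fail), (1, (.step [19, 24, 23, 25] (.step [20, 23, 23, 27] .fail))), (1, .fail), (1, (.step [5, 18, 21, 4] .fail)), (2, .fail), (1, (.step [18, 20, 23, 23, 21] (.step [21, 21, 28, 22, 25] .fail))), (1, (.step [4, 21, 19, 19] .fail)), (1, (.step [5] .fail)), (1, (.step [19, 21, 4, 25, 18] .fail)), (1, (.step [4, 19, 22] .fail)), (1, (.step [18, 23, 4, 19] .fail)), (1, .fail), (1, (.step [19, 5, 24, 18] (.step [21, 23, 27, 21] .fail))), (1, .fail), (1, (.step [18, 18, 24, 5] .fail)), (1, (.step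 [4, 23, 19] .fail)), (1, (.step [19, 23, 18, 5] .fail)), (1, (.step [19, 19, 24, 4] (.step [20, 22, 25, 28, 22] .fail))), (1, (.step [4, 20, 19, 21] .fail)), (1, .fail), (1, (.step [18, 24, 5, 24] .fail)), (1, (.step [18, 20, 20, 4, 20] .fail)), (1, (.step [18, 4, 20, 25, 18] .fail)), (1, .fail), (1, (.step [4, 23, 24] .fail)), (1, (.step [18, 23] .fail)), (1, (.step [4, 21, 4] .fail)), (1, (.step [19, 5, 19, 4] .fail)), (1, (.step [18, 22, 21, 4] .fail)), (1, (.step [18, 21, 19, 20] .fail)), (3, .fail), (1, (.step [18, 18, 4] .fail)), (1, (.step [4, 22, 4, 24] .fail)), (1, .fail), (1, (.step [5, 19, 19, 25] .fail)), (4, .fail), (1, (.step [18, 18, 20, 20, 5] .fail)), (1, (.step [18, 5, 18, 22, 4] .fail)), (1, (.step [18, 4, 20, 24, 4] .fail)), (1, (.step [4, 22, 20] (.step [20, 23, 27, 22] .fail))), (1, (.step [18, 5, 5, 19, 25] .fail)), (2, .fail), (1, (.step [18, 5, 23, 19, 25] .fail)), (1,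 (.step [4, 18, 23, 24] (.step [22, 27, 20, 27] .fail))), (1, (.step [4, 25, 5, 25] (.step [20, 28, 23, 24] .fail))), (1, .fail), (1, (.step [4, 4, 4, 24] .fail)), (1, (.step [18, 5, 18, 22] .fail)), (1, (.step [19, 19, 19] .fail)), (1, (.step [18, 18, 4, 23] .fail)), (1, .fail), (1, (.step [4, 18, 4, 20] .fail)), (3, .fail), (1, (.step [18, 23, 4, 21, 22] .fail)), (1, (.step [4, 23, 24, 22] (.step [20, 22, 20, 23, 25] .fail))), (7, .fail), (1, (.step [18, 20, 20, 5, 25] (.step [22, 20, 20, 20] .fail))), (1, (.step [18, 21, 18, 18, 24] .fail)), (1, .fail), (1, (.step [18, 23, 5, 21] .fail)), (1, .fail), (1, (.step [4, 24, 18, 20] .fail)), (1, (.step [19, 23, 18, 22] (.step [22, 21, 23, 24] .fail))), (1, (.step [19, 22, 5] .fail)), (1, (.step [4, 21, 23, 24] .fail)), (1, (.step [18, 20, 20, 5, 25] .fail)), (3, .fail), (1, (.step [18, 23, 21, 23] .fail)), (3, .fail), (1, (.step [4, 19, 23, 4] .fail)),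 (1, (.step [18, 18, 4, 21, 25] .fail)), (1, (.step [19, 4, 18, 18] .fail)), (1, (.step [4, 4, 25, 18] .fail)), (1, (.step [4, 22, 5, 22] .fail)), (3, .fail), (1, (.step [18, 4, 22] .fail)), (1, .fail), (1, (.step [19, 22, 19, 25] (.step [22, 24, 23, 23] (.step [24, 27] (.badAt 1))))), (1, (.step [4, 19, 23, 24] .fail)), (1, (.step [4, 23, 5, 5] .fail)), (1, (.step [18, 5, 22, 5] .fail)), (1, (.step [18, 23, 18, 24] (.step [21, 22, 28, 24] .fail))), (3, .fail), (1, (.step [18, 20, 4, 4, 25] .fail)), (1, .fail), (1, (.step [18, 22, 5, 22, 19] .fail)), (1, (.step [18, 21, 18, 25, 5] .fail)), (1, (.step [4, 24, 19, 25] .fail)), (1, (.step [19, 20, 4, 4] (.step [20, 20, 22, 22, 22] .fail))), (1, (.step [18, 25] .fail)), (2, .fail), (1, (.step [5, 23, 18] (.step [23, 28, 22, 25] .fail))), (1, (.step [19, 20, 22, 4] .fail)), (1, .fail), (1, (.step [18, 18, 21, 23] .fail)), (1, (.step [19, 25, 18, 21]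 (.step [20, 20, 20, 22, 27] .fail))), (1, (.step [19, 23, 25, 23] (.step [20, 22, 20, 20] .fail))), (1, (.step [18, 4, 22, 20, 24] .fail)), (1, (.step [18, 22, 5, 22, 19] .fail)), (2, .fail), (1, (.step [18, 18, 4, 25] (.step [20, 22, 22, 28, 21] .fail))), (3, .fail), (1, (.step [5, 20, 23] .fail)), (1, (.step [18, 22, 20, 19, 25] .fail)), (1, (.step [4, 20, 4, 18] .fail)), (1, (.step [4, 4, 23, 20] .fail)), (1, (.step [18, 20, 25, 23, 21] .fail)), (1, (.step [5, 22, 4, 22] .fail)), (1, (.step [19, 5, 24, 23] .fail)), (1, (.step [19, 4, 24, 18] (.step [20, 27, 22, 25] .fail))), (2, .fail), (1, (.step [19, 5, 21] .fail)), (1, (.step [18, 18, 24, 22, 25] (.step [22, 20, 23, 27] .fail))), (1, .fail), (1, (.step [18, 4, 25, 18] .fail)), (1, .fail), (1, (.step [18, 25, 19, 19, 19] .fail)), (1, (.step [19, 24, 18, 20] (.step [23, 21] .fail))), (1, .fail), (1, (.step [19, 19, 25, 5] (.step [20, 27, 23,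 23] .fail))), (1, (.step [18, 4, 22, 22, 25] .fail)), (3, .fail), (1, (.step [18, 23, 18, 24, 19] .fail)), (1, (.step [18, 18, 20, 25] .fail)), (1, (.step [18, 5, 19, 21, 25] .fail)), (1, (.step [4, 24, 18, 20] .fail)), (1, (.step [5, 20, 5] .fail)), (3, .fail), (1, (.step [19, 5, 21, 23] (.step [20, 20, 20, 20, 27] .fail))), (1, (.step [18, 18, 18, 21] .fail)), (1, (.step [18, 18, 25, 22, 5] .fail)), (1, (.step [19, 19, 5, 23, 19] .fail)), (1, (.step [18, 5, 5, 19, 25] (.step [23, 23, 25] .fail))), (1, (.step [19, 23, 18, 25] .fail)), (1, (.step [4, 23, 4, 23] .fail)), (4, .fail), (1, (.step [18, 5, 18, 4, 18] .fail)), (3, .fail), (1, (.step [4, 20, 19] .fail)), (2, .fail), (1, (.step [18, 21, 5] .fail)), (1, (.step [4, 23, 5, 19] (.step [21, 23, 23, 25, 22] .fail))), (1, (.step [18, 21, 5, 21, 19] .fail)), (1, (.step [18, 18] (.step [20, 20, 23, 23, 24] .fail))), (1, (.step [19, 4, 20, 24] .fail)),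 (1, (.step [18, 4, 22, 5, 25] .fail)), (1, (.step [19, 19, 23, 4] (.step [21, 23, 27, 20] .fail))), (3, .fail), (1, (.step [18, 4, 19, 5] .fail)), (1, (.step [4, 19, 23] .fail)), (4, .fail), (1, (.step [4, 24, 19, 22] (.step [20, 27, 21, 28] .fail))), (1, (.step [5, 23, 18] .fail)), (1, (.step [18, 20, 5, 18, 5] (.step [23, 24, 28] .fail))), (1, (.step [18, 25, 18, 4] (.step [20, 22, 22, 28] .fail))), (1, (.step [18, 21, 19, 22, 22] .fail)), (2, .fail), (1, (.step [4, 4, 25] .fail)), (1, (.step [19, 22, 22, 20] .fail)), (1, (.step [4, 22, 18] (.step [20, 28, 22, 27, 21] (.step [25, 26, 27] (.badAt 1))))), (1, (.step [18, 20, 23, 25] (.step [20, 27, 21, 23] .fail))), (1, (.step [19, 4, 20, 18] (.step [20, 22, 25, 22, 20] .fail))), (2, .fail), (1, (.step [19, 22, 19, 4] .fail)), (2, .fail), (1, (.step [4, 4, 18] .fail)), (2, .fail), (1, (.step [19, 22, 22, 5] (.step [20, 27, 27, 21] .fail))), (1,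 (.step [5, 19, 19, 24] (.step [20, 28, 21, 22, 21] .fail))), (1, (.step [18, 24, 4, 21] (.step [23, 24, 23] .fail))), (1, .fail), (1, (.step [4, 19, 20, 25] .fail)), (1, .fail), (1, (.step [19, 5, 5, 19, 24] .fail)), (1, (.step [18, 18, 24, 5, 25] (.step [20, 22, 22, 27, 27] .fail))), (2, .fail), (1, (.step [18, 21, 22, 19] .fail)), (1, .fail), (1, (.step [18, 21, 5, 23] .fail)), (1, (.step [18, 23, 5, 18] .fail)), (1, (.step [18, 25, 22, 5] .fail)), (2, .fail), (1, (.step [4, 23, 25, 18] .fail)), (1, .fail), (1, (.step [19, 5, 21, 5] .fail)), (1, (.step [18, 4, 21, 21, 5] .fail)), (2, .fail), (1, (.step [18, 23, 18, 25, 5] .fail)), (1, (.step [18, 18, 4, 23, 23] .fail)), (1, .fail), (1, (.step [19, 19, 20, 23, 18] .fail)), (1, (.step [18, 18, 4, 23, 5] .fail)), (3, .fail), (1, (.step [18, 5, 18, 5] .fail)), (2, .fail), (1, (.step [19, 24, 22, 24] .fail)), (1, .fail), (1, (.step [18, 5, 20, 18,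 21] (.step [23, 25, 27, 20] .fail))), (1, (.step [18, 22, 19, 20] .fail)), (1, .fail), (1, (.step [18, 5, 5, 22, 22] (.step [22, 20, 20, 24, 23] .fail))), (1, (.step [5, 19, 19, 22] (.step [20, 28, 22, 22] .fail))), (1, (.step [18, 22, 21, 25, 18] (.step [20, 27, 22, 20] .fail))), (2, .fail), (1, (.step [18, 4, 24, 19, 22] .fail)), (1, (.step [19, 21, 23, 5] (.step [21, 23, 21, 28] (.step [26] (.done [26, 21, 23, 21, 28, 19, 21, 23, 5, 0, 1, 1, 2, 3, 0, 0, 0]))))), (5, .fail), (1, (.step [18, 4, 25, 18, 18] .fail)), (1, (.step [18, 20, 23, 25, 18] .fail)), (1, .fail), (1, (.step [19, 23, 20, 18] .fail)), (1, .fail), (1, (.step [18, 21, 21] .fail)), (1, (.step [19, 4, 4] .fail)), (1, (.step [19, 20, 24] .fail)), (1, .fail), (1, (.step [18, 18, 22, 19, 23] (.step [22, 27, 27, 20] .fail))), (1, (.step [18, 21, 18, 24] .fail)), (2, .fail), (1, (.step [5, 19, 19, 24] .fail)), (2, .fail), (1, (.step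 [18, 18, 21, 25, 18] .fail)), (1, (.step [18, 22, 21, 19, 21] .fail)), (1, (.step [4, 18, 22, 19] .fail)), (1, (.step [19, 23, 18, 5] .fail)), (2, .fail), (1, (.step [19, 4, 19, 21] .fail)), (1, (.step [18, 4, 24, 4] (.step [20, 28, 22, 28] .fail))), (1, (.step [18, 25, 19, 19] .fail)), (1, (.step [18, 20, 20, 19, 25] (.step [] (.step [24, 26, 27] (.badAt 1))))), (1, (.step [18, 4, 18, 20, 4] (.step [23, 27, 20, 27] (.step [24, 26] (.done [24, 26, 23, 27, 20, 27, 18, 4, 18, 20, 4, 1, 2, 2, 1, 2, 1, 0, 1]))))), (1, .fail), (1, (.step [18, 20, 4, 4, 25] .fail)), (1, (.step [19, 5, 21, 24, 4] (.step [20, 22, 22, 20, 20] .fail))), (5, .fail), (1, (.step [18, 4, 18, 22, 25] .fail)), (1, .fail), (1, (.step [4, 18, 5, 23] .fail)), (1, .fail), (1, (.step [19, 4, 23] .fail)), (1, (.step [4, 4, 23, 18] .fail)), (2, .fail), (1, (.step [4, 21, 24, 4] (.step [21, 23, 27, 22] .fail))), (2, .fail), (1, (.step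 [18, 22, 21, 19, 21] (.step [21, 23, 25] (.step [] (.done [21, 23, 25, 18, 22, 21, 19, 21, 1, 2, 3, 0, 1, 0, 0, 0]))))), (1, (.step [18, 23, 19, 21] .fail)), (1, .fail), (1, (.step [18, 21, 19, 21] (.step [21, 22, 20, 22] .fail))), (1, (.step [4, 4, 18, 21] .fail)), (1, .fail), (1, (.step [4, 18, 4, 24] .fail)), (7, .fail), (1, (.step [18, 4, 19, 5, 21] .fail)), (1, .fail), (1, (.step [18, 20, 18, 21, 25] .fail)), (3, .fail), (1, (.step [19, 21] (.step [21, 27, 25] .fail))), (1, (.step [18, 4, 24, 23, 18] .fail)), (1, (.step [18, 23, 5, 20] .fail)), (1, (.step [19, 24, 19, 23] (.step [20, 20, 20, 23] .fail))), (1, .fail), (1, (.step [5, 20, 4, 23] .fail)), (1, .fail), (1, (.step [18, 20, 4, 22] .fail)), (1, (.step [5, 25, 23, 4] .fail)), (1, (.step [19, 5, 18, 5] (.step [20, 28, 22, 22] (.step [27, 26] (.badAt 1))))), (2, .fail), (1, (.step [4, 19, 22, 20] .fail)), (1, (.step [18, 4, 18, 21, 18]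 .fail)), (1, .fail), (1, (.step [18, 20, 25, 23] .fail)), (1, (.step [18, 5, 5, 25] .fail)), (3, .fail), (1, (.step [18, 20, 25, 19, 25] .fail)), (1, (.step [18, 22, 21, 21] .fail)), (1, (.step [19, 24, 5, 24] (.step [21, 28, 22, 28, 22] .fail))), (1, (.step [19, 19] .fail)), (1, (.step [19, 4, 4, 4] .fail)), (1, (.step [18, 5, 21, 18] .fail)), (2, .fail), (1, (.step [18, 5, 5, 22] .fail)), (1, (.step [5, 23, 19, 25] .fail)), (2, .fail), (1, (.step [19, 21, 19, 25, 19] .fail)), (1, .fail), (1, (.step [19, 4, 24, 18, 18] .fail)), (1, .fail), (1, (.step [18, 22, 4, 19] .fail)), (1, (.step [19, 21, 19, 23] .fail)), (1, (.step [5, 23, 4, 20] (.step [23, 21, 22] .fail))), (1, (.step [19, 21, 22, 20] .fail)), (1, (.step [18, 21, 25, 23] .fail)), (1, (.step [19, 24, 23, 25] .fail)), (3, .fail), (1, (.step [18, 21, 23, 5] (.step [21, 22, 20, 24] .fail))), (1, (.step [18, 18, 22, 19] .fail)), (1, (.step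 [18, 20, 24, 23, 24] .fail)), (2, .fail), (1, (.step [5, 23, 20, 5] .fail)), (1, (.step [18, 24, 23, 25] .fail)), (2, .fail), (1, (.step [18, 22, 19, 22] .fail)), (1, (.step [19, 4, 25, 22] .fail)), (1, .fail), (1, (.step [18, 24, 5, 21] .fail)), (3, .fail), (1, (.step [4, 19, 22] .fail)), (1, (.step [18, 18, 20] .fail)), (1, (.step [19, 22, 4, 20, 5] (.step [22, 27, 21, 23] .fail))), (1, (.step [18, 21, 19, 19, 19] .fail)), (1, .fail), (1, (.step [5, 23, 4, 18] .fail)), (1, (.step [18, 4, 19, 22] .fail)), (1, (.step [18, 23, 23, 19] .fail)), (1, .fail), (1, (.step [18, 18, 5, 5, 21] .fail)), (1, (.step [18, 21, 23, 19] .fail)), (1, (.step [19, 22, 22, 22] .fail)), (1, (.step [18, 5, 19] (.step [20, 27, 23, 27] .fail))), (1, .fail), (1, (.step [18, 18] .fail)), (1, (.step [19, 23, 23] (.step [20, 22, 22, 28, 24] .fail))), (1, (.step [18, 23, 4, 18] .fail)), (1, (.step [18, 20, 25, 22, 18] .fail)),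 (4, .fail), (1, (.step [19, 20, 23, 4] .fail)), (3, .fail), (1, (.step [18, 18, 18, 21] .fail)), (1, .fail), (1, (.step [18, 22, 5, 22, 18] .fail)), (1, .fail), (1, (.step [18, 18, 5, 24, 4] .fail)), (1, (.step [18, 25, 19, 5] .fail)), (1, .fail), (1, (.step [18, 18, 20, 23, 24] .fail)), (1, (.step [18, 22, 24] (.step [22, 21, 22, 20, 27] .fail))), (1, (.step [19, 22, 5, 23] .fail)), (1, (.step [19, 5, 21] .fail)), (1, .fail), (1, (.step [18, 20, 25, 5] .fail)), (1, (.step [19, 5, 23, 23, 5] .fail)), (1, (.step [18, 24, 5] .fail)), (1, (.step [19, 4, 23, 23] .fail)), (2, .fail), (1, (.step [19, 19, 4] (.step [23, 20, 27, 20] .fail))), (2, .fail), (1, (.step [18, 18, 25, 22, 25] .fail)), (1, (.step [4, 18, 21] (.step [22, 20, 23, 25] .fail))), (1, .fail), (1, (.step [18, 24] (.step [20, 27, 23, 24] .fail))), (1, .fail), (1, (.step [19, 23, 21] .fail)), (1, (.step [18, 5, 20, 18, 21] .fail)), (1,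 .fail), (1, (.step [19, 21, 4, 19] .fail)), (1, (.step [19, 22, 24, 18] .fail)), (3, .fail), (1, (.step [18, 22, 20, 18, 22] (.step [20, 20, 27, 22, 22] .fail))), (1, .fail), (1, (.step [4, 23, 19, 24] (.step [20, 27, 23, 23, 21] .fail))), (1, .fail), (1, (.step [19, 5, 24, 23] .fail)), (2, .fail), (1, (.step [18, 21, 23, 19, 23] .fail)), (4, .fail), (1, (.step [18, 18, 5, 25, 18] (.step [21, 23, 20, 25] .fail))), (1, (.step [19, 22, 22, 21] (.step [20, 27, 20, 22] .fail))), (1, (.step [18, 24, 18, 20, 20] (.step [20, 22, 22, 22, 20] .fail))), (1, (.step [5, 18, 4] .fail)), (2, .fail), (1, (.step [18, 5, 24, 23, 20] .fail)), (1, (.step [18, 22, 25, 19] .fail)), (1, (.step [18, 20, 20, 19] .fail)), (1, .fail), (1, (.step [18, 5, 22, 5] .fail)), (1, (.step [18, 4, 18, 22, 19] (.step [21, 22, 21, 27] .fail))), (1, .fail), (1, (.step [4, 4, 19, 19] .fail)), (1, .fail), (1, (.step [18, 24, 18, 20]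 .fail)), (2, .fail), (1, (.step [4, 18, 4, 22] (.step [21, 28, 22] .fail))), (4, .fail), (1, (.step [18, 4, 4, 25, 19] .fail)), (1, (.step [19, 20, 24, 4] .fail)), (1, (.step [19, 19, 19, 24, 4] .fail)), (1, (.step [19, 21, 25, 19] (.step [21, 22, 21] .fail))), (1, (.step [18, 18, 4, 23, 24] .fail)), (1, (.step [18, 20, 22, 19] .fail)), (1, .fail), (1, (.step [18, 18, 4, 21, 25] .fail)), (1, (.step [19, 20, 22, 19] .fail)), (1, (.step [18, 18, 22, 21, 24] .fail)), (1, .fail), (1, (.step [18, 20, 4, 24] (.step [23, 28, 22, 25] .fail))), (1, (.step [18, 4] .fail)), (1, .fail), (1, (.step [18, 18, 20, 24, 4] .fail)), (2, .fail), (1, (.step [18, 21, 25, 18, 5] .fail)), (3, .fail), (1, (.step [18, 4, 24, 22, 22] .fail)), (1, (.step [19, 21, 4, 18] .fail)), (1, (.step [4, 20, 18, 18] .fail)), (2, .fail), (1, (.step [18, 5, 23] .fail)), (1, .fail), (1, (.step [19, 20, 19, 5] .fail)), (1, .fail), (1,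 (.step [19, 20, 22, 5] (.step [23, 28, 24, 22] .fail))), (1, (.step [5, 19, 23] .fail)), (1, (.step [18, 20, 20, 4, 20] .fail)), (1, (.step [18, 23, 23, 19] (.step [22, 24, 22, 22] .fail))), (2, .fail), (1, (.step [18, 22, 5, 21, 24] (.step [22, 22, 21, 24] .fail)))])

/-- the pieces of a certificate -/
noncomputable def pcsCh : List (List (List ℕ) × Cert) := [(UB_0, cCh_0), (UB_1, cCh_1)]

/-- the old letters as words in good letters -/
def Wl : List (List ℕ) := [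
[0], [39, 40, 41, 40, 36, 37, 37, 39, 32, 34, 31, 33, 33, 29, 2, 2], [2],
[40, 41, 39, 38, 40, 37, 40, 32, 34, 35, 34, 34, 2, 2, 2, 30, 2, 17]]

/-- the relators -/
def relL : List (List ℕ) := [
[0, 2, 2, 0, 2, 2, 0, 2, 2, 0, 2, 2, 0, 2, 2, 0, 2, 2, 0, 2, 2],
[0, 2, 0, 2, 0, 2, 0, 2, 0, 2, 0, 2, 0, 2, 0, 2, 0, 2, 0, 2, 0, 2, 0, 2, 0, 2, 0, 2],
[0, 1, 1, 2, 0, 1, 1, 2, 0, 1, 1, 2, 0, 1, 1, 2, 0, 1, 1, 2, 0, 1, 1, 2, 0, 1, 1, 2],
[0, 1, 1, 2, 2, 0, 1, 1, 2, 2, 0, 1, 1, 2, 2, 0, 1, 1, 2, 2, 0, 1, 1, 2, 2, 0, 1, 1, 2, 2, 0, 1, 1, 2, 2],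
[0, 0, 2, 0, 0, 2, 0, 0, 2, 0, 0, 2, 0, 0, 2, 0, 0, 2, 0, 0, 2, 0, 0, 2, 0, 0, 2, 0, 0, 2, 0, 0, 2, 0, 0, 2]]

/-- the candidates for the image of the third generator -/
def candL : List (List ℕ) := [
[], [29], [24, 28, 20, 20, 27, 22, 25, 22, 18, 4, 20, 1, 1, 2, 2], [24, 26, 27, 23, 28, 18, 21, 21, 24, 2, 3, 0, 1, 1],
[24, 26, 27, 21, 27, 23, 25, 18, 23, 21, 19, 1, 1, 1, 1, 1], [25, 26, 21, 28, 18, 21, 21, 24, 2, 2, 2, 2, 3, 3], [24, 26, 27, 21, 23, 28, 24, 23, 19, 25, 18, 2, 2, 2, 1, 0, 3], [27, 26, 20, 20, 27, 27, 22, 18, 5, 20, 19, 23, 0, 0, 3, 0, 0, 1],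
[24, 28, 21, 21, 23, 28, 5, 23, 20, 22, 0, 0, 1, 0, 3, 0], [25, 26, 27, 22, 20, 23, 27, 18, 23, 24, 19, 1, 2, 2, 1, 1, 1], [26, 28, 21, 22, 25, 28, 18, 4, 21, 5, 24, 1, 1, 0, 3, 3, 3], [27, 26, 20, 20, 23, 20, 24, 5, 22, 5, 18, 2, 3, 2, 2, 1, 0, 0],
[26, 27, 21, 28, 20, 18, 24, 18, 24, 2, 3, 2, 3, 2, 2, 1], [26, 27, 23, 27, 23, 19, 24, 2, 3, 2, 3, 2, 1, 2], [27, 23, 20, 28, 22, 18, 5, 25, 23, 2, 3, 3, 2, 3, 3, 3], [26, 27, 22, 22, 24, 23, 4, 24, 18, 23, 2, 1, 0, 0, 1, 2, 2],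
[27, 21, 22, 25, 28, 18, 24, 4, 24, 23, 3, 3, 0, 1, 2, 3, 2], [28, 21, 21, 21, 23, 4, 22, 19, 21, 3, 0, 3, 0, 0, 3, 2], [25, 20, 22, 20, 20, 18, 21, 23, 21, 0, 0, 1, 0, 1, 1, 0], [22, 25, 27, 18, 22, 18, 20, 19, 1, 0, 3, 3, 3, 3, 2],
[28, 26, 20, 28, 18, 20, 5, 18, 5, 1, 1, 2, 1, 1, 2, 2], [24, 27, 26, 23, 20, 20, 18, 4, 21, 22, 0, 3, 2, 1, 0, 1, 0, 0], [28, 23, 23, 23, 27, 19, 20, 19, 23, 2, 2, 3, 2, 2, 3, 0, 0], [25, 27, 20, 27, 23, 27, 4, 22, 25, 0, 0, 0, 0, 0, 0, 1, 1],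
[25, 27, 21, 22, 24, 4, 19, 4, 20, 2, 3, 0, 1, 1, 2, 3, 3], [26, 21, 23, 21, 28, 19, 21, 23, 5, 0, 1, 1, 2, 3, 0, 0, 0], [24, 26, 23, 27, 20, 27, 18, 4, 18, 20, 4, 1, 2, 2, 1, 2, 1, 0, 1], [21, 23, 25, 18, 22, 21, 19, 21, 1, 2, 3, 0, 1, 0, 0, 0]]

/-- the fate of the candidates, for the exponent 1: kept, or a relator and a point -/
def elim1 : List (List ℕ × ℕ × ℕ × ℕ) := [([], 0, 0, 0),
  ([29], 1, 0, 0),
  ([24, 28, 20, 20, 27, 22, 25, 22, 18, 4, 20, 1, 1, 2, 2], 0, 1, 0),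
  ([24, 26, 27, 23, 28, 18, 21, 21, 24, 2, 3, 0, 1, 1], 0, 2, 0),
  ([24, 26, 27, 21, 27, 23, 25, 18, 23, 21, 19, 1, 1, 1, 1, 1], 0, 2, 0),
  ([25, 26, 21, 28, 18, 21, 21, 24, 2, 2, 2, 2, 3, 3], 0, 4, 0),
  ([24, 26, 27, 21, 23, 28, 24, 23, 19, 25, 18, 2, 2, 2, 1, 0, 3], 0, 4, 0),
  ([27, 26, 20, 20, 27, 27, 22, 18, 5, 20, 19, 23, 0, 0, 3, 0, 0, 1], 0, 2, 0),
  ([24, 28, 21, 21, 23, 28, 5, 23, 20, 22, 0, 0, 1, 0, 3, 0], 0, 2, 0),
  ([25, 26, 27, 22, 20, 23, 27, 18, 23, 24, 19, 1, 2, 2, 1, 1, 1], 0, 1, 0),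
  ([26, 28, 21, 22, 25, 28, 18, 4, 21, 5, 24, 1, 1, 0, 3, 3, 3], 0, 2, 0),
  ([27, 26, 20, 20, 23, 20, 24, 5, 22, 5, 18, 2, 3, 2, 2, 1, 0, 0], 0, 1, 0),
  ([26, 27, 21, 28, 20, 18, 24, 18, 24, 2, 3, 2, 3, 2, 2, 1], 0, 2, 0),
  ([26, 27, 23, 27, 23, 19, 24, 2, 3, 2, 3, 2, 1, 2], 0, 0, 0),
  ([27, 23, 20, 28, 22, 18, 5, 25, 23, 2, 3, 3, 2, 3, 3, 3], 0, 2, 0),
  ([26, 27, 22, 22, 24, 23, 4, 24, 18, 23, 2, 1, 0, 0, 1, 2, 2], 0, 0, 0),
  ([27, 21, 22, 25, 28, 18, 24, 4, 24, 23, 3, 3, 0, 1, 2, 3, 2], 0, 1, 0),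
  ([28, 21, 21, 21, 23, 4, 22, 19, 21, 3, 0, 3, 0, 0, 3, 2], 0, 3, 0),
  ([25, 20, 22, 20, 20, 18, 21, 23, 21, 0, 0, 1, 0, 1, 1, 0], 0, 1, 0),
  ([22, 25, 27, 18, 22, 18, 20, 19, 1, 0, 3, 3, 3, 3, 2], 0, 2, 0),
  ([28, 26, 20, 28, 18, 20, 5, 18, 5, 1, 1, 2, 1, 1, 2, 2], 0, 4, 0),
  ([24, 27, 26, 23, 20, 20, 18, 4, 21, 22, 0, 3, 2, 1, 0, 1, 0, 0], 0, 4, 0),
  ([28, 23, 23, 23, 27, 19, 20, 19, 23, 2, 2, 3, 2, 2, 3, 0, 0], 0, 2, 0),
  ([25, 27, 20, 27, 23, 27, 4, 22, 25, 0, 0, 0, 0, 0, 0, 1, 1], 0, 1, 0),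
  ([25, 27, 21, 22, 24, 4, 19, 4, 20, 2, 3, 0, 1, 1, 2, 3, 3], 0, 0, 0),
  ([26, 21, 23, 21, 28, 19, 21, 23, 5, 0, 1, 1, 2, 3, 0, 0, 0], 0, 2, 0),
  ([24, 26, 23, 27, 20, 27, 18, 4, 18, 20, 4, 1, 2, 2, 1, 2, 1, 0, 1], 0, 1, 0),
  ([21, 23, 25, 18, 22, 21, 19, 21, 1, 2, 3, 0, 1, 0, 0, 0], 0, 1, 0)]

/-- the fate of the candidates, for the exponent 2: kept, or a relator and a point -/
def elim2 : List (List ℕ × ℕ × ℕ × ℕ) := [([], 0, 0, 0),
  ([29], 0, 1, 0),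
  ([24, 28, 20, 20, 27, 22, 25, 22, 18, 4, 20, 1, 1, 2, 2], 0, 1, 0),
  ([24, 26, 27, 23, 28, 18, 21, 21, 24, 2, 3, 0, 1, 1], 0, 1, 0),
  ([24, 26, 27, 21, 27, 23, 25, 18, 23, 21, 19, 1, 1, 1, 1, 1], 0, 2, 0),
  ([25, 26, 21, 28, 18, 21, 21, 24, 2, 2, 2, 2, 3, 3], 0, 4, 0),
  ([24, 26, 27, 21, 23, 28, 24, 23, 19, 25, 18, 2, 2, 2, 1, 0, 3], 0, 4, 0),
  ([27, 26, 20, 20, 27, 27, 22, 18, 5, 20, 19, 23, 0, 0, 3, 0, 0, 1], 0, 2, 0),
  ([24, 28, 21, 21, 23, 28, 5, 23, 20, 22, 0, 0, 1, 0, 3, 0], 0, 2, 0),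
  ([25, 26, 27, 22, 20, 23, 27, 18, 23, 24, 19, 1, 2, 2, 1, 1, 1], 0, 1, 0),
  ([26, 28, 21, 22, 25, 28, 18, 4, 21, 5, 24, 1, 1, 0, 3, 3, 3], 0, 2, 0),
  ([27, 26, 20, 20, 23, 20, 24, 5, 22, 5, 18, 2, 3, 2, 2, 1, 0, 0], 0, 1, 0),
  ([26, 27, 21, 28, 20, 18, 24, 18, 24, 2, 3, 2, 3, 2, 2, 1], 0, 2, 0),
  ([26, 27, 23, 27, 23, 19, 24, 2, 3, 2, 3, 2, 1, 2], 0, 0, 0),
  ([27, 23, 20, 28, 22, 18, 5, 25, 23, 2, 3, 3, 2, 3, 3, 3], 0, 2, 0),
  ([26, 27, 22, 22, 24, 23, 4, 24, 18, 23, 2, 1, 0, 0, 1, 2, 2], 0, 0, 0),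
  ([27, 21, 22, 25, 28, 18, 24, 4, 24, 23, 3, 3, 0, 1, 2, 3, 2], 0, 2, 0),
  ([28, 21, 21, 21, 23, 4, 22, 19, 21, 3, 0, 3, 0, 0, 3, 2], 0, 3, 0),
  ([25, 20, 22, 20, 20, 18, 21, 23, 21, 0, 0, 1, 0, 1, 1, 0], 0, 1, 0),
  ([22, 25, 27, 18, 22, 18, 20, 19, 1, 0, 3, 3, 3, 3, 2], 0, 2, 0),
  ([28, 26, 20, 28, 18, 20, 5, 18, 5, 1, 1, 2, 1, 1, 2, 2], 0, 4, 0),
  ([24, 27, 26, 23, 20, 20, 18, 4, 21, 22, 0, 3, 2, 1, 0, 1, 0, 0], 0, 4, 0),
  ([28, 23, 23, 23, 27, 19, 20, 19, 23, 2, 2, 3, 2, 2, 3, 0, 0], 0, 2, 0),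
  ([25, 27, 20, 27, 23, 27, 4, 22, 25, 0, 0, 0, 0, 0, 0, 1, 1], 0, 1, 0),
  ([25, 27, 21, 22, 24, 4, 19, 4, 20, 2, 3, 0, 1, 1, 2, 3, 3], 0, 0, 0),
  ([26, 21, 23, 21, 28, 19, 21, 23, 5, 0, 1, 1, 2, 3, 0, 0, 0], 0, 2, 0),
  ([24, 26, 23, 27, 20, 27, 18, 4, 18, 20, 4, 1, 2, 2, 1, 2, 1, 0, 1], 0, 1, 0),
  ([21, 23, 25, 18, 22, 21, 19, 21, 1, 2, 3, 0, 1, 0, 0, 0], 0, 2, 0)]

end Cfsg.Agent.Lib.Helper5.RuOut
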