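import Cfsg.Agent.Lib.Helper5.RuOut1
import Cfsg.Agent.Lib.Helper5.RuOut2
import Cfsg.Agent.Lib.Helper5.RuOut3
import Cfsg.Agent.Lib.Helper5.Srch3

set_option autoImplicit false
set_option maxRecDepth 100000

/-! # The Rudvalis group: the model with more letters, and the two verified stabilizer chains -/

namespace Cfsg.Agent.Lib.Helper5.RuOut

open Cfsg.Agent.Lib.Helper6.TC Cfsg.Agent.Lib.Helper6.PM Cfsg.Agent.Lib.Helper2.PMS
open Cfsg.Agent.Lib.Helper2.PMC Cfsg.Agent.Lib.Helper5.Chain Cfsg.Agent.Lib.Helper5.Srch

set_option Elab.async false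

theorem chk_old_0 : chkRange (chkOld ruModel.px 4060 pm) 0 4 = true := by decide +kernel
theorem chk_old : chkRange (chkOld ruModel.px 4060 pm) 0 4 = true :=
  chk_old_0

theorem chk_new_0 : chkRange (chkNew 4060 4 ds pm) 0 1 = true := by decide +kernel
theorem chk_new_1 : chkRange (chkNew 4060 4 ds pm) 1 2 = true := by decide +kernel
theorem chk_new_2 : chkRange (chkNew 4060 4 ds pm) 3 1 = true := by decide +kernel
theorem chk_new_3 : chkRange (chkNew 4060 4 ds pm) 4 1 = true := by decide +kernel
theorem chk_new_4 : chkRange (chkNew 4060 4 ds pm) 5 1 = true := by decide +kernel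
theorem chk_new_5 : chkRange (chkNew 4060 4 ds pm) 6 1 = true := by decide +kernel
theorem chk_new_6 : chkRange (chkNew 4060 4 ds pm) 7 2 = true := by decide +kernel
theorem chk_new_7 : chkRange (chkNew 4060 4 ds pm) 9 2 = true := by decide +kernel
theorem chk_new_8 : chkRange (chkNew 4060 4 ds pm) 11 2 = true := by decide +kernel
theorem chk_new_9 : chkRange (chkNew 4060 4 ds pm) 13 2 = true := by decide +kernel
theorem chk_new_10 : chkRange (chkNew 4060 4 ds pm) 15 1 = true := by decide +kernel
theorem chk_new_11 : chkRange (chkNew 4060 4 ds pm) 16 1 = true := by decide +kernel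
theorem chk_new_12 : chkRange (chkNew 4060 4 ds pm) 17 1 = true := by decide +kernel
theorem chk_new_13 : chkRange (chkNew 4060 4 ds pm) 18 1 = true := by decide +kernel
theorem chk_new_14 : chkRange (chkNew 4060 4 ds pm) 19 1 = true := by decide +kernel
theorem chk_new_15 : chkRange (chkNew 4060 4 ds pm) 20 1 = true := by decide +kernel
theorem chk_new_16 : chkRange (chkNew 4060 4 ds pm) 21 1 = true := by decide +kernel
theorem chk_new_17 : chkRange (chkNew 4060 4 ds pm) 22 2 = true := by decide +kernel
theorem chk_new_18 : chkRange (chkNew 4060 4 ds pm) 24 2 = true := by decide +kernel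
theorem chk_new_19 : chkRange (chkNew 4060 4 ds pm) 26 2 = true := by decide +kernel
theorem chk_new_20 : chkRange (chkNew 4060 4 ds pm) 28 2 = true := by decide +kernel
theorem chk_new_21 : chkRange (chkNew 4060 4 ds pm) 30 2 = true := by decide +kernel
theorem chk_new_22 : chkRange (chkNew 4060 4 ds pm) 32 2 = true := by decide +kernel
theorem chk_new_23 : chkRange (chkNew 4060 4 ds pm) 34 2 = true := by decide +kernel
theorem chk_new_24 : chkRange (chkNew 4060 4 ds pm) 36 2 = true := by decide +kernel
theorem chk_new : chkRange (chkNew 4060 4 ds pm) 0 38 = true :=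
  chkRange_append _ 1 0 37 chk_new_0 (chkRange_append _ 2 1 35 chk_new_1 (chkRange_append _ 1 3 34 chk_new_2 (chkRange_append _ 1 4 33 chk_new_3 (chkRange_append _ 1 5 32 chk_new_4 (chkRange_append _ 1 6 31 chk_new_5 (chkRange_append _ 2 7 29 chk_new_6 (chkRange_append _ 2 9 27 chk_new_7 (chkRange_append _ 2 11 25 chk_new_8 (chkRange_append _ 2 13 23 chk_new_9 (chkRange_append _ 1 15 22 chk_new_10 (chkRange_append _ 1 16 21 chk_new_11 (chkRange_append _ 1 17 20 chk_new_12 (chkRange_append _ 1 18 19 chk_new_13 (chkRange_append _ 1 19 18 chk_new_14 (chkRange_append _ 1 20 17 chk_new_15 (chkRange_append _ 1 21 16 chk_new_16 (chkRange_append _ 2 22 14 chk_new_17 (chkRange_append _ 2 24 12 chk_new_18 (chkRange_append _ 2 26 10 chk_new_19 (chkRange_append _ 2 28 8 chk_new_20 (chkRange_append _ 2 30 6 chk_new_21 (chkRange_append _ 2 32 4 chk_new_22 (chkRange_append _ 2 34 2 chk_new_23 (chk_new_24))))))))))))))))))))))))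

theorem chk_slp : chkSLP ruModel.px ruModel.n ruModel.nl ds pm = true :=
  chkSLP_of_pieces ruModel.px 4060 4 ds pm chk_old chk_new

/-- the model with the new letters -/
noncomputable def M : PModel := slpModel ruModel ds pm chk_slp

theorem card_G : Nat.card M.G = 145926144000 := card_ruModel

theorem M_nl : M.nl = 42 := slpModel_nl ruModel ds pm chk_slp

theorem chk_inv_0 : chkRange (chkInv1 M iv) 0 18 = true := by decide +kernel
theorem chk_inv_1 : chkRange (chkInv1 M iv) 18 18 = true := by decide +kernel
theorem chk_inv_2 : chkRange (chkInv1 M iv) 36 6 = true := by decide +kernel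
theorem chk_inv : chkRange (chkInv1 M iv) 0 42 = true :=
  chkRange_append _ 18 0 24 chk_inv_0 (chkRange_append _ 18 18 6 chk_inv_1 (chk_inv_2))

theorem invMap : InvMap M iv := invMap_of_pieces M iv chk_inv

theorem chk_lvA : chkLevels M [] lvA = true := by decide +kernel

theorem factsA : ChainFacts M lvA where
  hchk := chk_lvA
  hcard := by
    rw [card_G]
    decide +kernel

theorem chk_msA : chkMasks lvA msA = true := by decide +kernel

theorem chk_lvB : chkLevels M [] lvB = true := by decide +kernel

theorem factsB : ChainFacts M lvB where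
  hchk := chk_lvB
  hcard := by
    rw [card_G]
    decide +kernel

theorem chk_msB : chkMasks lvB msB = true := by decide +kernel

end Cfsg.Agent.Lib.Helper5.RuOut
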