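import Cfsg.Agent.Lib.Helper5.RuOut8
import Cfsg.Agent.Lib.Helper1.RuL26
import Cfsg.Agent.Lib.Helper9.OutEx1

set_option autoImplicit false

/-! # The outer automorphism group of the Rudvalis group of the definitions is trivial -/

namespace Cfsg.Agent.Lib.Helper5.RuOut

/-- the outer automorphism group of the Rudvalis group is trivial -/
theorem card_out_Ru : Nat.card (Cfsg.Out Cfsg.Spor.Ru) = 1 := by
  rw [Nat.card_congr (Cfsg.Agent.H9Out.outCongr Cfsg.Agent.Lib.Helper1.RuLat.Ru_equiv).toEquiv]
  exact card_out_RuH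

end Cfsg.Agent.Lib.Helper5.RuOut
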