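import Mathlib
import Cfsg.Agent.Lib.Helper5.S3452_Base
import Cfsg.Agent.Lib.Helper5.SL2Class
import Cfsg.Agent.Lib.Helper2.S3452_CORE

/-!
# S3452, package MTP : the non-split torus of `PSL₂(p)` and the function `f_c`

`exists_t0`, `exists_tangent`, `torus_plus` exactly as in `notes/S3452_stub.lean.txt`.
-/

set_option autoImplicit false
set_option linter.unusedSectionVars false
set_option linter.unusedVariables false

namespace Cfsg.Agent.Lib.S3452

open Matrix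

section mtp
variable (p : ℕ) [Fact p.Prime]

theorem mtp_two_ne (hp : p ≠ 2) : (2 : ZMod p) ≠ 0 := by
  intro h
  have h2 : ((2 : ℕ) : ZMod p) = 0 := by exact_mod_cast h
  rw [ZMod.natCast_eq_zero_iff] at h2
  have hp' : p.Prime := Fact.out
  exact hp ((Nat.prime_dvd_prime_iff_eq hp' Nat.prime_two).1 h2)

theorem mtp_odd (hp : p ≠ 2) : p % 2 = 1 := by
  have hp' : p.Prime := Fact.out
  rcases hp'.eq_two_or_odd with h | h
  · exact absurd h hp
  · exact h

/-- the companion matrix -/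
def mtpC (t₀ : ZMod p) : SLp p :=
  ⟨!![0, -1; 1, t₀], by rw [Matrix.det_fin_two_of]; ring⟩

theorem mtpC_coe (t₀ : ZMod p) :
    ((mtpC p t₀ : SLp p) : Matrix (Fin 2) (Fin 2) (ZMod p)) = !![0, -1; 1, t₀] := rfl

theorem mtpC_trace (t₀ : ZMod p) :
    ((mtpC p t₀ : SLp p) : Matrix (Fin 2) (Fin 2) (ZMod p)).trace = t₀ := by
  rw [mtpC_coe, Matrix.trace_fin_two_of, zero_add]

/-- an element of order `p + 1` of `SL₂(p)` has order `(p + 1) / 2` in `PSL₂(p)` -/
theorem mtp_orderOf_cls (hp : p ≠ 2) (C : SLp p) (hC : orderOf C = p + 1) :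
    2 * orderOf (cls p C) = p + 1 := by
  have h2 : (2 : ZMod p) ≠ 0 := mtp_two_ne p hp
  have hodd := mtp_odd p hp
  have hm : p + 1 = 2 * ((p + 1) / 2) := by omega
  have h1 : orderOf (cls p C) ∣ (p + 1) / 2 := by
    apply orderOf_dvd_of_pow_eq_one
    show (QuotientGroup.mk C : ProjectiveSpecialLinearGroup (Fin 2) (ZMod p)) ^ ((p + 1) / 2) = 1
    rw [Cfsg.Agent.Lib.Helper5.mk_pow_eq_one_iff_odd h2, ← hm, ← hC]
    exact pow_orderOf_eq_one C
  have h3 : (p + 1) / 2 ∣ orderOf (cls p C) := by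
    have h4 : (QuotientGroup.mk C : ProjectiveSpecialLinearGroup (Fin 2) (ZMod p)) ^
        orderOf (cls p C) = 1 := pow_orderOf_eq_one (cls p C)
    rw [Cfsg.Agent.Lib.Helper5.mk_pow_eq_one_iff_odd h2] at h4
    have h5 := orderOf_dvd_of_pow_eq_one h4
    rw [hC, hm] at h5
    exact Nat.dvd_of_mul_dvd_mul_left (by norm_num) h5
  rw [Nat.dvd_antisymm h1 h3, ← hm]

theorem exists_t0 (hp : 5 ≤ p) : ∃ t₀ : ZMod p, t₀ ≠ 0 ∧ ¬ IsSquare (t₀ ^ 2 - 4) ∧
    ∃ C : SLp p, (C : Matrix (Fin 2) (Fin 2) (ZMod p)) = !![0, -1; 1, t₀] ∧ orderOf C = p + 1 ∧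
      2 * orderOf (cls p C) = p + 1 := by
  classical
  have hp' : p.Prime := Fact.out
  have hp2 : p ≠ 2 := by omega
  have h2 : (2 : ZMod p) ≠ 0 := mtp_two_ne p hp2
  have hodd := mtp_odd p hp2
  obtain ⟨A, hA⟩ := Cfsg.Agent.Lib.Helper5.exists_orderOf_eq_card_add_one (F := ZMod p) p
  rw [ZMod.card] at hA
  set t₀ : ZMod p := (A : Matrix (Fin 2) (Fin 2) (ZMod p)).trace with ht₀
  have hCH := Cfsg.Agent.Lib.Helper5.cayley_two_sl A
  -- `t₀ ≠ 0`
  have h0 : t₀ ≠ 0 := by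
    intro h
    rw [← ht₀, h, zero_smul] at hCH
    have hAA : (A : Matrix (Fin 2) (Fin 2) (ZMod p)) * (A : Matrix (Fin 2) (Fin 2) (ZMod p)) = -1 :=
      eq_neg_of_add_eq_zero_left hCH
    have h4 : A ^ 4 = 1 := by
      apply Subtype.ext
      show (A : Matrix (Fin 2) (Fin 2) (ZMod p)) ^ 4 = 1
      have : (A : Matrix (Fin 2) (Fin 2) (ZMod p)) ^ 4 =
          ((A : Matrix (Fin 2) (Fin 2) (ZMod p)) * (A : Matrix (Fin 2) (Fin 2) (ZMod p))) *
          ((A : Matrix (Fin 2) (Fin 2) (ZMod p)) * (A : Matrix (Fin 2) (Fin 2) (ZMod p))) := by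
        noncomm_ring
      rw [this, hAA]
      simp
    have := orderOf_dvd_of_pow_eq_one h4
    rw [hA] at this
    have := Nat.le_of_dvd (by norm_num) this
    omega
  -- `t₀² - 4` is not a square
  have hns : ¬ IsSquare (t₀ ^ 2 - 4) := by
    rintro ⟨e, he⟩
    by_cases he0 : e = 0
    · have ht4 : (A : Matrix (Fin 2) (Fin 2) (ZMod p)).trace ^ 2 = 4 := by
        rw [← ht₀]
        rw [he0, mul_zero] at he
        exact sub_eq_zero.1 he
      have h1 := Cfsg.Agent.Lib.Helper5.mk_pow_char_eq_one p A ht4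
      rw [Cfsg.Agent.Lib.Helper5.mk_pow_eq_one_iff_odd h2] at h1
      have h3 := orderOf_dvd_of_pow_eq_one h1
      rw [hA] at h3
      have hcop : Nat.Coprime (p + 1) p := by simp
      have h5 : p + 1 ∣ 2 := (Nat.Coprime.dvd_mul_right hcop).1 h3
      have := Nat.le_of_dvd (by norm_num) h5
      omega
    · have hΔ : (A : Matrix (Fin 2) (Fin 2) (ZMod p)).trace ^ 2 -
          4 * (A : Matrix (Fin 2) (Fin 2) (ZMod p)).det = e ^ 2 := by
        rw [A.det_coe, mul_one, ← ht₀, he, pow_two]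
      have h1 := core_split (F := ZMod p) p hp2 (A : Matrix (Fin 2) (Fin 2) (ZMod p)) e he0 hΔ
      rw [ZMod.card] at h1
      have h3 : A ^ p = A := by
        apply Subtype.ext
        exact h1
      have h4 : A ^ (p - 1) = 1 := by
        have : A ^ (p - 1) * A = 1 * A := by
          rw [← pow_succ, one_mul, Nat.sub_add_cancel hp'.one_le, h3]
        exact mul_right_cancel this
      have h5 := orderOf_dvd_of_pow_eq_one h4
      rw [hA] at h5
      have := Nat.le_of_dvd (by omega) h5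
      omega
  refine ⟨t₀, h0, hns, mtpC p t₀, mtpC_coe p t₀, ?_, ?_⟩
  · -- conjugate to `A`
    have ht4 : (A : Matrix (Fin 2) (Fin 2) (ZMod p)).trace ^ 2 ≠ 4 := by
      intro h
      apply hns
      rw [← ht₀] at h
      rw [h, sub_self]
      exact ⟨0, by ring⟩
    have hconj := Cfsg.Agent.Lib.Helper5.isConj_of_trace_eq A (mtpC p t₀)
      (by rw [mtpC_trace]) ht4
    obtain ⟨c, hc⟩ := hconj
    rw [← hA]
    exact (SemiconjBy.orderOf_eq _ hc).symm
  · -- the order in `PSL₂(p)`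
    have hC : orderOf (mtpC p t₀) = p + 1 := by
      have ht4 : (A : Matrix (Fin 2) (Fin 2) (ZMod p)).trace ^ 2 ≠ 4 := by
        intro h
        apply hns
        rw [← ht₀] at h
        rw [h, sub_self]
        exact ⟨0, by ring⟩
      have hconj := Cfsg.Agent.Lib.Helper5.isConj_of_trace_eq A (mtpC p t₀)
        (by rw [mtpC_trace]) ht4
      obtain ⟨c, hc⟩ := hconj
      rw [← hA]
      exact (SemiconjBy.orderOf_eq _ hc).symm
    exact mtp_orderOf_cls p hp2 (mtpC p t₀) hC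

/-- some `1 + y²` is a non-square (otherwise every element of `ZMod p` is a square) -/
theorem mtp_exists_nonsquare (δ : ZMod p) (hδ : ¬ IsSquare δ) :
    ∃ y : ZMod p, ¬ IsSquare (1 + y ^ 2) := by
  by_contra hcon
  push Not at hcon
  apply hδ
  have hall : ∀ n : ℕ, IsSquare ((n : ℕ) : ZMod p) := by
    intro n
    induction n with
    | zero => exact ⟨0, by simp⟩
    | succ n ih =>
      obtain ⟨y, hy⟩ := ih
      have := hcon y
      rw [pow_two, ← hy, add_comm] at this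
      rw [Nat.cast_succ]
      exact this
  have := hall δ.val
  rwa [ZMod.natCast_zmod_val] at this

/-- the product of two non-squares is a square -/
theorem mtp_isSquare_mul (hp : p ≠ 2) (a b : ZMod p) (ha : ¬ IsSquare a) (hb : ¬ IsSquare b) :
    IsSquare (a * b) := by
  classical
  have ha0 : a ≠ 0 := by
    rintro rfl
    exact ha ⟨0, by ring⟩
  have hb0 : b ≠ 0 := by
    rintro rfl
    exact hb ⟨0, by ring⟩
  rw [← quadraticChar_one_iff_isSquare (mul_ne_zero ha0 hb0), map_mul,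
    quadraticChar_neg_one_iff_not_isSquare.2 ha, quadraticChar_neg_one_iff_not_isSquare.2 hb]
  norm_num

theorem exists_tangent (hp : p ≠ 2) (t₀ : ZMod p) (hns : ¬ IsSquare (t₀ ^ 2 - 4)) :
    ∃ B : SLp p, (B : Matrix (Fin 2) (Fin 2) (ZMod p)).trace = t₀ ∧
      ((!![0, -1; 1, t₀] : Matrix (Fin 2) (Fin 2) (ZMod p)) * (B : Matrix (Fin 2) (Fin 2) (ZMod p))).trace =
        t₀ ^ 2 / 2 := by
  have h2 : (2 : ZMod p) ≠ 0 := mtp_two_ne p hp
  obtain ⟨y, hy⟩ := mtp_exists_nonsquare p _ hns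
  obtain ⟨s, hs⟩ := mtp_isSquare_mul p hp _ _ hns hy
  set y₁ : ZMod p := s / 2 - t₀ * y / 2 with hy₁
  have h2y₁ : 2 * y₁ = s - t₀ * y := by
    rw [hy₁]
    field_simp
  refine ⟨⟨!![t₀ / 2 + y₁, y + t₀ * y₁; y, t₀ / 2 - y₁], ?_⟩, ?_, ?_⟩
  · rw [Matrix.det_fin_two_of]
    have h4 : (4 : ZMod p) ≠ 0 := by
      have : (4 : ZMod p) = 2 * 2 := by norm_num
      rw [this]
      exact mul_ne_zero h2 h2
    have e1 : 4 * ((t₀ / 2 + y₁) * (t₀ / 2 - y₁) - (y + t₀ * y₁) * y) = 4 * 1 := by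
      have e2 : (2 : ZMod p) * (t₀ / 2) = t₀ := by field_simp
      have : 4 * ((t₀ / 2 + y₁) * (t₀ / 2 - y₁) - (y + t₀ * y₁) * y) =
          (2 * (t₀ / 2)) ^ 2 - (2 * y₁) ^ 2 - 4 * y ^ 2 - 2 * t₀ * y * (2 * y₁) := by ring
      rw [this, e2, h2y₁]
      linear_combination hs
    exact mul_left_cancel₀ h4 e1
  · show (!![t₀ / 2 + y₁, y + t₀ * y₁; y, t₀ / 2 - y₁] : Matrix (Fin 2) (Fin 2) (ZMod p)).trace = t₀
    rw [Matrix.trace_fin_two_of]
    have e2 : (2 : ZMod p) * (t₀ / 2) = t₀ := by field_simp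
    linear_combination e2
  · show ((!![0, -1; 1, t₀] : Matrix (Fin 2) (Fin 2) (ZMod p)) *
      (!![t₀ / 2 + y₁, y + t₀ * y₁; y, t₀ / 2 - y₁] : Matrix (Fin 2) (Fin 2) (ZMod p))).trace = t₀ ^ 2 / 2
    rw [Matrix.trace_fin_two]
    simp only [Matrix.mul_apply, Fin.sum_univ_two, Matrix.of_apply, Matrix.cons_val_zero,
      Matrix.cons_val_one, Matrix.cons_val', Matrix.cons_val_fin_one]
    field_simp
    ring

/-- powers of a matrix with `D² = t • D - 1` lie in the span of `1` and `D` -/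
theorem mtp_pow_span (D : Matrix (Fin 2) (Fin 2) (ZMod p)) (t : ZMod p) (hD : D * D = t • D - 1)
    (n : ℕ) : ∃ α β : ZMod p, D ^ n = α • (1 : Matrix (Fin 2) (Fin 2) (ZMod p)) + β • D := by
  induction n with
  | zero => exact ⟨1, 0, by simp⟩
  | succ n ih =>
    obtain ⟨α, β, h⟩ := ih
    refine ⟨-β, α + β * t, ?_⟩
    rw [pow_succ, h, add_mul, smul_mul_assoc, one_mul, smul_mul_assoc, hD, smul_sub, smul_smul,
      add_smul, neg_smul]
    abel

theorem mtp_trace_pow_mul (h2 : (2 : ZMod p) ≠ 0) (D B : Matrix (Fin 2) (Fin 2) (ZMod p)) (t : ZMod p)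
    (hD : D * D = t • D - 1) (htD : D.trace = t) (hB : B.trace = t)
    (hDB : (D * B).trace = t ^ 2 / 2) (n : ℕ) :
    (D ^ n * B).trace = t / 2 * (D ^ n).trace := by
  obtain ⟨α, β, h⟩ := mtp_pow_span p D t hD n
  rw [h, add_mul, smul_mul_assoc, one_mul, smul_mul_assoc, Matrix.trace_add, Matrix.trace_add,
    Matrix.trace_smul, Matrix.trace_smul, Matrix.trace_smul, Matrix.trace_smul, hB, hDB, htD,
    Matrix.trace_one, Fintype.card_fin]
  simp only [smul_eq_mul]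
  push_cast
  field_simp

theorem torus_plus (hp : 5 ≤ p) : ∃ (g : PSL p) (t₀ : ZMod p), t₀ ≠ 0 ∧ ¬ IsSquare (t₀ ^ 2 - 4) ∧
    (∃ x : PSL p, trsq p x = t₀ ^ 2) ∧ 2 * orderOf g = p + 1 ∧
    ∀ (k : ℕ) (j₀ : Fin k),
      (∑ i ∈ Finset.range (orderOf g), transl p k (g ^ i) (fc p k (t₀ ^ 2) j₀)) ≠ 0 := by
  have hp' : p.Prime := Fact.out
  have hp2 : p ≠ 2 := by omega
  have h2 : (2 : ZMod p) ≠ 0 := mtp_two_ne p hp2
  obtain ⟨t₀, h0, hns, C, hCm, hCo, hCc⟩ := exists_t0 p hp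
  obtain ⟨B, hBt, hCB⟩ := exists_tangent p hp2 t₀ hns
  have hCt : (C : Matrix (Fin 2) (Fin 2) (ZMod p)).trace = t₀ := by
    rw [hCm, Matrix.trace_fin_two_of, zero_add]
  have hCC : (C : Matrix (Fin 2) (Fin 2) (ZMod p)) * (C : Matrix (Fin 2) (Fin 2) (ZMod p)) =
      t₀ • (C : Matrix (Fin 2) (Fin 2) (ZMod p)) - 1 := by
    have := Cfsg.Agent.Lib.Helper5.cayley_two_sl C
    rw [hCt] at this
    rw [← this]
    abel
  rw [← hCm] at hCB
  have ho : orderOf (cls p C)⁻¹ = orderOf (cls p C) := orderOf_inv _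
  refine ⟨(cls p C)⁻¹, t₀, h0, hns, ⟨cls p C, ?_⟩, ?_, ?_⟩
  · rw [trsq_cls, hCt]
  · rw [ho]; exact hCc
  intro k j₀ hsum
  rw [ho] at hsum
  set m := orderOf (cls p C) with hm
  have hmpos : 0 < m := by omega
  have hval := congrFun hsum (j₀, cls p B)
  rw [Finset.sum_apply] at hval
  have hterm : ∀ i : ℕ, transl p k ((cls p C)⁻¹ ^ i) (fc p k (t₀ ^ 2) j₀) (j₀, cls p B) =
      if (t₀ / 2 * ((C : Matrix (Fin 2) (Fin 2) (ZMod p)) ^ i).trace) ^ 2 = t₀ ^ 2 then 1 else 0 := by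
    intro i
    rw [transl_apply, fc_apply]
    have e1 : ((cls p C)⁻¹ ^ i)⁻¹ * cls p B = cls p (C ^ i * B) := by
      rw [inv_pow, inv_inv]
      rfl
    have e2 : ((C ^ i * B : SLp p) : Matrix (Fin 2) (Fin 2) (ZMod p)) =
        (C : Matrix (Fin 2) (Fin 2) (ZMod p)) ^ i * (B : Matrix (Fin 2) (Fin 2) (ZMod p)) := rfl
    show (if j₀ = j₀ ∧ trsq p (((cls p C)⁻¹ ^ i)⁻¹ * cls p B) = t₀ ^ 2 then (1 : ZMod 2) else 0) = _
    rw [e1, trsq_cls, e2, mtp_trace_pow_mul p h2 _ _ t₀ hCC hCt hBt hCB i]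
    simp
  have hsum1 : ∑ i ∈ Finset.range m,
      transl p k ((cls p C)⁻¹ ^ i) (fc p k (t₀ ^ 2) j₀) (j₀, cls p B) = 1 := by
    rw [Finset.sum_eq_single 0]
    · rw [hterm 0, pow_zero, Matrix.trace_one, Fintype.card_fin]
      have : (t₀ / 2 * ((2 : ℕ) : ZMod p)) ^ 2 = t₀ ^ 2 := by
        push_cast
        rw [div_mul_cancel₀ _ h2]
      rw [if_pos this]
    · intro i hi hi0
      rw [hterm i, if_neg]
      intro h
      have h4 : (((C ^ i : SLp p) : Matrix (Fin 2) (Fin 2) (ZMod p))).trace ^ 2 = 4 := by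
        show ((C : Matrix (Fin 2) (Fin 2) (ZMod p)) ^ i).trace ^ 2 = 4
        have h02 : t₀ ^ 2 ≠ 0 := pow_ne_zero 2 h0
        have e : t₀ ^ 2 * ((C : Matrix (Fin 2) (Fin 2) (ZMod p)) ^ i).trace ^ 2 = t₀ ^ 2 * 4 := by
          have e3 : (2 : ZMod p) * (t₀ / 2) = t₀ := by field_simp
          have : t₀ ^ 2 * ((C : Matrix (Fin 2) (Fin 2) (ZMod p)) ^ i).trace ^ 2 =
              4 * (t₀ / 2 * ((C : Matrix (Fin 2) (Fin 2) (ZMod p)) ^ i).trace) ^ 2 := by
            rw [mul_pow, ← mul_assoc]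
            congr 1
            rw [← e3]
            field_simp
            ring
          rw [this, h]
          ring
        exact mul_left_cancel₀ h02 e
      have h5 := Cfsg.Agent.Lib.Helper5.mk_pow_char_eq_one p (C ^ i) h4
      have h6 : (cls p C) ^ (i * p) = 1 := by
        rw [pow_mul]
        exact h5
      have h7 : m ∣ i * p := orderOf_dvd_of_pow_eq_one h6
      have hcop : Nat.Coprime m p := by
        have h8 : Nat.Coprime (p + 1) p := by simp
        exact Nat.Coprime.coprime_dvd_left ⟨2, by rw [mul_comm]; exact hCc.symm⟩ h8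
      have h9 : m ∣ i := (Nat.Coprime.dvd_mul_right hcop).1 h7
      have := Nat.le_of_dvd (Nat.pos_of_ne_zero hi0) h9
      have := Finset.mem_range.1 hi
      omega
    · intro h
      exact absurd (Finset.mem_range.2 hmpos) h
  rw [hsum1] at hval
  have h10 : (1 : ZMod 2) ≠ 0 := by decide
  exact h10 hval

end mtp

end Cfsg.Agent.Lib.S3452
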