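import Mathlib
import Cfsg.Agent.Lib.Helper5.S3452_Base
import Cfsg.Agent.Lib.Helper9.S3452_SDP
import Cfsg.Agent.Lib.Helper2.S3452_MORD
import Cfsg.Agent.Lib.Helper2.S3452_MFPF
import Cfsg.Agent.Lib.Helper3.S3452_MFC
import Cfsg.Agent.Lib.Helper4.S3452_MTM
import Cfsg.Agent.Lib.Helper5.S3452_MTP

/-! # S3452 : assembly of the case `p ≥ 5` -/

set_option autoImplicit false
set_option linter.unusedSectionVars false
set_option linter.style.haveILetI false

namespace Cfsg.Agent.Lib.S3452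

open Matrix

theorem masm_exists_orderOf_eq_of_dvd {G : Type*} [Group G] (x : G) (hx : 0 < orderOf x) (d : ℕ)
    (hd : d ∣ orderOf x) : ∃ y : G, orderOf y = d := by
  obtain ⟨e, he⟩ := hd
  have he0 : e ≠ 0 := by
    rintro rfl
    rw [mul_zero] at he
    omega
  have hd0 : 0 < d := by
    rcases Nat.eq_zero_or_pos d with h | h
    · rw [h, zero_mul] at he; omega
    · exact h
  refine ⟨x ^ e, ?_⟩
  rw [orderOf_pow_of_dvd he0 ⟨d, by rw [he, mul_comm]⟩, he, Nat.mul_div_cancel _ (Nat.pos_of_ne_zero he0)]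

variable (p : ℕ) [Fact p.Prime]

theorem masm_orderOf_mem (hp : p ≠ 2) (k : ℕ) (x : HK p k) :
    orderOf x ∣ p - 1 ∨ orderOf x ∣ p + 1 ∨ orderOf x = p := by
  rcases psl_orderOf_cases p hp x.right with h | h | h
  · right; right
    rw [sdp_orderOf_of_fpf (phi p k) x (VK_fpf p hp k x.right h), h]
  · left
    exact (sdp_orderOf_dvd (phi p k) 2 (sq_eq_one p k) x).trans h
  · right; left
    exact (sdp_orderOf_dvd (phi p k) 2 (sq_eq_one p k) x).trans h

theorem masm_exists_double (k : ℕ) (g : PSL p) (hg : 0 < orderOf g) (f : Fn p k) (hf : f ∈ VK p k)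
    (hne : (∑ i ∈ Finset.range (orderOf g), transl p k (g ^ i) f) ≠ 0) :
    ∃ x : HK p k, orderOf x = 2 * orderOf g := by
  refine ⟨⟨Multiplicative.ofAdd ⟨f, hf⟩, g⟩, ?_⟩
  apply sdp_orderOf_of_norm_ne_one (phi p k) 2 Nat.prime_two (sq_eq_one p k) _ g hg
  intro h1
  apply hne
  have h2 := toAdd_prod_phi p k g ⟨f, hf⟩ (orderOf g)
  rw [h1] at h2
  rw [← h2]
  rfl

theorem main_ge_five (hp : 5 ≤ p) (N₀ : ℕ) : ∃ (H : Type) (_ : Group H) (_ : Fintype H),
    N₀ < Fintype.card H ∧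
    Set.range (orderOf : H → ℕ) = {d | d ∣ p - 1 ∨ d ∣ p + 1 ∨ d = p} := by
  classical
  have hp2 : p ≠ 2 := by omega
  obtain ⟨gm, hgm, hgmN⟩ := torus_minus p hp
  obtain ⟨gp, t₀, ht0, hns, hx, hgp, hgpN⟩ := torus_plus p hp
  obtain ⟨g0, hg0⟩ := psl_exists_orderOf_p p
  have hmem : ∀ (k : ℕ) (j₀ : Fin k), fc p k (t₀ ^ 2) j₀ ∈ VK p k :=
    fun k j₀ => fc_mem p hp2 k t₀ ht0 hns j₀
  have hcard : 2 ^ (N₀ + 1) ≤ Nat.card (VK p (N₀ + 1)) :=
    two_pow_le_card_VK p (N₀ + 1) (t₀ ^ 2) (hmem (N₀ + 1)) hx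
  haveI : Finite (PSL p) := by
    haveI : Finite (SLp p) := Finite.of_injective
      (fun A : SLp p => (A : Matrix (Fin 2) (Fin 2) (ZMod p))) (fun A B h => Subtype.ext h)
    exact Finite.of_surjective (cls p) (cls_surjective p)
  haveI : Finite (VK p (N₀ + 1)) := Finite.of_injective (fun f : VK p (N₀ + 1) => f.1)
    (fun a b h => Subtype.ext h)
  haveI : Finite (HK p (N₀ + 1)) := Finite.of_equiv _ SemidirectProduct.equivProd.symm
  refine ⟨HK p (N₀ + 1), inferInstance, Fintype.ofFinite (HK p (N₀ + 1)), ?_, ?_⟩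
  · rw [@Fintype.card_eq_nat_card _ (Fintype.ofFinite (HK p (N₀ + 1))), Nat.card_congr SemidirectProduct.equivProd, Nat.card_prod]
    have h1 : Nat.card (Multiplicative (VK p (N₀ + 1))) = Nat.card (VK p (N₀ + 1)) :=
      Nat.card_congr Multiplicative.toAdd
    have h2 : 0 < Nat.card (PSL p) := Nat.card_pos
    have h3 : N₀ < 2 ^ (N₀ + 1) := by
      calc N₀ < 2 ^ N₀ := Nat.lt_two_pow_self
        _ ≤ 2 ^ (N₀ + 1) := Nat.pow_le_pow_right (by norm_num) (by omega)
    rw [h1]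
    calc N₀ < 2 ^ (N₀ + 1) := h3
      _ ≤ Nat.card (VK p (N₀ + 1)) := hcard
      _ = Nat.card (VK p (N₀ + 1)) * 1 := (mul_one _).symm
      _ ≤ Nat.card (VK p (N₀ + 1)) * Nat.card (PSL p) := Nat.mul_le_mul_left _ h2
  · apply Set.eq_of_subset_of_subset
    · rintro d ⟨x, rfl⟩
      exact masm_orderOf_mem p hp2 (N₀ + 1) x
    · intro d hd
      have hgm0 : 0 < orderOf gm := by
        rcases Nat.eq_zero_or_pos (orderOf gm) with h | h
        · rw [h] at hgm; omega
        · exact h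
      have hgp0 : 0 < orderOf gp := by
        rcases Nat.eq_zero_or_pos (orderOf gp) with h | h
        · rw [h] at hgp; omega
        · exact h
      rcases hd with hd | hd | hd
      · obtain ⟨x, hx⟩ := masm_exists_double p (N₀ + 1) gm hgm0 _ (hmem (N₀ + 1) 0)
          (hgmN (N₀ + 1) 0 t₀ ht0)
        rw [hgm] at hx
        exact masm_exists_orderOf_eq_of_dvd x (by rw [hx]; omega) d (by rw [hx]; exact hd)
      · obtain ⟨x, hx⟩ := masm_exists_double p (N₀ + 1) gp hgp0 _ (hmem (N₀ + 1) 0)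
          (hgpN (N₀ + 1) 0)
        rw [hgp] at hx
        exact masm_exists_orderOf_eq_of_dvd x (by rw [hx]; omega) d (by rw [hx]; exact hd)
      · refine ⟨SemidirectProduct.inr g0, ?_⟩
        show orderOf (SemidirectProduct.inr g0 : HK p (N₀ + 1)) = d
        rw [orderOf_injective (SemidirectProduct.inr : PSL p →* HK p (N₀ + 1))
          SemidirectProduct.inr_injective, hg0, hd]

end Cfsg.Agent.Lib.S3452
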