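import Mathlib
import Cfsg.Agent.Lib.Helper5.S3452_MASM
import Cfsg.Agent.Lib.Helper2.S3452_PGLA1
import Cfsg.Agent.Lib.Helper4.S3452_PGLA2
import Cfsg.Agent.Lib.Helper6.S3452_PGLA3
import Cfsg.Agent.Lib.Helper9.S3452_FROB23
import Cfsg.Agent.Lib.Helper7.S3452_FROB9

/-! # S3452 : spectrum of `PGL₂(F)` (assembly) and the final case distinction -/

set_option autoImplicit false
set_option linter.unusedSectionVars false
set_option linter.style.haveILetI false

namespace Cfsg.Agent.Lib.S3452

open Matrix

section pgl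
variable {F : Type*} [Field F] [Fintype F] (p : ℕ) [Fact p.Prime] [CharP F p]

theorem range_orderOf_pgl2 (h : p ≠ 2 ∨ Fintype.card F = 2) :
    Set.range (orderOf : GL (Fin 2) F ⧸ Subgroup.center (GL (Fin 2) F) → ℕ) =
      {d | d ∣ Fintype.card F - 1 ∨ d ∣ Fintype.card F + 1 ∨ d = p} := by
  have hpp : p.Prime := Fact.out
  have hq : 2 ≤ Fintype.card F := Fintype.one_lt_card
  obtain ⟨⟨x1, hx1⟩, ⟨x2, hx2⟩, ⟨x3, hx3⟩⟩ := pgl2_exists_orderOf (F := F) p
  apply Set.eq_of_subset_of_subset
  · rintro d ⟨x, rfl⟩
    by_cases hp2 : p ≠ 2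
    · rcases pgl2_orderOf_dvd p hp2 x with h1 | h1 | h1
      · exact Or.inl h1
      · exact Or.inr (Or.inl h1)
      · rcases (Nat.dvd_prime hpp).1 h1 with h2 | h2
        · left; rw [h2]; exact one_dvd _
        · exact Or.inr (Or.inr h2)
    · push Not at hp2
      have hF2 : Fintype.card F = 2 := by
        rcases h with h | h
        · exact absurd hp2 h
        · exact h
      rcases pgl2_orderOf_dvd_two hF2 x with h1 | h1
      · rcases (Nat.dvd_prime Nat.prime_two).1 h1 with h2 | h2
        · left; rw [h2]; exact one_dvd _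
        · right; right; rw [h2, hp2]
      · right; left; rw [hF2]; exact h1
  · rintro d (hd | hd | hd)
    · exact masm_exists_orderOf_eq_of_dvd x1 (by rw [hx1]; omega) d (by rw [hx1]; exact hd)
    · exact masm_exists_orderOf_eq_of_dvd x2 (by rw [hx2]; omega) d (by rw [hx2]; exact hd)
    · exact ⟨x3, by rw [hx3, hd]⟩

end pgl

theorem final {F : Type*} [Field F] [Fintype F]
    (hF : (Fintype.card F).Prime ∨ Fintype.card F = 9) (N : ℕ) :
    ∃ (H : Type) (_ : Group H) (_ : Fintype H), N < Fintype.card H ∧
      Set.range (orderOf : H → ℕ) =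
        Set.range (orderOf : Matrix.GeneralLinearGroup (Fin 2) F ⧸
          Subgroup.center (Matrix.GeneralLinearGroup (Fin 2) F) → ℕ) := by
  obtain ⟨p, hchar⟩ := CharP.exists F
  haveI := hchar
  have hpp : p.Prime := by
    rcases CharP.char_is_prime_or_zero F p with h | h
    · exact h
    · exfalso
      subst h
      haveI : CharZero F := CharP.charP_to_charZero F
      exact not_finite F
  haveI : Fact p.Prime := ⟨hpp⟩
  obtain ⟨n, hn⟩ := FiniteField.card F p
  rcases hF with hF | hF
  · -- prime order
    have hq : Fintype.card F = p := by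
      rw [hn.2] at hF ⊢
      have h1 := (Nat.Prime.pow_eq_iff hF).1 (rfl : p ^ (n : ℕ) = p ^ (n : ℕ))
      rw [h1.2, pow_one]
    have hcond : p ≠ 2 ∨ Fintype.card F = 2 := by
      by_cases h2 : p = 2
      · right; rw [hq, h2]
      · left; exact h2
    rw [range_orderOf_pgl2 p hcond, hq]
    by_cases h5 : 5 ≤ p
    · exact main_ge_five p h5 N
    · have hp23 : p = 2 ∨ p = 3 := by
        have h2 := hpp.two_le
        interval_cases p
        · left; rfl
        · right; rfl
        · exact absurd hpp (by decide)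
      rcases hp23 with rfl | rfl
      · exact frob_two N
      · exact frob_three N
  · -- order nine
    have hp3 : p = 3 := by
      have h1 : p ∣ 9 := by
        rw [← hF, hn.2]
        exact dvd_pow_self p n.ne_zero
      have h2 : p ∣ 3 := by
        have : (9 : ℕ) = 3 ^ 2 := by norm_num
        rw [this] at h1
        exact hpp.dvd_of_dvd_pow h1
      exact (Nat.prime_dvd_prime_iff_eq hpp Nat.prime_three).1 h2
    subst hp3
    rw [range_orderOf_pgl2 3 (Or.inl (by norm_num)), hF]
    exact frob_nine N

end Cfsg.Agent.Lib.S3452
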