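import Mathlib
import Cfsg.Agent.Lib.Helper5.S3452_Base

/-! # S3452, package MFPF : elements of order `p` act fixed-point-freely on `V_k` -/

set_option autoImplicit false
set_option linter.unusedSectionVars false

namespace Cfsg.Agent.Lib.S3452

open Matrix

variable (p : ℕ) [Fact p.Prime]

theorem mfpf_natCast_eq_one (hp : p ≠ 2) : ((p : ℕ) : ZMod 2) = 1 := by
  have hpp : p.Prime := Fact.out
  have hodd : p % 2 = 1 := by
    rcases hpp.eq_two_or_odd with h | h
    · exact absurd h hp
    · exact h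
  have h1 : ((p : ℕ) : ZMod 2) = ((p % 2 : ℕ) : ZMod 2) := by
    rw [ZMod.natCast_mod]
  rw [h1, hodd, Nat.cast_one]

theorem VK_fpf_of_unip (hp : p ≠ 2) (k : ℕ) (A : SLp p) (hA : A ≠ 1)
    (hA2 : ((A : Matrix (Fin 2) (Fin 2) (ZMod p)) - 1) ^ 2 = 0) (f : Fn p k) (hf : f ∈ VK p k)
    (hfix : transl p k (cls p A) f = f) : f = 0 := by
  have h1 : ∀ (j : Fin k) (h : PSL p), f (j, (cls p A)⁻¹ * h) = f (j, h) := by
    intro j h
    have := congrFun hfix (j, h)
    rwa [transl_apply] at this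
  have h2 : ∀ (i : ℕ) (j : Fin k) (h : PSL p), f (j, cls p A ^ i * h) = f (j, h) := by
    intro i
    induction i with
    | zero => intro j h; rw [pow_zero, one_mul]
    | succ i ih =>
      intro j h
      have e := h1 j (cls p A ^ (i + 1) * h)
      rw [← e]
      have e2 : (cls p A)⁻¹ * (cls p A ^ (i + 1) * h) = cls p A ^ i * h := by
        rw [pow_succ']
        group
      rw [e2, ih]
  funext x
  obtain ⟨j, h⟩ := x
  have h3 := hf A hA hA2 j h
  rw [Finset.sum_congr rfl (fun i _ => h2 i j h), Finset.sum_const, Finset.card_range, nsmul_eq_mul,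
    mfpf_natCast_eq_one p hp, one_mul] at h3
  exact h3

theorem VK_fpf_of_unip_exists (hp : p ≠ 2) (k : ℕ) (g : PSL p)
    (hg : ∃ A : SLp p, A ≠ 1 ∧ ((A : Matrix (Fin 2) (Fin 2) (ZMod p)) - 1) ^ 2 = 0 ∧ cls p A = g)
    (z : Multiplicative (VK p k)) (hz : phi p k g z = z) : z = 1 := by
  obtain ⟨A, hA, hA2, rfl⟩ := hg
  have h1 : translV p k (cls p A) (Multiplicative.toAdd z) = Multiplicative.toAdd z :=
    congrArg Multiplicative.toAdd hz
  have h2 : transl p k (cls p A) (Multiplicative.toAdd z).1 = (Multiplicative.toAdd z).1 :=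
    congrArg Subtype.val h1
  have h3 := VK_fpf_of_unip p hp k A hA hA2 _ (Multiplicative.toAdd z).2 h2
  apply Multiplicative.toAdd.injective
  apply Subtype.ext
  exact h3

end Cfsg.Agent.Lib.S3452
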