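import Mathlib

/-!
# S3571 swarm, package PRIM (helper5)

A transitive subgroup of `Perm (Fin m)` containing a cycle of prime length `p` with `m < 2 p`
is primitive.  Statement exactly as in `notes/S3571_stub.lean.txt`.
-/

set_option autoImplicit false

namespace Cfsg.Agent.Lib.Helper5.S3571P

open Equiv MulAction
open scoped Pointwise

/-- core: a block through a moved point of a prime cycle `c`, of size `< p`, is a singleton -/
theorem block_subsingleton_of_prime_cycle {m : ℕ} (H : Subgroup (Perm (Fin m)))
    (c : Perm (Fin m)) (hcH : c ∈ H) (hc : c.IsCycle) (hp : c.support.card.Prime)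
    (B : Set (Fin m)) (hB : IsBlock H B) (y : Fin m) (hyB : y ∈ B) (hy : c y ≠ y)
    (hlt : B.ncard < c.support.card) : B.Subsingleton := by
  classical
  by_contra hns
  rw [Set.not_subsingleton_iff] at hns
  set cH : H := ⟨c, hcH⟩ with hcHdef
  have hord : orderOf c = c.support.card := hc.orderOf
  have hordH : orderOf cH = c.support.card := by
    rw [← hord]; exact Subgroup.orderOf_mk c hcH
  have hsm : ∀ (i : ℕ) (z : Fin m), (cH ^ i) • z = (c ^ i) z := by
    intro i z; rfl
  -- Step 2: `cH • B ≠ B`
  have hne : cH • B ≠ B := by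
    intro hfix
    have hmem : cH ∈ stabilizer H B := mem_stabilizer_iff.2 hfix
    have hall : ∀ i : ℕ, (c ^ i) y ∈ B := by
      intro i
      have h1 : cH ^ i ∈ stabilizer H B := pow_mem hmem i
      have h2 : (cH ^ i) • B = B := mem_stabilizer_iff.1 h1
      have h3 : (cH ^ i) • y ∈ (cH ^ i) • B := Set.smul_mem_smul_set hyB
      rw [h2, hsm] at h3; exact h3
    have hsub : (c.support : Set (Fin m)) ⊆ B := by
      intro z hz
      have hz' : c z ≠ z := by simpa using hz
      obtain ⟨i, hi⟩ := hc.exists_pow_eq hy hz'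
      rw [← hi]; exact hall i
    have hfin : B.Finite := Set.toFinite B
    have := Set.ncard_le_ncard hsub hfin
    rw [Set.ncard_coe_finset] at this
    omega
  -- Step 3: a second point
  obtain ⟨y', hy'B, hy'ne⟩ := hns.exists_ne y
  by_cases hfy : c y' = y'
  · -- `y'` fixed by `c`
    have h3 : cH • y' ∈ cH • B := Set.smul_mem_smul_set hy'B
    have h4 : cH • y' = y' := hfy
    rw [h4] at h3
    rcases hB.smul_eq_or_disjoint cH with h | h
    · exact hne h
    · exact (Set.disjoint_left.1 h h3) hy'B
  · -- `y'` in the cycle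
    obtain ⟨i, hi⟩ := hc.exists_pow_eq hy hfy
    have h3 : (cH ^ i) • y ∈ (cH ^ i) • B := Set.smul_mem_smul_set hyB
    rw [hsm, hi] at h3
    have hstab : cH ^ i ∈ stabilizer H B := by
      rcases hB.smul_eq_or_disjoint (cH ^ i) with h | h
      · exact mem_stabilizer_iff.2 h
      · exact absurd hy'B (Set.disjoint_left.1 h h3)
    -- `p ∤ i`
    have hndvd : ¬ c.support.card ∣ i := by
      intro hdvd
      have : c ^ i = 1 := by
        rw [← hord] at hdvd; exact orderOf_dvd_iff_pow_eq_one.1 hdvd
      rw [this] at hi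
      exact hy'ne hi.symm
    have hcop : Nat.Coprime i c.support.card :=
      ((Nat.Prime.coprime_iff_not_dvd hp).2 hndvd).symm
    obtain ⟨j, -, hj⟩ := Nat.exists_mul_mod_eq_one_of_coprime hcop hp.one_lt
    have hpow : (cH ^ i) ^ j = cH := by
      rw [← pow_mul, ← pow_mod_orderOf, hordH, hj, pow_one]
    have : cH ∈ stabilizer H B := by
      rw [← hpow]; exact pow_mem hstab j
    exact hne (mem_stabilizer_iff.1 this)

end Cfsg.Agent.Lib.Helper5.S3571P

namespace Cfsg.Agent.Lib.S3571

open Equiv MulAction
open scoped Pointwise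

/-- PRIM: transitive + a cycle of prime length `p` with `m < 2 p` ⇒ primitive. -/
theorem isPreprimitive_of_prime_cycle_mem {m : ℕ} (H : Subgroup (Perm (Fin m)))
    (htr : MulAction.IsPretransitive H (Fin m)) (c : Perm (Fin m)) (hcH : c ∈ H)
    (hc : c.IsCycle) (hp : c.support.card.Prime) (h2 : m < 2 * c.support.card) :
    MulAction.IsPreprimitive H (Fin m) := by
  classical
  have := htr
  refine ⟨fun {B} hB => ?_⟩
  by_contra hnt
  rw [IsTrivialBlock, not_or] at hnt
  obtain ⟨hns, hnu⟩ := hnt
  have hBne : B.Nonempty := by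
    rcases Set.eq_empty_or_nonempty B with h | h
    · exact absurd (h ▸ Set.subsingleton_empty) hns
    · exact h
  have hcard : 2 * B.ncard ≤ m := by
    by_contra h
    push Not at h
    apply hnu
    apply hB.eq_univ_of_card_lt
    rw [Nat.card_eq_fintype_card, Fintype.card_fin]
    omega
  have hlt : B.ncard < c.support.card := by omega
  -- a point moved by `c`
  have hsne : c.support.Nonempty := by
    rw [← Finset.card_pos]; exact hp.pos
  obtain ⟨y, hy⟩ := hsne
  have hy' : c y ≠ y := by simpa using hy
  obtain ⟨b, hb⟩ := hBne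
  obtain ⟨g, hg⟩ := MulAction.exists_smul_eq H b y
  have hB' : IsBlock H (g • B) := hB.translate g
  have hyB' : y ∈ g • B := by rw [← hg]; exact Set.smul_mem_smul_set hb
  have hcard' : (g • B).ncard = B.ncard := Set.ncard_smul_set g B
  have := Cfsg.Agent.Lib.Helper5.S3571P.block_subsingleton_of_prime_cycle H c hcH hc hp
    (g • B) hB' y hyB' hy' (by rw [hcard']; exact hlt)
  apply hns
  intro u hu v hv
  have hu' : g • u ∈ g • B := Set.smul_mem_smul_set hu
  have hv' : g • v ∈ g • B := Set.smul_mem_smul_set hv
  exact smul_left_cancel g (this hu' hv')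

end Cfsg.Agent.Lib.S3571
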