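import Mathlib
import Cfsg.Agent.Lib.Helper5.S3571_PRIM

/-!
# S3571 swarm, package L6 (helper5): the concrete group `A_6`

Statement of `alt6_case` exactly as in `notes/S3571_stub.lean.txt`.
-/

set_option autoImplicit false

namespace Cfsg.Agent.Lib.Helper5.S3571P

open Equiv MulAction
open scoped Pointwise

/-- A subgroup of `Perm (Fin 6)` containing a 5-cycle, a 3-cycle and a fixed-point-free element
contains `A_6`. -/
theorem alt_le_of_three {K' : Subgroup (Perm (Fin 6))} (c t d : Perm (Fin 6))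
    (hc : c ∈ K') (ht : t ∈ K') (hd : d ∈ K')
    (hc5 : c.IsCycle) (hc5' : c.support.card = 5) (ht3 : t.IsThreeCycle) (hdf : ∀ x, d x ≠ x) :
    alternatingGroup (Fin 6) ≤ K' := by
  classical
  have hsne : c.support.Nonempty := by
    rw [← Finset.card_pos, hc5']; norm_num
  obtain ⟨y₀, hy₀⟩ := hsne
  have hy₀' : c y₀ ≠ y₀ := by simpa using hy₀
  -- the complement of the support is a single point
  have hcompl : (c.supportᶜ).card = 1 := by
    rw [Finset.card_compl, hc5', Fintype.card_fin]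
  obtain ⟨a, ha⟩ := Finset.card_eq_one.1 hcompl
  have hfixa : ∀ x, c x = x → x = a := by
    intro x hx
    have : x ∈ c.supportᶜ := by
      rw [Finset.mem_compl, Perm.mem_support, not_not]; exact hx
    rw [ha, Finset.mem_singleton] at this
    exact this
  have key : ∀ x, ∃ g ∈ K', g y₀ = x := by
    intro x
    by_cases hx : c x = x
    · have hdx : c (d x) ≠ d x := by
        intro h
        have h1 := hfixa _ h
        have h2 := hfixa _ hx
        exact hdf x (h1.trans h2.symm)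
      obtain ⟨i, hi⟩ := hc5.exists_pow_eq hy₀' hdx
      refine ⟨d⁻¹ * c ^ i, K'.mul_mem (K'.inv_mem hd) (K'.pow_mem hc i), ?_⟩
      rw [Perm.mul_apply, hi]; simp
    · obtain ⟨i, hi⟩ := hc5.exists_pow_eq hy₀' hx
      exact ⟨c ^ i, K'.pow_mem hc i, hi⟩
  have htr : MulAction.IsPretransitive K' (Fin 6) := by
    refine ⟨fun x y => ?_⟩
    obtain ⟨gx, hgx, hx⟩ := key x
    obtain ⟨gy, hgy, hy⟩ := key y
    refine ⟨⟨gy * gx⁻¹, K'.mul_mem hgy (K'.inv_mem hgx)⟩, ?_⟩
    show (gy * gx⁻¹) x = y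
    rw [Perm.mul_apply, ← hx]; simp [hy]
  have hprim : MulAction.IsPreprimitive K' (Fin 6) :=
    Cfsg.Agent.Lib.S3571.isPreprimitive_of_prime_cycle_mem K' htr c hc hc5
      (by rw [hc5']; norm_num) (by rw [hc5']; norm_num)
  exact Equiv.Perm.alternatingGroup_le_of_isPreprimitive_of_isThreeCycle_mem hprim ht3 ht

/-- the three test elements -/
def p5 : Perm (Fin 6) := swap 0 1 * swap 1 2 * swap 2 3 * swap 3 4
def p3 : Perm (Fin 6) := swap 0 1 * swap 0 2
def p33 : Perm (Fin 6) := swap 0 1 * swap 0 2 * (swap 3 4 * swap 3 5)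

theorem p5_mem : p5 ∈ alternatingGroup (Fin 6) := by
  rw [Perm.mem_alternatingGroup, p5]
  simp only [map_mul]
  rw [Perm.sign_swap (by decide), Perm.sign_swap (by decide), Perm.sign_swap (by decide),
    Perm.sign_swap (by decide)]
  decide

theorem p3_three : p3.IsThreeCycle :=
  Perm.isThreeCycle_swap_mul_swap_same (by decide) (by decide) (by decide)

theorem p3_mem : p3 ∈ alternatingGroup (Fin 6) := by
  rw [Perm.mem_alternatingGroup]; exact p3_three.sign

theorem p33_mem : p33 ∈ alternatingGroup (Fin 6) := by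
  rw [Perm.mem_alternatingGroup, p33]
  simp only [map_mul]
  rw [Perm.sign_swap (by decide), Perm.sign_swap (by decide), Perm.sign_swap (by decide),
    Perm.sign_swap (by decide)]
  decide

theorem p33_fpf : ∀ x, p33 x ≠ x := by decide

theorem orderOf_p5 : orderOf p5 = 5 := by
  have : Fact (Nat.Prime 5) := ⟨by norm_num⟩
  exact orderOf_eq_prime (by decide) (by decide)

theorem orderOf_p33 : orderOf p33 = 3 :=
  orderOf_eq_prime (by decide) (by decide)

abbrev A6 := alternatingGroup (Fin 6)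

theorem card_A6 : Nat.card A6 = 360 := by
  rw [nat_card_alternatingGroup]
  simp [Nat.factorial]

theorem orderOf_mk {g : Perm (Fin 6)} (hg : g ∈ alternatingGroup (Fin 6)) :
    orderOf (⟨g, hg⟩ : A6) = orderOf g :=
  Subgroup.orderOf_mk g hg

/-- if `K` contains (conjugates of) a 5-element, `p3` and `p33`, then `K = ⊤` -/
theorem eq_top_of_three (K : Subgroup A6) (k5 : A6) (hk5 : k5 ∈ K) (ho5 : orderOf k5 = 5)
    (x1 x2 : A6) (h1 : x1⁻¹ * ⟨p3, p3_mem⟩ * x1 ∈ K) (h2 : x2⁻¹ * ⟨p33, p33_mem⟩ * x2 ∈ K) :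
    K = ⊤ := by
  classical
  set K' : Subgroup (Perm (Fin 6)) := K.map (alternatingGroup (Fin 6)).subtype with hK'
  have hc : (k5 : Perm (Fin 6)) ∈ K' := Subgroup.mem_map_of_mem _ hk5
  have ho5' : orderOf (k5 : Perm (Fin 6)) = 5 := by
    rw [← ho5]; exact (Subgroup.orderOf_coe k5)
  have hcyc : (k5 : Perm (Fin 6)).IsCycle :=
    Perm.isCycle_of_prime_order' (by rw [ho5']; norm_num) (by rw [ho5', Fintype.card_fin]; norm_num)
  have hsupp : (k5 : Perm (Fin 6)).support.card = 5 := by rw [← hcyc.orderOf, ho5']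
  have ht : ((x1 : Perm (Fin 6))⁻¹ * p3 * x1) ∈ K' := Subgroup.mem_map_of_mem _ h1
  have hd : ((x2 : Perm (Fin 6))⁻¹ * p33 * x2) ∈ K' := Subgroup.mem_map_of_mem _ h2
  have ht3 : ((x1 : Perm (Fin 6))⁻¹ * p3 * x1).IsThreeCycle := by
    have := Perm.cycleType_conj (σ := p3) (τ := (x1 : Perm (Fin 6))⁻¹)
    rw [inv_inv] at this
    show ((x1 : Perm (Fin 6))⁻¹ * p3 * x1).cycleType = {3}
    rw [this]; exact p3_three
  have hdf : ∀ y, ((x2 : Perm (Fin 6))⁻¹ * p33 * x2) y ≠ y := by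
    intro y h
    rw [Perm.mul_apply, Perm.mul_apply, Perm.inv_eq_iff_eq] at h
    exact p33_fpf _ h
  have hle := alt_le_of_three _ _ _ hc ht hd hcyc hsupp ht3 hdf
  rw [eq_top_iff]
  intro a _
  have ha : (a : Perm (Fin 6)) ∈ K' := hle a.2
  obtain ⟨k, hk, hka⟩ := Subgroup.mem_map.1 ha
  have : k = a := Subtype.ext hka
  rw [← this]; exact hk

/-- Cauchy inside `K` -/
theorem exists_five (K : Subgroup A6) (h5 : 5 ∣ Nat.card K) : ∃ k5 : A6, k5 ∈ K ∧ orderOf k5 = 5 := by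
  have : Fact (Nat.Prime 5) := ⟨by norm_num⟩
  obtain ⟨k, hk⟩ := exists_prime_orderOf_dvd_card' (G := K) 5 h5
  exact ⟨k, k.2, by rw [← hk]; exact Subgroup.orderOf_coe k⟩

/-- fixed point argument: an element of order 3 has a conjugate in `K` when `3 ∤ K.index` -/
theorem exists_conj_mem (K : Subgroup A6) (g : A6) (hg : orderOf g = 3) (h3 : ¬ 3 ∣ K.index) :
    ∃ x : A6, x⁻¹ * g * x ∈ K := by
  have : Fact (Nat.Prime 3) := ⟨by norm_num⟩
  have hP : IsPGroup 3 (Subgroup.zpowers g) := by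
    apply IsPGroup.of_card (n := 1)
    rw [Nat.card_zpowers, hg, pow_one]
  have hcard : ¬ 3 ∣ Nat.card (A6 ⧸ K) := h3
  obtain ⟨q, hq⟩ := hP.nonempty_fixed_point_of_prime_not_dvd_card (A6 ⧸ K) hcard
  induction q using QuotientGroup.induction_on with
  | H x =>
    refine ⟨x, ?_⟩
    have h1 : (⟨g, Subgroup.mem_zpowers g⟩ : Subgroup.zpowers g) • (x : A6 ⧸ K) = (x : A6 ⧸ K) :=
      hq ⟨g, Subgroup.mem_zpowers g⟩
    have h2 : ((g * x : A6) : A6 ⧸ K) = (x : A6 ⧸ K) := h1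
    rw [QuotientGroup.eq] at h2
    have h3' : (g * x)⁻¹ * x ∈ K := h2
    have h4 := K.inv_mem h3'
    simpa [mul_assoc] using h4

end Cfsg.Agent.Lib.Helper5.S3571P

namespace Cfsg.Agent.Lib.S3571

open Equiv Cfsg.Agent.Lib.Helper5.S3571P

/-- L6 : the concrete group `A_6`. -/
theorem alt6_case (K : Subgroup (alternatingGroup (Fin 6))) (hK : K ≠ ⊤)
    (r : ℕ) (hr : r.Prime) (hrd : r ∣ K.index)
    (hmax : ∀ s : ℕ, s.Prime → s ∣ K.index → s ≤ r) :
    ∃ g : alternatingGroup (Fin 6), orderOf g = r ∧ ∀ x, x⁻¹ * g * x ∉ K := by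
  classical
  have hmul : K.index * Nat.card K = 360 := by rw [Subgroup.index_mul_card, card_A6]
  have hidx : K.index ∣ 360 := Dvd.intro _ hmul
  have hr360 : r ∣ 360 := hrd.trans hidx
  have hr235 : r = 2 ∨ r = 3 ∨ r = 5 := by
    have h360 : (360 : ℕ) = 2 ^ 3 * (3 ^ 2 * 5) := by norm_num
    rw [h360] at hr360
    rcases (Nat.Prime.dvd_mul hr).1 hr360 with h | h
    · left; exact (Nat.prime_dvd_prime_iff_eq hr (by norm_num)).1 (hr.dvd_of_dvd_pow h)
    · rcases (Nat.Prime.dvd_mul hr).1 h with h | h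
      · right; left; exact (Nat.prime_dvd_prime_iff_eq hr (by norm_num)).1 (hr.dvd_of_dvd_pow h)
      · right; right; exact (Nat.prime_dvd_prime_iff_eq hr (by norm_num)).1 h
  -- when 5 ∤ index, K has an element of order 5
  have hfive : ¬ 5 ∣ K.index → ∃ k5 : A6, k5 ∈ K ∧ orderOf k5 = 5 := by
    intro h5
    apply exists_five
    have : (5 : ℕ) ∣ K.index * Nat.card K := by rw [hmul]; norm_num
    rcases (Nat.Prime.dvd_mul (by norm_num)).1 this with h | h
    · exact absurd h h5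
    · exact h
  have ho3 : orderOf (⟨p3, p3_mem⟩ : A6) = 3 := by rw [orderOf_mk]; exact p3_three.orderOf
  have ho33 : orderOf (⟨p33, p33_mem⟩ : A6) = 3 := by rw [orderOf_mk]; exact orderOf_p33
  rcases hr235 with rfl | rfl | rfl
  · -- r = 2 : void
    exfalso
    have h3 : ¬ 3 ∣ K.index := fun h => by have := hmax 3 (by norm_num) h; omega
    have h5 : ¬ 5 ∣ K.index := fun h => by have := hmax 5 (by norm_num) h; omega
    obtain ⟨k5, hk5, ho5⟩ := hfive h5
    obtain ⟨x1, hx1⟩ := exists_conj_mem K _ ho3 h3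
    obtain ⟨x2, hx2⟩ := exists_conj_mem K _ ho33 h3
    exact hK (eq_top_of_three K k5 hk5 ho5 x1 x2 hx1 hx2)
  · -- r = 3
    have h5 : ¬ 5 ∣ K.index := fun h => by have := hmax 5 (by norm_num) h; omega
    obtain ⟨k5, hk5, ho5⟩ := hfive h5
    by_cases h1 : ∀ x, x⁻¹ * (⟨p3, p3_mem⟩ : A6) * x ∉ K
    · exact ⟨_, ho3, h1⟩
    · by_cases h2 : ∀ x, x⁻¹ * (⟨p33, p33_mem⟩ : A6) * x ∉ K
      · exact ⟨_, ho33, h2⟩
      · exfalso
        push Not at h1 h2
        obtain ⟨x1, hx1⟩ := h1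
        obtain ⟨x2, hx2⟩ := h2
        exact hK (eq_top_of_three K k5 hk5 ho5 x1 x2 hx1 hx2)
  · -- r = 5
    refine ⟨⟨p5, p5_mem⟩, by rw [orderOf_mk]; exact orderOf_p5, ?_⟩
    intro x hx
    have ho : orderOf (x⁻¹ * (⟨p5, p5_mem⟩ : A6) * x) = 5 := by
      have hsc : SemiconjBy x⁻¹ (⟨p5, p5_mem⟩ : A6) (x⁻¹ * (⟨p5, p5_mem⟩ : A6) * x) := by
        simp [SemiconjBy, mul_assoc]
      rw [← hsc.orderOf_eq, orderOf_mk]; exact orderOf_p5
    have hdvd : 5 ∣ Nat.card K := by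
      rw [← ho]
      exact Subgroup.orderOf_dvd_natCard K hx
    have : 25 ∣ K.index * Nat.card K := by
      have := Nat.mul_dvd_mul hrd hdvd
      simpa using this
    rw [hmul] at this
    omega

end Cfsg.Agent.Lib.S3571
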