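import Mathlib
import Cfsg.Prelude
import Cfsg.Agent.Lib.Helper9.OrthNM10

set_option autoImplicit false

/-! S5693, sub-cases `k = 2`, plus-type members, `q = 3` and `q = 5`. -/

namespace Cfsg.Agent.Lib.Helper5.S5693AB

open Matrix Cfsg.Agent.Lib.Helper2.ReflGen Cfsg.Agent.Lib.Helper2.CDG Cfsg.Agent.H9Orth

variable {F : Type*} [Field F] {ι : Type} [Fintype ι] [DecidableEq ι]
variable {Q : QuadraticForm F (ι → F)}

/-- a non-zero vector lies in at most one member of an independent family -/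
theorem mem_unique {t : ℕ} (D : Fin t → Submodule F (ι → F)) (hind : iSupIndep D)
    (v : ι → F) (hv : v ≠ 0) (i j : Fin t) (hi : v ∈ D i) (hj : v ∈ D j) : i = j := by
  by_contra hij
  have := hind.pairwiseDisjoint hij
  exact hv ((Submodule.disjoint_def.1 this) v hi hj)

/-- one rigid frame vector per member (characteristic three): the decomposition stabilizer is not
maximal in `Ω` -/
theorem frame1_not_max [Fintype F] (h2 : (2 : F) ≠ 0) (h3 : (3 : F) = 0)
    {t : ℕ} (ht : 6 ≤ t) (D : Fin t → Submodule F (ι → F)) (hind : iSupIndep D)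
    (horth : ∀ i j, i ≠ j → Cfsg.Geo.AreOrthogonalFor (QuadraticMap.polar ⇑Q) (D i) (D j))
    (d : F) (hd : d ≠ 0) (a : Fin t → ι → F) (ha : ∀ i, a i ∈ D i) (hQa : ∀ i, Q (a i) = d)
    (hrig : ∀ i, ∀ s ∈ D i, Q s = d → s = a i ∨ s = -a i)
    (w : ι → F) (hw : w ∈ D ⟨0, by omega⟩) (hw0 : w ≠ 0)
    (hwa : QuadraticMap.polar (⇑Q) (a ⟨0, by omega⟩) w = 0) :
    ∃ K : Subgroup (Matrix.GeneralLinearGroup ι F),
      Cfsg.Geo.decompositionStabilizer D ⊓ Cfsg.Geo.omegaGL ⇑Q < K ∧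
        K < Cfsg.Geo.omegaGL ⇑Q := by
  set S : Set (ι → F) := {v | Q v = d ∧ ∃ i, v ∈ D i} with hS
  have h2d : (2 : F) * d ≠ 0 := mul_ne_zero h2 hd
  have hneg : ∀ v : ι → F, Q (-v) = Q v := fun v => by
    rw [← neg_one_smul F v, QuadraticMap.map_smul]; simp
  have ha0 : ∀ i, a i ≠ 0 := by
    intro i h
    have := hQa i
    rw [h, map_zero] at this
    exact hd this.symm
  have hpa : ∀ i j, i ≠ j → QuadraticMap.polar (⇑Q) (a i) (a j) = 0 :=
    fun i j hij => horth i j hij _ (ha i) _ (ha j)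
  set i0 : Fin t := ⟨0, by omega⟩ with hi0
  set i1 : Fin t := ⟨1, by omega⟩ with hi1
  set i2 : Fin t := ⟨2, by omega⟩ with hi2
  set i3 : Fin t := ⟨3, by omega⟩ with hi3
  set i4 : Fin t := ⟨4, by omega⟩ with hi4
  set i5 : Fin t := ⟨5, by omega⟩ with hi5
  have ne : ∀ (x y : ℕ) (hx : x < t) (hy : y < t), x ≠ y → (⟨x, hx⟩ : Fin t) ≠ ⟨y, hy⟩ := by
    intro x y hx hy hxy h
    exact hxy (congrArg Fin.val h)
  have h01 : i0 ≠ i1 := ne _ _ _ _ (by decide)
  have h02 : i0 ≠ i2 := ne _ _ _ _ (by decide)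
  have h12 : i1 ≠ i2 := ne _ _ _ _ (by decide)
  refine ⟨Cfsg.stabilizing (Cfsg.glToMat ι F) S ⊓ Cfsg.Geo.omegaGL ⇑Q, ?_, ?_⟩
  · apply lt_of_le_of_ne
    · intro g hg
      obtain ⟨hgD, hgΩ⟩ := Subgroup.mem_inf.1 hg
      refine Subgroup.mem_inf.2 ⟨?_, hgΩ⟩
      apply mem_stabilizing_of_mapsTo
      rintro v ⟨hv, i, hi⟩
      obtain ⟨σ, hσ⟩ := hgD
      refine ⟨by rw [omegaGL_Q hgΩ, hv], σ i, ?_⟩
      rw [← hσ i]
      exact ⟨v, hi, by rw [Matrix.toLin'_apply]⟩
    · intro heq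
      obtain ⟨g, hgΩ, g1, g2, g3, gw⟩ := three_cycle h2 (a i0) (a i1) (a i2) d hd (hQa _) (hQa _)
        (hQa _) (hpa _ _ h01) (hpa _ _ h02) (hpa _ _ h12)
      have hgK : g ∈ Cfsg.stabilizing (Cfsg.glToMat ι F) S ⊓ Cfsg.Geo.omegaGL ⇑Q := by
        refine Subgroup.mem_inf.2 ⟨?_, hgΩ⟩
        apply mem_stabilizing_of_mapsTo
        rintro s ⟨hs, i, hi⟩
        by_cases e0 : i = i0
        · subst e0
          rcases hrig _ s hi hs with rfl | rfl
          · rw [g1]; exact ⟨hQa _, _, ha _⟩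
          · rw [Matrix.mulVec_neg, g1]; exact ⟨by rw [hneg, hQa], _, (D _).neg_mem (ha _)⟩
        by_cases e1 : i = i1
        · subst e1
          rcases hrig _ s hi hs with rfl | rfl
          · rw [g2]; exact ⟨hQa _, _, ha _⟩
          · rw [Matrix.mulVec_neg, g2]; exact ⟨by rw [hneg, hQa], _, (D _).neg_mem (ha _)⟩
        by_cases e2 : i = i2
        · subst e2
          rcases hrig _ s hi hs with rfl | rfl
          · rw [g3]; exact ⟨hQa _, _, ha _⟩
          · rw [Matrix.mulVec_neg, g3]; exact ⟨by rw [hneg, hQa], _, (D _).neg_mem (ha _)⟩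
        rw [gw s (horth _ _ (Ne.symm e0) _ (ha _) _ hi) (horth _ _ (Ne.symm e1) _ (ha _) _ hi)
          (horth _ _ (Ne.symm e2) _ (ha _) _ hi)]
        exact ⟨hs, i, hi⟩
      rw [← heq] at hgK
      obtain ⟨σ, hσ⟩ := (Subgroup.mem_inf.1 hgK).1
      have e1 : (g : Matrix ι ι F) *ᵥ a i0 ∈ D (σ i0) := by
        rw [← hσ]; exact ⟨a i0, ha _, by rw [Matrix.toLin'_apply]⟩
      have e2 : (g : Matrix ι ι F) *ᵥ w ∈ D (σ i0) := by
        rw [← hσ]; exact ⟨w, hw, by rw [Matrix.toLin'_apply]⟩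
      rw [g1] at e1
      rw [gw w hwa (by rw [QuadraticMap.polar_comm]; exact horth _ _ h01 _ hw _ (ha _))
        (by rw [QuadraticMap.polar_comm]; exact horth _ _ h02 _ hw _ (ha _))] at e2
      have k1 := mem_unique D hind _ (ha0 i2) _ _ (ha _) e1
      have k2 := mem_unique D hind _ hw0 _ _ hw e2
      exact h02 (k2.trans k1.symm)
  · apply lt_of_le_of_ne inf_le_right
    intro heq
    have h23 : i2 ≠ i3 := ne _ _ _ _ (by decide)
    have h24 : i2 ≠ i4 := ne _ _ _ _ (by decide)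
    have h25 : i2 ≠ i5 := ne _ _ _ _ (by decide)
    have h34 : i3 ≠ i4 := ne _ _ _ _ (by decide)
    have h35 : i3 ≠ i5 := ne _ _ _ _ (by decide)
    have h45 : i4 ≠ i5 := ne _ _ _ _ (by decide)
    have h03 : i0 ≠ i3 := ne _ _ _ _ (by decide)
    have h04 : i0 ≠ i4 := ne _ _ _ _ (by decide)
    have h05 : i0 ≠ i5 := ne _ _ _ _ (by decide)
    have h13 : i1 ≠ i3 := ne _ _ _ _ (by decide)
    have h14 : i1 ≠ i4 := ne _ _ _ _ (by decide)
    have h15 : i1 ≠ i5 := ne _ _ _ _ (by decide)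
    set u := a i2 + a i3 + a i4 + a i5 with hu
    have hQu : Q u = d := by
      rw [hu, QuadraticMap.map_add Q, QuadraticMap.map_add Q, QuadraticMap.map_add Q, hQa, hQa,
        hQa, hQa, QuadraticMap.polar_add_left, QuadraticMap.polar_add_left,
        QuadraticMap.polar_add_left, hpa _ _ h23, hpa _ _ h24, hpa _ _ h25, hpa _ _ h34,
        hpa _ _ h35, hpa _ _ h45]
      linear_combination d * h3
    have q1 : QuadraticMap.polar (⇑Q) (a i0) u = 0 := by
      rw [hu, QuadraticMap.polar_add_right, QuadraticMap.polar_add_right,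
        QuadraticMap.polar_add_right, hpa _ _ h02, hpa _ _ h03, hpa _ _ h04, hpa _ _ h05]
      ring
    have q2 : QuadraticMap.polar (⇑Q) (a i1) u = 0 := by
      rw [hu, QuadraticMap.polar_add_right, QuadraticMap.polar_add_right,
        QuadraticMap.polar_add_right, hpa _ _ h12, hpa _ _ h13, hpa _ _ h14, hpa _ _ h15]
      ring
    obtain ⟨g, hgΩ, g1, -, -, -⟩ := three_cycle h2 (a i0) (a i1) u d hd (hQa _) (hQa _) hQu
      (hpa _ _ h01) q1 q2
    rw [← heq] at hgΩ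
    have hgS := (Subgroup.mem_inf.1 hgΩ).1
    have hu_S : (g : Matrix ι ι F) *ᵥ a i0 ∈ S := (hgS (a i0)).1 ⟨hQa _, _, ha _⟩
    rw [g1] at hu_S
    obtain ⟨-, i, hi⟩ := hu_S
    have k1 : i = i2 := by
      by_contra hne
      have := horth i _ hne u hi (a i2) (ha _)
      rw [hu, QuadraticMap.polar_add_left, QuadraticMap.polar_add_left,
        QuadraticMap.polar_add_left, polar_self, hQa, hpa _ _ h23.symm, hpa _ _ h24.symm,
        hpa _ _ h25.symm] at this
      apply h2d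
      linear_combination this
    have k2 : i = i3 := by
      by_contra hne
      have := horth i _ hne u hi (a i3) (ha _)
      rw [hu, QuadraticMap.polar_add_left, QuadraticMap.polar_add_left,
        QuadraticMap.polar_add_left, polar_self, hQa, hpa _ _ h23, hpa _ _ h34.symm,
        hpa _ _ h35.symm] at this
      apply h2d
      linear_combination this
    exact h23 (k1.symm.trans k2)

/-- refinement to a rigid orthogonal frame when `-1` is a square: the decomposition stabilizer is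
not maximal in `Ω` (variant of `frame_not_max`) -/
theorem frame_not_max_sq [Fintype F] (h2 : (2 : F) ≠ 0) (c : F) (hc : c * c = -1)
    {t : ℕ} (ht : 3 ≤ t) (D : Fin t → Submodule F (ι → F))
    (horth : ∀ i j, i ≠ j → Cfsg.Geo.AreOrthogonalFor (QuadraticMap.polar ⇑Q) (D i) (D j))
    (d : F) (hd : d ≠ 0)
    (hframe : ∀ i, ∃ u₁ u₂ : ι → F, u₁ ∈ D i ∧ u₂ ∈ D i ∧ Q u₁ = d ∧ Q u₂ = d ∧
      QuadraticMap.polar (⇑Q) u₁ u₂ = 0)
    (hrig : ∀ i, ∀ s ∈ D i, ∀ s' ∈ D i, Q s = d → Q s' = d →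
      s' = s ∨ s' = -s ∨ QuadraticMap.polar (⇑Q) s s' = 0) :
    ∃ K : Subgroup (Matrix.GeneralLinearGroup ι F),
      Cfsg.Geo.decompositionStabilizer D ⊓ Cfsg.Geo.omegaGL ⇑Q < K ∧
        K < Cfsg.Geo.omegaGL ⇑Q := by
  set S : Set (ι → F) := {v | Q v = d ∧ ∃ i, v ∈ D i} with hS
  have h2d : (2 : F) * d ≠ 0 := mul_ne_zero h2 hd
  have hsame : ∀ (v : ι → F) (i j : Fin t), Q v = d → v ∈ D i → v ∈ D j → i = j := by
    intro v i j hv hi hj
    by_contra hij
    have := horth i j hij v hi v hj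
    rw [polar_self, hv] at this
    exact h2d this
  obtain ⟨a₁, a₂, ha₁, ha₂, hQa₁, hQa₂, ha₁₂⟩ := hframe ⟨0, by omega⟩
  obtain ⟨b₁, b₂, hb₁, hb₂, hQb₁, hQb₂, hb₁₂⟩ := hframe ⟨1, by omega⟩
  obtain ⟨c₁, c₂, hc₁, hc₂, hQc₁, hQc₂, hc₁₂⟩ := hframe ⟨2, by omega⟩
  have h01 : (⟨0, by omega⟩ : Fin t) ≠ ⟨1, by omega⟩ := by
    intro h; have := congrArg Fin.val h; simp at this
  have h02 : (⟨0, by omega⟩ : Fin t) ≠ ⟨2, by omega⟩ := by
    intro h; have := congrArg Fin.val h; simp at this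
  have h12 : (⟨1, by omega⟩ : Fin t) ≠ ⟨2, by omega⟩ := by
    intro h; have := congrArg Fin.val h; simp at this
  refine ⟨Cfsg.stabilizing (Cfsg.glToMat ι F) S ⊓ Cfsg.Geo.omegaGL ⇑Q, ?_, ?_⟩
  · apply lt_of_le_of_ne
    · intro g hg
      obtain ⟨hgD, hgΩ⟩ := Subgroup.mem_inf.1 hg
      refine Subgroup.mem_inf.2 ⟨?_, hgΩ⟩
      apply mem_stabilizing_of_mapsTo
      rintro v ⟨hv, i, hi⟩
      obtain ⟨σ, hσ⟩ := hgD
      refine ⟨by rw [omegaGL_Q hgΩ, hv], σ i, ?_⟩
      rw [← hσ i]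
      exact ⟨v, hi, by rw [Matrix.toLin'_apply]⟩
    · intro heq
      obtain ⟨g, hgΩ, g1, g2, g3, gw⟩ := three_cycle h2 a₁ a₂ b₁ d hd hQa₁ hQa₂ hQb₁ ha₁₂
        (horth _ _ h01 a₁ ha₁ b₁ hb₁) (horth _ _ h01 a₂ ha₂ b₁ hb₁)
      have hgK : g ∈ Cfsg.stabilizing (Cfsg.glToMat ι F) S ⊓ Cfsg.Geo.omegaGL ⇑Q := by
        refine Subgroup.mem_inf.2 ⟨?_, hgΩ⟩
        apply mem_stabilizing_of_mapsTo
        rintro s ⟨hs, i, hi⟩
        have hneg : ∀ v : ι → F, Q (-v) = Q v := fun v => by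
          rw [← neg_one_smul F v, QuadraticMap.map_smul]; simp
        have r1 : s = a₁ ∨ s = -a₁ ∨ QuadraticMap.polar (⇑Q) a₁ s = 0 := by
          by_cases hi0 : i = ⟨0, by omega⟩
          · subst hi0
            exact hrig _ a₁ ha₁ s hi hQa₁ hs
          · right; right
            rw [QuadraticMap.polar_comm]
            exact horth i _ hi0 s hi a₁ ha₁
        have r2 : s = a₂ ∨ s = -a₂ ∨ QuadraticMap.polar (⇑Q) a₂ s = 0 := by
          by_cases hi0 : i = ⟨0, by omega⟩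
          · subst hi0
            exact hrig _ a₂ ha₂ s hi hQa₂ hs
          · right; right
            rw [QuadraticMap.polar_comm]
            exact horth i _ hi0 s hi a₂ ha₂
        have r3 : s = b₁ ∨ s = -b₁ ∨ QuadraticMap.polar (⇑Q) b₁ s = 0 := by
          by_cases hi0 : i = ⟨1, by omega⟩
          · subst hi0
            exact hrig _ b₁ hb₁ s hi hQb₁ hs
          · right; right
            rw [QuadraticMap.polar_comm]
            exact horth i _ hi0 s hi b₁ hb₁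
        rcases r1 with rfl | rfl | r1
        · rw [g1]; exact ⟨hQb₁, _, hb₁⟩
        · rw [Matrix.mulVec_neg, g1]; exact ⟨by rw [hneg, hQb₁], _, (D _).neg_mem hb₁⟩
        rcases r2 with rfl | rfl | r2
        · rw [g2]; exact ⟨hQa₁, _, ha₁⟩
        · rw [Matrix.mulVec_neg, g2]; exact ⟨by rw [hneg, hQa₁], _, (D _).neg_mem ha₁⟩
        rcases r3 with rfl | rfl | r3
        · rw [g3]; exact ⟨hQa₂, _, ha₂⟩
        · rw [Matrix.mulVec_neg, g3]; exact ⟨by rw [hneg, hQa₂], _, (D _).neg_mem ha₂⟩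
        rw [gw s r1 r2 r3]
        exact ⟨hs, i, hi⟩
      rw [← heq] at hgK
      obtain ⟨σ, hσ⟩ := (Subgroup.mem_inf.1 hgK).1
      have e1 : (g : Matrix ι ι F) *ᵥ a₁ ∈ D (σ ⟨0, by omega⟩) := by
        rw [← hσ]; exact ⟨a₁, ha₁, by rw [Matrix.toLin'_apply]⟩
      have e2 : (g : Matrix ι ι F) *ᵥ a₂ ∈ D (σ ⟨0, by omega⟩) := by
        rw [← hσ]; exact ⟨a₂, ha₂, by rw [Matrix.toLin'_apply]⟩
      rw [g1] at e1
      rw [g2] at e2
      have k1 := hsame b₁ _ _ hQb₁ hb₁ e1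
      have k2 := hsame a₁ _ _ hQa₁ ha₁ e2
      exact h01 (k2.trans k1.symm)
  · apply lt_of_le_of_ne inf_le_right
    intro heq
    -- the vector u = a₂ + b₂ + c • c₁ of norm 2d + c² d = d
    have p1 : QuadraticMap.polar (⇑Q) a₂ b₂ = 0 := horth _ _ h01 a₂ ha₂ b₂ hb₂
    have p2 : QuadraticMap.polar (⇑Q) a₂ c₁ = 0 := horth _ _ h02 a₂ ha₂ c₁ hc₁
    have p4 : QuadraticMap.polar (⇑Q) b₂ c₁ = 0 := horth _ _ h12 b₂ hb₂ c₁ hc₁
    set u := a₂ + b₂ + c • c₁ with hu
    have hQu : Q u = d := by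
      rw [hu, QuadraticMap.map_add Q, QuadraticMap.map_add Q, QuadraticMap.map_smul, hQa₂, hQb₂,
        hQc₁, QuadraticMap.polar_add_left, QuadraticMap.polar_smul_right,
        QuadraticMap.polar_smul_right, p1, p2, p4]
      simp only [smul_eq_mul]
      linear_combination d * hc
    have q1 : QuadraticMap.polar (⇑Q) a₁ u = 0 := by
      rw [hu, QuadraticMap.polar_add_right, QuadraticMap.polar_add_right,
        QuadraticMap.polar_smul_right, ha₁₂, horth _ _ h01 a₁ ha₁ b₂ hb₂,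
        horth _ _ h02 a₁ ha₁ c₁ hc₁]
      simp
    have q2 : QuadraticMap.polar (⇑Q) b₁ u = 0 := by
      rw [hu, QuadraticMap.polar_add_right, QuadraticMap.polar_add_right,
        QuadraticMap.polar_smul_right, hb₁₂, QuadraticMap.polar_comm _ b₁ a₂,
        horth _ _ h01 a₂ ha₂ b₁ hb₁, horth _ _ h12 b₁ hb₁ c₁ hc₁]
      simp
    obtain ⟨g, hgΩ, g1, -, -, -⟩ := three_cycle h2 a₁ b₁ u d hd hQa₁ hQb₁ hQu
      (horth _ _ h01 a₁ ha₁ b₁ hb₁) q1 q2
    rw [← heq] at hgΩ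
    have hgS := (Subgroup.mem_inf.1 hgΩ).1
    have hu_S : (g : Matrix ι ι F) *ᵥ a₁ ∈ S := (hgS a₁).1 ⟨hQa₁, _, ha₁⟩
    rw [g1] at hu_S
    obtain ⟨-, i, hi⟩ := hu_S
    have k1 : i = ⟨0, by omega⟩ := by
      by_contra hne
      have := horth i _ hne u hi a₂ ha₂
      rw [hu, QuadraticMap.polar_add_left, QuadraticMap.polar_add_left,
        QuadraticMap.polar_smul_left, polar_self, hQa₂, QuadraticMap.polar_comm _ b₂ a₂, p1,
        QuadraticMap.polar_comm _ c₁ a₂, p2] at this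
      apply h2d
      simpa using this
    have k2 : i = ⟨1, by omega⟩ := by
      by_contra hne
      have := horth i _ hne u hi b₂ hb₂
      rw [hu, QuadraticMap.polar_add_left, QuadraticMap.polar_add_left,
        QuadraticMap.polar_smul_left, polar_self, hQb₂, p1,
        QuadraticMap.polar_comm _ c₁ b₂, p4] at this
      apply h2d
      simpa using this
    exact h01 (k1.symm.trans k2)


/-- the norm of `s e + t f` for a hyperbolic pair -/
theorem Q_hyp (e f : ι → F) (he : Q e = 0) (hf : Q f = 0)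
    (hef : QuadraticMap.polar (⇑Q) e f = 1) (s t : F) : Q (s • e + t • f) = s * t := by
  rw [QuadraticMap.map_add Q, QuadraticMap.map_smul, QuadraticMap.map_smul, he, hf,
    QuadraticMap.polar_smul_left, QuadraticMap.polar_smul_right, hef]
  simp only [smul_eq_mul]; ring

/-- the polar form on a hyperbolic pair -/
theorem polar_hyp (e f : ι → F) (he : Q e = 0) (hf : Q f = 0)
    (hef : QuadraticMap.polar (⇑Q) e f = 1) (s t s' t' : F) :
    QuadraticMap.polar (⇑Q) (s • e + t • f) (s' • e + t' • f) = s * t' + t * s' := by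
  have hee : QuadraticMap.polar (⇑Q) e e = 0 := by rw [polar_self, he, mul_zero]
  have hff : QuadraticMap.polar (⇑Q) f f = 0 := by rw [polar_self, hf, mul_zero]
  have hfe : QuadraticMap.polar (⇑Q) f e = 1 := by rw [QuadraticMap.polar_comm]; exact hef
  simp only [QuadraticMap.polar_add_left, QuadraticMap.polar_add_right,
    QuadraticMap.polar_smul_left, QuadraticMap.polar_smul_right, hee, hff, hef, hfe, smul_eq_mul]
  ring

/-- PK-A in terms of a Mathlib quadratic form -/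
theorem pkA' [Fintype F] (hq : Fintype.card F = 3) {t : ℕ} (ht : 6 ≤ t)
    (D : Fin t → Submodule F (ι → F)) (hD : Cfsg.Geo.IsOrthogonalMDecomposition ⇑Q 2 D)
    (hp : ∀ i, Cfsg.Geo.IsPlusTypeOn ⇑Q (D i)) :
    ∃ K : Subgroup (Matrix.GeneralLinearGroup ι F),
      Cfsg.Geo.decompositionStabilizer D ⊓ Cfsg.Geo.omegaGL ⇑Q < K ∧
        K < Cfsg.Geo.omegaGL ⇑Q := by
  have h2 := two_ne_zero_of_card hq
  have h3 := char_three hq
  have hyp := fun i => exists_hyp_of_plane (D i) (hD.decomp.decomp.finrank_eq i)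
    (hD.decomp.nondegenerate i) (hp i)
  choose e f heD hfD he hf hef hspan using hyp
  refine frame1_not_max h2 h3 ht D hD.decomp.decomp.indep hD.decomp.orthogonal 1 one_ne_zero
    (fun i => e i + f i) (fun i => (D i).add_mem (heD i) (hfD i)) ?_ ?_
    (e ⟨0, by omega⟩ - f ⟨0, by omega⟩) ((D _).sub_mem (heD _) (hfD _)) ?_ ?_
  · intro i
    have := Q_hyp (e i) (f i) (he i) (hf i) (hef i) 1 1
    simpa using this
  · intro i s hs hQs
    obtain ⟨x, y, rfl⟩ := hspan i s hs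
    rw [Q_hyp (e i) (f i) (he i) (hf i) (hef i)] at hQs
    have hx : x ≠ 0 := by
      rintro rfl
      rw [zero_mul] at hQs
      exact zero_ne_one hQs
    have hxx := mul_self_eq_one_of_card (le_of_eq hq) hx
    have hyx : y = x := by
      have : x * y = x * x := by rw [hQs, hxx]
      exact mul_left_cancel₀ hx this
    subst hyx
    rcases eq_one_or_neg_one hq hx with rfl | rfl
    · left; simp
    · right; simp only [neg_smul, one_smul]; abel
  · intro h0
    have hee : QuadraticMap.polar (⇑Q) (e ⟨0, by omega⟩) (e ⟨0, by omega⟩) = 0 := by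
      rw [polar_self, he, mul_zero]
    have := congrArg (fun v => QuadraticMap.polar (⇑Q) (e ⟨0, by omega⟩) v) h0
    simp only [QuadraticMap.polar_sub_right, hee, hef, QuadraticMap.polar_zero_right] at this
    simp at this
  · have := polar_hyp (e ⟨0, by omega⟩) (f ⟨0, by omega⟩) (he _) (hf _) (hef _) 1 1 1 (-1)
    simp only [one_smul, neg_smul, ← sub_eq_add_neg] at this
    rw [this]; ring

theorem r5_zmod : ∀ x y x' y' : ZMod 5, x * y = 1 → x' * y' = 1 →
    ((x' = x ∧ y' = y) ∨ (x' = -x ∧ y' = -y) ∨ x * y' + y * x' = 0) := by decide +kernel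

theorem r5_field [Fintype F] (hq : Fintype.card F = 5) (x y x' y' : F)
    (hx : x * y = 1) (hy : x' * y' = 1) :
    (x' = x ∧ y' = y) ∨ (x' = -x ∧ y' = -y) ∨ x * y' + y * x' = 0 := by
  haveI : Fact (Nat.Prime 5) := ⟨by norm_num⟩
  let ψ : ZMod 5 ≃+* F := ZMod.ringEquivOfPrime F (by norm_num) hq
  obtain ⟨a₁, rfl⟩ := ψ.surjective x
  obtain ⟨a₂, rfl⟩ := ψ.surjective y
  obtain ⟨b₁, rfl⟩ := ψ.surjective x'
  obtain ⟨b₂, rfl⟩ := ψ.surjective y'
  rw [← map_one ψ] at hx hy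
  simp only [← map_mul, ← map_add, ← map_neg, ψ.injective.eq_iff] at hx hy ⊢
  have := r5_zmod a₁ a₂ b₁ b₂ hx hy
  rcases this with h | h | h
  · exact Or.inl h
  · exact Or.inr (Or.inl h)
  · right; right
    rw [h, map_zero]

/-- PK-B in terms of a Mathlib quadratic form -/
theorem pkB' [Fintype F] (hq : Fintype.card F = 5) {t : ℕ} (ht : 3 ≤ t)
    (D : Fin t → Submodule F (ι → F)) (hD : Cfsg.Geo.IsOrthogonalMDecomposition ⇑Q 2 D)
    (hp : ∀ i, Cfsg.Geo.IsPlusTypeOn ⇑Q (D i)) :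
    ∃ K : Subgroup (Matrix.GeneralLinearGroup ι F),
      Cfsg.Geo.decompositionStabilizer D ⊓ Cfsg.Geo.omegaGL ⇑Q < K ∧
        K < Cfsg.Geo.omegaGL ⇑Q := by
  have h5 : (5 : F) = 0 := by
    have := Nat.cast_card_eq_zero F
    rw [hq] at this
    exact_mod_cast this
  have h2 : (2 : F) ≠ 0 := by
    intro h
    have : (1 : F) = 0 := by linear_combination h5 - 2 * h
    exact one_ne_zero this
  have hyp := fun i => exists_hyp_of_plane (D i) (hD.decomp.decomp.finrank_eq i)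
    (hD.decomp.nondegenerate i) (hp i)
  choose e f heD hfD he hf hef hspan using hyp
  refine frame_not_max_sq h2 2 (by linear_combination h5) ht D hD.decomp.orthogonal 1 one_ne_zero
    ?_ ?_
  · intro i
    refine ⟨(1 : F) • e i + (1 : F) • f i, (2 : F) • e i + (3 : F) • f i,
      (D i).add_mem ((D i).smul_mem _ (heD i)) ((D i).smul_mem _ (hfD i)),
      (D i).add_mem ((D i).smul_mem _ (heD i)) ((D i).smul_mem _ (hfD i)), ?_, ?_, ?_⟩
    · rw [Q_hyp (e i) (f i) (he i) (hf i) (hef i)]; ring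
    · rw [Q_hyp (e i) (f i) (he i) (hf i) (hef i)]; linear_combination h5
    · rw [polar_hyp (e i) (f i) (he i) (hf i) (hef i)]; linear_combination h5
  · intro i s hs s' hs' hQs hQs'
    obtain ⟨x, y, rfl⟩ := hspan i s hs
    obtain ⟨x', y', rfl⟩ := hspan i s' hs'
    rw [Q_hyp (e i) (f i) (he i) (hf i) (hef i)] at hQs hQs'
    rcases r5_field hq x y x' y' hQs hQs' with ⟨e1, e2⟩ | ⟨e1, e2⟩ | h
    · left; rw [e1, e2]
    · right; left
      rw [e1, e2]
      simp only [neg_smul]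
      abel
    · right; right
      rw [polar_hyp (e i) (f i) (he i) (hf i) (hef i)]
      exact h

/-- PK-A: k = 2, q = 3, plus-type members. -/
theorem pkA {F : Type*} [Field F] [Fintype F] {n : ℕ} (hn : 13 ≤ n) (Q : (Fin n → F) → F)
    (hQ : Cfsg.Geo.IsNondegenerateQuadraticForm Q) {t : ℕ} (D : Fin t → Submodule F (Fin n → F))
    (hD : Cfsg.Geo.IsOrthogonalMDecomposition Q 2 D)
    (hp : ∀ i, Cfsg.Geo.IsPlusTypeOn Q (D i)) (hq : Fintype.card F = 3) :
    ∃ K : Subgroup (Matrix.GeneralLinearGroup (Fin n) F),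
      Cfsg.Geo.decompositionStabilizer D ⊓ Cfsg.Geo.omegaGL Q < K ∧ K < Cfsg.Geo.omegaGL Q := by
  obtain ⟨Q', hQ', -⟩ := exists_quadForm Q hQ
  have hcard : t * 2 = n := by
    have := decomp_card D hD.decomp.decomp
    simpa using this
  subst hQ'
  exact pkA' hq (by omega) D hD hp

/-- PK-B: k = 2, q = 5, plus-type members. -/
theorem pkB {F : Type*} [Field F] [Fintype F] {n : ℕ} (hn : 13 ≤ n) (Q : (Fin n → F) → F)
    (hQ : Cfsg.Geo.IsNondegenerateQuadraticForm Q) {t : ℕ} (D : Fin t → Submodule F (Fin n → F))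
    (hD : Cfsg.Geo.IsOrthogonalMDecomposition Q 2 D)
    (hp : ∀ i, Cfsg.Geo.IsPlusTypeOn Q (D i)) (hq : Fintype.card F = 5) :
    ∃ K : Subgroup (Matrix.GeneralLinearGroup (Fin n) F),
      Cfsg.Geo.decompositionStabilizer D ⊓ Cfsg.Geo.omegaGL Q < K ∧ K < Cfsg.Geo.omegaGL Q := by
  obtain ⟨Q', hQ', -⟩ := exists_quadForm Q hQ
  have hcard : t * 2 = n := by
    have := decomp_card D hD.decomp.decomp
    simpa using this
  subst hQ'
  exact pkB' hq (by omega) D hD hp

end Cfsg.Agent.Lib.Helper5.S5693AB
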