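import Mathlib
import Cfsg.Prelude
import Cfsg.Agent.Lib.Helper9.OrthNM10
import Cfsg.Agent.Lib.Helper5.S5693_AB
import Cfsg.Agent.Lib.Helper8.S5693_C
import Cfsg.Agent.Lib.Helper8.S5693_D
import Cfsg.Agent.Lib.Helper3.S5693_PkE

set_option autoImplicit false

/-! S5693: assembly of the sub-cases. -/

namespace Cfsg.Agent.Lib.Helper5.S5693Main

open Cfsg.Geo

/-- isometric subspaces have the same type -/
theorem plus_of_isometric {F : Type*} [Field F] {ι : Type} [Fintype ι] (Q : (ι → F) → F)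
    (U U' : Submodule F (ι → F)) (h : AreIsometricFor Q U U') (hU : IsPlusTypeOn Q U) :
    IsPlusTypeOn Q U' := by
  obtain ⟨e, he⟩ := h
  obtain ⟨W, hWU, hWs, hWd⟩ := hU
  let W₁ : Submodule F U := W.comap U.subtype
  let W₂ : Submodule F U' := W₁.map e.toLinearMap
  refine ⟨W₂.map U'.subtype, ?_, ?_, ?_⟩
  · rintro _ ⟨x, -, rfl⟩
    exact x.2
  · rintro _ ⟨x, ⟨y, hy, rfl⟩, rfl⟩
    show Q ((e y : U') : ι → F) = 0
    rw [he]
    exact hWs _ hy
  · have h1 : Module.finrank F (W₂.map U'.subtype) = Module.finrank F W₂ :=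
      (Submodule.equivMapOfInjective U'.subtype U'.injective_subtype W₂).finrank_eq.symm
    have h2 : Module.finrank F W₂ = Module.finrank F W₁ :=
      (Submodule.equivMapOfInjective e.toLinearMap e.injective W₁).finrank_eq.symm
    have h3 : Module.finrank F W₁ = Module.finrank F W := by
      have : W₁.map U.subtype = W := by
        rw [Submodule.map_comap_eq, Submodule.range_subtype]
        exact inf_eq_right.2 hWU
      rw [← this]
      exact (Submodule.equivMapOfInjective U.subtype U.injective_subtype W₁).finrank_eq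
    rw [h1, h2, h3, hWd]
    exact e.finrank_eq

theorem main {F : Type*} [Field F] [Fintype F] {n : ℕ} (hn : 13 ≤ n) (Q : (Fin n → F) → F)
    (hQ : IsNondegenerateQuadraticForm Q) {t : ℕ} (k : ℕ) (D : Fin t → Submodule F (Fin n → F))
    (hD : IsOrthogonalMDecomposition Q k D)
    (hcase : ((k = 2 ∧ (Fintype.card F = 3 ∨ ((∀ i, IsPlusTypeOn Q (D i)) ∧
      (Fintype.card F = 2 ∨ Fintype.card F = 4 ∨ Fintype.card F = 5)))) ∨
      (k = 3 ∧ Fintype.card F = 3) ∨
      (k = 4 ∧ Fintype.card F = 2 ∧ ∀ i, IsPlusTypeOn Q (D i)))) :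
    ∃ K : Subgroup (Matrix.GeneralLinearGroup (Fin n) F),
      decompositionStabilizer D ⊓ omegaGL Q < K ∧ K < omegaGL Q := by
  obtain ⟨Q', hQ', hnd⟩ := Cfsg.Agent.H9Orth.exists_quadForm Q hQ
  have hcard : t * k = n := by
    have := Cfsg.Agent.H9Orth.decomp_card D hD.decomp.decomp
    simpa using this
  rcases hcase with ⟨rfl, h3 | ⟨hp, h2 | h4 | h5⟩⟩ | ⟨rfl, h3⟩ | ⟨rfl, h2, hp⟩
  · have ht : 3 ≤ t := by omega
    by_cases h0 : IsPlusTypeOn Q (D ⟨0, by omega⟩)
    · exact Cfsg.Agent.Lib.Helper5.S5693AB.pkA hn Q hQ D hD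
        (fun i => plus_of_isometric Q _ _ (hD.isometric _ i) h0) h3
    · subst hQ'
      refine Cfsg.Agent.H9Orth.decomp_not_max h3 D hD ht (Or.inr ⟨rfl, fun i hi => h0 ?_⟩)
      exact plus_of_isometric _ _ _ (hD.isometric i _) hi
  · subst hQ'
    exact Cfsg.Agent.S5693Pk.notmax_c hnd h2 (by omega) D hD hp
  · subst hQ'
    exact Cfsg.Agent.S5693Pk.notmax_d hnd h4 (by omega) D hD hp
  · exact Cfsg.Agent.Lib.Helper5.S5693AB.pkB hn Q hQ D hD hp h5
  · have ht : 3 ≤ t := by omega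
    subst hQ'
    exact Cfsg.Agent.H9Orth.decomp_not_max h3 D hD ht (Or.inl rfl)
  · exact Cfsg.Agent.Lib.Helper5.S5693Pk.pkE hn Q hQ D hD hp h2

end Cfsg.Agent.Lib.Helper5.S5693Main
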