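import Mathlib
import Cfsg.Agent.Lib.Helper5.SL2Nonsplit
import Cfsg.Agent.Lib.Helper5.SL2Families

set_option autoImplicit false

/-!
The factorisation `SL₂(q) = A U A` in characteristic two, with `A` a cyclic torus of order `q + 1`
and `U` the stabiliser of a nonzero vector.
-/

namespace Cfsg.Agent.Lib.Helper5

open Matrix

section general
variable {F : Type*} [Field F]

/-- The determinant of the pair `(v, M v)`. -/
def detPair (M : Matrix (Fin 2) (Fin 2) F) (v : Fin 2 → F) : F :=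
  v 0 * (M.mulVec v) 1 - v 1 * (M.mulVec v) 0

theorem detPair_apply (M : Matrix (Fin 2) (Fin 2) F) (v : Fin 2 → F) :
    detPair M v = M 1 0 * v 0 ^ 2 + (M 1 1 - M 0 0) * v 0 * v 1 - M 0 1 * v 1 ^ 2 := by
  unfold detPair
  simp only [Matrix.mulVec, dotProduct, Fin.sum_univ_two]
  ring

/-- Invariance under a commuting matrix. -/
theorem detPair_mulVec_of_commute (M h : Matrix (Fin 2) (Fin 2) F) (hc : h * M = M * h)
    (v : Fin 2 → F) : detPair M (h.mulVec v) = h.det * detPair M v := by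
  have h1 : M.mulVec (h.mulVec v) = h.mulVec (M.mulVec v) := by
    rw [Matrix.mulVec_mulVec, Matrix.mulVec_mulVec, hc]
  unfold detPair
  rw [h1, Matrix.det_fin_two]
  obtain ⟨w, hw⟩ : ∃ w, M.mulVec v = w := ⟨_, rfl⟩
  rw [hw]
  simp only [Matrix.mulVec, dotProduct, Fin.sum_univ_two]
  ring

theorem detPair_smul (M : Matrix (Fin 2) (Fin 2) F) (c : F) (v : Fin 2 → F) :
    detPair M (c • v) = c ^ 2 * detPair M v := by
  rw [detPair_apply, detPair_apply]
  simp only [Pi.smul_apply, smul_eq_mul]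
  ring

/-- If `(v, M v)` is dependent and `v ≠ 0` then `v` is an eigenvector. -/
theorem eigenvector_of_detPair_eq_zero (M : Matrix (Fin 2) (Fin 2) F) (v : Fin 2 → F)
    (hv : v ≠ 0) (h : detPair M v = 0) : ∃ c : F, M.mulVec v = c • v := by
  unfold detPair at h
  by_cases h0 : v 0 = 0
  · have h1 : v 1 ≠ 0 := by
      intro h1
      apply hv
      ext i
      fin_cases i
      · exact h0
      · exact h1
    refine ⟨(M.mulVec v) 1 / v 1, ?_⟩
    rw [h0, zero_mul, zero_sub, neg_eq_zero] at h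
    have h2 : (M.mulVec v) 0 = 0 := (mul_eq_zero.1 h).resolve_left h1
    ext i
    fin_cases i
    · simp [h2, h0]
    · simp only [Fin.mk_one, Fin.isValue, Pi.smul_apply, smul_eq_mul]
      field_simp
  · refine ⟨(M.mulVec v) 0 / v 0, ?_⟩
    ext i
    fin_cases i
    · simp only [Fin.zero_eta, Fin.isValue, Pi.smul_apply, smul_eq_mul]
      field_simp
    · simp only [Fin.mk_one, Fin.isValue, Pi.smul_apply, smul_eq_mul]
      field_simp
      linear_combination h

/-- In characteristic two, the difference of `detPair M` and its transform under a matrix of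
determinant one is a diagonal form. -/
theorem detPair_mulVec_char_two (h2 : (2 : F) = 0) (M g : Matrix (Fin 2) (Fin 2) F)
    (hdet : g.det = 1) (v : Fin 2 → F) :
    detPair M (g.mulVec v) = detPair M v
      + (detPair M (g.mulVec ![1, 0]) - detPair M ![1, 0]) * v 0 ^ 2
      + (detPair M (g.mulVec ![0, 1]) - detPair M ![0, 1]) * v 1 ^ 2 := by
  rw [Matrix.det_fin_two] at hdet
  simp only [detPair_apply]
  simp only [Matrix.mulVec, dotProduct, Fin.sum_univ_two, Matrix.cons_val_zero,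
    Matrix.cons_val_one]
  linear_combination ((M 1 0 * g 0 0 * g 0 1 + (M 1 1 - M 0 0) * g 0 1 * g 1 0
    - M 0 1 * g 1 0 * g 1 1) * v 0 * v 1) * h2 + ((M 1 1 - M 0 0) * v 0 * v 1) * hdet

end general

section stab
variable {F : Type*} [Field F]

/-- The stabiliser of the first basis vector. -/
def stabE (F : Type*) [Field F] : Subgroup (SpecialLinearGroup (Fin 2) F) where
  carrier := {u | (u : Matrix (Fin 2) (Fin 2) F).mulVec ![1, 0] = ![1, 0]}
  mul_mem' := by
    intro a b ha hb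
    show ((a * b : SpecialLinearGroup (Fin 2) F) : Matrix (Fin 2) (Fin 2) F).mulVec ![1, 0] = _
    rw [Matrix.SpecialLinearGroup.coe_mul, ← Matrix.mulVec_mulVec, hb, ha]
  one_mem' := by
    show ((1 : SpecialLinearGroup (Fin 2) F) : Matrix (Fin 2) (Fin 2) F).mulVec ![1, 0] = _
    rw [Matrix.SpecialLinearGroup.coe_one, Matrix.one_mulVec]
  inv_mem' := by
    intro a ha
    show ((a⁻¹ : SpecialLinearGroup (Fin 2) F) : Matrix (Fin 2) (Fin 2) F).mulVec ![1, 0] = _
    have h1 : ((a⁻¹ : SpecialLinearGroup (Fin 2) F) : Matrix (Fin 2) (Fin 2) F).mulVec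
        ((a : Matrix (Fin 2) (Fin 2) F).mulVec ![1, 0]) = ![1, 0] := by
      rw [Matrix.mulVec_mulVec, ← Matrix.SpecialLinearGroup.coe_mul, inv_mul_cancel,
        Matrix.SpecialLinearGroup.coe_one, Matrix.one_mulVec]
    rw [ha] at h1
    exact h1

theorem mem_stabE_iff (u : SpecialLinearGroup (Fin 2) F) :
    u ∈ stabE F ↔ (u : Matrix (Fin 2) (Fin 2) F).mulVec ![1, 0] = ![1, 0] := Iff.rfl

theorem mem_stabE_iff' (u : SpecialLinearGroup (Fin 2) F) :
    u ∈ stabE F ↔ (u : Matrix (Fin 2) (Fin 2) F) 0 0 = 1 ∧ (u : Matrix (Fin 2) (Fin 2) F) 1 0 = 0 ∧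
      (u : Matrix (Fin 2) (Fin 2) F) 1 1 = 1 := by
  rw [mem_stabE_iff]
  have hdet := u.det_coe
  rw [Matrix.det_fin_two] at hdet
  constructor
  · intro h
    have h0 := congrFun h 0
    have h1 := congrFun h 1
    simp [Matrix.mulVec, dotProduct, Fin.sum_univ_two] at h0 h1
    refine ⟨h0, h1, ?_⟩
    rw [h0, h1] at hdet
    linear_combination hdet
  · rintro ⟨h0, h1, -⟩
    ext i
    fin_cases i <;> simp [Matrix.mulVec, dotProduct, Fin.sum_univ_two, h0, h1]

/-- The elements of the stabiliser, in coordinates. -/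
theorem coe_of_mem_stabE {u : SpecialLinearGroup (Fin 2) F} (hu : u ∈ stabE F) :
    (u : Matrix (Fin 2) (Fin 2) F) = !![1, (u : Matrix (Fin 2) (Fin 2) F) 0 1; 0, 1] := by
  obtain ⟨h0, h1, h2⟩ := (mem_stabE_iff' u).1 hu
  ext i j
  fin_cases i <;> fin_cases j <;> simp [h0, h1, h2]

theorem stabE_comm {u v : SpecialLinearGroup (Fin 2) F} (hu : u ∈ stabE F) (hv : v ∈ stabE F) :
    u * v = v * u := by
  apply Subtype.ext
  rw [Matrix.SpecialLinearGroup.coe_mul, Matrix.SpecialLinearGroup.coe_mul, coe_of_mem_stabE hu,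
    coe_of_mem_stabE hv]
  ext i j
  fin_cases i <;> fin_cases j <;> simp [Matrix.mul_apply, Fin.sum_univ_two]
  ring

theorem stabE_mul_self (h2 : (2 : F) = 0) {u : SpecialLinearGroup (Fin 2) F} (hu : u ∈ stabE F) :
    u * u = 1 := by
  apply Subtype.ext
  rw [Matrix.SpecialLinearGroup.coe_mul, coe_of_mem_stabE hu, Matrix.SpecialLinearGroup.coe_one]
  ext i j
  fin_cases i <;> fin_cases j <;> simp [Matrix.mul_apply, Fin.sum_univ_two]
  linear_combination ((u : Matrix (Fin 2) (Fin 2) F) 0 1) * h2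

theorem card_stabE [Finite F] : Nat.card (stabE F) = Nat.card F := by
  apply Nat.card_congr
  refine ⟨fun u => ((u : SpecialLinearGroup (Fin 2) F) : Matrix (Fin 2) (Fin 2) F) 0 1,
    fun t => ⟨slOf !![1, t; 0, 1] (by rw [Matrix.det_fin_two_of]; ring),
      (mem_stabE_iff' _).2 ⟨rfl, rfl, rfl⟩⟩, ?_, ?_⟩
  · intro u
    apply Subtype.ext
    apply Subtype.ext
    exact (coe_of_mem_stabE u.2).symm
  · intro t
    rfl

end stab

section torus
variable {F : Type*} [Field F]

/-- The centraliser of an element without eigenvector is transitive on the level sets of the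
invariant form. -/
theorem exists_centralizer_mulVec (g₀ : SpecialLinearGroup (Fin 2) F)
    (hns : ¬ ∃ c : F, (g₀ : Matrix (Fin 2) (Fin 2) F) = c • (1 : Matrix (Fin 2) (Fin 2) F))
    (hno : ∀ (c : F) (v : Fin 2 → F), v ≠ 0 →
      (g₀ : Matrix (Fin 2) (Fin 2) F).mulVec v ≠ c • v)
    (v w : Fin 2 → F) (hv : v ≠ 0)
    (hw : detPair (g₀ : Matrix (Fin 2) (Fin 2) F) w = detPair (g₀ : Matrix (Fin 2) (Fin 2) F) v) :
    ∃ c : SpecialLinearGroup (Fin 2) F,
      c ∈ Subgroup.centralizer ({g₀} : Set (SpecialLinearGroup (Fin 2) F)) ∧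
      (c : Matrix (Fin 2) (Fin 2) F).mulVec v = w := by
  obtain ⟨M, hM⟩ : ∃ M : Matrix (Fin 2) (Fin 2) F, (g₀ : Matrix (Fin 2) (Fin 2) F) = M :=
    ⟨_, rfl⟩
  have hs : detPair M v ≠ 0 := by
    intro h
    obtain ⟨c, hc⟩ := eigenvector_of_detPair_eq_zero M v hv h
    rw [← hM] at hc
    exact hno c v hv hc
  obtain ⟨u, hu⟩ : ∃ u, M.mulVec v = u := ⟨_, rfl⟩
  have hsu : detPair M v = v 0 * u 1 - v 1 * u 0 := by
    unfold detPair
    rw [hu]
  obtain ⟨s, hs'⟩ : ∃ s, detPair M v = s := ⟨_, rfl⟩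
  rw [hs'] at hs hsu
  obtain ⟨x, hx⟩ : ∃ x, x = (w 0 * u 1 - w 1 * u 0) / s := ⟨_, rfl⟩
  obtain ⟨y, hy⟩ : ∃ y, y = (v 0 * w 1 - v 1 * w 0) / s := ⟨_, rfl⟩
  obtain ⟨h, hh⟩ : ∃ h : Matrix (Fin 2) (Fin 2) F, h = x • (1 : Matrix (Fin 2) (Fin 2) F) + y • M :=
    ⟨_, rfl⟩
  have hhv : h.mulVec v = w := by
    rw [hh, Matrix.add_mulVec, Matrix.smul_mulVec, Matrix.smul_mulVec, Matrix.one_mulVec, hu]
    ext i
    fin_cases i
    · simp only [Fin.zero_eta, Fin.isValue, Pi.add_apply, Pi.smul_apply, smul_eq_mul]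
      rw [hx, hy]
      field_simp
      rw [hsu]
      ring
    · simp only [Fin.mk_one, Fin.isValue, Pi.add_apply, Pi.smul_apply, smul_eq_mul]
      rw [hx, hy]
      field_simp
      rw [hsu]
      ring
  have hcomm : h * M = M * h := by
    rw [hh, Matrix.add_mul, Matrix.mul_add, Matrix.smul_mul, Matrix.mul_smul, Matrix.smul_mul,
      Matrix.mul_smul, Matrix.one_mul, Matrix.mul_one]
  have hdet : h.det = 1 := by
    have h1 := detPair_mulVec_of_commute M h hcomm v
    rw [hhv, ← hM, hw, hM, hs'] at h1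
    have h2 : (h.det - 1) * s = 0 := by linear_combination -h1
    rcases mul_eq_zero.1 h2 with h3 | h3
    · linear_combination h3
    · exact absurd h3 hs
  refine ⟨slOf h hdet, ?_, hhv⟩
  rw [mem_centralizer_iff_span g₀ hns]
  refine ⟨x, y, ?_⟩
  rw [hM]
  exact hh

/-- In characteristic two, some vector and its image under a given element of `SL₂` lie on the
level set of the first basis vector. -/
theorem exists_level_vector [Finite F] (h2 : (2 : F) = 0) (g₀ g : SpecialLinearGroup (Fin 2) F)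
    (hno : ∀ (c : F) (v : Fin 2 → F), v ≠ 0 →
      (g₀ : Matrix (Fin 2) (Fin 2) F).mulVec v ≠ c • v) :
    ∃ w : Fin 2 → F,
      detPair (g₀ : Matrix (Fin 2) (Fin 2) F) w = detPair (g₀ : Matrix (Fin 2) (Fin 2) F) ![1, 0] ∧
      detPair (g₀ : Matrix (Fin 2) (Fin 2) F) ((g : Matrix (Fin 2) (Fin 2) F).mulVec w)
        = detPair (g₀ : Matrix (Fin 2) (Fin 2) F) ![1, 0] := by
  have hchar : ringChar F = 2 :=
    CharP.ringChar_of_prime_eq_zero Nat.prime_two (by exact_mod_cast h2)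
  obtain ⟨M, hM⟩ : ∃ M : Matrix (Fin 2) (Fin 2) F, (g₀ : Matrix (Fin 2) (Fin 2) F) = M :=
    ⟨_, rfl⟩
  obtain ⟨N, hN⟩ : ∃ N : Matrix (Fin 2) (Fin 2) F, (g : Matrix (Fin 2) (Fin 2) F) = N :=
    ⟨_, rfl⟩
  have hNdet : N.det = 1 := by rw [← hN]; exact g.det_coe
  rw [hM] at hno
  rw [hM, hN]
  have haniso : ∀ v : Fin 2 → F, v ≠ 0 → detPair M v ≠ 0 := by
    intro v hv h
    obtain ⟨c, hc⟩ := eigenvector_of_detPair_eq_zero M v hv h
    exact hno c v hv hc
  have key := detPair_mulVec_char_two h2 M N hNdet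
  obtain ⟨p, hp⟩ : ∃ p, detPair M (N.mulVec ![1, 0]) - detPair M ![1, 0] = p := ⟨_, rfl⟩
  obtain ⟨r, hr⟩ : ∃ r, detPair M (N.mulVec ![0, 1]) - detPair M ![0, 1] = r := ⟨_, rfl⟩
  rw [hp, hr] at key
  -- a nonzero vector on which the diagonal form vanishes
  obtain ⟨w', hw'ne, hw'⟩ : ∃ w' : Fin 2 → F, w' ≠ 0 ∧ p * w' 0 ^ 2 + r * w' 1 ^ 2 = 0 := by
    by_cases hpr : p = 0 ∧ r = 0
    · refine ⟨![1, 0], ?_, ?_⟩
      · intro h
        have := congrFun h 0
        simp at this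
      · rw [hpr.1, hpr.2]
        simp
    · obtain ⟨a, ha⟩ := FiniteField.isSquare_of_char_two hchar r
      obtain ⟨b, hb⟩ := FiniteField.isSquare_of_char_two hchar p
      refine ⟨![a, b], ?_, ?_⟩
      · intro h
        have h0 := congrFun h 0
        have h1 := congrFun h 1
        simp at h0 h1
        apply hpr
        rw [hb, ha, h0, h1]
        simp
      · simp only [Matrix.cons_val_zero, Matrix.cons_val_one]
        rw [hb, ha]
        linear_combination (b * b * (a * a)) * h2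
  have hs' := haniso w' hw'ne
  obtain ⟨l, hl⟩ := FiniteField.isSquare_of_char_two hchar (detPair M ![1, 0] / detPair M w')
  have hl2 : l ^ 2 * detPair M w' = detPair M ![1, 0] := by
    rw [sq, ← hl]
    field_simp
  refine ⟨l • w', ?_, ?_⟩
  · rw [detPair_smul, hl2]
  · rw [key, detPair_smul, hl2]
    simp only [Pi.smul_apply, smul_eq_mul]
    linear_combination l ^ 2 * hw'

/-- The factorisation `SL₂ = C · U · C` in characteristic two, `C` the centraliser of an element
without eigenvector. -/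
theorem exists_aba [Finite F] (h2 : (2 : F) = 0) (g₀ : SpecialLinearGroup (Fin 2) F)
    (hns : ¬ ∃ c : F, (g₀ : Matrix (Fin 2) (Fin 2) F) = c • (1 : Matrix (Fin 2) (Fin 2) F))
    (hno : ∀ (c : F) (v : Fin 2 → F), v ≠ 0 →
      (g₀ : Matrix (Fin 2) (Fin 2) F).mulVec v ≠ c • v)
    (g : SpecialLinearGroup (Fin 2) F) :
    ∃ a ∈ Subgroup.centralizer ({g₀} : Set (SpecialLinearGroup (Fin 2) F)), ∃ u ∈ stabE F,
      ∃ c ∈ Subgroup.centralizer ({g₀} : Set (SpecialLinearGroup (Fin 2) F)), g = a * u * c := by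
  have he : (![1, 0] : Fin 2 → F) ≠ 0 := by
    intro h
    have := congrFun h 0
    simp at this
  obtain ⟨w, hw1, hw2⟩ := exists_level_vector h2 g₀ g hno
  obtain ⟨c₁, hc₁, hc₁w⟩ := exists_centralizer_mulVec g₀ hns hno ![1, 0] w he hw1
  obtain ⟨a₁, ha₁, ha₁w⟩ := exists_centralizer_mulVec g₀ hns hno ![1, 0] _ he hw2
  refine ⟨a₁, ha₁, a₁⁻¹ * g * c₁, ?_, c₁⁻¹, inv_mem hc₁, ?_⟩
  · rw [mem_stabE_iff, Matrix.SpecialLinearGroup.coe_mul, Matrix.SpecialLinearGroup.coe_mul,
      ← Matrix.mulVec_mulVec, ← Matrix.mulVec_mulVec, hc₁w, ← ha₁w, Matrix.mulVec_mulVec,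
      ← Matrix.SpecialLinearGroup.coe_mul, inv_mul_cancel, Matrix.SpecialLinearGroup.coe_one,
      Matrix.one_mulVec]
  · group

end torus

end Cfsg.Agent.Lib.Helper5
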