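import Mathlib

set_option autoImplicit false

namespace Cfsg.Agent.Lib.Helper5

open Matrix

section psl
variable {F : Type*} [Field F]

/-- the preimage in `SL₂` of the centraliser of the image of `g` in `PSL₂` -/
theorem mem_comap_centralizer_iff (g x : SpecialLinearGroup (Fin 2) F) :
    x ∈ (Subgroup.centralizer
        ({(QuotientGroup.mk g : ProjectiveSpecialLinearGroup (Fin 2) F)} :
          Set (ProjectiveSpecialLinearGroup (Fin 2) F))).comap
        (QuotientGroup.mk' (Subgroup.center (SpecialLinearGroup (Fin 2) F))) ↔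
      ∃ r : F, r ^ 2 = 1 ∧
        (g : Matrix (Fin 2) (Fin 2) F) * (x : Matrix (Fin 2) (Fin 2) F) =
          r • ((x : Matrix (Fin 2) (Fin 2) F) * (g : Matrix (Fin 2) (Fin 2) F)) := by
  rw [Subgroup.mem_comap, Subgroup.mem_centralizer_singleton_iff]
  show (QuotientGroup.mk x : ProjectiveSpecialLinearGroup (Fin 2) F) * QuotientGroup.mk g =
    QuotientGroup.mk g * QuotientGroup.mk x ↔ _
  rw [← QuotientGroup.mk_mul, ← QuotientGroup.mk_mul]
  show (QuotientGroup.mk (x * g) : SpecialLinearGroup (Fin 2) F ⧸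
    Subgroup.center (SpecialLinearGroup (Fin 2) F)) = QuotientGroup.mk (g * x) ↔ _
  rw [QuotientGroup.eq, Matrix.SpecialLinearGroup.mem_center_iff, Fintype.card_fin]
  constructor
  · rintro ⟨r, hr, h⟩
    refine ⟨r, hr, ?_⟩
    have h1 : g * x = (x * g) * ((x * g)⁻¹ * (g * x)) := by group
    have h2 := congrArg (fun z : SpecialLinearGroup (Fin 2) F => (z : Matrix (Fin 2) (Fin 2) F)) h1
    have h3 : (g : Matrix (Fin 2) (Fin 2) F) * (x : Matrix (Fin 2) (Fin 2) F) =
        ((x : Matrix (Fin 2) (Fin 2) F) * (g : Matrix (Fin 2) (Fin 2) F)) *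
          (((x * g)⁻¹ * (g * x) : SpecialLinearGroup (Fin 2) F) : Matrix (Fin 2) (Fin 2) F) := h2
    rw [h3, ← h, Matrix.scalar_apply, ← Matrix.smul_one_eq_diagonal, Matrix.mul_smul,
      Matrix.mul_one]
  · rintro ⟨r, hr, h⟩
    refine ⟨r, hr, ?_⟩
    have h1 : ((x * g)⁻¹ * (g * x) : SpecialLinearGroup (Fin 2) F) =
        (x * g)⁻¹ * (g * x) := rfl
    have h2 : (((x * g)⁻¹ * (g * x) : SpecialLinearGroup (Fin 2) F) : Matrix (Fin 2) (Fin 2) F) =
        (((x * g)⁻¹ : SpecialLinearGroup (Fin 2) F) : Matrix (Fin 2) (Fin 2) F) *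
          ((g : Matrix (Fin 2) (Fin 2) F) * (x : Matrix (Fin 2) (Fin 2) F)) := rfl
    rw [h2, h, Matrix.mul_smul]
    have h3 : (((x * g)⁻¹ : SpecialLinearGroup (Fin 2) F) : Matrix (Fin 2) (Fin 2) F) *
        ((x : Matrix (Fin 2) (Fin 2) F) * (g : Matrix (Fin 2) (Fin 2) F)) = 1 := by
      have : (x * g)⁻¹ * (x * g) = 1 := inv_mul_cancel _
      exact congrArg (fun z : SpecialLinearGroup (Fin 2) F => (z : Matrix (Fin 2) (Fin 2) F)) this
    rw [h3, Matrix.scalar_apply, ← Matrix.smul_one_eq_diagonal]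

theorem coe_inv_mul_coe (x : SpecialLinearGroup (Fin 2) F) :
    ((x⁻¹ : SpecialLinearGroup (Fin 2) F) : Matrix (Fin 2) (Fin 2) F) *
      (x : Matrix (Fin 2) (Fin 2) F) = 1 := by
  have : x⁻¹ * x = 1 := inv_mul_cancel _
  exact congrArg (fun z : SpecialLinearGroup (Fin 2) F => (z : Matrix (Fin 2) (Fin 2) F)) this

theorem coe_mul_coe_inv (x : SpecialLinearGroup (Fin 2) F) :
    (x : Matrix (Fin 2) (Fin 2) F) *
      ((x⁻¹ : SpecialLinearGroup (Fin 2) F) : Matrix (Fin 2) (Fin 2) F) = 1 := by
  have : x * x⁻¹ = 1 := mul_inv_cancel _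
  exact congrArg (fun z : SpecialLinearGroup (Fin 2) F => (z : Matrix (Fin 2) (Fin 2) F)) this

theorem coe_ne_zero (x : SpecialLinearGroup (Fin 2) F) :
    (x : Matrix (Fin 2) (Fin 2) F) ≠ 0 := by
  intro h
  have := x.det_coe
  rw [h, Matrix.det_zero] at this
  exact zero_ne_one this

/-- if `g x = r • x g` then `tr g = r tr g` -/
theorem trace_eq_of_twisted_commute (g x : SpecialLinearGroup (Fin 2) F) (r : F)
    (h : (g : Matrix (Fin 2) (Fin 2) F) * (x : Matrix (Fin 2) (Fin 2) F) =
          r • ((x : Matrix (Fin 2) (Fin 2) F) * (g : Matrix (Fin 2) (Fin 2) F))) :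
    (g : Matrix (Fin 2) (Fin 2) F).trace = r * (g : Matrix (Fin 2) (Fin 2) F).trace := by
  have h1 : (g : Matrix (Fin 2) (Fin 2) F) =
      r • ((x : Matrix (Fin 2) (Fin 2) F) * (g : Matrix (Fin 2) (Fin 2) F) *
        ((x⁻¹ : SpecialLinearGroup (Fin 2) F) : Matrix (Fin 2) (Fin 2) F)) := by
    rw [← Matrix.smul_mul, ← h, Matrix.mul_assoc, coe_mul_coe_inv, Matrix.mul_one]
  have h2 := congrArg Matrix.trace h1
  rw [Matrix.trace_smul, Matrix.trace_mul_cycle, coe_inv_mul_coe, Matrix.one_mul, smul_eq_mul] at h2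
  exact h2

theorem comap_centralizer_eq (g : SpecialLinearGroup (Fin 2) F)
    (hg : (2 : F) = 0 ∨ (g : Matrix (Fin 2) (Fin 2) F).trace ≠ 0) :
    (Subgroup.centralizer
        ({(QuotientGroup.mk g : ProjectiveSpecialLinearGroup (Fin 2) F)} :
          Set (ProjectiveSpecialLinearGroup (Fin 2) F))).comap
        (QuotientGroup.mk' (Subgroup.center (SpecialLinearGroup (Fin 2) F))) =
      Subgroup.centralizer ({g} : Set (SpecialLinearGroup (Fin 2) F)) := by
  ext x
  rw [mem_comap_centralizer_iff, Subgroup.mem_centralizer_singleton_iff]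
  constructor
  · rintro ⟨r, hr, h⟩
    have hr1 : r = 1 := by
      rcases hg with h2 | ht
      · have : (r - 1) ^ 2 = 0 := by linear_combination hr + (1 - r) * h2
        exact sub_eq_zero.1 ((pow_eq_zero_iff two_ne_zero).1 this)
      · have h3 := trace_eq_of_twisted_commute g x r h
        have h4 : (r - 1) * (g : Matrix (Fin 2) (Fin 2) F).trace = 0 := by
          linear_combination -h3
        rcases mul_eq_zero.1 h4 with h5 | h5
        · exact sub_eq_zero.1 h5
        · exact absurd h5 ht
    rw [hr1, one_smul] at h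
    apply Subtype.ext
    exact h.symm
  · intro h
    refine ⟨1, one_pow 2, ?_⟩
    rw [one_smul]
    exact (congrArg (fun z : SpecialLinearGroup (Fin 2) F => (z : Matrix (Fin 2) (Fin 2) F)) h).symm

/-- in characteristic two, or for non-zero trace, the class of the image in `PSL₂` has the
same size as the class in `SL₂` -/
theorem psl_index_eq (g : SpecialLinearGroup (Fin 2) F)
    (hg : (2 : F) = 0 ∨ (g : Matrix (Fin 2) (Fin 2) F).trace ≠ 0) :
    (Subgroup.centralizer
        ({(QuotientGroup.mk g : ProjectiveSpecialLinearGroup (Fin 2) F)} :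
          Set (ProjectiveSpecialLinearGroup (Fin 2) F))).index =
      (Subgroup.centralizer ({g} : Set (SpecialLinearGroup (Fin 2) F))).index := by
  rw [← comap_centralizer_eq g hg]
  exact (Subgroup.index_comap_of_surjective _ (QuotientGroup.mk'_surjective _)).symm

/-- for trace zero in odd characteristic, if `g` is conjugate to `-g`, the class of the image in
`PSL₂` has half the size of the class in `SL₂` -/
theorem psl_index_mul_two (g x₀ : SpecialLinearGroup (Fin 2) F) (h2 : (2 : F) ≠ 0)
    (hx : (x₀ : Matrix (Fin 2) (Fin 2) F) * (g : Matrix (Fin 2) (Fin 2) F) =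
      -((g : Matrix (Fin 2) (Fin 2) F) * (x₀ : Matrix (Fin 2) (Fin 2) F))) :
    2 * (Subgroup.centralizer
        ({(QuotientGroup.mk g : ProjectiveSpecialLinearGroup (Fin 2) F)} :
          Set (ProjectiveSpecialLinearGroup (Fin 2) F))).index =
      (Subgroup.centralizer ({g} : Set (SpecialLinearGroup (Fin 2) F))).index := by
  set K := (Subgroup.centralizer
        ({(QuotientGroup.mk g : ProjectiveSpecialLinearGroup (Fin 2) F)} :
          Set (ProjectiveSpecialLinearGroup (Fin 2) F))).comap
        (QuotientGroup.mk' (Subgroup.center (SpecialLinearGroup (Fin 2) F))) with hK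
  set H := Subgroup.centralizer ({g} : Set (SpecialLinearGroup (Fin 2) F)) with hH
  have hKi : K.index = (Subgroup.centralizer
        ({(QuotientGroup.mk g : ProjectiveSpecialLinearGroup (Fin 2) F)} :
          Set (ProjectiveSpecialLinearGroup (Fin 2) F))).index :=
    Subgroup.index_comap_of_surjective _ (QuotientGroup.mk'_surjective _)
  have hHK : H ≤ K := by
    intro x hx'
    rw [hH, Subgroup.mem_centralizer_singleton_iff] at hx'
    rw [hK, mem_comap_centralizer_iff]
    refine ⟨1, one_pow 2, ?_⟩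
    rw [one_smul]
    exact (congrArg (fun z : SpecialLinearGroup (Fin 2) F => (z : Matrix (Fin 2) (Fin 2) F)) hx').symm
  have hmemH : ∀ b : SpecialLinearGroup (Fin 2) F, b ∈ H ↔
      (b : Matrix (Fin 2) (Fin 2) F) * (g : Matrix (Fin 2) (Fin 2) F) =
        (g : Matrix (Fin 2) (Fin 2) F) * (b : Matrix (Fin 2) (Fin 2) F) := by
    intro b
    rw [hH, Subgroup.mem_centralizer_singleton_iff]
    constructor
    · intro h
      exact congrArg (fun z : SpecialLinearGroup (Fin 2) F => (z : Matrix (Fin 2) (Fin 2) F)) h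
    · intro h
      apply Subtype.ext
      exact h
  have hne : ∀ M : Matrix (Fin 2) (Fin 2) F, M = -M → M = 0 := by
    intro M hM
    have h3 : (2 : F) • M = 0 := by
      rw [two_smul]
      nth_rewrite 1 [hM]
      exact neg_add_cancel M
    rcases smul_eq_zero.1 h3 with h | h
    · exact absurd h h2
    · exact h
  have hrel : H.relIndex K = 2 := by
    rw [Subgroup.relIndex_eq_two_iff]
    refine ⟨x₀, ?_, ?_⟩
    · rw [hK, mem_comap_centralizer_iff]
      refine ⟨-1, by ring, ?_⟩
      rw [hx, neg_smul, one_smul, neg_neg]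
    · intro b hb
      rw [hK, mem_comap_centralizer_iff] at hb
      obtain ⟨r, hr, hb⟩ := hb
      have hr' : r = 1 ∨ r = -1 := by
        have : (r - 1) * (r + 1) = 0 := by linear_combination hr
        rcases mul_eq_zero.1 this with h | h
        · left; exact sub_eq_zero.1 h
        · right; exact eq_neg_of_add_eq_zero_left h
      have hbx : ((b * x₀ : SpecialLinearGroup (Fin 2) F) : Matrix (Fin 2) (Fin 2) F) =
        (b : Matrix (Fin 2) (Fin 2) F) * (x₀ : Matrix (Fin 2) (Fin 2) F) := rfl
      rcases hr' with rfl | rfl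
      · rw [one_smul] at hb
        right
        refine ⟨(hmemH b).2 hb.symm, ?_⟩
        rw [hmemH, hbx, Matrix.mul_assoc, hx, Matrix.mul_neg, ← Matrix.mul_assoc, ← hb,
          ← Matrix.mul_assoc]
        intro h
        have h0 := hne _ h.symm
        have : ((g * b * x₀ : SpecialLinearGroup (Fin 2) F) : Matrix (Fin 2) (Fin 2) F) = 0 := h0
        exact coe_ne_zero _ this
      · rw [neg_smul, one_smul] at hb
        left
        refine ⟨?_, ?_⟩
        · rw [hmemH, hbx, Matrix.mul_assoc, hx, Matrix.mul_neg, ← Matrix.mul_assoc,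
            ← Matrix.mul_assoc, hb, Matrix.neg_mul]
        · rw [hmemH]
          intro h
          rw [← h] at hb
          have h0 := hne _ hb
          have : ((b * g : SpecialLinearGroup (Fin 2) F) : Matrix (Fin 2) (Fin 2) F) = 0 := h0
          exact coe_ne_zero _ this
  have h := Subgroup.relIndex_mul_index hHK
  rw [hrel, hKi] at h
  exact h

/-- scalar elements map to the identity of `PSL₂` -/
theorem psl_index_of_scalar (g : SpecialLinearGroup (Fin 2) F) (c : F)
    (hg : (g : Matrix (Fin 2) (Fin 2) F) = c • (1 : Matrix (Fin 2) (Fin 2) F)) :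
    (Subgroup.centralizer
        ({(QuotientGroup.mk g : ProjectiveSpecialLinearGroup (Fin 2) F)} :
          Set (ProjectiveSpecialLinearGroup (Fin 2) F))).index = 1 := by
  have h1 : (QuotientGroup.mk g : ProjectiveSpecialLinearGroup (Fin 2) F) = 1 := by
    show (QuotientGroup.mk g : SpecialLinearGroup (Fin 2) F ⧸
      Subgroup.center (SpecialLinearGroup (Fin 2) F)) = 1
    rw [QuotientGroup.eq_one_iff, Subgroup.mem_center_iff]
    intro x
    apply Subtype.ext
    show (x : Matrix (Fin 2) (Fin 2) F) * (g : Matrix (Fin 2) (Fin 2) F) =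
      (g : Matrix (Fin 2) (Fin 2) F) * (x : Matrix (Fin 2) (Fin 2) F)
    rw [hg, Matrix.mul_smul, Matrix.smul_mul, Matrix.mul_one, Matrix.one_mul]
  rw [h1, Subgroup.index_eq_one, eq_top_iff]
  intro x _
  rw [Subgroup.mem_centralizer_singleton_iff, mul_one, one_mul]

end psl

end Cfsg.Agent.Lib.Helper5
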