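import Mathlib
import Cfsg.Agent.Lib.Helper5.SL2TorusNorm
import Cfsg.Agent.Lib.Helper5.SL2Class2
import Cfsg.Agent.Lib.Helper5.SL2Nonsplit
import Cfsg.Agent.Lib.Helper5.SL2Proj

set_option autoImplicit false

/-!
# `SL₂` in characteristic two: centralisers, normalisers of tori, solvable subgroups are local
-/

namespace Cfsg.Agent.Lib.Helper5.SL2Char2

open Matrix
open scoped commutatorElement

section group

/-- a nontrivial solvable group has a nontrivial abelian normal subgroup -/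
theorem exists_normal_abelian {H : Type*} [Group H] [hs : Group.IsSolvable H] [Nontrivial H] :
    ∃ A : Subgroup H, A.Normal ∧ A ≠ ⊥ ∧ ∀ a ∈ A, ∀ b ∈ A, a * b = b * a := by
  classical
  have hex : ∃ n, derivedSeries H n = ⊥ := hs.solvable
  have hn0 : Nat.find hex ≠ 0 := by
    intro h0
    have := Nat.find_spec hex
    rw [h0, derivedSeries_zero] at this
    exact top_ne_bot this
  obtain ⟨m, hm⟩ := Nat.exists_eq_succ_of_ne_zero hn0
  refine ⟨derivedSeries H m, inferInstance, ?_, ?_⟩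
  · intro h
    have := Nat.find_min' hex h
    omega
  · intro a ha b hb
    have h1 := Nat.find_spec hex
    rw [hm, derivedSeries_succ] at h1
    have h2 : ⁅a, b⁆ ∈ ⁅derivedSeries H m, derivedSeries H m⁆ :=
      Subgroup.commutator_mem_commutator ha hb
    rw [h1, Subgroup.mem_bot, commutatorElement_def] at h2
    calc a * b = (a * b * a⁻¹ * b⁻¹) * (b * a) := by group
      _ = b * a := by rw [h2, one_mul]

/-- a group all of whose commutators lie in an abelian subgroup is solvable -/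
theorem solvable_of_commutators {N : Type*} [Group N] (Z : Subgroup N)
    (hZ : ∀ a ∈ Z, ∀ b ∈ Z, a * b = b * a) (hc : ∀ m n : N, ⁅m, n⁆ ∈ Z) : Group.IsSolvable N := by
  refine ⟨⟨2, ?_⟩⟩
  have h1 : derivedSeries N 1 ≤ Z := by
    rw [derivedSeries_succ, derivedSeries_zero, Subgroup.commutator_le]
    intro m _ n _
    exact hc m n
  rw [derivedSeries_succ, eq_bot_iff]
  refine (Subgroup.commutator_mono h1 h1).trans ?_
  rw [Subgroup.commutator_le]
  intro a ha b hb
  rw [Subgroup.mem_bot, commutatorElement_def, hZ a ha b hb]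
  group

/-- if `m` and `n` send `g` to `g ^ ±1` under conjugation, their commutator centralises `g` -/
theorem comm_fix {G : Type*} [Group G] (g m n : G) (em en : ℤ) (hem : em * em = 1)
    (hen : en * en = 1) (hm : m * g * m⁻¹ = g ^ em) (hn : n * g * n⁻¹ = g ^ en) :
    ⁅m, n⁆ * g = g * ⁅m, n⁆ := by
  have inv : ∀ (k : G) (e : ℤ), e * e = 1 → k * g * k⁻¹ = g ^ e → k⁻¹ * g * k = g ^ e := by
    intro k e he hk
    have h1 : (k⁻¹ * g * k) ^ e = g := by
      have : (k⁻¹ * g * k) ^ e = k⁻¹ * g ^ e * k := by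
        have := conj_zpow (a := k⁻¹) (b := g) (i := e)
        rw [inv_inv] at this
        exact this
      rw [this, ← hk]; group
    calc k⁻¹ * g * k = (k⁻¹ * g * k) ^ (e * e) := by rw [he, zpow_one]
      _ = ((k⁻¹ * g * k) ^ e) ^ e := by rw [_root_.zpow_mul]
      _ = g ^ e := by rw [h1]
  have hm' := inv m em hem hm
  have hn' := inv n en hen hn
  have step : ∀ (k : G) (e : ℤ) (i : ℤ), k * g * k⁻¹ = g ^ e → k * g ^ i * k⁻¹ = g ^ (e * i) := by
    intro k e i hk
    rw [← conj_zpow, hk, _root_.zpow_mul]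
  have step' : ∀ (k : G) (e : ℤ) (i : ℤ), k⁻¹ * g * k = g ^ e → k⁻¹ * g ^ i * k = g ^ (e * i) := by
    intro k e i hk
    have := conj_zpow (a := k⁻¹) (b := g) (i := i)
    rw [inv_inv] at this
    rw [← this, hk, _root_.zpow_mul]
  have key : ⁅m, n⁆ * g * ⁅m, n⁆⁻¹ = g := by
    rw [commutatorElement_def]
    calc m * n * m⁻¹ * n⁻¹ * g * (m * n * m⁻¹ * n⁻¹)⁻¹
        = m * (n * (m⁻¹ * (n⁻¹ * g * n) * m) * n⁻¹) * m⁻¹ := by group
      _ = m * (n * (m⁻¹ * g ^ en * m) * n⁻¹) * m⁻¹ := by rw [hn']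
      _ = m * (n * g ^ (em * en) * n⁻¹) * m⁻¹ := by rw [step' m em en hm']
      _ = m * g ^ (en * (em * en)) * m⁻¹ := by rw [step n en (em * en) hn]
      _ = g ^ (em * (en * (em * en))) := by rw [step m em _ hm]
      _ = g := by
        have : em * (en * (em * en)) = (em * em) * (en * en) := by ring
        rw [this, hem, hen, one_mul, zpow_one]
  calc ⁅m, n⁆ * g = (⁅m, n⁆ * g * ⁅m, n⁆⁻¹) * ⁅m, n⁆ := by group
    _ = g * ⁅m, n⁆ := by rw [key]

/-- the solubiliser cardinality is invariant under isomorphisms -/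
theorem card_sol_congr {G G' : Type*} [Group G] [Group G'] (e : G ≃* G') (x : G) :
    Nat.card {y : G' // Group.IsSolvable (Subgroup.closure ({e x, y} : Set G'))} =
      Nat.card {y : G // Group.IsSolvable (Subgroup.closure ({x, y} : Set G))} := by
  symm
  have key : ∀ y : G, Group.IsSolvable (Subgroup.closure ({x, y} : Set G)) ↔
      Group.IsSolvable (Subgroup.closure ({e x, e y} : Set G')) := by
    intro y
    have h1 : Subgroup.closure ({e x, e y} : Set G') =
        (Subgroup.closure ({x, y} : Set G)).map e.toMonoidHom := by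
      rw [MonoidHom.map_closure, Set.image_pair]
      rfl
    have e2 : Subgroup.closure ({x, y} : Set G) ≃*
        (Subgroup.closure ({x, y} : Set G)).map e.toMonoidHom :=
      Subgroup.equivMapOfInjective _ _ e.injective
    rw [h1]
    constructor
    · intro h
      exact solvable_of_surjective (f := e2.toMonoidHom) e2.surjective
    · intro h
      exact solvable_of_surjective (f := e2.symm.toMonoidHom) e2.symm.surjective
  exact Nat.card_congr (e.toEquiv.subtypeEquiv key)

end group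

section sl2

variable {F : Type*} [Field F]

local notation "SL" => SpecialLinearGroup (Fin 2) F

theorem scalar_iff_one (h2 : (2 : F) = 0) (g : SL) :
    (∃ c : F, (g : Matrix (Fin 2) (Fin 2) F) = c • (1 : Matrix (Fin 2) (Fin 2) F)) ↔ g = 1 := by
  constructor
  · rintro ⟨c, hc⟩
    have hd := g.det_coe
    rw [hc, Matrix.det_smul, Matrix.det_one, Fintype.card_fin, mul_one] at hd
    have hc1 : c = 1 := by
      have : (c - 1) ^ 2 = 0 := by linear_combination hd - c * h2 + h2
      exact sub_eq_zero.1 ((pow_eq_zero_iff two_ne_zero).1 this)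
    apply Subtype.ext
    rw [hc, hc1, one_smul]
    rfl
  · rintro rfl
    exact ⟨1, by rw [one_smul]; rfl⟩

/-- Cayley–Hamilton in characteristic two -/
theorem sq_eq (h2 : (2 : F) = 0) (g : SL) :
    (g : Matrix (Fin 2) (Fin 2) F) * (g : Matrix (Fin 2) (Fin 2) F) =
      (g : Matrix (Fin 2) (Fin 2) F).trace • (g : Matrix (Fin 2) (Fin 2) F) + 1 := by
  have h := cayley_two_sl g
  have h1 : (1 : Matrix (Fin 2) (Fin 2) F) + 1 = 0 := by
    rw [← two_smul F (1 : Matrix (Fin 2) (Fin 2) F), h2, zero_smul]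
  calc (g : Matrix (Fin 2) (Fin 2) F) * (g : Matrix (Fin 2) (Fin 2) F)
      = ((g : Matrix (Fin 2) (Fin 2) F) * (g : Matrix (Fin 2) (Fin 2) F) + 1) + 1 := by
        rw [add_assoc, h1, add_zero]
    _ = _ := by rw [h]

theorem mul_self_eq_one_iff (h2 : (2 : F) = 0) (g : SL) :
    g * g = 1 ↔ (g : Matrix (Fin 2) (Fin 2) F).trace = 0 := by
  constructor
  · intro h
    have h1 := sq_eq h2 g
    rw [← Matrix.SpecialLinearGroup.coe_mul, h, Matrix.SpecialLinearGroup.coe_one] at h1
    have h3 : (g : Matrix (Fin 2) (Fin 2) F).trace • (g : Matrix (Fin 2) (Fin 2) F) = 0 := by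
      have := congrArg (fun M => M - 1) h1
      simpa using this.symm
    rcases smul_eq_zero.1 h3 with h4 | h4
    · exact h4
    · exact absurd h4 (coe_ne_zero g)
  · intro h
    apply Subtype.ext
    rw [Matrix.SpecialLinearGroup.coe_mul, sq_eq h2, h, zero_smul, zero_add]
    rfl

theorem inv_eq_add (h2 : (2 : F) = 0) (g : SL) :
    ((g⁻¹ : SL) : Matrix (Fin 2) (Fin 2) F) =
      (g : Matrix (Fin 2) (Fin 2) F).trace • (1 : Matrix (Fin 2) (Fin 2) F) +
        (g : Matrix (Fin 2) (Fin 2) F) := by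
  rw [coe_inv_eq, sub_eq_add_neg]
  congr 1
  have h1 : (g : Matrix (Fin 2) (Fin 2) F) + (g : Matrix (Fin 2) (Fin 2) F) = 0 := by
    rw [← two_smul F (g : Matrix (Fin 2) (Fin 2) F), h2, zero_smul]
  exact neg_eq_of_add_eq_zero_left h1

/-- in a torus, elements with the trace of the generator are the generator or its inverse -/
theorem eq_or_eq_inv_of_trace_eq (h2 : (2 : F) = 0) (g₀ : SL)
    (ht : (g₀ : Matrix (Fin 2) (Fin 2) F).trace ≠ 0) (x : SL)
    (hx : x ∈ Subgroup.centralizer ({g₀} : Set SL))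
    (htx : (x : Matrix (Fin 2) (Fin 2) F).trace = (g₀ : Matrix (Fin 2) (Fin 2) F).trace) :
    x = g₀ ∨ x = g₀⁻¹ := by
  have hns : ¬ ∃ c : F, (g₀ : Matrix (Fin 2) (Fin 2) F) = c • (1 : Matrix (Fin 2) (Fin 2) F) := by
    rw [scalar_iff_one h2]
    rintro rfl
    apply ht
    rw [Matrix.SpecialLinearGroup.coe_one, Matrix.trace_one, Fintype.card_fin]
    exact_mod_cast h2
  obtain ⟨a, b, hab⟩ := (mem_centralizer_iff_span g₀ hns x).1 hx
  obtain ⟨t, htdef⟩ : ∃ t : F, t = (g₀ : Matrix (Fin 2) (Fin 2) F).trace := ⟨_, rfl⟩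
  have hdet := x.det_coe
  rw [hab, det_smul_one_add_smul, g₀.det_coe, mul_one, ← htdef] at hdet
  have htr : 2 * a + b * t = t := by
    have := htx
    rw [hab, Matrix.trace_add, Matrix.trace_smul, Matrix.trace_smul, Matrix.trace_one,
      Fintype.card_fin, smul_eq_mul, smul_eq_mul, ← htdef] at this
    push_cast at this
    linear_combination this
  rw [← htdef] at ht
  have hb1 : b = 1 := by
    have : (b - 1) * t = 0 := by linear_combination htr - a * h2
    rcases mul_eq_zero.1 this with h | h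
    · exact sub_eq_zero.1 h
    · exact absurd h ht
  rw [hb1] at hdet hab
  have ha : a * (a + t) = 0 := by linear_combination hdet
  rcases mul_eq_zero.1 ha with h | h
  · left
    apply Subtype.ext
    rw [hab, h, zero_smul, zero_add, one_smul]
  · right
    apply Subtype.ext
    have hat : a = t := by linear_combination h - t * h2
    rw [hab, hat, inv_eq_add h2, one_smul, ← htdef]

theorem mem_normalizer_iff (h2 : (2 : F) = 0) (g₀ : SL)
    (ht : (g₀ : Matrix (Fin 2) (Fin 2) F).trace ≠ 0) (h : SL) :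
    h ∈ Subgroup.normalizer ((Subgroup.centralizer ({g₀} : Set SL) : Subgroup SL) : Set SL) ↔
      (h * g₀ * h⁻¹ = g₀ ∨ h * g₀ * h⁻¹ = g₀⁻¹) := by
  rw [Subgroup.mem_set_normalizer_iff]
  constructor
  · intro hn
    have h0 : g₀ ∈ Subgroup.centralizer ({g₀} : Set SL) := by
      rw [Subgroup.mem_centralizer_singleton_iff]
    have h1 := (hn g₀).1 h0
    apply eq_or_eq_inv_of_trace_eq h2 g₀ ht _ h1
    exact trace_conj h g₀
  · intro hc n
    have key : ∀ g₁ : SL, h * g₀ * h⁻¹ = g₁ →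
        (n ∈ Subgroup.centralizer ({g₀} : Set SL) ↔
          h * n * h⁻¹ ∈ Subgroup.centralizer ({g₁} : Set SL)) := by
      intro g₁ hg₁
      rw [Subgroup.mem_centralizer_singleton_iff, Subgroup.mem_centralizer_singleton_iff, ← hg₁]
      constructor
      · intro hn
        calc h * n * h⁻¹ * (h * g₀ * h⁻¹) = h * (n * g₀) * h⁻¹ := by group
          _ = h * (g₀ * n) * h⁻¹ := by rw [hn]
          _ = h * g₀ * h⁻¹ * (h * n * h⁻¹) := by group
      · intro hn
        calc n * g₀ = h⁻¹ * (h * n * h⁻¹ * (h * g₀ * h⁻¹)) * h := by group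
          _ = h⁻¹ * (h * g₀ * h⁻¹ * (h * n * h⁻¹)) * h := by rw [hn]
          _ = g₀ * n := by group
    rcases hc with hc | hc
    · exact key g₀ hc
    · rw [SetLike.mem_coe, SetLike.mem_coe, key g₀⁻¹ hc, mem_centralizer_inv_iff]

theorem not_scalar_of_ne_one (h2 : (2 : F) = 0) {g : SL} (hg : g ≠ 1) :
    ¬ ∃ c : F, (g : Matrix (Fin 2) (Fin 2) F) = c • (1 : Matrix (Fin 2) (Fin 2) F) := by
  rw [scalar_iff_one h2]
  exact hg

theorem ne_one_of_trace_ne_zero (h2 : (2 : F) = 0) {g : SL}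
    (ht : (g : Matrix (Fin 2) (Fin 2) F).trace ≠ 0) : g ≠ 1 := by
  rintro rfl
  apply ht
  rw [Matrix.SpecialLinearGroup.coe_one, Matrix.trace_one, Fintype.card_fin]
  exact_mod_cast h2

/-- elements of the normaliser of a torus outside the torus invert it -/
theorem inverts_of_not_mem (h2 : (2 : F) = 0) (g₀ : SL)
    (ht : (g₀ : Matrix (Fin 2) (Fin 2) F).trace ≠ 0) (h : SL)
    (hn : h ∈ Subgroup.normalizer ((Subgroup.centralizer ({g₀} : Set SL) : Subgroup SL) : Set SL))
    (hz : h ∉ Subgroup.centralizer ({g₀} : Set SL)) (z : SL)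
    (hzz : z ∈ Subgroup.centralizer ({g₀} : Set SL)) : h * z * h⁻¹ = z⁻¹ := by
  rw [mem_normalizer_iff h2 g₀ ht] at hn
  rcases hn with hn | hn
  · exfalso
    apply hz
    rw [Subgroup.mem_centralizer_singleton_iff, ← mul_inv_eq_iff_eq_mul]
    exact hn
  · exact conj_eq_inv_of_inverting h g₀ (not_scalar_of_ne_one h2 (ne_one_of_trace_ne_zero h2 ht)) hn z hzz

theorem centralizer_comm (h2 : (2 : F) = 0) {g₀ : SL} (hg : g₀ ≠ 1) (x y : SL)
    (hx : x ∈ Subgroup.centralizer ({g₀} : Set SL)) (hy : y ∈ Subgroup.centralizer ({g₀} : Set SL)) :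
    x * y = y * x := by
  have hns := not_scalar_of_ne_one h2 hg
  rw [mem_centralizer_iff_span g₀ hns] at hx hy
  obtain ⟨a, b, hx⟩ := hx
  obtain ⟨a', b', hy⟩ := hy
  apply Subtype.ext
  rw [Matrix.SpecialLinearGroup.coe_mul, Matrix.SpecialLinearGroup.coe_mul, hx, hy]
  have h1 : Commute (a • (1 : Matrix (Fin 2) (Fin 2) F) + b • (g₀ : Matrix (Fin 2) (Fin 2) F))
      (g₀ : Matrix (Fin 2) (Fin 2) F) :=
    ((Commute.one_left _).smul_left a).add_left ((Commute.refl _).smul_left b)
  exact ((Commute.one_right _).smul_right a').add_right (h1.smul_right b')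

/-- the normaliser of a torus is solvable -/
theorem solvable_normalizer (h2 : (2 : F) = 0) (g₀ : SL)
    (ht : (g₀ : Matrix (Fin 2) (Fin 2) F).trace ≠ 0) :
    Group.IsSolvable (Subgroup.normalizer
      ((Subgroup.centralizer ({g₀} : Set SL) : Subgroup SL) : Set SL)) := by
  have hg := ne_one_of_trace_ne_zero h2 ht
  apply solvable_of_commutators ((Subgroup.centralizer ({g₀} : Set SL)).subgroupOf _)
  · intro a ha b hb
    apply Subtype.ext
    exact centralizer_comm h2 hg a b ha hb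
  · intro m n
    rw [Subgroup.mem_subgroupOf, Subgroup.mem_centralizer_singleton_iff]
    have hm := (mem_normalizer_iff h2 g₀ ht m).1 m.2
    have hn := (mem_normalizer_iff h2 g₀ ht n).1 n.2
    have hm' : ∃ e : ℤ, e * e = 1 ∧ (m : SL) * g₀ * (m : SL)⁻¹ = g₀ ^ e := by
      rcases hm with h | h
      · exact ⟨1, by norm_num, by rw [h, zpow_one]⟩
      · exact ⟨-1, by norm_num, by rw [h, _root_.zpow_neg_one]⟩
    have hn' : ∃ e : ℤ, e * e = 1 ∧ (n : SL) * g₀ * (n : SL)⁻¹ = g₀ ^ e := by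
      rcases hn with h | h
      · exact ⟨1, by norm_num, by rw [h, zpow_one]⟩
      · exact ⟨-1, by norm_num, by rw [h, _root_.zpow_neg_one]⟩
    obtain ⟨em, hem, hm⟩ := hm'
    obtain ⟨en, hen, hn⟩ := hn'
    have h := comm_fix g₀ (m : SL) (n : SL) em en hem hen hm hn
    exact h

theorem conj_mem_centralizer_iff (h g₀ n : SL) :
    n ∈ Subgroup.centralizer ({g₀} : Set SL) ↔
      h * n * h⁻¹ ∈ Subgroup.centralizer ({h * g₀ * h⁻¹} : Set SL) := by
  rw [Subgroup.mem_centralizer_singleton_iff, Subgroup.mem_centralizer_singleton_iff]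
  constructor
  · intro hn
    calc h * n * h⁻¹ * (h * g₀ * h⁻¹) = h * (n * g₀) * h⁻¹ := by group
      _ = h * (g₀ * n) * h⁻¹ := by rw [hn]
      _ = h * g₀ * h⁻¹ * (h * n * h⁻¹) := by group
  · intro hn
    calc n * g₀ = h⁻¹ * (h * n * h⁻¹ * (h * g₀ * h⁻¹)) * h := by group
      _ = h⁻¹ * (h * g₀ * h⁻¹ * (h * n * h⁻¹)) * h := by rw [hn]
      _ = g₀ * n := by group

/-- if `h g₀ h⁻¹` commutes with `g₀ ≠ 1` then `h` normalises the centraliser of `g₀` -/
theorem mem_normalizer_of_conj_mem (h2 : (2 : F) = 0) {g₀ : SL} (hg : g₀ ≠ 1) (h : SL)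
    (hc : h * g₀ * h⁻¹ ∈ Subgroup.centralizer ({g₀} : Set SL)) :
    h ∈ Subgroup.normalizer ((Subgroup.centralizer ({g₀} : Set SL) : Subgroup SL) : Set SL) := by
  have hne : h * g₀ * h⁻¹ ≠ 1 := by
    intro h1
    apply hg
    calc g₀ = h⁻¹ * (h * g₀ * h⁻¹) * h := by group
      _ = 1 := by rw [h1]; group
  have heq := centralizer_eq_of_mem_span g₀ (h * g₀ * h⁻¹) hc (not_scalar_of_ne_one h2 hg)
    (not_scalar_of_ne_one h2 hne)
  rw [Subgroup.mem_set_normalizer_iff]
  intro n
  rw [SetLike.mem_coe, SetLike.mem_coe, conj_mem_centralizer_iff h g₀ n, heq]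

/-- **Solvable subgroups are local**: a nontrivial solvable subgroup of `SL₂` in characteristic
two normalises the centraliser of one of its nontrivial elements -/
theorem loc (h2 : (2 : F) = 0) (H : Subgroup SL) (hs : Group.IsSolvable H) (hH : H ≠ ⊥) :
    ∃ a ∈ H, a ≠ 1 ∧
      H ≤ Subgroup.normalizer ((Subgroup.centralizer ({a} : Set SL) : Subgroup SL) : Set SL) := by
  haveI : Nontrivial H := (Subgroup.nontrivial_iff_ne_bot H).mpr hH
  obtain ⟨A, hAn, hAne, hAc⟩ := exists_normal_abelian (H := H)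
  obtain ⟨a, haA, ha1⟩ : ∃ a : H, a ∈ A ∧ a ≠ 1 := by
    obtain ⟨a, ha⟩ := (Subgroup.ne_bot_iff_exists_ne_one).mp hAne
    exact ⟨a.1, a.2, fun h => ha (Subtype.ext h)⟩
  refine ⟨(a : SL), a.2, fun h => ha1 (Subtype.ext h), ?_⟩
  intro h hh
  apply mem_normalizer_of_conj_mem h2 (fun h => ha1 (Subtype.ext h))
  have hb : (⟨h, hh⟩ : H) * a * (⟨h, hh⟩ : H)⁻¹ ∈ A := hAn.conj_mem a haA _
  have hcomm := hAc _ hb a haA
  rw [Subgroup.mem_centralizer_singleton_iff]
  have := congrArg (Subtype.val) hcomm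
  simpa using this

end sl2

end Cfsg.Agent.Lib.Helper5.SL2Char2
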