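import Mathlib
import Cfsg.Agent.Lib.Helper5.SL2Char2a
import Cfsg.Agent.Lib.Helper5.SL2Count

set_option autoImplicit false

namespace Cfsg.Agent.Lib.Helper5.SL2Char2

open Matrix
open scoped commutatorElement

variable {F : Type*} [Field F]

local notation "SL" => SpecialLinearGroup (Fin 2) F

/-- the standard involution -/
def u0 : SL := ⟨!![1, 1; 0, 1], by rw [Matrix.det_fin_two_of]; ring⟩

theorem u0_coe : ((u0 : SL) : Matrix (Fin 2) (Fin 2) F) = !![1, 1; 0, 1] := rfl

theorem u0_ne_one : (u0 : SL) ≠ 1 := by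
  intro h
  have := congrArg (fun g : SL => (g : Matrix (Fin 2) (Fin 2) F) 0 1) h
  simp [u0] at this

theorem trace_u0 (h2 : (2 : F) = 0) : ((u0 : SL) : Matrix (Fin 2) (Fin 2) F).trace = 0 := by
  rw [u0_coe, Matrix.trace_fin_two_of]
  linear_combination h2

theorem u0_mul_self (h2 : (2 : F) = 0) : (u0 : SL) * u0 = 1 :=
  (mul_self_eq_one_iff h2 u0).2 (trace_u0 h2)

theorem u0_inv (h2 : (2 : F) = 0) : (u0 : SL)⁻¹ = u0 :=
  inv_eq_of_mul_eq_one_right (u0_mul_self h2)

/-- entries of an element of `SL₂` -/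
theorem entries (g : SL) : ∃ a b c d : F, (g : Matrix (Fin 2) (Fin 2) F) = !![a, b; c, d] ∧
    a * d - b * c = 1 ∧ (g : Matrix (Fin 2) (Fin 2) F) 0 0 = a ∧
    (g : Matrix (Fin 2) (Fin 2) F) 0 1 = b ∧ (g : Matrix (Fin 2) (Fin 2) F) 1 0 = c ∧
    (g : Matrix (Fin 2) (Fin 2) F) 1 1 = d ∧
    ((g⁻¹ : SL) : Matrix (Fin 2) (Fin 2) F) = !![d, -b; -c, a] := by
  refine ⟨_, _, _, _, Matrix.eta_fin_two _, ?_, rfl, rfl, rfl, rfl, ?_⟩
  · have := g.det_coe
    rw [Matrix.det_fin_two] at this
    exact this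
  · rw [Matrix.SpecialLinearGroup.coe_inv, Matrix.adjugate_fin_two]

/-- membership in the centraliser of `u0` -/
theorem mem_centralizer_u0 (h2 : (2 : F) = 0) (g : SL) :
    g ∈ Subgroup.centralizer ({(u0 : SL)} : Set SL) ↔
      (g : Matrix (Fin 2) (Fin 2) F) 1 0 = 0 ∧
        (g : Matrix (Fin 2) (Fin 2) F) 0 0 = (g : Matrix (Fin 2) (Fin 2) F) 1 1 := by
  rw [Subgroup.mem_centralizer_singleton_iff, coe_commute_iff, u0_coe]
  obtain ⟨a, b, c, d, hg, hdet, h00, h01, h10, h11, hinv⟩ := entries g
  rw [h10, h00, h11, hg]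
  constructor
  · intro h
    have e00 := congrFun (congrFun h 0) 0
    have e01 := congrFun (congrFun h 0) 1
    simp [Matrix.mul_apply, Fin.sum_univ_two] at e00 e01
    refine ⟨e00, by linear_combination e01⟩
  · rintro ⟨h1, h2'⟩
    ext i j
    fin_cases i <;> fin_cases j <;> simp [Matrix.mul_apply, Fin.sum_univ_two, h1, h2', add_comm]


/-- the lower-left entry of a conjugate -/
theorem conj_lower (c y : SL) :
    ((c * y * c⁻¹ : SL) : Matrix (Fin 2) (Fin 2) F) 1 0 =
      (y : Matrix (Fin 2) (Fin 2) F) 1 0 * (c : Matrix (Fin 2) (Fin 2) F) 1 1 ^ 2 +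
      ((y : Matrix (Fin 2) (Fin 2) F) 0 0 - (y : Matrix (Fin 2) (Fin 2) F) 1 1) *
        (c : Matrix (Fin 2) (Fin 2) F) 1 0 * (c : Matrix (Fin 2) (Fin 2) F) 1 1 -
      (y : Matrix (Fin 2) (Fin 2) F) 0 1 * (c : Matrix (Fin 2) (Fin 2) F) 1 0 ^ 2 := by
  obtain ⟨p, q, r, s, hc, hdet, h00, h01, h10, h11, hinv⟩ := entries c
  obtain ⟨p', q', r', s', hy, -, h00', h01', h10', h11', -⟩ := entries y
  rw [Matrix.SpecialLinearGroup.coe_mul, Matrix.SpecialLinearGroup.coe_mul, hinv, h10, h11, hc,
    h00', h01', h10', h11', hy]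
  simp [Matrix.mul_apply, Fin.sum_univ_two]
  ring

/-- the upper triangular subgroup -/
def Bor : Subgroup SL where
  carrier := {g | (g : Matrix (Fin 2) (Fin 2) F) 1 0 = 0}
  mul_mem' := by
    intro a b ha hb
    simp only [Set.mem_setOf_eq] at *
    rw [Matrix.SpecialLinearGroup.coe_mul, Matrix.mul_apply, Fin.sum_univ_two, ha, hb]
    ring
  one_mem' := by simp
  inv_mem' := by
    intro a ha
    simp only [Set.mem_setOf_eq] at *
    rw [Matrix.SpecialLinearGroup.coe_inv, Matrix.adjugate_fin_two]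
    simp [ha]

theorem mem_Bor (g : SL) : g ∈ (Bor : Subgroup SL) ↔ (g : Matrix (Fin 2) (Fin 2) F) 1 0 = 0 :=
  Iff.rfl

/-- the upper triangular subgroup is solvable -/
theorem solvable_Bor (h2 : (2 : F) = 0) : Group.IsSolvable (Bor : Subgroup SL) := by
  apply solvable_of_commutators ((Subgroup.centralizer ({(u0 : SL)} : Set SL)).subgroupOf _)
  · intro a ha b hb
    apply Subtype.ext
    exact centralizer_comm h2 u0_ne_one a b ha hb
  · intro m n
    rw [Subgroup.mem_subgroupOf, mem_centralizer_u0 h2]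
    obtain ⟨a, b, c, d, hm, hdet, -, -, h10, -, hinv⟩ := entries (m : SL)
    obtain ⟨a', b', c', d', hn, hdet', -, -, h10', -, hinv'⟩ := entries (n : SL)
    have hc : c = 0 := by rw [← h10]; exact m.2
    have hc' : c' = 0 := by rw [← h10']; exact n.2
    subst hc hc'
    have e : ((⁅m, n⁆ : (Bor : Subgroup SL)) : SL) = (m : SL) * (n : SL) * (m : SL)⁻¹ * (n : SL)⁻¹ := by
      rw [commutatorElement_def]; rfl
    rw [e, Matrix.SpecialLinearGroup.coe_mul, Matrix.SpecialLinearGroup.coe_mul,
      Matrix.SpecialLinearGroup.coe_mul, hinv, hinv', hm, hn]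
    simp [Matrix.mul_apply, Fin.sum_univ_two]
    ring


/-- elements normalising the centraliser of `u0` are upper triangular -/
theorem lower_zero_of_mem_normalizer (h2 : (2 : F) = 0) (g : SL)
    (hg : g ∈ Subgroup.normalizer
      ((Subgroup.centralizer ({(u0 : SL)} : Set SL) : Subgroup SL) : Set SL)) :
    (g : Matrix (Fin 2) (Fin 2) F) 1 0 = 0 := by
  rw [Subgroup.mem_set_normalizer_iff] at hg
  have h0 : (u0 : SL) ∈ Subgroup.centralizer ({(u0 : SL)} : Set SL) := by
    rw [Subgroup.mem_centralizer_singleton_iff]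
  have h1 := (hg u0).1 h0
  rw [SetLike.mem_coe, mem_centralizer_u0 h2] at h1
  obtain ⟨h10, -⟩ := h1
  rw [conj_lower, u0_coe] at h10
  simp at h10
  exact h10

section grp

variable {G : Type*} [Group G]

theorem solvable_closure_congr {G' : Type*} [Group G'] (e : G ≃* G') (x y : G) :
    Group.IsSolvable (Subgroup.closure ({x, y} : Set G)) ↔
      Group.IsSolvable (Subgroup.closure ({e x, e y} : Set G')) := by
  have h1 : Subgroup.closure ({e x, e y} : Set G') =
      (Subgroup.closure ({x, y} : Set G)).map e.toMonoidHom := by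
    rw [MonoidHom.map_closure, Set.image_pair]
    rfl
  have e2 : Subgroup.closure ({x, y} : Set G) ≃*
      (Subgroup.closure ({x, y} : Set G)).map e.toMonoidHom :=
    Subgroup.equivMapOfInjective _ _ e.injective
  rw [h1]
  constructor
  · intro h
    exact solvable_of_surjective (f := e2.toMonoidHom) e2.surjective
  · intro h
    exact solvable_of_surjective (f := e2.symm.toMonoidHom) e2.symm.surjective

theorem solvable_closure_of_mem (H : Subgroup G) (hs : Group.IsSolvable H) (x y : G)
    (hx : x ∈ H) (hy : y ∈ H) : Group.IsSolvable (Subgroup.closure ({x, y} : Set G)) := by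
  have hle : Subgroup.closure ({x, y} : Set G) ≤ H := by
    rw [Subgroup.closure_le]
    intro z hz
    rcases hz with rfl | rfl
    · exact hx
    · exact hy
  exact solvable_of_solvable_injective (Subgroup.inclusion_injective hle)

theorem solvable_closure_conj (c x y : G) :
    Group.IsSolvable (Subgroup.closure ({x, y} : Set G)) ↔
      Group.IsSolvable (Subgroup.closure ({c * x * c⁻¹, c * y * c⁻¹} : Set G)) :=
  solvable_closure_congr (MulAut.conj c) x y

end grp

/-- conjugation transports normalisers of centralisers -/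
theorem conj_mem_normalizer (c a h : SL)
    (hh : h ∈ Subgroup.normalizer ((Subgroup.centralizer ({a} : Set SL) : Subgroup SL) : Set SL)) :
    c * h * c⁻¹ ∈ Subgroup.normalizer
      ((Subgroup.centralizer ({c * a * c⁻¹} : Set SL) : Subgroup SL) : Set SL) := by
  rw [Subgroup.mem_set_normalizer_iff] at hh ⊢
  intro n
  have h1 : n ∈ Subgroup.centralizer ({c * a * c⁻¹} : Set SL) ↔
      c⁻¹ * n * c ∈ Subgroup.centralizer ({a} : Set SL) := by
    rw [conj_mem_centralizer_iff c a (c⁻¹ * n * c)]
    have : c * (c⁻¹ * n * c) * c⁻¹ = n := by group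
    rw [this]
  have h3 : c * h * c⁻¹ * n * (c * h * c⁻¹)⁻¹ ∈ Subgroup.centralizer ({c * a * c⁻¹} : Set SL) ↔
      h * (c⁻¹ * n * c) * h⁻¹ ∈ Subgroup.centralizer ({a} : Set SL) := by
    rw [conj_mem_centralizer_iff c a (h * (c⁻¹ * n * c) * h⁻¹)]
    have : c * (h * (c⁻¹ * n * c) * h⁻¹) * c⁻¹ = c * h * c⁻¹ * n * (c * h * c⁻¹)⁻¹ := by group
    rw [this]
  rw [SetLike.mem_coe, SetLike.mem_coe, h1, h3]
  exact hh (c⁻¹ * n * c)


section fin

variable [Fintype F] [DecidableEq F]

/-- **Criterion**: two elements generate a solvable group iff they lie in a common Borel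
subgroup or in the normaliser of a common torus -/
theorem criterion (h2 : (2 : F) = 0) (x y : SL) (hx : x ≠ 1) :
    Group.IsSolvable (Subgroup.closure ({x, y} : Set SL)) ↔
      (∃ c : SL, ((c * x * c⁻¹ : SL) : Matrix (Fin 2) (Fin 2) F) 1 0 = 0 ∧
        ((c * y * c⁻¹ : SL) : Matrix (Fin 2) (Fin 2) F) 1 0 = 0) ∨
      (∃ a : SL, (a : Matrix (Fin 2) (Fin 2) F).trace ≠ 0 ∧
        x ∈ Subgroup.normalizer ((Subgroup.centralizer ({a} : Set SL) : Subgroup SL) : Set SL) ∧
        y ∈ Subgroup.normalizer ((Subgroup.centralizer ({a} : Set SL) : Subgroup SL) : Set SL)) := by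
  constructor
  · intro hs
    have hxm : x ∈ Subgroup.closure ({x, y} : Set SL) := Subgroup.subset_closure (by simp)
    have hym : y ∈ Subgroup.closure ({x, y} : Set SL) := Subgroup.subset_closure (by simp)
    have hne : Subgroup.closure ({x, y} : Set SL) ≠ ⊥ := by
      intro h
      rw [h, Subgroup.mem_bot] at hxm
      exact hx hxm
    obtain ⟨a, haH, ha1, hle⟩ := loc h2 _ hs hne
    by_cases ht : (a : Matrix (Fin 2) (Fin 2) F).trace = 0
    · left
      have hconj := isConj_of_trace_zero_even h2 a u0 (not_scalar_of_ne_one h2 ha1)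
        (not_scalar_of_ne_one h2 u0_ne_one) ht (trace_u0 h2)
      obtain ⟨c, hc⟩ := isConj_iff.1 hconj
      refine ⟨c, ?_, ?_⟩
      · apply lower_zero_of_mem_normalizer h2
        rw [← hc]
        exact conj_mem_normalizer c a x (hle hxm)
      · apply lower_zero_of_mem_normalizer h2
        rw [← hc]
        exact conj_mem_normalizer c a y (hle hym)
    · right
      exact ⟨a, ht, hle hxm, hle hym⟩
  · rintro (⟨c, hcx, hcy⟩ | ⟨a, ht, hxa, hya⟩)
    · rw [solvable_closure_conj c]
      exact solvable_closure_of_mem Bor (solvable_Bor h2) _ _ hcx hcy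
    · exact solvable_closure_of_mem _ (solvable_normalizer h2 a ht) _ _ hxa hya

/-- the criterion for an element of nonzero trace -/
theorem criterion_torus (h2 : (2 : F) = 0) (x y : SL)
    (ht : (x : Matrix (Fin 2) (Fin 2) F).trace ≠ 0) :
    Group.IsSolvable (Subgroup.closure ({x, y} : Set SL)) ↔
      (∃ c : SL, ((c * x * c⁻¹ : SL) : Matrix (Fin 2) (Fin 2) F) 1 0 = 0 ∧
        ((c * y * c⁻¹ : SL) : Matrix (Fin 2) (Fin 2) F) 1 0 = 0) ∨
      y ∈ Subgroup.normalizer ((Subgroup.centralizer ({x} : Set SL) : Subgroup SL) : Set SL) := by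
  have hx1 := ne_one_of_trace_ne_zero h2 ht
  rw [criterion h2 x y hx1]
  constructor
  · rintro (h | ⟨a, hta, hxa, hya⟩)
    · exact Or.inl h
    · right
      have ha1 := ne_one_of_trace_ne_zero h2 hta
      have hxZ : x ∈ Subgroup.centralizer ({a} : Set SL) := by
        by_contra hxZ
        have hinv := inverts_of_not_mem h2 a hta x hxa hxZ
        have haa : a ∈ Subgroup.centralizer ({a} : Set SL) := by
          rw [Subgroup.mem_centralizer_singleton_iff]
        have h1 := hinv a haa
        have hxx : x * x ∈ Subgroup.centralizer ({a} : Set SL) := by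
          rw [Subgroup.mem_centralizer_singleton_iff]
          have e1 : x * x * a * (x * x)⁻¹ = x * (x * a * x⁻¹) * x⁻¹ := by group
          have e2 : x * a⁻¹ * x⁻¹ = (x * a * x⁻¹)⁻¹ := by group
          have e3 : x * x * a * (x * x)⁻¹ = a := by rw [e1, h1, e2, h1, inv_inv]
          symm
          calc a * (x * x) = (x * x * a * (x * x)⁻¹) * (x * x) := by rw [e3]
            _ = x * x * a := by group
        have hxx1 : x * x ≠ 1 := by
          intro h
          exact ht ((mul_self_eq_one_iff h2 x).1 h)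
        have heq := centralizer_eq_of_mem_span a (x * x) hxx (not_scalar_of_ne_one h2 ha1)
          (not_scalar_of_ne_one h2 hxx1)
        apply hxZ
        rw [← heq, Subgroup.mem_centralizer_singleton_iff]
        group
      have heq := centralizer_eq_of_mem_span a x hxZ (not_scalar_of_ne_one h2 ha1)
        (not_scalar_of_ne_one h2 hx1)
      rw [heq]
      exact hya
  · rintro (h | h)
    · exact Or.inl h
    · right
      refine ⟨x, ht, ?_, h⟩
      exact Subgroup.le_normalizer (by rw [Subgroup.mem_centralizer_singleton_iff])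

end fin

end Cfsg.Agent.Lib.Helper5.SL2Char2
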