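import Mathlib
import Cfsg.Agent.Lib.Helper5.SL2Char2b
import Cfsg.Agent.Lib.Helper5.SL2Elements

set_option autoImplicit false

/-!
# `SL₂` in characteristic two: solubilisers of involutions, split and nonsplit elements
-/

namespace Cfsg.Agent.Lib.Helper5.SL2Char2

open Matrix
open scoped commutatorElement

variable {F : Type*} [Field F]

local notation "SL" => SpecialLinearGroup (Fin 2) F

theorem inv_eq_self_of_trace (h2 : (2 : F) = 0) (y : SL)
    (ht : (y : Matrix (Fin 2) (Fin 2) F).trace = 0) : y⁻¹ = y :=
  inv_eq_of_mul_eq_one_right ((mul_self_eq_one_iff h2 y).2 ht)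

/-- diagonal elements -/
def dg (l : Fˣ) : SL := ⟨!![(l : F), 0; 0, ((l⁻¹ : Fˣ) : F)], by
  rw [Matrix.det_fin_two_of]; simp⟩

theorem dg_coe (l : Fˣ) :
    ((dg l : SL) : Matrix (Fin 2) (Fin 2) F) = !![(l : F), 0; 0, ((l⁻¹ : Fˣ) : F)] := rfl

/-- the Weyl element -/
def w0 (h2 : (2 : F) = 0) : SL := ⟨!![0, 1; 1, 0], by
  rw [Matrix.det_fin_two_of]; linear_combination -h2⟩

theorem w0_coe (h2 : (2 : F) = 0) :
    ((w0 h2 : SL) : Matrix (Fin 2) (Fin 2) F) = !![0, 1; 1, 0] := rfl

theorem unit_sub_inv_ne (h2 : (2 : F) = 0) (l : Fˣ) (hl : l ≠ 1) :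
    (l : F) - ((l⁻¹ : Fˣ) : F) ≠ 0 := by
  intro h
  apply hl
  have h1 : (l : F) * ((l⁻¹ : Fˣ) : F) = 1 := by
    rw [← Units.val_mul, mul_inv_cancel, Units.val_one]
  have h3 : ((l : F) - 1) ^ 2 = 0 := by
    linear_combination (l : F) * h + h1 + (1 - (l : F)) * h2
  have h4 : (l : F) = 1 := sub_eq_zero.1 ((pow_eq_zero_iff two_ne_zero).1 h3)
  exact Units.ext h4

theorem trace_dg_ne (h2 : (2 : F) = 0) (l : Fˣ) (hl : l ≠ 1) :
    ((dg l : SL) : Matrix (Fin 2) (Fin 2) F).trace ≠ 0 := by
  rw [dg_coe, Matrix.trace_fin_two_of]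
  intro h
  apply unit_sub_inv_ne h2 l hl
  linear_combination h - ((l⁻¹ : Fˣ) : F) * h2

section fin

variable [Fintype F] [DecidableEq F]

/-- the solubiliser of the standard involution -/
theorem sol_u0_iff (h2 : (2 : F) = 0) (y : SL) :
    Group.IsSolvable (Subgroup.closure ({(u0 : SL), y} : Set SL)) ↔
      (y : Matrix (Fin 2) (Fin 2) F) 1 0 = 0 ∨ (y : Matrix (Fin 2) (Fin 2) F).trace = 0 ∨
        ((u0 * y : SL) : Matrix (Fin 2) (Fin 2) F).trace = 0 := by
  have hu := u0_inv (F := F) h2
  have huu := u0_mul_self (F := F) h2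
  have hBor : ∀ y : SL, (y : Matrix (Fin 2) (Fin 2) F) 1 0 = 0 →
      Group.IsSolvable (Subgroup.closure ({(u0 : SL), y} : Set SL)) := by
    intro y h
    exact solvable_closure_of_mem Bor (solvable_Bor h2) _ _ (by rw [mem_Bor, u0_coe]; simp) h
  -- two involutions with product `w`
  have hdih : ∀ y : SL, (y : Matrix (Fin 2) (Fin 2) F).trace = 0 →
      Group.IsSolvable (Subgroup.closure ({(u0 : SL), y} : Set SL)) := by
    intro y hy
    have hyi := inv_eq_self_of_trace h2 y hy
    by_cases hw : ((u0 * y : SL) : Matrix (Fin 2) (Fin 2) F).trace = 0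
    · apply hBor
      have hwi := inv_eq_self_of_trace h2 _ hw
      rw [_root_.mul_inv_rev, hu, hyi] at hwi
      have : y ∈ Subgroup.centralizer ({(u0 : SL)} : Set SL) := by
        rw [Subgroup.mem_centralizer_singleton_iff]
        exact hwi
      exact ((mem_centralizer_u0 h2 y).1 this).1
    · apply solvable_closure_of_mem _ (solvable_normalizer h2 (u0 * y) hw)
      · rw [mem_normalizer_iff h2 _ hw]
        right
        rw [hu, _root_.mul_inv_rev, hu, hyi, ← mul_assoc, huu, one_mul]
      · rw [mem_normalizer_iff h2 _ hw]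
        right
        rw [hyi, _root_.mul_inv_rev, hu, hyi, mul_assoc, mul_assoc]
        have : y * y = 1 := (mul_self_eq_one_iff h2 y).2 hy
        rw [this, mul_one]
  constructor
  · intro hs
    rw [criterion h2 u0 y u0_ne_one] at hs
    rcases hs with ⟨c, hcu, hcy⟩ | ⟨a, hta, hua, hya⟩
    · left
      obtain ⟨p, q, r, s, hc, hdet, h00, h01, h10, h11, hinv⟩ := entries c
      rw [conj_lower, u0_coe, h10, h11] at hcu
      simp at hcu
      rw [conj_lower, h10, h11, hcu] at hcy
      rw [hcu] at hdet
      have hs : s ≠ 0 := by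
        rintro rfl
        simp at hdet
      have : (y : Matrix (Fin 2) (Fin 2) F) 1 0 * s ^ 2 = 0 := by linear_combination hcy
      rcases mul_eq_zero.1 this with h | h
      · exact h
      · exact absurd (pow_eq_zero_iff two_ne_zero |>.1 h) hs
    · right
      have huZ : (u0 : SL) ∉ Subgroup.centralizer ({a} : Set SL) := by
        intro h
        have h' : a ∈ Subgroup.centralizer ({(u0 : SL)} : Set SL) := by
          rw [Subgroup.mem_centralizer_singleton_iff] at h ⊢
          exact h.symm
        obtain ⟨-, h3⟩ := (mem_centralizer_u0 h2 a).1 h'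
        apply hta
        rw [Matrix.trace_fin_two, h3]
        linear_combination (a : Matrix (Fin 2) (Fin 2) F) 1 1 * h2
      have hinv := inverts_of_not_mem h2 a hta u0 hua huZ
      by_cases hyZ : y ∈ Subgroup.centralizer ({a} : Set SL)
      · right
        rw [← mul_self_eq_one_iff h2]
        have h1 := hinv y hyZ
        rw [hu] at h1
        calc u0 * y * (u0 * y) = (u0 * y * u0) * y := by group
          _ = 1 := by rw [h1]; group
      · left
        rw [← mul_self_eq_one_iff h2]
        have hinvy := inverts_of_not_mem h2 a hta y hya hyZ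
        have haa : a ∈ Subgroup.centralizer ({a} : Set SL) := by
          rw [Subgroup.mem_centralizer_singleton_iff]
        have hz : u0 * y ∈ Subgroup.centralizer ({a} : Set SL) := by
          rw [Subgroup.mem_centralizer_singleton_iff]
          have e1 := hinvy a haa
          have e2 := hinv a haa
          have e3 : u0 * y * a * (u0 * y)⁻¹ = a := by
            calc u0 * y * a * (u0 * y)⁻¹ = u0 * (y * a * y⁻¹) * u0⁻¹ := by group
              _ = (u0 * a * u0⁻¹)⁻¹ := by rw [e1]; group
              _ = a := by rw [e2, inv_inv]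
          symm
          calc a * (u0 * y) = (u0 * y * a * (u0 * y)⁻¹) * (u0 * y) := by rw [e3]
            _ = u0 * y * a := by group
        have h1 := hinv _ hz
        rw [hu] at h1
        obtain ⟨z, hzdef⟩ : ∃ z : SL, z = u0 * y := ⟨_, rfl⟩
        rw [← hzdef] at h1
        have hy' : y = u0 * z := by rw [hzdef, ← mul_assoc, huu, one_mul]
        rw [hy']
        calc u0 * z * (u0 * z) = (u0 * z * u0) * z := by group
          _ = 1 := by rw [h1, inv_mul_cancel]
  · rintro (h | h | h)
    · exact hBor y h
    · exact hdih y h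
    · by_cases hy : (y : Matrix (Fin 2) (Fin 2) F).trace = 0
      · exact hdih y hy
      · apply solvable_closure_of_mem _ (solvable_normalizer h2 y hy)
        · rw [mem_normalizer_iff h2 _ hy]
          right
          have hwi := (mul_self_eq_one_iff h2 _).2 h
          rw [hu]
          calc u0 * y * u0 = (u0 * y * (u0 * y)) * y⁻¹ := by group
            _ = y⁻¹ := by rw [hwi, one_mul]
        · exact Subgroup.le_normalizer (by rw [Subgroup.mem_centralizer_singleton_iff])


/-- the solubiliser of a diagonal element -/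
theorem sol_dg_iff (h2 : (2 : F) = 0) (l : Fˣ) (hl : l ≠ 1) (y : SL) :
    Group.IsSolvable (Subgroup.closure ({(dg l : SL), y} : Set SL)) ↔
      (y : Matrix (Fin 2) (Fin 2) F) 1 0 = 0 ∨
        ((y : Matrix (Fin 2) (Fin 2) F) 1 0 ≠ 0 ∧
          (y : Matrix (Fin 2) (Fin 2) F) 1 1 = ((y : Matrix (Fin 2) (Fin 2) F) 0 0)⁻¹) := by
  have ht := trace_dg_ne h2 l hl
  have hsub := unit_sub_inv_ne h2 l hl
  have hl1 : (l : F) * ((l⁻¹ : Fˣ) : F) = 1 := by
    rw [← Units.val_mul, mul_inv_cancel, Units.val_one]
  obtain ⟨a, b, c, d, hy, hdet, h00, h01, h10, h11, hinv⟩ := entries y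
  rw [h10, h11, h00]
  rw [criterion_torus h2 _ y ht]
  constructor
  · rintro (⟨k, hkx, hky⟩ | hN)
    · obtain ⟨p, q, r, s, hk, hdetk, -, -, k10, k11, -⟩ := entries k
      rw [conj_lower, k10, k11, dg_coe] at hkx
      simp at hkx
      rw [conj_lower, k10, k11, h00, h01, h10, h11] at hky
      have e : ((l⁻¹ : Fˣ) : F) = (l : F)⁻¹ := by simp
      rw [e] at hsub
      rcases hkx with (hkx | hr) | hs
      · exact absurd hkx hsub
      · left
        subst hr
        have hs : s ≠ 0 := by
          rintro rfl
          simp at hdetk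
        have : c * s ^ 2 = 0 := by linear_combination hky
        rcases mul_eq_zero.1 this with h | h
        · exact h
        · exact absurd (pow_eq_zero_iff two_ne_zero |>.1 h) hs
      · subst hs
        have hr : r ≠ 0 := by
          rintro rfl
          simp at hdetk
        have hb : b = 0 := by
          have : b * r ^ 2 = 0 := by linear_combination -hky
          rcases mul_eq_zero.1 this with h | h
          · exact h
          · exact absurd (pow_eq_zero_iff two_ne_zero |>.1 h) hr
        subst hb
        by_cases hc : c = 0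
        · exact Or.inl hc
        · right
          refine ⟨hc, ?_⟩
          apply eq_inv_of_mul_eq_one_right
          linear_combination hdet
    · rw [mem_normalizer_iff h2 _ ht] at hN
      rcases hN with h | h
      · left
        have h' : y * dg l = dg l * y := by
          calc y * dg l = (y * dg l * y⁻¹) * y := by group
            _ = dg l * y := by rw [h]
        have e := congrArg (fun g : SL => (g : Matrix (Fin 2) (Fin 2) F) 1 0) h'
        simp only [Matrix.SpecialLinearGroup.coe_mul, dg_coe, hy] at e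
        simp [Matrix.mul_apply, Fin.sum_univ_two] at e
        have e' : ((l⁻¹ : Fˣ) : F) = (l : F)⁻¹ := by simp
        rw [e'] at hsub
        have : ((l : F) - (l : F)⁻¹) * c = 0 := by linear_combination e
        exact (mul_eq_zero.1 this).resolve_left hsub
      · right
        have h' : y * dg l = (dg l)⁻¹ * y := by
          calc y * dg l = (y * dg l * y⁻¹) * y := by group
            _ = (dg l)⁻¹ * y := by rw [h]
        have e0 := congrArg (fun g : SL => (g : Matrix (Fin 2) (Fin 2) F) 0 0) h'
        have e1 := congrArg (fun g : SL => (g : Matrix (Fin 2) (Fin 2) F) 1 1) h'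
        simp only [Matrix.SpecialLinearGroup.coe_mul, Matrix.SpecialLinearGroup.coe_inv,
          Matrix.adjugate_fin_two, dg_coe, hy] at e0 e1
        simp [Matrix.mul_apply, Fin.sum_univ_two] at e0 e1
        have e' : ((l⁻¹ : Fˣ) : F) = (l : F)⁻¹ := by simp
        rw [e'] at hsub
        have ha : a = 0 := by
          have : ((l : F) - (l : F)⁻¹) * a = 0 := by linear_combination e0
          exact (mul_eq_zero.1 this).resolve_left hsub
        have hd : d = 0 := by
          have : ((l : F) - (l : F)⁻¹) * d = 0 := by linear_combination -e1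
          exact (mul_eq_zero.1 this).resolve_left hsub
        subst ha hd
        refine ⟨?_, by rw [_root_.inv_zero]⟩
        rintro rfl
        simp at hdet
  · rintro (hc | ⟨hc, hd⟩)
    · left
      refine ⟨1, ?_, ?_⟩
      · simp [dg_coe]
      · simp [h10, hc]
    · by_cases ha : a = 0
      · right
        subst ha
        rw [_root_.inv_zero] at hd
        subst hd
        rw [mem_normalizer_iff h2 _ ht]
        right
        apply Subtype.ext
        rw [Matrix.SpecialLinearGroup.coe_mul, Matrix.SpecialLinearGroup.coe_mul, hinv, hy,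
          Matrix.SpecialLinearGroup.coe_inv, Matrix.adjugate_fin_two, dg_coe]
        ext i j
        fin_cases i <;> fin_cases j <;> simp [Matrix.mul_apply, Fin.sum_univ_two]
        · linear_combination ((l : F))⁻¹ * hdet
        · linear_combination ((l : F)) * hdet
      · left
        have hb : b = 0 := by
          have h1 : a * d = 1 := by rw [hd]; exact mul_inv_cancel₀ ha
          have : b * c = 0 := by linear_combination h1 - hdet
          exact (mul_eq_zero.1 this).resolve_right hc
        refine ⟨w0 h2, ?_, ?_⟩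
        · rw [conj_lower, w0_coe, dg_coe]
          simp
        · rw [conj_lower, w0_coe, h01, hb]
          simp


omit [Fintype F] [DecidableEq F] in
/-- powers act on eigenvectors -/
theorem pow_mulVec (x : SL) (μ : F) (v : Fin 2 → F)
    (hv : (x : Matrix (Fin 2) (Fin 2) F).mulVec v = μ • v) (n : ℕ) :
    ((x ^ n : SL) : Matrix (Fin 2) (Fin 2) F).mulVec v = μ ^ n • v := by
  induction n with
  | zero => simp
  | succ n ih =>
    rw [pow_succ, Matrix.SpecialLinearGroup.coe_mul, ← Matrix.mulVec_mulVec, hv,
      Matrix.mulVec_smul, ih, smul_smul, pow_succ, mul_comm]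

omit [Fintype F] [DecidableEq F] in
theorem trace_ne_zero_of_pow_odd (h2 : (2 : F) = 0) (x : SL) (hx1 : x ≠ 1) (m : ℕ)
    (hx : x ^ (2 * m + 1) = 1) : (x : Matrix (Fin 2) (Fin 2) F).trace ≠ 0 := by
  intro ht
  apply hx1
  have h1 := (mul_self_eq_one_iff h2 x).2 ht
  rw [pow_succ, pow_mul, pow_two, h1, one_pow, one_mul] at hx
  exact hx

theorem sq_ne_four_iff (h2 : (2 : F) = 0) (t : F) : t ^ 2 ≠ 4 ↔ t ≠ 0 := by
  have h4 : (4 : F) = 0 := by
    have : (4 : F) = 2 * 2 := by norm_num
    rw [this, h2, zero_mul]
  rw [h4]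
  exact not_congr (pow_eq_zero_iff two_ne_zero)

/-- an element of odd order dividing `q + 1` has irreducible characteristic polynomial -/
theorem no_root_of_pow (h2 : (2 : F) = 0) (hq : Even (Fintype.card F)) (x : SL) (hx1 : x ≠ 1)
    (hx : x ^ (Fintype.card F + 1) = 1) (μ : F) :
    μ ^ 2 - (x : Matrix (Fin 2) (Fin 2) F).trace * μ + 1 ≠ 0 := by
  intro hμ
  obtain ⟨m, hm⟩ := even_iff_two_dvd.1 hq
  have ht : (x : Matrix (Fin 2) (Fin 2) F).trace ≠ 0 := by
    apply trace_ne_zero_of_pow_odd h2 x hx1 m
    rw [← hm]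
    exact hx
  obtain ⟨v, hv0, hv⟩ := exists_eigenvector_of_root x μ hμ
  have h1 := pow_mulVec x μ v hv (Fintype.card F + 1)
  rw [hx, Matrix.SpecialLinearGroup.coe_one, Matrix.one_mulVec, pow_succ,
    FiniteField.pow_card] at h1
  have h3 : (1 - μ * μ) • v = 0 := by
    rw [sub_smul, one_smul, ← h1, sub_self]
  rcases smul_eq_zero.1 h3 with h4 | h4
  · have h5 : (μ - 1) ^ 2 = 0 := by linear_combination -h4 - μ * h2 + h2
    have h6 : μ = 1 := sub_eq_zero.1 ((pow_eq_zero_iff two_ne_zero).1 h5)
    apply ht
    rw [h6] at hμ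
    linear_combination -hμ + h2
  · exact hv0 h4

/-- the solubiliser of a nonsplit element -/
theorem sol_nonsplit_iff (h2 : (2 : F) = 0) (hq : Even (Fintype.card F)) (x : SL) (hx1 : x ≠ 1)
    (hx : x ^ (Fintype.card F + 1) = 1) (y : SL) :
    Group.IsSolvable (Subgroup.closure ({x, y} : Set SL)) ↔
      y ∈ Subgroup.normalizer ((Subgroup.centralizer ({x} : Set SL) : Subgroup SL) : Set SL) := by
  obtain ⟨m, hm⟩ := even_iff_two_dvd.1 hq
  have ht : (x : Matrix (Fin 2) (Fin 2) F).trace ≠ 0 := by
    apply trace_ne_zero_of_pow_odd h2 x hx1 m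
    rw [← hm]
    exact hx
  rw [criterion_torus h2 x y ht]
  constructor
  · rintro (⟨c, hcx, -⟩ | h)
    · exfalso
      obtain ⟨a, b, c', d, hz, hdet, h00, h01, h10, h11, -⟩ := entries (c * x * c⁻¹)
      rw [h10] at hcx
      subst hcx
      apply no_root_of_pow h2 hq x hx1 hx a
      rw [← trace_conj c x, Matrix.trace_fin_two, h00, h11]
      linear_combination -hdet
    · exact h
  · exact Or.inr

end fin

end Cfsg.Agent.Lib.Helper5.SL2Char2
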