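import Mathlib
import Cfsg.Agent.Lib.Helper5.SL2Char2c

set_option autoImplicit false

/-!
# `SL₂` in characteristic two: cardinalities of solubilisers
-/

namespace Cfsg.Agent.Lib.Helper5.SL2Char2

open Matrix
open scoped commutatorElement

theorem card_or {α : Type*} [Finite α] (P Q : α → Prop) (h : ∀ a, P a → ¬ Q a) :
    Nat.card {a // P a ∨ Q a} = Nat.card {a // P a} + Nat.card {a // Q a} := by
  classical
  haveI := Fintype.ofFinite α
  rw [Nat.card_eq_fintype_card, Nat.card_eq_fintype_card, Nat.card_eq_fintype_card]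
  exact Fintype.card_subtype_or_disjoint P Q (fun r hrp hrq a hra => h a (hrp a hra) (hrq a hra))

variable {F : Type*} [Field F]

local notation "SL" => SpecialLinearGroup (Fin 2) F

/-- upper triangular elements -/
noncomputable def lowerZeroEquiv :
    {y : SL // (y : Matrix (Fin 2) (Fin 2) F) 1 0 = 0} ≃ Fˣ × F where
  toFun y := (Units.mk0 ((y.1 : Matrix (Fin 2) (Fin 2) F) 0 0) (by
      intro h
      have := y.1.det_coe
      rw [Matrix.det_fin_two, h, y.2] at this
      simp at this), (y.1 : Matrix (Fin 2) (Fin 2) F) 0 1)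
  invFun p := ⟨⟨!![(p.1 : F), p.2; 0, ((p.1⁻¹ : Fˣ) : F)], by
    rw [Matrix.det_fin_two_of]; simp⟩, by simp⟩
  left_inv y := by
    apply Subtype.ext
    apply Subtype.ext
    obtain ⟨a, b, c, d, hy, hdet, h00, h01, h10, h11, -⟩ := entries y.1
    have hc : c = 0 := by rw [← h10]; exact y.2
    subst hc
    have ha : a ≠ 0 := by
      rintro rfl
      simp at hdet
    have hd : d = a⁻¹ := by
      apply eq_inv_of_mul_eq_one_right
      linear_combination hdet
    simp only [Units.val_mk0, Units.val_inv_eq_inv_val]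
    rw [h00, h01, hy, hd]
  right_inv p := by
    ext <;> simp

/-- elements with nonzero lower-left entry and prescribed lower-right entry -/
noncomputable def lowerNeEquiv (f : F → F → F) :
    {y : SL // (y : Matrix (Fin 2) (Fin 2) F) 1 0 ≠ 0 ∧
      (y : Matrix (Fin 2) (Fin 2) F) 1 1 =
        f ((y : Matrix (Fin 2) (Fin 2) F) 0 0) ((y : Matrix (Fin 2) (Fin 2) F) 1 0)} ≃ F × Fˣ where
  toFun y := ((y.1 : Matrix (Fin 2) (Fin 2) F) 0 0,
    Units.mk0 ((y.1 : Matrix (Fin 2) (Fin 2) F) 1 0) y.2.1)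
  invFun p := ⟨⟨!![p.1, (p.1 * f p.1 p.2 - 1) / (p.2 : F); (p.2 : F), f p.1 p.2], by
    rw [Matrix.det_fin_two_of, div_mul_cancel₀ _ p.2.ne_zero]; ring⟩, by
    refine ⟨?_, ?_⟩
    · simp
    · simp⟩
  left_inv y := by
    apply Subtype.ext
    apply Subtype.ext
    obtain ⟨a, b, c, d, hy, hdet, h00, h01, h10, h11, -⟩ := entries y.1
    have hc : c ≠ 0 := by rw [← h10]; exact y.2.1
    have hd : d = f a c := by
      have := y.2.2
      rw [h11, h00, h10] at this
      exact this
    simp only [Units.val_mk0]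
    rw [h00, h10, hy, ← hd]
    have hb : (a * d - 1) / c = b := by
      rw [div_eq_iff hc]
      linear_combination hdet
    rw [hb]
  right_inv p := by
    ext <;> simp

section fin

variable [Fintype F] [DecidableEq F]

theorem card_lower_zero :
    Nat.card {y : SL // (y : Matrix (Fin 2) (Fin 2) F) 1 0 = 0} =
      Fintype.card F * (Fintype.card F - 1) := by
  rw [Nat.card_congr lowerZeroEquiv, Nat.card_prod, Nat.card_eq_fintype_card,
    Nat.card_eq_fintype_card, Fintype.card_units, mul_comm]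

theorem card_lower_ne (f : F → F → F) :
    Nat.card {y : SL // (y : Matrix (Fin 2) (Fin 2) F) 1 0 ≠ 0 ∧
      (y : Matrix (Fin 2) (Fin 2) F) 1 1 =
        f ((y : Matrix (Fin 2) (Fin 2) F) 0 0) ((y : Matrix (Fin 2) (Fin 2) F) 1 0)} =
      Fintype.card F * (Fintype.card F - 1) := by
  rw [Nat.card_congr (lowerNeEquiv f), Nat.card_prod, Nat.card_eq_fintype_card,
    Nat.card_eq_fintype_card, Fintype.card_units]


/-- the solubiliser of an involution has `3 q (q - 1)` elements -/
theorem card_sol_u0 (h2 : (2 : F) = 0) :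
    Nat.card {y : SL // Group.IsSolvable (Subgroup.closure ({(u0 : SL), y} : Set SL))} =
      3 * Fintype.card F * (Fintype.card F - 1) := by
  have key : ∀ y : SL, Group.IsSolvable (Subgroup.closure ({(u0 : SL), y} : Set SL)) ↔
      ((y : Matrix (Fin 2) (Fin 2) F) 1 0 = 0 ∨
        (((y : Matrix (Fin 2) (Fin 2) F) 1 0 ≠ 0 ∧ (y : Matrix (Fin 2) (Fin 2) F) 1 1 =
          (fun a _ => a) ((y : Matrix (Fin 2) (Fin 2) F) 0 0) ((y : Matrix (Fin 2) (Fin 2) F) 1 0)) ∨
        ((y : Matrix (Fin 2) (Fin 2) F) 1 0 ≠ 0 ∧ (y : Matrix (Fin 2) (Fin 2) F) 1 1 =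
          (fun a c => a + c) ((y : Matrix (Fin 2) (Fin 2) F) 0 0)
            ((y : Matrix (Fin 2) (Fin 2) F) 1 0)))) := by
    intro y
    rw [sol_u0_iff h2]
    obtain ⟨a, b, c, d, hy, hdet, h00, h01, h10, h11, -⟩ := entries y
    have e1 : (y : Matrix (Fin 2) (Fin 2) F).trace = 0 ↔ d = a := by
      rw [Matrix.trace_fin_two, h00, h11]
      constructor
      · intro h; linear_combination h - a * h2
      · intro h; rw [h]; linear_combination a * h2
    have e2 : ((u0 * y : SL) : Matrix (Fin 2) (Fin 2) F).trace = 0 ↔ d = a + c := by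
      rw [Matrix.SpecialLinearGroup.coe_mul, u0_coe, hy, Matrix.trace_fin_two]
      simp [Matrix.mul_apply, Fin.sum_univ_two]
      constructor
      · intro h; linear_combination h - (a + c) * h2
      · intro h; rw [h]; linear_combination (a + c) * h2
    rw [e1, e2, h10, h11, h00]
    by_cases hc : c = 0
    · simp [hc]
    · simp [hc]
  rw [Nat.card_congr (Equiv.subtypeEquivRight key), card_or, card_or, card_lower_zero,
    card_lower_ne (fun a _ => a), card_lower_ne (fun a c => a + c)]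
  · ring
  · rintro y ⟨h1, h3⟩ ⟨-, h4⟩
    apply h1
    simp only at h3 h4
    rw [h3] at h4
    linear_combination -h4
  · rintro y h1 (⟨h3, -⟩ | ⟨h3, -⟩)
    · exact h3 h1
    · exact h3 h1

/-- the solubiliser of a split element has `2 q (q - 1)` elements -/
theorem card_sol_dg (h2 : (2 : F) = 0) (l : Fˣ) (hl : l ≠ 1) :
    Nat.card {y : SL // Group.IsSolvable (Subgroup.closure ({(dg l : SL), y} : Set SL))} =
      2 * Fintype.card F * (Fintype.card F - 1) := by
  have key : ∀ y : SL, Group.IsSolvable (Subgroup.closure ({(dg l : SL), y} : Set SL)) ↔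
      ((y : Matrix (Fin 2) (Fin 2) F) 1 0 = 0 ∨
        ((y : Matrix (Fin 2) (Fin 2) F) 1 0 ≠ 0 ∧ (y : Matrix (Fin 2) (Fin 2) F) 1 1 =
          (fun a _ => a⁻¹) ((y : Matrix (Fin 2) (Fin 2) F) 0 0)
            ((y : Matrix (Fin 2) (Fin 2) F) 1 0))) := by
    intro y
    rw [sol_dg_iff h2 l hl]
  rw [Nat.card_congr (Equiv.subtypeEquivRight key), card_or, card_lower_zero,
    card_lower_ne (fun a _ => a⁻¹)]
  · ring
  · rintro y h1 ⟨h3, -⟩
    exact h3 h1


theorem relIndex_centralizer_normalizer_even (h2 : (2 : F) = 0) (g₀ : SL)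
    (ht : (g₀ : Matrix (Fin 2) (Fin 2) F).trace ≠ 0) :
    (Subgroup.centralizer ({g₀} : Set SL)).relIndex
      (Subgroup.normalizer ((Subgroup.centralizer ({g₀} : Set SL) : Subgroup SL) : Set SL)) = 2 := by
  obtain ⟨w, hw⟩ := exists_inverting g₀ ((sq_ne_four_iff h2 _).2 ht)
  have hne : g₀⁻¹ ≠ g₀ := by
    intro h
    apply ht
    rw [← mul_self_eq_one_iff h2]
    nth_rewrite 1 [← h]
    exact inv_mul_cancel g₀
  rw [Subgroup.relIndex_eq_two_iff]
  refine ⟨w, (mem_normalizer_iff h2 g₀ ht w).2 (Or.inr hw), ?_⟩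
  intro b hb
  rw [mem_normalizer_iff h2 g₀ ht] at hb
  have hmem : ∀ x : SL, x ∈ Subgroup.centralizer ({g₀} : Set SL) ↔ x * g₀ * x⁻¹ = g₀ := by
    intro x
    rw [Subgroup.mem_centralizer_singleton_iff, mul_inv_eq_iff_eq_mul]
  have hbw : (b * w) * g₀ * (b * w)⁻¹ = b * (w * g₀ * w⁻¹) * b⁻¹ := by group
  rcases hb with hb | hb
  · right
    refine ⟨(hmem b).2 hb, ?_⟩
    rw [hmem, hbw, hw]
    have : b * g₀⁻¹ * b⁻¹ = (b * g₀ * b⁻¹)⁻¹ := by group
    rw [this, hb]
    exact hne
  · left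
    refine ⟨?_, ?_⟩
    · rw [hmem, hbw, hw]
      have : b * g₀⁻¹ * b⁻¹ = (b * g₀ * b⁻¹)⁻¹ := by group
      rw [this, hb, inv_inv]
    · rw [hmem, hb]
      exact hne

theorem card_normalizer_even (h2 : (2 : F) = 0) (g₀ : SL)
    (ht : (g₀ : Matrix (Fin 2) (Fin 2) F).trace ≠ 0) :
    Nat.card (Subgroup.normalizer ((Subgroup.centralizer ({g₀} : Set SL) : Subgroup SL) : Set SL)) =
      2 * Nat.card (Subgroup.centralizer ({g₀} : Set SL)) := by
  have h1 := relIndex_centralizer_normalizer_even h2 g₀ ht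
  have h3 := Subgroup.index_mul_card
    ((Subgroup.centralizer ({g₀} : Set SL)).subgroupOf
      (Subgroup.normalizer ((Subgroup.centralizer ({g₀} : Set SL) : Subgroup SL) : Set SL)))
  rw [← h3]
  have h4 : ((Subgroup.centralizer ({g₀} : Set SL)).subgroupOf
      (Subgroup.normalizer ((Subgroup.centralizer ({g₀} : Set SL) : Subgroup SL) : Set SL))).index =
      2 := h1
  rw [h4, Nat.card_congr (Subgroup.subgroupOfEquivOfLe (centralizer_le_normalizer g₀)).toEquiv]

/-- the solubiliser of a nonsplit element has `2 (q + 1)` elements -/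
theorem card_sol_nonsplit (h2 : (2 : F) = 0) (hq : Even (Fintype.card F)) (x : SL) (hx1 : x ≠ 1)
    (hx : x ^ (Fintype.card F + 1) = 1) :
    Nat.card {y : SL // Group.IsSolvable (Subgroup.closure ({x, y} : Set SL))} =
      2 * (Fintype.card F + 1) := by
  obtain ⟨m, hm⟩ := even_iff_two_dvd.1 hq
  have ht : (x : Matrix (Fin 2) (Fin 2) F).trace ≠ 0 := by
    apply trace_ne_zero_of_pow_odd h2 x hx1 m
    rw [← hm]
    exact hx
  rw [Nat.card_congr (Equiv.subtypeEquivRight (sol_nonsplit_iff h2 hq x hx1 hx))]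
  have h1 := card_normalizer_even h2 x ht
  have h3 := card_centralizer_generic x ((sq_ne_four_iff h2 _).2 ht)
  have h4 : rootCount (x : Matrix (Fin 2) (Fin 2) F).trace = 0 := by
    unfold rootCount
    rw [Finset.card_eq_zero, Finset.filter_eq_empty_iff]
    intro μ _
    exact no_root_of_pow h2 hq x hx1 hx μ
  rw [h4, add_zero] at h3
  rw [← h3, ← h1]

end fin

end Cfsg.Agent.Lib.Helper5.SL2Char2
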