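import Mathlib
import Cfsg.Prelude.Def_Characters
import Cfsg.Agent.Lib.Helper5.SL2Gauss
import Cfsg.Agent.S2301

set_option autoImplicit false

/-!
The difference of two irreducible characters of `SL₂(q)` exchanged by the diagonal automorphism:
its value at a transvection has absolute value `√q`.
-/

namespace Cfsg.Agent.Lib.Helper5

open Matrix
open Cfsg.Agent.Lib.Helper1 Cfsg.Agent.Lib.Helper4
open scoped ComplexConjugate

section
variable {F : Type*} [Field F]

/-- The upper unitriangular element with off-diagonal entry `x`. -/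
noncomputable def uSL (x : F) : SpecialLinearGroup (Fin 2) F :=
  ((slE ((1 : Fˣ), x) : borelSL F) : SpecialLinearGroup (Fin 2) F)

theorem uSL_coe (x : F) : ((uSL x : SpecialLinearGroup (Fin 2) F) : Matrix (Fin 2) (Fin 2) F)
    = !![1, x; 0, 1] := by
  unfold uSL
  rw [slE_coe]
  simp

theorem sigmaSL_uSL (ν : Fˣ) (x : F) : sigmaSL ν (uSL x) = uSL ((ν : F) * x) := by
  apply Subtype.ext
  show ((sigmaSL ν (uSL x) : SpecialLinearGroup (Fin 2) F) : Matrix (Fin 2) (Fin 2) F) = _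
  rw [sigmaSL_coe, uSL_coe, uSL_coe]
  simp

theorem isConj_uSL_iff (x y : F) (hx : x ≠ 0) (hy : y ≠ 0) :
    IsConj (uSL x) (uSL y) ↔ IsSquare (x * y) := by
  have h := Cfsg.Agent.S2301.conj_iff (uSL x) (uSL y) (by rw [uSL_coe]; rfl)
    (by rw [uSL_coe]; rfl) (by rw [uSL_coe]; rfl) (by rw [uSL_coe]; exact hx)
    (by rw [uSL_coe]; rfl) (by rw [uSL_coe]; rfl) (by rw [uSL_coe]; rfl)
    (by rw [uSL_coe]; exact hy)
  rw [h, uSL_coe, uSL_coe]
  rfl

/-- `slE (-1, x) = -1 * uSL (-x)`. -/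
theorem slE_neg_one (a : Fˣ) (ha : (a : F) = -1) (x : F) :
    ((slE (a, x) : borelSL F) : SpecialLinearGroup (Fin 2) F) = negOneSL * uSL (-x) := by
  apply Subtype.ext
  show (((slE (a, x) : borelSL F) : SpecialLinearGroup (Fin 2) F) : Matrix (Fin 2) (Fin 2) F) =
    ((negOneSL : SpecialLinearGroup (Fin 2) F) : Matrix (Fin 2) (Fin 2) F) *
      ((uSL (-x) : SpecialLinearGroup (Fin 2) F) : Matrix (Fin 2) (Fin 2) F)
  have hinv : ((a⁻¹ : Fˣ) : F) = -1 := by
    rw [Units.val_inv_eq_inv_val, ha]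
    norm_num
  rw [slE_coe, uSL_coe, negOneSL_scalar, ha, hinv, Matrix.smul_mul, Matrix.one_mul]
  ext i j
  fin_cases i <;> fin_cases j <;> simp

end

end Cfsg.Agent.Lib.Helper5
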