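import Mathlib
import Cfsg.Prelude.Def_Characters
import Cfsg.Agent.Lib.Helper5.SL2Odd

set_option autoImplicit false

/-!
Values of the characters of order two of `Fˣ` and of a cyclic torus.
-/

namespace Cfsg.Agent.Lib.Helper5

open Matrix

section
variable {F : Type*} [Field F] [Fintype F] [DecidableEq F]

/-- The product of two non-squares is a square. -/
theorem isSquare_mul_of_not_isSquare {a b : F} (ha : ¬ IsSquare a) (hb : ¬ IsSquare b) :
    IsSquare (a * b) := by
  have ha0 : a ≠ 0 := by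
    rintro rfl
    exact ha ⟨0, by simp⟩
  have hb0 : b ≠ 0 := by
    rintro rfl
    exact hb ⟨0, by simp⟩
  rw [← quadraticChar_one_iff_isSquare (mul_ne_zero ha0 hb0), map_mul,
    quadraticChar_neg_one_iff_not_isSquare.2 ha, quadraticChar_neg_one_iff_not_isSquare.2 hb]
  norm_num

omit [Fintype F] [DecidableEq F] in
theorem mulChar_mul_self_eq_one (α : MulChar F ℂ) (hα : α = α⁻¹) (a : F) (ha : a ≠ 0) :
    α a * α a = 1 := by
  have h1 : α a = α⁻¹ a := by
    conv_lhs => rw [hα]
  rw [MulChar.inv_apply_eq_inv'] at h1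
  have h0 : α a ≠ 0 := mulChar_ne_zero α ha
  nth_rewrite 2 [h1]
  exact mul_inv_cancel₀ h0

omit [Fintype F] [DecidableEq F] in
theorem mulChar_eq_one_of_isSquare (α : MulChar F ℂ) (hα : α = α⁻¹) (a : F) (ha : a ≠ 0)
    (hsq : IsSquare a) : α a = 1 := by
  obtain ⟨b, rfl⟩ := hsq
  have hb : b ≠ 0 := fun h => ha (by rw [h, mul_zero])
  rw [map_mul]
  exact mulChar_mul_self_eq_one α hα b hb

theorem mulChar_eq_neg_one_of_not_isSquare (α : MulChar F ℂ) (hα : α = α⁻¹) (hα1 : α ≠ 1)
    (a : F) (hsq : ¬ IsSquare a) : α a = -1 := by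
  have ha0 : a ≠ 0 := by
    rintro rfl
    exact hsq ⟨0, by simp⟩
  have h1 := mulChar_mul_self_eq_one α hα a ha0
  have h2 : (α a - 1) * (α a + 1) = 0 := by linear_combination h1
  rcases mul_eq_zero.1 h2 with h | h
  · exfalso
    have ha1 : α a = 1 := sub_eq_zero.1 h
    apply hα1
    ext b
    rw [MulChar.one_apply_coe]
    by_cases hb : IsSquare (b : F)
    · exact mulChar_eq_one_of_isSquare α hα b b.ne_zero hb
    · have hab := isSquare_mul_of_not_isSquare hsq hb
      have h3 := mulChar_eq_one_of_isSquare α hα (a * b) (mul_ne_zero ha0 b.ne_zero) hab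
      rw [map_mul, ha1, one_mul] at h3
      exact h3
  · exact eq_neg_of_add_eq_zero_left h

end

section
variable {F : Type*} [Field F] [Fintype F]
  (C : Subgroup (SpecialLinearGroup (Fin 2) F))

/-- Values of the character of order two of a cyclic group of even order `2m`. -/
theorem quadHom_apply {A : Type*} [Group A] [Finite A] (hA : IsCyclic A) (m : ℕ) (hm : 0 < m)
    (hcard : Nat.card A = 2 * m) (θ : A →* ℂˣ) (hθ : θ = θ⁻¹) (hθ1 : θ ≠ 1) (c : A) :
    (c ^ m = 1 → θ c = 1) ∧ (c ^ m ≠ 1 → θ c = -1) := by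
  obtain ⟨γ, hγ⟩ := hA.exists_generator
  have hord : orderOf γ = 2 * m := by
    rw [orderOf_eq_card_of_forall_mem_zpowers hγ, hcard]
  have hγγ : θ γ * θ γ = 1 := by
    have h1 : θ γ = (θ γ)⁻¹ := by
      conv_lhs => rw [hθ]
      rfl
    rw [← eq_inv_iff_mul_eq_one]
    exact h1
  have hpow : ∀ x : A, ∃ k : ℕ, γ ^ k = x := by
    intro x
    have hx := hγ x
    rw [← mem_powers_iff_mem_zpowers] at hx
    exact hx
  have hγ1 : θ γ = -1 := by
    have h2 : ((θ γ : ℂ) - 1) * ((θ γ : ℂ) + 1) = 0 := by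
      have := congrArg (fun z : ℂˣ => (z : ℂ)) hγγ
      simp only [Units.val_mul, Units.val_one] at this
      linear_combination this
    rcases mul_eq_zero.1 h2 with h | h
    · exfalso
      have hγ1 : θ γ = 1 := by
        apply Units.ext
        rw [Units.val_one]
        exact sub_eq_zero.1 h
      apply hθ1
      ext x
      obtain ⟨k, rfl⟩ := hpow x
      rw [map_pow, hγ1, one_pow, MonoidHom.one_apply]
    · apply Units.ext
      rw [Units.val_neg, Units.val_one]
      exact eq_neg_of_add_eq_zero_left h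
  obtain ⟨k, rfl⟩ := hpow c
  have hiff : (γ ^ k) ^ m = 1 ↔ Even k := by
    rw [← pow_mul, ← orderOf_dvd_iff_pow_eq_one, hord]
    constructor
    · intro h
      rw [mul_comm k m, mul_comm 2 m] at h
      have := Nat.dvd_of_mul_dvd_mul_left hm h
      exact even_iff_two_dvd.2 this
    · rintro ⟨j, rfl⟩
      exact ⟨j, by ring⟩
  rw [map_pow, hγ1]
  constructor
  · intro h
    exact (hiff.1 h).neg_one_pow
  · intro h
    have hodd : Odd k := Nat.not_even_iff_odd.1 (fun he => h (hiff.2 he))
    exact hodd.neg_one_pow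

end

end Cfsg.Agent.Lib.Helper5
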