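import Mathlib
import Cfsg.Prelude.Def_Characters
import Cfsg.Agent.Lib.Helper5.SL2Gauss2
import Cfsg.Agent.Lib.Helper5.SL2QuadValues

set_option autoImplicit false
set_option linter.unusedSectionVars false

/-!
The difference of two irreducible characters of `SL₂(q)` exchanged by the diagonal automorphism:
its value at a transvection has absolute value `√q`.
-/

namespace Cfsg.Agent.Lib.Helper5

open Matrix
open Cfsg.Agent.Lib.Helper1 Cfsg.Agent.Lib.Helper4
open scoped ComplexConjugate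

section
variable {F : Type*} [Field F] [Fintype F] [DecidableEq F]

/-- A pair of irreducible characters exchanged by the diagonal automorphism. -/
structure SigmaPair (ν : Fˣ) (χ₁ χ₂ : SpecialLinearGroup (Fin 2) F → ℂ) : Prop where
  odd : Odd (Fintype.card F)
  nonsq : ¬ IsSquare (ν : F)
  irr₁ : Cfsg.IsIrrCharacter (SpecialLinearGroup (Fin 2) F) χ₁
  irr₂ : Cfsg.IsIrrCharacter (SpecialLinearGroup (Fin 2) F) χ₂
  ne : χ₁ ≠ χ₂
  σ₁ : ∀ g, χ₁ (sigmaSL ν g) = χ₂ g
  σ₂ : ∀ g, χ₂ (sigmaSL ν g) = χ₁ g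

namespace SigmaPair

variable {ν : Fˣ} {χ₁ χ₂ : SpecialLinearGroup (Fin 2) F → ℂ}

/-- The difference of the two characters. -/
def diff (_P : SigmaPair ν χ₁ χ₂) : SpecialLinearGroup (Fin 2) F → ℂ := fun g => χ₁ g - χ₂ g

theorem diff_classFun (P : SigmaPair ν χ₁ χ₂) :
    Cfsg.IsClassFunction (SpecialLinearGroup (Fin 2) F) P.diff :=
  isClassFunction_sub (isClassFunction_of_isCharacter (isCharacter_of_irr P.irr₁))
    (isClassFunction_of_isCharacter (isCharacter_of_irr P.irr₂))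

theorem diff_sigma (P : SigmaPair ν χ₁ χ₂) (g : SpecialLinearGroup (Fin 2) F) :
    P.diff (sigmaSL ν g) = - P.diff g := by
  unfold diff
  rw [P.σ₁, P.σ₂]
  ring

theorem diff_eq_zero (P : SigmaPair ν χ₁ χ₂) (g : SpecialLinearGroup (Fin 2) F)
    (hg : IsConj (sigmaSL ν g) g) : P.diff g = 0 := by
  have h := classFun_of_isConj P.diff_classFun hg
  rw [P.diff_sigma] at h
  have h3 : (2 : ℂ) * P.diff g = 0 := by linear_combination -h
  exact (mul_eq_zero.1 h3).resolve_left two_ne_zero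

theorem diff_norm (P : SigmaPair ν χ₁ χ₂) : Cfsg.classInner P.diff P.diff = 2 := by
  have hD' : P.diff = χ₁ - χ₂ := rfl
  rw [hD', classInner_sub_left, classInner_sub_right, classInner_sub_right,
    classInner_irr_self P.irr₁, classInner_irr_self P.irr₂, classInner_irr_ne P.irr₁ P.irr₂ P.ne,
    classInner_irr_ne P.irr₂ P.irr₁ P.ne.symm]
  norm_num

/-- The squared absolute value of the difference. -/
def phi (P : SigmaPair ν χ₁ χ₂) : SpecialLinearGroup (Fin 2) F → ℂ :=
  fun g => P.diff g * conj (P.diff g)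

theorem phi_classFun (P : SigmaPair ν χ₁ χ₂) :
    Cfsg.IsClassFunction (SpecialLinearGroup (Fin 2) F) P.phi :=
  isClassFunction_mul P.diff_classFun (isClassFunction_conj P.diff_classFun)

theorem phi_conj (P : SigmaPair ν χ₁ χ₂) (g : SpecialLinearGroup (Fin 2) F) :
    conj (P.phi g) = P.phi g := by
  unfold phi
  rw [map_mul, Complex.conj_conj]
  ring

theorem phi_eq_zero (P : SigmaPair ν χ₁ χ₂) (g : SpecialLinearGroup (Fin 2) F)
    (hg : IsConj (sigmaSL ν g) g) : P.phi g = 0 := by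
  unfold phi
  rw [P.diff_eq_zero g hg, zero_mul]

theorem phi_uSL (P : SigmaPair ν χ₁ χ₂) (u : F) (hu : u ≠ 0) : P.phi (uSL u) = P.phi (uSL 1) := by
  unfold phi
  by_cases hsq : IsSquare u
  · have hc : IsConj (uSL u) (uSL (1 : F)) := by
      rw [isConj_uSL_iff u 1 hu one_ne_zero, mul_one]
      exact hsq
    rw [classFun_of_isConj P.diff_classFun hc]
  · have hc : IsConj (uSL u) (uSL (ν : F)) := by
      rw [isConj_uSL_iff u ν hu ν.ne_zero]
      exact isSquare_mul_of_not_isSquare hsq P.nonsq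
    have h1 : uSL (ν : F) = sigmaSL ν (uSL (1 : F)) := by
      rw [sigmaSL_uSL, mul_one]
    rw [classFun_of_isConj P.diff_classFun hc, h1, P.diff_sigma, map_neg]
    ring

theorem phi_negOne_mul (P : SigmaPair ν χ₁ χ₂) (g : SpecialLinearGroup (Fin 2) F) :
    P.phi (negOneSL * g) = P.phi g := by
  have hz : (negOneSL : SpecialLinearGroup (Fin 2) F) ∈
      Subgroup.center (SpecialLinearGroup (Fin 2) F) :=
    (mem_center_iff_scalar _).2 ⟨-1, negOneSL_scalar⟩
  have hσz : sigmaSL ν (negOneSL : SpecialLinearGroup (Fin 2) F) = negOneSL :=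
    sigmaSL_scalar ν _ (-1) negOneSL_scalar
  have hz2 : χ₂ (negOneSL : SpecialLinearGroup (Fin 2) F) = χ₁ negOneSL := by
    rw [← P.σ₁, hσz]
  have h12 : χ₂ 1 = χ₁ 1 := by
    rw [← P.σ₁, map_one]
  obtain ⟨n, hn, hn1⟩ := irr_apply_one_pos P.irr₁
  have hn0 : χ₁ 1 ≠ 0 := by
    rw [hn1]
    exact Nat.cast_ne_zero.2 hn.ne'
  obtain ⟨ω, hω⟩ : ∃ ω : ℂ, ω = χ₁ negOneSL / χ₁ 1 := ⟨_, rfl⟩
  have e1 : ∀ x, χ₁ (negOneSL * x) = ω * χ₁ x := by
    intro x
    rw [hω]
    exact irr_central_mul P.irr₁ hz x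
  have e2 : ∀ x, χ₂ (negOneSL * x) = ω * χ₂ x := by
    intro x
    rw [hω, ← hz2, ← h12]
    exact irr_central_mul P.irr₂ hz x
  have hωω : ω * ω = 1 := by
    have h3 := e1 negOneSL
    rw [negOneSL_mul_self] at h3
    have h4 : χ₁ negOneSL = ω * χ₁ 1 := by
      rw [hω, div_mul_cancel₀ _ hn0]
    rw [h4] at h3
    have h5 : χ₁ 1 * (ω * ω) = χ₁ 1 * 1 := by
      rw [mul_one]
      conv_rhs => rw [h3]
      ring
    exact mul_left_cancel₀ hn0 h5
  have hωc : ω * conj ω = 1 := by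
    have h3 : (ω - 1) * (ω + 1) = 0 := by linear_combination hωω
    rcases mul_eq_zero.1 h3 with h | h
    · have : ω = 1 := sub_eq_zero.1 h
      rw [this, map_one, mul_one]
    · have : ω = -1 := eq_neg_of_add_eq_zero_left h
      rw [this, map_neg, map_one]
      ring
  unfold phi diff
  rw [e1, e2, ← mul_sub, map_mul]
  linear_combination ((χ₁ g - χ₂ g) * conj (χ₁ g - χ₂ g)) * hωc

end SigmaPair

end

end Cfsg.Agent.Lib.Helper5
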