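import Mathlib
import Cfsg.Prelude.Def_Characters
import Cfsg.Agent.Lib.Helper5.SL2Gauss3

set_option autoImplicit false
set_option linter.unusedSectionVars false

/-!
The difference of two irreducible characters of `SL₂(q)` exchanged by the diagonal automorphism:
its value at a transvection has absolute value `√q`.
-/

namespace Cfsg.Agent.Lib.Helper5

open Matrix
open Cfsg.Agent.Lib.Helper1 Cfsg.Agent.Lib.Helper4
open scoped ComplexConjugate

section
variable {F : Type*} [Field F] [Fintype F] [DecidableEq F]

theorem card_units_sq_eq_one (h2 : (2 : F) ≠ 0) :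
    (Finset.univ.filter (fun a : Fˣ => (a : F) ^ 2 = 1)).card = 2 := by
  have hset : Finset.univ.filter (fun a : Fˣ => (a : F) ^ 2 = 1) = {1, -1} := by
    ext a
    simp only [Finset.mem_filter, Finset.mem_univ, true_and, Finset.mem_insert,
      Finset.mem_singleton]
    constructor
    · intro h
      have : ((a : F) - 1) * ((a : F) + 1) = 0 := by linear_combination h
      rcases mul_eq_zero.1 this with h' | h'
      · left
        apply Units.ext
        rw [Units.val_one]
        exact sub_eq_zero.1 h'
      · right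
        apply Units.ext
        rw [Units.val_neg, Units.val_one]
        exact eq_neg_of_add_eq_zero_left h'
    · rintro (rfl | rfl) <;> simp
  rw [hset, Finset.card_pair]
  intro h
  have h1 := congrArg (fun z : Fˣ => (z : F)) h
  simp only [Units.val_one, Units.val_neg] at h1
  have h4 : (2 : F) = 0 := by linear_combination h1
  exact h2 h4

namespace SigmaPair

variable {ν : Fˣ} {χ₁ χ₂ : SpecialLinearGroup (Fin 2) F → ℂ}

theorem phi_slE (P : SigmaPair ν χ₁ χ₂) (a : Fˣ) (u : F) :
    P.phi ((slE (a, u) : borelSL F) : SpecialLinearGroup (Fin 2) F) =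
      if (a : F) ^ 2 = 1 ∧ u ≠ 0 then P.phi (uSL 1) else 0 := by
  by_cases ha : (a : F) ^ 2 = 1
  · by_cases hu : u = 0
    · rw [if_neg (fun h => h.2 hu)]
      obtain ⟨r, hr⟩ := (slE_scalar_iff a u).2 ⟨ha, hu⟩
      exact P.phi_eq_zero _ (isConj_sigma_of_scalar ν _ r hr)
    · rw [if_pos ⟨ha, hu⟩]
      have h3 : ((a : F) - 1) * ((a : F) + 1) = 0 := by linear_combination ha
      rcases mul_eq_zero.1 h3 with h | h
      · have ha1 : a = 1 := by
          apply Units.ext
          rw [Units.val_one]
          exact sub_eq_zero.1 h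
        rw [ha1]
        exact P.phi_uSL u hu
      · have ha1 : (a : F) = -1 := eq_neg_of_add_eq_zero_left h
        rw [slE_neg_one a ha1 u, P.phi_negOne_mul]
        exact P.phi_uSL (-u) (neg_ne_zero.2 hu)
  · rw [if_neg (fun h => ha h.1)]
    apply P.phi_eq_zero
    apply isConj_sigma_of_trace
    rw [slE_trace]
    intro h
    apply ha
    have h1 : (a : F) * ((a⁻¹ : Fˣ) : F) = 1 := by
      rw [← Units.val_mul, mul_inv_cancel, Units.val_one]
    have h2 : ((a : F) - ((a⁻¹ : Fˣ) : F)) ^ 2 = 0 := by linear_combination h - 4 * h1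
    have h3 : (a : F) = ((a⁻¹ : Fˣ) : F) := sub_eq_zero.1 ((pow_eq_zero_iff two_ne_zero).1 h2)
    rw [sq]
    nth_rewrite 2 [h3]
    exact h1

/-- The squared absolute value of the difference at a transvection is `q`. -/
theorem phi_uSL_one (P : SigmaPair ν χ₁ χ₂) : P.phi (uSL 1) = (Fintype.card F : ℂ) := by
  have h2F := two_ne_zero_of_odd P.odd
  have hps : ∀ g, psFun (1 : MulChar F ℂ) g * conj (P.phi g) = P.phi g := by
    intro g
    rw [P.phi_conj]
    by_cases hs : ∃ r : F, (g : Matrix (Fin 2) (Fin 2) F) = r • (1 : Matrix (Fin 2) (Fin 2) F)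
    · obtain ⟨r, hr⟩ := hs
      rw [P.phi_eq_zero g (isConj_sigma_of_scalar ν g r hr), mul_zero]
    · by_cases ht : (g : Matrix (Fin 2) (Fin 2) F).trace ^ 2 = 4
      · rw [psFun_one_of_trace_sq h2F g hs ht, one_mul]
      · rw [P.phi_eq_zero g (isConj_sigma_of_trace ν g ht), mul_zero]
  have hinner : Cfsg.classInner (psFun (1 : MulChar F ℂ)) P.phi = 2 := by
    rw [← P.diff_norm]
    unfold Cfsg.classInner
    congr 1
    apply Finset.sum_congr rfl
    intro g _
    rw [hps g]
    rfl
  rw [classInner_psFun 1 P.phi P.phi_classFun] at hinner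
  have hsum : ∑ a : Fˣ, ∑ u : F, (1 : MulChar F ℂ) (a : F) *
      conj (P.phi ((slE (a, u) : borelSL F) : SpecialLinearGroup (Fin 2) F)) =
      2 * ((Fintype.card F : ℂ) - 1) * P.phi (uSL 1) := by
    have hinnerSum : ∀ a : Fˣ, ∑ u : F, (1 : MulChar F ℂ) (a : F) *
        conj (P.phi ((slE (a, u) : borelSL F) : SpecialLinearGroup (Fin 2) F)) =
        if (a : F) ^ 2 = 1 then ((Fintype.card F : ℂ) - 1) * P.phi (uSL 1) else 0 := by
      intro a
      by_cases ha : (a : F) ^ 2 = 1
      · rw [if_pos ha]
        have : ∀ u : F, (1 : MulChar F ℂ) (a : F) *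
            conj (P.phi ((slE (a, u) : borelSL F) : SpecialLinearGroup (Fin 2) F)) =
            if ¬ u = 0 then P.phi (uSL 1) else 0 := by
          intro u
          rw [MulChar.one_apply_coe, one_mul, P.phi_conj, P.phi_slE]
          by_cases hu : u = 0
          · rw [if_neg (fun h => h.2 hu), if_neg (not_not.2 hu)]
          · rw [if_pos ⟨ha, hu⟩, if_pos hu]
        rw [Finset.sum_congr rfl fun u _ => this u, ← Finset.sum_filter, Finset.sum_const,
          Finset.filter_not, Finset.card_sdiff_of_subset (Finset.subset_univ _), Finset.card_univ,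
          Finset.filter_eq', if_pos (Finset.mem_univ _), Finset.card_singleton, nsmul_eq_mul,
          Nat.cast_sub Fintype.card_pos, Nat.cast_one]
      · rw [if_neg ha]
        apply Finset.sum_eq_zero
        intro u _
        rw [P.phi_conj, P.phi_slE, if_neg (fun h => ha h.1), mul_zero]
    rw [Finset.sum_congr rfl fun a _ => hinnerSum a, ← Finset.sum_filter, Finset.sum_const,
      card_units_sq_eq_one h2F, nsmul_eq_mul]
    push_cast
    ring
  rw [hsum, card_units_cast] at hinner
  have hq0 := card_ne_zero_cast (F := F)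
  have hqm := card_sub_one_ne_zero_cast (F := F)
  field_simp at hinner
  linear_combination hinner

end SigmaPair

end

end Cfsg.Agent.Lib.Helper5
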