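import Mathlib
import Cfsg.Prelude.Def_Characters
import Cfsg.Agent.Lib.Helper5.SL2Gauss4

set_option autoImplicit false
set_option linter.unusedSectionVars false

/-!
The square of the difference of two irreducible characters of `SL₂(q)` exchanged by the diagonal
automorphism, at a transvection.
-/

namespace Cfsg.Agent.Lib.Helper5

open Matrix
open Cfsg.Agent.Lib.Helper1 Cfsg.Agent.Lib.Helper4
open scoped ComplexConjugate

section
variable {F : Type*} [Field F] [Fintype F] [DecidableEq F]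

omit [Fintype F] [DecidableEq F] in
theorem uSL_inv (x : F) : (uSL x)⁻¹ = uSL (-x) := by
  rw [inv_eq_iff_mul_eq_one]
  apply Subtype.ext
  show ((uSL x : SpecialLinearGroup (Fin 2) F) : Matrix (Fin 2) (Fin 2) F) *
    ((uSL (-x) : SpecialLinearGroup (Fin 2) F) : Matrix (Fin 2) (Fin 2) F) = 1
  rw [uSL_coe, uSL_coe, Matrix.mul_fin_two, Matrix.one_fin_two]
  simp

theorem neg_one_pow_half (hodd : Odd (Fintype.card F)) :
    ((-1 : ℂ) ^ ((Fintype.card F - 1) / 2) = 1 ∧ IsSquare (-1 : F)) ∨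
    ((-1 : ℂ) ^ ((Fintype.card F - 1) / 2) = -1 ∧ ¬ IsSquare (-1 : F)) := by
  have h := FiniteField.isSquare_neg_one_iff (F := F)
  obtain ⟨k, hk⟩ := hodd
  by_cases h3 : Fintype.card F % 4 = 3
  · right
    refine ⟨?_, fun hsq => (h.1 hsq) h3⟩
    have : Odd ((Fintype.card F - 1) / 2) := by
      rw [Nat.odd_iff]
      omega
    exact this.neg_one_pow
  · left
    refine ⟨?_, h.2 h3⟩
    have : Even ((Fintype.card F - 1) / 2) := by
      rw [Nat.even_iff]
      omega
    exact this.neg_one_pow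

namespace SigmaPair

variable {ν : Fˣ} {χ₁ χ₂ : SpecialLinearGroup (Fin 2) F → ℂ}

theorem diff_sq (P : SigmaPair ν χ₁ χ₂) :
    (P.diff (uSL 1)) ^ 2 = (-1 : ℂ) ^ ((Fintype.card F - 1) / 2) * (Fintype.card F : ℂ) := by
  have hphi := P.phi_uSL_one
  unfold phi at hphi
  have hc1 := isClassFunction_of_isCharacter (isCharacter_of_irr P.irr₁)
  have hc2 := isClassFunction_of_isCharacter (isCharacter_of_irr P.irr₂)
  have hconj : conj (P.diff (uSL 1)) = χ₁ (uSL (-1)) - χ₂ (uSL (-1)) := by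
    unfold diff
    rw [map_sub, ← isCharacter_inv (isCharacter_of_irr P.irr₁),
      ← isCharacter_inv (isCharacter_of_irr P.irr₂), uSL_inv]
  rcases neg_one_pow_half P.odd with ⟨hpow, hsq⟩ | ⟨hpow, hsq⟩
  · have hc : IsConj (uSL (-1 : F)) (uSL (1 : F)) := by
      rw [isConj_uSL_iff (-1 : F) (1 : F) (neg_ne_zero.2 one_ne_zero) one_ne_zero, mul_one]
      exact hsq
    rw [classFun_of_isConj hc1 hc, classFun_of_isConj hc2 hc] at hconj
    rw [hpow, one_mul, ← hphi, hconj, sq]
    rfl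
  · have hc : IsConj (uSL (-1 : F)) (uSL (ν : F)) := by
      rw [isConj_uSL_iff (-1 : F) (ν : F) (neg_ne_zero.2 one_ne_zero) ν.ne_zero]
      exact isSquare_mul_of_not_isSquare hsq P.nonsq
    have h1 : uSL (ν : F) = sigmaSL ν (uSL (1 : F)) := by
      rw [sigmaSL_uSL, mul_one]
    rw [classFun_of_isConj hc1 hc, classFun_of_isConj hc2 hc, h1, P.σ₁, P.σ₂] at hconj
    rw [hpow, ← hphi, hconj, sq]
    unfold diff
    ring

end SigmaPair

end

end Cfsg.Agent.Lib.Helper5
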