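import Mathlib
import Cfsg.Prelude.Def_Characters
import Cfsg.Agent.Lib.Helper5.SL2Odd
import Cfsg.Agent.Lib.Helper5.SL2CuspCompat

set_option autoImplicit false

/-!
The case `q = 3`: values of the characters of a cyclic subgroup of order four.
-/

namespace Cfsg.Agent.Lib.Helper5

open Matrix

section
variable {F : Type*} [Field F] [Fintype F] [DecidableEq F]
  (C : Subgroup (SpecialLinearGroup (Fin 2) F))

theorem torus_sq_eq_negOne_of_card_three (hq : Fintype.card F = 3) (hC : IsCyclic C)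
    (hcard : Nat.card C = Fintype.card F + 1) (c : SpecialLinearGroup (Fin 2) F) (hc : c ∈ C)
    (hns : ¬ ∃ r : F, (c : Matrix (Fin 2) (Fin 2) F) = r • (1 : Matrix (Fin 2) (Fin 2) F)) :
    c * c = negOneSL := by
  have h2 : (2 : F) ≠ 0 := two_ne_zero_of_odd (by rw [hq]; decide)
  have hc4 : c ^ 4 = 1 := by
    have h1 : (⟨c, hc⟩ : C) ^ Nat.card C = 1 := pow_card_eq_one'
    rw [hcard, hq] at h1
    exact congrArg Subtype.val h1
  have hcc : (c * c) * (c * c) = 1 := by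
    rw [← hc4]
    simp only [pow_succ, pow_zero, one_mul, mul_assoc]
  rcases eq_one_or_negOne_of_mul_self h2 (c * c) hcc with h | h
  · exfalso
    apply ne_inv_of_mem_torus C hC hcard c hc hns
    exact eq_inv_of_mul_eq_one_left h
  · exact h

theorem torus_sum_eq_zero_of_card_three (hq : Fintype.card F = 3) (hC : IsCyclic C)
    (hcard : Nat.card C = Fintype.card F + 1) (θ : C →* ℂˣ) (hθ : θ ≠ θ⁻¹)
    (c : SpecialLinearGroup (Fin 2) F) (hc : c ∈ C)
    (hns : ¬ ∃ r : F, (c : Matrix (Fin 2) (Fin 2) F) = r • (1 : Matrix (Fin 2) (Fin 2) F)) :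
    (θ ⟨c, hc⟩ : ℂ) + (θ ⟨c⁻¹, C.inv_mem hc⟩ : ℂ) = 0 := by
  have hneg : (negOneSL : SpecialLinearGroup (Fin 2) F) ∈ C :=
    scalar_mem_torus C hC hcard _ ⟨-1, negOneSL_scalar⟩
  have hsq : ∀ (c' : SpecialLinearGroup (Fin 2) F) (hc' : c' ∈ C),
      (¬ ∃ r : F, (c' : Matrix (Fin 2) (Fin 2) F) = r • (1 : Matrix (Fin 2) (Fin 2) F)) →
      θ ⟨c', hc'⟩ * θ ⟨c', hc'⟩ = θ ⟨negOneSL, hneg⟩ := by
    intro c' hc' hns'
    rw [← map_mul]
    congr 1
    apply Subtype.ext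
    exact torus_sq_eq_negOne_of_card_three C hq hC hcard c' hc' hns'
  have hεε : θ ⟨negOneSL, hneg⟩ * θ ⟨negOneSL, hneg⟩ = 1 := by
    rw [← map_mul]
    have : (⟨negOneSL, hneg⟩ : C) * ⟨negOneSL, hneg⟩ = 1 := Subtype.ext negOneSL_mul_self
    rw [this, map_one]
  have hε : (θ ⟨negOneSL, hneg⟩ : ℂ) = -1 := by
    have h1 : ((θ ⟨negOneSL, hneg⟩ : ℂ) - 1) * ((θ ⟨negOneSL, hneg⟩ : ℂ) + 1) = 0 := by
      have := congrArg (fun z : ℂˣ => (z : ℂ)) hεε
      simp only [Units.val_mul, Units.val_one] at this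
      linear_combination this
    rcases mul_eq_zero.1 h1 with h | h
    · exfalso
      have hε1 : θ ⟨negOneSL, hneg⟩ = 1 := by
        apply Units.ext
        rw [Units.val_one]
        exact sub_eq_zero.1 h
      apply hθ
      ext c'
      rw [MonoidHom.inv_apply]
      congr 1
      rw [eq_inv_iff_mul_eq_one]
      by_cases hs : ∃ r : F, ((c' : SpecialLinearGroup (Fin 2) F) : Matrix (Fin 2) (Fin 2) F)
          = r • (1 : Matrix (Fin 2) (Fin 2) F)
      · obtain ⟨r, hr⟩ := hs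
        rcases scalar_cases (c' : SpecialLinearGroup (Fin 2) F) r hr with ⟨-, h'⟩ | ⟨-, h'⟩
        · have : c' = 1 := Subtype.ext h'
          rw [this, map_one, one_mul]
        · have : c' = ⟨negOneSL, hneg⟩ := Subtype.ext h'
          rw [this]
          exact hεε
      · have := hsq c'.1 c'.2 hs
        rw [hε1] at this
        exact this
    · exact eq_neg_of_add_eq_zero_left h
  have hww : (θ ⟨c, hc⟩ : ℂ) * (θ ⟨c, hc⟩ : ℂ) = -1 := by
    have := congrArg (fun z : ℂˣ => (z : ℂ)) (hsq c hc hns)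
    simp only [Units.val_mul] at this
    rw [this, hε]
  have hww' : (θ ⟨c, hc⟩ : ℂ) * (θ ⟨c⁻¹, C.inv_mem hc⟩ : ℂ) = 1 := by
    rw [← Units.val_mul, ← map_mul]
    have : (⟨c, hc⟩ : C) * ⟨c⁻¹, C.inv_mem hc⟩ = 1 := Subtype.ext (mul_inv_cancel c)
    rw [this, map_one, Units.val_one]
  linear_combination (θ ⟨c⁻¹, C.inv_mem hc⟩ : ℂ) * hww - (θ ⟨c, hc⟩ : ℂ) * hww'

end

end Cfsg.Agent.Lib.Helper5
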