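import Mathlib
import Cfsg.Agent.Lib.Helper5.SL2Sigma

set_option autoImplicit false

/-!
The diagonal automorphism of `SL₂` as conjugation by an element of `GL₂`.
-/

namespace Cfsg.Agent.Lib.Helper5

open Matrix

section
variable {F : Type*} [Field F]

/-- The matrix `diag(ν, 1)` in `GL₂`. -/
def diagGL (ν : Fˣ) : GL (Fin 2) F :=
  ⟨!![(ν : F), 0; 0, 1], !![(ν : F)⁻¹, 0; 0, 1],
    by
      rw [Matrix.mul_fin_two, Matrix.one_fin_two]
      simp,
    by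
      rw [Matrix.mul_fin_two, Matrix.one_fin_two]
      simp⟩

theorem eq_sigmaSL_of_toGL (ν : Fˣ) (g h : SpecialLinearGroup (Fin 2) F)
    (hh : SpecialLinearGroup.toGL h = diagGL ν * SpecialLinearGroup.toGL g * (diagGL ν)⁻¹) :
    h = sigmaSL ν g := by
  have h1 : (h : Matrix (Fin 2) (Fin 2) F) = !![(ν : F), 0; 0, 1] *
      (g : Matrix (Fin 2) (Fin 2) F) * !![(ν : F)⁻¹, 0; 0, 1] := by
    have := congrArg (fun z : GL (Fin 2) F => (z : Matrix (Fin 2) (Fin 2) F)) hh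
    exact this
  apply Subtype.ext
  show (h : Matrix (Fin 2) (Fin 2) F) = ((sigmaSL ν g : SpecialLinearGroup (Fin 2) F) :
    Matrix (Fin 2) (Fin 2) F)
  rw [h1, sigmaSL_coe]
  conv_lhs => rw [Matrix.eta_fin_two (g : Matrix (Fin 2) (Fin 2) F)]
  rw [Matrix.mul_fin_two, Matrix.mul_fin_two]
  simp only [zero_mul, mul_zero, add_zero, zero_add, one_mul, mul_one]
  have e1 : (ν : F) * (g : Matrix (Fin 2) (Fin 2) F) 0 0 * (ν : F)⁻¹ =
      (g : Matrix (Fin 2) (Fin 2) F) 0 0 := by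
    rw [mul_comm (ν : F), mul_assoc, mul_inv_cancel₀ ν.ne_zero, mul_one]
  have e2 : (g : Matrix (Fin 2) (Fin 2) F) 1 0 * (ν : F)⁻¹ =
      (ν : F)⁻¹ * (g : Matrix (Fin 2) (Fin 2) F) 1 0 := mul_comm _ _
  rw [e1, e2]

end

end Cfsg.Agent.Lib.Helper5
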