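import Mathlib
import Cfsg.Agent.Lib.Helper5.AltTwoMax1

set_option autoImplicit false

/-! Two Sylow 2-subgroups of a group with a normal subgroup of index 2, in which the Sylow
2-subgroups are self-normalizing and have few opposites, meet non-trivially. -/

namespace Cfsg.Agent.Lib.Helper5.SylMeet

open scoped Pointwise

section
variable {G : Type*} [Group G] (N : Subgroup G) [N.Normal] {S : Type*} [Group S] (e : N ≃* S)

/-- the action of the group on the model of the normal subgroup -/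
def alpha : G →* MulAut S := (MulAut.congr e).toMonoidHom.comp MulAut.conjNormal

theorem alpha_apply (g : G) (y : S) :
    ((e.symm (alpha N e g y) : N) : G) = g * ((e.symm y : N) : G) * g⁻¹ := by
  simp [alpha, MulAut.congr]

theorem alpha_inv_apply (g : G) (y : S) :
    ((e.symm ((alpha N e g)⁻¹ y) : N) : G) = g⁻¹ * ((e.symm y : N) : G) * g := by
  rw [← map_inv, alpha_apply, inv_inv]

theorem alpha_coe (ν : N) : alpha N e (ν : G) = MulAut.conj (e ν) := by
  ext y
  apply e.symm.injective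
  apply Subtype.ext
  rw [alpha_apply, MulAut.conj_apply, map_mul, map_mul, map_inv, e.symm_apply_apply]
  rfl

end

section
variable {G : Type*} [Group G] [Finite G] (N : Subgroup G) [N.Normal] {S : Type*} [Group S]
  (e : N ≃* S)

/-- a self-normalizing 2-subgroup is a Sylow subgroup -/
theorem not_dvd_index_of_normalizer [Finite S] (U : Subgroup S) (hU : IsPGroup 2 U)
    (hUn : Subgroup.normalizer (U : Set S) = U) : ¬ 2 ∣ U.index := by
  haveI : Fact (Nat.Prime 2) := ⟨Nat.prime_two⟩
  obtain ⟨k, hk⟩ := IsPGroup.iff_card.1 hU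
  have h1 := Sylow.card_quotient_normalizer_modEq_card_quotient (G := S) (p := 2) hk
  have h2 : U.comap (Subgroup.normalizer (U : Set S)).subtype = ⊤ := by
    rw [eq_top_iff]
    intro y _
    have h3 : ∀ z : S, z ∈ Subgroup.normalizer (U : Set S) → z ∈ U := by
      intro z hz
      rw [hUn] at hz
      exact hz
    exact h3 _ y.2
  rw [h2] at h1
  have h4 : Nat.card (↥(Subgroup.normalizer (U : Set S)) ⧸
      (⊤ : Subgroup ↥(Subgroup.normalizer (U : Set S)))) = 1 := by
    rw [← Subgroup.index_eq_card, Subgroup.index_top]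
  rw [h4, ← Subgroup.index_eq_card] at h1
  intro hd
  have h5 : U.index % 2 = 0 := Nat.mod_eq_zero_of_dvd hd
  have h6 : 1 % 2 = U.index % 2 := h1
  omega

end

section
variable {G : Type*} [Group G] [Finite G] (N : Subgroup G) [N.Normal] {S : Type*} [Group S]

theorem meet_ne_bot (e : N ≃* S) (hidx : N.index = 2) (U : Subgroup S) (hU : IsPGroup 2 U)
    (hUn : Subgroup.normalizer (U : Set S) = U)
    (hopp : ∀ s : S, ∃ φ : U → Subgroup S, ∀ g : S,
        (MulAut.conj g • U) ⊓ (MulAut.conj s • U) = ⊥ → ∃ b, MulAut.conj g • U = φ b)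
    (H : Sylow 2 G) (x : G) : (H : Subgroup G) ⊓ MulAut.conj x • (H : Subgroup G) ≠ ⊥ := by
  classical
  haveI : Fact (Nat.Prime 2) := ⟨Nat.prime_two⟩
  haveI : Finite S := Finite.of_equiv N e.toEquiv
  let SU : Sylow 2 S := hU.toSylow (not_dvd_index_of_normalizer U hU hUn)
  have hSU : (SU : Subgroup S) = U := IsPGroup.toSylow_coe _ _
  -- the Sylow subgroup of the normal subgroup and its image
  obtain ⟨Pn, hPn⟩ := Cfsg.Agent.Lib.Helper5.AltTwoMax.exists_sylow_inf_normal H N
  obtain ⟨Q, hQcoe⟩ : ∃ Q : Sylow 2 S,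
      (Q : Subgroup S) = (Pn : Subgroup N).comap e.symm.toMonoidHom :=
    ⟨Pn.comapOfInjective e.symm.toMonoidHom e.symm.injective (by
      intro y _
      exact ⟨e y, e.symm_apply_apply y⟩), Sylow.coe_comapOfInjective _ _ _ _⟩
  have hQmem : ∀ y : S, y ∈ Q ↔ ((e.symm y : N) : G) ∈ (H : Subgroup G) := by
    intro y
    have h1 : y ∈ Q ↔ e.symm y ∈ (Pn : Subgroup N) := by
      show y ∈ (Q : Subgroup S) ↔ _
      rw [hQcoe]
      rfl
    rw [h1, hPn, Subgroup.mem_subgroupOf, Subgroup.mem_inf]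
    exact ⟨fun h => h.1, fun h => ⟨h, (e.symm y).2⟩⟩
  have hαmem : ∀ (g : G) (y : S), y ∈ alpha N e g • Q ↔
      g⁻¹ * ((e.symm y : N) : G) * g ∈ (H : Subgroup G) := by
    intro g y
    have h1 : y ∈ alpha N e g • Q ↔ (alpha N e g)⁻¹ y ∈ Q := by
      show y ∈ ((alpha N e g • Q : Sylow 2 S) : Subgroup S) ↔ _
      rw [Sylow.pointwise_smul_def, Subgroup.mem_pointwise_smul_iff_inv_smul_mem]
      rfl
    rw [h1, hQmem, alpha_inv_apply]
  obtain ⟨s, hs⟩ := MulAction.exists_smul_eq S SU Q
  have hSUcoe : ∀ t : S, ((t • SU : Sylow 2 S) : Subgroup S) = MulAut.conj t • U := by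
    intro t
    rw [Sylow.coe_subgroup_smul, hSU]
  -- the image is self-normalizing
  have hQnorm : ∀ t : S, t • Q = Q → t ∈ Q := by
    intro t ht
    rw [← hs] at ht
    have h1 : (s⁻¹ * t * s) • SU = SU := by
      rw [mul_smul, mul_smul, ht, inv_smul_smul]
    have h2 : s⁻¹ * t * s ∈ MulAction.stabilizer S SU := h1
    rw [Sylow.stabilizer_eq_normalizer] at h2
    have h3 : ((SU : Sylow 2 S) : Set S) = (U : Set S) := by rw [← hSU]; rfl
    rw [h3, hUn] at h2
    show t ∈ (Q : Subgroup S)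
    rw [← hs, hSUcoe, Subgroup.mem_pointwise_smul_iff_inv_smul_mem, MulAut.smul_def,
      MulAut.conj_inv_apply]
    exact h2
  -- the stabilizer of the image is the Sylow subgroup
  have hHfix : ∀ h ∈ (H : Subgroup G), alpha N e h • Q = Q := by
    intro h hh
    apply Sylow.ext
    ext y
    show y ∈ alpha N e h • Q ↔ y ∈ Q
    rw [hαmem, hQmem]
    constructor
    · intro h1
      have h2 := (H : Subgroup G).mul_mem ((H : Subgroup G).mul_mem hh h1)
        ((H : Subgroup G).inv_mem hh)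
      have h3 : h * (h⁻¹ * ((e.symm y : N) : G) * h) * h⁻¹ = ((e.symm y : N) : G) := by group
      rw [h3] at h2
      exact h2
    · intro h1
      exact (H : Subgroup G).mul_mem ((H : Subgroup G).mul_mem ((H : Subgroup G).inv_mem hh) h1) hh
  have hfixH : ∀ g : G, alpha N e g • Q = Q → g ∈ (H : Subgroup G) := by
    let M : Subgroup G := (MulAction.stabilizer (MulAut S) Q).comap (alpha N e)
    have hM : IsPGroup 2 M := by
      rintro ⟨g, hg⟩
      have hg' : alpha N e g • Q = Q := hg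
      have hsq : g ^ 2 ∈ N := Subgroup.sq_mem_of_index_two hidx g
      have hsqM : alpha N e (g ^ 2) • Q = Q := by
        rw [map_pow, pow_two, mul_smul, hg', hg']
      have h1 : alpha N e (g ^ 2) = MulAut.conj (e ⟨g ^ 2, hsq⟩) := alpha_coe N e ⟨g ^ 2, hsq⟩
      rw [h1] at hsqM
      have h2 : e ⟨g ^ 2, hsq⟩ ∈ Q := hQnorm _ hsqM
      rw [hQmem, e.symm_apply_apply] at h2
      obtain ⟨j, hj⟩ := H.isPGroup' ⟨g ^ 2, h2⟩
      refine ⟨j + 1, ?_⟩
      apply Subtype.ext
      have h3 : (g ^ 2) ^ 2 ^ j = 1 := by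
        have := congrArg Subtype.val hj
        simpa using this
      show g ^ 2 ^ (j + 1) = 1
      rw [pow_succ', pow_mul]
      exact h3
    have hHM : (H : Subgroup G) ≤ M := fun h hh => hHfix h hh
    have hMH := H.is_maximal' hM hHM
    intro g hg
    rw [← hMH]
    exact hg
  -- the Sylow subgroup is not contained in the normal subgroup
  have hnle : ¬ (H : Subgroup G) ≤ N := by
    intro hle
    have h1 := Subgroup.index_dvd_of_le hle
    rw [hidx] at h1
    exact H.not_dvd_index h1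
  have hcard : Nat.card U < Nat.card (H : Subgroup G) := by
    have h1 : Nat.card U = Nat.card (Pn : Subgroup N) := by
      rw [← hSU, Sylow.card_eq_multiplicity, Sylow.card_eq_multiplicity,
        Nat.card_congr e.toEquiv]
    have h2 : Nat.card (Pn : Subgroup N) = Nat.card ((H : Subgroup G) ⊓ N : Subgroup G) := by
      rw [hPn]
      exact Nat.card_congr (Subgroup.subgroupOfEquivOfLe inf_le_right).toEquiv
    rw [h1, h2]
    by_contra hnot
    have h3 := Subgroup.eq_of_le_of_card_ge (inf_le_left : (H : Subgroup G) ⊓ N ≤ H)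
      (not_lt.1 hnot)
    apply hnle
    rw [← h3]
    exact inf_le_right
  intro hbot
  obtain ⟨φ, hφ⟩ := hopp s
  have hdisj : ∀ h ∈ (H : Subgroup G),
      ((alpha N e (h * x) • Q : Sylow 2 S) : Subgroup S) ⊓ (Q : Subgroup S) = ⊥ := by
    intro h hh
    rw [eq_bot_iff]
    intro y hy
    have hy1 : y ∈ alpha N e (h * x) • Q := hy.1
    have hy2 : y ∈ Q := hy.2
    rw [hαmem] at hy1
    rw [hQmem] at hy2
    have h1 : h⁻¹ * ((e.symm y : N) : G) * h ∈ (H : Subgroup G) :=
      mul_mem (mul_mem (inv_mem hh) hy2) hh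
    have h2 : h⁻¹ * ((e.symm y : N) : G) * h ∈ MulAut.conj x • (H : Subgroup G) := by
      rw [Subgroup.mem_pointwise_smul_iff_inv_smul_mem, MulAut.smul_def, MulAut.conj_inv_apply]
      have h3 : x⁻¹ * (h⁻¹ * ((e.symm y : N) : G) * h) * x
          = (h * x)⁻¹ * ((e.symm y : N) : G) * (h * x) := by group
      rw [h3]
      exact hy1
    have h3 : h⁻¹ * ((e.symm y : N) : G) * h ∈
        (H : Subgroup G) ⊓ MulAut.conj x • (H : Subgroup G) := Subgroup.mem_inf.2 ⟨h1, h2⟩
    rw [hbot, Subgroup.mem_bot] at h3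
    have h4 : ((e.symm y : N) : G) = 1 := by
      have h5 : ((e.symm y : N) : G) = h * (h⁻¹ * ((e.symm y : N) : G) * h) * h⁻¹ := by group
      rw [h5, h3]
      group
    rw [Subgroup.mem_bot]
    have h5 : e.symm y = 1 := Subtype.ext h4
    exact (MulEquiv.map_eq_one_iff e.symm).1 h5
  have hex : ∀ h : (H : Subgroup G),
      ∃ b : U, ((alpha N e ((h : G) * x) • Q : Sylow 2 S) : Subgroup S) = φ b := by
    intro h
    obtain ⟨t, ht⟩ := MulAction.exists_smul_eq S SU (alpha N e ((h : G) * x) • Q)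
    have h1 : MulAut.conj t • U = ((alpha N e ((h : G) * x) • Q : Sylow 2 S) : Subgroup S) := by
      rw [← ht, hSUcoe]
    have h2 : MulAut.conj s • U = (Q : Subgroup S) := by
      rw [← hs, hSUcoe]
    obtain ⟨b, hb⟩ := hφ t (by rw [h1, h2]; exact hdisj h h.2)
    exact ⟨b, by rw [← h1, hb]⟩
  choose b hb using hex
  have hninj : ¬ Function.Injective b := by
    intro hinj
    have := Nat.card_le_card_of_injective b hinj
    omega
  rw [Function.Injective] at hninj
  push Not at hninj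
  obtain ⟨h1, h2, hb12, hne⟩ := hninj
  have heq : alpha N e ((h1 : G) * x) • Q = alpha N e ((h2 : G) * x) • Q := by
    apply Sylow.ext
    rw [hb h1, hb h2, hb12]
  have hg : alpha N e (x⁻¹ * ((h2 : G)⁻¹ * h1) * x) • Q = Q := by
    have h3 : x⁻¹ * ((h2 : G)⁻¹ * h1) * x = ((h2 : G) * x)⁻¹ * ((h1 : G) * x) := by group
    rw [h3, map_mul, mul_smul, heq, map_inv, inv_smul_smul]
  have hgH := hfixH _ hg
  have hmem : (h2 : G)⁻¹ * h1 ∈ (H : Subgroup G) ⊓ MulAut.conj x • (H : Subgroup G) := by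
    refine Subgroup.mem_inf.2 ⟨(H : Subgroup G).mul_mem ((H : Subgroup G).inv_mem h2.2) h1.2, ?_⟩
    rw [Subgroup.mem_pointwise_smul_iff_inv_smul_mem, MulAut.smul_def, MulAut.conj_inv_apply]
    exact hgH
  rw [hbot, Subgroup.mem_bot] at hmem
  apply hne
  apply Subtype.ext
  exact (inv_mul_eq_one.1 hmem).symm

end

end Cfsg.Agent.Lib.Helper5.SylMeet
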