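import Mathlib
import Cfsg.Agent.Lib.Helper5.SLnOpp
import Cfsg.Agent.Lib.Helper5.SLnUni2
import Cfsg.Agent.Lib.Helper5.SLnNorm
import Cfsg.Agent.Lib.Helper5.SylMeet

set_option autoImplicit false

/-! The unitriangular subgroup of the special linear group over the field with 2 elements:
it is a self-normalizing 2-subgroup with few opposite conjugates. -/

namespace Cfsg.Agent.Lib.Helper5.SLnTwo

open Matrix Cfsg.Agent.Lib.Helper5.SLnBN Cfsg.Agent.Lib.Helper5.SLnAut
open scoped Pointwise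

variable {m : ℕ}

theorem borel_le_unip : borel (m + 1) (ZMod 2) ≤ unip (m + 1) (ZMod 2) := by
  intro g hg
  refine ⟨hg, fun i => ?_⟩
  have h := diag_ne_zero_of_mem_borel hg i
  generalize (g : Matrix (Fin (m + 1)) (Fin (m + 1)) (ZMod 2)) i i = c at h
  revert c
  decide

theorem isPGroup_unip : IsPGroup 2 (unip (m + 1) (ZMod 2)) := by
  haveI : Fact (Nat.Prime 2) := ⟨Nat.prime_two⟩
  apply IsPGroup.of_card (n := (m + 1) * (m + 1 - 1) / 2)
  rw [card_unip, ZMod.card]

theorem normalizer_unip (hm : 1 ≤ m) :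
    Subgroup.normalizer (unip (m + 1) (ZMod 2) : Set (SpecialLinearGroup (Fin (m + 1)) (ZMod 2)))
      = unip (m + 1) (ZMod 2) := by
  apply le_antisymm
  · intro g hg
    apply borel_le_unip
    apply mem_borel_of_conj_unip hm
    intro u hu
    apply unip_le_borel
    exact (Subgroup.mem_normalizer_iff.1 hg u).1 hu
  · exact Subgroup.le_normalizer

/-- the lower unitriangular subgroup -/
def unipNeg (m : ℕ) : Subgroup (SpecialLinearGroup (Fin (m + 1)) (ZMod 2)) :=
  (unip (m + 1) (ZMod 2)).map (tauAut : MulAut (SpecialLinearGroup (Fin (m + 1)) (ZMod 2))).toMonoidHom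

theorem mem_unipNeg {v : SpecialLinearGroup (Fin (m + 1)) (ZMod 2)}
    (hv : v.transpose ∈ unip (m + 1) (ZMod 2)) : v ∈ unipNeg m := by
  refine ⟨tauAut v, tauAut_mem_unip_iff.2 hv, ?_⟩
  exact tauAut_tauAut v

theorem card_unipNeg : Nat.card (unipNeg m) = Nat.card (unip (m + 1) (ZMod 2)) :=
  Subgroup.card_map_of_injective (MulEquiv.injective _)

theorem card_conj_smul {S : Type*} [Group S] (g : S) (K : Subgroup S) :
    Nat.card (MulAut.conj g • K : Subgroup S) = Nat.card K :=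
  (Nat.card_congr (Subgroup.equivSMul (MulAut.conj g) K).toEquiv).symm

theorem opposite (hm : 1 ≤ m) (s : SpecialLinearGroup (Fin (m + 1)) (ZMod 2)) :
    ∃ φ : unip (m + 1) (ZMod 2) → Subgroup (SpecialLinearGroup (Fin (m + 1)) (ZMod 2)),
      ∀ g : SpecialLinearGroup (Fin (m + 1)) (ZMod 2),
        (MulAut.conj g • unip (m + 1) (ZMod 2)) ⊓ (MulAut.conj s • unip (m + 1) (ZMod 2)) = ⊥ →
          ∃ b, MulAut.conj g • unip (m + 1) (ZMod 2) = φ b := by
  refine ⟨fun b => MulAut.conj (s * (b : SpecialLinearGroup (Fin (m + 1)) (ZMod 2))) • unipNeg m,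
    ?_⟩
  intro g hg
  have hcond : ∀ u ∈ unip (m + 1) (ZMod 2),
      (s⁻¹ * g) * u * (s⁻¹ * g)⁻¹ ∈ unip (m + 1) (ZMod 2) → u = 1 := by
    intro u hu h1
    have h2 : g * u * g⁻¹ ∈ MulAut.conj g • unip (m + 1) (ZMod 2) := by
      rw [Subgroup.mem_pointwise_smul_iff_inv_smul_mem, MulAut.smul_def, MulAut.conj_inv_apply]
      have : g⁻¹ * (g * u * g⁻¹) * g = u := by group
      rw [this]
      exact hu
    have h3 : g * u * g⁻¹ ∈ MulAut.conj s • unip (m + 1) (ZMod 2) := by
      rw [Subgroup.mem_pointwise_smul_iff_inv_smul_mem, MulAut.smul_def, MulAut.conj_inv_apply]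
      have : s⁻¹ * (g * u * g⁻¹) * s = (s⁻¹ * g) * u * (s⁻¹ * g)⁻¹ := by group
      rw [this]
      exact h1
    have h4 : g * u * g⁻¹ ∈ (MulAut.conj g • unip (m + 1) (ZMod 2)) ⊓
        (MulAut.conj s • unip (m + 1) (ZMod 2)) := Subgroup.mem_inf.2 ⟨h2, h3⟩
    rw [hg, Subgroup.mem_bot] at h4
    have : u = g⁻¹ * (g * u * g⁻¹) * g := by group
    rw [this, h4]
    group
  obtain ⟨b, hb, hbu⟩ := exists_borel_conj_transpose hm hcond
  refine ⟨⟨b, borel_le_unip hb⟩, ?_⟩
  apply Subgroup.eq_of_le_of_card_ge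
  · intro y hy
    rw [Subgroup.mem_pointwise_smul_iff_inv_smul_mem, MulAut.smul_def, MulAut.conj_inv_apply] at hy ⊢
    apply mem_unipNeg
    have h1 := hbu _ hy
    have h2 : b⁻¹ * (s⁻¹ * g * (g⁻¹ * y * g) * (s⁻¹ * g)⁻¹) * b = (s * b)⁻¹ * y * (s * b) := by
      group
    rw [h2] at h1
    exact h1
  · rw [card_conj_smul, card_conj_smul, card_unipNeg]

/-- Sylow 2-subgroups of a group with a normal subgroup of index 2 that is a special linear group
over the field with 2 elements meet non-trivially. -/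
theorem sylow_meet {G : Type*} [Group G] [Finite G] (hm : 1 ≤ m) (N : Subgroup G) [N.Normal]
    (e : N ≃* SpecialLinearGroup (Fin (m + 1)) (ZMod 2)) (hidx : N.index = 2)
    (H : Sylow 2 G) (x : G) : (H : Subgroup G) ⊓ MulAut.conj x • (H : Subgroup G) ≠ ⊥ :=
  Cfsg.Agent.Lib.Helper5.SylMeet.meet_ne_bot N e hidx (unip (m + 1) (ZMod 2)) isPGroup_unip
    (normalizer_unip hm) (opposite hm) H x

end Cfsg.Agent.Lib.Helper5.SLnTwo
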