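import Mathlib
import Cfsg.Agent.Lib.Helper4.SUClass.Defs
import Cfsg.Agent.Lib.Helper5.SLClass.SumSq
import Cfsg.Agent.Lib.Helper6.SUClass_MU
import Cfsg.Agent.Lib.Helper5.SUClass_CNT

set_option autoImplicit false
set_option linter.unusedSectionVars false
set_option linter.unusedVariables false

/-! S2481 package PK-U4b : the double count (ports of `SLClass.Supp` / `SLClass.SumSq`) -/

namespace Cfsg.Agent.Lib.Helper4.SUClass

open Polynomial Cfsg.Agent.S0278 Cfsg.Agent.Lib.Helper5.GLClass Cfsg.Agent.Lib.Helper5.SLClass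
open Cfsg.Agent.Lib.Helper5.Wall

universe u

variable {K : Type u} [Field K] [Fintype K] {q : ℕ}

theorem card_supp_le_u (hK : Fintype.card K = q ^ 2) (n l : ℕ) (hl : 1 ≤ l) :
    Nat.card {f : Fin n → K[X] // f ∈ ParU hK n n ∧ ∀ j : Fin n, f j ≠ 1 → l ∣ j.val + 1} ≤
      PLU q n l := by
  classical
  unfold PLU
  by_cases hln : l ∣ n
  · rw [if_pos hln]
    obtain ⟨k, rfl⟩ := hln
    have hk : l * k / l = k := Nat.mul_div_cancel_left k hl
    rw [hk, ← card_ParU hK k k]
    have hpos : ∀ i : Fin k, l * (i.val + 1) - 1 < l * k := by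
      intro i
      have h1 : l * (i.val + 1) ≤ l * k := Nat.mul_le_mul_left _ i.isLt
      have h2 : 1 ≤ l * (i.val + 1) := Nat.mul_pos hl (Nat.succ_pos _)
      omega
    let ε : Fin k → Fin (l * k) := fun i => ⟨l * (i.val + 1) - 1, hpos i⟩
    have hε : ∀ i, (ε i).val = l * (i.val + 1) - 1 := fun i => rfl
    haveI : Finite (ParU hK k k) := (finite_ParU hK k k).to_subtype
    have hmem : ∀ f : {f : Fin (l * k) → K[X] // f ∈ ParU hK (l * k) (l * k) ∧
        ∀ j : Fin (l * k), f j ≠ 1 → l ∣ j.val + 1}, (fun i => f.1 (ε i)) ∈ ParU hK k k := by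
      intro f
      refine ⟨⟨fun i => f.2.1.1.1 (ε i), ?_⟩, fun i => f.2.1.2 (ε i)⟩
      have h1 := f.2.1.1.2
      rw [sum_scale l k hl (fun j => (j.val + 1) * (f.1 j).natDegree) ?_ ε hε] at h1
      · have h2 : ∑ i : Fin k, ((ε i).val + 1) * (f.1 (ε i)).natDegree =
            l * ∑ i : Fin k, (i.val + 1) * (f.1 (ε i)).natDegree := by
          rw [Finset.mul_sum]
          apply Finset.sum_congr rfl
          intro i _
          rw [hε]
          have h2 : 1 ≤ l * (i.val + 1) := Nat.mul_pos hl (Nat.succ_pos _)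
          rw [Nat.sub_add_cancel h2]
          ring
        rw [h2] at h1
        exact Nat.eq_of_mul_eq_mul_left hl h1
      · intro j hj
        have : f.1 j = 1 := by
          by_contra hne
          exact hj (f.2.2 j hne)
        show (j.val + 1) * (f.1 j).natDegree = 0
        rw [natDegree_eq_zero_of_eq_one this, mul_zero]
    apply Nat.card_le_card_of_injective (fun f => (⟨fun i => f.1 (ε i), hmem f⟩ : ParU hK k k))
    intro f f' hff
    apply Subtype.ext
    funext j
    have hff' : ∀ i, f.1 (ε i) = f'.1 (ε i) := fun i => congrFun (congrArg Subtype.val hff) i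
    by_cases hj : l ∣ j.val + 1
    · obtain ⟨c, hc⟩ := hj
      have hc1 : 1 ≤ c := by
        rcases Nat.eq_zero_or_pos c with h | h
        · rw [h] at hc
          omega
        · exact h
      have hck : c ≤ k := by
        have h1 : j.val + 1 ≤ l * k := j.isLt
        rw [hc] at h1
        exact Nat.le_of_mul_le_mul_left h1 hl
      have hj' : j = ε ⟨c - 1, by omega⟩ := by
        apply Fin.ext
        rw [hε]
        show j.val = l * (c - 1 + 1) - 1
        rw [Nat.sub_add_cancel hc1, ← hc]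
        omega
      rw [hj']
      exact hff' _
    · have h1 : f.1 j = 1 := by
        by_contra hne
        exact hj (f.2.2 j hne)
      have h2 : f'.1 j = 1 := by
        by_contra hne
        exact hj (f'.2.2 j hne)
      rw [h1, h2]
  · rw [if_neg hln]
    haveI : IsEmpty {f : Fin n → K[X] // f ∈ ParU hK n n ∧
        ∀ j : Fin n, f j ≠ 1 → l ∣ j.val + 1} := by
      constructor
      rintro ⟨f, hf, hsupp⟩
      apply hln
      rw [← hf.1.2]
      apply Finset.dvd_sum
      intro j _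
      by_cases h : f j = 1
      · rw [natDegree_eq_zero_of_eq_one h, mul_zero]
        exact dvd_zero _
      · exact Dvd.dvd.mul_right (hsupp j h) _
    rw [Nat.card_of_isEmpty]

namespace PkU4b

/-- `μ_{q+1}` is cyclic of order `q + 1` -/
theorem gcd_eq_card_filter_u [DecidableEq K] (hK : Fintype.card K = q ^ 2) (d : ℕ) :
    Nat.gcd d (q + 1) = (Finset.univ.filter (fun y : ↥(muQ K q) => y ^ d = 1)).card := by
  have h1 := IsCyclic.card_powMonoidHom_ker (G := ↥(muQ K q)) d
  rw [Nat.card_eq_fintype_card (α := ↥(muQ K q)), card_muQ hK] at h1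
  rw [Nat.gcd_comm, ← h1, ← Fintype.card_subtype, ← Nat.card_eq_fintype_card]
  apply Nat.card_congr
  apply Equiv.subtypeEquivRight
  intro y
  rw [MonoidHom.mem_ker, powMonoidHom_apply]

theorem supp_dvd_of_pow_eq_one_u {n : ℕ} (f : Fin n → K[X]) (y : ↥(muQ K q)) (hy : y ^ gg f = 1)
    (j : Fin n) (hj : f j ≠ 1) : orderOf y ∣ j.val + 1 :=
  dvd_trans (orderOf_dvd_of_pow_eq_one hy) (gg_dvd f j hj)

end PkU4b

open PkU4b

theorem sum_sq_le_u (hK : Fintype.card K = q ^ 2) (n : ℕ) (hn : 1 ≤ n) :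
    ∑ f ∈ parUFinset hK n, Nat.gcd (gg f) (q + 1) ^ 2 ≤
      ∑ yz : ↥(muQ K q) × ↥(muQ K q), PLU q n (Nat.lcm (orderOf yz.1) (orderOf yz.2)) := by
  classical
  have h1 : ∀ f : Fin n → K[X], Nat.gcd (gg f) (q + 1) ^ 2 =
      ∑ yz : ↥(muQ K q) × ↥(muQ K q), if yz.1 ^ gg f = 1 ∧ yz.2 ^ gg f = 1 then 1 else 0 := by
    intro f
    rw [gcd_eq_card_filter_u hK, pow_two, ← Finset.card_product, Finset.card_eq_sum_ones,
      ← Finset.sum_filter]
    apply Finset.sum_congr _ (fun _ _ => rfl)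
    ext yz
    simp only [Finset.mem_product, Finset.mem_filter, Finset.mem_univ, true_and]
  rw [Finset.sum_congr rfl (fun f _ => h1 f), Finset.sum_comm]
  apply Finset.sum_le_sum
  intro yz _
  rw [← Finset.sum_filter, ← Finset.card_eq_sum_ones]
  obtain ⟨l, hl⟩ : ∃ l, l = Nat.lcm (orderOf yz.1) (orderOf yz.2) := ⟨_, rfl⟩
  rw [← hl]
  have hl1 : 1 ≤ l := by rw [hl]; exact Nat.lcm_pos (orderOf_pos _) (orderOf_pos _)
  refine le_trans ?_ (card_supp_le_u hK n l hl1)
  haveI : Finite {f : Fin n → K[X] // f ∈ ParU hK n n ∧ ∀ j : Fin n, f j ≠ 1 → l ∣ j.val + 1} := by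
    haveI : Finite (ParU hK n n) := (finite_ParU hK n n).to_subtype
    exact Finite.of_injective
      (fun f : {f : Fin n → K[X] // f ∈ ParU hK n n ∧ ∀ j : Fin n, f j ≠ 1 → l ∣ j.val + 1} =>
        (⟨f.1, f.2.1⟩ : ParU hK n n))
      (fun f f' h => by
        have h2 := congrArg Subtype.val h
        exact Subtype.ext h2)
  rw [← Nat.card_eq_finsetCard]
  apply Nat.card_le_card_of_injective
    (fun f : {f // f ∈ (parUFinset hK n).filter
        (fun f => yz.1 ^ gg f = 1 ∧ yz.2 ^ gg f = 1)} =>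
      (⟨f.1, by
        have h2 := f.2
        rw [Finset.mem_filter, mem_parUFinset] at h2
        refine ⟨h2.1, fun j hj => ?_⟩
        rw [hl]
        exact Nat.lcm_dvd (supp_dvd_of_pow_eq_one_u f.1 yz.1 h2.2.1 j hj)
          (supp_dvd_of_pow_eq_one_u f.1 yz.2 h2.2.2 j hj)⟩ :
        {f : Fin n → K[X] // f ∈ ParU hK n n ∧ ∀ j : Fin n, f j ≠ 1 → l ∣ j.val + 1}))
  intro f f' h
  have h2 := congrArg Subtype.val h
  exact Subtype.ext h2

end Cfsg.Agent.Lib.Helper4.SUClass
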