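import Mathlib
import Cfsg.Agent.Lib.Lead.FrobCenter4
import Cfsg.Agent.Lib.Lead.FrobSylow
import Cfsg.Agent.Lib.Lead.FpfCyclic

set_option autoImplicit false

/-!
# S3999, package P4c

An element of prime order `p ≥ 5` of a Frobenius complement centralises every 2-subgroup of the
complement that it normalises.
-/

namespace Cfsg.Agent.Lib.Helper5.SameOrdP4c

open Cfsg.Agent.Lib.Lead

universe u

section
variable {X : Type u} [Group X] [Finite X] {H K : Subgroup X}

/-- a 2-subgroup of a Frobenius complement has a unique subgroup of order 2 -/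
theorem uniqueOrderP_two (h : FrobData H K) (Q : Subgroup X) (hQH : Q ≤ H) :
    UniqueOrderP 2 ↥Q := by
  have key : ∀ A : Subgroup ↥Q, Nat.card A = 2 →
      ∃ t : ↥Q, orderOf (t : X) = 2 ∧ A = Subgroup.zpowers t := by
    intro A hA
    have : Fact (Nat.Prime 2) := ⟨Nat.prime_two⟩
    obtain ⟨t, ht⟩ := exists_prime_orderOf_dvd_card' (G := ↥A) 2 (by rw [hA])
    refine ⟨(t : ↥Q), ?_, ?_⟩
    · rw [Subgroup.orderOf_coe, Subgroup.orderOf_coe]; exact ht
    · have h1 : Subgroup.zpowers (t : ↥Q) ≤ A := (Subgroup.zpowers_le).mpr t.2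
      have h3 : Nat.card (Subgroup.zpowers (t : ↥Q)) = 2 := by
        rw [Nat.card_zpowers, Subgroup.orderOf_coe]; exact ht
      exact (Subgroup.eq_of_le_of_card_ge h1 (by rw [h3, hA])).symm
  intro A B hA hB
  obtain ⟨t, ht, htA⟩ := key A hA
  obtain ⟨s, hs, hsB⟩ := key B hB
  have hts : (t : X) = (s : X) :=
    h.involution_unique (t : X) (s : X) (hQH t.2) (hQH s.2) ht hs
  have hts' : t = s := Subtype.ext hts
  rw [htA, hsB, hts']

/-- the counting step: a subgroup `C` of index at most 4 in the 2-group `Q` with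
`|Q| ≡ |C| mod p`, `p ≥ 5` prime, is all of `Q` -/
theorem eq_of_card_modEq {Q C : Subgroup X} (hQ2 : IsPGroup 2 Q) (hCQ : C ≤ Q) (p : ℕ)
    (hp : p.Prime) (hp5 : 5 ≤ p) (hmod : Nat.card Q ≡ Nat.card C [MOD p])
    (h4 : Nat.card Q ≤ 4 * Nat.card C) : C = Q := by
  have : Fact (Nat.Prime 2) := ⟨Nat.prime_two⟩
  obtain ⟨k, hk⟩ := IsPGroup.iff_card.mp hQ2
  have hC2 : IsPGroup 2 C := hQ2.to_le hCQ
  obtain ⟨j, hj⟩ := IsPGroup.iff_card.mp hC2
  have hdvd : Nat.card C ∣ Nat.card Q := Subgroup.card_dvd_of_le hCQ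
  rw [hk, hj] at hdvd hmod h4
  have hjk : j ≤ k := (Nat.pow_dvd_pow_iff_le_right (by norm_num)).mp hdvd
  obtain ⟨i, rfl⟩ := Nat.exists_eq_add_of_le hjk
  -- 2^i ≤ 4
  have hi : 2 ^ i ≤ 4 := by
    rw [pow_add] at h4
    have hpos : 0 < 2 ^ j := by positivity
    nlinarith
  have hi2 : i ≤ 2 := by
    by_contra hcon
    push Not at hcon
    have : 2 ^ 3 ≤ 2 ^ i := Nat.pow_le_pow_right (by norm_num) hcon
    omega
  have hi0 : i = 0 := by
    by_contra hi0
    -- p ∣ 2^j * (2^i - 1)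
    have h1 : p ∣ 2 ^ (j + i) - 2 ^ j :=
      (Nat.modEq_iff_dvd' (by rw [pow_add]; exact Nat.le_mul_of_pos_right _ (by positivity))).mp
        hmod.symm
    have h2 : 2 ^ (j + i) - 2 ^ j = 2 ^ j * (2 ^ i - 1) := by
      rw [pow_add, Nat.mul_sub, mul_one]
    rw [h2] at h1
    have hp2 : ¬ p ∣ 2 ^ j := by
      intro hd
      have := (Nat.prime_dvd_prime_iff_eq hp Nat.prime_two).mp (hp.dvd_of_dvd_pow hd)
      omega
    have h3 : p ∣ 2 ^ i - 1 := (hp.dvd_mul.mp h1).resolve_left hp2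
    have hle : p ≤ 2 ^ i - 1 := by
      apply Nat.le_of_dvd _ h3
      have : 2 ^ 1 ≤ 2 ^ i := Nat.pow_le_pow_right (by norm_num) (by omega)
      omega
    have : 2 ^ i ≤ 2 ^ 2 := Nat.pow_le_pow_right (by norm_num) hi2
    omega
  subst hi0
  exact Subgroup.eq_of_le_of_card_ge hCQ (by rw [hk, hj, add_zero])

/-- **P4c**: an element of prime order `p ≥ 5` of a Frobenius complement centralises every
2-subgroup of the complement that it normalises. -/
theorem prime_centralizes_two_group (h : FrobData H K) (x : X) (hxH : x ∈ H) (p : ℕ)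
    (hp : p.Prime) (hp5 : 5 ≤ p) (hx : orderOf x = p) (Q : Subgroup X) (hQH : Q ≤ H)
    (hQ2 : IsPGroup 2 Q) (hxQ : x ∈ Subgroup.normalizer (Q : Set X)) :
    ∀ y ∈ Q, x * y = y * x := by
  classical
  have hp2fact : Fact (Nat.Prime 2) := ⟨Nat.prime_two⟩
  have hpfact : Fact p.Prime := ⟨hp⟩
  -- `p` does not divide the order of a 2-group
  have hpnd : ∀ A : Subgroup X, A ≤ Q → ¬ p ∣ Nat.card A := by
    intro A hAQ hd
    obtain ⟨k, hk⟩ := IsPGroup.iff_card.mp (hQ2.to_le hAQ)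
    rw [hk] at hd
    have := (Nat.prime_dvd_prime_iff_eq hp Nat.prime_two).mp (hp.dvd_of_dvd_pow hd)
    omega
  -- the centraliser of `x` in `Q`
  set Z : Subgroup X := Subgroup.zpowers x with hZ
  have hZp : IsPGroup p Z := by
    apply IsPGroup.of_card (n := 1)
    rw [Nat.card_zpowers, hx, pow_one]
  have hZQ : Z ≤ Subgroup.normalizer (Q : Set X) := (Subgroup.zpowers_le).mpr hxQ
  set C : Subgroup X := Q ⊓ Subgroup.centralizer (Z : Set X) with hC
  have hmod : Nat.card Q ≡ Nat.card C [MOD p] :=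
    card_modEq_card_inf_centralizer Q Z p hZp hZQ
  have hCQ : C ≤ Q := inf_le_left
  -- it suffices to show `C = Q`
  suffices hCeq : C = Q by
    intro y hy
    have hyC : y ∈ C := by rw [hCeq]; exact hy
    have := (Subgroup.mem_inf.mp hyC).2
    rw [Subgroup.mem_centralizer_iff] at this
    exact this x (Subgroup.mem_zpowers x)
  -- membership in `C`
  have hmemC : ∀ y ∈ Q, x * y = y * x → y ∈ C := by
    intro y hy hxy
    refine Subgroup.mem_inf.mpr ⟨hy, ?_⟩
    rw [Subgroup.mem_centralizer_iff]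
    intro z hz
    obtain ⟨i, rfl⟩ := Subgroup.mem_zpowers_iff.mp hz
    have : Commute x y := hxy
    exact (this.zpow_left i).eq
  apply eq_of_card_modEq hQ2 hCQ p hp hp5 hmod
  -- the index of `C` in `Q` is at most 4
  by_cases hQ1 : Q = ⊥
  · subst hQ1
    have hC1 : C = ⊥ := le_bot_iff.mp hCQ
    rw [hC1]; simp
  -- `C` is not trivial
  have hCne : C ≠ ⊥ := by
    obtain ⟨m, hmQ, hm1, hxm⟩ := h.exists_fixed_of_prime x hxH p hp hx Q hQH hQ1 hxQ (hpnd Q le_rfl)
    intro h0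
    have := hmemC m hmQ hxm
    rw [h0, Subgroup.mem_bot] at this
    exact hm1 this
  have hC2le : 2 ≤ Nat.card C := by
    have h1 : Nat.card C ≠ 1 := fun h1 => hCne (Subgroup.card_eq_one.mp h1)
    have h0 : 0 < Nat.card C := Nat.card_pos
    omega
  by_cases hsmall : Nat.card Q ≤ 8
  · omega
  push Not at hsmall
  -- the structure of `Q`
  have hU : UniqueOrderP 2 ↥Q := uniqueOrderP_two h Q hQH
  have hQ2' : IsPGroup 2 ↥Q := hQ2
  rcases hU.main hQ2' with hcyc | ⟨_, n, ⟨e⟩⟩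
  · -- cyclic, so abelian
    have hcomm : IsMulCommutative Q := ⟨⟨fun a b => (IsCyclic.commGroup (α := ↥Q)).mul_comm a b⟩⟩
    have hall := h.prime_centralizes_abelian x hxH p hp hx Q hQH hxQ (hpnd Q le_rfl)
    have : Q ≤ C := fun y hy => hmemC y hy (hall y hy)
    have := Subgroup.card_le_of_le this
    omega
  -- generalised quaternion of order `4 * 2 ^ n`
  have hne : NeZero (2 ^ n) := ⟨by positivity⟩
  have hcardQ : Nat.card Q = 4 * 2 ^ n := by
    rw [Nat.card_congr e.toEquiv, Nat.card_eq_fintype_card, QuaternionGroup.card]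
  -- `n ≥ 2`
  have hn2 : 2 ≤ n := by
    by_contra hcon
    push Not at hcon
    have : 2 ^ n ≤ 2 ^ 1 := Nat.pow_le_pow_right (by norm_num) (by omega)
    omega
  -- the cyclic subgroup of index 2
  set g0 : ↥Q := e.symm (QuaternionGroup.a 1) with hg0
  have hg0ord : orderOf g0 = 2 * 2 ^ n := by
    rw [hg0, MulEquiv.orderOf_eq, QuaternionGroup.orderOf_a_one]
  have hg0ord' : orderOf (g0 : X) = 2 * 2 ^ n := by rw [Subgroup.orderOf_coe]; exact hg0ord
  set A : Subgroup X := Subgroup.zpowers (g0 : X) with hA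
  have hAQ : A ≤ Q := (Subgroup.zpowers_le).mpr g0.2
  have hcardA : Nat.card A = 2 * 2 ^ n := by rw [Nat.card_zpowers, hg0ord']
  -- elements of `Q` of order `2 * 2 ^ n` lie in `A`
  have hordA : ∀ y : ↥Q, orderOf y = 2 * 2 ^ n → (y : X) ∈ A := by
    intro y hy
    have h8 : 8 ≤ 2 * 2 ^ n := by
      have : 2 ^ 2 ≤ 2 ^ n := Nat.pow_le_pow_right (by norm_num) hn2
      omega
    have hy' : orderOf (e y) = 2 * 2 ^ n := by rw [MulEquiv.orderOf_eq]; exact hy
    rcases hey : e y with i | i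
    · -- `e y = a i = (a 1) ^ i.val`
      have h1 : e y = (QuaternionGroup.a 1) ^ (ZMod.val i) := by
        rw [hey, QuaternionGroup.a_one_pow, ZMod.natCast_zmod_val]
      have h2 : y = g0 ^ (ZMod.val i) := by
        apply e.injective
        rw [h1, map_pow, hg0, MulEquiv.apply_symm_apply]
      rw [h2, Subgroup.coe_pow]
      exact Subgroup.pow_mem _ (Subgroup.mem_zpowers _) _
    · exfalso
      rw [hey, QuaternionGroup.orderOf_xa] at hy'
      omega
  -- all powers of `x` map `g0` into `A`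
  have hconj : ∀ z ∈ Z, z * (g0 : X) * z⁻¹ ∈ A := by
    intro z hz
    have hzN : z ∈ Subgroup.normalizer (Q : Set X) := hZQ hz
    have hmem : z * (g0 : X) * z⁻¹ ∈ Q := (Subgroup.mem_normalizer_iff.mp hzN (g0 : X)).mp g0.2
    have hord : orderOf (⟨z * (g0 : X) * z⁻¹, hmem⟩ : ↥Q) = 2 * 2 ^ n := by
      rw [← Subgroup.orderOf_coe]
      show orderOf (z * (g0 : X) * z⁻¹) = 2 * 2 ^ n
      have hc : z * (g0 : X) * z⁻¹ = MulAut.conj z (g0 : X) := by simp [MulAut.conj_apply]
      rw [hc, MulEquiv.orderOf_eq]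
      exact hg0ord'
    exact hordA ⟨z * (g0 : X) * z⁻¹, hmem⟩ hord
  have hconjA : ∀ z ∈ Z, ∀ a ∈ A, z * a * z⁻¹ ∈ A := by
    intro z hz a ha
    obtain ⟨i, rfl⟩ := Subgroup.mem_zpowers_iff.mp ha
    have : z * (g0 : X) ^ i * z⁻¹ = (z * (g0 : X) * z⁻¹) ^ i := by
      rw [conj_zpow]
    rw [this]
    exact Subgroup.zpow_mem _ (hconj z hz) i
  have hxA : x ∈ Subgroup.normalizer (A : Set X) := by
    rw [Subgroup.mem_normalizer_iff]
    intro a
    constructor
    · exact hconjA x (Subgroup.mem_zpowers x) a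
    · intro ha
      have := hconjA x⁻¹ (Subgroup.inv_mem _ (Subgroup.mem_zpowers x)) _ ha
      rw [inv_inv] at this
      have e1 : x⁻¹ * (x * a * x⁻¹) * x = a := by group
      rwa [e1] at this
  have hallA := h.prime_centralizes_abelian x hxH p hp hx A (hAQ.trans hQH) hxA (hpnd A hAQ)
  have hAC : A ≤ C := fun y hy => hmemC y (hAQ hy) (hallA y hy)
  have := Subgroup.card_le_of_le hAC
  omega

end

end Cfsg.Agent.Lib.Helper5.SameOrdP4c
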