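import Mathlib
import Cfsg.Agent.Lib.Lead.SchDefs

/-!
# S4395, packages S1 (`crit`) and S2 (`SD.card_eq`)

`crit`: the recognition criterion for minimal non-`p`-nilpotent groups (paper §1/§7).
-/

set_option autoImplicit false
universe u

namespace Cfsg.Agent.Lib.Lead.Sch

theorem isPGroup_zpowers_of_orderOf {X : Type u} [Group X] (q : ℕ) (y : X) (k : ℕ)
    (hy : orderOf y = q ^ k) : IsPGroup q (Subgroup.zpowers y) := by
  apply IsPGroup.of_card (n := k)
  rw [Nat.card_zpowers, hy]

theorem isComplement'_P_zpowers {X : Type u} [Group X] (p q : ℕ) [Fact p.Prime] [Fact q.Prime]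
    (hpq : p ≠ q) (P : Subgroup X) (y : X) (hPn : P.Normal) (hPp : IsPGroup p P)
    (hy : ∃ k : ℕ, orderOf y = q ^ k) (hgen : P ⊔ Subgroup.zpowers y = ⊤) :
    P.IsComplement' (Subgroup.zpowers y) := by
  obtain ⟨k, hk⟩ := hy
  have hQ := isPGroup_zpowers_of_orderOf q y k hk
  apply Subgroup.isComplement'_of_disjoint_and_mul_eq_univ
  · exact IsPGroup.disjoint_of_ne p q hpq _ _ hPp hQ
  · rw [← Subgroup.normal_mul, hgen]; rfl

theorem SD.card_eq {X : Type u} [Group X] [Finite X] (p q : ℕ) [Fact p.Prime] [Fact q.Prime] (hpq : p ≠ q)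
    (sd : SD p q X) : Nat.card X = Nat.card sd.P * orderOf sd.y := by
  have hc := isComplement'_P_zpowers p q hpq sd.P sd.y sd.P_normal sd.P_pgroup sd.y_order sd.gen
  rw [← hc.card_mul_card, Nat.card_zpowers]

/-- A finite group with a normal `p`-subgroup `A` of `q`-power index whose elements commute with
those of a Sylow `q`-subgroup has a normal `p`-complement. -/
theorem hasNormalPComplement_of_sylow_commute {K : Type u} [Group K] [Finite K] (p q : ℕ)
    [hp : Fact p.Prime] [hq : Fact q.Prime] (hpq : p ≠ q) (A : Subgroup K)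
    (hAp : IsPGroup p A) (j : ℕ) (hidx : A.index = q ^ j) (Q : Sylow q K)
    (hcomm : ∀ a ∈ A, ∀ g ∈ (Q : Subgroup K), a * g = g * a) :
    Cfsg.HasNormalPComplement p K := by
  obtain ⟨a, ha⟩ := IsPGroup.iff_card.mp hAp
  have hK : Nat.card K = p ^ a * q ^ j := by rw [← A.card_mul_index, ha, hidx]
  have hcop : Nat.Coprime p q := (Nat.coprime_primes hp.out hq.out).2 hpq
  have hQc : Nat.card (Q : Subgroup K) = q ^ j := by
    rw [Q.card_eq_multiplicity, hK,
      Nat.factorization_mul (pow_ne_zero _ hp.out.ne_zero) (pow_ne_zero _ hq.out.ne_zero),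
      hp.out.factorization_pow, hq.out.factorization_pow]
    simp [hpq]
  have hcompl : A.IsComplement' (Q : Subgroup K) := by
    apply Subgroup.isComplement'_of_coprime
    · rw [ha, hQc, hK]
    · rw [ha, hQc]; exact Nat.Coprime.pow _ _ hcop
  have hQn : (Q : Subgroup K).Normal := by
    rw [← Subgroup.normalizer_eq_top_iff, eq_top_iff, ← hcompl.sup_eq_top]
    refine sup_le ?_ Subgroup.le_normalizer
    refine le_trans ?_ (Subgroup.centralizer_le_normalizer _)
    intro x hx
    rw [Subgroup.mem_centralizer_iff]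
    intro g hg
    exact (hcomm x hx g hg).symm
  have hnd : ¬ p ∣ A.index := by
    rw [hidx]
    intro h
    have := hp.out.dvd_of_dvd_pow h
    exact hpq ((Nat.prime_dvd_prime_iff_eq hp.out hq.out).1 this)
  refine ⟨hAp.toSylow hnd, (Q : Subgroup K), hQn, ?_⟩
  exact hcompl.symm

theorem crit {X : Type u} [Group X] [Finite X] (p q : ℕ) [Fact p.Prime] [Fact q.Prime] (hpq : p ≠ q)
    (P C : Subgroup X) (y : X) (hPn : P.Normal) (hPp : IsPGroup p P) (hy : ∃ k : ℕ, orderOf y = q ^ k)
    (hgen : P ⊔ Subgroup.zpowers y = ⊤) (hyq : y ^ q ∈ Subgroup.center X) (hCP : C ≤ P)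
    (hCZ : C ≤ Subgroup.center X) (hcomm : ∀ u ∈ P, ∀ v ∈ P, u * v * u⁻¹ * v⁻¹ ∈ C)
    (hirr : ∀ D : Subgroup X, C ≤ D → D ≤ P → (∀ d ∈ D, y * d * y⁻¹ ∈ D) → D = C ∨ D = P)
    (hnongen : ∀ D : Subgroup X, D ≤ P → D ⊔ C = P → D = P)
    (hmoved : ∃ u ∈ P, y * u * y⁻¹ ≠ u) : MinNonPNilp p X := by
  have hp : Fact p.Prime := inferInstance
  have hq : Fact q.Prime := inferInstance
  have hcop : Nat.Coprime p q := (Nat.coprime_primes hp.out hq.out).2 hpq
  have hcPQ := isComplement'_P_zpowers p q hpq P y hPn hPp hy hgen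
  obtain ⟨k, hk⟩ := hy
  have hPidx : P.index = q ^ k := by
    rw [hcPQ.symm.index_eq_card, Nat.card_zpowers, hk]
  -- elements of `P` of `q`-power order are trivial
  have hP1 : ∀ u ∈ P, ∀ n : ℕ, u ^ (q ^ n) = 1 → u = 1 := by
    intro u hu n hn
    obtain ⟨m, hm⟩ := (IsPGroup.iff_orderOf.mp hPp) ⟨u, hu⟩
    have h1 : orderOf u = p ^ m := by
      rw [← hm]; exact (Subgroup.orderOf_mk u hu).symm
    have h2 : orderOf u ∣ q ^ n := orderOf_dvd_of_pow_eq_one hn
    rw [h1] at h2
    have h3 : p ^ m = 1 := Nat.Coprime.eq_one_of_dvd (Nat.Coprime.pow _ _ hcop) h2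
    rw [h3] at h1
    exact orderOf_eq_one_iff.mp h1
  refine ⟨?_, ?_⟩
  · -- no normal `p`-complement
    rintro ⟨S, N, hNn, hc⟩
    obtain ⟨a, ha⟩ := IsPGroup.iff_card.mp S.2
    have hNidx : N.index = p ^ a := by rw [hc.symm.index_eq_card, ha]
    have hNcard : ¬ p ∣ Nat.card N := by
      rw [← hc.index_eq_card]; exact S.not_dvd_index
    have hyN : y ∈ N := by
      have := hNn
      rw [← QuotientGroup.eq_one_iff (N := N) y, ← orderOf_eq_one_iff]
      have h1 : orderOf ((y : X ⧸ N)) ∣ q ^ k := by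
        rw [← hk]; exact orderOf_map_dvd (QuotientGroup.mk' N) y
      have h2 : orderOf ((y : X ⧸ N)) ∣ p ^ a := by
        rw [← hNidx, Subgroup.index_eq_card]; exact orderOf_dvd_natCard _
      have h3 : Nat.Coprime (q ^ k) (p ^ a) := Nat.Coprime.pow _ _ hcop.symm
      exact Nat.Coprime.eq_one_of_dvd (Nat.Coprime.coprime_dvd_left h1 h3) h2
    obtain ⟨u, hu, hne⟩ := hmoved
    apply hne
    have hwP : y * u * y⁻¹ * u⁻¹ ∈ P := P.mul_mem (hPn.conj_mem u hu y) (P.inv_mem hu)
    have hwN : y * u * y⁻¹ * u⁻¹ ∈ N := by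
      have h1 : u * y⁻¹ * u⁻¹ ∈ N := hNn.conj_mem y⁻¹ (N.inv_mem hyN) u
      have h2 : y * u * y⁻¹ * u⁻¹ = y * (u * y⁻¹ * u⁻¹) := by group
      rw [h2]; exact N.mul_mem hyN h1
    have hw1 : y * u * y⁻¹ * u⁻¹ = 1 := by
      obtain ⟨m, hm⟩ := (IsPGroup.iff_orderOf.mp hPp) ⟨_, hwP⟩
      have h1 : orderOf (y * u * y⁻¹ * u⁻¹) = p ^ m := by
        rw [← hm]; exact (Subgroup.orderOf_mk _ hwP).symm
      have h2 : orderOf (y * u * y⁻¹ * u⁻¹) ∣ Nat.card N := Subgroup.orderOf_dvd_natCard N hwN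
      rcases Nat.eq_zero_or_pos m with h0 | h0
      · rw [h0, pow_zero] at h1; exact orderOf_eq_one_iff.mp h1
      · exfalso; apply hNcard
        rw [h1] at h2
        exact dvd_trans (dvd_pow_self p h0.ne') h2
    calc y * u * y⁻¹ = (y * u * y⁻¹ * u⁻¹) * u := by group
      _ = u := by rw [hw1, one_mul]
  · -- proper subgroups have one
    intro K hK
    have hAp : IsPGroup p (P.subgroupOf K) := hPp.comap_subtype
    have hd : (P.subgroupOf K).index ∣ q ^ k := by
      rw [← hPidx]; exact Subgroup.relIndex_dvd_index_of_normal P K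
    obtain ⟨j, -, hj⟩ := (Nat.dvd_prime_pow hq.out).1 hd
    obtain ⟨Q⟩ : Nonempty (Sylow q K) := inferInstance
    apply hasNormalPComplement_of_sylow_commute p q hpq (P.subgroupOf K) hAp j hj Q
    intro a ha g hg
    have haP : (a : X) ∈ P := Subgroup.mem_subgroupOf.mp ha
    by_cases hKP : K ⊔ P = ⊤
    · -- `K ⊓ P` is central
      have hKPC : K ⊓ P ≤ C := by
        have hCD : C ≤ (K ⊓ P) ⊔ C := le_sup_right
        have hDP : (K ⊓ P) ⊔ C ≤ P := sup_le inf_le_right hCP
        have hyKP : y ∈ ((K ⊔ P : Subgroup X) : Set X) := by rw [hKP]; trivial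
        rw [Subgroup.mul_normal K P, Set.mem_mul] at hyKP
        obtain ⟨k0, hk0, u0, hu0, hyeq⟩ := hyKP
        have hmap : ((K ⊓ P) ⊔ C).map (MulAut.conj y).toMonoidHom ≤ (K ⊓ P) ⊔ C := by
          rw [Subgroup.map_sup]
          refine sup_le ?_ ?_
          · rintro _ ⟨a', ha', rfl⟩
            have h1 : u0 * a' * u0⁻¹ * a'⁻¹ ∈ C := hcomm u0 hu0 a' ha'.2
            have h2 : k0 * a' * k0⁻¹ ∈ K ⊓ P :=
              ⟨K.mul_mem (K.mul_mem hk0 ha'.1) (K.inv_mem hk0), hPn.conj_mem a' ha'.2 k0⟩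
            have hz := Subgroup.mem_center_iff.mp (hCZ h1)
            have h3 : y * a' * y⁻¹ = (k0 * a' * k0⁻¹) * (u0 * a' * u0⁻¹ * a'⁻¹) :=
              calc y * a' * y⁻¹ = k0 * (u0 * a' * u0⁻¹ * a'⁻¹) * a' * k0⁻¹ := by
                    rw [← hyeq]; group
                _ = (u0 * a' * u0⁻¹ * a'⁻¹) * k0 * a' * k0⁻¹ := by rw [hz k0]
                _ = (u0 * a' * u0⁻¹ * a'⁻¹) * (k0 * a' * k0⁻¹) := by group
                _ = (k0 * a' * k0⁻¹) * (u0 * a' * u0⁻¹ * a'⁻¹) := (hz _).symm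
            show y * a' * y⁻¹ ∈ _
            rw [h3]
            exact Subgroup.mul_mem _ (Subgroup.mem_sup_left h2) (Subgroup.mem_sup_right h1)
          · rintro _ ⟨c, hc, rfl⟩
            have hz := Subgroup.mem_center_iff.mp (hCZ hc)
            have h3 : y * c * y⁻¹ = c := by rw [hz y, mul_inv_cancel_right]
            show y * c * y⁻¹ ∈ _
            rw [h3]; exact Subgroup.mem_sup_right hc
        have hinv : ∀ d ∈ (K ⊓ P) ⊔ C, y * d * y⁻¹ ∈ (K ⊓ P) ⊔ C := fun d hd => hmap ⟨d, hd, rfl⟩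
        rcases hirr _ hCD hDP hinv with h | h
        · rw [← h]; exact le_sup_left
        · exfalso
          have h1 := hnongen (K ⊓ P) inf_le_right h
          apply hK
          rw [← hKP]; exact (sup_eq_left.mpr (inf_eq_right.mp h1)).symm
      have hac : (a : X) ∈ Subgroup.center X := hCZ (hKPC ⟨a.2, haP⟩)
      apply Subtype.ext
      rw [Subgroup.coe_mul, Subgroup.coe_mul]
      exact (Subgroup.mem_center_iff.mp hac (g : X)).symm
    · -- `q`-elements of `K` are central
      obtain ⟨n, hn⟩ := (Q.2 : IsPGroup q (Q : Subgroup K)) ⟨g, hg⟩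
      have hgn : (g : X) ^ (q ^ n) = 1 := by
        have h1 : g ^ (q ^ n) = 1 := by
          have := congrArg Subtype.val hn
          simpa using this
        have := congrArg Subtype.val h1
        simpa using this
      have hgtop : (g : X) ∈ ((P ⊔ Subgroup.zpowers y : Subgroup X) : Set X) := by rw [hgen]; trivial
      rw [Subgroup.normal_mul P, Set.mem_mul] at hgtop
      obtain ⟨u, hu, w, hw, hguw⟩ := hgtop
      obtain ⟨i, hi⟩ := Subgroup.mem_zpowers_iff.mp hw
      have hqi : (q : ℤ) ∣ i := by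
        by_contra hnd
        apply hKP
        have hqp : Prime (q : ℤ) := Nat.prime_iff_prime_int.mp hq.out
        have hco : IsCoprime ((q : ℤ) ^ k) i := ((Prime.coprime_iff_not_dvd hqp).2 hnd).pow_left
        obtain ⟨s, t, hst⟩ := hco
        have hy1 : y ^ (s * (q : ℤ) ^ k) = 1 := by
          rw [← orderOf_dvd_iff_zpow_eq_one, hk]
          push_cast
          exact Dvd.intro_left s rfl
        have hyw : y = w ^ t := by
          calc y = y ^ (1 : ℤ) := (zpow_one y).symm
            _ = y ^ (s * (q : ℤ) ^ k + t * i) := by rw [hst]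
            _ = w ^ t := by rw [zpow_add, hy1, one_mul, mul_comm, zpow_mul, hi]
        have hwKP : w ∈ K ⊔ P := by
          have h1 : w = u⁻¹ * (g : X) := by rw [← hguw]; group
          rw [h1]
          exact Subgroup.mul_mem _ (Subgroup.mem_sup_right (P.inv_mem hu)) (Subgroup.mem_sup_left g.2)
        have hyKP : y ∈ K ⊔ P := by rw [hyw]; exact Subgroup.zpow_mem _ hwKP t
        rw [eq_top_iff, ← hgen]
        refine sup_le le_sup_right ?_
        rw [Subgroup.zpowers_le]; exact hyKP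
      obtain ⟨i', rfl⟩ := hqi
      have hwc : w ∈ Subgroup.center X := by
        rw [← hi, zpow_mul, zpow_natCast]
        exact Subgroup.zpow_mem _ hyq i'
      have hcomm' : Commute u w := (Subgroup.mem_center_iff.mp hwc u)
      have hwq : w ^ (q ^ (n + k)) = 1 := by
        have h1 : orderOf w ∣ q ^ k := by rw [← hk]; exact orderOf_dvd_of_mem_zpowers hw
        have h2 : orderOf w ∣ q ^ (n + k) := dvd_trans h1 (pow_dvd_pow q (Nat.le_add_left k n))
        exact orderOf_dvd_iff_pow_eq_one.mp h2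
      have hgq : (g : X) ^ (q ^ (n + k)) = 1 := by
        rw [pow_add, pow_mul, hgn, one_pow]
      have hu1 : u = 1 := by
        apply hP1 u hu (n + k)
        have := hcomm'.mul_pow (q ^ (n + k))
        rw [hguw, hgq, hwq, mul_one] at this
        exact this.symm
      have hgc : (g : X) ∈ Subgroup.center X := by
        rw [← hguw, hu1, one_mul]; exact hwc
      apply Subtype.ext
      rw [Subgroup.coe_mul, Subgroup.coe_mul]
      exact Subgroup.mem_center_iff.mp hgc (a : X)

end Cfsg.Agent.Lib.Lead.Sch
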