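import Mathlib
import Cfsg.Agent.Lib.Lead.SchDefs
import Cfsg.Agent.Lib.Helper7.SchLA1
import Cfsg.Agent.Lib.Helper1.SchField
import Cfsg.Agent.Lib.Lead.SchKappa

/-!
# S4395, package LA2a, even case (redundant copy; the swarm uses Helper7.SchLA2a): `fc_even_h5`
-/

set_option autoImplicit false
universe u

namespace Cfsg.Agent.Lib.Lead.Sch

section
variable {K : Type u} [Field K]

/-- SPAN: the powers of a ring generator span additively. -/
theorem fc_span_mem_h5 (ζ : K) (hgen : ∀ S : Subring K, ζ ∈ S → S = ⊤) (x : K) :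
    x ∈ AddSubgroup.closure (Set.range fun i : ℕ => ζ ^ i) := by
  have h1 : Subring.closure {ζ} = ⊤ := hgen _ (Subring.subset_closure rfl)
  have h2 : x ∈ Subring.closure ({ζ} : Set K) := by rw [h1]; trivial
  rw [Subring.mem_closure_iff] at h2
  refine AddSubgroup.closure_mono ?_ h2
  intro y hy
  rw [SetLike.mem_coe, ← Submonoid.powers_eq_closure, Submonoid.mem_powers_iff] at hy
  obtain ⟨n, rfl⟩ := hy
  exact ⟨n, rfl⟩

theorem fc_even_kills_h5 (p : ℕ) (ζ : K) (hgen : ∀ S : Subring K, ζ ∈ S → S = ⊤) (σ : K ≃+* K)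
    (hσζ : σ ζ = ζ⁻¹) (l : K →+ ZMod p) (hl : ∀ i : ℕ, l (ζ ^ i) = - l (ζ⁻¹ ^ i)) (x : K) :
    l (x + σ x) = 0 := by
  have hx := fc_span_mem_h5 ζ hgen x
  refine AddSubgroup.closure_induction (p := fun x _ => l (x + σ x) = 0) ?_ ?_ ?_ ?_ hx
  · rintro _ ⟨i, rfl⟩
    show l (ζ ^ i + σ (ζ ^ i)) = 0
    rw [map_add, map_pow σ, hσζ, hl i, neg_add_cancel]
  · simp
  · intro a b _ _ ha hb
    have : a + b + σ (a + b) = (a + σ a) + (b + σ b) := by rw [map_add]; ring
    rw [this, map_add, ha, hb, add_zero]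
  · intro a _ ha
    have : -a + σ (-a) = -(a + σ a) := by rw [map_neg]; ring
    rw [this, map_neg, ha, neg_zero]

end

theorem fc_even_h5 (p q : ℕ) [Fact p.Prime] [Fact q.Prime] (hpq : p ≠ q) (s : ℕ)
    (ha : orderOf (p : ZMod q) = 2 * s) {K : Type u} [Field K] [Finite K] [CharP K p] (ζ : K)
    (hζq : ζ ^ q = 1) (hζ1 : ζ ≠ 1) (hgen : ∀ S : Subring K, ζ ∈ S → S = ⊤) :
    Nat.card {l : K →+ ZMod p // ∀ i : ℕ, l (ζ ^ i) = - l (ζ⁻¹ ^ i)} ≤ p ^ s := by
  classical
  have hp : p.Prime := Fact.out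
  have hK : Nat.card K = p ^ (2 * s) := by
    rw [← ha]; exact field_card p q hpq ζ hζq hζ1 hgen
  have hord : orderOf ζ = q := orderOf_eq_prime hζq hζ1
  obtain ⟨σ, -, hσζ, hker, -, -⟩ := field_even p q hpq s ha hK ζ hord
  let f : K →+ K := AddMonoidHom.id K + σ.toAddEquiv.toAddMonoidHom
  have hf : ∀ x, f x = x + σ x := fun x => rfl
  have hle : ∀ l : {l : K →+ ZMod p // ∀ i : ℕ, l (ζ ^ i) = - l (ζ⁻¹ ^ i)}, f.range ≤ l.1.ker := by
    rintro l _ ⟨x, rfl⟩
    rw [AddMonoidHom.mem_ker, hf]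
    exact fc_even_kills_h5 p ζ hgen σ hσζ l.1 l.2 x
  have hexp : ∀ a : K ⧸ f.range, p • a = 0 := by
    intro a
    induction a using QuotientAddGroup.induction_on with
    | H x =>
      rw [← QuotientAddGroup.mk_nsmul, nsmul_eq_mul, CharP.cast_eq_zero, zero_mul]
      rfl
  have h2 : Nat.card (K ⧸ f.range →+ ZMod p) = Nat.card (K ⧸ f.range) :=
    Cfsg.Agent.Lib.Lead.SchKappaAlt.card_addHom_zmod p hexp
  have : Finite (K ⧸ f.range →+ ZMod p) := by
    apply Nat.finite_of_card_ne_zero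
    rw [h2]; exact Nat.card_pos.ne'
  have h1 : Nat.card {l : K →+ ZMod p // ∀ i : ℕ, l (ζ ^ i) = - l (ζ⁻¹ ^ i)} ≤
      Nat.card (K ⧸ f.range →+ ZMod p) := by
    apply Nat.card_le_card_of_injective (fun l => QuotientAddGroup.lift f.range l.1 (hle l))
    intro l l' h
    apply Subtype.ext
    ext x
    have := DFunLike.congr_fun h (QuotientAddGroup.mk x)
    simpa using this
  have h3 : Nat.card (K ⧸ f.range) = p ^ s := by
    have e1 : Nat.card K = Nat.card (K ⧸ f.range) * Nat.card f.range :=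
      AddSubgroup.card_eq_card_quotient_mul_card_addSubgroup f.range
    have e2 : Nat.card K = Nat.card (K ⧸ f.ker) * Nat.card f.ker :=
      AddSubgroup.card_eq_card_quotient_mul_card_addSubgroup f.ker
    have e3 : Nat.card (K ⧸ f.ker) = Nat.card f.range :=
      Nat.card_congr (QuotientAddGroup.quotientKerEquivRange f).toEquiv
    have e4 : Nat.card f.ker = p ^ s := by
      rw [← hker]
      apply Nat.card_congr
      exact Equiv.subtypeEquivRight (fun z => by rw [AddMonoidHom.mem_ker, hf])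
    rw [e3, e4] at e2
    rw [e2, mul_comm (Nat.card ↥f.range)] at e1
    exact (Nat.eq_of_mul_eq_mul_right Nat.card_pos e1).symm
  rw [← h3, ← h2]
  exact h1

end Cfsg.Agent.Lib.Lead.Sch
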