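import Mathlib
import Cfsg.Agent.Lib.Lead.SchDefs

/-!
# S4395, Area E: the generic semidirect product `T ⋊ ℤ/qʳ` carrying a Schmidt datum `SD`
-/

set_option autoImplicit false
universe u

namespace Cfsg.Agent.Lib.Lead.Sch

section semi

variable {T : Type u} [Group T]

/-- the action of `ℤ/n` on `T` by the powers of an automorphism `φ` with `φ ^ n = 1`. -/
noncomputable def semiAct (n : ℕ) (φ : MulAut T) (h : φ ^ n = 1) :
    Multiplicative (ZMod n) →* MulAut T :=
  AddMonoidHom.toMultiplicativeLeft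
    (ZMod.lift n ⟨zmultiplesHom (Additive (MulAut T)) (Additive.ofMul φ), by
      rw [zmultiplesHom_apply, natCast_zsmul, ← ofMul_pow, h]; rfl⟩)

theorem semiAct_ofAdd_intCast (n : ℕ) (φ : MulAut T) (h : φ ^ n = 1) (k : ℤ) :
    semiAct n φ h (Multiplicative.ofAdd (k : ZMod n)) = φ ^ k := by
  unfold semiAct
  show Additive.toMul ((ZMod.lift n _) ((k : ℤ) : ZMod n)) = φ ^ k
  rw [ZMod.lift_coe]
  show Additive.toMul ((zmultiplesHom (Additive (MulAut T)) (Additive.ofMul φ)) k) = φ ^ k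
  rw [zmultiplesHom_apply, ← ofMul_zpow]
  rfl

theorem semiAct_gen (n : ℕ) (φ : MulAut T) (h : φ ^ n = 1) :
    semiAct n φ h (Multiplicative.ofAdd (1 : ZMod n)) = φ := by
  have := semiAct_ofAdd_intCast n φ h 1
  simpa using this

theorem semiAct_mem_zpowers (n : ℕ) (φ : MulAut T) (h : φ ^ n = 1) (a : Multiplicative (ZMod n)) :
    semiAct n φ h a ∈ Subgroup.zpowers φ := by
  have h1 : a = Multiplicative.ofAdd (((Multiplicative.toAdd a).cast : ℤ) : ZMod n) := by
    rw [ZMod.intCast_zmod_cast]; rfl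
  rw [h1, semiAct_ofAdd_intCast]
  exact Subgroup.zpow_mem_zpowers φ _

theorem semiAct_fix (n : ℕ) (φ : MulAut T) (h : φ ^ n = 1) (c : T) (hc : φ c = c)
    (a : Multiplicative (ZMod n)) : semiAct n φ h a c = c := by
  have h1 : Subgroup.zpowers φ ≤ MulAction.stabilizer (MulAut T) c := by
    rw [Subgroup.zpowers_le]
    exact hc
  exact h1 (semiAct_mem_zpowers n φ h a)

/-- elements of the right factor acting trivially are central. -/
theorem semi_inr_mem_center {Z : Type} [CommGroup Z] (ψ : Z →* MulAut T) (a : Z) (ha : ψ a = 1) :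
    (SemidirectProduct.inr a : T ⋊[ψ] Z) ∈ Subgroup.center (T ⋊[ψ] Z) := by
  rw [Subgroup.mem_center_iff]
  intro x
  apply SemidirectProduct.ext
  · simp [ha]
  · simp [mul_comm]

/-- central elements of the left factor fixed by the action are central. -/
theorem semi_inl_mem_center {Z : Type} [Group Z] (ψ : Z →* MulAut T) (c : T)
    (hc : c ∈ Subgroup.center T) (hfix : ∀ a : Z, ψ a c = c) :
    (SemidirectProduct.inl c : T ⋊[ψ] Z) ∈ Subgroup.center (T ⋊[ψ] Z) := by
  rw [Subgroup.mem_center_iff]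
  intro x
  apply SemidirectProduct.ext
  · simp [hfix, Subgroup.mem_center_iff.mp hc x.left]
  · simp

theorem semi_conj_inl {Z : Type} [Group Z] (ψ : Z →* MulAut T) (a : Z) (t : T) :
    (SemidirectProduct.inr a : T ⋊[ψ] Z) * SemidirectProduct.inl t * (SemidirectProduct.inr a)⁻¹ =
      SemidirectProduct.inl (ψ a t) := by
  rw [SemidirectProduct.inl_aut, map_inv]

theorem sd_of_semidirect {T : Type u} [Group T] [Finite T] (p q : ℕ) [hp : Fact p.Prime]
    [hq : Fact q.Prime] (hpq : p ≠ q)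
    (r : ℕ) (hr : 1 ≤ r) (φ : MulAut T) (hφq : φ ^ q = 1) (hT : IsPGroup p T) (C : Subgroup T)
    (hCZ : C ≤ Subgroup.center T) (hCfix : ∀ c ∈ C, φ c = c) (hCexp : ∀ c ∈ C, c ^ p = 1)
    (hcomm : ∀ u v : T, u * v * u⁻¹ * v⁻¹ ∈ C) (hpow : ∀ u : T, u ^ p ∈ C)
    (hCgen : C ≤ Subgroup.closure ({x : T | ∃ u : T, x = u ^ p} ∪
      {x : T | ∃ u v : T, x = u * v * u⁻¹ * v⁻¹}))
    (hirr : ∀ D : Subgroup T, C ≤ D → (∀ d ∈ D, φ d ∈ D) → D = C ∨ D = ⊤)
    (hnongen : ∀ D : Subgroup T, D ⊔ C = ⊤ → D = ⊤)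
    (hmoved : ∃ u : T, φ u ≠ u) :
    ∃ (G₀ : Type u) (_ : Group G₀) (_ : Finite G₀) (sd : SD p q G₀),
      orderOf sd.y = q ^ r ∧ Nat.card sd.P = Nat.card T := by
  have hn : φ ^ (q ^ r) = 1 := by
    obtain ⟨r', rfl⟩ : ∃ r', r = r' + 1 := ⟨r - 1, by omega⟩
    rw [pow_succ', pow_mul, hφq, one_pow]
  haveI : NeZero (q ^ r) := ⟨pow_ne_zero _ hq.out.ne_zero⟩
  let ψ : Multiplicative (ZMod (q ^ r)) →* MulAut T := semiAct (q ^ r) φ hn
  let g : Multiplicative (ZMod (q ^ r)) := Multiplicative.ofAdd 1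
  have hψg : ψ g = φ := semiAct_gen (q ^ r) φ hn
  have hfin : Finite (T ⋊[ψ] Multiplicative (ZMod (q ^ r))) :=
    Finite.of_equiv _ SemidirectProduct.equivProd.symm
  let inl : T →* T ⋊[ψ] Multiplicative (ZMod (q ^ r)) := SemidirectProduct.inl
  let y : T ⋊[ψ] Multiplicative (ZMod (q ^ r)) := SemidirectProduct.inr g
  have hinj : Function.Injective inl := SemidirectProduct.inl_injective
  have hconj : ∀ t : T, y * inl t * y⁻¹ = inl (φ t) := by
    intro t
    rw [← hψg]; exact semi_conj_inl ψ g t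
  have hyord : orderOf y = q ^ r := by
    rw [orderOf_injective SemidirectProduct.inr SemidirectProduct.inr_injective g,
      orderOf_ofAdd_eq_addOrderOf, ZMod.addOrderOf_one]
  have hmemP : ∀ x : T ⋊[ψ] Multiplicative (ZMod (q ^ r)), x ∈ inl.range → ∃ t : T, inl t = x :=
    fun x hx => hx
  refine ⟨T ⋊[ψ] Multiplicative (ZMod (q ^ r)), inferInstance, hfin,
    { P := inl.range
      C := C.map inl
      y := y
      P_normal := ?_
      P_pgroup := hT.of_equiv (MonoidHom.ofInjective hinj)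
      y_order := ⟨r, hyord⟩
      gen := ?_
      yq_central := ?_
      C_le := Subgroup.map_le_range inl C
      C_central := ?_
      C_exp := ?_
      quot_comm := ?_
      quot_exp := ?_
      C_gen := ?_
      irr := ?_
      nongen := ?_
      moved := ?_ }, hyord, ?_⟩
  · -- P_normal
    show (SemidirectProduct.inl : T →* T ⋊[ψ] Multiplicative (ZMod (q ^ r))).range.Normal
    rw [SemidirectProduct.range_inl_eq_ker_rightHom]
    exact MonoidHom.normal_ker _
  · -- gen
    rw [eq_top_iff]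
    intro x _
    rw [← SemidirectProduct.inl_left_mul_inr_right x]
    refine Subgroup.mul_mem _ (Subgroup.mem_sup_left ⟨x.left, rfl⟩) (Subgroup.mem_sup_right ?_)
    rw [Subgroup.mem_zpowers_iff]
    refine ⟨((Multiplicative.toAdd x.right).cast : ℤ), ?_⟩
    show (SemidirectProduct.inr g) ^ _ = _
    rw [← map_zpow]
    congr 1
    show (Multiplicative.ofAdd (1 : ZMod (q ^ r))) ^ _ = _
    rw [← ofAdd_zsmul, zsmul_one, ZMod.intCast_zmod_cast]
    rfl
  · -- yq_central
    show (SemidirectProduct.inr g) ^ q ∈ _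
    rw [← map_pow]
    apply semi_inr_mem_center
    rw [map_pow, hψg, hφq]
  · -- C_central
    rintro _ ⟨c, hc, rfl⟩
    exact semi_inl_mem_center ψ c (hCZ hc) (fun a => semiAct_fix (q ^ r) φ hn c (hCfix c hc) a)
  · -- C_exp
    rintro _ ⟨c, hc, rfl⟩
    rw [← map_pow, hCexp c hc, map_one]
  · -- quot_comm
    rintro _ ⟨u, rfl⟩ _ ⟨v, rfl⟩
    refine ⟨u * v * u⁻¹ * v⁻¹, hcomm u v, ?_⟩
    simp only [map_mul, map_inv]
  · -- quot_exp
    rintro _ ⟨u, rfl⟩
    exact ⟨u ^ p, hpow u, map_pow _ _ _⟩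
  · -- C_gen
    refine le_trans (Subgroup.map_mono hCgen) ?_
    rw [MonoidHom.map_closure]
    apply Subgroup.closure_mono
    rintro _ ⟨x, hx, rfl⟩
    rcases hx with ⟨u, rfl⟩ | ⟨u, v, rfl⟩
    · left
      exact ⟨inl u, ⟨u, rfl⟩, map_pow _ _ _⟩
    · right
      refine ⟨inl u, ⟨u, rfl⟩, inl v, ⟨v, rfl⟩, ?_⟩
      simp only [map_mul, map_inv]
  · -- irr
    intro D hCD hDP hinv
    have hD : D = (D.comap inl).map inl := (Subgroup.map_comap_eq_self hDP).symm
    have h1 : C ≤ D.comap inl := fun c hc => hCD ⟨c, hc, rfl⟩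
    have h2 : ∀ d ∈ D.comap inl, φ d ∈ D.comap inl := by
      intro d hd
      show inl (φ d) ∈ D
      rw [← hconj]
      exact hinv _ hd
    rcases hirr _ h1 h2 with h | h
    · left; rw [hD, h]
    · right; rw [hD, h, ← MonoidHom.range_eq_map]
  · -- nongen
    intro D hDP hDC
    have hD : D = (D.comap inl).map inl := (Subgroup.map_comap_eq_self hDP).symm
    have h1 : D.comap inl ⊔ C = ⊤ := by
      apply Subgroup.map_injective hinj
      rw [Subgroup.map_sup, ← hD, hDC, ← MonoidHom.range_eq_map]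
    rw [hD, hnongen _ h1, ← MonoidHom.range_eq_map]
  · -- moved
    obtain ⟨u, hu⟩ := hmoved
    refine ⟨inl u, ⟨u, rfl⟩, ?_⟩
    rw [hconj]
    exact fun h => hu (hinj h)
  · -- card
    exact (Nat.card_congr (MonoidHom.ofInjective hinj).toEquiv).symm

end semi

end Cfsg.Agent.Lib.Lead.Sch
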