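import Mathlib
import Cfsg.Agent.Lib.Helper5.SchmC2d
import Cfsg.Agent.Lib.Lead.CoprimeAction2

/-!
# S4394, package PC2, part e: steps 7-10
-/

set_option autoImplicit false

namespace Cfsg.Agent.Lib.Helper5.Schm

universe u

namespace Ctx

variable {p : ℕ} [hp : Fact p.Prime] {G : Type u} [Group G] [Finite G] {S R M : Subgroup G}
  {r : ℕ} {s : G} {g : G} {Y₁ : Subgroup G}

theorem Y₁_le_S (h : Ctx p G S R M r s) (f : F2 S R M s g Y₁) : Y₁ ≤ S :=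
  f.le.trans h.YR_le_S

theorem conj_mem_of_normalizer {H : Subgroup G} {a : G}
    (ha : a ∈ Subgroup.normalizer (H : Set G)) {y : G} (hy : y ∈ H) : a * y * a⁻¹ ∈ H :=
  (Subgroup.mem_normalizer_iff.mp ha y).mp hy

theorem conj_inv_mem_of_normalizer {H : Subgroup G} {a : G}
    (ha : a ∈ Subgroup.normalizer (H : Set G)) {y : G} (hy : y ∈ H) : a⁻¹ * y * a ∈ H := by
  have h1 := conj_mem_of_normalizer (Subgroup.inv_mem _ ha) hy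
  rwa [inv_inv] at h1

/-- a central element of `S` commutes with `s` -/
theorem ZS_comm_s (h : Ctx p G S R M r s) {z : G} (hz : z ∈ ZS S) : s * z = z * s :=
  (mem_ZS.mp hz).1 s h.sS

/-- (7a) -/
theorem cm_s_mem (h : Ctx p G S R M r s) (f : F2 S R M s g Y₁) {y : G} (hy : y ∈ Y₁) :
    y * s * y⁻¹ * s⁻¹ ∈ ZS S ∧ y * s * y⁻¹ * s⁻¹ ∈ Y₁ := by
  refine ⟨h.cm_mem_ZS (h.Y₁_le_S f hy) h.sS, ?_⟩
  have h1 : y * s * y⁻¹ * s⁻¹ = y * (s * y⁻¹ * s⁻¹) := by group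
  rw [h1]
  exact Y₁.mul_mem hy (conj_mem_of_normalizer f.sN (Y₁.inv_mem hy))

/-- (7b) `Z(S) ∩ Y₁ ≠ 1` -/
theorem exists_central (h : Ctx p G S R M r s) (f : F2 S R M s g Y₁) :
    ∃ z ∈ ZS S, z ∈ Y₁ ∧ z ≠ 1 := by
  obtain ⟨y, hy1⟩ := (Subgroup.ne_bot_iff_exists_ne_one.mp f.ne)
  have hyY : (y : G) ∈ Y₁ := y.2
  have hy1' : (y : G) ≠ 1 := fun h0 => hy1 (Subtype.ext h0)
  by_cases hys : s * (y : G) = (y : G) * s
  · -- then g⁻¹ y g does not commute with s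
    have hne : s * (g⁻¹ * (y : G) * g) ≠ (g⁻¹ * (y : G) * g) * s := by
      intro hcon
      exact hy1' (f.key y hyY hys hcon)
    have hy' : g⁻¹ * (y : G) * g ∈ Y₁ := conj_inv_mem_of_normalizer f.gN hyY
    obtain ⟨h1, h2⟩ := h.cm_s_mem f hy'
    refine ⟨_, h1, h2, ?_⟩
    intro h3
    apply hne
    have h4 : g⁻¹ * (y : G) * g * s =
        ((g⁻¹ * (y : G) * g) * s * (g⁻¹ * (y : G) * g)⁻¹ * s⁻¹) * (s * (g⁻¹ * (y : G) * g)) := by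
      group
    rw [h4, h3, one_mul]
  · obtain ⟨h1, h2⟩ := h.cm_s_mem f hyY
    refine ⟨_, h1, h2, ?_⟩
    intro h3
    apply hys
    have h4 : (y : G) * s = ((y : G) * s * (y : G)⁻¹ * s⁻¹) * (s * (y : G)) := by group
    rw [h4, h3, one_mul]

/-- conjugating a commutator `[y,a]` by `g`, when `g` commutes with `a` -/
theorem conj_cm_of_comm {g a : G} (hag : g * a = a * g) (y : G) :
    g⁻¹ * (y * a * y⁻¹ * a⁻¹) * g = (g⁻¹ * y * g) * a * (g⁻¹ * y * g)⁻¹ * a⁻¹ := by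
  have e1 : g * a * g⁻¹ = a := by rw [hag]; group
  have e2 : g * a⁻¹ = a⁻¹ * g := by
    have : g * a⁻¹ = a⁻¹ * (a * g) * a⁻¹ := by group
    rw [this, ← hag]; group
  calc g⁻¹ * (y * a * y⁻¹ * a⁻¹) * g = g⁻¹ * y * a * y⁻¹ * (a⁻¹ * g) := by group
    _ = g⁻¹ * y * (g * a * g⁻¹) * y⁻¹ * (g * a⁻¹) := by rw [e1, e2]
    _ = _ := by group

/-- conjugating a commutator `[x,a]` by `g`, when `g` commutes with both -/
theorem conj_cm_of_comm_comm {g a x : G} (hag : g * a = a * g) (hxg : g * x = x * g) :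
    g⁻¹ * (x * a * x⁻¹ * a⁻¹) * g = x * a * x⁻¹ * a⁻¹ := by
  rw [conj_cm_of_comm hag x]
  have e1 : g⁻¹ * x * g = x := by
    have : g⁻¹ * x * g = g⁻¹ * (x * g) := by group
    rw [this, ← hxg]; group
  rw [e1]

/-- (8) `C_S(M)` centralizes `Y₁`. -/
theorem H0_comm (h : Ctx p G S R M r s) (f : F2 S R M s g Y₁) {a : G}
    (ha : a ∈ S ⊓ Subgroup.centralizer (M : Set G)) {y : G} (hy : y ∈ Y₁) : y * a = a * y := by
  have haS : a ∈ S := ha.1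
  have hag : g * a = a * g := Subgroup.mem_centralizer_iff.mp ha.2 g f.gM
  have hk1 : y * a * y⁻¹ * a⁻¹ ∈ ZS S := h.cm_mem_ZS (h.Y₁_le_S f hy) haS
  have hk2 : y * a * y⁻¹ * a⁻¹ ∈ Y₁ := by
    have h1 : y * a * y⁻¹ * a⁻¹ = y * (a * y⁻¹ * a⁻¹) := by group
    rw [h1]
    exact Y₁.mul_mem hy (conj_mem_of_normalizer (f.hN a ha) (Y₁.inv_mem hy))
  have hy' : g⁻¹ * y * g ∈ Y₁ := conj_inv_mem_of_normalizer f.gN hy
  have hk3 : g⁻¹ * (y * a * y⁻¹ * a⁻¹) * g ∈ ZS S := by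
    rw [conj_cm_of_comm hag y]
    exact h.cm_mem_ZS (h.Y₁_le_S f hy') haS
  have hk := f.key _ hk2 (h.ZS_comm_s hk1) (h.ZS_comm_s hk3)
  have h4 : y * a = (y * a * y⁻¹ * a⁻¹) * (a * y) := by group
  rw [h4, hk, one_mul]

/-- (9a) a non-central element `w = g z g⁻¹` of `Y₁` with `z` central. -/
theorem exists_w (h : Ctx p G S R M r s) (f : F2 S R M s g Y₁) :
    ∃ z ∈ ZS S, g * z * g⁻¹ ∈ Y₁ ∧ g * z * g⁻¹ ∉ ZS S := by
  obtain ⟨z, hzZ, hzY, hz1⟩ := h.exists_central f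
  refine ⟨z, hzZ, conj_mem_of_normalizer f.gN hzY, ?_⟩
  intro hw
  have e1 : g⁻¹ * (g * z * g⁻¹) * g = z := by group
  have h1 := f.key _ (conj_mem_of_normalizer f.gN hzY) (h.ZS_comm_s hw)
    (by rw [e1]; exact h.ZS_comm_s hzZ)
  apply hz1
  have : z = g⁻¹ * (g * z * g⁻¹) * g := e1.symm
  rw [this, h1]; group

/-- (9b) commutators with `w ∈ Y₁` are powers of `[w,s]`. -/
theorem cm_w_eq_pow (h : Ctx p G S R M r s) (f : F2 S R M s g Y₁) {w : G} (hw : w ∈ Y₁)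
    {x : G} (hx : x ∈ S) : ∃ i : ℕ, w * x * w⁻¹ * x⁻¹ = (w * s * w⁻¹ * s⁻¹) ^ i := by
  obtain ⟨ρ, hρ, a, ha, i, rfl⟩ := h.decomp x hx
  refine ⟨i, ?_⟩
  have hwρ : w * ρ = ρ * w := ((mem_YR.mp (f.le hw)).1 ρ hρ).symm
  have hwa : w * a = a * w := h.H0_comm f ha hw
  have hk : w * s * w⁻¹ * s⁻¹ ∈ ZS S := h.cm_mem_ZS (h.Y₁_le_S f hw) h.sS
  have hpow : w * s ^ i * w⁻¹ * (s ^ i)⁻¹ = (w * s * w⁻¹ * s⁻¹) ^ i :=
    cm_pow_right w s ((h.ZS_comm_s hk).symm) i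
  have hkpow : (w * s * w⁻¹ * s⁻¹) ^ i ∈ ZS S := (ZS S).pow_mem hk i
  have hρa : ρ * a ∈ S := S.mul_mem (h.RS hρ) ha.1
  have hc : (ρ * a) * (w * s * w⁻¹ * s⁻¹) ^ i = (w * s * w⁻¹ * s⁻¹) ^ i * (ρ * a) :=
    (mem_ZS.mp hkpow).1 _ hρa
  have hwρa : w * (ρ * a) = (ρ * a) * w := by
    rw [← mul_assoc, hwρ, mul_assoc, hwa, ← mul_assoc]
  calc w * (ρ * a * s ^ i) * w⁻¹ * (ρ * a * s ^ i)⁻¹
      = (w * (ρ * a)) * s ^ i * w⁻¹ * (s ^ i)⁻¹ * (ρ * a)⁻¹ := by group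
    _ = (ρ * a) * (w * s ^ i * w⁻¹ * (s ^ i)⁻¹) * (ρ * a)⁻¹ := by rw [hwρa]; group
    _ = (ρ * a) * (w * s * w⁻¹ * s⁻¹) ^ i * (ρ * a)⁻¹ := by rw [hpow]
    _ = (w * s * w⁻¹ * s⁻¹) ^ i := by rw [hc]; group

/-- (9c) `Z(S)` consists of the powers of `k₀ = [w,s]`, and `k₀ ^ p = 1`. -/
theorem ZS_pow (h : Ctx p G S R M r s) (f : F2 S R M s g Y₁) {w : G} (hw : w ∈ Y₁)
    (hwZ : w ∉ ZS S) :
    (w * s * w⁻¹ * s⁻¹) ^ p = 1 ∧ ∀ z ∈ ZS S, ∃ i : ℕ, z = (w * s * w⁻¹ * s⁻¹) ^ i := by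
  have hwS : w ∈ S := h.Y₁_le_S f hw
  have hk : w * s * w⁻¹ * s⁻¹ ∈ ZS S := h.cm_mem_ZS hwS h.sS
  constructor
  · rw [← cm_pow_right w s ((h.ZS_comm_s hk).symm) p]
    have h1 : w * s ^ p = s ^ p * w := (mem_ZS.mp h.sp_mem_ZS).1 w hwS
    rw [h1]; group
  · intro z hz
    have hnc : ∃ x ∈ S, w * x ≠ x * w := by
      by_contra hcon
      push_neg at hcon
      exact hwZ (mem_ZS.mpr ⟨fun x hx => (hcon x hx).symm, hwS⟩)
    obtain ⟨g', hg', hgz⟩ := h.se.semi w hwS hnc z (mem_ZS.mp hz).2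
      (fun x hx => ((mem_ZS.mp hz).1 x hx).symm)
    obtain ⟨i, hi⟩ := h.cm_w_eq_pow f hw hg'
    exact ⟨i, by rw [← hgz, hi]⟩

/-- (9d) `Z(S) ≤ Y₁`. -/
theorem ZS_le_Y₁ (h : Ctx p G S R M r s) (f : F2 S R M s g Y₁) : ZS S ≤ Y₁ := by
  obtain ⟨z₀, hz₀, hwY, hwZ⟩ := h.exists_w f
  obtain ⟨_, hall⟩ := h.ZS_pow f hwY hwZ
  intro z hz
  obtain ⟨i, rfl⟩ := hall z hz
  exact Y₁.pow_mem (h.cm_s_mem f hwY).2 i

/-- the key property for central elements: a central element of `S` whose `g`-conjugate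
commutes with `s` is trivial -/
theorem ZS_key (h : Ctx p G S R M r s) (f : F2 S R M s g Y₁) {k : G} (hk : k ∈ ZS S)
    (hkg : s * (g⁻¹ * k * g) = (g⁻¹ * k * g) * s) : k = 1 :=
  f.key k (h.ZS_le_Y₁ f hk) (h.ZS_comm_s hk) hkg

end Ctx

end Cfsg.Agent.Lib.Helper5.Schm
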