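import Mathlib
import Cfsg.Agent.Lib.Helper5.SchmC2e
import Cfsg.Agent.Lib.Lead.Core
import Cfsg.Agent.Lib.Helper6.PCore
import Cfsg.Agent.Lib.Helper4.HallHigman

/-!
# S4394, package PC2, part f: step 10 and the assembly of `no_config`
-/

set_option autoImplicit false

namespace Cfsg.Agent.Lib.Helper5.Schm

universe u

namespace Ctx

variable {p : ℕ} [hp : Fact p.Prime] {G : Type u} [Group G] [Finite G] {S R M : Subgroup G}
  {r : ℕ} {s : G} {g : G} {Y₁ : Subgroup G}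

/-- (10a) `C_S(M)` centralizes `C_R(M)`. -/
theorem H0_comm_R₀ (h : Ctx p G S R M r s) (f : F2 S R M s g Y₁) {a : G}
    (ha : a ∈ S ⊓ Subgroup.centralizer (M : Set G)) {x : G} (hxR : x ∈ R)
    (hxM : x ∈ Subgroup.centralizer (M : Set G)) : x * a = a * x := by
  have hag : g * a = a * g := Subgroup.mem_centralizer_iff.mp ha.2 g f.gM
  have hxg : g * x = x * g := Subgroup.mem_centralizer_iff.mp hxM g f.gM
  have hk : x * a * x⁻¹ * a⁻¹ ∈ ZS S := h.cm_mem_ZS (h.RS hxR) ha.1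
  have h1 := h.ZS_key f hk (by rw [conj_cm_of_comm_comm hag hxg]; exact h.ZS_comm_s hk)
  have h4 : x * a = (x * a * x⁻¹ * a⁻¹) * (a * x) := by group
  rw [h4, h1, one_mul]

/-- (10b) `C_S(M)` centralizes `Z(R)`. -/
theorem H0_comm_YR (h : Ctx p G S R M r s) (f : F2 S R M s g Y₁) {a : G}
    (ha : a ∈ S ⊓ Subgroup.centralizer (M : Set G)) {y : G} (hy : y ∈ YR R) :
    y * a = a * y := by
  haveI := h.Rn
  have hag : g * a = a * g := Subgroup.mem_centralizer_iff.mp ha.2 g f.gM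
  have hk : y * a * y⁻¹ * a⁻¹ ∈ ZS S := h.cm_mem_ZS (h.YR_le_S hy) ha.1
  have hy' : g⁻¹ * y * g ∈ YR R := by
    have h1 := (YR_normal R).conj_mem y hy g⁻¹
    rwa [inv_inv] at h1
  have hk' : g⁻¹ * (y * a * y⁻¹ * a⁻¹) * g ∈ ZS S := by
    rw [conj_cm_of_comm hag y]
    exact h.cm_mem_ZS (h.YR_le_S hy') ha.1
  have h1 := h.ZS_key f hk (h.ZS_comm_s hk')
  have h4 : y * a = (y * a * y⁻¹ * a⁻¹) * (a * y) := by group
  rw [h4, h1, one_mul]

theorem card_coprime_R (h : Ctx p G S R M r s) :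
    (Nat.card M).Coprime (Nat.card R) := by
  haveI : Fact r.Prime := ⟨h.rprime⟩
  obtain ⟨k, hk⟩ := IsPGroup.iff_card.mp h.Mr
  obtain ⟨j, hj⟩ := IsPGroup.iff_card.mp h.Rp
  rw [hj, hk]
  exact Nat.Coprime.pow _ _ ((Nat.coprime_primes h.rprime hp.out).mpr h.rne)

/-- (10c) `R = [R,M] C_R(M)`. -/
theorem R_decomp (h : Ctx p G S R M r s) :
    ⁅R, M⁆ ⊔ (R ⊓ Subgroup.centralizer (M : Set G)) = R := by
  haveI := h.Rn
  apply Cfsg.Agent.Lib.Lead.coprime_commutator_sup_centralizer M R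
  · rw [Subgroup.normalizer_eq_top]; exact le_top
  · exact h.card_coprime_R
  · right
    haveI : Group.IsNilpotent R := h.Rp.isNilpotent
    infer_instance

/-- `[R,M] ≤ Z(R)`. -/
theorem comm_RM_le (h : Ctx p G S R M r s) : ⁅R, M⁆ ≤ YR R := by
  rw [Subgroup.commutator_le]
  intro x hx m hm
  have h1 := (YR R).inv_mem (h.M_triv hm hx)
  have h2 : (m * x * m⁻¹ * x⁻¹)⁻¹ = x * m * x⁻¹ * m⁻¹ := by group
  rw [commutatorElement_def, ← h2]
  exact h1

/-- (10d) `C_S(M) ≤ R`. -/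
theorem H0_le_R (h : Ctx p G S R M r s) (f : F2 S R M s g Y₁) {a : G}
    (ha : a ∈ S ⊓ Subgroup.centralizer (M : Set G)) : a ∈ R := by
  apply h.CR
  have key : ⁅R, M⁆ ⊔ (R ⊓ Subgroup.centralizer (M : Set G)) ≤
      Subgroup.centralizer ({a} : Set G) := by
    apply sup_le
    · intro y hy
      rw [Subgroup.mem_centralizer_singleton_iff]
      exact h.H0_comm_YR f ha (h.comm_RM_le hy)
    · intro x hx
      rw [Subgroup.mem_centralizer_singleton_iff]
      exact h.H0_comm_R₀ f ha hx.1 hx.2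
  rw [h.R_decomp] at key
  rw [Subgroup.mem_centralizer_iff]
  intro x hx
  have := key hx
  rw [Subgroup.mem_centralizer_singleton_iff] at this
  exact this

/-- (11a) `R` is abelian. -/
theorem R_comm (h : Ctx p G S R M r s) (f : F2 S R M s g Y₁) {a b : G} (ha : a ∈ R)
    (hb : b ∈ R) : a * b = b * a := by
  -- first: elements of `C_R(M)` are central in `R`
  have h0 : ∀ x ∈ R ⊓ Subgroup.centralizer (M : Set G), ∀ b ∈ R, b * x = x * b := by
    intro x hx
    have key : ⁅R, M⁆ ⊔ (R ⊓ Subgroup.centralizer (M : Set G)) ≤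
        Subgroup.centralizer ({x} : Set G) := by
      apply sup_le
      · intro y hy
        rw [Subgroup.mem_centralizer_singleton_iff]
        exact ((mem_YR.mp (h.comm_RM_le hy)).1 x hx.1).symm
      · intro x' hx'
        rw [Subgroup.mem_centralizer_singleton_iff]
        exact h.H0_comm_R₀ f ⟨h.RS hx.1, hx.2⟩ hx'.1 hx'.2
    rw [h.R_decomp] at key
    intro b hb
    have := key hb
    rw [Subgroup.mem_centralizer_singleton_iff] at this
    exact this
  have key : ⁅R, M⁆ ⊔ (R ⊓ Subgroup.centralizer (M : Set G)) ≤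
      Subgroup.centralizer ({b} : Set G) := by
    apply sup_le
    · intro y hy
      rw [Subgroup.mem_centralizer_singleton_iff]
      exact ((mem_YR.mp (h.comm_RM_le hy)).1 b hb).symm
    · intro x hx
      rw [Subgroup.mem_centralizer_singleton_iff]
      exact (h0 x hx b hb).symm
  rw [h.R_decomp] at key
  have := key ha
  rw [Subgroup.mem_centralizer_singleton_iff] at this
  exact this

/-- The data for the final counting. -/
theorem final_data (h : Ctx p G S R M r s) :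
    (∀ a, a ∈ S → a ∈ Subgroup.centralizer (M : Set G) → a ∈ R) ∧
    (∀ a, a ∈ R → ∀ b, b ∈ R → a * b = b * a) ∧
    ∃ k₀ : G, k₀ ^ p = 1 ∧ (∀ z, z ∈ ZS S → ∃ i : ℕ, z = k₀ ^ i) ∧
      ∃ w : G, w ∈ R ∧ w ∉ ZS S ∧ w ^ p = 1 := by
  obtain ⟨g, Y₁, f⟩ := h.f2
  refine ⟨fun a ha1 ha2 => h.H0_le_R f ⟨ha1, ha2⟩, fun a ha b hb => h.R_comm f ha hb, ?_⟩
  obtain ⟨z₀, hz₀, hwY, hwZ⟩ := h.exists_w f
  obtain ⟨hk₀p, hall⟩ := h.ZS_pow f hwY hwZ
  refine ⟨_, hk₀p, hall, g * z₀ * g⁻¹, YR_le R (f.le hwY), hwZ, ?_⟩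
  obtain ⟨i, hi⟩ := hall z₀ hz₀
  have hz₀p : z₀ ^ p = 1 := by
    rw [hi, ← pow_mul, mul_comm, pow_mul, hk₀p, one_pow]
  have h1 : (g * z₀ * g⁻¹) ^ p = g * z₀ ^ p * g⁻¹ := by
    rw [conj_pow]
  rw [h1, hz₀p]; group

/-- `p ≤ 3`, given the conclusion of package PD. -/
theorem p_le_three (hPD : p ≠ 2 → p = 3) : p ≤ 3 := by
  by_cases h2 : p = 2
  · omega
  · have := hPD h2; omega

end Ctx

/-- `Ctx` from `Config`. -/
theorem Ctx.of_config {G : Type u} [Group G] [Finite G] {p : ℕ} [Fact p.Prime]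
    (hG : Cfsg.IsPSolvable p G) (hO : Cfsg.pPrimeCore p G = ⊥) (S : Sylow p G)
    (hS : SE p ↥(S : Subgroup G)) (M : Subgroup G) (r : ℕ) (s : G)
    (h : Config p G (S : Subgroup G) M r s) :
    Ctx p G (S : Subgroup G) (Cfsg.pCore p G) M r s where
  se := SEin.of_SE hS
  Sp := S.isPGroup'
  Rn := Cfsg.Agent.Lib.Lead.pCore_normal p
  RS := Cfsg.Agent.Lib.Helper6.pCore_le_sylow S
  CR := Cfsg.Agent.Lib.Helper4.centralizer_pCore_le_of_isPSolvable hG hO
  rprime := h.rprime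
  rne := h.rne
  Mr := h.Mr
  sS := h.sS
  sM := h.sM
  snc := h.snc
  decomp := h.decomp
  minimal := h.minimal

end Cfsg.Agent.Lib.Helper5.Schm
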