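import Mathlib
import Cfsg.Agent.Lib.Helper5.SchmC2f

/-!
# S4394, package PC2, part g: `no_config` from the statements of PD and L11
-/

set_option autoImplicit false

namespace Cfsg.Agent.Lib.Helper5.Schm

universe u

/-- the statement of package PD (conclusion `p = 3` only) -/
def PDStatement : Prop :=
  ∀ {G : Type u} [Group G] [Finite G] {p : ℕ} [Fact p.Prime] (_hp2 : p ≠ 2)
    (Y M : Subgroup G) (s : G) (r : ℕ) (_hr : r.Prime) (_hrp : r ≠ p)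
    (_hYab : ∀ a ∈ Y, ∀ b ∈ Y, a * b = b * a) (_hYexp : ∀ a ∈ Y, a ^ p = 1)
    (_hMY : M ≤ Subgroup.normalizer (Y : Set G)) (_hsY : s ∈ Subgroup.normalizer (Y : Set G))
    (_hM : IsPGroup r M) (_hsM : s ∈ Subgroup.normalizer (M : Set G))
    (_hsp : ∀ y ∈ Y, s ^ p * y = y * s ^ p) (_hspM : ∀ m ∈ M, s ^ p * m = m * s ^ p)
    (_hfaith : ∀ m ∈ M, (∀ y ∈ Y, m * y = y * m) → m = 1)
    (_hninn : ∀ m₀ ∈ M, ∃ m ∈ M, s * m * s⁻¹ ≠ m₀ * m * m₀⁻¹)
    (_hquad : ∀ y ∈ Y, (y * s * y⁻¹ * s⁻¹) * s = s * (y * s * y⁻¹ * s⁻¹)), p = 3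

/-- the statement of piece L11 -/
def L11Statement : Prop :=
  ∀ {p : ℕ} [Fact p.Prime] {G : Type u} [Group G] [Finite G] {S R M : Subgroup G}
    {r : ℕ} {s : G} (_c : Ctx p G S R M r s) (_hp3 : p ≤ 3)
    (_hH : ∀ h, h ∈ S → h ∈ Subgroup.centralizer (M : Set G) → h ∈ R)
    (_hRab : ∀ a, a ∈ R → ∀ b, b ∈ R → a * b = b * a)
    (k₀ : G) (_hk₀p : k₀ ^ p = 1) (_hZ : ∀ z, z ∈ ZS S → ∃ i : ℕ, z = k₀ ^ i)
    (w : G) (_hwR : w ∈ R) (_hwZ : w ∉ ZS S) (_hwp : w ^ p = 1), False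

namespace Ctx

variable {p : ℕ} [hp : Fact p.Prime] {G : Type u} [Group G] [Finite G] {S R M : Subgroup G}
  {r : ℕ} {s : G}

theorem p_eq_three_of (c : Ctx p G S R M r s) (hPD : PDStatement.{u}) (hp2 : p ≠ 2) :
    p = 3 := by
  haveI := c.Rn
  have hnormY : ∀ a : G, a ∈ Subgroup.normalizer ((YR R : Subgroup G) : Set G) := by
    intro a
    exact (Subgroup.normalizer_eq_top (H := YR R)) ▸ Subgroup.mem_top a
  refine hPD hp2 (YR R) M s r c.rprime c.rne (fun a ha b hb => YR_comm ha hb)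
    (fun a ha => c.se.exp hp2 a (c.YR_le_S ha)) (fun a _ => hnormY a) (hnormY s) c.Mr c.sM
    (fun y hy => ((mem_ZS.mp c.sp_mem_ZS).1 y (c.YR_le_S hy)).symm)
    (fun m hm => c.sp_comm hm) (fun m hm hc => c.M_faith hm hc)
    (fun m₀ hm₀ => c.not_inner hm₀) ?_
  intro y hy
  exact (c.ZS_comm_s (c.cm_mem_ZS (c.YR_le_S hy) c.sS)).symm

theorem false_of (c : Ctx p G S R M r s) (hPD : PDStatement.{u}) (hL : L11Statement.{u}) :
    False := by
  obtain ⟨hH, hRab, k₀, hk₀p, hZ, w, hwR, hwZ, hwp⟩ := c.final_data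
  exact hL c (p_le_three (fun hp2 => c.p_eq_three_of hPD hp2)) hH hRab k₀ hk₀p hZ w hwR hwZ hwp

end Ctx

/-- package PC2, modulo PD and L11 -/
theorem no_config_of (hPD : PDStatement.{u}) (hL : L11Statement.{u})
    {G : Type u} [Group G] [Finite G] {p : ℕ} [Fact p.Prime]
    (hG : Cfsg.IsPSolvable p G) (hO : Cfsg.pPrimeCore p G = ⊥) (S : Sylow p G)
    (hS : SE p ↥(S : Subgroup G)) (M : Subgroup G) (r : ℕ) (s : G)
    (h : Config p G (S : Subgroup G) M r s) : False :=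
  (Ctx.of_config hG hO S hS M r s h).false_of hPD hL

end Cfsg.Agent.Lib.Helper5.Schm
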