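import Mathlib
import Cfsg.Agent.Lib.Helper5.SchmC2g

/-!
# S4394, package PC2, part h: step 11 (the final counting)
-/

set_option autoImplicit false

namespace Cfsg.Agent.Lib.Helper5.Schm

universe u

theorem card_lt_of_le_of_not_mem {G : Type u} [Group G] [Finite G] {H K : Subgroup G}
    (hle : H ≤ K) {w : G} (hwK : w ∈ K) (hwH : w ∉ H) : Nat.card H < Nat.card K := by
  by_contra hcon
  push_neg at hcon
  have h1 := Subgroup.eq_of_le_of_card_ge hle hcon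
  exact hwH (h1 ▸ hwK)

theorem card_ZS_le {p : ℕ} [hp : Fact p.Prime] {G : Type u} [Group G] [Finite G]
    {S : Subgroup G} {k₀ : G} (hk₀p : k₀ ^ p = 1)
    (hZ : ∀ z, z ∈ ZS S → ∃ i : ℕ, z = k₀ ^ i) : Nat.card (ZS S) ≤ p := by
  classical
  have hp0 : 0 < p := hp.out.pos
  let f : ZS S → Fin p := fun z => ⟨(hZ z.1 z.2).choose % p, Nat.mod_lt _ hp0⟩
  have hf : Function.Injective f := by
    intro z z' hzz
    have h1 : (hZ z.1 z.2).choose % p = (hZ z'.1 z'.2).choose % p := congrArg Fin.val hzz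
    apply Subtype.ext
    calc z.1 = k₀ ^ (hZ z.1 z.2).choose := (hZ z.1 z.2).choose_spec
      _ = k₀ ^ ((hZ z.1 z.2).choose % p) := pow_eq_pow_mod _ hk₀p
      _ = k₀ ^ ((hZ z'.1 z'.2).choose % p) := by rw [h1]
      _ = k₀ ^ (hZ z'.1 z'.2).choose := (pow_eq_pow_mod _ hk₀p).symm
      _ = z'.1 := (hZ z'.1 z'.2).choose_spec.symm
  have h2 := Nat.card_le_card_of_injective f hf
  rwa [Nat.card_fin] at h2

namespace Ctx

variable {p : ℕ} [hp : Fact p.Prime] {G : Type u} [Group G] [Finite G] {S R M : Subgroup G}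
  {r : ℕ} {s : G}

/-- Step 11. -/
theorem final (c : Ctx p G S R M r s) (hp3 : p ≤ 3)
    (hH : ∀ h, h ∈ S → h ∈ Subgroup.centralizer (M : Set G) → h ∈ R)
    (hRab : ∀ a, a ∈ R → ∀ b, b ∈ R → a * b = b * a)
    (k₀ : G) (hk₀p : k₀ ^ p = 1) (hZ : ∀ z, z ∈ ZS S → ∃ i : ℕ, z = k₀ ^ i)
    (w : G) (hwR : w ∈ R) (hwZ : w ∉ ZS S) (hwp : w ^ p = 1) : False := by
  classical
  have hp1 : 1 < p := hp.out.one_lt
  have hp0 : 0 < p := hp.out.pos
  -- (i)
  have hdec : ∀ x ∈ S, ∃ ρ ∈ R, ∃ i : ℕ, x = ρ * s ^ i := by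
    intro x hx
    obtain ⟨ρ, hρ, a, ha, i, rfl⟩ := c.decomp x hx
    exact ⟨ρ * a, R.mul_mem hρ (hH a ha.1 ha.2), i, rfl⟩
  -- (ii)
  have hCs : ∀ x ∈ R, x * s = s * x → x ∈ ZS S := by
    intro x hx hxs
    refine mem_ZS.mpr ⟨fun y hy => ?_, c.RS hx⟩
    obtain ⟨ρ, hρ, i, rfl⟩ := hdec y hy
    have h1 : Commute x (s ^ i) := (show Commute x s from hxs).pow_right i
    have h2 : Commute x ρ := hRab x hx ρ hρ
    exact ((h2.mul_right h1).eq).symm
  -- (iii) the hom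
  have hcm : ∀ x : R, (x : G) * s * (x : G)⁻¹ * s⁻¹ ∈ ZS S :=
    fun x => c.cm_mem_ZS (c.RS x.2) c.sS
  let φ : R →* ZS S := MonoidHom.mk' (fun x => ⟨(x : G) * s * (x : G)⁻¹ * s⁻¹, hcm x⟩) (by
    intro a b
    apply Subtype.ext
    show ((a * b : R) : G) * s * ((a * b : R) : G)⁻¹ * s⁻¹ =
      ((a : G) * s * (a : G)⁻¹ * s⁻¹) * ((b : G) * s * (b : G)⁻¹ * s⁻¹)
    rw [Subgroup.coe_mul,
      cm_mul_left (a : G) (b : G) s ((mem_ZS.mp (hcm b)).1 a (c.RS a.2)).symm]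
    exact ((mem_ZS.mp (hcm b)).1 _ (mem_ZS.mp (hcm a)).2).symm)
  have hφ : ∀ x : R, ((φ x : ZS S) : G) = (x : G) * s * (x : G)⁻¹ * s⁻¹ := fun x => rfl
  have h1 : Nat.card φ.ker * φ.ker.index = Nat.card R := Subgroup.card_mul_index φ.ker
  have h2 : φ.ker.index = Nat.card φ.range := Subgroup.index_ker φ
  have h3 : Nat.card φ.range ≤ Nat.card (ZS S) := Subgroup.card_le_card_group _
  have h4 : Nat.card φ.ker ≤ Nat.card (ZS S) := by
    have hmem : ∀ x : φ.ker, ((x : R) : G) ∈ ZS S := by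
      intro x
      apply hCs _ x.1.2
      have h5 : φ x.1 = 1 := MonoidHom.mem_ker.mp x.2
      have h6 : ((x : R) : G) * s * ((x : R) : G)⁻¹ * s⁻¹ = 1 := by
        rw [← hφ, h5]; rfl
      have h7 : ((x : R) : G) * s =
          (((x : R) : G) * s * ((x : R) : G)⁻¹ * s⁻¹) * (s * ((x : R) : G)) := by group
      rw [h7, h6, one_mul]
    let ι : φ.ker → ZS S := fun x => ⟨((x : R) : G), hmem x⟩
    apply Nat.card_le_card_of_injective ι
    intro x y hxy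
    apply Subtype.ext
    apply Subtype.ext
    have h9 : (ι x).1 = (ι y).1 := congrArg Subtype.val hxy
    exact h9
  have hZp : Nat.card (ZS S) ≤ p := card_ZS_le hk₀p hZ
  have hRle : Nat.card R ≤ p * p := by
    rw [← h1, h2]
    exact Nat.mul_le_mul (h4.trans hZp) (h3.trans hZp)
  -- (iv)
  have hkw : w * s * w⁻¹ * s⁻¹ ∈ ZS S := c.cm_mem_ZS (c.RS hwR) c.sS
  have hkw1 : w * s * w⁻¹ * s⁻¹ ≠ 1 := by
    intro h5
    apply hwZ
    apply hCs w hwR
    have h7 : w * s = (w * s * w⁻¹ * s⁻¹) * (s * w) := by group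
    rw [h7, h5, one_mul]
  obtain ⟨a, ha⟩ := IsPGroup.iff_card.mp (c.Rp.to_le c.ZS_le_R)
  obtain ⟨b, hb⟩ := IsPGroup.iff_card.mp c.Rp
  obtain ⟨e, he⟩ := IsPGroup.iff_card.mp c.Sp
  have ha1 : 1 ≤ a := by
    rcases Nat.eq_zero_or_pos a with h0 | h0
    · exfalso
      rw [h0, pow_zero] at ha
      have hbot : ZS S = ⊥ := Subgroup.card_eq_one.mp ha
      rw [hbot, Subgroup.mem_bot] at hkw
      exact hkw1 hkw
    · exact h0
  have hZcard : Nat.card (ZS S) = p := by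
    apply le_antisymm hZp
    rw [ha]
    calc p = p ^ 1 := (pow_one p).symm
      _ ≤ p ^ a := Nat.pow_le_pow_right hp0 ha1
  have hZltR : Nat.card (ZS S) < Nat.card R := card_lt_of_le_of_not_mem c.ZS_le_R hwR hwZ
  have hb2 : b = 2 := by
    rw [hZcard, hb] at hZltR
    rw [hb, ← pow_two] at hRle
    have h5 : b ≤ 2 := (Nat.pow_le_pow_iff_right hp1).mp hRle
    have h6 : 1 < b := by
      have : p ^ 1 < p ^ b := by rwa [pow_one]
      exact (Nat.pow_lt_pow_iff_right hp1).mp this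
    omega
  have hRcard : Nat.card R = p ^ 2 := by rw [hb, hb2]
  -- (v)
  have hsR : s ∉ R := by
    intro hs
    apply hwZ
    refine mem_ZS.mpr ⟨fun x hx => ?_, c.RS hwR⟩
    obtain ⟨ρ, hρ, i, rfl⟩ := hdec x hx
    exact hRab _ (R.mul_mem hρ (R.pow_mem hs i)) w hwR
  have hRltS : Nat.card R < Nat.card S := card_lt_of_le_of_not_mem c.RS c.sS hsR
  have hSle : Nat.card S ≤ p ^ 2 * p := by
    let ψ : R × Fin p → S := fun x => ⟨(x.1 : G) * s ^ (x.2 : ℕ),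
      S.mul_mem (c.RS x.1.2) (S.pow_mem c.sS _)⟩
    have hψ : Function.Surjective ψ := by
      intro x
      obtain ⟨ρ, hρ, i, hx⟩ := hdec x.1 x.2
      have hspR : (s ^ p) ^ (i / p) ∈ R := R.pow_mem c.sp_mem_R _
      refine ⟨(⟨ρ * (s ^ p) ^ (i / p), R.mul_mem hρ hspR⟩, ⟨i % p, Nat.mod_lt _ hp0⟩), ?_⟩
      apply Subtype.ext
      show ρ * (s ^ p) ^ (i / p) * s ^ (i % p) = x.1
      rw [hx, mul_assoc, ← pow_mul, ← pow_add, Nat.div_add_mod]
    have h5 := Nat.card_le_card_of_surjective ψ hψ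
    rwa [Nat.card_prod, Nat.card_fin, hRcard] at h5
  have he3 : e = 3 := by
    rw [hRcard, he] at hRltS
    rw [he, ← pow_succ] at hSle
    have h5 : e ≤ 3 := (Nat.pow_le_pow_iff_right hp1).mp hSle
    have h6 : 2 < e := (Nat.pow_lt_pow_iff_right hp1).mp hRltS
    omega
  have hScard : Nat.card S = p ^ 3 := by rw [he, he3]
  -- (vi)
  let Ω : Subgroup G :=
    { carrier := {y | y ∈ R ∧ y ^ p = 1}
      one_mem' := ⟨R.one_mem, one_pow _⟩
      mul_mem' := by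
        rintro x y ⟨hx, hxp⟩ ⟨hy, hyp⟩
        refine ⟨R.mul_mem hx hy, ?_⟩
        rw [(show Commute x y from hRab x hx y hy).mul_pow, hxp, hyp, one_mul]
      inv_mem' := by
        rintro x ⟨hx, hxp⟩
        exact ⟨R.inv_mem hx, by rw [inv_pow, hxp, inv_one]⟩ }
  have hΩR : Ω ≤ R := fun y hy => hy.1
  have hZΩ : ZS S ≤ Ω := by
    intro z hz
    refine ⟨c.ZS_le_R hz, ?_⟩
    obtain ⟨i, rfl⟩ := hZ z hz
    rw [← pow_mul, mul_comm, pow_mul, hk₀p, one_pow]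
  have hwΩ : w ∈ Ω := ⟨hwR, hwp⟩
  have hZltΩ : Nat.card (ZS S) < Nat.card Ω := card_lt_of_le_of_not_mem hZΩ hwΩ hwZ
  have hΩdvd : Nat.card Ω ∣ p ^ 2 := by
    rw [← hRcard]
    exact Subgroup.card_dvd_of_le hΩR
  obtain ⟨m, hm2, hm⟩ := (Nat.dvd_prime_pow hp.out).mp hΩdvd
  have hm2' : m = 2 := by
    rw [hZcard, hm] at hZltΩ
    have h6 : 1 < m := by
      have : p ^ 1 < p ^ m := by rwa [pow_one]
      exact (Nat.pow_lt_pow_iff_right hp1).mp this
    omega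
  have hΩeq : Ω = R := by
    apply Subgroup.eq_of_le_of_card_ge hΩR
    rw [hRcard, hm, hm2']
  have hexp : ∀ x ∈ R, x ^ p = 1 := by
    intro x hx
    have : x ∈ Ω := hΩeq ▸ hx
    exact this.2
  -- (vii)
  exact c.se.small hp3 ⟨hScard, R, c.RS, hRcard, hexp⟩

end Ctx

theorem l11Statement : L11Statement.{u} := by
  intro p _ G _ _ S R M r s c hp3 hH hRab k₀ hk₀p hZ w hwR hwZ hwp
  exact c.final hp3 hH hRab k₀ hk₀p hZ w hwR hwZ hwp

/-- package PC2, modulo the statement of PD -/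
theorem no_config_of_pd (hPD : PDStatement.{u})
    {G : Type u} [Group G] [Finite G] {p : ℕ} [Fact p.Prime]
    (hG : Cfsg.IsPSolvable p G) (hO : Cfsg.pPrimeCore p G = ⊥) (S : Sylow p G)
    (hS : SE p ↥(S : Subgroup G)) (M : Subgroup G) (r : ℕ) (s : G)
    (h : Config p G (S : Subgroup G) M r s) : False :=
  no_config_of hPD l11Statement hG hO S hS M r s h

end Cfsg.Agent.Lib.Helper5.Schm
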