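import Mathlib
import Cfsg.Agent.Lib.Helper5.SchmC2h
import Cfsg.Agent.Lib.Helper6.SchmPD

/-!
# S4394, package PC2: `no_config`
-/

set_option autoImplicit false

namespace Cfsg.Agent.Lib.Helper5.Schm

universe u

theorem pdStatement : PDStatement.{u} := by
  intro G _ _ p _ hp2 Y M s r hr hrp hYab hYexp hMY hsY hM hsM hsp _ hfaith hninn hquad
  exact Cfsg.Agent.Lib.Helper6.Schm.quad_config hp2 Y M s r hr hrp hYab hYexp hMY hsY hM hsM
    hsp hfaith hninn hquad

/-- package PC2 -/
theorem no_config {G : Type u} [Group G] [Finite G] {p : ℕ} [Fact p.Prime]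
    (hG : Cfsg.IsPSolvable p G) (hO : Cfsg.pPrimeCore p G = ⊥) (S : Sylow p G)
    (hS : SE p ↥(S : Subgroup G)) (M : Subgroup G) (r : ℕ) (s : G)
    (h : Config p G (S : Subgroup G) M r s) : False :=
  no_config_of_pd pdStatement hG hO S hS M r s h

end Cfsg.Agent.Lib.Helper5.Schm
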