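import Mathlib

set_option autoImplicit false

namespace Cfsg.Agent.Lib.Helper5.SharpCount

variable {P : Type*} [Fintype P] [DecidableEq P]

theorem card_filter_image_mem (Sa : Finset (Equiv.Perm P)) (a c : P)
    (huniq : ∀ b, b ≠ a → ∀ d, d ≠ c → ∃! s, s ∈ Sa ∧ s b = d)
    (H' : Finset P) (hc : c ∉ H') (b : P) (hb : b ≠ a) :
    (Sa.filter (fun s => s b ∈ H')).card = H'.card := by
  refine Finset.card_bij (fun s _ => s b) ?_ ?_ ?_
  · intro s hs
    exact (Finset.mem_filter.mp hs).2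
  · intro s hs s' hs' h
    have hs1 := Finset.mem_filter.mp hs
    have hs2 := Finset.mem_filter.mp hs'
    have hd : s b ≠ c := fun h' => hc (h' ▸ hs1.2)
    obtain ⟨t, _, ht⟩ := huniq b hb (s b) hd
    rw [ht s ⟨hs1.1, rfl⟩, ht s' ⟨hs2.1, h.symm⟩]
  · intro d hd
    have hdc : d ≠ c := fun h' => hc (h' ▸ hd)
    obtain ⟨t, ⟨ht1, ht2⟩, _⟩ := huniq b hb d hdc
    exact ⟨t, Finset.mem_filter.mpr ⟨ht1, ht2 ▸ hd⟩, ht2⟩

theorem card_Sa (Sa : Finset (Equiv.Perm P)) (a c : P)
    (huniq : ∀ b, b ≠ a → ∀ d, d ≠ c → ∃! s, s ∈ Sa ∧ s b = d)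
    (hSa : ∀ s ∈ Sa, s a = c) (b : P) (hb : b ≠ a) :
    Sa.card = Fintype.card P - 1 := by
  have h1 := card_filter_image_mem Sa a c huniq (Finset.univ.erase c) (by simp) b hb
  rw [Finset.card_erase_of_mem (Finset.mem_univ c), Finset.card_univ] at h1
  rw [← h1]
  congr 1
  ext s
  simp only [Finset.mem_filter, Finset.mem_erase, Finset.mem_univ, and_true]
  constructor
  · intro hs
    refine ⟨hs, ?_⟩
    rw [← hSa s hs]
    exact fun h => hb (s.injective h)
  · exact fun h => h.1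

theorem count_core (Sa : Finset (Equiv.Perm P)) (a c : P)
    (huniq : ∀ b, b ≠ a → ∀ d, d ≠ c → ∃! s, s ∈ Sa ∧ s b = d)
    (H0 H' : Finset P) (ha : a ∉ H0) (hc : c ∉ H') (k l : ℕ) (hk0 : H0.card = k) (hk' : H'.card = k)
    (good : Equiv.Perm P → Prop) [DecidablePred good]
    (hgood : ∀ s ∈ Sa, good s → (H0.filter (fun b => s b ∈ H')).card = k)
    (hbad : ∀ s ∈ Sa, ¬ good s → (H0.filter (fun b => s b ∈ H')).card = l) :
    k * k = k * (Sa.filter good).card + l * (Sa.filter (fun s => ¬ good s)).card := by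
  have h1 : ∑ b ∈ H0, (Sa.filter (fun s => s b ∈ H')).card = k * k := by
    rw [Finset.sum_congr rfl (fun b hb => card_filter_image_mem Sa a c huniq H' hc b
      (fun h => ha (h ▸ hb)))]
    rw [Finset.sum_const, hk0, hk', smul_eq_mul]
  have h2 : ∑ b ∈ H0, (Sa.filter (fun s => s b ∈ H')).card
      = ∑ s ∈ Sa, (H0.filter (fun b => s b ∈ H')).card := by
    simp_rw [Finset.card_filter]
    exact Finset.sum_comm
  have h3 : ∑ s ∈ Sa, (H0.filter (fun b => s b ∈ H')).card
      = k * (Sa.filter good).card + l * (Sa.filter (fun s => ¬ good s)).card := by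
    rw [← Finset.sum_filter_add_sum_filter_not Sa good]
    congr 1
    · rw [Finset.sum_congr rfl (fun s hs => hgood s (Finset.mem_filter.mp hs).1 (Finset.mem_filter.mp hs).2)]
      rw [Finset.sum_const, smul_eq_mul, mul_comm]
    · rw [Finset.sum_congr rfl (fun s hs => hbad s (Finset.mem_filter.mp hs).1 (Finset.mem_filter.mp hs).2)]
      rw [Finset.sum_const, smul_eq_mul, mul_comm]
  rw [← h1, h2, h3]

/-- The arithmetic contradiction. -/
theorem arith_false (q Q k l v x y : ℤ) (hq : 2 ≤ q) (hQ : q ∣ Q)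
    (hk : (q - 1) * k = q * Q - 1) (hl : (q - 1) * l = Q - 1) (hv : (q - 1) * v = q * q * Q - 1)
    (hmain : k * k = k * x + l * y) (hxy : x + y = v - 1) : False := by
  have hq1 : q - 1 ≠ 0 := by omega
  have key : (q - 1) * ((q * Q - Q) * x - (q * Q - 1)) = 0 := by
    have hy : y = v - 1 - x := by linarith
    subst hy
    have e1 : (q - 1) * (q - 1) * (k * k) = (q * Q - 1) * (q * Q - 1) := by
      rw [← hk]; ring
    have e2 : (q - 1) * (q - 1) * (k * x + l * (v - 1 - x))
        = (q - 1) * (q * Q - 1) * x + (Q - 1) * ((q * q * Q - 1) - (q - 1) - (q - 1) * x) := by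
      rw [← hk, ← hl, ← hv]; ring
    rw [hmain, e2] at e1
    linear_combination e1
  have key2 : (q * Q - Q) * x - (q * Q - 1) = 0 := by
    rcases mul_eq_zero.mp key with h | h
    · exact absurd h hq1
    · exact h
  obtain ⟨m, rfl⟩ := hQ
  have : q ∣ 1 := ⟨q * m - (q * m - m) * x, by linear_combination key2⟩
  have := Int.le_of_dvd one_pos this
  omega

end Cfsg.Agent.Lib.Helper5.SharpCount
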