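import Mathlib
import Cfsg.Agent.Lib.Helper5.SolvTriF
import Cfsg.Agent.Lib.Helper2.SolvTriC1a

set_option autoImplicit false
set_option linter.style.haveILetI false
set_option linter.unusedSectionVars false
set_option linter.unusedVariables false
set_option maxHeartbeats 800000

/-! The four primes criterion (row 3814): the adapter from a minimal counterexample with one
normal Sylow subgroup to the Case 1 setting `C1`. -/

namespace Cfsg.Agent.Lib.Helper5.SolvTri

open Cfsg.Agent.Lib.Lead
open scoped Pointwise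

universe u

section facts
variable {σ : Finset ℕ} {G : Type u} [Group G] [Finite G]

/-- for an element `y` of prime order `u ∈ σ`, not all three other primes of `σ` divide the
order of the centralizer of `y` -/
theorem Cex.not_all_dvd_centralizer (hC : Cex σ G) {u : ℕ} (hu : u ∈ σ) {y : G}
    (hy : orderOf y = u)
    (hdiv : ∀ a ∈ σ, a ≠ u → a ∣ Nat.card (Subgroup.centralizer ({y} : Set G))) : False := by
  have hup : u.Prime := hC.prime u hu
  haveI := hC.solv
  have hcard3 : 3 ≤ (σ.erase u).card := by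
    rw [Finset.card_erase_of_mem hu, hC.card4]
  obtain ⟨a, ha, b, hb, hab, g, hg⟩ := lucido (Subgroup.centralizer ({y} : Set G))
    inferInstance (σ.erase u) hcard3 (fun a ha => by
      rw [Finset.mem_erase] at ha
      exact ⟨hC.prime a ha.2, hdiv a ha.2 ha.1⟩)
  rw [Finset.mem_erase] at ha hb
  have hgo : orderOf (g : G) = a * b := by rw [Subgroup.orderOf_coe]; exact hg
  have hcz : Commute y (g : G) :=
    (Subgroup.mem_centralizer_iff.mp g.2 y (Set.mem_singleton y))
  have hcop : Nat.Coprime (orderOf y) (orderOf (g : G)) := by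
    rw [hy, hgo]
    exact Nat.Coprime.mul_right ((Nat.coprime_primes hup (hC.prime a ha.2)).mpr ha.1.symm)
      ((Nat.coprime_primes hup (hC.prime b hb.2)).mpr hb.1.symm)
  have hord : orderOf (y * (g : G)) = u * a * b := by
    rw [hcz.orderOf_mul_eq_mul_orderOf_of_coprime hcop, hy, hgo, mul_assoc]
  exact hC.triple u hu a ha.2 b hb.2 ha.1.symm hab hb.1.symm _ hord

theorem dvd_card_centralizer_of_commute {a : ℕ} {x y : G} (hx : orderOf x = a)
    (hxy : Commute x y) : a ∣ Nat.card (Subgroup.centralizer ({y} : Set G)) := by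
  have hmem : x ∈ Subgroup.centralizer ({y} : Set G) := by
    rw [Subgroup.mem_centralizer_iff]
    intro w hw
    rw [Set.mem_singleton_iff] at hw
    subst hw
    exact hxy.symm
  have := orderOf_dvd_natCard (⟨x, hmem⟩ : Subgroup.centralizer ({y} : Set G))
  rwa [Subgroup.orderOf_mk, hx] at this

/-- the adapter to the Case 1 setting -/
theorem MinCex.toC1 (h : MinCex σ G) {p : ℕ} (hp : p ∈ σ) (P : Subgroup G) [hPn : P.Normal]
    (hPt : IsPGroup p P) (hP1 : P ≠ ⊥)
    (huniq : ∀ s : ℕ, s.Prime → HasNormal G s → s = p) :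
    ∃ K : Subgroup G, Cfsg.Agent.Lib.Helper2.SolvTri.C1 p (σ.erase p) P K := by
  have hpp : p.Prime := h.1.prime p hp
  haveI : Fact p.Prime := ⟨hpp⟩
  haveI := h.1.solv
  obtain ⟨K, hK, hpK, hfaith⟩ := h.case1_struct hp P hPt hP1 huniq
  obtain ⟨j, hj⟩ := IsPGroup.iff_card.mp hPt
  have hcard : Nat.card G = Nat.card K * Nat.card P := by
    rw [← hK.card_mul_card, mul_comm]
  have hcop : (Nat.card K).Coprime (Nat.card P) := by
    rw [hj]
    exact (Nat.Coprime.pow_left j ((Nat.Prime.coprime_iff_not_dvd hpp).mpr hpK)).symm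
  have conjK : ∀ U : Subgroup G, (Nat.card U).Coprime (Nat.card P) →
      ∃ g : G, ∀ x ∈ U, g * x * g⁻¹ ∈ K :=
    fun U hU => hall_conj_into G (Nat.card K) (Nat.card P) hcard hcop K rfl U hU
  have hmemτ : ∀ {a : ℕ}, a ∈ σ.erase p → a ∈ σ ∧ a ≠ p := fun ha =>
    ⟨(Finset.mem_erase.mp ha).2, (Finset.mem_erase.mp ha).1⟩
  have hcopp : ∀ {a : ℕ}, a ∈ σ.erase p → a.Coprime p := fun ha =>
    (Nat.coprime_primes (h.1.prime _ (hmemτ ha).1) hpp).mpr (hmemτ ha).2
  have hPea := h.normal_t_elemAb hp P hPt hP1
  refine ⟨K, ?_⟩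
  refine
    { hp := hpp
      hτ := fun t ht => h.1.prime t (hmemτ ht).1
      hpτ := fun hh => (hmemτ hh).2 rfl
      card3 := by rw [Finset.card_erase_of_mem hp, h.1.card4]
      Pn := hPn
      Pea := hPea
      Pne := hP1
      Kτ := ?_
      solv := inferInstance
      faith := hfaith
      irr := ?_
      pair := ?_
      noP := ?_
      no3 := ?_
      rk2 := ?_
      min := ?_
      t2 := ?_ }
  · -- Kτ
    intro ℓ hℓ hd
    refine Finset.mem_erase.mpr ⟨?_, h.mem_of_dvd_card hℓ
      (hd.trans (Subgroup.card_subgroup_dvd_card K))⟩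
    rintro rfl
    exact hpK hd
  · -- irr
    intro V hV hKV
    refine h.irred hp P hPt V hV K hKV ?_
    rw [eq_top_iff, ← hK.sup_eq_top]
    exact sup_le_sup_right (le_centralizer_of_elemAb P hPea) K
  · -- pair
    intro t ht u hu htu
    obtain ⟨g0, hg0⟩ := h.1.pair t (hmemτ ht).1 u (hmemτ hu).1 htu
    have hU : (Nat.card (Subgroup.zpowers g0)).Coprime (Nat.card P) := by
      rw [Nat.card_zpowers, hg0, hj]
      exact Nat.Coprime.pow_right j (Nat.Coprime.mul_left (hcopp ht) (hcopp hu))
    obtain ⟨g, hg⟩ := conjK _ hU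
    exact ⟨g * g0 * g⁻¹, hg g0 (Subgroup.mem_zpowers g0), by rw [orderOf_conj', hg0]⟩
  · -- noP
    intro t ht u hu htu g
    exact h.1.triple p hp t (hmemτ ht).1 u (hmemτ hu).1 (hmemτ ht).2.symm htu
      (hmemτ hu).2.symm g
  · -- no3
    intro t ht u hu v hv htu huv htv g
    exact h.1.triple t (hmemτ ht).1 u (hmemτ hu).1 v (hmemτ hv).1 htu huv htv g
  · -- rk2
    intro t ht
    have htp : t.Prime := h.1.prime t (hmemτ ht).1
    haveI : Fact t.Prime := ⟨htp⟩
    obtain ⟨x, y, hx, hy, hc, hyx⟩ := h.exists_rank2 (hmemτ ht).1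
    have hxu : x ^ t = 1 := by rw [← hx]; exact pow_orderOf_eq_one x
    have hyu : y ^ t = 1 := by rw [← hy]; exact pow_orderOf_eq_one y
    have hcopE : (Nat.card (E2 x y)).Coprime (Nat.card P) :=
      IsPGroup.coprime_card_of_ne t p (hmemτ ht).2 _ _ (E2_isPGroup hxu hyu hc) hPt
    obtain ⟨g, hg⟩ := conjK _ hcopE
    have hx' : orderOf (g * x * g⁻¹) = t := by rw [orderOf_conj', hx]
    have hy' : orderOf (g * y * g⁻¹) = t := by rw [orderOf_conj', hy]
    have hc' : Commute (g * x * g⁻¹) (g * y * g⁻¹) := by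
      show g * x * g⁻¹ * (g * y * g⁻¹) = g * y * g⁻¹ * (g * x * g⁻¹)
      have : x * y = y * x := hc
      calc g * x * g⁻¹ * (g * y * g⁻¹) = g * (x * y) * g⁻¹ := by group
        _ = g * (y * x) * g⁻¹ := by rw [this]
        _ = g * y * g⁻¹ * (g * x * g⁻¹) := by group
    have hyx' : g * y * g⁻¹ ∉ Subgroup.zpowers (g * x * g⁻¹) := by
      intro hmem
      obtain ⟨i, hi⟩ := Subgroup.mem_zpowers_iff.mp hmem
      apply hyx
      rw [Subgroup.mem_zpowers_iff]
      refine ⟨i, ?_⟩
      have h1 : (g * x * g⁻¹) ^ i = g * x ^ i * g⁻¹ := conj_zpow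
      rw [h1] at hi
      have h2 : g * x ^ i = g * y := mul_right_cancel hi
      exact mul_left_cancel h2
    obtain ⟨E, hE, hEle⟩ :=
      Cfsg.Agent.Lib.Helper2.SolvTri.exists_rk2_of_commute htp hx' hy' hc' hyx'
    refine ⟨E, hEle.trans ?_, hE⟩
    rw [Subgroup.closure_le]
    intro z hz
    rcases hz with rfl | hz
    · exact hg x (left_mem_E2 x y)
    · rw [Set.mem_singleton_iff] at hz
      subst hz
      exact hg y (right_mem_E2 x y)
  · -- min
    intro K₁ hK₁ hpair hsing
    refine h.case1_min hp P hPt hP1 K hK K₁ hK₁ ?_ ?_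
    · intro a ha b hb hap hbp hab
      exact hpair a (Finset.mem_erase.mpr ⟨hap, ha⟩) b (Finset.mem_erase.mpr ⟨hbp, hb⟩) hab
    · intro a ha hap
      obtain ⟨y, hy, hyo, v, hv, hv1, hyv⟩ := hsing a (Finset.mem_erase.mpr ⟨hap, ha⟩)
      exact ⟨y, hy, hyo, v, hv, hv1, hyv⟩
  · -- t2
    intro u hu v hv v' hv' huv huv' hvv' y hyK hyo hys x hxK hxo hxy x' hx'K hx'o hx'y
    obtain ⟨w, hw, hw1, hyw⟩ := hys
    apply h.1.not_all_dvd_centralizer (hmemτ hu).1 hyo
    intro a ha hau
    -- `a` is one of `p`, `v`, `v'`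
    have hcases : a = p ∨ a = v ∨ a = v' := by
      by_contra hno
      push Not at hno
      have hsub : ({p, u, v, v', a} : Finset ℕ) ⊆ σ := by
        intro z hz
        simp only [Finset.mem_insert, Finset.mem_singleton] at hz
        rcases hz with rfl | rfl | rfl | rfl | rfl
        · exact hp
        · exact (hmemτ hu).1
        · exact (hmemτ hv).1
        · exact (hmemτ hv').1
        · exact ha
      have hcard5 : ({p, u, v, v', a} : Finset ℕ).card = 5 := by
        rw [Finset.card_insert_of_notMem, Finset.card_insert_of_notMem,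
          Finset.card_insert_of_notMem, Finset.card_insert_of_notMem, Finset.card_singleton]
        · simp only [Finset.mem_singleton]; exact fun e => hno.2.2 e.symm
        · simp only [Finset.mem_insert, Finset.mem_singleton]
          rintro (e | e)
          · exact hvv' e
          · exact hno.2.1 e.symm
        · simp only [Finset.mem_insert, Finset.mem_singleton]
          rintro (e | e | e)
          · exact huv e
          · exact huv' e
          · exact hau e.symm
        · simp only [Finset.mem_insert, Finset.mem_singleton]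
          rintro (e | e | e | e)
          · exact (hmemτ hu).2 e.symm
          · exact (hmemτ hv).2 e.symm
          · exact (hmemτ hv').2 e.symm
          · exact hno.1 e.symm
      have := Finset.card_le_card hsub
      rw [hcard5, h.1.card4] at this
      omega
    rcases hcases with rfl | rfl | rfl
    · exact dvd_card_centralizer_of_commute
        (h.orderOf_of_mem_normal_t hp P hPt hP1 hw hw1) hyw.symm
    · exact dvd_card_centralizer_of_commute hxo hxy
    · exact dvd_card_centralizer_of_commute hx'o hx'y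

end facts

end Cfsg.Agent.Lib.Helper5.SolvTri
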