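import Mathlib
import Cfsg.Agent.Lib.Helper5.SolvTriG
import Cfsg.Agent.Lib.Helper2.SolvTriC1g

set_option autoImplicit false
set_option linter.style.haveILetI false
set_option linter.unusedSectionVars false
set_option linter.unusedVariables false

/-! The four primes criterion (row 3814): the one-prime case follows from the branch
"all minimal normal subgroups of `K` are cyclic", the other branch being closed. -/

namespace Cfsg.Agent.Lib.Helper5.SolvTri

open Cfsg.Agent.Lib.Helper2.SolvTri

universe u

/-- the branch "every minimal normal subgroup of `K` is cyclic" of the Case 1 setting is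
impossible -/
def CyclicBranchClosed : Prop :=
  ∀ (G : Type u) [Group G] [Finite G] (p : ℕ) (τ : Finset ℕ) (P K : Subgroup G), C1 p τ P K →
    (∀ M : Subgroup G, M ≤ K → M ≠ ⊥ → K ≤ Subgroup.normalizer (M : Set G) →
      (∀ M' : Subgroup G, M' ≤ M → K ≤ Subgroup.normalizer (M' : Set G) → M' = ⊥ ∨ M' = M) →
      IsCyclic M) → False

theorem case1Closed_of_cyclic (hc : CyclicBranchClosed.{u}) : Case1Closed.{u} := by
  intro σ G _ _ h t ht Ht huniq
  obtain ⟨P, hPn, hPt, hP1⟩ := Ht
  haveI := hPn
  obtain ⟨K, c⟩ := h.toC1 ht P hPt hP1 huniq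
  exact hc G t (σ.erase t) P K c (fun M a b d e => c.minNormal_isCyclic' M a b d e)

end Cfsg.Agent.Lib.Helper5.SolvTri
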