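import Mathlib
import Cfsg.Agent.Lib.Helper5.SolvTriA
import Cfsg.Agent.Lib.Helper2.SolvTriS2f
import Cfsg.Agent.Lib.Helper7.SolvTriS1

set_option autoImplicit false
set_option linter.style.haveILetI false
set_option linter.unusedSectionVars false
set_option linter.unusedVariables false
set_option maxHeartbeats 800000

/-! The four primes criterion (row 3814), Case 1, branch (S2*): the fact (F6). -/

namespace Cfsg.Agent.Lib.Helper5.SolvTri

open Cfsg.Agent.Lib.Helper2.SolvTri

universe u

section
variable {G : Type u} [Group G]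

/-- in a cyclic group of prime order every nonidentity element generates -/
theorem mem_zpowers_of_prime_order [Finite G] {t : ℕ} (ht : t.Prime) {c d : G}
    (oc : orderOf c = t) (hd : d ∈ Subgroup.zpowers c) (hd1 : d ≠ 1) :
    c ∈ Subgroup.zpowers d := by
  have hle : Subgroup.zpowers d ≤ Subgroup.zpowers c := Subgroup.zpowers_le.mpr hd
  have hdvd : orderOf d ∣ t := by
    have h1 : Nat.card (Subgroup.zpowers d) ∣ Nat.card (Subgroup.zpowers c) :=
      Subgroup.card_dvd_of_le hle
    rwa [Nat.card_zpowers, Nat.card_zpowers, oc] at h1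
  have hod : orderOf d = t := by
    rcases (Nat.dvd_prime ht).mp hdvd with h | h
    · exact absurd (orderOf_eq_one_iff.mp h) hd1
    · exact h
  have heq : Subgroup.zpowers d = Subgroup.zpowers c :=
    Subgroup.eq_of_le_of_card_ge hle (by rw [Nat.card_zpowers, Nat.card_zpowers, oc, hod])
  rw [heq]
  exact Subgroup.mem_zpowers c

theorem commute_of_mem_zpowers {a b y : G} (h : Commute a y) (hb : b ∈ Subgroup.zpowers a) :
    Commute b y := by
  obtain ⟨i, rfl⟩ := Subgroup.mem_zpowers_iff.mp hb
  exact h.zpow_left i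

variable {p : ℕ} {τ : Finset ℕ} {P K : Subgroup G}

/-- half of (F6): if `x` centralizes the normal subgroup `⟨c⟩` of prime order and the commuting
element `x'` does not, then `x` is not singular -/
theorem f6_half [Finite G] (c1 : C1 p τ P K) {t a b : ℕ} (ht : t ∈ τ) (ha : a ∈ τ)
    (hb : b ∈ τ) (hta : t ≠ a) (htb : t ≠ b) (hab : a ≠ b) {c : G} (hc : c ∈ K)
    (oc : orderOf c = t)
    (nc : K ≤ Subgroup.normalizer ((Subgroup.zpowers c : Subgroup G) : Set G))
    {x x' : G} (hx : x ∈ K) (hx' : x' ∈ K) (ox : orderOf x = a) (ox' : orderOf x' = b)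
    (hxx' : Commute x x') (hxc : Commute x c) (hx'c : ¬ Commute x' c) : ¬ Sing P x := by
  intro hs
  have htp := c1.hτ t ht
  have hap := c1.hτ a ha
  have hbp := c1.hτ b hb
  haveI : Fact t.Prime := ⟨htp⟩
  set V : Subgroup G := P ⊓ Subgroup.centralizer {x} with hV
  have hV1 : V ≠ ⊥ := (C1.sing_iff (P := P) x).mp hs
  set D : Subgroup G := Subgroup.zpowers c with hD
  have hVea : Cfsg.IsElementaryAbelian p V := by
    refine ⟨⟨⟨fun v w => Subtype.ext ?_⟩⟩, fun v hv => c1.Pea.2 v hv.1⟩
    haveI := c1.Pea.1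
    have h1 : (⟨v.1, v.2.1⟩ : P) * ⟨w.1, w.2.1⟩ = ⟨w.1, w.2.1⟩ * ⟨v.1, v.2.1⟩ := mul_comm' _ _
    show (v : G) * (w : G) = (w : G) * (v : G)
    exact congrArg Subtype.val h1
  have hc1 : c ≠ 1 := by
    intro h
    rw [h, orderOf_one] at oc
    exact htp.one_lt.ne oc
  have hD1 : D ≠ ⊥ := by
    intro h
    have : c ∈ D := Subgroup.mem_zpowers c
    rw [h, Subgroup.mem_bot] at this
    exact hc1 this
  have hDq : IsPGroup t D := IsPGroup.of_card (n := 1) (by rw [hD, Nat.card_zpowers, oc, pow_one])
  have hDc : ∀ d ∈ D, ∀ e ∈ D, d * e = e * d := by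
    intro d hd e he
    obtain ⟨i, rfl⟩ := Subgroup.mem_zpowers_iff.mp hd
    obtain ⟨j, rfl⟩ := Subgroup.mem_zpowers_iff.mp he
    exact ((Commute.refl c).zpow_zpow i j).eq
  have hDV : D ≤ Subgroup.normalizer (V : Set G) := by
    intro d hd
    exact mem_normalizer_inf_centralizer (c1.mem_normalizer_P d)
      (commute_of_mem_zpowers hxc.symm hd)
  have hx'V : x' ∈ Subgroup.normalizer (V : Set G) :=
    mem_normalizer_inf_centralizer (c1.mem_normalizer_P x') hxx'.symm
  have hF0 := c1.not_sing_of_normal ht hc oc nc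
  have hfpf : ∀ d ∈ D, d ≠ 1 → ∀ v ∈ V, Commute d v → v = 1 := by
    intro d hd hd1 v hv hdv
    by_contra hv1
    apply hF0
    have hcd : c ∈ Subgroup.zpowers d := mem_zpowers_of_prime_order htp oc hd hd1
    exact ⟨v, hv.1, hv1, commute_of_mem_zpowers hdv hcd⟩
  have hyfree : ∀ d ∈ D, Commute x' d → d = 1 := by
    intro d hd hx'd
    by_contra hd1
    apply hx'c
    have hcd : c ∈ Subgroup.zpowers d := mem_zpowers_of_prime_order htp oc hd hd1
    exact (commute_of_mem_zpowers hx'd.symm hcd).symm
  obtain ⟨v, hv, hv1, hx'v⟩ := frob_fix c1.hp htp hbp (c1.ne_p ht).symm (c1.ne_p hb).symm htb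
    V D x' (by rw [← ox']; exact pow_orderOf_eq_one x') hVea hV1 hDc hDq hD1 hDV hx'V
    (nc hx') hfpf hyfree
  have hvx : Commute v x :=
    (Subgroup.mem_centralizer_iff.mp hv.2 x (Set.mem_singleton x)).symm
  have ho := orderOf_mul_three c1.hp hap hbp (c1.ne_p ha).symm (c1.ne_p hb).symm hab
    (c1.orderOf_of_mem_P hv.1 hv1) ox ox' hvx hx'v.symm hxx'
  exact c1.noP a ha b hb hab _ ho

/-- **(F6)** -/
theorem f6 [Finite G] (c1 : C1 p τ P K) : F6Prop p τ P K := by
  intro t ht u hu u' hu' htu htu' huu' c hc oc nc x hx x' hx' ox ox' hxx'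
  have htp := c1.hτ t ht
  have hup := c1.hτ u hu
  have hu'p := c1.hτ u' hu'
  haveI : Fact t.Prime := ⟨htp⟩
  haveI : Fact u.Prime := ⟨hup⟩
  haveI : Fact u'.Prime := ⟨hu'p⟩
  by_cases hxc : Commute x c
  · by_cases hx'c : Commute x' c
    · exfalso
      have ho := orderOf_mul_three htp hup hu'p htu htu' huu' oc ox ox' hxc.symm hx'c.symm hxx'
      exact c1.no3 t ht u hu u' hu' htu huu' htu' _ ho
    · exact Or.inl ⟨hxc, hx'c,
        f6_half c1 ht hu hu' htu htu' huu' hc oc nc hx hx' ox ox' hxx' hxc hx'c⟩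
  · by_cases hx'c : Commute x' c
    · exact Or.inr ⟨hx'c, hxc,
        f6_half c1 ht hu' hu htu' htu huu'.symm hc oc nc hx' hx ox' ox hxx'.symm hx'c hxc⟩
    · exfalso
      haveI := c1.Pn
      haveI := c1.Pea.1
      have hF0 := c1.not_sing_of_normal ht hc oc nc
      have hxu : x ^ u = 1 := by rw [← ox]; exact pow_orderOf_eq_one x
      have hx'u : x' ^ u' = 1 := by rw [← ox']; exact pow_orderOf_eq_one x'
      have hx1 : x ≠ 1 := by
        intro h
        rw [h, orderOf_one] at ox
        exact hup.one_lt.ne ox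
      set D : Subgroup G := Subgroup.zpowers c with hD
      set B : Subgroup G := Subgroup.zpowers (x * x') with hB
      have hBD : B ≤ Subgroup.normalizer (D : Set G) :=
        Subgroup.zpowers_le.mpr (nc (K.mul_mem hx hx'))
      have hfree : ∀ b ∈ B, b ≠ 1 → ∀ d ∈ D, Commute b d → d = 1 := by
        intro b hb hb1 d hd hbd
        by_contra hd1
        have hcd : c ∈ Subgroup.zpowers d := mem_zpowers_of_prime_order htp oc hd hd1
        have hbc : Commute b c := (commute_of_mem_zpowers hbd.symm hcd).symm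
        obtain ⟨i, hi⟩ := Subgroup.mem_zpowers_iff.mp hb
        have hb' : b = x ^ i * x' ^ i := by rw [← hi, hxx'.mul_zpow]
        have hXX' : Commute (x ^ i) (x' ^ i) := hxx'.zpow_zpow i i
        -- the `x`-part is trivial
        have hX1 : x ^ i = 1 := by
          by_contra hX
          have hXo : orderOf (x ^ i) = u := by
            refine orderOf_eq_prime ?_ hX
            rw [← zpow_natCast, ← zpow_mul, mul_comm, zpow_mul, zpow_natCast, hxu, one_zpow]
          have hpow : b ^ u' = (x ^ i) ^ u' := by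
            rw [hb', hXX'.mul_pow]
            have : (x' ^ i) ^ u' = 1 := by
              rw [← zpow_natCast, ← zpow_mul, mul_comm, zpow_mul, zpow_natCast, hx'u, one_zpow]
            rw [this, mul_one]
          have hXu' : (x ^ i) ^ u' ≠ 1 := by
            intro h
            have := orderOf_dvd_of_pow_eq_one h
            rw [hXo] at this
            exact huu' ((Nat.prime_dvd_prime_iff_eq hup hu'p).mp this)
          have hmem : (x ^ i) ^ u' ∈ Subgroup.zpowers x :=
            Subgroup.pow_mem _ (Subgroup.zpow_mem_zpowers x i) u'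
          have hxmem : x ∈ Subgroup.zpowers ((x ^ i) ^ u') :=
            mem_zpowers_of_prime_order hup ox hmem hXu'
          have hcomm : Commute ((x ^ i) ^ u') c := by
            rw [← hpow]; exact hbc.pow_left u'
          exact hxc (commute_of_mem_zpowers hcomm hxmem)
        have hX'1 : x' ^ i = 1 := by
          by_contra hX
          have hXo : orderOf (x' ^ i) = u' := by
            refine orderOf_eq_prime ?_ hX
            rw [← zpow_natCast, ← zpow_mul, mul_comm, zpow_mul, zpow_natCast, hx'u, one_zpow]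
          have hpow : b ^ u = (x' ^ i) ^ u := by
            rw [hb', hXX'.mul_pow]
            have : (x ^ i) ^ u = 1 := by
              rw [← zpow_natCast, ← zpow_mul, mul_comm, zpow_mul, zpow_natCast, hxu, one_zpow]
            rw [this, one_mul]
          have hXu' : (x' ^ i) ^ u ≠ 1 := by
            intro h
            have := orderOf_dvd_of_pow_eq_one h
            rw [hXo] at this
            exact huu' ((Nat.prime_dvd_prime_iff_eq hu'p hup).mp this).symm
          have hmem : (x' ^ i) ^ u ∈ Subgroup.zpowers x' :=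
            Subgroup.pow_mem _ (Subgroup.zpow_mem_zpowers x' i) u
          have hxmem : x' ∈ Subgroup.zpowers ((x' ^ i) ^ u) :=
            mem_zpowers_of_prime_order hu'p ox' hmem hXu'
          have hcomm : Commute ((x' ^ i) ^ u) c := by
            rw [← hpow]; exact hbc.pow_left u
          exact hx'c (commute_of_mem_zpowers hcomm hxmem)
        apply hb1
        rw [hb', hX1, hX'1, one_mul]
      have hCD : ∀ v ∈ P, (∀ d ∈ D, Commute d v) → v = 1 := by
        intro v hv hall
        by_contra hv1
        exact hF0 ⟨v, hv, hv1, hall c (Subgroup.mem_zpowers c)⟩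
      have hcop : ∀ v ∈ P, v ^ Nat.card D = 1 → v = 1 := by
        intro v hv hvt
        rw [hD, Nat.card_zpowers, oc] at hvt
        have h1 : orderOf v ∣ t := orderOf_dvd_of_pow_eq_one hvt
        have h2 : orderOf v ∣ p := orderOf_dvd_of_pow_eq_one (c1.Pea.2 v hv)
        have h3 : orderOf v ∣ Nat.gcd t p := Nat.dvd_gcd h1 h2
        rw [(Nat.coprime_primes htp c1.hp).mpr (c1.ne_p ht)] at h3
        exact orderOf_eq_one_iff.mp (Nat.dvd_one.mp h3)
      obtain ⟨v, hv, hv1, hBv⟩ :=
        Cfsg.Agent.Lib.Helper7.SolvTri.frob_fix_gen P D B c1.Pne hBD hfree hCD hcop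
      have hzv : Commute (x * x') v := hBv _ (Subgroup.mem_zpowers _)
      have hoz : orderOf (x * x') = u * u' := orderOf_mul_primes hup hu'p huu' ox ox' hxx'
      have hcopz : Nat.Coprime (orderOf v) (orderOf (x * x')) := by
        rw [c1.orderOf_of_mem_P hv hv1, hoz]
        exact Nat.Coprime.mul_right ((Nat.coprime_primes c1.hp hup).mpr (c1.ne_p hu).symm)
          ((Nat.coprime_primes c1.hp hu'p).mpr (c1.ne_p hu').symm)
      have ho : orderOf (v * (x * x')) = p * u * u' := by
        rw [hzv.symm.orderOf_mul_eq_mul_orderOf_of_coprime hcopz, c1.orderOf_of_mem_P hv hv1,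
          hoz, mul_assoc]
      exact c1.noP u hu u' hu' huu' _ ho

end

end Cfsg.Agent.Lib.Helper5.SolvTri
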