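import Mathlib
import Cfsg.Agent.Lib.Helper5.SolvTriS1
import Cfsg.Agent.Lib.Helper5.SolvTriH

set_option autoImplicit false
set_option linter.style.haveILetI false
set_option linter.unusedSectionVars false
set_option linter.unusedVariables false

/-! The four primes criterion (row 3814): the one-prime case is impossible. -/

namespace Cfsg.Agent.Lib.Helper5.SolvTri

open Cfsg.Agent.Lib.Helper2.SolvTri

universe u

/-- Case 1 (one normal Sylow subgroup) is impossible -/
theorem case1Closed : Case1Closed.{u} := by
  intro σ G _ _ h t ht Ht huniq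
  obtain ⟨P, hPn, hPt, hP1⟩ := Ht
  haveI := hPn
  obtain ⟨K, c⟩ := h.toC1 ht P hPt hP1 huniq
  exact c.cyclic_branch_false_of_F6 (f6 c) (fun M hM => c.minNormal_isCyclic hM)

end Cfsg.Agent.Lib.Helper5.SolvTri
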