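import Mathlib
import Cfsg.Agent.Lib.Helper5.GUC4

set_option autoImplicit false

/-!
Bilinear (skew-symmetric) analogues of `GUC3`/`GUC4`: orthogonality relations for a
skew-symmetric form invariant under a unipotent matrix in Jordan form, the induced forms on the
generator spaces and the compatibility of the adjoint with `piHom`.
-/

namespace Cfsg.Agent.Lib.Helper5.SpU

open Matrix Cfsg.Agent.Lib.Helper5.UnipCent Cfsg.Agent.Lib.Helper5.GUC

variable {K : Type*} [Field K] [Fintype K] {t : ℕ} (d : Fin t → ℕ) (hd : ∀ k, 1 ≤ d k)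

/-- the key identity (transpose version). -/
theorem key_identityT (M : Matrix (Idx d) (Idx d) K)
    (hinv : (1 + Nmat (F := K) d)ᵀ * M * (1 + Nmat d) = M) :
    (Nmat (F := K) d)ᵀ * M = -((1 + (Nmat (F := K) d)ᵀ) * (M * Nmat d)) := by
  rw [Matrix.transpose_add, Matrix.transpose_one] at hinv
  have h1 : (1 + (Nmat (F := K) d)ᵀ) * M * (1 + Nmat d) =
      M + ((Nmat (F := K) d)ᵀ * M + (1 + (Nmat (F := K) d)ᵀ) * (M * Nmat d)) := by
    simp only [mul_add, mul_one, add_mul, one_mul, Matrix.mul_assoc]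
    abel
  rw [h1] at hinv
  have h2 : (Nmat (F := K) d)ᵀ * M + (1 + (Nmat (F := K) d)ᵀ) * (M * Nmat d) = 0 := by
    have := sub_eq_zero.2 hinv
    rwa [add_sub_cancel_left] at this
  exact eq_neg_of_add_eq_zero_left h2

theorem Mx_skew (M : Matrix (Idx d) (Idx d) K) (hM : Mᵀ = -M) (k l : Fin t) (a b : ℕ) :
    Mx d M k l a b = -Mx d M l k b a := by
  unfold Mx
  by_cases h : a < d k ∧ b < d l
  · rw [dif_pos h, dif_pos ⟨h.2, h.1⟩]
    have := congrFun (congrFun hM ⟨l, ⟨b, h.2⟩⟩) ⟨k, ⟨a, h.1⟩⟩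
    rw [Matrix.transpose_apply, Matrix.neg_apply] at this
    exact this
  · rw [dif_neg h, dif_neg (fun h' => h ⟨h'.2, h'.1⟩), neg_zero]

/-- second orthogonality relation (skew version). -/
theorem Mx_orth_leftT (M : Matrix (Idx d) (Idx d) K) (hM : Mᵀ = -M)
    (hkey : (Nmat (F := K) d)ᵀ * M = -((1 + (Nmat (F := K) d)ᵀ) * (M * Nmat d)))
    (k l : Fin t) (a b : ℕ) (hab : d k ≤ a + b) : Mx d M k l a b = 0 := by
  rw [Mx_skew d M hM, Mx_orth_right' d M hkey l k b a (by omega), neg_zero]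

variable (M : Matrix (Idx d) (Idx d) K) (hM : Mᵀ = -M)
  (hkey : (Nmat (F := K) d)ᵀ * M = -((1 + (Nmat (F := K) d)ᵀ) * (M * Nmat d)))

include hM hkey in
theorem mul_zeroI_lastIT (Y : Matrix (Idx d) (Idx d) K) (hY : Y * Nmat d = Nmat d * Y) (i : ℕ)
    (k l : {k // d k = i}) :
    (M * Y) (zeroI d hd k.1) (lastI d hd l.1) =
      ∑ m : {k // d k = i}, M (zeroI d hd k.1) (lastI d hd m.1) *
        Y (zeroI d hd m.1) (zeroI d hd l.1) := by
  have hi : 1 ≤ i := by rw [← k.2]; exact hd k.1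
  rw [Matrix.mul_apply, sum_eq_sum_of_embedding (fun m : {k // d k = i} => lastI d hd m.1)
    (lastI_injective d hd i) (fun s => M (zeroI d hd k.1) s * Y s (lastI d hd l.1))]
  · refine Finset.sum_congr rfl fun m _ => ?_
    show M (zeroI d hd k.1) (lastI d hd m.1) * Y (lastI d hd m.1) (lastI d hd l.1) = _
    rw [toeplitz' d hd Y hY (lastI d hd m.1) (lastI d hd l.1),
      if_pos (by show d l.1 - 1 ≤ d m.1 - 1; rw [l.2, m.2])]
    congr 2
    apply idx_ext
    · rfl
    · show d m.1 - 1 - (d l.1 - 1) = 0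
      rw [l.2, m.2, Nat.sub_self]
  · rintro ⟨m, b⟩ hs
    show M (zeroI d hd k.1) ⟨m, b⟩ * Y ⟨m, b⟩ (lastI d hd l.1) = 0
    have hb2 := b.2
    by_cases hb : (b : ℕ) + 1 = i
    · by_cases hm : d m = i
      · exfalso
        refine hs ⟨m, hm⟩ (idx_ext d rfl ?_)
        show d m - 1 = (b : ℕ)
        omega
      · have hlt : i < d m := by omega
        rw [toeplitz' d hd Y hY ⟨m, b⟩ (lastI d hd l.1),
          if_pos (by show d l.1 - 1 ≤ (b : ℕ); rw [l.2]; omega)]
        have h0 := support d hd Y hY (subI d ⟨m, b⟩ ((lastI d hd l.1).2 : ℕ)) l.1 (by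
          show (b : ℕ) - (d l.1 - 1) + d l.1 < d m
          rw [l.2]
          omega)
        have h1 : Y (subI d ⟨m, b⟩ ((lastI d hd l.1).2 : ℕ)) (zeroI d hd (lastI d hd l.1).1) = 0 :=
          h0
        rw [h1, mul_zero]
    · rcases Nat.lt_or_gt_of_ne hb with h | h
      · rw [toeplitz' d hd Y hY ⟨m, b⟩ (lastI d hd l.1),
          if_neg (by show ¬ d l.1 - 1 ≤ (b : ℕ); rw [l.2]; omega), mul_zero]
      · rw [M_zeroI_eq d hd M k.1 ⟨m, b⟩,
          Mx_orth_leftT d M hM hkey k.1 m 0 b (by rw [k.2]; omega), zero_mul]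

include hM hkey in
theorem transpose_mul_zeroI_lastI (X : Matrix (Idx d) (Idx d) K) (hX : X * Nmat d = Nmat d * X)
    (i : ℕ) (k l : {k // d k = i}) :
    (Xᵀ * M) (zeroI d hd k.1) (lastI d hd l.1) =
      ∑ m : {k // d k = i}, X (zeroI d hd m.1) (zeroI d hd k.1) *
        M (zeroI d hd m.1) (lastI d hd l.1) := by
  have hi : 1 ≤ i := by rw [← k.2]; exact hd k.1
  rw [Matrix.mul_apply, sum_eq_sum_of_embedding (fun m : {k // d k = i} => zeroI d hd m.1)
    (zeroI_injective d hd i) (fun s => Xᵀ (zeroI d hd k.1) s * M s (lastI d hd l.1))]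
  · rfl
  · rintro ⟨m, b⟩ hs
    show Xᵀ (zeroI d hd k.1) ⟨m, b⟩ * M ⟨m, b⟩ (lastI d hd l.1) = 0
    have hb2 := b.2
    by_cases hb : (b : ℕ) = 0
    · have hm : d m ≠ i := by
        intro hm
        exact hs ⟨m, hm⟩ (idx_ext d rfl hb.symm)
      rcases Nat.lt_or_gt_of_ne hm with h | h
      · rw [M_lastI_eq d hd M ⟨m, b⟩ l.1,
          Mx_orth_leftT d M hM hkey m l.1 b (d l.1 - 1) (by rw [l.2]; omega), mul_zero]
      · have h0 := support d hd X hX ⟨m, b⟩ k.1 (by
          show (b : ℕ) + d k.1 < d m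
          rw [k.2]
          omega)
        rw [Matrix.transpose_apply, h0, zero_mul]
    · rw [M_lastI_eq d hd M ⟨m, b⟩ l.1,
        Mx_orth_right' d M hkey m l.1 b (d l.1 - 1) (by rw [l.2]; omega), mul_zero]

include hM hkey in
/-- compatibility of the adjoint with `piHom` (bilinear version). -/
theorem Bmat_mul_piHomT (X Y : CenAlg K d) (hXY : M * Y.1 = X.1ᵀ * M)
    (i : Fin (Finset.univ.sup d + 1)) :
    Bmat d hd M i.1 * piHom d hd Y i = (piHom d hd X i)ᵀ * Bmat d hd M i.1 := by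
  ext k l
  rw [Matrix.mul_apply, Matrix.mul_apply]
  have h1 := mul_zeroI_lastIT d hd M hM hkey Y.1 ((mem_CenAlg d).1 Y.2) i.1 k l
  have h2 := transpose_mul_zeroI_lastI d hd M hM hkey X.1 ((mem_CenAlg d).1 X.2) i.1 k l
  rw [hXY, h2] at h1
  exact h1.symm

include hM hkey in
/-- right multiplication by an element of the centraliser. -/
theorem Bmat_mul_right (Y : CenAlg K d) (i : Fin (Finset.univ.sup d + 1)) :
    Bmat d hd (M * Y.1) i.1 = Bmat d hd M i.1 * piHom d hd Y i := by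
  ext k l
  rw [Matrix.mul_apply]
  exact mul_zeroI_lastIT d hd M hM hkey Y.1 ((mem_CenAlg d).1 Y.2) i.1 k l

include hM hkey in
theorem Bmat_transpose (i : ℕ) :
    (Bmat d hd M i)ᵀ = ((-1 : K) ^ i) • Bmat d hd M i := by
  ext k l
  rw [Matrix.transpose_apply, Matrix.smul_apply, smul_eq_mul]
  show M (zeroI d hd l.1) (lastI d hd k.1) = (-1) ^ i * M (zeroI d hd k.1) (lastI d hd l.1)
  have hi : 1 ≤ i := by rw [← k.2]; exact hd k.1
  rw [M_zeroI_eq d hd M l.1, M_zeroI_eq d hd M k.1]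
  show Mx d M l.1 k.1 0 (d k.1 - 1) = (-1) ^ i * Mx d M k.1 l.1 0 (d l.1 - 1)
  rw [Mx_skew d M hM l.1 k.1 0 (d k.1 - 1),
    Mx_antidiag d M hkey k.1 l.1 (d k.1 - 1) 0 (by rw [k.2, l.2]; omega), k.2, l.2, add_zero]
  have hpow : (-1 : K) ^ i = -((-1) ^ (i - 1)) := by
    obtain ⟨j, hj⟩ : ∃ j, i = j + 1 := ⟨i - 1, by omega⟩
    rw [hj, pow_succ, Nat.add_sub_cancel]
    ring
  rw [hpow]
  ring

include hM hkey in
theorem det_Bmat_ne_zeroT (hMdet : M.det ≠ 0) (i : ℕ) : (Bmat d hd M i).det ≠ 0 := by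
  classical
  set Mt : Matrix (Fin t) (Fin t) K := Matrix.of fun k l => M (zeroI d hd k) (lastI d hd l)
    with hMt
  have h1 : Mt.det ≠ 0 := by
    intro h0
    obtain ⟨v, hv, hv0⟩ := Matrix.exists_mulVec_eq_zero_iff.2 h0
    set w : Idx d → K := fun s => if (s.2 : ℕ) + 1 = d s.1 then v s.1 else 0 with hw
    have hw0 : M *ᵥ w = 0 := by
      funext s
      obtain ⟨k, a⟩ := s
      show ∑ s, M ⟨k, a⟩ s * w s = 0
      rw [sum_eq_sum_of_embedding (fun l : Fin t => lastI d hd l)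
        (fun l l' h => congrArg Sigma.fst h) (fun s => M ⟨k, a⟩ s * w s)]
      · by_cases ha : (a : ℕ) = 0
        · have hka : (⟨k, a⟩ : Idx d) = zeroI d hd k := idx_ext d rfl ha
          have h2 : ∑ l, Mt k l * v l = 0 := congrFun hv0 k
          rw [hka]
          refine Eq.trans ?_ h2
          refine Finset.sum_congr rfl fun l _ => ?_
          have hl : ((lastI d hd l).2 : ℕ) + 1 = d (lastI d hd l).1 := by
            show d l - 1 + 1 = d l
            have := hd l
            omega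
          rw [hw]
          show M (zeroI d hd k) (lastI d hd l) *
            (if ((lastI d hd l).2 : ℕ) + 1 = d (lastI d hd l).1 then v (lastI d hd l).1 else 0) = _
          rw [if_pos hl]
          rfl
        · refine Finset.sum_eq_zero fun l _ => ?_
          rw [M_lastI_eq d hd M ⟨k, a⟩ l,
            Mx_orth_right' d M hkey k l a (d l - 1) (by show d l ≤ (a : ℕ) + (d l - 1); omega),
            zero_mul]
      · rintro ⟨l, b⟩ hs
        have : ¬ ((b : ℕ) + 1 = d l) := by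
          intro hb
          refine hs l (idx_ext d rfl ?_)
          show d l - 1 = (b : ℕ)
          omega
        show M ⟨k, a⟩ ⟨l, b⟩ * (if (b : ℕ) + 1 = d l then v l else 0) = 0
        rw [if_neg this, mul_zero]
    have hw1 := Matrix.eq_zero_of_mulVec_eq_zero hMdet hw0
    apply hv
    funext l
    have h3 := congrFun hw1 (lastI d hd l)
    rw [hw] at h3
    have hl : ((lastI d hd l).2 : ℕ) + 1 = d (lastI d hd l).1 := by
      show d l - 1 + 1 = d l
      have := hd l
      omega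
    simp only [if_pos hl] at h3
    exact h3
  have h2 : Mtᵀ.BlockTriangular d := by
    intro l k hkl
    show M (zeroI d hd k) (lastI d hd l) = 0
    rw [M_zeroI_eq d hd M k]
    exact Mx_orth_leftT d M hM hkey k l 0 (d l - 1) (by omega)
  have h3 : Mtᵀ.det ≠ 0 := by rwa [Matrix.det_transpose]
  rw [h2.det] at h3
  have h4 : Mtᵀ.toSquareBlock d i = (Bmat d hd M i)ᵀ := by
    ext k l
    rfl
  rw [← Matrix.det_transpose, ← h4]
  by_cases hi : i ∈ Finset.univ.image d
  · exact (Finset.prod_ne_zero_iff.1 h3) i hi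
  · have : IsEmpty {k // d k = i} :=
      ⟨fun k => hi (Finset.mem_image.2 ⟨k.1, Finset.mem_univ _, k.2⟩)⟩
    rw [Matrix.det_isEmpty]
    exact one_ne_zero

end Cfsg.Agent.Lib.Helper5.SpU
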