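import Mathlib
import Cfsg.Agent.Lib.Helper5.GUCA

set_option autoImplicit false

/-!
The "symmetric square root" lemma for a linear anti-involution modulo a nil ideal, in
characteristic different from `2` (linear version of `GUC.Datum.exists_sqrt`).
-/

namespace Cfsg.Agent.Lib.Helper5.SpU

/-- The data: a linear anti-automorphism `τ` and a projection `π` with nil kernel. -/
structure LDatum (K : Type*) [Field K] (A S : Type*) [Ring A] [Algebra K A] [Ring S]
    [Algebra K S] where
  τ : A → A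
  τ_add : ∀ x y, τ (x + y) = τ x + τ y
  τ_mul : ∀ x y, τ (x * y) = τ y * τ x
  τ_one : τ 1 = 1
  τ_smul : ∀ (c : K) x, τ (c • x) = c • τ x
  π : A →ₐ[K] S
  hnil : ∀ x, π x = 0 → IsNilpotent x

namespace LDatum

variable {K : Type*} [Field K] [Fintype K] {A S : Type*} [Ring A] [Algebra K A] [Ring S] [Algebra K S]
  (D : LDatum K A S)

theorem τ_zero : D.τ 0 = 0 := by
  have h := D.τ_add 0 0
  rw [add_zero] at h
  exact left_eq_add.1 h

theorem τ_neg (x : A) : D.τ (-x) = -D.τ x :=
  eq_neg_of_add_eq_zero_left (by rw [← D.τ_add, neg_add_cancel, D.τ_zero])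

theorem τ_sub (x y : A) : D.τ (x - y) = D.τ x - D.τ y := by
  rw [sub_eq_add_neg, D.τ_add, D.τ_neg, ← sub_eq_add_neg]

theorem τ_pow (x : A) (n : ℕ) : D.τ (x ^ n) = D.τ x ^ n := by
  induction n with
  | zero => rw [pow_zero, pow_zero, D.τ_one]
  | succ n ih => rw [pow_succ, D.τ_mul, ih, ← pow_succ']

include D in
theorem exists_normalize (h2 : (2 : K) ≠ 0) : ∀ (k : ℕ) (s : A), D.τ s = s → D.π s = 0 →
    s ^ k = 0 → ∃ r : A, D.π r = 1 ∧ D.τ r * (1 + s) * r = 1 := by
  intro k
  induction k using Nat.strong_induction_on with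
  | _ k ih =>
    intro s hτs hπs hsk
    by_cases hk : k ≤ 1
    · have hs0 : s = 0 := by
        interval_cases k
        · rw [pow_zero] at hsk
          calc s = s * 1 := (mul_one s).symm
            _ = 0 := by rw [hsk, mul_zero]
        · rwa [pow_one] at hsk
      refine ⟨1, map_one _, ?_⟩
      rw [hs0, D.τ_one, add_zero, one_mul, one_mul]
    · push Not at hk
      set c : K := 2⁻¹ with hc
      have hcc : c + c = 1 := by
        rw [hc, ← two_mul, mul_inv_cancel₀ h2]
      set N : K := c * c with hN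
      set r1 : A := 1 - c • s with hr1
      set s2 : A := (N - 1) • s ^ 2 + N • s ^ 3 with hs2
      have hτr1 : D.τ r1 = 1 - c • s := by
        rw [hr1, D.τ_sub, D.τ_one, D.τ_smul, hτs]
      have hid : D.τ r1 * (1 + s) * r1 = 1 + s2 := by
        rw [hτr1, hr1, hs2, hN]
        exact Cfsg.Agent.Lib.Helper5.GUC.Datum.alg_identity c c hcc s
      have hτs2 : D.τ s2 = s2 := by
        rw [hs2, D.τ_add, D.τ_smul, D.τ_smul, D.τ_pow, D.τ_pow, hτs]
      have hπs2 : D.π s2 = 0 := by
        rw [hs2, map_add, map_smul, map_smul, map_pow, map_pow, hπs, zero_pow (by norm_num),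
          zero_pow (by norm_num), smul_zero, smul_zero, add_zero]
      set u : A := (N - 1) • (1 : A) + N • s with hu
      have hs2u : s2 = s ^ 2 * u := by
        rw [hs2, hu, mul_add, mul_smul_comm, mul_smul_comm, mul_one, ← pow_succ]
      have hcomm : Commute (s ^ 2) u := by
        rw [hu]
        refine Commute.add_right ?_ ?_
        · exact Commute.smul_right (Commute.one_right _) _
        · exact Commute.smul_right (Commute.pow_left (Commute.refl s) 2) _
      have hk' : (k + 1) / 2 < k := by omega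
      have hs2k : s2 ^ ((k + 1) / 2) = 0 := by
        rw [hs2u, hcomm.mul_pow, ← pow_mul]
        have : 2 * ((k + 1) / 2) = k + (2 * ((k + 1) / 2) - k) := by omega
        rw [this, pow_add, hsk, zero_mul, zero_mul]
      obtain ⟨r2, hπr2, hr2⟩ := ih ((k + 1) / 2) hk' s2 hτs2 hπs2 hs2k
      refine ⟨r1 * r2, ?_, ?_⟩
      · rw [map_mul, hπr2, mul_one, hr1, map_sub, map_one, map_smul, hπs, smul_zero, sub_zero]
      · rw [D.τ_mul]
        calc D.τ r2 * D.τ r1 * (1 + s) * (r1 * r2) = D.τ r2 * (D.τ r1 * (1 + s) * r1) * r2 := by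
              simp only [mul_assoc]
          _ = 1 := by rw [hid, hr2]

include D in
theorem exists_inverse_of_pi_one (x : A) (hx : D.π x = 1) :
    ∃ z : A, x * z = 1 ∧ z * x = 1 ∧ D.π z = 1 := by
  have h1 : D.π (x - 1) = 0 := by rw [map_sub, hx, map_one, sub_self]
  have h2 : IsUnit (x - 1 + 1) := (D.hnil _ h1).isUnit_add_one
  rw [sub_add_cancel] at h2
  obtain ⟨u, rfl⟩ := h2
  refine ⟨((u⁻¹ : Aˣ) : A), u.mul_inv, u.inv_mul, ?_⟩
  have h3 : D.π (u : A) * D.π ((u⁻¹ : Aˣ) : A) = 1 := by rw [← map_mul, u.mul_inv, map_one]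
  rwa [hx, one_mul] at h3

include D in
/-- every symmetric element congruent to `1` is of the form `τ x * x` with `x` congruent to `1`. -/
theorem exists_sqrt (h2 : (2 : K) ≠ 0) (h : A) (hτ : D.τ h = h) (hπ : D.π h = 1) :
    ∃ x : A, D.π x = 1 ∧ D.τ x * x = h := by
  have hs1 : D.τ (h - 1) = h - 1 := by rw [D.τ_sub, hτ, D.τ_one]
  have hs2 : D.π (h - 1) = 0 := by rw [map_sub, hπ, map_one, sub_self]
  obtain ⟨k, hk⟩ := D.hnil _ hs2
  obtain ⟨r, hπr, hr⟩ := D.exists_normalize h2 k (h - 1) hs1 hs2 hk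
  rw [add_sub_cancel] at hr
  obtain ⟨z, hrz, hzr, hπz⟩ := D.exists_inverse_of_pi_one r hπr
  refine ⟨z, hπz, ?_⟩
  calc D.τ z * z = D.τ z * (D.τ r * h * r) * z := by rw [hr, mul_one]
    _ = (D.τ z * D.τ r) * h * (r * z) := by simp only [mul_assoc]
    _ = h := by rw [← D.τ_mul, hrz, D.τ_one, one_mul, mul_one]

end LDatum

end Cfsg.Agent.Lib.Helper5.SpU
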