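import Mathlib
import Cfsg.Agent.Lib.Helper5.SpU0
import Cfsg.Agent.Lib.Helper5.SpU1
import Cfsg.Agent.Lib.Helper5.SpUA
import Cfsg.Agent.Lib.Helper5.GUC2

set_option autoImplicit false

/-!
The adjoint anti-involution of the centraliser algebra attached to an invariant skew form, and
basic facts about units of the centraliser algebra.
-/

namespace Cfsg.Agent.Lib.Helper5.SpU

open Matrix Cfsg.Agent.Lib.Helper5.UnipCent Cfsg.Agent.Lib.Helper5.GUC

variable {K : Type*} [Field K] [Fintype K] {t : ℕ} (d : Fin t → ℕ) (hd : ∀ k, 1 ≤ d k)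

/-- units of the centraliser algebra are detected on the semisimple quotient. -/
theorem isUnit_det_iff_piHom (X : CenAlg K d) :
    IsUnit X.1.det ↔ ∀ i : Fin (Finset.univ.sup d + 1), IsUnit (piHom d hd X i).det := by
  have hX := (mem_CenAlg d).1 X.2
  rw [isUnit_iff_ne_zero, det_ne_zero_iff d hd X.1 hX]
  constructor
  · intro h i
    exact isUnit_iff_ne_zero.2 (h i.1)
  · intro h i
    by_cases hi : i < Finset.univ.sup d + 1
    · exact (h ⟨i, hi⟩).ne_zero
    · have : IsEmpty {k // d k = i} := ⟨fun k => hi (by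
        have := Finset.le_sup (f := d) (Finset.mem_univ k.1)
        rw [k.2] at this
        omega)⟩
      rw [Matrix.det_isEmpty]
      exact one_ne_zero

/-- the adjoint of a matrix commuting with `N` commutes with `N` (transpose version). -/
theorem adjoint_commT (M M' : Matrix (Idx d) (Idx d) K) (hMM' : M * M' = 1)
    (hinv : (1 + Nmat (F := K) d)ᵀ * M * (1 + Nmat d) = M) (X : Matrix (Idx d) (Idx d) K)
    (hX : X * Nmat d = Nmat d * X) :
    (M' * Xᵀ * M) * Nmat d = Nmat d * (M' * Xᵀ * M) := by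
  have hM'M : M' * M = 1 := mul_eq_one_comm.1 hMM'
  set u : Matrix (Idx d) (Idx d) K := 1 + Nmat d with hu
  set V : Matrix (Idx d) (Idx d) K := M * u * M' with hV
  have h1 : uᵀ * V = 1 := by
    rw [hV]
    calc uᵀ * (M * u * M') = (uᵀ * M * u) * M' := by simp only [mul_assoc]
      _ = 1 := by rw [hinv, hMM']
  have h2 : V * uᵀ = 1 := mul_eq_one_comm.1 h1
  have h3 : M * u = V * M := by
    rw [hV]
    calc M * u = M * u * (M' * M) := by rw [hM'M, mul_one]
      _ = M * u * M' * M := by simp only [mul_assoc]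
  have h4 : u * M' = M' * V := by
    rw [hV]
    calc u * M' = (M' * M) * u * M' := by rw [hM'M, one_mul]
      _ = M' * (M * u * M') := by simp only [mul_assoc]
  have hXu : X * u = u * X := by
    rw [hu, mul_add, add_mul, mul_one, one_mul, hX]
  have h5 : uᵀ * Xᵀ = Xᵀ * uᵀ := by
    rw [← Matrix.transpose_mul, ← Matrix.transpose_mul, hXu]
  have h6 : V * Xᵀ = Xᵀ * V := by
    calc V * Xᵀ = V * Xᵀ * (uᵀ * V) := by rw [h1, mul_one]
      _ = V * (Xᵀ * uᵀ) * V := by simp only [mul_assoc]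
      _ = V * (uᵀ * Xᵀ) * V := by rw [h5]
      _ = (V * uᵀ) * Xᵀ * V := by simp only [mul_assoc]
      _ = Xᵀ * V := by rw [h2, one_mul]
  have h7 : (M' * Xᵀ * M) * u = u * (M' * Xᵀ * M) := by
    calc (M' * Xᵀ * M) * u = M' * Xᵀ * (M * u) := by simp only [mul_assoc]
      _ = M' * (Xᵀ * V) * M := by rw [h3]; simp only [mul_assoc]
      _ = M' * (V * Xᵀ) * M := by rw [h6]
      _ = (M' * V) * Xᵀ * M := by simp only [mul_assoc]
      _ = u * (M' * Xᵀ * M) := by rw [← h4]; simp only [mul_assoc]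
  rw [hu, mul_add, add_mul, mul_one, one_mul] at h7
  exact add_left_cancel h7

/-- the adjoint anti-involution on the centraliser algebra (transpose version). -/
def tauT (M M' : Matrix (Idx d) (Idx d) K) (hMM' : M * M' = 1)
    (hinv : (1 + Nmat (F := K) d)ᵀ * M * (1 + Nmat d) = M) (X : CenAlg K d) : CenAlg K d :=
  ⟨M' * X.1ᵀ * M, (mem_CenAlg d).2
    (adjoint_commT d M M' hMM' hinv X.1 ((mem_CenAlg d).1 X.2))⟩

theorem tauT_val (M M' : Matrix (Idx d) (Idx d) K) (hMM' : M * M' = 1)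
    (hinv : (1 + Nmat (F := K) d)ᵀ * M * (1 + Nmat d) = M) (X : CenAlg K d) :
    (tauT d M M' hMM' hinv X).1 = M' * X.1ᵀ * M := rfl

/-- the data for the square root lemma. -/
noncomputable def ldatum (M M' : Matrix (Idx d) (Idx d) K) (hMM' : M * M' = 1)
    (hinv : (1 + Nmat (F := K) d)ᵀ * M * (1 + Nmat d) = M) :
    LDatum K (CenAlg K d) (SS K d) where
  τ := tauT d M M' hMM' hinv
  τ_add := by
    intro X Y
    apply Subtype.ext
    show M' * (X.1 + Y.1)ᵀ * M = M' * X.1ᵀ * M + M' * Y.1ᵀ * M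
    rw [Matrix.transpose_add, mul_add, add_mul]
  τ_mul := by
    intro X Y
    have hM'M : M' * M = 1 := mul_eq_one_comm.1 hMM'
    apply Subtype.ext
    show M' * (X.1 * Y.1)ᵀ * M = (M' * Y.1ᵀ * M) * (M' * X.1ᵀ * M)
    rw [Matrix.transpose_mul]
    calc M' * (Y.1ᵀ * X.1ᵀ) * M = M' * Y.1ᵀ * 1 * X.1ᵀ * M := by
          simp only [mul_assoc, one_mul]
      _ = (M' * Y.1ᵀ * M) * (M' * X.1ᵀ * M) := by
          rw [← hMM']; simp only [mul_assoc]
  τ_one := by
    have hM'M : M' * M = 1 := mul_eq_one_comm.1 hMM'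
    apply Subtype.ext
    show M' * (1 : Matrix (Idx d) (Idx d) K)ᵀ * M = 1
    rw [Matrix.transpose_one, mul_one, hM'M]
  τ_smul := by
    intro c X
    apply Subtype.ext
    show M' * (c • X.1)ᵀ * M = c • (M' * X.1ᵀ * M)
    rw [Matrix.transpose_smul, Matrix.mul_smul, Matrix.smul_mul]
  π := piHom d hd
  hnil := isNilpotent_of_piHom_eq_zero d hd

end Cfsg.Agent.Lib.Helper5.SpU
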