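import Mathlib
import Cfsg.Agent.Lib.Helper5.SpU2

set_option autoImplicit false

/-!
Orbits of the centraliser on invariant skew forms: equivariance of the induced forms, lifting
through the radical, twisting.
-/

namespace Cfsg.Agent.Lib.Helper5.SpU

open Matrix Cfsg.Agent.Lib.Helper5.UnipCent Cfsg.Agent.Lib.Helper5.GUC

variable {K : Type*} [Field K] [Fintype K] {t : ℕ} (d : Fin t → ℕ) (hd : ∀ k, 1 ≤ d k)

/-- the inverse of a skew matrix is skew. -/
theorem inv_skew (M W : Matrix (Idx d) (Idx d) K) (hMW : M * W = 1) (hM : Mᵀ = -M) :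
    Wᵀ = -W := by
  have hWM : W * M = 1 := mul_eq_one_comm.1 hMW
  have h1 : Wᵀ * Mᵀ = 1 := by rw [← Matrix.transpose_mul, hMW, Matrix.transpose_one]
  rw [hM, mul_neg, ← neg_mul] at h1
  calc Wᵀ = -(-Wᵀ * (M * W)) := by rw [hMW, mul_one, neg_neg]
    _ = -((-Wᵀ * M) * W) := by rw [mul_assoc]
    _ = -W := by rw [h1, one_mul]

/-- equivariance of the induced forms. -/
theorem Bmat_congr (M W : Matrix (Idx d) (Idx d) K) (hMW : M * W = 1) (hM : Mᵀ = -M)
    (hinv : (1 + Nmat (F := K) d)ᵀ * M * (1 + Nmat d) = M) (X : CenAlg K d)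
    (i : Fin (Finset.univ.sup d + 1)) :
    Bmat d hd (X.1ᵀ * M * X.1) i.1 = (piHom d hd X i)ᵀ * Bmat d hd M i.1 * piHom d hd X i := by
  have hkey := key_identityT d M hinv
  set Y : CenAlg K d := tauT d M W hMW hinv X * X with hY
  have hY1 : M * Y.1 = X.1ᵀ * M * X.1 := by
    show M * ((W * X.1ᵀ * M) * X.1) = X.1ᵀ * M * X.1
    calc M * ((W * X.1ᵀ * M) * X.1) = (M * W) * X.1ᵀ * M * X.1 := by simp only [mul_assoc]
      _ = X.1ᵀ * M * X.1 := by rw [hMW, one_mul]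
  have h1 := Bmat_mul_right d hd M hM hkey Y i
  rw [hY1] at h1
  have h2 : piHom d hd Y i = piHom d hd (tauT d M W hMW hinv X) i * piHom d hd X i := by
    rw [hY, map_mul]
    rfl
  have h3 := Bmat_mul_piHomT d hd M hM hkey X (tauT d M W hMW hinv X) (by
    show M * (W * X.1ᵀ * M) = X.1ᵀ * M
    calc M * (W * X.1ᵀ * M) = (M * W) * X.1ᵀ * M := by simp only [mul_assoc]
      _ = X.1ᵀ * M := by rw [hMW, one_mul]) i
  rw [h1, h2, ← mul_assoc, h3]

/-- lifting units of the semisimple quotient. -/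
theorem exists_lift_units
    (g : ∀ i : Fin (Finset.univ.sup d + 1), Matrix {k // d k = i.1} {k // d k = i.1} K)
    (hg : ∀ i, IsUnit (g i).det) :
    ∃ X : CenAlg K d, piHom d hd X = g ∧ IsUnit X.1.det := by
  obtain ⟨X, hX⟩ := piHom_surjective (K := K) d hd g
  refine ⟨X, hX, ?_⟩
  rw [isUnit_det_iff_piHom d hd]
  intro i
  rw [hX]
  exact hg i

/-- congruence by an element of the centraliser preserves invariant forms. -/
theorem congr_invForm (M : InvForms K d) (X : Matrix (Idx d) (Idx d) K) (hXu : IsUnit X.det)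
    (hX : X * Nmat d = Nmat d * X) :
    (Xᵀ * M.1 * X)ᵀ = -(Xᵀ * M.1 * X) ∧ IsUnit (Xᵀ * M.1 * X).det ∧
      (1 + Nmat (F := K) d)ᵀ * (Xᵀ * M.1 * X) * (1 + Nmat d) = Xᵀ * M.1 * X := by
  refine ⟨?_, ?_, ?_⟩
  · rw [Matrix.transpose_mul, Matrix.transpose_mul, Matrix.transpose_transpose, M.2.1]
    simp only [mul_neg, neg_mul, mul_assoc]
  · rw [Matrix.det_mul, Matrix.det_mul, Matrix.det_transpose]
    exact (hXu.mul M.2.2.1).mul hXu
  · have hXu' : X * (1 + Nmat d) = (1 + Nmat d) * X := by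
      rw [mul_add, add_mul, mul_one, one_mul, hX]
    have hXuT : (1 + Nmat (F := K) d)ᵀ * Xᵀ = Xᵀ * (1 + Nmat (F := K) d)ᵀ := by
      rw [← Matrix.transpose_mul, ← Matrix.transpose_mul, hXu']
    calc (1 + Nmat (F := K) d)ᵀ * (Xᵀ * M.1 * X) * (1 + Nmat d)
        = ((1 + Nmat (F := K) d)ᵀ * Xᵀ) * M.1 * (X * (1 + Nmat d)) := by simp only [mul_assoc]
      _ = Xᵀ * ((1 + Nmat (F := K) d)ᵀ * M.1 * (1 + Nmat d)) * X := by
          rw [hXuT, hXu']; simp only [mul_assoc]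
      _ = Xᵀ * M.1 * X := by rw [M.2.2.2]

/-- two invariant forms with the same induced forms are congruent under the centraliser. -/
theorem congr_of_Bmat_eq (h2 : (2 : K) ≠ 0) (M₁ M' : InvForms K d)
    (hB : ∀ i : Fin (Finset.univ.sup d + 1), Bmat d hd M₁.1 i.1 = Bmat d hd M'.1 i.1) :
    (invSetoid K d).r M₁ M' := by
  have hM₁ := M₁.2.1
  have hinv₁ := M₁.2.2.2
  have hkey₁ := key_identityT d M₁.1 hinv₁
  set W : Matrix (Idx d) (Idx d) K := M₁.1⁻¹ with hW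
  have hMW : M₁.1 * W = 1 := Matrix.mul_nonsing_inv _ M₁.2.2.1
  have hWM : W * M₁.1 = 1 := Matrix.nonsing_inv_mul _ M₁.2.2.1
  have hWT : Wᵀ = -W := inv_skew d M₁.1 W hMW hM₁
  set u : Matrix (Idx d) (Idx d) K := 1 + Nmat d with hu
  set h : Matrix (Idx d) (Idx d) K := W * M'.1 with hh
  have hMh : M₁.1 * h = M'.1 := by
    rw [hh, ← mul_assoc, hMW, one_mul]
  -- `h` commutes with `u`
  set V : Matrix (Idx d) (Idx d) K := W * uᵀ * M₁.1 with hV
  have hVu : V * u = 1 := by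
    rw [hV]
    calc W * uᵀ * M₁.1 * u = W * (uᵀ * M₁.1 * u) := by simp only [mul_assoc]
      _ = 1 := by rw [hinv₁, hWM]
  have huV : u * V = 1 := mul_eq_one_comm.1 hVu
  have hVhu : V * h * u = h := by
    have h1 : uᵀ * (M₁.1 * h) * u = M₁.1 * h := by rw [hMh]; exact M'.2.2.2
    calc V * h * u = W * (uᵀ * (M₁.1 * h) * u) := by rw [hV]; simp only [mul_assoc]
      _ = h := by rw [h1, ← mul_assoc, hWM, one_mul]
  have hhu : h * u = u * h := by
    calc h * u = (u * V) * h * u := by rw [huV, one_mul]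
      _ = u * (V * h * u) := by simp only [mul_assoc]
      _ = u * h := by rw [hVhu]
  have hhN : h * Nmat d = Nmat d * h := by
    rw [hu, mul_add, add_mul, mul_one, one_mul] at hhu
    exact add_left_cancel hhu
  set hc : CenAlg K d := ⟨h, (mem_CenAlg d).2 hhN⟩ with hhc
  set D := ldatum d hd M₁.1 W hMW hinv₁ with hD
  have hτ : D.τ hc = hc := by
    apply Subtype.ext
    show W * hᵀ * M₁.1 = h
    rw [hh, Matrix.transpose_mul, M'.2.1, hWT]
    calc W * (-M'.1 * -W) * M₁.1 = W * M'.1 * (W * M₁.1) := by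
          simp only [neg_mul_neg, mul_assoc]
      _ = W * M'.1 := by rw [hWM, mul_one]
  have hπ : D.π hc = 1 := by
    funext i
    show piHom d hd hc i = 1
    have h1 := Bmat_mul_right d hd M₁.1 hM₁ hkey₁ hc i
    have h1' : Bmat d hd (M₁.1 * hc.1) i.1 = Bmat d hd M₁.1 i.1 := by
      show Bmat d hd (M₁.1 * h) i.1 = Bmat d hd M₁.1 i.1
      rw [hMh, hB i]
    rw [h1'] at h1
    have hBu : IsUnit (Bmat d hd M₁.1 i.1).det :=
      (det_Bmat_ne_zeroT d hd M₁.1 hM₁ hkey₁ M₁.2.2.1.ne_zero i.1).isUnit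
    have h3 : (Bmat d hd M₁.1 i.1)⁻¹ * Bmat d hd M₁.1 i.1 = 1 := Matrix.nonsing_inv_mul _ hBu
    calc piHom d hd hc i = ((Bmat d hd M₁.1 i.1)⁻¹ * Bmat d hd M₁.1 i.1) * piHom d hd hc i := by
          rw [h3, one_mul]
      _ = (Bmat d hd M₁.1 i.1)⁻¹ * (Bmat d hd M₁.1 i.1 * piHom d hd hc i) := by rw [mul_assoc]
      _ = 1 := by rw [← h1, h3]
  obtain ⟨x, hπx, hx⟩ := D.exists_sqrt h2 hc hτ hπ
  have hxu : IsUnit x.1.det := by
    rw [isUnit_det_iff_piHom d hd]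
    intro i
    have : piHom d hd x i = 1 := congrFun hπx i
    rw [this, Matrix.det_one]
    exact isUnit_one
  refine ⟨x.1, hxu, (mem_CenAlg d).1 x.2, ?_⟩
  have hx' : W * x.1ᵀ * M₁.1 * x.1 = h := congrArg Subtype.val hx
  calc x.1ᵀ * M₁.1 * x.1 = (M₁.1 * W) * (x.1ᵀ * M₁.1 * x.1) := by rw [hMW, one_mul]
    _ = M₁.1 * (W * x.1ᵀ * M₁.1 * x.1) := by simp only [mul_assoc]
    _ = M'.1 := by rw [hx', hMh]

/-- invariant forms whose induced forms are congruent are congruent under the centraliser. -/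
theorem congr_of_Bmat_congr (h2 : (2 : K) ≠ 0) (M M' : InvForms K d)
    (hB : ∀ i : Fin (Finset.univ.sup d + 1), ∃ g : Matrix {k // d k = i.1} {k // d k = i.1} K,
      IsUnit g.det ∧ gᵀ * Bmat d hd M.1 i.1 * g = Bmat d hd M'.1 i.1) :
    (invSetoid K d).r M M' := by
  choose g hgu hg using hB
  obtain ⟨X₀, hX₀, hX₀u⟩ := exists_lift_units d hd g hgu
  have hX₀N := (mem_CenAlg d).1 X₀.2
  set M₁ : InvForms K d := ⟨X₀.1ᵀ * M.1 * X₀.1, congr_invForm d M X₀.1 hX₀u hX₀N⟩ with hM₁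
  have h1 : (invSetoid K d).r M M₁ := ⟨X₀.1, hX₀u, hX₀N, rfl⟩
  have hMW : M.1 * M.1⁻¹ = 1 := Matrix.mul_nonsing_inv _ M.2.2.1
  have h2' : (invSetoid K d).r M₁ M' := by
    apply congr_of_Bmat_eq d hd h2
    intro i
    show Bmat d hd (X₀.1ᵀ * M.1 * X₀.1) i.1 = Bmat d hd M'.1 i.1
    rw [Bmat_congr d hd M.1 M.1⁻¹ hMW M.2.1 M.2.2.2 X₀ i, hX₀, hg i]
  exact (invSetoid K d).iseqv.trans h1 h2'

/-- twisting: every tuple of forms of the right symmetry is induced by some invariant form, as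
soon as one invariant form exists. -/
theorem exists_twist (h2 : (2 : K) ≠ 0) (M : InvForms K d)
    (B' : ∀ i : Fin (Finset.univ.sup d + 1), Forms K ((-1 : K) ^ i.1) {k // d k = i.1}) :
    ∃ M' : InvForms K d, ∀ i, Bmat d hd M'.1 i.1 = (B' i).1 := by
  have hM := M.2.1
  have hinv := M.2.2.2
  have hkey := key_identityT d M.1 hinv
  set W : Matrix (Idx d) (Idx d) K := M.1⁻¹ with hW
  have hMW : M.1 * W = 1 := Matrix.mul_nonsing_inv _ M.2.2.1
  have hWM : W * M.1 = 1 := Matrix.nonsing_inv_mul _ M.2.2.1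
  have hWT : Wᵀ = -W := inv_skew d M.1 W hMW hM
  set D := ldatum d hd M.1 W hMW hinv with hD
  have hBu : ∀ i : Fin (Finset.univ.sup d + 1), IsUnit (Bmat d hd M.1 i.1).det := fun i =>
    (det_Bmat_ne_zeroT d hd M.1 hM hkey M.2.2.1.ne_zero i.1).isUnit
  have hB1 : ∀ i : Fin (Finset.univ.sup d + 1),
      Bmat d hd M.1 i.1 * (Bmat d hd M.1 i.1)⁻¹ = 1 := fun i => Matrix.mul_nonsing_inv _ (hBu i)
  have hB2 : ∀ i : Fin (Finset.univ.sup d + 1),
      (Bmat d hd M.1 i.1)⁻¹ * Bmat d hd M.1 i.1 = 1 := fun i => Matrix.nonsing_inv_mul _ (hBu i)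
  have hBT : ∀ i : Fin (Finset.univ.sup d + 1),
      (Bmat d hd M.1 i.1)ᵀ = ((-1 : K) ^ i.1) • Bmat d hd M.1 i.1 := fun i =>
    Bmat_transpose d hd M.1 hM hkey i.1
  have hε : ∀ i : ℕ, ((-1 : K) ^ i) * ((-1 : K) ^ i) = 1 := by
    intro i
    rw [← mul_pow, neg_mul_neg, one_mul, one_pow]
  set g : ∀ i : Fin (Finset.univ.sup d + 1), Matrix {k // d k = i.1} {k // d k = i.1} K :=
    fun i => (Bmat d hd M.1 i.1)⁻¹ * (B' i).1 with hg
  obtain ⟨y, hy⟩ := piHom_surjective (K := K) d hd g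
  -- the key computation: `gᵀ * B = B'`
  have hgB : ∀ i, (g i)ᵀ * Bmat d hd M.1 i.1 = (B' i).1 := by
    intro i
    have h1 : ((Bmat d hd M.1 i.1)⁻¹)ᵀ * Bmat d hd M.1 i.1 = ((-1 : K) ^ i.1) • 1 := by
      have h3 : Bmat d hd M.1 i.1 = ((-1 : K) ^ i.1) • (Bmat d hd M.1 i.1)ᵀ := by
        rw [hBT i, smul_smul, hε, one_smul]
      calc ((Bmat d hd M.1 i.1)⁻¹)ᵀ * Bmat d hd M.1 i.1
          = ((Bmat d hd M.1 i.1)⁻¹)ᵀ * (((-1 : K) ^ i.1) • (Bmat d hd M.1 i.1)ᵀ) := by rw [← h3]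
        _ = ((-1 : K) ^ i.1) • (((Bmat d hd M.1 i.1)⁻¹)ᵀ * (Bmat d hd M.1 i.1)ᵀ) := by
            rw [Matrix.mul_smul]
        _ = ((-1 : K) ^ i.1) • 1 := by
            rw [← Matrix.transpose_mul, hB1, Matrix.transpose_one]
    show ((Bmat d hd M.1 i.1)⁻¹ * (B' i).1)ᵀ * Bmat d hd M.1 i.1 = (B' i).1
    rw [Matrix.transpose_mul, (B' i).2.1, mul_assoc, h1, Matrix.smul_mul, Matrix.mul_smul,
      mul_one, smul_smul, hε, one_smul]
  have hπτ : piHom d hd (D.τ y) = g := by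
    funext i
    have h3 := Bmat_mul_piHomT d hd M.1 hM hkey y (tauT d M.1 W hMW hinv y) (by
      show M.1 * (W * y.1ᵀ * M.1) = y.1ᵀ * M.1
      calc M.1 * (W * y.1ᵀ * M.1) = (M.1 * W) * y.1ᵀ * M.1 := by simp only [mul_assoc]
        _ = y.1ᵀ * M.1 := by rw [hMW, one_mul]) i
    rw [hy, hgB i] at h3
    show piHom d hd (tauT d M.1 W hMW hinv y) i = g i
    calc piHom d hd (tauT d M.1 W hMW hinv y) i
        = ((Bmat d hd M.1 i.1)⁻¹ * Bmat d hd M.1 i.1) *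
            piHom d hd (tauT d M.1 W hMW hinv y) i := by rw [hB2, one_mul]
      _ = (Bmat d hd M.1 i.1)⁻¹ * (Bmat d hd M.1 i.1 *
            piHom d hd (tauT d M.1 W hMW hinv y) i) := by rw [mul_assoc]
      _ = g i := by rw [h3]
  have hττ : D.τ (D.τ y) = y := by
    apply Subtype.ext
    show W * (W * y.1ᵀ * M.1)ᵀ * M.1 = y.1
    rw [Matrix.transpose_mul, Matrix.transpose_mul, Matrix.transpose_transpose, hM, hWT]
    calc W * (-M.1 * (y.1 * -W)) * M.1 = (W * M.1) * y.1 * (W * M.1) := by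
          simp only [neg_mul, mul_neg, neg_neg, mul_assoc]
      _ = y.1 := by rw [hWM, one_mul, mul_one]
  set h : CenAlg K d := (2⁻¹ : K) • (y + D.τ y) with hh
  have hτh : D.τ h = h := by
    rw [hh, D.τ_smul, D.τ_add, hττ, add_comm]
  have hπh : piHom d hd h = g := by
    rw [hh, map_smul, map_add, hπτ, hy, ← two_smul K g, smul_smul, inv_mul_cancel₀ h2, one_smul]
  have hhN := (mem_CenAlg d).1 h.2
  have hhu : IsUnit h.1.det := by
    rw [isUnit_det_iff_piHom d hd]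
    intro i
    rw [hπh]
    show IsUnit ((Bmat d hd M.1 i.1)⁻¹ * (B' i).1).det
    rw [Matrix.det_mul]
    exact (Matrix.isUnit_nonsing_inv_det _ (hBu i)).mul (B' i).2.2
  have hhM : h.1ᵀ * M.1 = M.1 * h.1 := by
    have h1 : W * h.1ᵀ * M.1 = h.1 := congrArg Subtype.val hτh
    calc h.1ᵀ * M.1 = (M.1 * W) * h.1ᵀ * M.1 := by rw [hMW, one_mul]
      _ = M.1 * (W * h.1ᵀ * M.1) := by simp only [mul_assoc]
      _ = M.1 * h.1 := by rw [h1]
  have hhu' : h.1 * (1 + Nmat d) = (1 + Nmat d) * h.1 := by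
    rw [mul_add, add_mul, mul_one, one_mul, hhN]
  refine ⟨⟨M.1 * h.1, ?_, ?_, ?_⟩, ?_⟩
  · rw [Matrix.transpose_mul, hM, mul_neg, hhM]
  · rw [Matrix.det_mul]
    exact M.2.2.1.mul hhu
  · calc (1 + Nmat (F := K) d)ᵀ * (M.1 * h.1) * (1 + Nmat d)
        = (1 + Nmat (F := K) d)ᵀ * M.1 * (h.1 * (1 + Nmat d)) := by simp only [mul_assoc]
      _ = ((1 + Nmat (F := K) d)ᵀ * M.1 * (1 + Nmat d)) * h.1 := by
          rw [hhu']; simp only [mul_assoc]
      _ = M.1 * h.1 := by rw [hinv]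
  · intro i
    show Bmat d hd (M.1 * h.1) i.1 = (B' i).1
    rw [Bmat_mul_right d hd M.1 hM hkey h i, hπh]
    show Bmat d hd M.1 i.1 * ((Bmat d hd M.1 i.1)⁻¹ * (B' i).1) = (B' i).1
    rw [← mul_assoc, hB1, one_mul]

end Cfsg.Agent.Lib.Helper5.SpU
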