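import Mathlib
import Cfsg.Agent.Lib.Helper5.SpU3

set_option autoImplicit false

/-!
The orbit map from invariant skew forms to tuples of induced forms is a bijection on classes;
the number of orbits.
-/

namespace Cfsg.Agent.Lib.Helper5.SpU

open Matrix Cfsg.Agent.Lib.Helper5.UnipCent Cfsg.Agent.Lib.Helper5.GUC

variable {K : Type*} [Field K] [Fintype K] {t : ℕ} (d : Fin t → ℕ) (hd : ∀ k, 1 ≤ d k)

/-- the induced forms. -/
def PhiForm (M : InvForms K d) (i : Fin (Finset.univ.sup d + 1)) :
    Forms K ((-1 : K) ^ i.1) {k // d k = i.1} :=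
  ⟨Bmat d hd M.1 i.1, Bmat_transpose d hd M.1 M.2.1 (key_identityT d M.1 M.2.2.2) i.1,
    (det_Bmat_ne_zeroT d hd M.1 M.2.1 (key_identityT d M.1 M.2.2.2) M.2.2.1.ne_zero i.1).isUnit⟩

theorem PhiForm_val (M : InvForms K d) (i : Fin (Finset.univ.sup d + 1)) :
    (PhiForm d hd M i).1 = Bmat d hd M.1 i.1 := rfl

/-- the orbit map. -/
def orbitMap : Quotient (invSetoid K d) →
    ∀ i : Fin (Finset.univ.sup d + 1), Quotient (formSetoid ((-1 : K) ^ i.1) {k // d k = i.1}) :=
  Quotient.lift (fun M i => Quotient.mk _ (PhiForm d hd M i)) (by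
    rintro M M' ⟨X, hXu, hXN, hXM⟩
    funext i
    apply Quotient.sound
    set Xc : CenAlg K d := ⟨X, (mem_CenAlg d).2 hXN⟩ with hXc
    have hMW : M.1 * M.1⁻¹ = 1 := Matrix.mul_nonsing_inv _ M.2.2.1
    refine ⟨piHom d hd Xc i, ((isUnit_det_iff_piHom d hd Xc).1 hXu) i, ?_⟩
    show (piHom d hd Xc i)ᵀ * Bmat d hd M.1 i.1 * piHom d hd Xc i = Bmat d hd M'.1 i.1
    rw [← Bmat_congr d hd M.1 M.1⁻¹ hMW M.2.1 M.2.2.2 Xc i]
    show Bmat d hd (Xᵀ * M.1 * X) i.1 = Bmat d hd M'.1 i.1
    rw [hXM])

theorem orbitMap_mk (M : InvForms K d) (i : Fin (Finset.univ.sup d + 1)) :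
    orbitMap d hd (Quotient.mk _ M) i = Quotient.mk _ (PhiForm d hd M i) := rfl

theorem orbitMap_injective (h2 : (2 : K) ≠ 0) : Function.Injective (orbitMap (K := K) d hd) := by
  intro a b hab
  induction a using Quotient.inductionOn with
  | _ M =>
    induction b using Quotient.inductionOn with
    | _ M' =>
      apply Quotient.sound
      apply congr_of_Bmat_congr d hd h2
      intro i
      have h1 := congrFun hab i
      rw [orbitMap_mk, orbitMap_mk] at h1
      exact Quotient.exact h1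

theorem orbitMap_surjective (h2 : (2 : K) ≠ 0) (M₀ : InvForms K d) :
    Function.Surjective (orbitMap (K := K) d hd) := by
  intro f
  obtain ⟨M', hM'⟩ := exists_twist d hd h2 M₀ (fun i => (f i).out)
  refine ⟨Quotient.mk _ M', ?_⟩
  funext i
  rw [orbitMap_mk]
  have : PhiForm d hd M' i = (f i).out := Subtype.ext (hM' i)
  rw [this, Quotient.out_eq]

include hd in
theorem card_orbits_eq_prod (h2 : (2 : K) ≠ 0) (M₀ : InvForms K d) :
    Nat.card (Quotient (invSetoid K d)) =
      ∏ i : Fin (Finset.univ.sup d + 1),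
        Nat.card (Quotient (formSetoid ((-1 : K) ^ i.1) {k // d k = i.1})) := by
  rw [Nat.card_congr (Equiv.ofBijective (orbitMap (K := K) d hd)
    ⟨orbitMap_injective d hd h2, orbitMap_surjective d hd h2 M₀⟩), Nat.card_pi]

/-- an invertible skew matrix has even size. -/
theorem even_card_of_skew (h2 : (2 : K) ≠ 0) {ι : Type*} [Fintype ι] [DecidableEq ι]
    (B : Matrix ι ι K) (hB : Bᵀ = -B) (hu : IsUnit B.det) : Even (Fintype.card ι) := by
  by_contra hodd
  rw [Nat.not_even_iff_odd] at hodd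
  have h1 : B.det = -B.det := by
    have := congrArg Matrix.det hB
    rw [Matrix.det_transpose, Matrix.det_neg, hodd.neg_one_pow, neg_one_mul] at this
    exact this
  have h3 : (2 : K) * B.det = 0 := by
    rw [two_mul]
    nth_rewrite 1 [h1]
    exact neg_add_cancel _
  rcases mul_eq_zero.1 h3 with h | h
  · exact h2 h
  · exact hu.ne_zero h

include hd in
theorem even_mult_of_invForm (h2 : (2 : K) ≠ 0) (M : InvForms K d) (j : ℕ) (hj : Odd j) :
    Even (Finset.univ.filter (fun k : Fin t => d k = j)).card := by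
  have hkey := key_identityT d M.1 M.2.2.2
  have h1 := Bmat_transpose d hd M.1 M.2.1 hkey j
  rw [hj.neg_one_pow, neg_smul, one_smul] at h1
  have h3 := even_card_of_skew h2 (Bmat d hd M.1 j) h1
    (det_Bmat_ne_zeroT d hd M.1 M.2.1 hkey M.2.2.1.ne_zero j).isUnit
  rwa [Fintype.card_subtype] at h3

theorem card_formSetoid_congr {ε ε' : K} (h : ε = ε') (ι : Type*) [Fintype ι] [DecidableEq ι] :
    Nat.card (Quotient (formSetoid ε ι)) = Nat.card (Quotient (formSetoid ε' ι)) := by
  subst h
  rfl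

include hd in
/-- the number of orbits, when an invariant form exists. -/
theorem card_orbits_of_nonempty (h2 : (2 : K) ≠ 0)
    (hF1 : ∀ (ι : Type) [Fintype ι] [DecidableEq ι],
      Nat.card (Quotient (formSetoid (1 : K) ι)) = if Fintype.card ι = 0 then 1 else 2)
    (hF2 : ∀ (ι : Type) [Fintype ι] [DecidableEq ι],
      Nat.card (Quotient (formSetoid (-1 : K) ι)) = if Even (Fintype.card ι) then 1 else 0)
    (M₀ : InvForms K d) :
    Nat.card (Quotient (invSetoid K d)) =
      2 ^ ((Finset.univ.image d).filter (fun j : ℕ => Even j)).card := by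
  classical
  rw [card_orbits_eq_prod d hd h2 M₀]
  have hfac : ∀ i : Fin (Finset.univ.sup d + 1),
      Nat.card (Quotient (formSetoid ((-1 : K) ^ i.1) {k // d k = i.1})) =
        if (Even i.1 ∧ i.1 ∈ Finset.univ.image d) then 2 else 1 := by
    intro i
    have hcard : Fintype.card {k // d k = i.1} =
        (Finset.univ.filter (fun k : Fin t => d k = i.1)).card := Fintype.card_subtype _
    have hmem : i.1 ∈ Finset.univ.image d ↔ Fintype.card {k // d k = i.1} ≠ 0 := by
      rw [hcard, Finset.mem_image, Ne, Finset.card_eq_zero, ← Ne, ← Finset.nonempty_iff_ne_empty]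
      constructor
      · rintro ⟨k, _, hk⟩
        exact ⟨k, Finset.mem_filter.2 ⟨Finset.mem_univ _, hk⟩⟩
      · rintro ⟨k, hk⟩
        exact ⟨k, Finset.mem_univ _, (Finset.mem_filter.1 hk).2⟩
    rcases Nat.even_or_odd i.1 with he | ho
    · rw [card_formSetoid_congr (he.neg_one_pow) _, hF1]
      by_cases h0 : Fintype.card {k // d k = i.1} = 0
      · rw [if_pos h0, if_neg]
        rintro ⟨-, h⟩
        exact (hmem.1 h) h0
      · rw [if_neg h0, if_pos ⟨he, hmem.2 h0⟩]
    · rw [card_formSetoid_congr (ho.neg_one_pow) _, hF2, hcard,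
        if_pos (even_mult_of_invForm d hd h2 M₀ i.1 ho), if_neg]
      rintro ⟨he, -⟩
      exact (Nat.not_even_iff_odd.2 ho) he
  rw [Finset.prod_congr rfl (fun i _ => hfac i), Finset.prod_ite, Finset.prod_const,
    Finset.prod_const_one, mul_one]
  congr 1
  -- compare the two index sets
  refine Finset.card_bij (fun i _ => i.1) ?_ ?_ ?_
  · intro i hi
    rw [Finset.mem_filter] at hi ⊢
    exact ⟨hi.2.2, hi.2.1⟩
  · intro i _ j _ hij
    exact Fin.ext hij
  · intro j hj
    rw [Finset.mem_filter] at hj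
    obtain ⟨k, _, hk⟩ := Finset.mem_image.1 hj.1
    have hlt : j < Finset.univ.sup d + 1 := by
      have := Finset.le_sup (f := d) (Finset.mem_univ k)
      omega
    exact ⟨⟨j, hlt⟩, Finset.mem_filter.2 ⟨Finset.mem_univ _, hj.2, hj.1⟩, rfl⟩

end Cfsg.Agent.Lib.Helper5.SpU
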