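import Mathlib
import Cfsg.Prelude.Def_JordanBlocks
import Cfsg.Agent.Lib.Helper5.SpU0

set_option autoImplicit false

/-!
Transport for S2676, part 1: a general counting lemma for quotients related by a relation, and the
coordinate change from Jordan coordinates to an arbitrary index type.
-/

namespace Cfsg.Agent.Lib.Helper5.SpU

open Matrix Cfsg.Agent.Lib.Helper5.UnipCent

/-- counting classes via a relation compatible with two equivalence relations. -/
theorem card_quotient_eq_of_rel {A B : Type*} (sA : Setoid A) (sB : Setoid B) (P : B → Prop)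
    (R : A → B → Prop) (htot : ∀ a, ∃ b, R a b) (hP : ∀ a b, R a b → P b)
    (hiff : ∀ a a' b b', R a b → R a' b' → (sA.r a a' ↔ sB.r b b'))
    (hsurj : ∀ b, P b → ∃ a, R a b) :
    Nat.card (Quotient sA) = Nat.card {C : Quotient sB // ∃ b, Quotient.mk sB b = C ∧ P b} := by
  choose f hf using htot
  let φ : Quotient sA → {C : Quotient sB // ∃ b, Quotient.mk sB b = C ∧ P b} :=
    Quotient.lift (fun a => ⟨Quotient.mk sB (f a), f a, rfl, hP a _ (hf a)⟩)
      (fun a a' h => Subtype.ext (Quotient.sound ((hiff a a' _ _ (hf a) (hf a')).1 h)))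
  refine Nat.card_congr (Equiv.ofBijective φ ⟨?_, ?_⟩)
  · intro x y hxy
    induction x using Quotient.inductionOn with
    | _ a =>
      induction y using Quotient.inductionOn with
      | _ a' =>
        apply Quotient.sound
        have h1 : Quotient.mk sB (f a) = Quotient.mk sB (f a') := congrArg Subtype.val hxy
        exact (hiff a a' _ _ (hf a) (hf a')).2 (Quotient.exact h1)
  · rintro ⟨C, b, rfl, hb⟩
    obtain ⟨a, hab⟩ := hsurj b hb
    refine ⟨Quotient.mk sA a, Subtype.ext ?_⟩
    show Quotient.mk sB (f a) = Quotient.mk sB b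
    exact Quotient.sound ((hiff a a _ _ (hf a) hab).1 (sA.iseqv.refl a))

variable {F : Type*} [Field F]

/-- nondegenerate skew forms invariant under a matrix `Jm`. -/
def InvFormsG {ι : Type*} [Fintype ι] [DecidableEq ι] (Jm : Matrix ι ι F) : Type _ :=
  {M : Matrix ι ι F // Mᵀ = -M ∧ IsUnit M.det ∧ Jmᵀ * M * Jm = M}

/-- congruence under the centraliser of `Jm`. -/
def invSetoidG {ι : Type*} [Fintype ι] [DecidableEq ι] (Jm : Matrix ι ι F) :
    Setoid (InvFormsG Jm) where
  r M M' := ∃ X : Matrix ι ι F, IsUnit X.det ∧ X * Jm = Jm * X ∧ Xᵀ * M.1 * X = M'.1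
  iseqv := by
    refine ⟨fun M => ?_, fun {M M'} h => ?_, fun {M M' M''} h h' => ?_⟩
    · exact ⟨1, by rw [Matrix.det_one]; exact isUnit_one, by rw [one_mul, mul_one],
        by rw [Matrix.transpose_one, one_mul, mul_one]⟩
    · obtain ⟨X, hX, hXN, hXM⟩ := h
      have h1 : X * X⁻¹ = 1 := Matrix.mul_nonsing_inv X hX
      have h1' : X⁻¹ * X = 1 := Matrix.nonsing_inv_mul X hX
      have h2 : (X⁻¹)ᵀ * Xᵀ = 1 := by rw [← Matrix.transpose_mul, h1, Matrix.transpose_one]
      refine ⟨X⁻¹, Matrix.isUnit_nonsing_inv_det X hX, ?_, ?_⟩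
      · calc X⁻¹ * Jm = X⁻¹ * Jm * (X * X⁻¹) := by rw [h1, mul_one]
          _ = X⁻¹ * (Jm * X) * X⁻¹ := by simp only [mul_assoc]
          _ = (X⁻¹ * X) * Jm * X⁻¹ := by rw [← hXN]; simp only [mul_assoc]
          _ = Jm * X⁻¹ := by rw [h1', one_mul]
      · rw [← hXM]
        calc (X⁻¹)ᵀ * (Xᵀ * M.1 * X) * X⁻¹ = ((X⁻¹)ᵀ * Xᵀ) * M.1 * (X * X⁻¹) := by
              simp only [mul_assoc]
          _ = M.1 := by rw [h1, h2, one_mul, mul_one]
    · obtain ⟨X, hX, hXN, hXM⟩ := h
      obtain ⟨X', hX', hXN', hXM'⟩ := h'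
      refine ⟨X * X', ?_, ?_, ?_⟩
      · rw [Matrix.det_mul]
        exact hX.mul hX'
      · rw [mul_assoc, hXN', ← mul_assoc, hXN, mul_assoc]
      · rw [← hXM', ← hXM, Matrix.transpose_mul]
        simp only [mul_assoc]

theorem comm_one_add_iff {ι : Type*} [Fintype ι] [DecidableEq ι] (X N : Matrix ι ι F) :
    X * (1 + N) = (1 + N) * X ↔ X * N = N * X := by
  rw [mul_add, add_mul, mul_one, one_mul]
  exact add_left_cancel_iff

/-- Jordan coordinates versus general coordinates, no reindexing. -/
theorem card_quotient_invSetoid_eq_G {t : ℕ} (d : Fin t → ℕ) :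
    Nat.card (Quotient (invSetoid F d)) =
      Nat.card (Quotient (invSetoidG (1 + Nmat (F := F) d))) := by
  refine Nat.card_congr (Quotient.congr (Equiv.refl _) ?_)
  intro M M'
  constructor
  · rintro ⟨X, hXu, hXN, hXM⟩
    exact ⟨X, hXu, (comm_one_add_iff X _).2 hXN, hXM⟩
  · rintro ⟨X, hXu, hXN, hXM⟩
    exact ⟨X, hXu, (comm_one_add_iff X _).1 hXN, hXM⟩

theorem reindex_mul' {ι κ : Type*} [Fintype ι] [DecidableEq ι] [Fintype κ] [DecidableEq κ]
    (e : ι ≃ κ) (A B : Matrix ι ι F) :
    Matrix.reindex e e (A * B) = Matrix.reindex e e A * Matrix.reindex e e B := by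
  simp only [Matrix.reindex_apply, Matrix.submatrix_mul_equiv]

theorem reindex_transpose' {ι κ : Type*} (e : ι ≃ κ) (A : Matrix ι ι F) :
    (Matrix.reindex e e A)ᵀ = Matrix.reindex e e Aᵀ := rfl

theorem reindex_neg' {ι κ : Type*} (e : ι ≃ κ) (A : Matrix ι ι F) :
    Matrix.reindex e e (-A) = -Matrix.reindex e e A := rfl

/-- reindexing. -/
def reindexInvForms {ι κ : Type*} [Fintype ι] [DecidableEq ι] [Fintype κ] [DecidableEq κ]
    (e : ι ≃ κ) (Jm : Matrix ι ι F) : InvFormsG Jm ≃ InvFormsG (Matrix.reindex e e Jm) where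
  toFun M := ⟨Matrix.reindex e e M.1, by
    rw [reindex_transpose', M.2.1, reindex_neg'], by
    rw [Matrix.det_reindex_self]; exact M.2.2.1, by
    rw [reindex_transpose', ← reindex_mul', ← reindex_mul', M.2.2.2]⟩
  invFun M := ⟨(Matrix.reindex e e).symm M.1, by
    have h := M.2.1
    apply (Matrix.reindex e e).injective
    rw [← reindex_transpose', reindex_neg', Equiv.apply_symm_apply, h], by
    have h := M.2.2.1
    have : ((Matrix.reindex e e).symm M.1).det = M.1.det := by
      show (Matrix.reindex e.symm e.symm M.1).det = M.1.det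
      exact Matrix.det_reindex_self e.symm M.1
    rw [this]; exact h, by
    have h := M.2.2.2
    apply (Matrix.reindex e e).injective
    rw [reindex_mul', reindex_mul', ← reindex_transpose', Equiv.apply_symm_apply]
    exact h⟩
  left_inv M := Subtype.ext (Equiv.symm_apply_apply _ _)
  right_inv M := Subtype.ext (Equiv.apply_symm_apply _ _)

theorem card_quotient_reindex {ι κ : Type*} [Fintype ι] [DecidableEq ι] [Fintype κ]
    [DecidableEq κ] (e : ι ≃ κ) (Jm : Matrix ι ι F) :
    Nat.card (Quotient (invSetoidG Jm)) =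
      Nat.card (Quotient (invSetoidG (Matrix.reindex e e Jm))) := by
  refine Nat.card_congr (Quotient.congr (reindexInvForms e Jm) ?_)
  intro M M'
  constructor
  · rintro ⟨X, hXu, hXN, hXM⟩
    refine ⟨Matrix.reindex e e X, by rw [Matrix.det_reindex_self]; exact hXu, ?_, ?_⟩
    · rw [← reindex_mul', ← reindex_mul', hXN]
    · show (Matrix.reindex e e X)ᵀ * Matrix.reindex e e M.1 * Matrix.reindex e e X =
        Matrix.reindex e e M'.1
      rw [reindex_transpose', ← reindex_mul', ← reindex_mul', hXM]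
  · rintro ⟨X, hXu, hXN, hXM⟩
    have hXM' : Xᵀ * Matrix.reindex e e M.1 * X = Matrix.reindex e e M'.1 := hXM
    refine ⟨(Matrix.reindex e e).symm X, ?_, ?_, ?_⟩
    · have : ((Matrix.reindex e e).symm X).det = X.det := by
        show (Matrix.reindex e.symm e.symm X).det = X.det
        exact Matrix.det_reindex_self e.symm X
      rw [this]; exact hXu
    · apply (Matrix.reindex e e).injective
      rw [reindex_mul', reindex_mul', Equiv.apply_symm_apply]
      exact hXN
    · apply (Matrix.reindex e e).injective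
      rw [reindex_mul', reindex_mul', ← reindex_transpose', Equiv.apply_symm_apply]
      exact hXM'

/-- Jordan coordinates versus the coordinates of the symplectic group. -/
theorem card_quotient_invSetoid_eq {t : ℕ} (d : Fin t → ℕ) {κ : Type*} [Fintype κ]
    [DecidableEq κ] (e : Idx d ≃ κ) :
    Nat.card (Quotient (invSetoid F d)) =
      Nat.card (Quotient (invSetoidG (Matrix.reindex e e (Cfsg.jordanTypeMatrix d F)))) := by
  rw [card_quotient_invSetoid_eq_G, card_quotient_reindex e, jordanTypeMatrix_eq]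

end Cfsg.Agent.Lib.Helper5.SpU
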