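import Mathlib
import Cfsg.Agent.Lib.Helper5.SpY1

set_option autoImplicit false

/-!
Transport for S2676, part 2: classes of the symplectic group inside a similarity class of
matrices correspond to congruence classes of invariant forms under the centraliser.
-/

namespace Cfsg.Agent.Lib.Helper5.SpU

open Matrix

variable {F : Type*} [Field F] {m : ℕ}

/-- the relation between invariant forms and symplectic matrices. -/
def RelY (Jm : Matrix (Fin m ⊕ Fin m) (Fin m ⊕ Fin m) F) (M : InvFormsG Jm)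
    (u : Matrix.symplecticGroup (Fin m) F) : Prop :=
  ∃ c : Matrix (Fin m ⊕ Fin m) (Fin m ⊕ Fin m) F, IsUnit c.det ∧
    cᵀ * Matrix.J (Fin m) F * c = M.1 ∧ u.1 * c = c * Jm

theorem relY_total (Jm : Matrix (Fin m ⊕ Fin m) (Fin m ⊕ Fin m) F)
    (hkf : ∀ M₀ : Matrix (Fin m ⊕ Fin m) (Fin m ⊕ Fin m) F, M₀ᵀ = -M₀ → IsUnit M₀.det →
      ∃ c : Matrix (Fin m ⊕ Fin m) (Fin m ⊕ Fin m) F, IsUnit c.det ∧
        cᵀ * Matrix.J (Fin m) F * c = M₀) (M : InvFormsG Jm) :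
    ∃ u : Matrix.symplecticGroup (Fin m) F, RelY Jm M u := by
  obtain ⟨c, hcu, hc⟩ := hkf M.1 M.2.1 M.2.2.1
  have h1 : c * c⁻¹ = 1 := Matrix.mul_nonsing_inv c hcu
  have h2 : c⁻¹ * c = 1 := Matrix.nonsing_inv_mul c hcu
  have h3 : (c⁻¹)ᵀ * cᵀ = 1 := by rw [← Matrix.transpose_mul, h1, Matrix.transpose_one]
  have hmem : c * Jm * c⁻¹ ∈ Matrix.symplecticGroup (Fin m) F := by
    rw [SymplecticGroup.mem_iff']
    rw [Matrix.transpose_mul, Matrix.transpose_mul]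
    calc (c⁻¹)ᵀ * (Jmᵀ * cᵀ) * Matrix.J (Fin m) F * (c * Jm * c⁻¹)
        = (c⁻¹)ᵀ * (Jmᵀ * (cᵀ * Matrix.J (Fin m) F * c) * Jm) * c⁻¹ := by simp only [mul_assoc]
      _ = (c⁻¹)ᵀ * (cᵀ * Matrix.J (Fin m) F * c) * c⁻¹ := by rw [hc, M.2.2.2]
      _ = ((c⁻¹)ᵀ * cᵀ) * Matrix.J (Fin m) F * (c * c⁻¹) := by simp only [mul_assoc]
      _ = Matrix.J (Fin m) F := by rw [h3, h1, one_mul, mul_one]
  refine ⟨⟨c * Jm * c⁻¹, hmem⟩, c, hcu, hc, ?_⟩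
  show c * Jm * c⁻¹ * c = c * Jm
  rw [mul_assoc, h2, mul_one]

theorem relY_isConj (Jm : Matrix (Fin m ⊕ Fin m) (Fin m ⊕ Fin m) F) (M : InvFormsG Jm)
    (u : Matrix.symplecticGroup (Fin m) F) (h : RelY Jm M u) :
    IsConj Jm (u : Matrix (Fin m ⊕ Fin m) (Fin m ⊕ Fin m) F) := by
  obtain ⟨c, hcu, -, hc⟩ := h
  obtain ⟨cu, hcu2⟩ := (Matrix.isUnit_iff_isUnit_det c).2 hcu
  show ∃ cu' : (Matrix (Fin m ⊕ Fin m) (Fin m ⊕ Fin m) F)ˣ,
    SemiconjBy (cu' : Matrix (Fin m ⊕ Fin m) (Fin m ⊕ Fin m) F) Jm u.1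
  refine ⟨cu, ?_⟩
  show (cu : Matrix (Fin m ⊕ Fin m) (Fin m ⊕ Fin m) F) * Jm = u.1 * cu
  rw [hcu2]
  exact hc.symm

theorem relY_surj (Jm : Matrix (Fin m ⊕ Fin m) (Fin m ⊕ Fin m) F)
    (u : Matrix.symplecticGroup (Fin m) F)
    (h : IsConj Jm (u : Matrix (Fin m ⊕ Fin m) (Fin m ⊕ Fin m) F)) :
    ∃ M : InvFormsG Jm, RelY Jm M u := by
  obtain ⟨cu, hcu⟩ := h
  have hcu' : cu.val * Jm = u.1 * cu.val := hcu
  set c : Matrix (Fin m ⊕ Fin m) (Fin m ⊕ Fin m) F := cu.val with hc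
  have hcdet : IsUnit c.det := (Matrix.isUnit_iff_isUnit_det c).1 cu.isUnit
  have hu := (SymplecticGroup.mem_iff').1 u.2
  refine ⟨⟨cᵀ * Matrix.J (Fin m) F * c, ?_, ?_, ?_⟩, c, hcdet, rfl, hcu'.symm⟩
  · rw [Matrix.transpose_mul, Matrix.transpose_mul, Matrix.transpose_transpose,
      Matrix.J_transpose]
    simp only [mul_neg, neg_mul, mul_assoc]
  · rw [Matrix.det_mul, Matrix.det_mul, Matrix.det_transpose]
    exact (hcdet.mul (Matrix.isUnit_det_J (Fin m) F)).mul hcdet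
  · calc Jmᵀ * (cᵀ * Matrix.J (Fin m) F * c) * Jm
        = (c * Jm)ᵀ * Matrix.J (Fin m) F * (c * Jm) := by
          rw [Matrix.transpose_mul]; simp only [mul_assoc]
      _ = (u.1 * c)ᵀ * Matrix.J (Fin m) F * (u.1 * c) := by rw [hcu']
      _ = cᵀ * (u.1ᵀ * Matrix.J (Fin m) F * u.1) * c := by
          rw [Matrix.transpose_mul]; simp only [mul_assoc]
      _ = cᵀ * Matrix.J (Fin m) F * c := by rw [hu]

theorem relY_iff (Jm : Matrix (Fin m ⊕ Fin m) (Fin m ⊕ Fin m) F) (M M' : InvFormsG Jm)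
    (u u' : Matrix.symplecticGroup (Fin m) F) (h : RelY Jm M u) (h' : RelY Jm M' u') :
    (invSetoidG Jm).r M M' ↔ IsConj u u' := by
  obtain ⟨c, hcu, hc, hcJ⟩ := h
  obtain ⟨c', hcu', hc', hcJ'⟩ := h'
  have h1 : c * c⁻¹ = 1 := Matrix.mul_nonsing_inv c hcu
  have h2 : c⁻¹ * c = 1 := Matrix.nonsing_inv_mul c hcu
  have h1' : c' * c'⁻¹ = 1 := Matrix.mul_nonsing_inv c' hcu'
  have h2' : c'⁻¹ * c' = 1 := Matrix.nonsing_inv_mul c' hcu'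
  -- `c⁻¹ * u = Jm * c⁻¹`
  have hcu1 : c⁻¹ * u.1 = Jm * c⁻¹ := by
    calc c⁻¹ * u.1 = c⁻¹ * (u.1 * c) * c⁻¹ := by rw [mul_assoc, mul_assoc, h1, mul_one]
      _ = (c⁻¹ * c) * Jm * c⁻¹ := by rw [hcJ]; simp only [mul_assoc]
      _ = Jm * c⁻¹ := by rw [h2, one_mul]
  have hcu1' : c'⁻¹ * u'.1 = Jm * c'⁻¹ := by
    calc c'⁻¹ * u'.1 = c'⁻¹ * (u'.1 * c') * c'⁻¹ := by rw [mul_assoc, mul_assoc, h1', mul_one]
      _ = (c'⁻¹ * c') * Jm * c'⁻¹ := by rw [hcJ']; simp only [mul_assoc]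
      _ = Jm * c'⁻¹ := by rw [h2', one_mul]
  constructor
  · rintro ⟨X, hXu, hXJ, hXM⟩
    have hX1 : X * X⁻¹ = 1 := Matrix.mul_nonsing_inv X hXu
    have hX2 : X⁻¹ * X = 1 := Matrix.nonsing_inv_mul X hXu
    have hXiJ : X⁻¹ * Jm = Jm * X⁻¹ := by
      calc X⁻¹ * Jm = X⁻¹ * Jm * (X * X⁻¹) := by rw [hX1, mul_one]
        _ = X⁻¹ * (Jm * X) * X⁻¹ := by simp only [mul_assoc]
        _ = (X⁻¹ * X) * Jm * X⁻¹ := by rw [← hXJ]; simp only [mul_assoc]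
        _ = Jm * X⁻¹ := by rw [hX2, one_mul]
    -- `s = c' * X⁻¹ * c⁻¹`
    set s : Matrix (Fin m ⊕ Fin m) (Fin m ⊕ Fin m) F := c' * X⁻¹ * c⁻¹ with hs
    have hXi : (X⁻¹)ᵀ * Xᵀ = 1 := by rw [← Matrix.transpose_mul, hX1, Matrix.transpose_one]
    have hci : (c⁻¹)ᵀ * cᵀ = 1 := by rw [← Matrix.transpose_mul, h1, Matrix.transpose_one]
    have hsmem : s ∈ Matrix.symplecticGroup (Fin m) F := by
      rw [SymplecticGroup.mem_iff', hs, Matrix.transpose_mul, Matrix.transpose_mul]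
      calc (c⁻¹)ᵀ * ((X⁻¹)ᵀ * c'ᵀ) * Matrix.J (Fin m) F * (c' * X⁻¹ * c⁻¹)
          = (c⁻¹)ᵀ * ((X⁻¹)ᵀ * (c'ᵀ * Matrix.J (Fin m) F * c') * X⁻¹) * c⁻¹ := by
            simp only [mul_assoc]
        _ = (c⁻¹)ᵀ * ((X⁻¹)ᵀ * (Xᵀ * (cᵀ * Matrix.J (Fin m) F * c) * X) * X⁻¹) * c⁻¹ := by
            rw [hc', ← hXM, hc]
        _ = (c⁻¹)ᵀ * (((X⁻¹)ᵀ * Xᵀ) * (cᵀ * Matrix.J (Fin m) F * c) * (X * X⁻¹)) * c⁻¹ := by
            simp only [mul_assoc]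
        _ = ((c⁻¹)ᵀ * cᵀ) * Matrix.J (Fin m) F * (c * c⁻¹) := by
            rw [hXi, hX1, one_mul, mul_one]; simp only [mul_assoc]
        _ = Matrix.J (Fin m) F := by rw [hci, h1, one_mul, mul_one]
    have hsu : s * u.1 = u'.1 * s := by
      calc s * u.1 = c' * X⁻¹ * (c⁻¹ * u.1) := by rw [hs]; simp only [mul_assoc]
        _ = c' * (X⁻¹ * Jm) * c⁻¹ := by rw [hcu1]; simp only [mul_assoc]
        _ = (c' * Jm) * X⁻¹ * c⁻¹ := by rw [hXiJ]; simp only [mul_assoc]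
        _ = u'.1 * s := by rw [← hcJ', hs]; simp only [mul_assoc]
    rw [isConj_iff]
    refine ⟨⟨s, hsmem⟩, ?_⟩
    rw [mul_inv_eq_iff_eq_mul]
    exact Subtype.ext hsu
  · intro hconj
    obtain ⟨s, hs⟩ := isConj_iff.1 hconj
    rw [mul_inv_eq_iff_eq_mul] at hs
    have hsu : s.1 * u.1 = u'.1 * s.1 := congrArg Subtype.val hs
    have hsmem := (SymplecticGroup.mem_iff').1 s.2
    have hsdet : IsUnit s.1.det := SymplecticGroup.symplectic_det s.2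
    -- `X = c⁻¹ * s⁻¹ * c'`, equivalently we show `M' ~ M` via `X₀ = c'⁻¹ * s * c` and use symmetry
    apply (invSetoidG Jm).iseqv.symm
    refine ⟨c'⁻¹ * s.1 * c, ?_, ?_, ?_⟩
    · rw [Matrix.det_mul, Matrix.det_mul]
      exact ((Matrix.isUnit_nonsing_inv_det c' hcu').mul hsdet).mul hcu
    · calc c'⁻¹ * s.1 * c * Jm = c'⁻¹ * s.1 * (c * Jm) := by simp only [mul_assoc]
        _ = c'⁻¹ * (s.1 * u.1) * c := by rw [← hcJ]; simp only [mul_assoc]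
        _ = (c'⁻¹ * u'.1) * s.1 * c := by rw [hsu]; simp only [mul_assoc]
        _ = Jm * (c'⁻¹ * s.1 * c) := by rw [hcu1']; simp only [mul_assoc]
    · have hci' : (c'⁻¹)ᵀ * c'ᵀ = 1 := by
        rw [← Matrix.transpose_mul, h1', Matrix.transpose_one]
      rw [← hc', ← hc, Matrix.transpose_mul, Matrix.transpose_mul]
      calc cᵀ * (s.1ᵀ * (c'⁻¹)ᵀ) * (c'ᵀ * Matrix.J (Fin m) F * c') * (c'⁻¹ * s.1 * c)
          = cᵀ * (s.1ᵀ * (((c'⁻¹)ᵀ * c'ᵀ) * Matrix.J (Fin m) F * (c' * c'⁻¹)) * s.1) * c := by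
            simp only [mul_assoc]
        _ = cᵀ * (s.1ᵀ * Matrix.J (Fin m) F * s.1) * c := by
            rw [hci', h1', one_mul, mul_one]
        _ = cᵀ * Matrix.J (Fin m) F * c := by rw [hsmem]

/-- classes of the symplectic group in a similarity class versus orbits of invariant forms. -/
theorem card_invSetoidG_eq_classes (Jm : Matrix (Fin m ⊕ Fin m) (Fin m ⊕ Fin m) F)
    (hkf : ∀ M₀ : Matrix (Fin m ⊕ Fin m) (Fin m ⊕ Fin m) F, M₀ᵀ = -M₀ → IsUnit M₀.det →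
      ∃ c : Matrix (Fin m ⊕ Fin m) (Fin m ⊕ Fin m) F, IsUnit c.det ∧
        cᵀ * Matrix.J (Fin m) F * c = M₀) :
    Nat.card (Quotient (invSetoidG Jm)) =
      Nat.card {C : ConjClasses ↥(Matrix.symplecticGroup (Fin m) F) //
        ∃ g : Matrix.symplecticGroup (Fin m) F, ConjClasses.mk g = C ∧
          IsConj Jm (g : Matrix (Fin m ⊕ Fin m) (Fin m ⊕ Fin m) F)} := by
  exact card_quotient_eq_of_rel (invSetoidG Jm)
    (IsConj.setoid ↥(Matrix.symplecticGroup (Fin m) F))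
    (fun u => IsConj Jm (u : Matrix (Fin m ⊕ Fin m) (Fin m ⊕ Fin m) F)) (RelY Jm)
    (relY_total Jm hkf) (relY_isConj Jm) (fun M M' u u' h h' => relY_iff Jm M M' u u' h h')
    (relY_surj Jm)

end Cfsg.Agent.Lib.Helper5.SpU
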