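import Mathlib
import Cfsg.Agent.Lib.Helper5.AltForm

set_option autoImplicit false

namespace Cfsg.Agent.Lib.Helper5.UnipForm

open Module LinearMap

variable {F : Type*} [Field F] {V : Type*} [AddCommGroup V] [Module F V]

section dims
variable [FiniteDimensional F V]

/-- rank-nullity on a subspace -/
theorem finrank_map_add (M : V →ₗ[F] V) (S : Submodule F V) :
    finrank F (S.map M) + finrank F ↥(S ⊓ LinearMap.ker M) = finrank F S := by
  have h1 := LinearMap.finrank_range_add_finrank_ker (M.domRestrict S)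
  rw [LinearMap.range_domRestrict] at h1
  have h2 : finrank F (LinearMap.ker (M.domRestrict S)) = finrank F ↥(S ⊓ LinearMap.ker M) := by
    rw [LinearMap.ker_domRestrict]
    have e : ((LinearMap.ker M).comap S.subtype).map S.subtype = S ⊓ LinearMap.ker M := by
      rw [Submodule.map_comap_subtype]
    rw [← e]
    exact (Submodule.finrank_map_subtype_eq S _).symm
  rw [h2] at h1
  exact h1

theorem ker_pow_le (N : Module.End F V) {a b : ℕ} (hab : a ≤ b) :
    LinearMap.ker (N ^ a) ≤ LinearMap.ker (N ^ b) := by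
  intro x hx
  rw [LinearMap.mem_ker] at hx ⊢
  obtain ⟨c, rfl⟩ := Nat.exists_eq_add_of_le hab
  rw [add_comm, pow_add, Module.End.mul_apply, hx, map_zero]

/-- the dimension of `N^i (ker N^(i+1))` -/
theorem finrank_map_pow_ker (N : Module.End F V) (i : ℕ) :
    finrank F ((LinearMap.ker (N ^ (i + 1))).map (N ^ i)) + finrank F (LinearMap.ker (N ^ i)) =
      finrank F (LinearMap.ker (N ^ (i + 1))) := by
  have h := finrank_map_add (N ^ i) (LinearMap.ker (N ^ (i + 1)))
  rw [inf_eq_right.2 (ker_pow_le N (Nat.le_succ i))] at h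
  exact h

/-- the subspace of `ker N^i` mapped by `N^(i-1)` into `range N^i` -/
theorem finrank_Z (N : Module.End F V) (j : ℕ) :
    finrank F ↥(LinearMap.ker (N ^ (j + 1)) ⊓ (LinearMap.range (N ^ (j + 1))).comap (N ^ j)) +
      finrank F (LinearMap.ker (N ^ (j + 1))) =
      finrank F (LinearMap.ker (N ^ j)) + finrank F (LinearMap.ker (N ^ (j + 2))) := by
  set Z := LinearMap.ker (N ^ (j + 1)) ⊓ (LinearMap.range (N ^ (j + 1))).comap (N ^ j) with hZ
  have h1 := finrank_map_add (N ^ j) Z
  have h2 : Z ⊓ LinearMap.ker (N ^ j) = LinearMap.ker (N ^ j) := by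
    apply inf_eq_right.2
    intro x hx
    refine ⟨ker_pow_le N (Nat.le_succ j) hx, ?_⟩
    show x ∈ (LinearMap.range (N ^ (j + 1))).comap (N ^ j)
    rw [Submodule.mem_comap, LinearMap.mem_ker.1 hx]
    exact Submodule.zero_mem _
  have h3 : Z.map (N ^ j) = (LinearMap.ker (N ^ (j + 2))).map (N ^ (j + 1)) := by
    ext w
    constructor
    · rintro ⟨x, ⟨hx1, hx2⟩, rfl⟩
      rw [SetLike.mem_coe, Submodule.mem_comap] at hx2
      obtain ⟨z, hz⟩ := hx2
      refine ⟨z, ?_, hz⟩
      rw [SetLike.mem_coe, LinearMap.mem_ker, pow_succ', Module.End.mul_apply, hz,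
        ← Module.End.mul_apply, ← pow_succ']
      exact LinearMap.mem_ker.1 hx1
    · rintro ⟨z, hz, rfl⟩
      rw [SetLike.mem_coe, LinearMap.mem_ker] at hz
      refine ⟨N z, ⟨?_, ?_⟩, ?_⟩
      · rw [SetLike.mem_coe, LinearMap.mem_ker, ← Module.End.mul_apply, ← pow_succ]
        exact hz
      · rw [SetLike.mem_coe, Submodule.mem_comap, ← Module.End.mul_apply, ← pow_succ]
        exact ⟨z, rfl⟩
      · rw [← Module.End.mul_apply, ← pow_succ]
  rw [h2, h3] at h1
  have h4 := finrank_map_pow_ker N (j + 1)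
  rw [show j + 1 + 1 = j + 2 from rfl] at h4
  omega

end dims

section form
variable (f : LinearMap.BilinForm F V) (u u' : Module.End F V)

theorem adj1 (h1 : u * u' = 1) (hu : ∀ x y, f (u x) (u y) = f x y) (x y : V) :
    f ((u - 1) x) y = f x ((u' - 1) y) := by
  have h3 : f (u x) y = f x (u' y) := by
    have : y = u (u' y) := by rw [← Module.End.mul_apply, h1, Module.End.one_apply]
    conv_lhs => rw [this]
    rw [hu]
  rw [LinearMap.sub_apply, LinearMap.sub_apply, Module.End.one_apply, Module.End.one_apply,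
    map_sub, map_sub, LinearMap.sub_apply, h3]

theorem adj2 (h1 : u * u' = 1) (hu : ∀ x y, f (u x) (u y) = f x y) (x y : V) :
    f ((u' - 1) x) y = f x ((u - 1) y) := by
  have h3 : f (u' x) y = f x (u y) := by
    rw [← hu (u' x) y, ← Module.End.mul_apply u u', h1, Module.End.one_apply]
  rw [LinearMap.sub_apply, LinearMap.sub_apply, Module.End.one_apply, Module.End.one_apply,
    map_sub, map_sub, LinearMap.sub_apply, h3]

theorem adj1_pow (h1 : u * u' = 1) (hu : ∀ x y, f (u x) (u y) = f x y) (k : ℕ) (x y : V) :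
    f (((u - 1) ^ k) x) y = f x (((u' - 1) ^ k) y) := by
  induction k generalizing x y with
  | zero => simp
  | succ k ih =>
    rw [pow_succ, Module.End.mul_apply, ih, adj1 f u u' h1 hu, ← Module.End.mul_apply, ← pow_succ']

theorem adj2_pow (h1 : u * u' = 1) (hu : ∀ x y, f (u x) (u y) = f x y) (k : ℕ) (x y : V) :
    f (((u' - 1) ^ k) x) y = f x (((u - 1) ^ k) y) := by
  induction k generalizing x y with
  | zero => simp
  | succ k ih =>
    rw [pow_succ, Module.End.mul_apply, ih, adj2 f u u' h1 hu, ← Module.End.mul_apply, ← pow_succ']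

omit f in
theorem fix_of_ker (h2 : u' * u = 1) (z : V) (hz : (u - 1) z = 0) : u' z = z := by
  rw [LinearMap.sub_apply, Module.End.one_apply, sub_eq_zero] at hz
  conv_lhs => rw [← hz]
  rw [← Module.End.mul_apply, h2, Module.End.one_apply]

omit f in
theorem inv_sub_one (h1 : u * u' = 1) (h2 : u' * u = 1) : u' - 1 = -(u' * (u - 1)) := by
  rw [mul_sub, h2, mul_one]
  abel

omit f in
theorem inv_sub_one_pow_apply (h1 : u * u' = 1) (h2 : u' * u = 1) (k : ℕ) (x : V)
    (hx : ((u - 1) ^ (k + 1)) x = 0) :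
    ((u' - 1) ^ k) x = (-1 : F) ^ k • ((u - 1) ^ k) x := by
  have hcomm : Commute u' (u - 1) := by
    show u' * (u - 1) = (u - 1) * u'
    rw [mul_sub, sub_mul, h1, h2, mul_one, one_mul]
  have hfix : ∀ j : ℕ, (u' ^ j) (((u - 1) ^ k) x) = ((u - 1) ^ k) x := by
    intro j
    induction j with
    | zero => simp
    | succ j ih =>
      rw [pow_succ, Module.End.mul_apply, fix_of_ker u u' h2 _ (by
        rw [← Module.End.mul_apply, ← pow_succ']; exact hx), ih]
  have hneg : ((-1 : Module.End F V) ^ k) = ((-1 : F) ^ k) • (1 : Module.End F V) := by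
    have : (-1 : Module.End F V) = (-1 : F) • (1 : Module.End F V) := by simp
    rw [this, smul_pow, one_pow]
  rw [inv_sub_one u u' h1 h2, neg_pow, hcomm.mul_pow, hneg, smul_mul_assoc, one_mul,
    LinearMap.smul_apply, Module.End.mul_apply, hfix]

/-- moving `N^j` across the form on `ker N^(j+1)` -/
theorem form_pow_right (h1 : u * u' = 1) (h2 : u' * u = 1) (hu : ∀ x y, f (u x) (u y) = f x y)
    (j : ℕ) (x y : V) (hx : ((u - 1) ^ (j + 1)) x = 0) :
    f x (((u - 1) ^ j) y) = (-1 : F) ^ j * f (((u - 1) ^ j) x) y := by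
  rw [← adj2_pow f u u' h1 hu, inv_sub_one_pow_apply u u' h1 h2 j x hx, map_smul,
    LinearMap.smul_apply, smul_eq_mul]

/-- alternating forms: the induced form on `ker N^(2k+1)` is alternating -/
theorem alt_of_alt (h1 : u * u' = 1) (h2 : u' * u = 1) (hu : ∀ x y, f (u x) (u y) = f x y)
    (hf : f.IsAlt) (k : ℕ) (x : V) (hx : ((u - 1) ^ (2 * k + 1)) x = 0) :
    f x (((u - 1) ^ (2 * k)) x) = 0 := by
  have h3 : f (((u - 1) ^ k) x) (((u - 1) ^ k) x) = 0 := hf _
  rw [adj1_pow f u u' h1 hu] at h3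
  have h4 : ((u - 1) ^ (k + 1)) (((u - 1) ^ k) x) = 0 := by
    rw [← Module.End.mul_apply, ← pow_add]
    rw [show k + 1 + k = 2 * k + 1 by ring]
    exact hx
  rw [inv_sub_one_pow_apply u u' h1 h2 k _ h4, ← Module.End.mul_apply, ← pow_add, ← two_mul,
    map_smul, smul_eq_mul] at h3
  rcases mul_eq_zero.1 h3 with h | h
  · exact absurd h (pow_ne_zero _ (neg_ne_zero.2 one_ne_zero))
  · exact h

/-- skew forms: the induced form on `ker N^(j+1)` is alternating when the sign is right and
`2 ≠ 0` -/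
theorem alt_of_sign (h1 : u * u' = 1) (h2 : u' * u = 1) (hu : ∀ x y, f (u x) (u y) = f x y)
    (ε : F) (hε : ∀ x y, f y x = ε * f x y) (h2F : (2 : F) ≠ 0) (j : ℕ)
    (hs : ε * (-1) ^ j = -1) (x : V) (hx : ((u - 1) ^ (j + 1)) x = 0) :
    f x (((u - 1) ^ j) x) = 0 := by
  have h3 := form_pow_right f u u' h1 h2 hu j x x hx
  rw [hε x (((u - 1) ^ j) x), ← mul_assoc, mul_comm _ ε, hs] at h3
  have h4 : (2 : F) * f x (((u - 1) ^ j) x) = 0 := by
    rw [two_mul]
    nth_rewrite 1 [h3]
    ring
  rcases mul_eq_zero.1 h4 with h | h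
  · exact absurd h h2F
  · exact h

variable [FiniteDimensional F V]

/-- parity of the multiplicity of blocks of size `j + 1` -/
theorem parity (hnd : f.Nondegenerate) (hrefl : f.IsRefl) (h1 : u * u' = 1) (h2 : u' * u = 1)
    (hu : ∀ x y, f (u x) (u y) = f x y) (j : ℕ)
    (halt : ∀ x, ((u - 1) ^ (j + 1)) x = 0 → f x (((u - 1) ^ j) x) = 0) :
    ∃ r : ℕ, 2 * finrank F (LinearMap.ker ((u - 1) ^ (j + 1))) =
      finrank F (LinearMap.ker ((u - 1) ^ j)) + finrank F (LinearMap.ker ((u - 1) ^ (j + 2))) +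
        2 * r := by
  set N : Module.End F V := u - 1 with hN
  set X := LinearMap.ker (N ^ (j + 1)) with hX
  set B : LinearMap.BilinForm F X := (f.compRight (N ^ j)).restrict X with hB
  have hBalt : B.IsAlt := by
    intro x
    show f x.1 ((N ^ j) x.1) = 0
    exact halt x.1 (LinearMap.mem_ker.1 x.2)
  have heven := Cfsg.Agent.Lib.Helper5.AltForm.even_finrank_sub_ker hBalt
  -- the left perp of `X` is the range of `N^(j+1)`
  have hperp : f.orthogonal X = LinearMap.range (N ^ (j + 1)) := by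
    symm
    apply Submodule.eq_of_le_of_finrank_eq
    · rintro _ ⟨w, rfl⟩
      rw [LinearMap.BilinForm.mem_orthogonal_iff]
      intro y hy
      show f y ((N ^ (j + 1)) w) = 0
      rw [← adj2_pow f u u' h1 hu]
      have : ((u' - 1) ^ (j + 1)) y = 0 := by
        have hcomm : Commute u' (u - 1) := by
          show u' * (u - 1) = (u - 1) * u'
          rw [mul_sub, sub_mul, h1, h2, mul_one, one_mul]
        rw [inv_sub_one u u' h1 h2, neg_pow, hcomm.mul_pow, Module.End.mul_apply,
          Module.End.mul_apply, LinearMap.mem_ker.1 hy, map_zero, map_zero]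
      rw [this, map_zero, LinearMap.zero_apply]
    · rw [LinearMap.BilinForm.finrank_orthogonal hnd, hX]
      have := LinearMap.finrank_range_add_finrank_ker (N ^ (j + 1))
      omega
  -- the kernel of `B`
  have hker : (LinearMap.ker B).map X.subtype =
      X ⊓ (LinearMap.range (N ^ (j + 1))).comap (N ^ j) := by
    ext x
    constructor
    · rintro ⟨⟨x, hxX⟩, hx, rfl⟩
      refine ⟨hxX, ?_⟩
      show (N ^ j) x ∈ LinearMap.range (N ^ (j + 1))
      rw [← hperp, LinearMap.BilinForm.mem_orthogonal_iff]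
      intro y hy
      show f y ((N ^ j) x) = 0
      apply hrefl
      have h3 := form_pow_right f u u' h1 h2 hu j x y (LinearMap.mem_ker.1 hxX)
      have h4 : f x ((N ^ j) y) = 0 := by
        have := LinearMap.congr_fun (LinearMap.mem_ker.1 hx) ⟨y, hy⟩
        exact this
      rw [h4] at h3
      rcases mul_eq_zero.1 h3.symm with h | h
      · exact absurd h (pow_ne_zero _ (neg_ne_zero.2 one_ne_zero))
      · exact h
    · rintro ⟨hxX, hx⟩
      refine ⟨⟨x, hxX⟩, ?_, rfl⟩
      rw [SetLike.mem_coe, LinearMap.mem_ker]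
      apply LinearMap.ext
      rintro ⟨y, hy⟩
      show f x ((N ^ j) y) = 0
      rw [form_pow_right f u u' h1 h2 hu j x y (LinearMap.mem_ker.1 hxX)]
      have h5 : (N ^ j) x ∈ f.orthogonal X := by rw [hperp]; exact hx
      rw [LinearMap.BilinForm.mem_orthogonal_iff] at h5
      have h6 : f ((N ^ j) x) y = 0 := hrefl _ _ (h5 y hy)
      rw [h6, mul_zero]
  have hfr : finrank F (LinearMap.ker B) =
      finrank F ↥(X ⊓ (LinearMap.range (N ^ (j + 1))).comap (N ^ j)) := by
    rw [← hker]
    exact (Submodule.finrank_map_subtype_eq X _).symm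
  have hZ := finrank_Z N j
  have hle : finrank F (LinearMap.ker B) ≤ finrank F X := Submodule.finrank_le _
  obtain ⟨r, hr⟩ := heven
  refine ⟨r, ?_⟩
  rw [hfr] at hr hle
  rw [hX] at hr hle
  rw [hX]
  omega

end form

end Cfsg.Agent.Lib.Helper5.UnipForm
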