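import Mathlib
import Cfsg.Prelude.Def_JordanBlocks
import Cfsg.Agent.Lib.Helper5.JordanType
import Cfsg.Agent.Lib.Helper5.RegUnip4

set_option autoImplicit false

namespace Cfsg.Agent.Lib.Helper5.UnipForm

open Module LinearMap Matrix

variable {F : Type*} [Field F]

/-- the nilpotent part of a Jordan block is the lower shift -/
theorem jordanBlock_sub_one (k : ℕ) :
    Cfsg.jordanBlock k F - 1 = Cfsg.Agent.Lib.Helper5.RegUnip.shiftM k := by
  ext i j
  simp only [Cfsg.jordanBlock, Cfsg.Agent.Lib.Helper5.RegUnip.shiftM, Matrix.sub_apply,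
    Matrix.of_apply, Matrix.one_apply]
  by_cases hij : i = j
  · subst hij
    simp
  · have : (i : ℕ) ≠ (j : ℕ) := fun h => hij (Fin.ext h)
    simp [hij, this]

theorem shiftM_pow (k : ℕ) : (Cfsg.Agent.Lib.Helper5.RegUnip.shiftM k : Matrix (Fin k) (Fin k) F) ^ k = 0 := by
  apply Cfsg.Agent.Lib.Helper5.RegUnip.pow_eq_zero_of_level _ (fun i : Fin k => (i : ℕ))
  · intro a b hab
    simp only [Cfsg.Agent.Lib.Helper5.RegUnip.shiftM, Matrix.of_apply] at hab
    by_contra h
    rw [if_neg h] at hab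
    exact hab rfl
  · intro a
    exact a.2

theorem finrank_ker_shiftM_le (k : ℕ) :
    finrank F (LinearMap.ker (Matrix.toLin' (Cfsg.Agent.Lib.Helper5.RegUnip.shiftM k : Matrix (Fin k) (Fin k) F))) ≤ 1 := by
  rcases Nat.eq_zero_or_pos k with hk | hk
  · subst hk
    have : finrank F (Fin 0 → F) = 0 := by simp
    have h2 := Submodule.finrank_le (LinearMap.ker (Matrix.toLin' (Cfsg.Agent.Lib.Helper5.RegUnip.shiftM 0 : Matrix (Fin 0) (Fin 0) F)))
    omega
  · set last : Fin k := ⟨k - 1, by omega⟩ with hlast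
    have hle : LinearMap.ker (Matrix.toLin' (Cfsg.Agent.Lib.Helper5.RegUnip.shiftM k : Matrix (Fin k) (Fin k) F)) ≤
        Submodule.span F {(Pi.single last 1 : Fin k → F)} := by
      intro x hx
      rw [LinearMap.mem_ker, Matrix.toLin'_apply] at hx
      rw [Submodule.mem_span_singleton]
      refine ⟨x last, ?_⟩
      funext i
      rw [Pi.smul_apply, smul_eq_mul, Pi.single_apply]
      by_cases hi : i = last
      · rw [if_pos hi, mul_one, hi]
      · rw [if_neg hi, mul_zero]
        have hi' : (i : ℕ) + 1 < k := by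
          have := i.2
          have h3 : (i : ℕ) ≠ k - 1 := fun h => hi (Fin.ext h)
          omega
        have h4 := congrFun hx ⟨(i : ℕ) + 1, hi'⟩
        simp only [Matrix.mulVec, dotProduct, Cfsg.Agent.Lib.Helper5.RegUnip.shiftM, Matrix.of_apply,
          Pi.zero_apply] at h4
        rw [Finset.sum_eq_single i] at h4
        · simpa using h4.symm
        · intro b _ hb
          have : ¬ ((i : ℕ) + 1 = (b : ℕ) + 1) := fun h => hb (Fin.ext (by omega))
          rw [if_neg this, zero_mul]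
        · intro h; exact absurd (Finset.mem_univ _) h
    refine (Submodule.finrank_mono hle).trans ?_
    have hne : (Pi.single last 1 : Fin k → F) ≠ 0 := by
      intro h
      have := congrFun h last
      simp at this
    rw [finrank_span_singleton hne]

theorem finrank_ker_shiftM_pow (k j : ℕ) :
    finrank F (LinearMap.ker ((Matrix.toLin' (Cfsg.Agent.Lib.Helper5.RegUnip.shiftM k : Matrix (Fin k) (Fin k) F)) ^ j)) = min k j := by
  apply finrank_ker_pow_of_cyclic _ k (by simp)
  · rw [← Matrix.toLin'_pow, shiftM_pow, map_zero]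
  · exact finrank_ker_shiftM_le k

theorem blockDiagonal'_mulVec_apply {t : ℕ} (d : Fin t → ℕ)
    (M : ∀ k, Matrix (Fin (d k)) (Fin (d k)) F) (x : ((k : Fin t) × Fin (d k)) → F)
    (k : Fin t) (i : Fin (d k)) :
    (Matrix.blockDiagonal' M *ᵥ x) ⟨k, i⟩ = (M k *ᵥ fun j => x ⟨k, j⟩) i := by
  simp only [Matrix.mulVec, dotProduct]
  rw [Fintype.sum_sigma, Finset.sum_eq_single k]
  · apply Finset.sum_congr rfl
    intro j _
    rw [Matrix.blockDiagonal'_apply_eq]
  · intro k' _ hk'
    apply Finset.sum_eq_zero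
    intro j _
    rw [Matrix.blockDiagonal'_apply_ne _ _ _ hk'.symm, zero_mul]
  · intro h; exact absurd (Finset.mem_univ _) h

theorem finrank_ker_blockDiagonal'_pow {t : ℕ} (d : Fin t → ℕ)
    (M : ∀ k, Matrix (Fin (d k)) (Fin (d k)) F) (j : ℕ) :
    finrank F (LinearMap.ker ((Matrix.toLin' (Matrix.blockDiagonal' M)) ^ j)) =
      ∑ k, finrank F (LinearMap.ker ((Matrix.toLin' (M k)) ^ j)) := by
  set Ψ := LinearEquiv.piCurry F (fun (k : Fin t) (_ : Fin (d k)) => F) with hΨ
  rw [finrank_ker_pow_eq_of_intertwine Ψ (Matrix.toLin' (Matrix.blockDiagonal' M))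
    (piMap (fun k => Matrix.toLin' (M k))) ?_ j, finrank_ker_piMap_pow]
  intro x
  funext k i
  rw [piMap_apply, Matrix.toLin'_apply, Matrix.toLin'_apply]
  exact blockDiagonal'_mulVec_apply d M x k i

/-- kernel dimensions of the powers of the nilpotent part of a Jordan type matrix -/
theorem finrank_ker_jordanType_pow {t : ℕ} (d : Fin t → ℕ) (j : ℕ) :
    finrank F (LinearMap.ker ((Matrix.toLin' (Cfsg.jordanTypeMatrix d F - 1)) ^ j)) =
      ∑ k, min (d k) j := by
  have h1 : Cfsg.jordanTypeMatrix d F - 1 =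
      Matrix.blockDiagonal' (fun k => Cfsg.Agent.Lib.Helper5.RegUnip.shiftM (d k)) := by
    rw [Cfsg.jordanTypeMatrix, ← Matrix.blockDiagonal'_one, ← Matrix.blockDiagonal'_sub]
    congr 1
    funext k
    exact jordanBlock_sub_one (d k)
  rw [h1, finrank_ker_blockDiagonal'_pow]
  apply Finset.sum_congr rfl
  intro k _
  exact finrank_ker_shiftM_pow (d k) j

theorem jordanType_sub_one_pow {t : ℕ} (d : Fin t → ℕ) (n : ℕ) (hn : ∀ k, d k ≤ n) :
    (Cfsg.jordanTypeMatrix d F - 1) ^ n = 0 := by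
  have h1 : Cfsg.jordanTypeMatrix d F - 1 =
      Matrix.blockDiagonal' (fun k => Cfsg.Agent.Lib.Helper5.RegUnip.shiftM (d k)) := by
    rw [Cfsg.jordanTypeMatrix, ← Matrix.blockDiagonal'_one, ← Matrix.blockDiagonal'_sub]
    congr 1
    funext k
    exact jordanBlock_sub_one (d k)
  rw [h1, ← Matrix.blockDiagonal'_pow]
  have : (fun k => (Cfsg.Agent.Lib.Helper5.RegUnip.shiftM (d k) : Matrix (Fin (d k)) (Fin (d k)) F)) ^ n
      = 0 := by
    funext k
    rw [Pi.pow_apply, Pi.zero_apply]
    obtain ⟨c, hc⟩ := Nat.exists_eq_add_of_le (hn k)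
    rw [hc, pow_add, shiftM_pow, zero_mul]
  rw [this, Matrix.blockDiagonal'_zero]

/-- the counting identity -/
theorem two_mul_min (d j : ℕ) :
    2 * min d (j + 1) = min d j + min d (j + 2) + (if d = j + 1 then 1 else 0) := by
  split_ifs with h
  · subst h
    simp
    omega
  · rcases Nat.lt_or_ge d (j + 1) with h1 | h1
    · rw [min_eq_left (by omega), min_eq_left (by omega), min_eq_left (by omega)]
      omega
    · rw [min_eq_right (by omega), min_eq_right (by omega), min_eq_right (by omega)]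
      omega

theorem two_mul_sum_min {t : ℕ} (d : Fin t → ℕ) (j : ℕ) :
    2 * ∑ k, min (d k) (j + 1) = ∑ k, min (d k) j + ∑ k, min (d k) (j + 2) +
      (Finset.univ.filter (fun k : Fin t => d k = j + 1)).card := by
  rw [Finset.mul_sum, Finset.card_filter, ← Finset.sum_add_distrib, ← Finset.sum_add_distrib]
  apply Finset.sum_congr rfl
  intro k _
  exact two_mul_min (d k) j

/-- kernel dimensions are invariant under reindexing and conjugation -/
theorem finrank_ker_of_isConj {ι n : Type*} [Fintype ι] [DecidableEq ι] [Fintype n] [DecidableEq n]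
    (e : ι ≃ n) (M : Matrix ι ι F) (A : Matrix n n F) (h : IsConj (Matrix.reindex e e M) A)
    (j : ℕ) :
    finrank F (LinearMap.ker ((Matrix.toLin' (M - 1)) ^ j)) =
      finrank F (LinearMap.ker ((Matrix.toLin' (A - 1)) ^ j)) := by
  obtain ⟨c, hc⟩ := h
  have hc' : (c : Matrix n n F) * Matrix.reindex e e M = A * c := hc
  have hc1 : (c : Matrix n n F) * ((c⁻¹ : (Matrix n n F)ˣ) : Matrix n n F) = 1 := Units.mul_inv c
  have hc2 : ((c⁻¹ : (Matrix n n F)ˣ) : Matrix n n F) * (c : Matrix n n F) = 1 := Units.inv_mul c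
  let Ψ₂ : (n → F) ≃ₗ[F] (n → F) :=
    LinearEquiv.ofLinear (Matrix.toLin' (c : Matrix n n F))
      (Matrix.toLin' ((c⁻¹ : (Matrix n n F)ˣ) : Matrix n n F))
      (by rw [← Matrix.toLin'_mul, hc1, Matrix.toLin'_one])
      (by rw [← Matrix.toLin'_mul, hc2, Matrix.toLin'_one])
  let Ψ : (ι → F) ≃ₗ[F] (n → F) := (LinearEquiv.funCongrLeft F F e.symm).trans Ψ₂
  apply finrank_ker_pow_eq_of_intertwine Ψ
  intro x
  show (c : Matrix n n F) *ᵥ (((M - 1) *ᵥ x) ∘ e.symm) =
    (A - 1) *ᵥ ((c : Matrix n n F) *ᵥ (x ∘ e.symm))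
  have h1 : ((M - 1) *ᵥ x) ∘ e.symm = (Matrix.reindex e e M - 1) *ᵥ (x ∘ e.symm) := by
    have h2 : Matrix.reindex e e M - 1 = Matrix.reindex e e (M - 1) := by
      ext a b
      simp [Matrix.one_apply]
    rw [h2, Matrix.reindex_apply, Matrix.submatrix_mulVec_equiv]
    congr 2
    funext a
    simp
  rw [h1, Matrix.mulVec_mulVec, Matrix.mulVec_mulVec, mul_sub, sub_mul, hc', mul_one, one_mul]

end Cfsg.Agent.Lib.Helper5.UnipForm
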