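import Mathlib
import Cfsg.Agent.Lib.Helper5.SpReal1
import Cfsg.Agent.Lib.Helper5.UnipForm2

set_option autoImplicit false

namespace Cfsg.Agent.Lib.Helper5.UnipForm

open Module LinearMap Matrix Cfsg.Agent.Lib.Helper5.SpReal

universe u

variable {F : Type u} [Field F]

/-- the multiset `s` is the Jordan type of a unipotent isometry of a symplectic space -/
def SpUnip (F : Type u) [Field F] (s : Multiset ℕ) : Prop :=
  ∃ (V : Type u) (_ : AddCommGroup V) (_ : Module F V) (_ : FiniteDimensional F V)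
    (ω : LinearMap.BilinForm F V) (A : Module.End F V) (n : ℕ),
    ω.IsAlt ∧ (∀ x, (∀ y, ω x y = 0) → x = 0) ∧ (∀ u v, ω (A u) (A v) = ω u v) ∧
    (A - 1) ^ n = 0 ∧
    ∀ j, finrank F (LinearMap.ker ((A - 1) ^ j)) = (s.map (fun a => min a j)).sum

theorem spUnip_zero : SpUnip F 0 := by
  refine ⟨PUnit.{u + 1}, inferInstance, inferInstance, inferInstance, 0, 1, 1, ?_, ?_, ?_, ?_, ?_⟩
  · intro x; rfl
  · intro x _; exact Subsingleton.elim _ _
  · intro u v; rfl
  · simp
  · intro j
    rw [Multiset.map_zero, Multiset.sum_zero]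
    exact Module.finrank_zero_of_subsingleton

/-- the kernel of a product map -/
def kerProdEquiv {V₁ V₂ : Type*} [AddCommGroup V₁] [Module F V₁] [AddCommGroup V₂] [Module F V₂]
    (f : Module.End F V₁) (g : Module.End F V₂) :
    LinearMap.ker (f.prodMap g : Module.End F (V₁ × V₂)) ≃ₗ[F]
      (LinearMap.ker f × LinearMap.ker g) where
  toFun y := (⟨y.1.1, by
    have := y.2
    rw [LinearMap.mem_ker] at this ⊢
    exact congrArg Prod.fst this⟩, ⟨y.1.2, by
    have := y.2
    rw [LinearMap.mem_ker] at this ⊢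
    exact congrArg Prod.snd this⟩)
  invFun z := ⟨(z.1.1, z.2.1), by
    rw [LinearMap.mem_ker]
    show (f z.1.1, g z.2.1) = 0
    rw [LinearMap.mem_ker.1 z.1.2, LinearMap.mem_ker.1 z.2.2]
    rfl⟩
  map_add' _ _ := rfl
  map_smul' _ _ := rfl
  left_inv _ := rfl
  right_inv _ := rfl

theorem finrank_ker_prodMap_pow {V₁ V₂ : Type*} [AddCommGroup V₁] [Module F V₁] [AddCommGroup V₂]
    [Module F V₂] [FiniteDimensional F V₁] [FiniteDimensional F V₂]
    (f : Module.End F V₁) (g : Module.End F V₂) (j : ℕ) :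
    finrank F (LinearMap.ker ((f.prodMap g : Module.End F (V₁ × V₂)) ^ j)) =
      finrank F (LinearMap.ker (f ^ j)) + finrank F (LinearMap.ker (g ^ j)) := by
  have : (f.prodMap g : Module.End F (V₁ × V₂)) ^ j = (f ^ j).prodMap (g ^ j) := by
    apply LinearMap.ext
    intro v
    rw [prodMap_pow_apply]
    rfl
  rw [this, (kerProdEquiv (f ^ j) (g ^ j)).finrank_eq, Module.finrank_prod]

theorem SpUnip.add {s₁ s₂ : Multiset ℕ} (h₁ : SpUnip F s₁) (h₂ : SpUnip F s₂) :
    SpUnip F (s₁ + s₂) := by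
  obtain ⟨V₁, iA₁, iM₁, iF₁, ω₁, A₁, n₁, h11, h12, h13, h14, h15⟩ := h₁
  obtain ⟨V₂, iA₂, iM₂, iF₂, ω₂, A₂, n₂, h21, h22, h23, h24, h25⟩ := h₂
  set ω : LinearMap.BilinForm F (V₁ × V₂) :=
    ω₁.compl₁₂ (LinearMap.fst F V₁ V₂) (LinearMap.fst F V₁ V₂) +
      ω₂.compl₁₂ (LinearMap.snd F V₁ V₂) (LinearMap.snd F V₁ V₂) with hω
  have hωapp : ∀ x y : V₁ × V₂, ω x y = ω₁ x.1 y.1 + ω₂ x.2 y.2 := fun x y => rfl
  have hsub : (A₁.prodMap A₂ : Module.End F (V₁ × V₂)) - 1 = (A₁ - 1).prodMap (A₂ - 1) := by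
    apply LinearMap.ext
    intro v
    rfl
  refine ⟨V₁ × V₂, inferInstance, inferInstance, inferInstance, ω, A₁.prodMap A₂, n₁ + n₂,
    ?_, ?_, ?_, ?_, ?_⟩
  · intro x
    rw [hωapp, h11 x.1, h21 x.2, add_zero]
  · intro x hx
    have hx1 : x.1 = 0 := by
      apply h12
      intro y
      have := hx (y, 0)
      rw [hωapp] at this
      simpa using this
    have hx2 : x.2 = 0 := by
      apply h22
      intro y
      have := hx (0, y)
      rw [hωapp] at this
      simpa using this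
    exact Prod.ext hx1 hx2
  · intro u v
    rw [hωapp, hωapp]
    show ω₁ (A₁ u.1) (A₁ v.1) + ω₂ (A₂ u.2) (A₂ v.2) = _
    rw [h13, h23]
  · rw [hsub]
    apply LinearMap.ext
    intro v
    rw [prodMap_pow_apply]
    have e1 : ((A₁ - 1) ^ (n₁ + n₂)) v.1 = 0 := by
      rw [pow_add, h14, zero_mul, LinearMap.zero_apply]
    have e2 : ((A₂ - 1) ^ (n₁ + n₂)) v.2 = 0 := by
      rw [pow_add, h24, mul_zero, LinearMap.zero_apply]
    rw [e1, e2]
    rfl
  · intro j
    rw [hsub, finrank_ker_prodMap_pow, h15, h25, Multiset.map_add, Multiset.sum_add]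

section hyp
variable {ι : Type} [Fintype ι] [DecidableEq ι]

/-- the hyperbolic alternating form on `U × U` -/
def hypForm (F : Type u) [Field F] (ι : Type) [Fintype ι] :
    LinearMap.BilinForm F ((ι → F) × (ι → F)) :=
  LinearMap.mk₂ F (fun x y => x.1 ⬝ᵥ y.2 - x.2 ⬝ᵥ y.1)
    (fun x x' y => by simp only [Prod.fst_add, Prod.snd_add, add_dotProduct]; ring)
    (fun c x y => by simp only [Prod.smul_fst, Prod.smul_snd, smul_dotProduct, smul_eq_mul]; ring)
    (fun x y y' => by simp only [Prod.fst_add, Prod.snd_add, dotProduct_add]; ring)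
    (fun c x y => by simp only [Prod.smul_fst, Prod.smul_snd, dotProduct_smul, smul_eq_mul]; ring)

theorem hypForm_apply (x y : (ι → F) × (ι → F)) :
    hypForm F ι x y = x.1 ⬝ᵥ y.2 - x.2 ⬝ᵥ y.1 := rfl

theorem hypForm_isAlt : (hypForm F ι).IsAlt := by
  intro x
  rw [hypForm_apply, dotProduct_comm, sub_self]

theorem hypForm_nondeg (x : (ι → F) × (ι → F)) (hx : ∀ y, hypForm F ι x y = 0) : x = 0 := by
  apply Prod.ext
  · funext i
    have := hx (0, Pi.single i 1)
    rw [hypForm_apply] at this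
    simpa using this
  · funext i
    have := hx (Pi.single i 1, 0)
    rw [hypForm_apply] at this
    simpa using this

/-- the operator `(a, b) ↦ (T a + T S b, T'ᵀ b)` -/
def hypOp (T T' S : Matrix ι ι F) : Module.End F ((ι → F) × (ι → F)) where
  toFun x := (T *ᵥ x.1 + (T * S) *ᵥ x.2, T'ᵀ *ᵥ x.2)
  map_add' x y := by
    simp only [Prod.fst_add, Prod.snd_add, mulVec_add, Prod.mk_add_mk]
    congr 1
    abel
  map_smul' c x := by
    simp only [Prod.smul_fst, Prod.smul_snd, mulVec_smul, RingHom.id_apply, Prod.smul_mk, smul_add]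

theorem hypOp_apply (T T' S : Matrix ι ι F) (x : (ι → F) × (ι → F)) :
    hypOp T T' S x = (T *ᵥ x.1 + (T * S) *ᵥ x.2, T'ᵀ *ᵥ x.2) := rfl

theorem mulVec_dot (M : Matrix ι ι F) (a c : ι → F) : (M *ᵥ a) ⬝ᵥ c = a ⬝ᵥ (Mᵀ *ᵥ c) := by
  rw [dotProduct_mulVec, vecMul_transpose]

theorem hypOp_preserves (T T' S : Matrix ι ι F) (hT : T' * T = 1) (hS : Sᵀ = S)
    (x y : (ι → F) × (ι → F)) :
    hypForm F ι (hypOp T T' S x) (hypOp T T' S y) = hypForm F ι x y := by
  have hT2 : Tᵀ * T'ᵀ = 1 := by rw [← Matrix.transpose_mul, hT, Matrix.transpose_one]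
  rw [hypForm_apply, hypForm_apply, hypOp_apply, hypOp_apply]
  simp only [add_dotProduct, dotProduct_add]
  rw [mulVec_dot T, mulVec_dot (T * S), mulVec_dot T'ᵀ, mulVec_dot T'ᵀ, Matrix.transpose_transpose,
    mulVec_mulVec, mulVec_mulVec, mulVec_mulVec, mulVec_mulVec, hT2, Matrix.transpose_mul, hS,
    Matrix.mul_assoc, hT2, hT, ← Matrix.mul_assoc, hT]
  simp only [Matrix.one_mulVec, Matrix.mul_one, Matrix.one_mul]
  ring

end hyp

section pairs
variable {ι : Type} [Fintype ι] [DecidableEq ι]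

theorem exists_inv_of_nilp (T : Matrix ι ι F) (n : ℕ) (hT : (T - 1) ^ n = 0) :
    ∃ T' : Matrix ι ι F, T * T' = 1 ∧ T' * T = 1 := by
  refine ⟨∑ i ∈ Finset.range n, (1 - T) ^ i, ?_, ?_⟩
  · have h := mul_neg_geom_sum (1 - T) n
    rw [sub_sub_cancel] at h
    rw [h]
    have : (1 - T) ^ n = (-1) ^ n * (T - 1) ^ n := by
      rw [← neg_sub, neg_pow]
    rw [this, hT, mul_zero, sub_zero]
  · have h := geom_sum_mul_neg (1 - T) n
    rw [sub_sub_cancel] at h
    rw [h]
    have : (1 - T) ^ n = (-1) ^ n * (T - 1) ^ n := by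
      rw [← neg_sub, neg_pow]
    rw [this, hT, mul_zero, sub_zero]

theorem finrank_ker_transpose (M : Matrix ι ι F) :
    finrank F (LinearMap.ker (Matrix.toLin' Mᵀ)) = finrank F (LinearMap.ker (Matrix.toLin' M)) := by
  have h1 := LinearMap.finrank_range_add_finrank_ker (Matrix.toLin' M)
  have h2 := LinearMap.finrank_range_add_finrank_ker (Matrix.toLin' Mᵀ)
  have h3 : finrank F (LinearMap.range (Matrix.toLin' M)) = M.rank := rfl
  have h4 : finrank F (LinearMap.range (Matrix.toLin' Mᵀ)) = Mᵀ.rank := rfl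
  rw [h3] at h1
  rw [h4, Matrix.rank_transpose] at h2
  omega

theorem inv_sub_one_pow (T T' : Matrix ι ι F) (h1 : T * T' = 1) (h2 : T' * T = 1) (j : ℕ) :
    (T' - 1) ^ j = (-T') ^ j * (T - 1) ^ j := by
  have hcomm : Commute (-T') (T - 1) := by
    show -T' * (T - 1) = (T - 1) * -T'
    rw [neg_mul, mul_neg, mul_sub, sub_mul, h1, h2, mul_one, one_mul]
  rw [← hcomm.mul_pow]
  congr 1
  rw [neg_mul, mul_sub, h2, mul_one]
  abel

theorem ker_inv_sub_one_pow (T T' : Matrix ι ι F) (h1 : T * T' = 1) (h2 : T' * T = 1) (j : ℕ) :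
    LinearMap.ker (Matrix.toLin' ((T' - 1) ^ j)) = LinearMap.ker (Matrix.toLin' ((T - 1) ^ j)) := by
  apply le_antisymm
  · intro x hx
    rw [LinearMap.mem_ker, Matrix.toLin'_apply] at hx ⊢
    rw [inv_sub_one_pow T' T h2 h1 j, ← mulVec_mulVec, hx, mulVec_zero]
  · intro x hx
    rw [LinearMap.mem_ker, Matrix.toLin'_apply] at hx ⊢
    rw [inv_sub_one_pow T T' h1 h2 j, ← mulVec_mulVec, hx, mulVec_zero]

theorem finrank_ker_transpose_inv (T T' : Matrix ι ι F) (h1 : T * T' = 1) (h2 : T' * T = 1)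
    (j : ℕ) :
    finrank F (LinearMap.ker ((Matrix.toLin' (T'ᵀ - 1)) ^ j)) =
      finrank F (LinearMap.ker ((Matrix.toLin' (T - 1)) ^ j)) := by
  rw [← Matrix.toLin'_pow, ← Matrix.toLin'_pow]
  have : (T'ᵀ - 1) ^ j = ((T' - 1) ^ j)ᵀ := by
    rw [Matrix.transpose_pow, Matrix.transpose_sub, Matrix.transpose_one]
  rw [this, finrank_ker_transpose, ker_inv_sub_one_pow T T' h1 h2]

theorem hypOp_zero_sub_one (T T' : Matrix ι ι F) :
    hypOp T T' 0 - 1 = (Matrix.toLin' (T - 1)).prodMap (Matrix.toLin' (T'ᵀ - 1)) := by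
  apply LinearMap.ext
  intro x
  apply Prod.ext
  · show T *ᵥ x.1 + (T * 0) *ᵥ x.2 - x.1 = (T - 1) *ᵥ x.1
    rw [mul_zero, zero_mulVec, add_zero, sub_mulVec, one_mulVec]
  · show T'ᵀ *ᵥ x.2 - x.2 = (T'ᵀ - 1) *ᵥ x.2
    rw [sub_mulVec, one_mulVec]

/-- two Jordan blocks of the same size -/
theorem spUnip_pair (j : ℕ) : SpUnip F {j, j} := by
  set T : Matrix (Fin j) (Fin j) F := 1 + Cfsg.Agent.Lib.Helper5.RegUnip.shiftM j with hT
  have hT1 : T - 1 = Cfsg.Agent.Lib.Helper5.RegUnip.shiftM j := by rw [hT]; abel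
  have hnil : (T - 1) ^ j = 0 := by rw [hT1]; exact shiftM_pow j
  obtain ⟨T', h1, h2⟩ := exists_inv_of_nilp T j hnil
  refine ⟨(Fin j → F) × (Fin j → F), inferInstance, inferInstance, inferInstance, hypForm F (Fin j),
    hypOp T T' 0, j, hypForm_isAlt, hypForm_nondeg, ?_, ?_, ?_⟩
  · exact hypOp_preserves T T' 0 h2 (Matrix.transpose_zero)
  · rw [hypOp_zero_sub_one]
    apply LinearMap.ext
    intro v
    rw [prodMap_pow_apply, ← Matrix.toLin'_pow, ← Matrix.toLin'_pow, hnil]
    have : (T'ᵀ - 1) ^ j = 0 := by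
      have : (T'ᵀ - 1) ^ j = ((T' - 1) ^ j)ᵀ := by
        rw [Matrix.transpose_pow, Matrix.transpose_sub, Matrix.transpose_one]
      rw [this, inv_sub_one_pow T T' h1 h2, hnil, mul_zero, Matrix.transpose_zero]
    rw [this]
    simp
  · intro i
    rw [hypOp_zero_sub_one, finrank_ker_prodMap_pow, finrank_ker_transpose_inv T T' h1 h2, hT1,
      finrank_ker_shiftM_pow]
    simp

end pairs

section single
variable (k : ℕ)

/-- the corner matrix -/
def cornerS (F : Type u) [Field F] (k : ℕ) : Matrix (Fin (k + 1)) (Fin (k + 1)) F :=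
  Matrix.of fun a b => if a = 0 ∧ b = 0 then 1 else 0

theorem cornerS_transpose : (cornerS F k)ᵀ = cornerS F k := by
  ext a b
  simp only [cornerS, Matrix.transpose_apply, Matrix.of_apply, and_comm]

theorem cornerS_mulVec (b : Fin (k + 1) → F) (a : Fin (k + 1)) :
    (cornerS F k *ᵥ b) a = if a = 0 then b 0 else 0 := by
  simp only [cornerS, Matrix.mulVec, dotProduct, Matrix.of_apply]
  by_cases ha : a = 0
  · rw [if_pos ha, Finset.sum_eq_single 0]
    · simp [ha]
    · intro c _ hc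
      simp [hc]
    · intro h; exact absurd (Finset.mem_univ _) h
  · rw [if_neg ha]
    apply Finset.sum_eq_zero
    intro c _
    simp [ha]

theorem shiftM_mulVec_zero (a : Fin (k + 1) → F) :
    ((Cfsg.Agent.Lib.Helper5.RegUnip.shiftM (k + 1) : Matrix (Fin (k + 1)) (Fin (k + 1)) F) *ᵥ a) 0 = 0 := by
  simp only [Matrix.mulVec, dotProduct, Cfsg.Agent.Lib.Helper5.RegUnip.shiftM, Matrix.of_apply]
  apply Finset.sum_eq_zero
  intro c _
  have : ¬ (((0 : Fin (k + 1)) : ℕ) = (c : ℕ) + 1) := by simp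
  rw [if_neg this, zero_mul]

theorem shiftM_transpose_mulVec (b : Fin (k + 1) → F) (i : Fin (k + 1)) (hi : (i : ℕ) + 1 < k + 1) :
    ((Cfsg.Agent.Lib.Helper5.RegUnip.shiftM (k + 1) : Matrix (Fin (k + 1)) (Fin (k + 1)) F)ᵀ *ᵥ b) i =
      b ⟨(i : ℕ) + 1, hi⟩ := by
  simp only [Matrix.mulVec, dotProduct, Cfsg.Agent.Lib.Helper5.RegUnip.shiftM, Matrix.of_apply,
    Matrix.transpose_apply]
  rw [Finset.sum_eq_single ⟨(i : ℕ) + 1, hi⟩]
  · simp
  · intro c _ hc
    have : ¬ ((c : ℕ) = (i : ℕ) + 1) := fun h => hc (Fin.ext h)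
    rw [if_neg this, zero_mul]
  · intro h; exact absurd (Finset.mem_univ _) h

end single

theorem hypOp_sub_one_apply {ι : Type} [Fintype ι] [DecidableEq ι] (T T' S : Matrix ι ι F)
    (x : (ι → F) × (ι → F)) :
    (hypOp T T' S - 1) x = ((T - 1) *ᵥ x.1 + (T * S) *ᵥ x.2, (T'ᵀ - 1) *ᵥ x.2) := by
  apply Prod.ext
  · show T *ᵥ x.1 + (T * S) *ᵥ x.2 - x.1 = (T - 1) *ᵥ x.1 + (T * S) *ᵥ x.2
    rw [sub_mulVec, one_mulVec]
    abel
  · show T'ᵀ *ᵥ x.2 - x.2 = (T'ᵀ - 1) *ᵥ x.2
    rw [sub_mulVec, one_mulVec]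

theorem hypOp_sub_one_pow_snd {ι : Type} [Fintype ι] [DecidableEq ι] (T T' S : Matrix ι ι F)
    (j : ℕ) (x : (ι → F) × (ι → F)) :
    (((hypOp T T' S - 1) ^ j) x).2 = ((T'ᵀ - 1) ^ j) *ᵥ x.2 := by
  induction j generalizing x with
  | zero => simp
  | succ j ih =>
    rw [pow_succ, Module.End.mul_apply, ih, hypOp_sub_one_apply, pow_succ, mulVec_mulVec]

theorem hypOp_sub_one_pow_fst {ι : Type} [Fintype ι] [DecidableEq ι] (T T' S : Matrix ι ι F)
    (j : ℕ) (a : ι → F) :
    ((hypOp T T' S - 1) ^ j) (a, 0) = (((T - 1) ^ j) *ᵥ a, 0) := by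
  induction j generalizing a with
  | zero => simp
  | succ j ih =>
    rw [pow_succ, Module.End.mul_apply, hypOp_sub_one_apply]
    simp only [mulVec_zero, add_zero]
    rw [ih, pow_succ, mulVec_mulVec]

/-- a single Jordan block of even size -/
theorem spUnip_single (k : ℕ) : SpUnip F {2 * (k + 1)} := by
  set L : Matrix (Fin (k + 1)) (Fin (k + 1)) F := Cfsg.Agent.Lib.Helper5.RegUnip.shiftM (k + 1)
    with hL
  set T : Matrix (Fin (k + 1)) (Fin (k + 1)) F := 1 + L with hT
  have hT1 : T - 1 = L := by rw [hT]; abel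
  have hnil : (T - 1) ^ (k + 1) = 0 := by rw [hT1]; exact shiftM_pow (k + 1)
  obtain ⟨T', h1, h2⟩ := exists_inv_of_nilp T (k + 1) hnil
  have hnil' : (T'ᵀ - 1) ^ (k + 1) = 0 := by
    have : (T'ᵀ - 1) ^ (k + 1) = ((T' - 1) ^ (k + 1))ᵀ := by
      rw [Matrix.transpose_pow, Matrix.transpose_sub, Matrix.transpose_one]
    rw [this, inv_sub_one_pow T T' h1 h2, hnil, mul_zero, Matrix.transpose_zero]
  set S := cornerS F k with hS
  set A := hypOp T T' S with hA
  have hpow : (A - 1) ^ (2 * (k + 1)) = 0 := by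
    apply LinearMap.ext
    intro x
    rw [two_mul, pow_add, Module.End.mul_apply]
    set y := ((A - 1) ^ (k + 1)) x with hy
    have hy2 : y.2 = 0 := by
      rw [hy, hypOp_sub_one_pow_snd, hnil', zero_mulVec]
    have hy' : y = (y.1, 0) := Prod.ext rfl hy2
    rw [hy', hypOp_sub_one_pow_fst, hnil, zero_mulVec]
    rfl
  have hker : finrank F (LinearMap.ker (A - 1)) ≤ 1 := by
    have hkey : ∀ x : (Fin (k + 1) → F) × (Fin (k + 1) → F), (A - 1) x = 0 →
        x.2 = 0 ∧ L *ᵥ x.1 = 0 := by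
      intro x hx
      rw [hypOp_sub_one_apply, Prod.mk_eq_zero] at hx
      obtain ⟨hx1, hx2⟩ := hx
      -- `b` is fixed by `Tᵀ`
      have hb : Lᵀ *ᵥ x.2 = 0 := by
        have h3 : T'ᵀ *ᵥ x.2 = x.2 := by
          rw [sub_mulVec, one_mulVec, sub_eq_zero] at hx2
          exact hx2
        have h4 : Tᵀ *ᵥ x.2 = x.2 := by
          conv_lhs => rw [← h3]
          rw [mulVec_mulVec, ← Matrix.transpose_mul, h2, Matrix.transpose_one, one_mulVec]
        have h5 : Lᵀ = Tᵀ - 1 := by rw [hT, Matrix.transpose_add, Matrix.transpose_one]; abel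
        rw [h5, sub_mulVec, one_mulVec, h4, sub_self]
      have hb' : ∀ i : Fin (k + 1), i ≠ 0 → x.2 i = 0 := by
        intro i hi
        have hi0 : (i : ℕ) ≠ 0 := fun h => hi (Fin.ext h)
        have hlt : ((i : ℕ) - 1) + 1 < k + 1 := by have := i.2; omega
        have h6 := shiftM_transpose_mulVec k x.2 ⟨(i : ℕ) - 1, by omega⟩ hlt
        rw [← hL, hb] at h6
        have h7 : (⟨(i : ℕ) - 1 + 1, hlt⟩ : Fin (k + 1)) = i := Fin.ext (by simp; omega)
        rw [h7] at h6
        exact h6.symm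
      -- the `0`-th coordinate of the first component
      have h0 := congrFun hx1 0
      rw [Pi.add_apply, hT1, shiftM_mulVec_zero, zero_add, Pi.zero_apply, ← mulVec_mulVec] at h0
      have h8 : (T *ᵥ (S *ᵥ x.2)) 0 = x.2 0 := by
        have h9 : S *ᵥ x.2 = fun a => if a = 0 then x.2 0 else 0 := by
          funext a
          exact cornerS_mulVec k x.2 a
        rw [h9, hT, add_mulVec, one_mulVec, Pi.add_apply, shiftM_mulVec_zero, add_zero, if_pos rfl]
      rw [h8] at h0
      have hx20 : x.2 = 0 := by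
        funext i
        by_cases hi : i = 0
        · rw [hi]; exact h0
        · exact hb' i hi
      refine ⟨hx20, ?_⟩
      rw [hx20, mulVec_zero, add_zero, hT1] at hx1
      exact hx1
    let φ : LinearMap.ker (A - 1) →ₗ[F] LinearMap.ker (Matrix.toLin' L) :=
      { toFun := fun x => ⟨x.1.1, by
          rw [LinearMap.mem_ker, Matrix.toLin'_apply]
          exact (hkey x.1 (LinearMap.mem_ker.1 x.2)).2⟩
        map_add' := fun _ _ => rfl
        map_smul' := fun _ _ => rfl }
    have hφ : Function.Injective φ := by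
      intro x y hxy
      have h1 : x.1.1 = y.1.1 := congrArg Subtype.val hxy
      have h2 : x.1.2 = y.1.2 := by
        rw [(hkey x.1 (LinearMap.mem_ker.1 x.2)).1, (hkey y.1 (LinearMap.mem_ker.1 y.2)).1]
      exact Subtype.ext (Prod.ext h1 h2)
    exact (LinearMap.finrank_le_finrank_of_injective hφ).trans (finrank_ker_shiftM_le (k + 1))
  refine ⟨(Fin (k + 1) → F) × (Fin (k + 1) → F), inferInstance, inferInstance, inferInstance,
    hypForm F (Fin (k + 1)), A, 2 * (k + 1), hypForm_isAlt, hypForm_nondeg, ?_, hpow, ?_⟩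
  · exact hypOp_preserves T T' S h2 (cornerS_transpose k)
  · intro j
    rw [Multiset.map_singleton, Multiset.sum_singleton]
    apply finrank_ker_pow_of_cyclic _ _ _ hpow hker
    rw [Module.finrank_prod, Module.finrank_fin_fun]
    ring

/-- every admissible multiset of block sizes is realised in a symplectic space -/
theorem spUnip_of_parity : ∀ (n : ℕ) (s : Multiset ℕ), Multiset.card s = n → (∀ a ∈ s, 1 ≤ a) →
    (∀ j, Odd j → Even (s.count j)) → SpUnip F s := by
  intro n
  induction n using Nat.strong_induction_on with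
  | _ n ih =>
    intro s hcard hpos hpar
    by_cases hs : s = 0
    · rw [hs]; exact spUnip_zero
    obtain ⟨a, ha⟩ := Multiset.exists_mem_of_ne_zero hs
    have hs1 : a ::ₘ s.erase a = s := Multiset.cons_erase ha
    have hc1 : Multiset.card (s.erase a) + 1 = n := by
      rw [← hcard, ← hs1, Multiset.card_cons, hs1]
    rcases Nat.even_or_odd a with hae | hao
    · -- a single even block
      obtain ⟨k, hk⟩ : ∃ k, a = 2 * (k + 1) := by
        obtain ⟨c, hc⟩ := hae
        have := hpos a ha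
        exact ⟨c - 1, by omega⟩
      have h1 : SpUnip F (s.erase a) := by
        apply ih (Multiset.card (s.erase a)) (by omega) _ rfl
        · intro b hb
          exact hpos b (Multiset.mem_of_mem_erase hb)
        · intro j hj
          have hja : j ≠ a := by
            rintro rfl
            exact (Nat.not_even_iff_odd.2 hj) hae
          rw [Multiset.count_erase_of_ne hja]
          exact hpar j hj
      have h2 : SpUnip F {a} := by rw [hk]; exact spUnip_single k
      have := h2.add h1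
      rwa [Multiset.singleton_add, hs1] at this
    · -- a pair of odd blocks
      have hcnt : 2 ≤ s.count a := by
        have h1 : 1 ≤ s.count a := Multiset.one_le_count_iff_mem.2 ha
        obtain ⟨c, hc⟩ := hpar a hao
        omega
      have ha' : a ∈ s.erase a := by
        rw [← Multiset.one_le_count_iff_mem, Multiset.count_erase_self]
        omega
      have hs2 : a ::ₘ (s.erase a).erase a = s.erase a := Multiset.cons_erase ha'
      have hc2 : Multiset.card ((s.erase a).erase a) + 2 = n := by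
        rw [← hc1, ← hs2, Multiset.card_cons, hs2]
      have h1 : SpUnip F ((s.erase a).erase a) := by
        apply ih (Multiset.card ((s.erase a).erase a)) (by omega) _ rfl
        · intro b hb
          exact hpos b (Multiset.mem_of_mem_erase (Multiset.mem_of_mem_erase hb))
        · intro j hj
          by_cases hja : j = a
          · subst hja
            rw [Multiset.count_erase_self, Multiset.count_erase_self]
            obtain ⟨c, hc⟩ := hpar j hj
            exact ⟨c - 1, by omega⟩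
          · rw [Multiset.count_erase_of_ne hja, Multiset.count_erase_of_ne hja]
            exact hpar j hj
      have h2 : SpUnip F {a, a} := spUnip_pair a
      have := h2.add h1
      have e : ({a, a} : Multiset ℕ) + (s.erase a).erase a = s := by
        rw [Multiset.insert_eq_cons, Multiset.cons_add, Multiset.singleton_add, hs2, hs1]
      rwa [e] at this

end Cfsg.Agent.Lib.Helper5.UnipForm
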