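import Mathlib
import Cfsg.Agent.Lib.Helper5.UnipForm3

set_option autoImplicit false

namespace Cfsg.Agent.Lib.Helper5.UnipForm

open Module LinearMap Matrix

universe u

variable {F : Type u} [Field F]

theorem pow_eq_zero_of_finrank_ker {V : Type*} [AddCommGroup V] [Module F V] [FiniteDimensional F V]
    (N : Module.End F V) (j : ℕ) (h : finrank F (LinearMap.ker (N ^ j)) = finrank F V) :
    N ^ j = 0 := by
  have := Submodule.eq_top_of_finrank_eq h
  exact LinearMap.ker_eq_top.1 this

/-- unipotent matrices with the same kernel dimensions are conjugate -/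
theorem isConj_of_ker_dims {n : Type*} [Fintype n] [DecidableEq n] (R B : Matrix n n F)
    (a b : ℕ) (hR : (Matrix.toLin' (R - 1)) ^ a = 0) (hB : (Matrix.toLin' (B - 1)) ^ b = 0)
    (h : ∀ j, finrank F (LinearMap.ker ((Matrix.toLin' (R - 1)) ^ j)) =
      finrank F (LinearMap.ker ((Matrix.toLin' (B - 1)) ^ j))) : IsConj R B := by
  obtain ⟨E, hE⟩ := exists_equiv_of_finrank_ker_pow_eq _ _ a b hR hB h
  set P := LinearMap.toMatrix' (E : (n → F) →ₗ[F] (n → F)) with hP
  set P' := LinearMap.toMatrix' (E.symm : (n → F) →ₗ[F] (n → F)) with hP'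
  have h1 : P * P' = 1 := by
    rw [hP, hP', ← LinearMap.toMatrix'_comp]
    have : (E : (n → F) →ₗ[F] (n → F)) ∘ₗ (E.symm : (n → F) →ₗ[F] (n → F)) = LinearMap.id := by
      apply LinearMap.ext; intro x; simp
    rw [this, LinearMap.toMatrix'_id]
  have h2 : P' * P = 1 := by
    rw [hP, hP', ← LinearMap.toMatrix'_comp]
    have : (E.symm : (n → F) →ₗ[F] (n → F)) ∘ₗ (E : (n → F) →ₗ[F] (n → F)) = LinearMap.id := by
      apply LinearMap.ext; intro x; simp
    rw [this, LinearMap.toMatrix'_id]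
  have h3 : P * (R - 1) = (B - 1) * P := by
    have e1 : P * (R - 1) = LinearMap.toMatrix' ((E : (n → F) →ₗ[F] (n → F)) ∘ₗ Matrix.toLin' (R - 1)) := by
      rw [LinearMap.toMatrix'_comp, LinearMap.toMatrix'_toLin']
    have e2 : (B - 1) * P = LinearMap.toMatrix' (Matrix.toLin' (B - 1) ∘ₗ (E : (n → F) →ₗ[F] (n → F))) := by
      rw [LinearMap.toMatrix'_comp, LinearMap.toMatrix'_toLin']
    rw [e1, e2]
    congr 1
    apply LinearMap.ext
    intro v
    exact hE v
  refine ⟨⟨P, P', h1, h2⟩, ?_⟩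
  show P * R = B * P
  have h4 : P * R = P * (R - 1) + P := by rw [mul_sub, mul_one]; abel
  rw [h4, h3, sub_mul, one_mul]
  abel

/-- kernel dimensions of the matrix of an endomorphism -/
theorem finrank_ker_toMatrix {V : Type*} [AddCommGroup V] [Module F V] {n : Type*} [Fintype n]
    [DecidableEq n] (b : Basis n F V) (A : Module.End F V) (j : ℕ) :
    finrank F (LinearMap.ker ((Matrix.toLin' (LinearMap.toMatrix b b A - 1)) ^ j)) =
      finrank F (LinearMap.ker ((A - 1) ^ j)) := by
  symm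
  apply finrank_ker_pow_eq_of_intertwine b.equivFun
  intro v
  rw [Matrix.toLin'_apply]
  have h1 : LinearMap.toMatrix b b A - 1 = LinearMap.toMatrix b b (A - 1) := by
    rw [map_sub, Module.End.one_eq_id, LinearMap.toMatrix_id]
  rw [h1]
  exact (LinearMap.toMatrix_mulVec_repr b b (A - 1) v).symm

theorem finrank_ker_reindex_jordanType {t : ℕ} (d : Fin t → ℕ) {n : Type*} [Fintype n]
    [DecidableEq n] (e : ((k : Fin t) × Fin (d k)) ≃ n) (j : ℕ) :
    finrank F (LinearMap.ker ((Matrix.toLin' (Matrix.reindex e e (Cfsg.jordanTypeMatrix d F) - 1)) ^ j)) =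
      ∑ k, min (d k) j := by
  rw [← finrank_ker_of_isConj e (Cfsg.jordanTypeMatrix d F) _ (IsConj.refl _) j,
    finrank_ker_jordanType_pow]

end Cfsg.Agent.Lib.Helper5.UnipForm
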