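import Mathlib
import Cfsg.Agent.Lib.Helper5.SpY2
import Cfsg.Agent.Lib.Helper5.SpU4
import Cfsg.Agent.S2582

set_option autoImplicit false

/-!
Transport for S2676, part 3: the packages Y1, Y2 and X in final form (modulo the classification
of skew and symmetric forms, taken as hypotheses `hF1`, `hF2`).
-/

namespace Cfsg.Agent.Lib.Helper5.SpU

open Matrix Cfsg.Agent.Lib.Helper5.UnipCent

variable {F : Type*} [Field F] [Fintype F]

/-- all nondegenerate skew forms on `Fin m ⊕ Fin m` are congruent to the standard one. -/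
theorem key_fact_of_F2
    (hF2 : ∀ (ι : Type) [Fintype ι] [DecidableEq ι],
      Nat.card (Quotient (formSetoid (-1 : F) ι)) = if Even (Fintype.card ι) then 1 else 0)
    {m : ℕ} (M₀ : Matrix (Fin m ⊕ Fin m) (Fin m ⊕ Fin m) F) (hM : M₀ᵀ = -M₀)
    (hu : IsUnit M₀.det) :
    ∃ c : Matrix (Fin m ⊕ Fin m) (Fin m ⊕ Fin m) F, IsUnit c.det ∧
      cᵀ * Matrix.J (Fin m) F * c = M₀ := by
  have hcard := hF2 (Fin m ⊕ Fin m)
  rw [if_pos (by rw [Fintype.card_sum, Fintype.card_fin]; exact ⟨m, rfl⟩)] at hcard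
  have hsub := (Nat.card_eq_one_iff_unique.1 hcard).1
  set a : Forms F (-1 : F) (Fin m ⊕ Fin m) :=
    ⟨Matrix.J (Fin m) F, by rw [Matrix.J_transpose, neg_smul, one_smul],
      Matrix.isUnit_det_J (Fin m) F⟩ with ha
  set b : Forms F (-1 : F) (Fin m ⊕ Fin m) :=
    ⟨M₀, by rw [hM, neg_smul, one_smul], hu⟩ with hb
  have h1 : Quotient.mk (formSetoid (-1 : F) (Fin m ⊕ Fin m)) a =
      Quotient.mk (formSetoid (-1 : F) (Fin m ⊕ Fin m)) b := Subsingleton.elim _ _
  exact Quotient.exact h1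

/-- PACKAGE Y1. -/
theorem card_classes_eq_card_orbits
    (hF2 : ∀ (ι : Type) [Fintype ι] [DecidableEq ι],
      Nat.card (Quotient (formSetoid (-1 : F) ι)) = if Even (Fintype.card ι) then 1 else 0)
    {t : ℕ} (d : Fin t → ℕ) {m : ℕ} (e : Idx d ≃ Fin m ⊕ Fin m) :
    Nat.card {C : ConjClasses ↥(Matrix.symplecticGroup (Fin m) F) //
      ∃ g : Matrix.symplecticGroup (Fin m) F, ConjClasses.mk g = C ∧
        IsConj (Matrix.reindex e e (Cfsg.jordanTypeMatrix d F))
          (g : Matrix (Fin m ⊕ Fin m) (Fin m ⊕ Fin m) F)} =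
      Nat.card (Quotient (invSetoid F d)) := by
  rw [card_quotient_invSetoid_eq d e]
  exact (card_invSetoidG_eq_classes _ (fun M₀ h1 h2 => key_fact_of_F2 hF2 M₀ h1 h2)).symm

/-- PACKAGE Y2. -/
theorem nonempty_invForms_of_isConj {t : ℕ} (d : Fin t → ℕ) {m : ℕ}
    (e : Idx d ≃ Fin m ⊕ Fin m) (g : Matrix.symplecticGroup (Fin m) F)
    (hg : IsConj (Matrix.reindex e e (Cfsg.jordanTypeMatrix d F))
      (g : Matrix (Fin m ⊕ Fin m) (Fin m ⊕ Fin m) F)) : Nonempty (InvForms F d) := by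
  obtain ⟨M, -⟩ := relY_surj _ g hg
  rw [jordanTypeMatrix_eq] at M
  exact ⟨(reindexInvForms e (1 + Nmat (F := F) d)).symm M⟩

theorem even_sum_of_odd_even {t : ℕ} (d : Fin t → ℕ)
    (h : ∀ j : ℕ, Odd j → Even (Finset.univ.filter (fun k : Fin t => d k = j)).card) :
    Even (∑ k, d k) := by
  have h1 := sum_fib d (fun i => i)
  rw [h1]
  apply Finset.even_sum
  intro i _
  rcases Nat.even_or_odd i with he | ho
  · exact he.mul_left _
  · exact (h i ho).mul_right _

open Classical in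
/-- PACKAGE X in final form. -/
theorem card_orbits (h2 : (2 : F) ≠ 0)
    (hF1 : ∀ (ι : Type) [Fintype ι] [DecidableEq ι],
      Nat.card (Quotient (formSetoid (1 : F) ι)) = if Fintype.card ι = 0 then 1 else 2)
    (hF2 : ∀ (ι : Type) [Fintype ι] [DecidableEq ι],
      Nat.card (Quotient (formSetoid (-1 : F) ι)) = if Even (Fintype.card ι) then 1 else 0)
    {t : ℕ} (d : Fin t → ℕ) (hd : ∀ k, 1 ≤ d k) :
    Nat.card (Quotient (invSetoid F d)) =
      if (∀ j : ℕ, Odd j → Even (Finset.univ.filter (fun k : Fin t => d k = j)).card) then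
        2 ^ ((Finset.univ.image d).filter (fun j : ℕ => Even j)).card else 0 := by
  by_cases hc : ∀ j : ℕ, Odd j → Even (Finset.univ.filter (fun k : Fin t => d k = j)).card
  · rw [if_pos hc]
    obtain ⟨m, hm⟩ := even_sum_of_odd_even d hc
    have hsum : ∑ k, d k = 2 * m := by rw [hm, two_mul]
    obtain ⟨e, A, hA⟩ := (Cfsg.Agent.S2582.result (F := F) d hd hsum).2 hc
    obtain ⟨M₀⟩ := nonempty_invForms_of_isConj d e A hA
    exact card_orbits_of_nonempty d hd h2 hF1 hF2 M₀
  · rw [if_neg hc]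
    push Not at hc
    obtain ⟨j, hj, hodd⟩ := hc
    have : IsEmpty (InvForms F d) :=
      ⟨fun M => hodd (even_mult_of_invForm d hd h2 M j hj)⟩
    have : IsEmpty (Quotient (invSetoid F d)) := by
      constructor
      intro q
      induction q using Quotient.inductionOn with
      | _ M => exact IsEmpty.false M
    exact Nat.card_of_isEmpty

end Cfsg.Agent.Lib.Helper5.SpU
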