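import Mathlib
import Cfsg.Agent.Lib.Helper5.JordanType
import Cfsg.Agent.Lib.Helper5.UnipForm4
import Cfsg.Agent.Lib.Helper5.UnipCent1

set_option autoImplicit false

/-!
Jordan types of nilpotent matrices over an arbitrary finite index type (for S2676).
-/

namespace Cfsg.Agent.Lib.Helper5.SpU

open Module Cfsg.Agent.Lib.Helper5 Cfsg.Agent.Lib.Helper5.UnipForm

variable {F : Type*} [Field F] {ι : Type*} [Fintype ι] [DecidableEq ι]

/-- Kernel dimension of the `k`-th power of a matrix. -/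
noncomputable def kd (A : Matrix ι ι F) (k : ℕ) : ℕ :=
  finrank F (LinearMap.ker ((Matrix.toLin' A) ^ k))

/-- the multiset `s` is the Jordan type of the nilpotent matrix `A`. -/
def HasT (A : Matrix ι ι F) (s : Multiset ℕ) : Prop :=
  ∀ k, kd A k = (s.map (fun a => min a k)).sum

theorem kd_eq_iff (A : Matrix ι ι F) (k : ℕ) : kd A k = Fintype.card ι ↔ A ^ k = 0 := by
  unfold kd
  constructor
  · intro h
    have h1 : LinearMap.ker ((Matrix.toLin' A) ^ k) = ⊤ := by
      apply Submodule.eq_top_of_finrank_eq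
      rw [h, Module.finrank_fintype_fun_eq_card]
    rw [LinearMap.ker_eq_top, ← Matrix.toLin'_pow] at h1
    have h2 : Matrix.toLin' (A ^ k) = Matrix.toLin' (0 : Matrix ι ι F) := by
      rw [h1, map_zero]
    exact Matrix.toLin'.injective h2
  · intro h
    rw [← Matrix.toLin'_pow, h, map_zero, LinearMap.ker_zero, finrank_top,
      Module.finrank_fintype_fun_eq_card]

theorem exists_hasT (A : Matrix ι ι F) (k : ℕ) (hA : A ^ k = 0) (n : ℕ)
    (hn : Fintype.card ι = n) : ∃ μ : Nat.Partition n, HasT A μ.parts := by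
  have hN : (Matrix.toLin' A) ^ k = 0 := by
    rw [← Matrix.toLin'_pow, hA, map_zero]
  obtain ⟨κ, _, e, he, hd⟩ := exists_jordanDecomp (Matrix.toLin' A) k hN
  refine ⟨⟨(Finset.univ : Finset κ).val.map e, ?_, ?_⟩, ?_⟩
  · intro a ha
    obtain ⟨i, _, rfl⟩ := Multiset.mem_map.1 ha
    exact he i
  · have := hd.sum_eq
    rw [Module.finrank_fintype_fun_eq_card, hn] at this
    exact this
  · intro j
    exact hd.finrank_ker_pow' j

theorem HasT.unique {A : Matrix ι ι F} {n : ℕ} {μ ν : Nat.Partition n}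
    (h1 : HasT A μ.parts) (h2 : HasT A ν.parts) : μ = ν := by
  apply Nat.Partition.ext
  apply multiset_eq_of_sum_min_eq
  · intro a ha; exact μ.parts_pos ha
  · intro a ha; exact ν.parts_pos ha
  · intro k
    rw [← h1 k, ← h2 k]

theorem HasT.pow_eq_zero_iff {A : Matrix ι ι F} {s : Multiset ℕ} (h : HasT A s)
    (hs : s.sum = Fintype.card ι) (k : ℕ) : A ^ k = 0 ↔ ∀ a ∈ s, a ≤ k := by
  rw [← kd_eq_iff, h k, ← sum_min_eq_sum_iff, hs]

theorem kd_conj (A A' P : Matrix ι ι F) (hP : IsUnit P.det) (h : P * A = A' * P) (k : ℕ) :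
    kd A k = kd A' k := by
  obtain ⟨Q, hPQ, hQP⟩ : ∃ Q : Matrix ι ι F, P * Q = 1 ∧ Q * P = 1 := by
    have := (Matrix.isUnit_iff_isUnit_det P).2 hP
    obtain ⟨u, rfl⟩ := this
    exact ⟨(u⁻¹ : (Matrix ι ι F)ˣ).val, u.mul_inv, u.inv_mul⟩
  unfold kd
  apply finrank_ker_pow_eq_of_intertwine (Matrix.toLin'OfInv hQP hPQ)
  intro u
  show Matrix.toLin' P (Matrix.toLin' A u) = Matrix.toLin' A' (Matrix.toLin' P u)
  rw [← Matrix.toLin'_mul_apply, ← Matrix.toLin'_mul_apply, h]

theorem kd_sub_one_conj (A A' P : Matrix ι ι F) (hP : IsUnit P.det) (h : P * A = A' * P)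
    (k : ℕ) : kd (A - 1) k = kd (A' - 1) k := by
  apply kd_conj _ _ P hP
  rw [mul_sub, sub_mul, h, mul_one, one_mul]

/-- the Jordan matrix has the expected type. -/
theorem hasT_reindex_jordanType {t : ℕ} (d : Fin t → ℕ) (e : ((k : Fin t) × Fin (d k)) ≃ ι)
    (s : Multiset ℕ) (hs : (Finset.univ : Finset (Fin t)).val.map d = s) :
    HasT (Matrix.reindex e e (Cfsg.jordanTypeMatrix d F) - 1) s := by
  intro j
  unfold kd
  rw [finrank_ker_reindex_jordanType d e j, ← hs, Multiset.map_map]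
  rfl

theorem sub_one_pow_char {p : ℕ} [Fact p.Prime] [CharP F p] (A : Matrix ι ι F) :
    (A - 1) ^ p = A ^ p - 1 := by
  rcases isEmpty_or_nonempty ι with hι | hι
  · exact Subsingleton.elim _ _
  · rw [sub_pow_char_of_commute p (Commute.one_right _), one_pow]

end Cfsg.Agent.Lib.Helper5.SpU
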