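import Mathlib
import Cfsg.Agent.Lib.Helper5.SpZ1

set_option autoImplicit false

/-!
Package Z of S2676: the classes of elements of order `p` of the symplectic group are partitioned
by Jordan type.
-/

namespace Cfsg.Agent.Lib.Helper5.SpU

open Matrix Cfsg.Agent.Lib.Helper5.UnipCent Cfsg.Agent.Lib.Helper5.UnipForm

variable {F : Type*} [Field F]

theorem card_sum_fin (m : ℕ) : Fintype.card (Fin m ⊕ Fin m) = 2 * m := by
  rw [Fintype.card_sum, Fintype.card_fin, two_mul]

theorem nilp_of_hasT {ι : Type*} [Fintype ι] [DecidableEq ι] (A : Matrix ι ι F) {n : ℕ}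
    (hn : Fintype.card ι = n) (μ : Nat.Partition n) (h : HasT A μ.parts) : A ^ n = 0 := by
  rw [h.pow_eq_zero_iff (by rw [μ.parts_sum, hn])]
  intro a ha
  exact Nat.Partition.le_of_mem_parts ha

/-- order `p` criterion. -/
theorem orderOf_eq_iff_sp {p : ℕ} [Fact p.Prime] [CharP F p] {m : ℕ}
    (g : Matrix.symplecticGroup (Fin m) F) (μ : Nat.Partition (2 * m))
    (hμ : HasT (g.1 - 1) μ.parts) :
    orderOf g = p ↔ (∀ a ∈ μ.parts, a ≤ p) ∧ ¬ (∀ a ∈ μ.parts, a ≤ 1) := by
  have hp : p.Prime := Fact.out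
  have hs : μ.parts.sum = Fintype.card (Fin m ⊕ Fin m) := by rw [μ.parts_sum, card_sum_fin]
  rw [← hμ.pow_eq_zero_iff hs, ← hμ.pow_eq_zero_iff hs, pow_one, orderOf_eq_prime_iff,
    sub_one_pow_char, sub_eq_zero, sub_eq_zero]
  constructor
  · rintro ⟨h2, h3⟩
    refine ⟨?_, fun h4 => h3 (Subtype.ext h4)⟩
    have := congrArg Subtype.val h2
    rwa [SubmonoidClass.coe_pow] at this
  · rintro ⟨h2, h3⟩
    refine ⟨?_, fun h4 => h3 (congrArg Subtype.val h4)⟩
    apply Subtype.ext
    rw [SubmonoidClass.coe_pow]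
    exact h2

theorem hasT_of_isConj_sp {m : ℕ} (g g' : Matrix.symplecticGroup (Fin m) F) (h : IsConj g g')
    (s : Multiset ℕ) (hs : HasT (g.1 - 1) s) : HasT (g'.1 - 1) s := by
  obtain ⟨c, hc⟩ := isConj_iff.1 h
  intro k
  rw [← hs k]
  symm
  apply kd_sub_one_conj _ _ c.1 (SymplecticGroup.symplectic_det c.2)
  have h1 : c * g = g' * c := by rw [← hc]; group
  exact congrArg Subtype.val h1

theorem exists_rep {m : ℕ} (μ : Nat.Partition (2 * m)) :
    ∃ (t : ℕ) (d : Fin t → ℕ) (_ : ∀ k, 1 ≤ d k) (_ : Idx d ≃ Fin m ⊕ Fin m),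
      (Finset.univ : Finset (Fin t)).val.map d = μ.parts := by
  obtain ⟨l, hl⟩ := Quot.exists_rep μ.parts
  have hl' : (l : Multiset ℕ) = μ.parts := hl
  have hmap : (Finset.univ : Finset (Fin l.length)).val.map (fun i => l.get i) = μ.parts := by
    rw [Fin.univ_val_map, List.ofFn_get, hl']
  have hsum : ∑ i : Fin l.length, l.get i = 2 * m := by
    have : ∑ i : Fin l.length, l.get i =
        ((Finset.univ : Finset (Fin l.length)).val.map (fun i => l.get i)).sum := rfl
    rw [this, hmap, μ.parts_sum]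
  have hcard : Fintype.card (Idx (fun i : Fin l.length => l.get i)) =
      Fintype.card (Fin m ⊕ Fin m) := by
    rw [Fintype.card_sigma, card_sum_fin, ← hsum]
    refine Finset.sum_congr rfl fun i _ => ?_
    rw [Fintype.card_fin]
  refine ⟨l.length, fun i => l.get i, ?_, Fintype.equivOfCardEq hcard, hmap⟩
  intro k
  apply μ.parts_pos
  rw [← hl']
  exact Multiset.mem_coe.2 (List.get_mem l k)

/-- PACKAGE Z. -/
theorem card_order_p_classes_eq_sum [Fintype F] {p : ℕ} [Fact p.Prime] [CharP F p] (m : ℕ)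
    (N : Nat.Partition (2 * m) → ℕ)
    (hN : ∀ (μ : Nat.Partition (2 * m)) (t : ℕ) (d : Fin t → ℕ) (_ : ∀ k, 1 ≤ d k)
      (e : Idx d ≃ Fin m ⊕ Fin m), (Finset.univ : Finset (Fin t)).val.map d = μ.parts →
      Nat.card {C : ConjClasses ↥(Matrix.symplecticGroup (Fin m) F) //
        ∃ g : Matrix.symplecticGroup (Fin m) F, ConjClasses.mk g = C ∧
          IsConj (Matrix.reindex e e (Cfsg.jordanTypeMatrix d F))
            (g : Matrix (Fin m ⊕ Fin m) (Fin m ⊕ Fin m) F)} = N μ) :
    Nat.card {C : ConjClasses ↥(Matrix.symplecticGroup (Fin m) F) //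
      ∃ g : Matrix.symplecticGroup (Fin m) F, ConjClasses.mk g = C ∧ orderOf g = p} =
      ∑ μ ∈ Finset.univ.filter (fun μ : Nat.Partition (2 * m) =>
        (∀ a ∈ μ.parts, a ≤ p) ∧ ¬ (∀ a ∈ μ.parts, a ≤ 1)), N μ := by
  classical
  have hp : p.Prime := Fact.out
  have hcardI := card_sum_fin m
  -- every class of elements of order `p` has a type
  have hex : ∀ C : {C : ConjClasses ↥(Matrix.symplecticGroup (Fin m) F) //
      ∃ g : Matrix.symplecticGroup (Fin m) F, ConjClasses.mk g = C ∧ orderOf g = p},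
      ∃ μ : Nat.Partition (2 * m), ∃ g : Matrix.symplecticGroup (Fin m) F,
        ConjClasses.mk g = C.1 ∧ orderOf g = p ∧ HasT (g.1 - 1) μ.parts := by
    rintro ⟨C, g, hgC, hg⟩
    have hnil : (g.1 - 1) ^ p = 0 := by
      rw [sub_one_pow_char, sub_eq_zero, ← SubmonoidClass.coe_pow, ← hg, pow_orderOf_eq_one]
      rfl
    obtain ⟨μ, hμ⟩ := exists_hasT (g.1 - 1) p hnil (2 * m) hcardI
    exact ⟨μ, g, hgC, hg, hμ⟩
  choose T hT using hex
  -- characterisation of the type
  have hchar : ∀ (C : {C : ConjClasses ↥(Matrix.symplecticGroup (Fin m) F) //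
      ∃ g : Matrix.symplecticGroup (Fin m) F, ConjClasses.mk g = C ∧ orderOf g = p})
      (μ : Nat.Partition (2 * m)),
      T C = μ ↔ ∃ g : Matrix.symplecticGroup (Fin m) F, ConjClasses.mk g = C.1 ∧
        HasT (g.1 - 1) μ.parts := by
    intro C μ
    obtain ⟨g, hgC, hg, hgT⟩ := hT C
    constructor
    · rintro rfl
      exact ⟨g, hgC, hgT⟩
    · rintro ⟨g', hg'C, hg'T⟩
      have hconj : IsConj g' g := by
        rw [← ConjClasses.mk_eq_mk_iff_isConj, hg'C, hgC]
      exact (hgT.unique (hasT_of_isConj_sp g' g hconj _ hg'T))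
  -- the fibres
  have hfib : ∀ μ : Nat.Partition (2 * m),
      Nat.card {C : {C : ConjClasses ↥(Matrix.symplecticGroup (Fin m) F) //
        ∃ g : Matrix.symplecticGroup (Fin m) F, ConjClasses.mk g = C ∧ orderOf g = p} // T C = μ} =
        if ((∀ a ∈ μ.parts, a ≤ p) ∧ ¬ (∀ a ∈ μ.parts, a ≤ 1)) then N μ else 0 := by
    intro μ
    by_cases hgood : (∀ a ∈ μ.parts, a ≤ p) ∧ ¬ (∀ a ∈ μ.parts, a ≤ 1)
    · rw [if_pos hgood]
      obtain ⟨t, d, hd, e, hmap⟩ := exists_rep μ
      rw [← hN μ t d hd e hmap]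
      have hJT : HasT (Matrix.reindex e e (Cfsg.jordanTypeMatrix d F) - 1) μ.parts :=
        hasT_reindex_jordanType d e μ.parts hmap
      have hJnil : (Matrix.toLin' (Matrix.reindex e e (Cfsg.jordanTypeMatrix d F) - 1)) ^ (2 * m)
          = 0 := by
        rw [← Matrix.toLin'_pow, nilp_of_hasT _ hcardI μ hJT, map_zero]
      refine Nat.card_congr ?_
      exact
        { toFun := fun C => ⟨C.1.1, by
            obtain ⟨g, hgC, hgT⟩ := (hchar C.1 μ).1 C.2
            refine ⟨g, hgC, ?_⟩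
            have hgnil : (Matrix.toLin' (g.1 - 1)) ^ (2 * m) = 0 := by
              rw [← Matrix.toLin'_pow, nilp_of_hasT _ hcardI μ hgT, map_zero]
            apply isConj_of_ker_dims _ _ (2 * m) (2 * m) hJnil hgnil
            intro j
            exact (hJT j).trans (hgT j).symm⟩
          invFun := fun C => ⟨⟨C.1, by
            obtain ⟨g, hgC, hconj⟩ := C.2
            have hgT : HasT (g.1 - 1) μ.parts := by
              intro j
              rw [← hJT j]
              symm
              obtain ⟨c, hc⟩ := hconj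
              exact kd_sub_one_conj _ _ c.1 ((Matrix.isUnit_iff_isUnit_det _).1 c.isUnit) hc j
            exact ⟨g, hgC, (orderOf_eq_iff_sp g μ hgT).2 hgood⟩⟩, by
            obtain ⟨g, hgC, hconj⟩ := C.2
            have hgT : HasT (g.1 - 1) μ.parts := by
              intro j
              rw [← hJT j]
              symm
              obtain ⟨c, hc⟩ := hconj
              exact kd_sub_one_conj _ _ c.1 ((Matrix.isUnit_iff_isUnit_det _).1 c.isUnit) hc j
            exact (hchar _ μ).2 ⟨g, hgC, hgT⟩⟩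
          left_inv := fun C => Subtype.ext (Subtype.ext rfl)
          right_inv := fun C => Subtype.ext rfl }
    · rw [if_neg hgood]
      have : IsEmpty {C : {C : ConjClasses ↥(Matrix.symplecticGroup (Fin m) F) //
          ∃ g : Matrix.symplecticGroup (Fin m) F, ConjClasses.mk g = C ∧ orderOf g = p} //
          T C = μ} := by
        constructor
        rintro ⟨C, hC⟩
        obtain ⟨g, hgC, hg, hgT⟩ := hT C
        rw [hC] at hgT
        exact hgood ((orderOf_eq_iff_sp g μ hgT).1 hg)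
      exact Nat.card_of_isEmpty
  rw [Nat.card_congr (Equiv.sigmaFiberEquiv T).symm, Nat.card_sigma,
    Finset.sum_congr rfl (fun μ _ => hfib μ), Finset.sum_filter]

end Cfsg.Agent.Lib.Helper5.SpU
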