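import Mathlib
import Cfsg.Agent.Lib.Helper5.SpY3
import Cfsg.Agent.Lib.Helper5.SpZ2
import Cfsg.Agent.Lib.Helper3.SymForms
import Cfsg.Agent.Lib.Helper7.SkewForms
import Cfsg.Agent.S2570

set_option autoImplicit false

/-!
Final assembly for S2676.
-/

namespace Cfsg.Agent.Lib.Helper5.SpU

open Matrix Cfsg.Agent.Lib.Helper5.UnipCent

variable {F : Type*} [Field F] [Fintype F]

/-- the number of classes of the symplectic group in the similarity class of a Jordan matrix. -/
theorem card_classes_of_type (h2 : (2 : F) ≠ 0) {m : ℕ} (μ : Nat.Partition (2 * m)) (t : ℕ)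
    (d : Fin t → ℕ) (hd : ∀ k, 1 ≤ d k) (e : Idx d ≃ Fin m ⊕ Fin m)
    (hmap : (Finset.univ : Finset (Fin t)).val.map d = μ.parts)
    [Decidable (∀ j : ℕ, Odd j → Even (μ.parts.count j))] :
    Nat.card {C : ConjClasses ↥(Matrix.symplecticGroup (Fin m) F) //
      ∃ g : Matrix.symplecticGroup (Fin m) F, ConjClasses.mk g = C ∧
        IsConj (Matrix.reindex e e (Cfsg.jordanTypeMatrix d F))
          (g : Matrix (Fin m ⊕ Fin m) (Fin m ⊕ Fin m) F)} =
      if (∀ j : ℕ, Odd j → Even (μ.parts.count j)) then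
        2 ^ ((μ.parts.toFinset.filter (fun j : ℕ => Even j)).card) else 0 := by
  have hF1 : ∀ (ι : Type) [Fintype ι] [DecidableEq ι],
      Nat.card (Quotient (formSetoid (1 : F) ι)) = if Fintype.card ι = 0 then 1 else 2 :=
    fun ι _ _ => Cfsg.Agent.Lib.Helper3.SymForms.card_forms_one h2 ι
  have hF2 : ∀ (ι : Type) [Fintype ι] [DecidableEq ι],
      Nat.card (Quotient (formSetoid (-1 : F) ι)) = if Even (Fintype.card ι) then 1 else 0 :=
    fun ι _ _ => Cfsg.Agent.Lib.Helper7.SkewForms.card_forms_neg_one h2 ι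
  rw [card_classes_eq_card_orbits hF2 d e, card_orbits h2 hF1 hF2 d hd]
  have hcount : ∀ j : ℕ, (Finset.univ.filter (fun k : Fin t => d k = j)).card =
      μ.parts.count j := by
    intro j
    rw [← hmap, Multiset.count_map, Finset.card_def, Finset.filter_val]
    congr 1
    apply Multiset.filter_congr
    intro k _
    exact eq_comm
  have himage : Finset.univ.image d = μ.parts.toFinset := by
    rw [← hmap]
    rfl
  have hiff : (∀ j : ℕ, Odd j → Even (Finset.univ.filter (fun k : Fin t => d k = j)).card) ↔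
      (∀ j : ℕ, Odd j → Even (μ.parts.count j)) := by
    refine forall_congr' fun j => ?_
    rw [hcount j]
  by_cases hc : ∀ j : ℕ, Odd j → Even (μ.parts.count j)
  · rw [if_pos hc, if_pos (hiff.2 hc), himage]
  · rw [if_neg hc, if_neg (fun h => hc (hiff.1 h))]

theorem count_ones {n : ℕ} (μ₀ : Nat.Partition n) (h : ∀ a ∈ μ₀.parts, a ≤ 1) :
    μ₀.parts = Multiset.replicate n 1 := by
  have hall : ∀ a ∈ μ₀.parts, a = 1 := by
    intro a ha
    have := μ₀.parts_pos ha
    have := h a ha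
    omega
  rw [Multiset.eq_replicate]
  refine ⟨?_, hall⟩
  have h3 := Multiset.eq_replicate_card.2 hall
  have h4 := μ₀.parts_sum
  rw [h3, Multiset.sum_replicate, smul_eq_mul, mul_one] at h4
  exact h4

/-- the arithmetic of the final sum. -/
theorem final_sum (p : ℕ) (hp : 1 ≤ p) (m : ℕ)
    [∀ μ : Nat.Partition (2 * m), Decidable (∀ j : ℕ, Odd j → Even (μ.parts.count j))]
    [DecidablePred fun μ : Nat.Partition (2 * m) =>
      (∀ a ∈ μ.parts, a ≤ p) ∧ ∀ j : ℕ, Odd j → Even (μ.parts.count j)] :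
    (∑ μ ∈ Finset.univ.filter (fun μ : Nat.Partition (2 * m) =>
        (∀ a ∈ μ.parts, a ≤ p) ∧ ¬ (∀ a ∈ μ.parts, a ≤ 1)),
      if (∀ j : ℕ, Odd j → Even (μ.parts.count j)) then
        2 ^ ((μ.parts.toFinset.filter (fun j : ℕ => Even j)).card) else 0) =
    (∑ μ ∈ Finset.univ.filter (fun μ : Nat.Partition (2 * m) =>
        (∀ a ∈ μ.parts, a ≤ p) ∧ ∀ j : ℕ, Odd j → Even (μ.parts.count j)),
      2 ^ ((μ.parts.toFinset.filter (fun j : ℕ => Even j)).card)) - 1 := by
  classical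
  obtain ⟨μ₀, hμ₀⟩ := Cfsg.Agent.S2570.exists_ones (2 * m)
  have hparts := count_ones μ₀ hμ₀
  have hP₀ : ∀ a ∈ μ₀.parts, a ≤ p := fun a ha => (hμ₀ a ha).trans hp
  have hO₀ : ∀ j : ℕ, Odd j → Even (μ₀.parts.count j) := by
    intro j hj
    rw [hparts, Multiset.count_replicate]
    split_ifs
    · exact ⟨m, by ring⟩
    · exact ⟨0, rfl⟩
  have hval : 2 ^ ((μ₀.parts.toFinset.filter (fun j : ℕ => Even j)).card) = 1 := by
    have : μ₀.parts.toFinset.filter (fun j : ℕ => Even j) = ∅ := by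
      rw [Finset.filter_eq_empty_iff]
      intro j hj
      rw [Multiset.mem_toFinset, hparts] at hj
      rw [Multiset.eq_of_mem_replicate hj]
      exact Nat.not_even_one
    rw [this, Finset.card_empty, pow_zero]
  have key : (∑ μ ∈ Finset.univ.filter (fun μ : Nat.Partition (2 * m) =>
        (∀ a ∈ μ.parts, a ≤ p) ∧ ∀ j : ℕ, Odd j → Even (μ.parts.count j)),
      2 ^ ((μ.parts.toFinset.filter (fun j : ℕ => Even j)).card)) =
      (∑ μ ∈ Finset.univ.filter (fun μ : Nat.Partition (2 * m) =>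
        (∀ a ∈ μ.parts, a ≤ p) ∧ ¬ (∀ a ∈ μ.parts, a ≤ 1)),
      if (∀ j : ℕ, Odd j → Even (μ.parts.count j)) then
        2 ^ ((μ.parts.toFinset.filter (fun j : ℕ => Even j)).card) else 0) + 1 := by
    rw [Finset.sum_filter, Finset.sum_filter]
    have hterm : ∀ μ : Nat.Partition (2 * m),
        (if ((∀ a ∈ μ.parts, a ≤ p) ∧ ∀ j : ℕ, Odd j → Even (μ.parts.count j)) then
          2 ^ ((μ.parts.toFinset.filter (fun j : ℕ => Even j)).card) else 0) =
        (if ((∀ a ∈ μ.parts, a ≤ p) ∧ ¬ (∀ a ∈ μ.parts, a ≤ 1)) then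
          (if (∀ j : ℕ, Odd j → Even (μ.parts.count j)) then
            2 ^ ((μ.parts.toFinset.filter (fun j : ℕ => Even j)).card) else 0) else 0) +
        (if μ = μ₀ then 1 else 0) := by
      intro μ
      by_cases hμ : μ = μ₀
      · subst hμ
        rw [if_pos ⟨hP₀, hO₀⟩, if_neg (fun h => h.2 hμ₀), if_pos rfl, hval]
      · rw [if_neg hμ, add_zero]
        have hno : ¬ (∀ a ∈ μ.parts, a ≤ 1) := fun h =>
          hμ (Cfsg.Agent.S2570.ones_unique μ μ₀ h hμ₀)
        by_cases hP : ∀ a ∈ μ.parts, a ≤ p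
        · by_cases hO : ∀ j : ℕ, Odd j → Even (μ.parts.count j)
          · rw [if_pos ⟨hP, hO⟩, if_pos ⟨hP, hno⟩, if_pos hO]
          · rw [if_neg (fun h => hO h.2), if_pos ⟨hP, hno⟩, if_neg hO]
        · rw [if_neg (fun h => hP h.1), if_neg (fun h => hP h.1)]
    rw [Finset.sum_congr rfl (fun μ _ => hterm μ), Finset.sum_add_distrib,
      Finset.sum_ite_eq' Finset.univ μ₀ (fun _ => 1), if_pos (Finset.mem_univ _)]
  rw [key, Nat.add_sub_cancel]

end Cfsg.Agent.Lib.Helper5.SpU
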