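import Mathlib
import Cfsg.Prelude.Def_GeometricClasses
import Cfsg.Prelude.Def_ClassicalGeometry
import Cfsg.Agent.Lib.Helper5.OrthCls5
import Cfsg.Agent.Lib.Helper5.O2Sp
import Cfsg.Agent.Lib.Helper5.IsoTransfer

set_option autoImplicit false

/-!
Quadratic forms on the standard symplectic space with polar form the symplectic form:
transfer between conjugates in `Sp` lying in the orthogonal group and invariant forms.
-/

namespace Cfsg.Agent.Lib.Helper5.SpQf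

open Matrix Module Cfsg.Agent.Lib.Helper5.O2Sp Cfsg.Agent.Lib.Helper5.OrthCls
  Cfsg.Agent.Lib.Helper1.SpBasic

variable {F : Type*} [Field F] {d : ℕ}

theorem isPlus_iff_geo (Qb : QuadraticForm F (Fin d ⊕ Fin d → F)) :
    IsPlus Qb ↔ Cfsg.Geo.IsPlusTypeOn (⇑Qb) ⊤ := by
  constructor
  · rintro ⟨U, hU, hd⟩
    exact ⟨U, le_top, hU, by rw [hd, finrank_top]⟩
  · rintro ⟨U, -, hU, hd⟩
    exact ⟨U, hU, by rw [hd, finrank_top]⟩

theorem sympForm_single (i : Fin d) :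
    Cfsg.sympForm d F (Pi.single (Sum.inr i) 1) (Pi.single (Sum.inl i) 1) = 1 := by
  unfold Cfsg.sympForm
  rw [single_dotProduct, one_mul]
  unfold Matrix.J
  rw [Matrix.mulVec_single, MulOpposite.op_one, one_smul]
  simp [Matrix.col, Matrix.fromBlocks_apply₂₁]

theorem mem_spGL_iff (g : GL (Fin d ⊕ Fin d) F) :
    g ∈ Cfsg.spGL d F ↔ ∀ u v, Cfsg.sympForm d F ((g : Matrix _ _ F) *ᵥ u)
      ((g : Matrix _ _ F) *ᵥ v) = Cfsg.sympForm d F u v := Iff.rfl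

theorem mem_sim_iff (Q : (Fin d ⊕ Fin d → F) → F) (g : GL (Fin d ⊕ Fin d) F) :
    g ∈ Cfsg.Geo.quadSimilarityGroup Q ↔
      ∃ c : Fˣ, ∀ v, Q ((g : Matrix _ _ F) *ᵥ v) = (c : F) * Q v := Iff.rfl

/-- a symplectic similarity of `Q` is an isometry. -/
theorem iso_of_sim (hd : 1 ≤ d) {Qb : QuadraticForm F (Fin d ⊕ Fin d → F)} (hP : PolSymp Qb)
    (x : GL (Fin d ⊕ Fin d) F) (hx : x ∈ Cfsg.spGL d F)
    (hs : x ∈ Cfsg.Geo.quadSimilarityGroup (⇑Qb)) (v : Fin d ⊕ Fin d → F) :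
    Qb ((x : Matrix _ _ F) *ᵥ v) = Qb v := by
  obtain ⟨c, hc⟩ := hs
  have h1 : ∀ u w, Cfsg.sympForm d F u w = (c : F) * Cfsg.sympForm d F u w := by
    intro u w
    have := (mem_spGL_iff x).1 hx u w
    rw [← hP, ← Matrix.mulVec_add, hc, hc, hc] at this
    rw [← hP] at this ⊢
    linear_combination -this
  have h2 := h1 (Pi.single (Sum.inr ⟨0, hd⟩) 1) (Pi.single (Sum.inl ⟨0, hd⟩) 1)
  rw [sympForm_single, mul_one] at h2
  rw [hc, ← h2, one_mul]

/-- the linear equivalence given by an invertible matrix -/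
noncomputable def glLin (g : GL (Fin d ⊕ Fin d) F) :
    (Fin d ⊕ Fin d → F) ≃ₗ[F] (Fin d ⊕ Fin d → F) :=
  (Matrix.GeneralLinearGroup.toLin g).toLinearEquiv

theorem glLin_apply (g : GL (Fin d ⊕ Fin d) F) (v : Fin d ⊕ Fin d → F) :
    glLin g v = (g : Matrix _ _ F) *ᵥ v := by
  simp [glLin, Matrix.GeneralLinearGroup.toLin]

theorem polSymp_comp {Qb : QuadraticForm F (Fin d ⊕ Fin d → F)} (hP : PolSymp Qb)
    (g : GL (Fin d ⊕ Fin d) F) (hg : g ∈ Cfsg.spGL d F) :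
    PolSymp (Qb.comp (glLin g).toLinearMap) := by
  intro u v
  simp only [QuadraticMap.comp_apply, LinearEquiv.coe_coe, map_add]
  rw [hP, glLin_apply, glLin_apply]
  exact (mem_spGL_iff g).1 hg u v

theorem isPlus_comp (Qb : QuadraticForm F (Fin d ⊕ Fin d → F))
    (g : (Fin d ⊕ Fin d → F) ≃ₗ[F] (Fin d ⊕ Fin d → F)) :
    IsPlus (Qb.comp g.toLinearMap) ↔ IsPlus Qb :=
  isPlus_iff_of_isometry g (fun _ => rfl)

theorem even_finrank : Even (finrank F (Fin d ⊕ Fin d → F)) := by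
  rw [Module.finrank_fintype_fun_eq_card, Fintype.card_sum, Fintype.card_fin]
  exact ⟨d, rfl⟩

/-- the matrix in `GL` of a linear equivalence -/
noncomputable def linGL (h : (Fin d ⊕ Fin d → F) ≃ₗ[F] (Fin d ⊕ Fin d → F)) :
    GL (Fin d ⊕ Fin d) F :=
  Matrix.GeneralLinearGroup.toLin.symm (LinearMap.GeneralLinearGroup.ofLinearEquiv h)

theorem linGL_mulVec (h : (Fin d ⊕ Fin d → F) ≃ₗ[F] (Fin d ⊕ Fin d → F))
    (v : Fin d ⊕ Fin d → F) : ((linGL h : GL (Fin d ⊕ Fin d) F) : Matrix _ _ F) *ᵥ v = h v := by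
  rw [← glLin_apply]
  simp [glLin, linGL]

/-- Conjugates in `Sp` lying in the similarity group of `Q` correspond to invariant forms of the
same type with polar form the symplectic form. -/
theorem conj_mem_iff [Finite F] (hd : 1 ≤ d) {Qb : QuadraticForm F (Fin d ⊕ Fin d → F)}
    (hP : PolSymp Qb) (x : GL (Fin d ⊕ Fin d) F) (hx : x ∈ Cfsg.spGL d F) :
    (∃ g ∈ Cfsg.spGL d F, g⁻¹ * x * g ∈ Cfsg.Geo.quadSimilarityGroup (⇑Qb)) ↔
      ∃ Q'' : QuadraticForm F (Fin d ⊕ Fin d → F), PolSymp Q'' ∧ (IsPlus Q'' ↔ IsPlus Qb) ∧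
        ∀ v, Q'' ((x : Matrix _ _ F) *ᵥ v) = Q'' v := by
  constructor
  · rintro ⟨g, hg, hs⟩
    have hginv : g⁻¹ ∈ Cfsg.spGL d F := inv_mem hg
    refine ⟨Qb.comp (glLin g⁻¹).toLinearMap, polSymp_comp hP _ hginv, isPlus_comp _ _, ?_⟩
    intro v
    have hmem : g⁻¹ * x * g ∈ Cfsg.spGL d F := mul_mem (mul_mem hginv hx) hg
    have h1 := iso_of_sim hd hP _ hmem hs (((g⁻¹ : GL _ F) : Matrix _ _ F) *ᵥ v)
    simp only [QuadraticMap.comp_apply, LinearEquiv.coe_coe, glLin_apply]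
    rw [← h1]
    congr 1
    rw [Matrix.mulVec_mulVec, Matrix.mulVec_mulVec, ← Units.val_mul, ← Units.val_mul]
    congr 2
    group
  · rintro ⟨Q'', hP'', htype, hinv⟩
    obtain ⟨h, hh⟩ := iso_of_type Q'' Qb hP''.nondeg hP.nondeg rfl even_finrank htype
    -- `Qb (h v) = Q'' v`
    have hmem : linGL h ∈ Cfsg.spGL d F := by
      rw [mem_spGL_iff]
      intro u v
      rw [linGL_mulVec, linGL_mulVec, ← hP, ← map_add, hh, hh, hh, hP'']
    refine ⟨(linGL h)⁻¹, inv_mem hmem, ⟨1, ?_⟩⟩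
    intro v
    rw [Units.val_one, one_mul, inv_inv]
    obtain ⟨w, rfl⟩ := h.surjective v
    have e1 : (((linGL h * x * (linGL h)⁻¹ : GL _ F)) : Matrix _ _ F) *ᵥ (h w) =
        h ((x : Matrix _ _ F) *ᵥ w) := by
      rw [← linGL_mulVec h w, Matrix.mulVec_mulVec, ← Units.val_mul, ← linGL_mulVec h,
        Matrix.mulVec_mulVec, ← Units.val_mul]
      congr 2
      group
    rw [e1, hh, hh, hinv]

end Cfsg.Agent.Lib.Helper5.SpQf
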