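import Mathlib
import Cfsg.Agent.Lib.Helper5.SpQf1
import Cfsg.Agent.Lib.Helper5.NsPt4

set_option autoImplicit false

namespace Cfsg.Agent.Lib.Helper5.SpQf

open Matrix Module Cfsg.Agent.Lib.Helper5.O2Sp Cfsg.Agent.Lib.Helper5.OrthCls
  Cfsg.Agent.Lib.Helper1.SpBasic Cfsg.Agent.Lib.Helper5.SpInv2

variable {F : Type*} [Field F] [CharP F 2] {d : ℕ}

/-- A fixed-point-free matrix preserves at most one quadratic form with a given polar form. -/
theorem unique_of_fpf {Q' Q'' : QuadraticForm F (Fin d ⊕ Fin d → F)} (hP' : PolSymp Q')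
    (hP'' : PolSymp Q'') (X : Matrix (Fin d ⊕ Fin d) (Fin d ⊕ Fin d) F)
    (hfix : ∀ v, X *ᵥ v = v → v = 0) (h' : ∀ v, Q' (X *ᵥ v) = Q' v)
    (h'' : ∀ v, Q'' (X *ᵥ v) = Q'' v) (v : Fin d ⊕ Fin d → F) : Q' v = Q'' v := by
  have hadd : ∀ u w, Q' (u + w) - Q'' (u + w) = (Q' u - Q'' u) + (Q' w - Q'' w) := by
    intro u w
    have e1 := hP' u w
    have e2 := hP'' u w
    linear_combination e1 - e2
  have hinj : Function.Injective (X - 1).mulVecLin := by
    rw [← LinearMap.ker_eq_bot, LinearMap.ker_eq_bot']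
    intro u hu
    rw [Matrix.mulVecLin_apply, Matrix.sub_mulVec, Matrix.one_mulVec, sub_eq_zero] at hu
    exact hfix u hu
  obtain ⟨u, rfl⟩ := LinearMap.surjective_of_injective hinj v
  rw [Matrix.mulVecLin_apply, Matrix.sub_mulVec, Matrix.one_mulVec, ← sub_eq_zero]
  have h1 : X *ᵥ u - u = X *ᵥ u + u := by
    funext i
    simp only [Pi.add_apply, Pi.sub_apply]
    rw [sub_eq_add_neg, Cfsg.Agent.Lib.Helper5.SpInv2.neg_eq_self]
  rw [h1, hadd, h', h'']
  exact CharTwo.add_self_eq_zero _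

/-- A quadratic form with polar form the symplectic form which is invariant under a block
unipotent matrix with invertible alternating block is of plus type. -/
theorem isPlus_of_alt_unipotent {Q'' : QuadraticForm F (Fin d ⊕ Fin d → F)} (hP'' : PolSymp Q'')
    (S S' : Matrix (Fin d) (Fin d) F) (hSS' : S * S' = 1)
    (halt : ∀ y : Fin d → F, y ⬝ᵥ S *ᵥ y = 0)
    (hinv : ∀ v, Q'' (uMat S *ᵥ v) = Q'' v) : IsPlus Q'' := by
  refine ⟨LinearMap.range (inlLin d F), ?_, ?_⟩
  · rintro _ ⟨a, rfl⟩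
    rw [inlLin_apply]
    set b : Fin d → F := S' *ᵥ a with hb
    have hab : S *ᵥ b = a := by
      rw [hb, Matrix.mulVec_mulVec, hSS', Matrix.one_mulVec]
    have h1 := hinv (Sum.elim 0 b)
    rw [uMat_mulVec] at h1
    have h2 : (fun i => (Sum.elim (0 : Fin d → F) b) (Sum.inr i)) = b := by
      funext i
      rfl
    rw [h2, hab] at h1
    have h3 := hP'' (Sum.elim 0 b) (Sum.elim a 0)
    rw [h1, form_elim_zero, h2] at h3
    have h4 : b ⬝ᵥ a = 0 := by
      rw [← hab]
      exact halt b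
    rw [h4] at h3
    linear_combination -h3
  · rw [LinearMap.finrank_range_of_inj inlLin_injective, Module.finrank_fintype_fun_eq_card,
      Module.finrank_fintype_fun_eq_card, Fintype.card_sum, Fintype.card_fin]
    ring

end Cfsg.Agent.Lib.Helper5.SpQf
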