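import Mathlib
import Cfsg.Agent.Lib.Helper5.SpQf2
import Cfsg.Agent.Lib.Helper5.AltForm
import Cfsg.Agent.Lib.Helper5.Char2

set_option autoImplicit false

namespace Cfsg.Agent.Lib.Helper5.SpQf

open Matrix Module

section symm

variable {F : Type*} [Field F] [CharP F 2] {d : ℕ}

theorem dot_symm (S : Matrix (Fin d) (Fin d) F) (hS : Sᵀ = S) (x y : Fin d → F) :
    x ⬝ᵥ S *ᵥ y = y ⬝ᵥ S *ᵥ x := by
  rw [Matrix.dotProduct_mulVec, ← Matrix.mulVec_transpose, hS, dotProduct_comm]

/-- the additive map `y ↦ y · S y` of a symmetric matrix in characteristic two -/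
def selfHom (S : Matrix (Fin d) (Fin d) F) (hS : Sᵀ = S) : (Fin d → F) →+ F where
  toFun y := y ⬝ᵥ S *ᵥ y
  map_zero' := by simp
  map_add' y z := by
    rw [Matrix.mulVec_add, add_dotProduct, dotProduct_add, dotProduct_add, dot_symm S hS z y]
    have := CharTwo.add_self_eq_zero (y ⬝ᵥ S *ᵥ z)
    linear_combination this

theorem self_eq_sum (S : Matrix (Fin d) (Fin d) F) (hS : Sᵀ = S) (y : Fin d → F) :
    y ⬝ᵥ S *ᵥ y = ∑ i, S i i * y i ^ 2 := by
  have h1 : y ⬝ᵥ S *ᵥ y = selfHom S hS y := rfl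
  rw [h1]
  conv_lhs => rw [← Finset.univ_sum_single y]
  rw [map_sum]
  apply Finset.sum_congr rfl
  intro i _
  show (Pi.single i (y i)) ⬝ᵥ S *ᵥ (Pi.single i (y i)) = _
  rw [single_dotProduct, Matrix.mulVec_single]
  simp only [Matrix.col_apply, Pi.smul_apply, MulOpposite.smul_eq_mul_unop, MulOpposite.unop_op]
  ring

theorem self_eq_sq [Finite F] (S : Matrix (Fin d) (Fin d) F) (hS : Sᵀ = S) (y : Fin d → F) :
    y ⬝ᵥ S *ᵥ y = ((fun i => Cfsg.Agent.Lib.Helper5.Char2.sqrtF (S i i)) ⬝ᵥ y) ^ 2 := by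
  haveI : Fact (Nat.Prime 2) := ⟨Nat.prime_two⟩
  rw [self_eq_sum S hS, dotProduct, sum_pow_char]
  apply Finset.sum_congr rfl
  intro i _
  rw [mul_pow, pow_two (Cfsg.Agent.Lib.Helper5.Char2.sqrtF (S i i)),
    Cfsg.Agent.Lib.Helper5.Char2.sqrtF_mul_self]

/-- vectors orthogonal to the kernel of a symmetric matrix lie in its range -/
theorem mem_range_of_orth_ker (S : Matrix (Fin d) (Fin d) F) (hS : Sᵀ = S) (w : Fin d → F)
    (hw : ∀ v, S *ᵥ v = 0 → w ⬝ᵥ v = 0) : ∃ c, S *ᵥ c = w := by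
  set K := LinearMap.ker S.mulVecLin with hK
  set R := LinearMap.range S.mulVecLin with hR
  let Kp : Submodule F (Fin d → F) :=
    { carrier := {w | ∀ v, S *ᵥ v = 0 → w ⬝ᵥ v = 0}
      add_mem' := by
        intro a b ha hb v hv
        rw [add_dotProduct, ha v hv, hb v hv, add_zero]
      zero_mem' := by
        intro v _
        rw [zero_dotProduct]
      smul_mem' := by
        intro a b hb v hv
        rw [smul_dotProduct, hb v hv, smul_zero] }
  have hRK : R ≤ Kp := by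
    rintro _ ⟨u, rfl⟩ v hv
    rw [Matrix.mulVecLin_apply, dotProduct_comm, dot_symm S hS, hv, dotProduct_zero]
  have h1 := LinearMap.finrank_range_add_finrank_ker S.mulVecLin
  rw [Module.finrank_fintype_fun_eq_card, Fintype.card_fin, ← hK, ← hR] at h1
  have h2 := Cfsg.Agent.Lib.Helper5.OrthCls.finrank_add_le_of_dot_orthogonal' Kp K (by
    intro a ha b hb
    exact ha b (by
      rw [hK, LinearMap.mem_ker, Matrix.mulVecLin_apply] at hb
      exact hb))
  rw [Fintype.card_fin] at h2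
  have h3 : R = Kp := Submodule.eq_of_le_of_finrank_le hRK (by omega)
  have h4 : w ∈ R := by
    rw [h3]
    exact hw
  obtain ⟨c, hc⟩ := h4
  exact ⟨c, hc⟩

/-- a symmetric matrix which is not both alternating and of even size has a non-zero vector `c`
with `y · S y = (c · S y)^2`. -/
theorem exists_vec_ne_zero [Finite F] (S : Matrix (Fin d) (Fin d) F) (hS : Sᵀ = S)
    (h : ¬ ((∀ y : Fin d → F, y ⬝ᵥ S *ᵥ y = 0) ∧ Even d)) :
    ∃ c : Fin d → F, c ≠ 0 ∧ ∀ y : Fin d → F, y ⬝ᵥ S *ᵥ y = (c ⬝ᵥ S *ᵥ y) ^ 2 := by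
  by_cases halt : ∀ y : Fin d → F, y ⬝ᵥ S *ᵥ y = 0
  · have hodd : ¬ Even d := fun he => h ⟨halt, he⟩
    have hB : (Matrix.toBilin' S).IsAlt := by
      intro x
      rw [Matrix.toBilin'_apply']
      exact halt x
    have hev := Cfsg.Agent.Lib.Helper5.AltForm.even_finrank_sub_ker hB
    rw [Module.finrank_fintype_fun_eq_card, Fintype.card_fin] at hev
    have hpos : 0 < finrank F (LinearMap.ker (Matrix.toBilin' S)) := by
      by_contra h0
      have h0' : finrank F (LinearMap.ker (Matrix.toBilin' S)) = 0 := by omega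
      rw [h0', Nat.sub_zero] at hev
      exact hodd hev
    obtain ⟨c, hc0⟩ := Module.finrank_pos_iff_exists_ne_zero.1 hpos
    refine ⟨c.1, fun h0 => hc0 (Subtype.ext h0), ?_⟩
    intro y
    have h1 : Matrix.toBilin' S c.1 y = 0 := by
      rw [LinearMap.mem_ker.1 c.2, LinearMap.zero_apply]
    rw [Matrix.toBilin'_apply'] at h1
    rw [halt, h1]
    ring
  · push Not at halt
    obtain ⟨y₀, hy₀⟩ := halt
    set δ : Fin d → F := fun i => Cfsg.Agent.Lib.Helper5.Char2.sqrtF (S i i) with hδ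
    have hsq := self_eq_sq S hS
    obtain ⟨c, hc⟩ := mem_range_of_orth_ker S hS δ (by
      intro v hv
      have := hsq v
      rw [hv, dotProduct_zero] at this
      exact (pow_eq_zero_iff (two_ne_zero)).1 this.symm)
    refine ⟨c, ?_, ?_⟩
    · rintro rfl
      rw [Matrix.mulVec_zero] at hc
      apply hy₀
      rw [hsq, ← hδ, ← hc, zero_dotProduct]
      ring
    · intro y
      rw [hsq, ← hδ, ← hc, dot_symm S hS c y, dotProduct_comm]

end symm

end Cfsg.Agent.Lib.Helper5.SpQf
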