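import Mathlib
import Cfsg.Agent.Lib.Helper5.SpQf3

set_option autoImplicit false

namespace Cfsg.Agent.Lib.Helper5.SpQf

open Matrix Module Cfsg.Agent.Lib.Helper5.SpInv2

section row

variable {F : Type*} [Field F] {d : ℕ}

/-- the general linear group is transitive on non-zero vectors -/
theorem exists_linearEquiv_apply {V : Type*} [AddCommGroup V] [Module F V] [FiniteDimensional F V]
    (u c : V) (hu : u ≠ 0) (hc : c ≠ 0) : ∃ f : V ≃ₗ[F] V, f u = c := by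
  obtain ⟨W₀, hW₀⟩ := Submodule.exists_isCompl (Submodule.span F {u})
  obtain ⟨W, hW⟩ := Submodule.exists_isCompl (Submodule.span F {c})
  have h1 := Submodule.finrank_add_eq_of_isCompl hW₀
  have h2 := Submodule.finrank_add_eq_of_isCompl hW
  rw [finrank_span_singleton hu] at h1
  rw [finrank_span_singleton hc] at h2
  let e₂ : W₀ ≃ₗ[F] W := LinearEquiv.ofFinrankEq _ _ (by omega)
  let e₁ : Submodule.span F {u} ≃ₗ[F] Submodule.span F {c} :=
    (LinearEquiv.toSpanNonzeroSingleton F V u hu).symm.trans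
      (LinearEquiv.toSpanNonzeroSingleton F V c hc)
  refine ⟨(Submodule.prodEquivOfIsCompl _ _ hW₀).symm.trans
    ((e₁.prodCongr e₂).trans (Submodule.prodEquivOfIsCompl _ _ hW)), ?_⟩
  have hu' : u ∈ Submodule.span F {u} := Submodule.mem_span_singleton_self u
  have e3 : (Submodule.prodEquivOfIsCompl _ _ hW₀).symm u = (⟨u, hu'⟩, 0) :=
    Submodule.prodEquivOfIsCompl_symm_apply_left _ _ hW₀ ⟨u, hu'⟩
  have e4 : e₁ ⟨u, hu'⟩ = ⟨c, Submodule.mem_span_singleton_self c⟩ := by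
    have : (LinearEquiv.toSpanNonzeroSingleton F V u hu).symm ⟨u, hu'⟩ = 1 := by
      rw [LinearEquiv.symm_apply_eq, LinearEquiv.toSpanNonzeroSingleton_one]
    show (LinearEquiv.toSpanNonzeroSingleton F V c hc)
      ((LinearEquiv.toSpanNonzeroSingleton F V u hu).symm ⟨u, hu'⟩) = _
    rw [this, LinearEquiv.toSpanNonzeroSingleton_one]
  rw [LinearEquiv.trans_apply, e3, LinearEquiv.trans_apply, LinearEquiv.prodCongr_apply]
  simp only [e4, map_zero, Submodule.coe_prodEquivOfIsCompl', Submodule.coe_zero, add_zero]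

/-- an invertible matrix with a prescribed non-zero row -/
theorem exists_row (c : Fin d → F) (hc : c ≠ 0) (l : Fin d) :
    ∃ P Q : Matrix (Fin d) (Fin d) F, P * Q = 1 ∧ P l = c := by
  have hu : (Pi.single l 1 : Fin d → F) ≠ 0 := by
    intro h
    have := congrFun h l
    simp at this
  obtain ⟨f, hf⟩ := exists_linearEquiv_apply (F := F) (Pi.single l 1 : Fin d → F) c hu hc
  refine ⟨(LinearMap.toMatrix' f.toLinearMap)ᵀ, (LinearMap.toMatrix' f.symm.toLinearMap)ᵀ, ?_, ?_⟩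
  · rw [← Matrix.transpose_mul, ← LinearMap.toMatrix'_comp]
    have : f.symm.toLinearMap ∘ₗ f.toLinearMap = LinearMap.id := by
      ext x
      simp
    rw [this, LinearMap.toMatrix'_id, Matrix.transpose_one]
  · funext j
    rw [Matrix.transpose_apply, LinearMap.toMatrix'_apply, LinearEquiv.coe_coe]
    rw [hf]

end row

section nf

variable {F : Type*} [Field F] [Finite F] [CharP F 2] {k : ℕ}

/-- Normal form of an involution of the symplectic group in characteristic two. -/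
theorem exists_normal_form (t : Matrix.symplecticGroup (Fin (k + 1)) F) (ht : t * t = 1) :
    ∃ (G : Matrix.symplecticGroup (Fin (k + 1)) F) (S : Matrix (Fin (k + 1)) (Fin (k + 1)) F),
      Sᵀ = S ∧ ((G * t * G⁻¹ : Matrix.symplecticGroup (Fin (k + 1)) F) :
        Matrix (Fin (k + 1) ⊕ Fin (k + 1)) (Fin (k + 1) ⊕ Fin (k + 1)) F) = uMat S ∧
      (((∀ y : Fin (k + 1) → F, y ⬝ᵥ S *ᵥ y = 0) ∧ Even (k + 1)) ∨
        ∀ y : Fin (k + 1) → F, y ⬝ᵥ S *ᵥ y = ((S *ᵥ y) (Fin.last k)) ^ 2) := by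
  obtain ⟨g, S₀, hS₀, hg⟩ := exists_conj_uMat t ht
  by_cases h : (∀ y : Fin (k + 1) → F, y ⬝ᵥ S₀ *ᵥ y = 0) ∧ Even (k + 1)
  · exact ⟨g, S₀, hS₀, hg, Or.inl h⟩
  · obtain ⟨c, hc0, hc⟩ := exists_vec_ne_zero S₀ hS₀ h
    obtain ⟨P, Q, hPQ, hPl⟩ := exists_row c hc0 (Fin.last k)
    have hS' : (P * S₀ * Pᵀ)ᵀ = P * S₀ * Pᵀ := by
      rw [Matrix.transpose_mul, Matrix.transpose_mul, Matrix.transpose_transpose, hS₀,
        Matrix.mul_assoc]
    refine ⟨dS P Q hPQ * g, P * S₀ * Pᵀ, hS', ?_, Or.inr ?_⟩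
    · have hg' : g * t * g⁻¹ = uS S₀ hS₀ := Subtype.ext hg
      have e1 : dS P Q hPQ * g * t * (dS P Q hPQ * g)⁻¹ =
          dS P Q hPQ * (g * t * g⁻¹) * (dS P Q hPQ)⁻¹ := by group
      rw [e1, hg', dS_conj P Q hPQ S₀ hS₀ hS']
      rfl
    · intro y
      have e1 : (P * S₀ * Pᵀ) *ᵥ y = P *ᵥ (S₀ *ᵥ (Pᵀ *ᵥ y)) := by
        rw [Matrix.mulVec_mulVec, Matrix.mulVec_mulVec]
      have e2 : y ⬝ᵥ P *ᵥ (S₀ *ᵥ (Pᵀ *ᵥ y)) = (Pᵀ *ᵥ y) ⬝ᵥ S₀ *ᵥ (Pᵀ *ᵥ y) := by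
        rw [Matrix.dotProduct_mulVec, ← Matrix.mulVec_transpose]
      have e3 : (P *ᵥ (S₀ *ᵥ (Pᵀ *ᵥ y))) (Fin.last k) = c ⬝ᵥ S₀ *ᵥ (Pᵀ *ᵥ y) := by
        rw [← hPl]
        rfl
      rw [e1, e2, e3, hc]

end nf

end Cfsg.Agent.Lib.Helper5.SpQf
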