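import Mathlib
import Cfsg.Agent.Lib.Helper5.SpQf4
import Cfsg.Agent.Lib.Helper5.OCent4

set_option autoImplicit false

namespace Cfsg.Agent.Lib.Helper5.SpQf

open Matrix Module Cfsg.Agent.Lib.Helper5.SpInv2 Cfsg.Agent.Lib.Helper5.O2Sp
  Cfsg.Agent.Lib.Helper5.OrthCls Cfsg.Agent.Lib.Helper5.QuadGlue
  Cfsg.Agent.Lib.Helper2.OrthCard Cfsg.Agent.Lib.Helper5.OCent

/-- the reindexing between the two coordinate systems for a space of dimension `2k+2` -/
def tauEquiv (k : ℕ) : (Fin k ⊕ Fin k) ⊕ Fin 2 ≃ Fin (k + 1) ⊕ Fin (k + 1) :=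
  (Equiv.sumCongr (Equiv.refl (Fin k ⊕ Fin k)) (finSumFinEquiv (m := 1) (n := 1)).symm).trans
    ((Equiv.sumSumSumComm (Fin k) (Fin k) (Fin 1) (Fin 1)).trans
      (Equiv.sumCongr finSumFinEquiv finSumFinEquiv))

theorem tauEquiv_inl_inl (k : ℕ) (i : Fin k) :
    tauEquiv k (Sum.inl (Sum.inl i)) = Sum.inl (Fin.castSucc i) := rfl

theorem tauEquiv_inl_inr (k : ℕ) (i : Fin k) :
    tauEquiv k (Sum.inl (Sum.inr i)) = Sum.inr (Fin.castSucc i) := rfl

theorem tauEquiv_inr_zero (k : ℕ) : tauEquiv k (Sum.inr 0) = Sum.inl (Fin.last k) := by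
  have h : (finSumFinEquiv (m := 1) (n := 1)).symm (0 : Fin 2) = Sum.inl 0 := by decide
  simp only [tauEquiv, Equiv.trans_apply, Equiv.sumCongr_apply, Sum.map_inr, h,
    Equiv.sumSumSumComm_apply, Sum.map_inl]
  congr 1

theorem tauEquiv_inr_one (k : ℕ) : tauEquiv k (Sum.inr 1) = Sum.inr (Fin.last k) := by
  have h : (finSumFinEquiv (m := 1) (n := 1)).symm (1 : Fin 2) = Sum.inr 0 := by decide
  simp only [tauEquiv, Equiv.trans_apply, Equiv.sumCongr_apply, Sum.map_inr, h,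
    Equiv.sumSumSumComm_apply, Sum.map_inl]
  congr 1

variable {F : Type*} [Field F]

/-- the model forms `Σ x_i y_i + x_l^2 + γ y_l^2` -/
noncomputable def Qg (k : ℕ) (γ : F) : QuadraticForm F (Fin (k + 1) ⊕ Fin (k + 1) → F) :=
  (QMn k 1 γ).comp (LinearMap.funLeft F F (tauEquiv k))

theorem Qg_eq_minus (k : ℕ) (γ : F) (v : Fin (k + 1) ⊕ Fin (k + 1) → F) :
    Qg k γ v = Cfsg.quadFormMinus k F 1 γ (v ∘ tauEquiv k) := by
  unfold Qg
  rw [QuadraticMap.comp_apply, QMn_coe]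
  rfl

theorem Qg_apply (k : ℕ) (γ : F) (v : Fin (k + 1) ⊕ Fin (k + 1) → F) :
    Qg k γ v = Cfsg.quadFormPlus (k + 1) F v + v (Sum.inl (Fin.last k)) ^ 2 +
      γ * v (Sum.inr (Fin.last k)) ^ 2 := by
  rw [Qg_eq_minus]
  unfold Cfsg.quadFormMinus Cfsg.quadFormPlus
  rw [Fin.sum_univ_castSucc]
  simp only [Function.comp_apply, tauEquiv_inl_inl, tauEquiv_inl_inr, tauEquiv_inr_zero,
    tauEquiv_inr_one]
  ring

theorem Qg_polSymp [CharP F 2] (k : ℕ) (γ : F) : PolSymp (Qg k γ) := by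
  intro u v
  have h := QP_polSymp' (F := F) (m := k + 1) u v
  rw [QP_apply, QP_apply, QP_apply] at h
  rw [Qg_apply, Qg_apply, Qg_apply, ← h]
  simp only [Pi.add_apply]
  have h2 : (2 : F) = 0 := CharTwo.two_eq_zero
  linear_combination (u (Sum.inl (Fin.last k)) * v (Sum.inl (Fin.last k)) +
    γ * u (Sum.inr (Fin.last k)) * v (Sum.inr (Fin.last k))) * h2

/-- the linear equivalence given by the reindexing -/
noncomputable def tauLin (k : ℕ) (F : Type*) [Field F] :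
    (Fin (k + 1) ⊕ Fin (k + 1) → F) ≃ₗ[F] ((Fin k ⊕ Fin k) ⊕ Fin 2 → F) :=
  LinearEquiv.funCongrLeft F F (tauEquiv k)

theorem tauLin_apply (k : ℕ) (v : Fin (k + 1) ⊕ Fin (k + 1) → F) :
    tauLin k F v = v ∘ tauEquiv k := rfl

theorem QMn_tauLin (k : ℕ) (γ : F) (v : Fin (k + 1) ⊕ Fin (k + 1) → F) :
    QMn k 1 γ (tauLin k F v) = Qg k γ v := by
  rw [Qg_eq_minus, QMn_coe, tauLin_apply]

theorem not_isPlus_Qg [Finite F] (k : ℕ) (γ : F)
    (hγ : ∀ z₁ z₂ : F, z₁ ^ 2 + 1 * z₁ * z₂ + γ * z₂ ^ 2 = 0 → z₁ = 0 ∧ z₂ = 0) :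
    ¬ IsPlus (Qg k γ) := by
  intro h
  exact not_isPlus_QMn k 1 γ hγ ((isPlus_iff_of_isometry (tauLin k F) (QMn_tauLin k γ)).1 h)

/-- the shear turning the hyperbolic form into `Qg k 0` -/
noncomputable def shearLin (k : ℕ) (F : Type*) [Field F] :
    (Fin (k + 1) ⊕ Fin (k + 1) → F) →ₗ[F] (Fin (k + 1) ⊕ Fin (k + 1) → F) :=
  LinearMap.id + (LinearMap.proj (Sum.inl (Fin.last k))).smulRight
    (Pi.single (Sum.inr (Fin.last k)) (1 : F))

theorem shearLin_apply (k : ℕ) (v : Fin (k + 1) ⊕ Fin (k + 1) → F) :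
    shearLin k F v = v + v (Sum.inl (Fin.last k)) • Pi.single (Sum.inr (Fin.last k)) (1 : F) := by
  simp [shearLin]

theorem shearLin_involutive [CharP F 2] (k : ℕ) : Function.Involutive (shearLin k F) := by
  intro v
  rw [shearLin_apply, shearLin_apply]
  simp only [Pi.add_apply, Pi.smul_apply, Pi.single_apply, reduceCtorEq, if_false, smul_zero,
    add_zero]
  rw [add_assoc, ← add_smul, CharTwo.add_self_eq_zero, zero_smul, add_zero]

theorem QP_shearLin (k : ℕ) (v : Fin (k + 1) ⊕ Fin (k + 1) → F) :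
    QP (k + 1) F (shearLin k F v) = Qg k 0 v := by
  rw [QP_apply, Qg_apply, shearLin_apply]
  unfold Cfsg.quadFormPlus
  simp only [Pi.add_apply, Pi.smul_apply, Pi.single_apply, reduceCtorEq, if_false, smul_zero,
    add_zero, Sum.inr.injEq, smul_eq_mul, mul_ite, mul_one, mul_zero, mul_add,
    Finset.sum_add_distrib, Finset.sum_ite_eq', Finset.mem_univ, if_true, zero_mul]
  ring

theorem isPlus_Qg_zero [CharP F 2] (k : ℕ) : IsPlus (Qg k (0 : F)) :=
  isPlus_of_isometry (LinearEquiv.ofInvolutive (shearLin k F) (shearLin_involutive k)).symm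
    (fun v => by
      rw [← QP_shearLin]
      congr 1
      exact (LinearEquiv.ofInvolutive (shearLin k F) (shearLin_involutive k)).apply_symm_apply v)
    (isPlus_QP (k + 1))

/-- the block unipotent matrices preserving the model forms -/
theorem Qg_uMat [CharP F 2] (k : ℕ) (γ : F) (S : Matrix (Fin (k + 1)) (Fin (k + 1)) F)
    (hS : ∀ y : Fin (k + 1) → F, y ⬝ᵥ S *ᵥ y = ((S *ᵥ y) (Fin.last k)) ^ 2)
    (v : Fin (k + 1) ⊕ Fin (k + 1) → F) : Qg k γ (uMat S *ᵥ v) = Qg k γ v := by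
  rw [uMat_mulVec, Qg_apply, Qg_apply]
  unfold Cfsg.quadFormPlus
  have h := hS (fun i => v (Sum.inr i))
  unfold dotProduct at h
  simp only [Pi.add_apply, Sum.elim_inl, Sum.elim_inr, Pi.zero_apply, add_zero, add_mul,
    Finset.sum_add_distrib]
  have h' : ∑ i, (S *ᵥ fun i => v (Sum.inr i)) i * v (Sum.inr i) =
      ((S *ᵥ fun i => v (Sum.inr i)) (Fin.last k)) ^ 2 := by
    rw [← h]
    apply Finset.sum_congr rfl
    intro i _
    exact mul_comm _ _
  rw [h']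
  have h2 : (2 : F) = 0 := CharTwo.two_eq_zero
  linear_combination ((S *ᵥ fun i => v (Sum.inr i)) (Fin.last k) ^ 2 +
    v (Sum.inl (Fin.last k)) * (S *ᵥ fun i => v (Sum.inr i)) (Fin.last k)) * h2

end Cfsg.Agent.Lib.Helper5.SpQf
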