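import Mathlib
import Cfsg.Agent.Lib.Helper5.SpQf5
import Cfsg.Agent.Lib.Helper5.OrthCls8

set_option autoImplicit false

namespace Cfsg.Agent.Lib.Helper5.SpQf

open Matrix Module Cfsg.Agent.Lib.Helper5.SpInv2 Cfsg.Agent.Lib.Helper5.O2Sp
  Cfsg.Agent.Lib.Helper5.OrthCls Cfsg.Agent.Lib.Helper5.QuadGlue
  Cfsg.Agent.Lib.Helper2.OrthCard Cfsg.Agent.Lib.Helper5.OCent Cfsg.Agent.Lib.Helper1.SpBasic
  Cfsg.Agent.Lib.Helper5.NsPt Cfsg.Agent.S2595

variable {F : Type*} [Field F] [Finite F] [CharP F 2]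

theorem spToGL_mem {d : ℕ} (G : Matrix.symplecticGroup (Fin d) F) :
    spToGL d F G ∈ Cfsg.spGL d F := by
  rw [mem_spGL_iff]
  intro u v
  exact form_mulVec G u v

/-- every involution of `Sp_{2k+2}(F)` preserves a quadratic form with polar form the symplectic
form of a prescribed type, provided the type is plus or `k+1` is odd. -/
theorem exists_invariant_form (k : ℕ) (t : Matrix.symplecticGroup (Fin (k + 1)) F)
    (ht : t * t = 1) (plus : Prop) (h : plus ∨ Odd (k + 1)) :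
    ∃ Q'' : QuadraticForm F (Fin (k + 1) ⊕ Fin (k + 1) → F), PolSymp Q'' ∧ (IsPlus Q'' ↔ plus) ∧
      ∀ v, Q'' ((t : Matrix (Fin (k + 1) ⊕ Fin (k + 1)) (Fin (k + 1) ⊕ Fin (k + 1)) F) *ᵥ v) =
        Q'' v := by
  obtain ⟨G, S, hS, hG, hcases⟩ := exists_normal_form t ht
  haveI : Fintype F := Fintype.ofFinite F
  have hmodel : ∃ Q' : QuadraticForm F (Fin (k + 1) ⊕ Fin (k + 1) → F), PolSymp Q' ∧
      (IsPlus Q' ↔ plus) ∧ ∀ v, Q' (uMat S *ᵥ v) = Q' v := by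
    rcases hcases with ⟨halt, hev⟩ | hc
    · have hp : plus := by
        rcases h with h | h
        · exact h
        · exact absurd hev (Nat.not_even_iff_odd.2 h)
      exact ⟨QP (k + 1) F, QP_polSymp', ⟨fun _ => hp, fun _ => isPlus_QP (k + 1)⟩,
        QP_uMat S halt⟩
    · by_cases hp : plus
      · exact ⟨Qg k 0, Qg_polSymp k 0, ⟨fun _ => hp, fun _ => isPlus_Qg_zero k⟩, Qg_uMat k 0 S hc⟩
      · obtain ⟨γ, hγ⟩ := exists_aniso (F := F)
        exact ⟨Qg k γ, Qg_polSymp k γ,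
          ⟨fun h' => absurd h' (not_isPlus_Qg k γ hγ), fun h' => absurd h' hp⟩, Qg_uMat k γ S hc⟩
  obtain ⟨Q', hP', htype, hinv⟩ := hmodel
  refine ⟨Q'.comp (glLin (spToGL (k + 1) F G)).toLinearMap,
    polSymp_comp hP' _ (spToGL_mem G), ?_, ?_⟩
  · rw [isPlus_comp]
    exact htype
  · intro v
    simp only [QuadraticMap.comp_apply, LinearEquiv.coe_coe, glLin_apply, spToGL_coe]
    have e1 : G.1 *ᵥ (t.1 *ᵥ v) = uMat S *ᵥ (G.1 *ᵥ v) := by
      rw [← hG, ← coe_mul_mulVec, ← coe_mul_mulVec]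
      congr 2
      group
    rw [e1, hinv]

end Cfsg.Agent.Lib.Helper5.SpQf
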