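import Mathlib
import Cfsg.Agent.Lib.Helper5.SpQf6
import Cfsg.Agent.Lib.Helper5.NsPt11

set_option autoImplicit false

namespace Cfsg.Agent.Lib.Helper5.SpQf

open Matrix Module Cfsg.Agent.Lib.Helper5.SpInv2 Cfsg.Agent.Lib.Helper5.O2Sp
  Cfsg.Agent.Lib.Helper5.OrthCls Cfsg.Agent.Lib.Helper5.QuadGlue
  Cfsg.Agent.Lib.Helper5.NsPt

section general

variable {F : Type*} [Field F]

theorem fpf_transpose {n : Type*} [Fintype n] [DecidableEq n] (A : Matrix n n F)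
    (h : ∀ a : n → F, A *ᵥ a = a → a = 0) (a : n → F) (ha : Aᵀ *ᵥ a = a) : a = 0 := by
  have hinj : Function.Injective (A - 1).mulVec := by
    intro x y hxy
    have h1 : A *ᵥ (x - y) = x - y := by
      have h2 : (A - 1) *ᵥ (x - y) = 0 := by
        rw [Matrix.mulVec_sub, hxy, sub_self]
      rw [Matrix.sub_mulVec, Matrix.one_mulVec, sub_eq_zero] at h2
      exact h2
    exact sub_eq_zero.1 (h _ h1)
  have hu : IsUnit (A - 1) := Matrix.mulVec_injective_iff_isUnit.1 hinj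
  have hu' : IsUnit (A - 1)ᵀ := (Matrix.isUnit_transpose _).2 hu
  have hinj' := Matrix.mulVec_injective_iff_isUnit.2 hu'
  apply hinj'
  rw [Matrix.transpose_sub, Matrix.transpose_one, Matrix.sub_mulVec, Matrix.one_mulVec, ha,
    sub_self, Matrix.mulVec_zero]

/-- transport of a fixed-point-free matrix of finite order along a linear equivalence -/
theorem transport_matrix {ι ι' : Type*} [Fintype ι] [DecidableEq ι] [Fintype ι'] [DecidableEq ι']
    (φ : (ι' → F) ≃ₗ[F] (ι → F)) (X : Matrix ι' ι' F) (r : ℕ) (hX : X ^ r = 1)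
    (hfix : ∀ v, X *ᵥ v = v → v = 0) (Q₁ : (ι' → F) → F) (Q₂ : (ι → F) → F)
    (hQ : ∀ v, Q₂ (φ v) = Q₁ v) (hinv : ∀ v, Q₁ (X *ᵥ v) = Q₁ v) :
    ∃ X' : Matrix ι ι F, X' ^ r = 1 ∧ (∀ v, X' *ᵥ v = v → v = 0) ∧
      ∀ v, Q₂ (X' *ᵥ v) = Q₂ v := by
  set X' : Matrix ι ι F :=
    LinearMap.toMatrixAlgEquiv' (φ.conjRingEquiv (Matrix.toLinAlgEquiv' X)) with hX'
  have hmul : ∀ v, X' *ᵥ (φ v) = φ (X *ᵥ v) := by
    intro v
    have h1 : X' *ᵥ (φ v) = Matrix.toLinAlgEquiv' X' (φ v) := rfl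
    rw [h1, hX', Matrix.toLinAlgEquiv'_toMatrixAlgEquiv']
    show φ (Matrix.toLinAlgEquiv' X (φ.symm (φ v))) = _
    rw [LinearEquiv.symm_apply_apply]
    rfl
  refine ⟨X', ?_, ?_, ?_⟩
  · rw [hX', ← map_pow, ← map_pow, ← map_pow, hX, map_one, map_one, map_one]
  · intro w hw
    obtain ⟨v, rfl⟩ := φ.surjective w
    rw [hmul] at hw
    rw [hfix v (φ.injective hw), map_zero]
  · intro w
    obtain ⟨v, rfl⟩ := φ.surjective w
    rw [hmul, hQ, hQ, hinv]

end general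

section final

variable {F : Type*} [Field F] [Fintype F] [CharP F 2]

theorem dMat_fpf {d : ℕ} (P Q : Matrix (Fin d) (Fin d) F) (h : P * Q = 1)
    (hfix : ∀ a : Fin d → F, P *ᵥ a = a → a = 0) (v : Fin d ⊕ Fin d → F)
    (hv : dMat P Q *ᵥ v = v) : v = 0 := by
  rw [dMat_mulVec] at hv
  have h0 : P *ᵥ (fun i => v (Sum.inl i)) = fun i => v (Sum.inl i) := by
    funext i
    have := congrFun hv (Sum.inl i)
    simpa using this
  have h1 : Qᵀ *ᵥ (fun i => v (Sum.inr i)) = fun i => v (Sum.inr i) := by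
    funext i
    have := congrFun hv (Sum.inr i)
    simpa using this
  have hQfix : ∀ a : Fin d → F, Q *ᵥ a = a → a = 0 := by
    intro a ha
    apply hfix
    have : P *ᵥ (Q *ᵥ a) = a := by rw [Matrix.mulVec_mulVec, h, Matrix.one_mulVec]
    rw [ha] at this
    exact this
  have e0 := hfix _ h0
  have e1 := fpf_transpose Q hQfix _ h1
  funext i
  rcases i with i | i
  · exact congrFun e0 i
  · exact congrFun e1 i

/-- hyperbolic part, fixed-point-free version -/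
theorem exists_fpf_plus (d : ℕ) (r : ℕ) [Fact r.Prime] (hr2 : r ≠ 2)
    (hdiv : d = 0 ∨ r ∣ Fintype.card F ^ d - 1) :
    ∃ X : Matrix (Fin d ⊕ Fin d) (Fin d ⊕ Fin d) F, X ^ r = 1 ∧
      (∀ v, Cfsg.quadFormPlus d F (X *ᵥ v) = Cfsg.quadFormPlus d F v) ∧
      ∀ v, X *ᵥ v = v → v = 0 := by
  rcases Nat.eq_zero_or_pos d with h0 | h0
  · subst h0
    refine ⟨1, one_pow _, fun v => by rw [Matrix.one_mulVec], fun v _ => ?_⟩
    funext i
    rcases i with i | i <;> exact Fin.elim0 i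
  · have hdiv' : r ∣ Fintype.card F ^ d - 1 := by
      rcases hdiv with h | h
      · omega
      · exact h
    obtain ⟨P, Q, hPQ, hPr, hfix⟩ := exists_fpf_matrix (F := F) (d := d) h0 r hr2 hdiv'
    obtain ⟨h1, h2, -⟩ := dMat_props r P Q hPQ hPr hfix
    exact ⟨dMat P Q, h1, h2, dMat_fpf P Q hPQ hfix⟩

/-- an isometry of the minus type form of odd prime order `r ∣ q^(k+1)+1` without non-zero fixed
vectors -/
theorem exists_fpf_minus_full (k : ℕ) (a b : F)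
    (hab : ∀ x y : F, x ^ 2 + a * x * y + b * y ^ 2 = 0 → x = 0 ∧ y = 0)
    (r : ℕ) [Fact r.Prime] (hr2 : r ≠ 2) (hdiv : r ∣ Fintype.card F ^ (k + 1) + 1) :
    ∃ X : Matrix ((Fin k ⊕ Fin k) ⊕ Fin 2) ((Fin k ⊕ Fin k) ⊕ Fin 2) F, X ^ r = 1 ∧
      (∀ v, Cfsg.quadFormMinus k F a b (X *ᵥ v) = Cfsg.quadFormMinus k F a b v) ∧
      ∀ v, X *ᵥ v = v → v = 0 := by
  classical
  have hr : r.Prime := Fact.out
  have hq1 : 1 ≤ Fintype.card F := Fintype.card_pos
  obtain ⟨i, t, hi, hord, hd, hodd⟩ :=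
    order_of_dvd_add_one (Fintype.card F) (k + 1) r hq1 (by omega) hr hr2 hdiv
  obtain ⟨s, hs⟩ := hodd
  have hk : k = 2 * s * i + (i - 1) := by
    have h1 : k + 1 = 2 * s * i + i := by rw [hd, hs]; ring
    omega
  subst hk
  have hdiv1 : 2 * s * i = 0 ∨ r ∣ Fintype.card F ^ (2 * s * i) - 1 := by
    right
    apply (Cfsg.Agent.Lib.Helper9.H9Elus.orderOf_dvd_iff_dvd r _ hq1 (2 * s * i)).1
    rw [hord]
    exact ⟨s, by ring⟩
  obtain ⟨X₁, hX₁r, hX₁p, hX₁f⟩ := exists_fpf_plus (F := F) (2 * s * i) r hr2 hdiv1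
  obtain ⟨X₂, hX₂r, hX₂p, hX₂f⟩ := exists_fpf_minus (F := F) i hi a b hab r hr2 hord
  refine ⟨blockMat (sigmaSplit (2 * s * i) (i - 1)) X₁ X₂, ?_, ?_, ?_⟩
  · rw [blockMat_pow, hX₁r, hX₂r, blockMat_one]
  · intro v
    rw [quadFormMinus_split, quadFormMinus_split, blockMat_mulVec_inl, blockMat_mulVec_inr,
      hX₁p, hX₂p]
  · intro v hv
    have h1 := blockMat_mulVec_inl (sigmaSplit (2 * s * i) (i - 1)) X₁ X₂ v
    have h2 := blockMat_mulVec_inr (sigmaSplit (2 * s * i) (i - 1)) X₁ X₂ v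
    rw [hv] at h1 h2
    have e1 := hX₁f _ h1.symm
    have e2 := hX₂f _ h2.symm
    funext j
    obtain ⟨j', rfl⟩ := (sigmaSplit (2 * s * i) (i - 1)).surjective j
    rcases j' with j' | j'
    · exact congrFun e1 j'
    · exact congrFun e2 j'

end final

end Cfsg.Agent.Lib.Helper5.SpQf
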