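import Mathlib
import Cfsg.Agent.Lib.Helper5.SpQf7
import Cfsg.Agent.S2593

set_option autoImplicit false

namespace Cfsg.Agent.Lib.Helper5.SpQf

open Matrix Module Cfsg.Agent.Lib.Helper5.SpInv2 Cfsg.Agent.Lib.Helper5.O2Sp
  Cfsg.Agent.Lib.Helper5.OrthCls Cfsg.Agent.Lib.Helper5.QuadGlue
  Cfsg.Agent.Lib.Helper5.NsPt Cfsg.Agent.Lib.Helper5.OCent Cfsg.Agent.Lib.Helper2.OrthCard
  Cfsg.Agent.S2595

variable {F : Type*} [Field F] [Fintype F] [CharP F 2]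

/-- a scalar matrix in the symplectic group in characteristic two is the identity -/
theorem scalar_eq_one {d : ℕ} (hd : 1 ≤ d) (z : F)
    (h : ∀ u v : Fin d ⊕ Fin d → F, Cfsg.sympForm d F
      ((z • (1 : Matrix (Fin d ⊕ Fin d) (Fin d ⊕ Fin d) F)) *ᵥ u)
      ((z • (1 : Matrix (Fin d ⊕ Fin d) (Fin d ⊕ Fin d) F)) *ᵥ v) = Cfsg.sympForm d F u v) :
    z = 1 := by
  have h1 := h (Pi.single (Sum.inr ⟨0, hd⟩) 1) (Pi.single (Sum.inl ⟨0, hd⟩) 1)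
  rw [Matrix.smul_mulVec, Matrix.one_mulVec, Matrix.smul_mulVec, Matrix.one_mulVec] at h1
  have h2 : ∀ (a : F) (u v : Fin d ⊕ Fin d → F),
      Cfsg.sympForm d F (a • u) (a • v) = a * a * Cfsg.sympForm d F u v := by
    intro a u v
    unfold Cfsg.sympForm
    rw [Matrix.mulVec_smul, smul_dotProduct, dotProduct_smul, smul_eq_mul, smul_eq_mul, mul_assoc]
  rw [h2, sympForm_single, mul_one] at h1
  have h3 : (z + 1) * (z + 1) = 0 := by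
    have h4 : (2 : F) = 0 := CharTwo.two_eq_zero
    linear_combination h1 + (z + 1) * h4
  have h5 : z + 1 = 0 := by
    rcases mul_eq_zero.1 h3 with h | h <;> exact h
  exact CharTwo.add_eq_zero.1 h5

/-- A fixed-point-free matrix of finite order preserving a form `Q'` with polar form the symplectic
form gives an element of `Sp` whose only invariant form with that polar form is `Q'`. -/
theorem exists_of_fpf_form {d : ℕ} (hd : 1 ≤ d) (Q' : QuadraticForm F (Fin d ⊕ Fin d → F))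
    (hP' : PolSymp Q') (X : Matrix (Fin d ⊕ Fin d) (Fin d ⊕ Fin d) F) (r : ℕ) (hr0 : 0 < r)
    (hXr : X ^ r = 1) (hfix : ∀ v, X *ᵥ v = v → v = 0) (hinv : ∀ v, Q' (X *ᵥ v) = Q' v) :
    ∃ x : GL (Fin d ⊕ Fin d) F, x ∈ Cfsg.spGL d F ∧
      ((x ^ r : GL (Fin d ⊕ Fin d) F) : Matrix (Fin d ⊕ Fin d) (Fin d ⊕ Fin d) F) = 1 ∧
      (∀ z : F, (x : Matrix (Fin d ⊕ Fin d) (Fin d ⊕ Fin d) F) ≠ z • 1) ∧
      ∀ Q'' : QuadraticForm F (Fin d ⊕ Fin d → F), PolSymp Q'' →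
        (∀ v, Q'' ((x : Matrix _ _ F) *ᵥ v) = Q'' v) → Q'' = Q' := by
  have h1 : X * X ^ (r - 1) = 1 := by
    rw [← pow_succ', Nat.sub_add_cancel hr0, hXr]
  have h2 : X ^ (r - 1) * X = 1 := by
    rw [← pow_succ, Nat.sub_add_cancel hr0, hXr]
  set x : GL (Fin d ⊕ Fin d) F := ⟨X, X ^ (r - 1), h1, h2⟩ with hx
  have hxc : (x : Matrix (Fin d ⊕ Fin d) (Fin d ⊕ Fin d) F) = X := rfl
  have hsp : ∀ u v, Cfsg.sympForm d F (X *ᵥ u) (X *ᵥ v) = Cfsg.sympForm d F u v := by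
    intro u v
    rw [← hP', ← Matrix.mulVec_add, hinv, hinv, hinv, hP']
  refine ⟨x, ?_, ?_, ?_, ?_⟩
  · rw [mem_spGL_iff, hxc]
    exact hsp
  · rw [Units.val_pow_eq_pow_val, hxc, hXr]
  · intro z hz
    rw [hxc] at hz
    have hz1 : z = 1 := by
      apply scalar_eq_one hd z
      rw [← hz]
      exact hsp
    rw [hz1, one_smul] at hz
    have h3 := hfix (Pi.single (Sum.inl ⟨0, hd⟩) 1) (by rw [hz, Matrix.one_mulVec])
    have h4 := congrFun h3 (Sum.inl ⟨0, hd⟩)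
    simp at h4
  · intro Q'' hP'' hinv''
    rw [hxc] at hinv''
    ext v
    exact unique_of_fpf hP'' hP' X hfix hinv'' hinv v

/-- `r ∣ q^d - 1` odd: an element of order `r` of `Sp` all of whose invariant forms are of plus
type. -/
theorem exists_only_plus {d : ℕ} (hd : 1 ≤ d) (r : ℕ) [Fact r.Prime] (hr2 : r ≠ 2)
    (hdiv : r ∣ Fintype.card F ^ d - 1) :
    ∃ x : GL (Fin d ⊕ Fin d) F, x ∈ Cfsg.spGL d F ∧
      ((x ^ r : GL (Fin d ⊕ Fin d) F) : Matrix (Fin d ⊕ Fin d) (Fin d ⊕ Fin d) F) = 1 ∧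
      (∀ z : F, (x : Matrix (Fin d ⊕ Fin d) (Fin d ⊕ Fin d) F) ≠ z • 1) ∧
      ∀ Q'' : QuadraticForm F (Fin d ⊕ Fin d → F), PolSymp Q'' →
        (∀ v, Q'' ((x : Matrix _ _ F) *ᵥ v) = Q'' v) → IsPlus Q'' := by
  have hr : r.Prime := Fact.out
  obtain ⟨X, hXr, hXp, hXf⟩ := exists_fpf_plus (F := F) d r hr2 (Or.inr hdiv)
  obtain ⟨x, hx1, hx2, hx3, hx4⟩ := exists_of_fpf_form hd (QP d F) QP_polSymp' X r hr.pos hXr hXf
    (fun v => by rw [QP_apply, QP_apply]; exact hXp v)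
  refine ⟨x, hx1, hx2, hx3, ?_⟩
  intro Q'' hP'' hinv
  rw [hx4 Q'' hP'' hinv]
  exact isPlus_QP d

/-- `r ∣ q^(k+1) + 1` odd: an element of order `r` of `Sp` none of whose invariant forms is of
plus type. -/
theorem exists_only_minus (k : ℕ) (r : ℕ) [Fact r.Prime] (hr2 : r ≠ 2)
    (hdiv : r ∣ Fintype.card F ^ (k + 1) + 1) :
    ∃ x : GL (Fin (k + 1) ⊕ Fin (k + 1)) F, x ∈ Cfsg.spGL (k + 1) F ∧
      ((x ^ r : GL (Fin (k + 1) ⊕ Fin (k + 1)) F) :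
        Matrix (Fin (k + 1) ⊕ Fin (k + 1)) (Fin (k + 1) ⊕ Fin (k + 1)) F) = 1 ∧
      (∀ z : F, (x : Matrix (Fin (k + 1) ⊕ Fin (k + 1)) (Fin (k + 1) ⊕ Fin (k + 1)) F) ≠ z • 1) ∧
      ∀ Q'' : QuadraticForm F (Fin (k + 1) ⊕ Fin (k + 1) → F), PolSymp Q'' →
        (∀ v, Q'' ((x : Matrix _ _ F) *ᵥ v) = Q'' v) → ¬ IsPlus Q'' := by
  have hr : r.Prime := Fact.out
  obtain ⟨γ, hγ⟩ := exists_aniso (F := F)
  obtain ⟨X, hXr, hXp, hXf⟩ := exists_fpf_minus_full (F := F) k 1 γ hγ r hr2 hdiv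
  obtain ⟨X', hX'r, hX'f, hX'p⟩ := transport_matrix (tauLin k F).symm X r hXr hXf
    (Cfsg.quadFormMinus k F 1 γ) (⇑(Qg k γ)) (fun v => by
      rw [← QMn_tauLin, LinearEquiv.apply_symm_apply, QMn_coe]) hXp
  obtain ⟨x, hx1, hx2, hx3, hx4⟩ := exists_of_fpf_form (Nat.succ_pos k) (Qg k γ) (Qg_polSymp k γ)
    X' r hr.pos hX'r hX'f hX'p
  refine ⟨x, hx1, hx2, hx3, ?_⟩
  intro Q'' hP'' hinv
  rw [hx4 Q'' hP'' hinv]
  exact not_isPlus_Qg k γ hγ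

/-- `d` even: an involution of `Sp` all of whose invariant forms are of plus type. -/
theorem exists_invol_only_plus {d : ℕ} (hd : 1 ≤ d) (hev : Even d) :
    ∃ x : GL (Fin d ⊕ Fin d) F, x ∈ Cfsg.spGL d F ∧
      ((x ^ 2 : GL (Fin d ⊕ Fin d) F) : Matrix (Fin d ⊕ Fin d) (Fin d ⊕ Fin d) F) = 1 ∧
      (∀ z : F, (x : Matrix (Fin d ⊕ Fin d) (Fin d ⊕ Fin d) F) ≠ z • 1) ∧
      ∀ Q'' : QuadraticForm F (Fin d ⊕ Fin d → F), PolSymp Q'' →
        (∀ v, Q'' ((x : Matrix _ _ F) *ᵥ v) = Q'' v) → IsPlus Q'' := by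
  set t : Matrix.symplecticGroup (Fin d) F := uS (aMat d F) aMat_transpose with ht
  refine ⟨spToGL d F t, spToGL_mem t, ?_, ?_, ?_⟩
  · rw [← map_pow, pow_two, Cfsg.Agent.S2593.uS_mul_self, map_one]
    rfl
  · intro z hz
    rw [spToGL_coe] at hz
    have h1 : uMat (aMat d F) = z • 1 := hz
    have h2 := congrFun (congrFun h1 (Sum.inl ⟨0, hd⟩)) (Sum.inr (Fin.rev ⟨0, hd⟩))
    simp [uMat, aMat] at h2
  · intro Q'' hP'' hinv
    exact isPlus_of_alt_unipotent hP'' (aMat d F) (aMat d F) aMat_mul_self (aMat_alt hev) hinv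

end Cfsg.Agent.Lib.Helper5.SpQf
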