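import Mathlib
import Cfsg.Agent.Lib.Helper5.SpQf8
import Cfsg.Agent.Lib.Helper2.OrthCard3
import Cfsg.Agent.S0245
import Cfsg.Agent.S0288

set_option autoImplicit false

namespace Cfsg.Agent.Lib.Helper5.SpQf

open Matrix Module Cfsg.Agent.Lib.Helper5.SpInv2 Cfsg.Agent.Lib.Helper5.O2Sp
  Cfsg.Agent.Lib.Helper5.OrthCls Cfsg.Agent.Lib.Helper5.QuadGlue
  Cfsg.Agent.Lib.Helper5.NsPt Cfsg.Agent.Lib.Helper5.OCent Cfsg.Agent.Lib.Helper2.OrthCard
  Cfsg.Agent.S2595 Cfsg.Agent.Lib.Helper5.IsoTransfer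

variable {F : Type*} [Field F]

theorem sim_inf_sp_eq {d : ℕ} (hd : 1 ≤ d) {Qb : QuadraticForm F (Fin d ⊕ Fin d → F)}
    (hP : PolSymp Qb) :
    Cfsg.Geo.quadSimilarityGroup (⇑Qb) ⊓ Cfsg.spGL d F = Cfsg.isometryGroup F (⇑Qb) := by
  ext x
  rw [Subgroup.mem_inf, mem_iso]
  constructor
  · rintro ⟨h1, h2⟩ u
    exact iso_of_sim hd hP x h2 h1 u
  · intro h
    refine ⟨⟨1, fun v => by rw [Units.val_one, one_mul]; exact h v⟩, ?_⟩
    rw [mem_spGL_iff]
    intro u v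
    rw [← hP, ← Matrix.mulVec_add, h, h, h, hP]

/-- the symplectic group inside `GL` has the same cardinality as Mathlib's symplectic group -/
theorem card_spGL (d : ℕ) : Nat.card ↥(Cfsg.spGL d F) = Nat.card (Matrix.symplecticGroup (Fin d) F) := by
  symm
  apply Nat.card_congr
  refine ⟨fun A => ⟨spToGL d F A, ?_⟩, fun g => ⟨(g.1 : Matrix _ _ F), ?_⟩, ?_, ?_⟩
  · rw [mem_spGL_iff]
    intro u v
    exact Cfsg.Agent.Lib.Helper1.SpBasic.form_mulVec A u v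
  · rw [Cfsg.Agent.Lib.Helper1.SpCard.mem_symplectic_iff_form]
    exact (mem_spGL_iff g.1).1 g.2
  · intro A
    rfl
  · intro g
    apply Subtype.ext
    apply Units.ext
    rfl

theorem card_mul_relIndex {d : ℕ} (hd : 1 ≤ d) {Qb : QuadraticForm F (Fin d ⊕ Fin d → F)}
    (hP : PolSymp Qb) :
    Nat.card ↥(Cfsg.isometryGroup F (⇑Qb)) *
      (Cfsg.Geo.quadSimilarityGroup (⇑Qb)).relIndex (Cfsg.spGL d F) =
      Nat.card (Matrix.symplecticGroup (Fin d) F) := by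
  rw [← card_spGL, ← Subgroup.inf_relIndex_right, sim_inf_sp_eq hd hP,
    ← Subgroup.relIndex_bot_left, ← Subgroup.relIndex_bot_left]
  apply Subgroup.relIndex_mul_relIndex _ _ _ bot_le
  rw [← sim_inf_sp_eq hd hP]
  exact inf_le_right

section arith

theorem arith_plus (q k R Pr : ℕ) (hq : 1 ≤ q) (hPr : 0 < Pr) (hA : 2 ≤ q ^ (k + 1))
    (h : 2 * q ^ ((k + 1) * k) * (q ^ (k + 1) - 1) * Pr * R =
      q ^ ((k + 1) ^ 2) * (Pr * (q ^ (2 * (k + 1)) - 1))) :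
    R * 2 = q ^ (k + 1) * (q ^ (k + 1) + 1) := by
  obtain ⟨A, hA'⟩ : ∃ A, q ^ (k + 1) = A + 2 := ⟨q ^ (k + 1) - 2, by omega⟩
  have e1 : q ^ (2 * (k + 1)) - 1 = (A + 1) * (A + 3) := by
    rw [pow_mul', hA']
    have : (A + 2) ^ 2 = (A + 1) * (A + 3) + 1 := by ring
    rw [this, Nat.add_sub_cancel]
  have e2 : q ^ ((k + 1) ^ 2) = q ^ ((k + 1) * k) * (A + 2) := by
    have : (k + 1) ^ 2 = (k + 1) * k + (k + 1) := by ring
    rw [this, pow_add, hA']
  have e3 : q ^ (k + 1) - 1 = A + 1 := by omega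
  rw [e1, e2, e3] at h
  rw [hA']
  have hB : 0 < q ^ ((k + 1) * k) := Nat.pow_pos (by omega)
  have hpos : 0 < q ^ ((k + 1) * k) * (A + 1) * Pr := by positivity
  apply Nat.eq_of_mul_eq_mul_left hpos
  have h' : q ^ ((k + 1) * k) * (A + 1) * Pr * (R * 2) =
      2 * q ^ ((k + 1) * k) * (A + 1) * Pr * R := by ring
  rw [h', h]
  ring

theorem arith_minus (q k R Pr : ℕ) (hq : 1 ≤ q) (hPr : 0 < Pr) (hA : 2 ≤ q ^ (k + 1))
    (h : 2 * q ^ ((k + 1) * k) * (q ^ (k + 1) + 1) * Pr * R =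
      q ^ ((k + 1) ^ 2) * (Pr * (q ^ (2 * (k + 1)) - 1))) :
    R * 2 = q ^ (k + 1) * (q ^ (k + 1) - 1) := by
  obtain ⟨A, hA'⟩ : ∃ A, q ^ (k + 1) = A + 2 := ⟨q ^ (k + 1) - 2, by omega⟩
  have e1 : q ^ (2 * (k + 1)) - 1 = (A + 1) * (A + 3) := by
    rw [pow_mul', hA']
    have : (A + 2) ^ 2 = (A + 1) * (A + 3) + 1 := by ring
    rw [this, Nat.add_sub_cancel]
  have e2 : q ^ ((k + 1) ^ 2) = q ^ ((k + 1) * k) * (A + 2) := by
    have : (k + 1) ^ 2 = (k + 1) * k + (k + 1) := by ring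
    rw [this, pow_add, hA']
  have e3 : q ^ (k + 1) - 1 = A + 1 := by omega
  rw [e1, e2] at h
  rw [hA'] at h
  rw [hA']
  have e4 : A + 2 - 1 = A + 1 := by omega
  rw [e4]
  have hB : 0 < q ^ ((k + 1) * k) := Nat.pow_pos (by omega)
  have hpos : 0 < q ^ ((k + 1) * k) * (A + 3) * Pr := by positivity
  apply Nat.eq_of_mul_eq_mul_left hpos
  have h' : q ^ ((k + 1) * k) * (A + 3) * Pr * (R * 2) =
      2 * q ^ ((k + 1) * k) * (A + 2 + 1) * Pr * R := by ring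
  rw [h', h]
  ring

end arith

variable [Fintype F] [CharP F 2]

theorem prod_pos' (q k : ℕ) (hq : 2 ≤ q) :
    0 < ∏ i ∈ Finset.range k, (q ^ (2 * (i + 1)) - 1) := by
  apply Finset.prod_pos
  intro i _
  have : 2 ≤ q ^ (2 * (i + 1)) := by
    calc 2 ≤ q := hq
      _ = q ^ 1 := (pow_one q).symm
      _ ≤ q ^ (2 * (i + 1)) := Nat.pow_le_pow_right (by omega) (by omega)
  omega

/-- the possible prime divisors of the index of the orthogonal group in the symplectic group -/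
theorem dvd_cases_index (k : ℕ) {Qb : QuadraticForm F (Fin (k + 1) ⊕ Fin (k + 1) → F)}
    (hP : PolSymp Qb) (r : ℕ) (hr : r.Prime)
    (hΩ : r ∣ (Cfsg.Geo.quadSimilarityGroup (⇑Qb)).relIndex (Cfsg.spGL (k + 1) F)) :
    r = 2 ∨ (IsPlus Qb ∧ r ∣ Fintype.card F ^ (k + 1) + 1) ∨
      (¬ IsPlus Qb ∧ r ∣ Fintype.card F ^ (k + 1) - 1) := by
  set q := Fintype.card F with hq
  have hq2 : 2 ≤ q := by
    have := Fintype.one_lt_card (α := F)
    omega
  have hA : 2 ≤ q ^ (k + 1) := by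
    calc 2 ≤ q := hq2
      _ = q ^ 1 := (pow_one q).symm
      _ ≤ q ^ (k + 1) := Nat.pow_le_pow_right (by omega) (by omega)
  have hcard := card_mul_relIndex (Nat.succ_pos k) hP
  rw [Cfsg.Agent.S0245.result (F := F) rfl (k + 1), Finset.prod_range_succ] at hcard
  have hPr := prod_pos' q k hq2
  have hrq : r ∣ q → r = 2 := by
    intro h
    obtain ⟨n, hn⟩ := FiniteField.card F 2
    rw [← hq] at hn
    rw [hn.2] at h
    have := hr.dvd_of_dvd_pow h
    exact (Nat.prime_dvd_prime_iff_eq hr Nat.prime_two).1 this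
  have hfin : ∀ m : ℕ, r ∣ q ^ (k + 1) * m → r = 2 ∨ r ∣ m := by
    intro m h
    rcases (hr.dvd_mul).1 h with h | h
    · left
      exact hrq (hr.dvd_of_dvd_pow h)
    · right
      exact h
  by_cases hplus : IsPlus Qb
  · obtain ⟨g, hg⟩ := iso_of_type Qb (QP (k + 1) F) hP.nondeg QP_polSymp'.nondeg rfl even_finrank
      (by simp only [hplus, isPlus_QP])
    have hc : Nat.card ↥(Cfsg.isometryGroup F (⇑Qb)) =
        Nat.card ↥(Cfsg.isometryGroup F (Cfsg.quadFormPlus (k + 1) F)) :=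
      Nat.card_congr (isoEquiv (⇑Qb) (Cfsg.quadFormPlus (k + 1) F) g (fun v => by
        rw [← QP_apply]; exact hg v)).toEquiv
    rw [hc, Cfsg.Agent.Lib.Helper2.OrthCard.card_plus k, ← hq] at hcard
    have h2 := arith_plus q k _ _ (by omega) hPr hA hcard
    rcases hfin _ (h2 ▸ Dvd.dvd.mul_right hΩ 2) with h | h
    · exact Or.inl h
    · exact Or.inr (Or.inl ⟨hplus, h⟩)
  · obtain ⟨γ, hγ⟩ := exists_aniso (F := F)
    have hdim : finrank F (Fin (k + 1) ⊕ Fin (k + 1) → F) =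
        finrank F ((Fin k ⊕ Fin k) ⊕ Fin 2 → F) := by
      rw [Module.finrank_fintype_fun_eq_card, Module.finrank_fintype_fun_eq_card]
      simp only [Fintype.card_sum, Fintype.card_fin]
      ring
    obtain ⟨g, hg⟩ := iso_of_type Qb (QMn k 1 γ) hP.nondeg (QMn_nondeg k 1 γ hγ) hdim even_finrank
      (by simp only [hplus, not_isPlus_QMn k 1 γ hγ])
    have hc : Nat.card ↥(Cfsg.isometryGroup F (⇑Qb)) =
        Nat.card ↥(Cfsg.isometryGroup F (Cfsg.quadFormMinus k F 1 γ)) :=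
      Nat.card_congr (isoEquiv (⇑Qb) (Cfsg.quadFormMinus k F 1 γ) g (fun v => by
        rw [← QMn_coe]; exact hg v)).toEquiv
    have h288 : Nat.card ↥(Cfsg.isometryGroup F (Cfsg.quadFormMinus k F 1 γ)) =
        2 * Fintype.card F ^ ((k + 1) * k) * (Fintype.card F ^ (k + 1) + 1) *
          ∏ x ∈ Finset.range k, (Fintype.card F ^ (2 * (x + 1)) - 1) :=
      Cfsg.Agent.S0288.result (F := F) rfl (k + 1) (by omega) 1 γ hγ
    rw [hc, h288, ← hq] at hcard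
    have h2 := arith_minus q k _ _ (by omega) hPr hA hcard
    rcases hfin _ (h2 ▸ Dvd.dvd.mul_right hΩ 2) with h | h
    · exact Or.inl h
    · exact Or.inr (Or.inr ⟨hplus, h⟩)

end Cfsg.Agent.Lib.Helper5.SpQf
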