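import Mathlib
import Cfsg.Agent.Lib.Helper5.SpUn0
import Cfsg.Agent.Lib.Helper5.AltForm

set_option autoImplicit false

/-!
# Orthogonal Fitting decomposition: linear algebra

For a matrix `T` whose adjoint with respect to the form of `Ω` is `T * w`, `w` a unit commuting with `T`,
the Fitting decomposition of `T` is orthogonal.
-/

namespace Cfsg.Agent.Lib.Helper5.SpUn

open Matrix Module LinearMap

section blocks
variable {F : Type*} [Field F] {M : Type*} [AddCommGroup M] [Module F M]
variable {α β : Type*} [Fintype α] [Fintype β] [DecidableEq α] [DecidableEq β]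

/-- an endomorphism preserving two complementary subspaces is the product of its restrictions. -/
theorem prodMap_restrict_eq_conj {V W : Submodule F M} (h : IsCompl V W) (ψ : Module.End F M)
    (hV : ∀ x ∈ V, ψ x ∈ V) (hW : ∀ x ∈ W, ψ x ∈ W) :
    (ψ.restrict hV).prodMap (ψ.restrict hW) = (Submodule.prodEquivOfIsCompl V W h).symm.conj ψ := by
  apply LinearMap.ext
  rintro ⟨v, w⟩
  rw [LinearEquiv.conj_apply]
  simp only [LinearMap.coe_comp, LinearEquiv.coe_coe, Function.comp_apply, LinearEquiv.symm_symm]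
  rw [LinearEquiv.eq_symm_apply]
  simp only [LinearMap.prodMap_apply, Submodule.coe_prodEquivOfIsCompl', LinearMap.restrict_coe_apply,
    map_add]

/-- the matrix of an endomorphism preserving two complementary subspaces, in an adapted basis. -/
theorem toMatrix_of_isCompl {V W : Submodule F M} (h : IsCompl V W) (bV : Basis α F V)
    (bW : Basis β F W) (ψ : Module.End F M) (hV : ∀ x ∈ V, ψ x ∈ V) (hW : ∀ x ∈ W, ψ x ∈ W) :
    LinearMap.toMatrix ((bV.prod bW).map (Submodule.prodEquivOfIsCompl V W h))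
        ((bV.prod bW).map (Submodule.prodEquivOfIsCompl V W h)) ψ =
      fromBlocks (LinearMap.toMatrix bV bV (ψ.restrict hV)) 0 0
        (LinearMap.toMatrix bW bW (ψ.restrict hW)) := by
  rw [← LinearMap.toMatrix_prodMap bV bW, prodMap_restrict_eq_conj h ψ hV hW]
  ext i j
  simp [LinearMap.toMatrix_apply, LinearEquiv.conj_apply]

end blocks


section form
variable {F : Type*} [Field F] {ι : Type*} [Fintype ι] [DecidableEq ι]

theorem form_mulVec_left (Ω T : Matrix ι ι F) (u v : ι → F) :
    Matrix.toBilin' Ω (T *ᵥ u) v = Matrix.toBilin' (Tᵀ * Ω) u v := by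
  rw [Matrix.toBilin'_apply', Matrix.toBilin'_apply', ← Matrix.mulVec_mulVec,
    Matrix.dotProduct_mulVec u, Matrix.vecMul_transpose]

theorem form_mulVec_right (Ω T : Matrix ι ι F) (u v : ι → F) :
    Matrix.toBilin' Ω u (T *ᵥ v) = Matrix.toBilin' (Ω * T) u v := by
  rw [Matrix.toBilin'_apply', Matrix.toBilin'_apply', Matrix.mulVec_mulVec]

/-- the adjoint relation, iterated. -/
theorem form_pow_left (Ω T S : Matrix ι ι F) (hadj : Tᵀ * Ω = Ω * S) (n : ℕ) (u v : ι → F) :
    Matrix.toBilin' Ω ((T ^ n) *ᵥ u) v = Matrix.toBilin' Ω u ((S ^ n) *ᵥ v) := by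
  induction n generalizing u v with
  | zero => simp
  | succ n ih =>
    rw [pow_succ, ← Matrix.mulVec_mulVec, ih, form_mulVec_left, hadj, ← form_mulVec_right,
      Matrix.mulVec_mulVec, ← pow_succ']

/-- the generalised kernel of `T` is orthogonal to the stable image. -/
theorem form_ker_range (Ω T w w' : Matrix ι ι F) (hw : w * w' = 1) (hTw : T * w = w * T)
    (hadj : Tᵀ * Ω = Ω * (T * w)) (n : ℕ) (u v : ι → F) (hu : (T ^ n) *ᵥ u = 0) :
    Matrix.toBilin' Ω u ((T ^ n) *ᵥ v) = 0 := by
  have hcomm : Commute T w := hTw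
  have hw' : w' * w = 1 := (Matrix.mul_eq_one_comm_of_card_eq ι ι F rfl).mp hw
  have hcw : Commute w w' := by
    show w * w' = w' * w
    rw [hw, hw']
  have h1 : (T * w) ^ n * w' ^ n = T ^ n := by
    rw [hcomm.mul_pow, mul_assoc, ← hcw.mul_pow, hw, one_pow, mul_one]
  rw [← h1, ← Matrix.mulVec_mulVec, ← form_pow_left Ω T (T * w) hadj, hu]
  simp

end form

end Cfsg.Agent.Lib.Helper5.SpUn
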