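import Mathlib
import Cfsg.Agent.Lib.Helper5.SpUn1

set_option autoImplicit false

/-!
# Orthogonal Fitting decomposition: the Fitting pair of a matrix
-/

namespace Cfsg.Agent.Lib.Helper5.SpUn

open Matrix Module LinearMap

section fit
variable {F : Type*} [Field F] {ι : Type*} [Fintype ι] [DecidableEq ι]

/-- the generalised kernel of a matrix. -/
noncomputable def fitV (T : Matrix ι ι F) : Submodule F (ι → F) :=
  Module.End.maxGenEigenspace (Matrix.toLin' T : Module.End F (ι → F)) 0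

/-- the stable image of a matrix. -/
noncomputable def fitW (T : Matrix ι ι F) : Submodule F (ι → F) :=
  ⨅ n : ℕ, LinearMap.range ((Matrix.toLin' T) ^ n)

theorem toLin'_pow_apply (T : Matrix ι ι F) (n : ℕ) (u : ι → F) :
    ((Matrix.toLin' T) ^ n) u = (T ^ n) *ᵥ u := by
  rw [← Matrix.toLin'_apply]
  congr 1
  exact (map_pow (Matrix.toLinAlgEquiv' (R := F) (n := ι)) T n).symm

theorem fitV_eq (T : Matrix ι ι F) : fitV T = ⨆ n : ℕ, LinearMap.ker ((Matrix.toLin' T) ^ n) := by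
  simp [fitV, ← Module.End.iSup_genEigenspace_eq, Module.End.genEigenspace_nat]

theorem mem_fitV_iff (T : Matrix ι ι F) (u : ι → F) : u ∈ fitV T ↔ ∃ n : ℕ, (T ^ n) *ᵥ u = 0 := by
  unfold fitV
  rw [Module.End.mem_maxGenEigenspace]
  simp only [zero_smul, sub_zero, toLin'_pow_apply]

theorem mem_fitW_iff (T : Matrix ι ι F) (v : ι → F) :
    v ∈ fitW T ↔ ∀ n : ℕ, ∃ v' : ι → F, (T ^ n) *ᵥ v' = v := by
  unfold fitW
  simp only [Submodule.mem_iInf, LinearMap.mem_range, toLin'_pow_apply]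

theorem fit_isCompl (T : Matrix ι ι F) : IsCompl (fitV T) (fitW T) := by
  rw [fitV_eq]
  exact LinearMap.isCompl_iSup_ker_pow_iInf_range_pow _

theorem finrank_fitV (T : Matrix ι ι F) : finrank F (fitV T) = T.charpoly.natTrailingDegree := by
  unfold fitV
  rw [LinearMap.finrank_maxGenEigenspace_zero_eq, Matrix.charpoly_toLin']

/-- a matrix commuting with `T` preserves the generalised kernel. -/
theorem comm_fitV (T x : Matrix ι ι F) (hx : x * T = T * x) :
    ∀ u ∈ fitV T, Matrix.toLin' x u ∈ fitV T := by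
  intro u hu
  rw [mem_fitV_iff] at hu ⊢
  obtain ⟨n, hn⟩ := hu
  refine ⟨n, ?_⟩
  have hc : Commute x T := hx
  rw [Matrix.toLin'_apply, Matrix.mulVec_mulVec, ← (hc.pow_right n).eq, ← Matrix.mulVec_mulVec, hn,
    Matrix.mulVec_zero]

/-- a matrix commuting with `T` preserves the stable image. -/
theorem comm_fitW (T x : Matrix ι ι F) (hx : x * T = T * x) :
    ∀ u ∈ fitW T, Matrix.toLin' x u ∈ fitW T := by
  intro u hu
  rw [mem_fitW_iff] at hu ⊢
  intro n
  obtain ⟨v', hv'⟩ := hu n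
  refine ⟨x *ᵥ v', ?_⟩
  have hc : Commute x T := hx
  rw [Matrix.toLin'_apply, Matrix.mulVec_mulVec, ← (hc.pow_right n).eq, ← Matrix.mulVec_mulVec, hv']

theorem self_fitV (T : Matrix ι ι F) : ∀ u ∈ fitV T, Matrix.toLin' T u ∈ fitV T :=
  comm_fitV T T rfl

theorem self_fitW (T : Matrix ι ι F) : ∀ u ∈ fitW T, Matrix.toLin' T u ∈ fitW T :=
  comm_fitW T T rfl

/-- `T` is nilpotent on its generalised kernel. -/
theorem isNilpotent_restrict_fitV (T : Matrix ι ι F) :
    IsNilpotent ((Matrix.toLin' T).restrict (self_fitV T)) := by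
  apply ((charpoly_nilpotent_tfae _).out 2 0).mp
  rintro ⟨x, hx⟩
  obtain ⟨n, hn⟩ := (mem_fitV_iff T x).1 hx
  refine ⟨n, ?_⟩
  apply Subtype.ext
  rw [ZeroMemClass.coe_zero, Module.End.pow_restrict]
  show ((Matrix.toLin' T) ^ n) x = 0
  rw [toLin'_pow_apply, hn]

/-- `T` is invertible on its stable image. -/
theorem isUnit_restrict_fitW (T : Matrix ι ι F) :
    IsUnit ((Matrix.toLin' T).restrict (self_fitW T)) := by
  rw [LinearMap.isUnit_iff_ker_eq_bot, LinearMap.ker_eq_bot']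
  intro x hx
  apply Subtype.ext
  have hVW := fit_isCompl T
  suffices x.1 ∈ fitV T ⊓ fitW T by rwa [hVW.inf_eq_bot, Submodule.mem_bot] at this
  refine ⟨(mem_fitV_iff T _).2 ⟨1, ?_⟩, x.2⟩
  rw [pow_one, ← Matrix.toLin'_apply]
  exact congrArg Subtype.val hx

/-- orthogonality of the Fitting pair. -/
theorem fit_orth (Ω T w w' : Matrix ι ι F) (hw : w * w' = 1) (hTw : T * w = w * T)
    (hadj : Tᵀ * Ω = Ω * (T * w)) (u v : ι → F) (hu : u ∈ fitV T) (hv : v ∈ fitW T) :
    Matrix.toBilin' Ω u v = 0 := by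
  obtain ⟨n, hn⟩ := (mem_fitV_iff T u).1 hu
  obtain ⟨v', rfl⟩ := (mem_fitW_iff T v).1 hv n
  exact form_ker_range Ω T w w' hw hTw hadj n u v' hn

end fit

section nondeg
variable {F : Type*} [Field F] {M : Type*} [AddCommGroup M] [Module F M]

theorem restrict_nondeg_left {V W : Submodule F M} (B : LinearMap.BilinForm F M)
    (hnd : ∀ x, (∀ y, B x y = 0) → x = 0) (h : IsCompl V W)
    (horth : ∀ u ∈ V, ∀ v ∈ W, B u v = 0) :
    ∀ x : V, (∀ y : V, B.restrict V x y = 0) → x = 0 := by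
  intro x hx
  apply Subtype.ext
  rw [ZeroMemClass.coe_zero]
  apply hnd
  intro y
  have hy : y ∈ V ⊔ W := by rw [h.sup_eq_top]; trivial
  obtain ⟨y₁, hy₁, y₂, hy₂, rfl⟩ := Submodule.mem_sup.1 hy
  rw [map_add, horth x x.2 y₂ hy₂, add_zero]
  exact hx ⟨y₁, hy₁⟩

theorem restrict_nondeg_right {V W : Submodule F M} (B : LinearMap.BilinForm F M) (halt : B.IsAlt)
    (hnd : ∀ x, (∀ y, B x y = 0) → x = 0) (h : IsCompl V W)
    (horth : ∀ u ∈ V, ∀ v ∈ W, B u v = 0) :
    ∀ x : W, (∀ y : W, B.restrict W x y = 0) → x = 0 := by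
  apply restrict_nondeg_left B hnd h.symm
  intro u hu v hv
  rw [AltForm.alt_swap halt, horth v hv u hu, neg_zero]

end nondeg

end Cfsg.Agent.Lib.Helper5.SpUn
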