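import Mathlib
import Cfsg.Agent.Lib.Helper5.SpUn2

set_option autoImplicit false

/-!
# Orthogonal Fitting decomposition: the adapted symplectic basis
-/

namespace Cfsg.Agent.Lib.Helper5.SpUn

open Matrix Module LinearMap

section alt
variable {F : Type*} [Field F] {ι : Type*} [Fintype ι] [DecidableEq ι]

/-- a skew matrix with zero diagonal gives an alternating form (all characteristics). -/
theorem isAlt_toBilin' (Ω : Matrix ι ι F) (h1 : Ωᵀ = -Ω) (h2 : ∀ i, Ω i i = 0) :
    (Matrix.toBilin' Ω).IsAlt := by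
  have hskew : ∀ x y : ι → F, Matrix.toBilin' Ω x y = -Matrix.toBilin' Ω y x := by
    intro x y
    rw [Matrix.toBilin'_apply', Matrix.toBilin'_apply', Matrix.dotProduct_mulVec,
      ← Matrix.mulVec_transpose, h1, Matrix.neg_mulVec, neg_dotProduct, dotProduct_comm]
  intro x
  have hx : x ∈ Submodule.span F (Set.range (Pi.basisFun F ι)) := by
    rw [(Pi.basisFun F ι).span_eq]; trivial
  induction hx using Submodule.span_induction with
  | mem x hx =>
    obtain ⟨i, rfl⟩ := hx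
    rw [Pi.basisFun_apply, Matrix.toBilin'_single]
    exact h2 i
  | zero => simp
  | add x y _ _ hx hy =>
    have e : Matrix.toBilin' Ω (x + y) (x + y) = Matrix.toBilin' Ω x x + Matrix.toBilin' Ω x y +
        (Matrix.toBilin' Ω y x + Matrix.toBilin' Ω y y) := by
      rw [map_add, map_add, LinearMap.add_apply, LinearMap.add_apply]
      ring
    rw [e, hx, hy, hskew y x]
    ring
  | smul a x _ hx =>
    have e : Matrix.toBilin' Ω (a • x) (a • x) = a * (a * Matrix.toBilin' Ω x x) := by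
      rw [map_smul, map_smul, LinearMap.smul_apply, smul_eq_mul, smul_eq_mul]
    rw [e, hx, mul_zero, mul_zero]

/-- an invertible Gram matrix gives a nondegenerate form. -/
theorem nondeg_toBilin' (Ω Ω' : Matrix ι ι F) (h : Ω * Ω' = 1) :
    ∀ x, (∀ y, Matrix.toBilin' Ω x y = 0) → x = 0 := by
  intro x hx
  have h1 : x ᵥ* Ω = 0 := by
    apply dotProduct_eq_zero
    intro y
    rw [← Matrix.dotProduct_mulVec, ← Matrix.toBilin'_apply']
    exact hx y
  have h2 : x ᵥ* (Ω * Ω') = 0 := by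
    rw [← Matrix.vecMul_vecMul, h1, Matrix.zero_vecMul]
  rwa [h, Matrix.vecMul_one] at h2

end alt

section even
variable {F : Type*} [Field F] {ι : Type*} [Fintype ι] [DecidableEq ι]

/-- for an operator whose adjoint is a unit multiple of itself, the generalised kernel carries a
nondegenerate alternating form, so has even dimension. -/
theorem even_trailing (Ω Ω' T w w' : Matrix ι ι F) (hΩ1 : Ωᵀ = -Ω) (hΩ2 : ∀ i, Ω i i = 0)
    (hΩ3 : Ω * Ω' = 1) (hw : w * w' = 1) (hTw : T * w = w * T) (hadj : Tᵀ * Ω = Ω * (T * w)) :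
    Even T.charpoly.natTrailingDegree := by
  rw [← finrank_fitV]
  have halt := isAlt_toBilin' Ω hΩ1 hΩ2
  have hnd := nondeg_toBilin' Ω Ω' hΩ3
  have horth : ∀ u ∈ fitV T, ∀ v ∈ fitW T, Matrix.toBilin' Ω u v = 0 :=
    fun u hu v hv => fit_orth Ω T w w' hw hTw hadj u v hu hv
  have hndV := restrict_nondeg_left (Matrix.toBilin' Ω) hnd (fit_isCompl T) horth
  have haltV : ((Matrix.toBilin' Ω).restrict (fitV T)).IsAlt := fun x => halt x
  exact AltForm.even_finrank_of_nondegenerate haltV hndV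

end even

section orthfit
variable {F : Type*} [Field F] {k j : ℕ}

/-- **Orthogonal Fitting decomposition.** -/
theorem orthFit
    (Ω Ω' T w w' : Matrix ((Fin k ⊕ Fin k) ⊕ (Fin j ⊕ Fin j)) ((Fin k ⊕ Fin k) ⊕ (Fin j ⊕ Fin j)) F)
    (hΩ1 : Ωᵀ = -Ω) (hΩ2 : ∀ i, Ω i i = 0) (hΩ3 : Ω * Ω' = 1)
    (hw : w * w' = 1) (hTw : T * w = w * T) (hadj : Tᵀ * Ω = Ω * (T * w))
    (hdeg : T.charpoly.natTrailingDegree = 2 * k) :
    ∃ P : GL ((Fin k ⊕ Fin k) ⊕ (Fin j ⊕ Fin j)) F,
      P.valᵀ * Ω * P.val = fromBlocks (J (Fin k) F) 0 0 (J (Fin j) F) ∧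
      (∃ N A, IsNilpotent N ∧ IsUnit A ∧ (P⁻¹).val * T * P.val = fromBlocks N 0 0 A) ∧
      ∀ x : Matrix ((Fin k ⊕ Fin k) ⊕ (Fin j ⊕ Fin j)) ((Fin k ⊕ Fin k) ⊕ (Fin j ⊕ Fin j)) F,
        x * T = T * x → ∃ a d, (P⁻¹).val * x * P.val = fromBlocks a 0 0 d := by
  classical
  have halt := isAlt_toBilin' Ω hΩ1 hΩ2
  have hnd := nondeg_toBilin' Ω Ω' hΩ3
  have horth : ∀ u ∈ fitV T, ∀ v ∈ fitW T, Matrix.toBilin' Ω u v = 0 :=
    fun u hu v hv => fit_orth Ω T w w' hw hTw hadj u v hu hv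
  have hVW := fit_isCompl T
  have hndV := restrict_nondeg_left (Matrix.toBilin' Ω) hnd hVW horth
  have hndW := restrict_nondeg_right (Matrix.toBilin' Ω) halt hnd hVW horth
  have haltV : ((Matrix.toBilin' Ω).restrict (fitV T)).IsAlt := fun x => halt x
  have haltW : ((Matrix.toBilin' Ω).restrict (fitW T)).IsAlt := fun x => halt x
  obtain ⟨m, bV, hm, hbV⟩ := AltForm.exists_symplectic_basis haltV hndV
  obtain ⟨m', bW, hm', hbW⟩ := AltForm.exists_symplectic_basis haltW hndW
  have hfV : finrank F (fitV T) = 2 * k := by rw [finrank_fitV, hdeg]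
  have hfW : finrank F (fitW T) = 2 * j := by
    have h1 := Submodule.finrank_add_eq_of_isCompl hVW
    rw [hfV, Module.finrank_pi, Fintype.card_sum, Fintype.card_sum, Fintype.card_sum,
      Fintype.card_fin, Fintype.card_fin] at h1
    omega
  obtain rfl : m = k := by omega
  obtain rfl : m' = j := by omega
  set e := Submodule.prodEquivOfIsCompl (fitV T) (fitW T) hVW with he
  set b := (bV.prod bW).map e with hb
  set std := Pi.basisFun F ((Fin m ⊕ Fin m) ⊕ (Fin m' ⊕ Fin m')) with hstd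
  have hbl : ∀ x, b (Sum.inl x) = (bV x : _ → F) := by
    intro x
    simp [hb, he]
  have hbr : ∀ y, b (Sum.inr y) = (bW y : _ → F) := by
    intro y
    simp [hb, he]
  let P : GL ((Fin m ⊕ Fin m) ⊕ (Fin m' ⊕ Fin m')) F :=
    ⟨std.toMatrix b, b.toMatrix std, Basis.toMatrix_mul_toMatrix_flip _ _,
      Basis.toMatrix_mul_toMatrix_flip _ _⟩
  have hPv : P.val = std.toMatrix b := rfl
  have hPi : (P⁻¹).val = b.toMatrix std := rfl
  have hconj : ∀ x : Matrix ((Fin m ⊕ Fin m) ⊕ (Fin m' ⊕ Fin m')) ((Fin m ⊕ Fin m) ⊕ (Fin m' ⊕ Fin m')) F,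
      (P⁻¹).val * x * P.val = LinearMap.toMatrix b b (Matrix.toLin' x) := by
    intro x
    rw [hPv, hPi]
    have h1 : x = LinearMap.toMatrix std std (Matrix.toLin' x) := by
      rw [hstd, LinearMap.toMatrix_eq_toMatrix', LinearMap.toMatrix'_toLin']
    conv_lhs => rw [h1]
    rw [basis_toMatrix_mul_linearMap_toMatrix_mul_basis_toMatrix]
  refine ⟨P, ?_, ?_, ?_⟩
  · rw [hPv]
    have h1 : Ω = LinearMap.BilinForm.toMatrix std (Matrix.toBilin' Ω) := by
      rw [hstd, LinearMap.BilinForm.toMatrix_basisFun, LinearMap.BilinForm.toMatrix'_toBilin']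
    conv_lhs => rw [h1]
    rw [LinearMap.BilinForm.toMatrix_mul_basis_toMatrix]
    ext x y
    rw [LinearMap.BilinForm.toMatrix_apply]
    rcases x with x | x <;> rcases y with y | y
    · rw [hbl, hbl, fromBlocks_apply₁₁, ← hbV]
      rfl
    · rw [hbl, hbr, fromBlocks_apply₁₂, Matrix.zero_apply]
      exact horth _ (bV x).2 _ (bW y).2
    · rw [hbr, hbl, fromBlocks_apply₂₁, Matrix.zero_apply, AltForm.alt_swap halt,
        horth _ (bV y).2 _ (bW x).2, neg_zero]
    · rw [hbr, hbr, fromBlocks_apply₂₂, ← hbW]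
      rfl
  · refine ⟨LinearMap.toMatrix bV bV ((Matrix.toLin' T).restrict (self_fitV T)),
      LinearMap.toMatrix bW bW ((Matrix.toLin' T).restrict (self_fitW T)), ?_, ?_, ?_⟩
    · exact (isNilpotent_restrict_fitV T).map (LinearMap.toMatrixAlgEquiv bV)
    · exact (isUnit_restrict_fitW T).map (LinearMap.toMatrixAlgEquiv bW)
    · rw [hconj, hb, he]
      exact toMatrix_of_isCompl hVW bV bW (Matrix.toLin' T) (self_fitV T) (self_fitW T)
  · intro x hx
    refine ⟨LinearMap.toMatrix bV bV ((Matrix.toLin' x).restrict (comm_fitV T x hx)),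
      LinearMap.toMatrix bW bW ((Matrix.toLin' x).restrict (comm_fitW T x hx)), ?_⟩
    rw [hconj, hb, he]
    exact toMatrix_of_isCompl hVW bV bW (Matrix.toLin' x) (comm_fitV T x hx) (comm_fitW T x hx)

end orthfit

end Cfsg.Agent.Lib.Helper5.SpUn
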