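import Mathlib
import Cfsg.Agent.Lib.Helper5.SpUn3

set_option autoImplicit false

/-!
# Orthogonal Fitting decomposition: the counting theorem
-/

namespace Cfsg.Agent.Lib.Helper5.SpUn

open Matrix Cfsg.Agent.Lib.Helper5.NilCount

section grp
variable {F : Type*} [Field F] {ι : Type*} [Fintype ι] [DecidableEq ι]

/-- the isometry group of a Gram matrix, as a subgroup of `GL`. -/
def spGrp (Ω : Matrix ι ι F) : Subgroup (GL ι F) where
  carrier := {g | g.valᵀ * Ω * g.val = Ω}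
  mul_mem' := by
    intro a b ha hb
    simp only [Set.mem_setOf_eq] at ha hb ⊢
    calc (a * b).valᵀ * Ω * (a * b).val = b.valᵀ * (a.valᵀ * Ω * a.val) * b.val := by
          rw [Units.val_mul, transpose_mul]; simp only [mul_assoc]
      _ = Ω := by rw [ha, hb]
  one_mem' := by simp
  inv_mem' := by
    intro a ha
    simp only [Set.mem_setOf_eq] at ha ⊢
    calc (a⁻¹).valᵀ * Ω * (a⁻¹).val = (a⁻¹).valᵀ * (a.valᵀ * Ω * a.val) * (a⁻¹).val := by rw [ha]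
      _ = (a.val * (a⁻¹).val)ᵀ * Ω * (a.val * (a⁻¹).val) := by
          rw [transpose_mul]; simp only [mul_assoc]
      _ = Ω := by rw [← Units.val_mul, mul_inv_cancel]; simp

theorem mem_spGrp {Ω : Matrix ι ι F} {g : GL ι F} : g ∈ spGrp Ω ↔ g.valᵀ * Ω * g.val = Ω := Iff.rfl

theorem isUnit_of_mem_spSet {Ω Ω' g : Matrix ι ι F} (hΩ : Ω' * Ω = 1) (hg : g ∈ spSet Ω) :
    IsUnit g := by
  have h : (Ω' * gᵀ * Ω) * g = 1 := by
    rw [mul_assoc, mul_assoc, ← mul_assoc gᵀ, mem_spSet.1 hg, hΩ]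
  exact (Matrix.isUnit_iff_isUnit_det g).2 (Matrix.isUnit_det_of_left_inverse h)

/-- the isometry group and the set of isometries. -/
theorem card_spGrp [Finite F] {Ω Ω' : Matrix ι ι F} (hΩ : Ω' * Ω = 1) :
    Nat.card (spGrp Ω) = Nat.card {g : Matrix ι ι F // g ∈ spSet Ω} := by
  apply Nat.card_congr
  refine Equiv.ofBijective (fun g => ⟨g.1.val, g.2⟩) ⟨?_, ?_⟩
  · intro g h hgh
    apply Subtype.ext
    apply Units.ext
    exact congrArg Subtype.val hgh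
  · rintro ⟨g, hg⟩
    exact ⟨⟨(isUnit_of_mem_spSet hΩ hg).unit, hg⟩, rfl⟩

end grp

section block
variable {F : Type*} [Field F] {α β : Type*} [Fintype α] [Fintype β] [DecidableEq α] [DecidableEq β]

theorem blockHom_mem_spGrp (Ω₁ : Matrix α α F) (Ω₂ : Matrix β β F) (p : GL α F × GL β F) :
    blockHom F α β p ∈ spGrp (fromBlocks Ω₁ 0 0 Ω₂) ↔ p.1 ∈ spGrp Ω₁ ∧ p.2 ∈ spGrp Ω₂ := by
  rw [mem_spGrp, mem_spGrp, mem_spGrp, blockHom_val, fromBlocks_transpose, fromBlocks_multiply,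
    fromBlocks_multiply, fromBlocks_inj]
  simp

/-- the block diagonal isometries. -/
theorem card_blockSub [Finite F] (Ω₁ : Matrix α α F) (Ω₂ : Matrix β β F) :
    Nat.card (((blockHom F α β).range).subgroupOf (spGrp (fromBlocks Ω₁ 0 0 Ω₂))) =
      Nat.card (spGrp Ω₁) * Nat.card (spGrp Ω₂) := by
  rw [← Nat.card_prod]
  symm
  apply Nat.card_congr
  refine Equiv.ofBijective (fun p => ⟨⟨blockHom F α β (p.1.1, p.2.1),
    (blockHom_mem_spGrp Ω₁ Ω₂ _).2 ⟨p.1.2, p.2.2⟩⟩, Subgroup.mem_subgroupOf.2 ⟨_, rfl⟩⟩) ⟨?_, ?_⟩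
  · rintro ⟨p, q⟩ ⟨p', q'⟩ h
    have h1 : blockHom F α β (p.1, q.1) = blockHom F α β (p'.1, q'.1) :=
      congrArg (fun z => z.1.1) h
    have h2 := blockHom_injective h1
    rw [Prod.mk.injEq] at h2
    exact Prod.ext (Subtype.ext h2.1) (Subtype.ext h2.2)
  · rintro ⟨⟨g, hg⟩, hgH⟩
    obtain ⟨⟨a, b⟩, hab⟩ := Subgroup.mem_subgroupOf.1 hgH
    have hab' : blockHom F α β (a, b) = g := hab
    have h1 : blockHom F α β (a, b) ∈ spGrp (fromBlocks Ω₁ 0 0 Ω₂) := by rw [hab']; exact hg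
    obtain ⟨h2, h3⟩ := (blockHom_mem_spGrp Ω₁ Ω₂ _).1 h1
    refine ⟨(⟨a, h2⟩, ⟨b, h3⟩), ?_⟩
    apply Subtype.ext
    apply Subtype.ext
    exact hab'

end block

section std
variable (F : Type*) [Field F] (k j : ℕ)

/-- the standard form on `(Fin k ⊕ Fin k) ⊕ (Fin j ⊕ Fin j)`. -/
def stdΩ : Matrix ((Fin k ⊕ Fin k) ⊕ (Fin j ⊕ Fin j)) ((Fin k ⊕ Fin k) ⊕ (Fin j ⊕ Fin j)) F :=
  fromBlocks (J (Fin k) F) 0 0 (J (Fin j) F)

theorem stdΩ_transpose : (stdΩ F k j)ᵀ = -stdΩ F k j := by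
  unfold stdΩ
  rw [fromBlocks_transpose, J_transpose, J_transpose, transpose_zero, transpose_zero,
    fromBlocks_neg, neg_zero, neg_zero]

theorem stdΩ_diag (i : (Fin k ⊕ Fin k) ⊕ (Fin j ⊕ Fin j)) : stdΩ F k j i i = 0 := by
  unfold stdΩ
  rcases i with (i | i) | (i | i) <;> simp [J]

theorem stdΩ_mul_inv : stdΩ F k j * fromBlocks (-J (Fin k) F) 0 0 (-J (Fin j) F) = 1 := by
  unfold stdΩ
  rw [fromBlocks_multiply]
  simp [J_squared, fromBlocks_one]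

theorem stdΩ_inv_mul : fromBlocks (-J (Fin k) F) 0 0 (-J (Fin j) F) * stdΩ F k j = 1 := by
  unfold stdΩ
  rw [fromBlocks_multiply]
  simp [J_squared, fromBlocks_one]

theorem J_inv_mul : (-J (Fin k) F) * J (Fin k) F = 1 := by
  simp [J_squared]

end std

end Cfsg.Agent.Lib.Helper5.SpUn
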