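import Mathlib
import Cfsg.Agent.Lib.Helper5.SpUn4

set_option autoImplicit false

/-!
# Orthogonal Fitting decomposition: the counting theorem
-/

namespace Cfsg.Agent.Lib.Helper5.SpUn

open Matrix Cfsg.Agent.Lib.Helper5.NilCount

section count
variable {F : Type*} [Field F] [Finite F] {k j : ℕ}

/-- **The counting form of the orthogonal Fitting decomposition.**  `C` is a class of matrices stable
under the isometry group, `τ` a conjugation-equivariant operation with `τ x` commuting with `x` and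
having adjoint a unit multiple of itself. -/
theorem fit_count
    (C₁ : Set (Matrix (Fin k ⊕ Fin k) (Fin k ⊕ Fin k) F))
    (C₂ : Set (Matrix (Fin j ⊕ Fin j) (Fin j ⊕ Fin j) F))
    (C : Set (Matrix ((Fin k ⊕ Fin k) ⊕ (Fin j ⊕ Fin j)) ((Fin k ⊕ Fin k) ⊕ (Fin j ⊕ Fin j)) F))
    (τ₁ : Matrix (Fin k ⊕ Fin k) (Fin k ⊕ Fin k) F → Matrix (Fin k ⊕ Fin k) (Fin k ⊕ Fin k) F)
    (τ₂ : Matrix (Fin j ⊕ Fin j) (Fin j ⊕ Fin j) F → Matrix (Fin j ⊕ Fin j) (Fin j ⊕ Fin j) F)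
    (τ : Matrix ((Fin k ⊕ Fin k) ⊕ (Fin j ⊕ Fin j)) ((Fin k ⊕ Fin k) ⊕ (Fin j ⊕ Fin j)) F →
      Matrix ((Fin k ⊕ Fin k) ⊕ (Fin j ⊕ Fin j)) ((Fin k ⊕ Fin k) ⊕ (Fin j ⊕ Fin j)) F)
    (ha : ∀ a d, fromBlocks a 0 0 d ∈ C ↔ a ∈ C₁ ∧ d ∈ C₂)
    (hb : ∀ a d, τ (fromBlocks a 0 0 d) = fromBlocks (τ₁ a) 0 0 (τ₂ d))
    (hc : ∀ g : GL ((Fin k ⊕ Fin k) ⊕ (Fin j ⊕ Fin j)) F, g ∈ spGrp (stdΩ F k j) →
      ∀ x ∈ C, g.val * x * (g⁻¹).val ∈ C)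
    (hc' : ∀ (g : GL ((Fin k ⊕ Fin k) ⊕ (Fin j ⊕ Fin j)) F) x,
      τ (g.val * x * (g⁻¹).val) = g.val * τ x * (g⁻¹).val)
    (hd : ∀ x ∈ C, x * τ x = τ x * x ∧ ∃ w w', w * w' = 1 ∧ τ x * w = w * τ x ∧
      (τ x)ᵀ * stdΩ F k j = stdΩ F k j * (τ x * w)) :
    Nat.card {x // x ∈ C ∧ (τ x).charpoly.natTrailingDegree = 2 * k} *
        (Nat.card (spGrp (J (Fin k) F)) * Nat.card (spGrp (J (Fin j) F))) =
      Nat.card (spGrp (stdΩ F k j)) *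
        (Nat.card {a // a ∈ C₁ ∧ IsNilpotent (τ₁ a)} * Nat.card {d // d ∈ C₂ ∧ IsUnit (τ₂ d)}) := by
  classical
  set Ω := stdΩ F k j with hΩ
  let act : spGrp Ω → Matrix ((Fin k ⊕ Fin k) ⊕ (Fin j ⊕ Fin j)) ((Fin k ⊕ Fin k) ⊕ (Fin j ⊕ Fin j)) F →
      Matrix ((Fin k ⊕ Fin k) ⊕ (Fin j ⊕ Fin j)) ((Fin k ⊕ Fin k) ⊕ (Fin j ⊕ Fin j)) F :=
    fun g x => g.1.val * x * (g.1⁻¹).val
  have act_one : ∀ x, act 1 x = x := by
    intro x
    simp [act]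
  have act_mul : ∀ g h x, act (g * h) x = act g (act h x) := by
    intro g h x
    simp only [act, Subgroup.coe_mul, _root_.mul_inv_rev, Units.val_mul, mul_assoc]
  let S : Set (Matrix ((Fin k ⊕ Fin k) ⊕ (Fin j ⊕ Fin j)) ((Fin k ⊕ Fin k) ⊕ (Fin j ⊕ Fin j)) F) :=
    {x | ∃ a d, a ∈ C₁ ∧ d ∈ C₂ ∧ IsNilpotent (τ₁ a) ∧ IsUnit (τ₂ d) ∧ x = fromBlocks a 0 0 d}
  let H : Subgroup (spGrp Ω) :=
    ((blockHom F (Fin k ⊕ Fin k) (Fin j ⊕ Fin j)).range).subgroupOf (spGrp Ω)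
  have hτS : ∀ s ∈ S, τ s ∈ nilUnitSet F (Fin k ⊕ Fin k) (Fin j ⊕ Fin j) := by
    rintro s ⟨a, d, -, -, hn, hu, rfl⟩
    rw [hb]
    exact ⟨_, _, hn, hu, rfl⟩
  have hSC : ∀ s ∈ S, s ∈ C := by
    rintro s ⟨a, d, ha1, hd1, -, -, rfl⟩
    exact (ha a d).2 ⟨ha1, hd1⟩
  have hH : ∀ s ∈ S, ∀ g, act g s ∈ S ↔ g ∈ H := by
    intro s hs g
    constructor
    · intro hgs
      have h1 : τ (act g s) ∈ nilUnitSet F (Fin k ⊕ Fin k) (Fin j ⊕ Fin j) := hτS _ hgs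
      have h2 : τ (act g s) * g.1.val = g.1.val * τ s := by
        show τ (g.1.val * s * (g.1⁻¹).val) * g.1.val = g.1.val * τ s
        rw [hc', mul_assoc, ← Units.val_mul, inv_mul_cancel, Units.val_one, mul_one]
      obtain ⟨h12, h21⟩ := blocks_zero_of_intertwine h1 (hτS s hs) g.1.val h2
      exact Subgroup.mem_subgroupOf.2 (mem_range_blockHom g.1 h12 h21)
    · intro hg
      obtain ⟨⟨p, q⟩, hpq⟩ := Subgroup.mem_subgroupOf.1 hg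
      have hpq' : g.1 = blockHom F (Fin k ⊕ Fin k) (Fin j ⊕ Fin j) (p, q) := hpq.symm
      obtain ⟨a, d, ha1, hd1, hn, hu, rfl⟩ := hs
      have e0 : ∀ a' d', act g (fromBlocks a' 0 0 d') =
          fromBlocks (p.val * a' * (p⁻¹).val) 0 0 (q.val * d' * (q⁻¹).val) := by
        intro a' d'
        show g.1.val * _ * (g.1⁻¹).val = _
        rw [hpq', ← map_inv, blockHom_val, blockHom_val]
        simp only [Prod.inv_mk, fromBlocks_multiply]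
        simp
      have h3 : act g (fromBlocks a 0 0 d) ∈ C := hc g.1 g.2 _ ((ha a d).2 ⟨ha1, hd1⟩)
      rw [e0] at h3
      obtain ⟨h4, h5⟩ := (ha _ _).1 h3
      have h6 : τ (act g (fromBlocks a 0 0 d)) = act g (τ (fromBlocks a 0 0 d)) := hc' g.1 _
      rw [e0, hb, hb, e0, fromBlocks_inj] at h6
      refine ⟨_, _, h4, h5, ?_, ?_, e0 a d⟩
      · rw [h6.1]
        obtain ⟨m, hm⟩ := hn
        exact ⟨m, by rw [Units.conj_pow, hm, mul_zero, zero_mul]⟩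
      · rw [h6.2.2.2]
        exact (q.isUnit.mul hu).mul (q⁻¹).isUnit
  have h := card_saturation act act_one act_mul S H hH
  have hcH : Nat.card H = Nat.card (spGrp (J (Fin k) F)) * Nat.card (spGrp (J (Fin j) F)) :=
    card_blockSub (J (Fin k) F) (J (Fin j) F)
  have hcS : Nat.card S =
      Nat.card {a // a ∈ C₁ ∧ IsNilpotent (τ₁ a)} * Nat.card {d // d ∈ C₂ ∧ IsUnit (τ₂ d)} := by
    rw [← Nat.card_prod]
    symm
    apply Nat.card_congr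
    refine Equiv.ofBijective (fun p => ⟨fromBlocks p.1.1 0 0 p.2.1,
      p.1.1, p.2.1, p.1.2.1, p.2.2.1, p.1.2.2, p.2.2.2, rfl⟩) ⟨?_, ?_⟩
    · rintro ⟨⟨a, ha'⟩, ⟨d, hd'⟩⟩ ⟨⟨a', ha''⟩, ⟨d', hd''⟩⟩ h
      have h' := congrArg Subtype.val h
      simp only [fromBlocks_inj] at h'
      exact Prod.ext (Subtype.ext h'.1) (Subtype.ext h'.2.2.2)
    · rintro ⟨x, a, d, h1, h2, h3, h4, rfl⟩
      exact ⟨(⟨a, h1, h3⟩, ⟨d, h2, h4⟩), rfl⟩
  rw [hcH, hcS] at h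
  rw [← h]
  congr 1
  apply Nat.card_congr
  apply Equiv.subtypeEquivRight
  intro x
  constructor
  · rintro ⟨hxC, hdeg⟩
    obtain ⟨hcomm, w, w', hw, hTw, hadj⟩ := hd x hxC
    obtain ⟨P, hP1, ⟨N, A, hN, hA, hP2⟩, hP3⟩ := orthFit Ω _ (τ x) w w' (stdΩ_transpose F k j)
      (stdΩ_diag F k j) (stdΩ_mul_inv F k j) hw hTw hadj hdeg
    obtain ⟨a, d, hx'⟩ := hP3 x hcomm
    have hPmem : P ∈ spGrp Ω := hP1
    have hPi : P⁻¹ ∈ spGrp Ω := (spGrp Ω).inv_mem hPmem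
    have h1 : (P⁻¹).val * x * P.val ∈ C := by
      have := hc P⁻¹ hPi x hxC
      rwa [inv_inv] at this
    have h2 : τ ((P⁻¹).val * x * P.val) = (P⁻¹).val * τ x * P.val := by
      have := hc' P⁻¹ x
      rwa [inv_inv] at this
    rw [hx'] at h1 h2
    rw [hb, hP2, fromBlocks_inj] at h2
    obtain ⟨h3, h4⟩ := (ha a d).1 h1
    refine ⟨⟨P, hPmem⟩, fromBlocks a 0 0 d, ⟨a, d, h3, h4, ?_, ?_, rfl⟩, ?_⟩
    · rw [h2.1]; exact hN
    · rw [h2.2.2.2]; exact hA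
    · show P.val * fromBlocks a 0 0 d * (P⁻¹).val = x
      rw [← hx']
      simp only [← mul_assoc]
      rw [← Units.val_mul, mul_inv_cancel, Units.val_one, one_mul, mul_assoc, ← Units.val_mul,
        mul_inv_cancel, Units.val_one, mul_one]
  · rintro ⟨g, s, hs, rfl⟩
    refine ⟨hc g.1 g.2 s (hSC s hs), ?_⟩
    show (τ (g.1.val * s * (g.1⁻¹).val)).charpoly.natTrailingDegree = 2 * k
    rw [hc']
    have e : ((g.1⁻¹ : GL _ F)).val = (g.1.val)⁻¹ := Matrix.coe_units_inv g.1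
    rw [e, Matrix.charpoly_units_conj, natTrailingDegree_of_mem (hτS s hs), Fintype.card_sum,
      Fintype.card_fin]
    ring

end count

end Cfsg.Agent.Lib.Helper5.SpUn
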