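import Mathlib
import Cfsg.Agent.Lib.Helper5.SpUn5

set_option autoImplicit false

/-!
# Reindexing the orthogonal sum of two standard symplectic spaces
-/

namespace Cfsg.Agent.Lib.Helper5.SpUn

open Matrix

section reindex
variable (F : Type*) [Field F] (k j : ℕ)

/-- the index equivalence. -/
def eKJ : (Fin k ⊕ Fin k) ⊕ (Fin j ⊕ Fin j) ≃ Fin (k + j) ⊕ Fin (k + j) :=
  (Equiv.sumSumSumComm (Fin k) (Fin k) (Fin j) (Fin j)).trans
    (Equiv.sumCongr finSumFinEquiv finSumFinEquiv)

theorem castAdd_ne_natAdd' (a : Fin k) (b : Fin j) : Fin.castAdd j a ≠ Fin.natAdd k b := by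
  intro h
  have := congrArg Fin.val h
  simp only [Fin.val_castAdd, Fin.val_natAdd] at this
  omega

theorem J_eKJ (x y : (Fin k ⊕ Fin k) ⊕ (Fin j ⊕ Fin j)) :
    J (Fin (k + j)) F (eKJ k j x) (eKJ k j y) = stdΩ F k j x y := by
  have h1 := castAdd_ne_natAdd' k j
  have h2 : ∀ (a : Fin k) (b : Fin j), Fin.natAdd k b ≠ Fin.castAdd j a := fun a b => (h1 a b).symm
  rcases x with (x | x) | (x | x) <;> rcases y with (y | y) | (y | y) <;>
    simp [eKJ, stdΩ, J, Matrix.one_apply, h1, h2]

theorem stdΩ_eq_submatrix : stdΩ F k j = (J (Fin (k + j)) F).submatrix (eKJ k j) (eKJ k j) := by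
  ext x y
  rw [submatrix_apply, J_eKJ]

end reindex

section transport
variable {F : Type*} [Field F] {ι ι' : Type*} [Fintype ι] [DecidableEq ι] [Fintype ι'] [DecidableEq ι']

theorem reindex_transpose (e : ι ≃ ι') (x : Matrix ι ι F) :
    Matrix.reindexAlgEquiv F F e xᵀ = (Matrix.reindexAlgEquiv F F e x)ᵀ := by
  ext a b
  simp [Matrix.reindexAlgEquiv_apply]

theorem reindex_submatrix (e : ι ≃ ι') (Ω' : Matrix ι' ι' F) :
    Matrix.reindexAlgEquiv F F e (Ω'.submatrix e e) = Ω' := by
  ext a b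
  simp [Matrix.reindexAlgEquiv_apply]

theorem reindex_mem_spSet (e : ι ≃ ι') (Ω' : Matrix ι' ι' F) (x : Matrix ι ι F) :
    Matrix.reindexAlgEquiv F F e x ∈ spSet Ω' ↔ x ∈ spSet (Ω'.submatrix e e) := by
  rw [mem_spSet, mem_spSet]
  constructor
  · intro h
    apply (Matrix.reindexAlgEquiv F F e).injective
    rw [map_mul, map_mul, reindex_transpose, reindex_submatrix, h]
  · intro h
    have h' := congrArg (Matrix.reindexAlgEquiv F F e) h
    rwa [map_mul, map_mul, reindex_transpose, reindex_submatrix] at h'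

theorem reindex_mem_aSet (e : ι ≃ ι') (Ω' : Matrix ι' ι' F) (x : Matrix ι ι F) :
    Matrix.reindexAlgEquiv F F e x ∈ aSet Ω' ↔ x ∈ aSet (Ω'.submatrix e e) := by
  rw [mem_aSet, mem_aSet]
  constructor
  · intro h
    apply (Matrix.reindexAlgEquiv F F e).injective
    rw [map_add, map_add, map_mul, map_mul, reindex_transpose, reindex_submatrix, h, map_zero]
  · intro h
    have h' := congrArg (Matrix.reindexAlgEquiv F F e) h
    rwa [map_add, map_add, map_mul, map_mul, reindex_transpose, reindex_submatrix, map_zero] at h'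

theorem reindex_charpoly (e : ι ≃ ι') (x : Matrix ι ι F) :
    (Matrix.reindexAlgEquiv F F e x).charpoly = x.charpoly := by
  rw [Matrix.reindexAlgEquiv_apply, Matrix.charpoly_reindex]

/-- transport of a count along a reindexing. -/
theorem card_reindex (e : ι ≃ ι') (P : Matrix ι ι F → Prop) (P' : Matrix ι' ι' F → Prop)
    (h : ∀ x, P' (Matrix.reindexAlgEquiv F F e x) ↔ P x) :
    Nat.card {x // P x} = Nat.card {y // P' y} :=
  Nat.card_congr ((Matrix.reindexAlgEquiv F F e).toEquiv.subtypeEquiv fun x => (h x).symm)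

end transport

section fibers

theorem sum_fibers {X : Type*} [Finite X] (f : X → ℕ) (n : ℕ) (hf : ∀ x, Even (f x) ∧ f x ≤ 2 * n) :
    ∑ k ∈ Finset.range (n + 1), Nat.card {x // f x = 2 * k} = Nat.card X := by
  classical
  have hle : ∀ x, f x / 2 < n + 1 := by
    intro x
    have := (hf x).2
    omega
  let g : X → Fin (n + 1) := fun x => ⟨f x / 2, hle x⟩
  have h1 := Nat.card_congr (Equiv.sigmaFiberEquiv g)
  rw [Nat.card_sigma] at h1
  rw [← h1, Finset.sum_range]
  apply Finset.sum_congr rfl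
  intro k _
  apply Nat.card_congr
  apply Equiv.subtypeEquivRight
  intro x
  obtain ⟨r, hr⟩ := (hf x).1
  simp only [g, Fin.ext_iff]
  omega

end fibers

end Cfsg.Agent.Lib.Helper5.SpUn
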