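import Mathlib
import Cfsg.Agent.Lib.Helper5.SpUn6

set_option autoImplicit false

/-!
# The Fitting relation in the symplectic group (package B1)
-/

namespace Cfsg.Agent.Lib.Helper5.SpUn

open Matrix Cfsg.Agent.Lib.Helper5.NilCount

section general
variable {F : Type*} [Field F] {ι : Type*} [Fintype ι] [DecidableEq ι]

theorem sp_conj_mem (Ω : Matrix ι ι F) (g : GL ι F) (hg : g ∈ spGrp Ω) (x : Matrix ι ι F)
    (hx : x ∈ spSet Ω) : g.val * x * (g⁻¹).val ∈ spSet Ω := by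
  have hgi : g⁻¹ ∈ spGrp Ω := (spGrp Ω).inv_mem hg
  rw [mem_spGrp] at hg hgi
  rw [mem_spSet] at hx ⊢
  calc (g.val * x * (g⁻¹).val)ᵀ * Ω * (g.val * x * (g⁻¹).val)
      = (g⁻¹).valᵀ * (xᵀ * (g.valᵀ * Ω * g.val) * x) * (g⁻¹).val := by
        simp only [transpose_mul, mul_assoc]
    _ = Ω := by rw [hg, hx, hgi]

theorem conj_sub_one (g : GL ι F) (x : Matrix ι ι F) :
    g.val * x * (g⁻¹).val - 1 = g.val * (x - 1) * (g⁻¹).val := by
  rw [mul_sub, sub_mul, mul_one, ← Units.val_mul, mul_inv_cancel, Units.val_one]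

/-- the adjoint of `x - 1` is `(x - 1) * (-x⁻¹)`. -/
theorem sp_adj (Ω Ω' x : Matrix ι ι F) (hΩ : Ω * Ω' = 1) (hx : x ∈ spSet Ω) :
    x * (x - 1) = (x - 1) * x ∧ ∃ w w', w * w' = 1 ∧ (x - 1) * w = w * (x - 1) ∧
      (x - 1)ᵀ * Ω = Ω * ((x - 1) * w) := by
  have hΩ' : Ω' * Ω = 1 := (Matrix.mul_eq_one_comm_of_card_eq ι ι F rfl).mp hΩ
  set y := Ω' * xᵀ * Ω with hy
  have hyx : y * x = 1 := by
    rw [hy, mul_assoc, mul_assoc, ← mul_assoc xᵀ, mem_spSet.1 hx, hΩ']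
  have hxy : x * y = 1 := (Matrix.mul_eq_one_comm_of_card_eq ι ι F rfl).mp hyx
  have hΩy : Ω * y = xᵀ * Ω := by rw [hy, ← mul_assoc, ← mul_assoc, hΩ, one_mul]
  refine ⟨by rw [mul_sub, sub_mul, mul_one, one_mul], -y, -x, ?_, ?_, ?_⟩
  · rw [neg_mul_neg, hyx]
  · calc (x - 1) * -y = -(x * y) + y := by noncomm_ring
      _ = -(y * x) + y := by rw [hxy, hyx]
      _ = -y * (x - 1) := by noncomm_ring
  · calc (x - 1)ᵀ * Ω = xᵀ * Ω - Ω := by rw [transpose_sub, transpose_one, sub_mul, one_mul]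
      _ = Ω * y - Ω * (x * y) := by rw [hΩy, hxy, mul_one]
      _ = Ω * ((x - 1) * -y) := by noncomm_ring

end general

section blocks
variable {F : Type*} [Field F] {α β : Type*} [Fintype α] [Fintype β] [DecidableEq α] [DecidableEq β]

theorem fromBlocks_mem_spSet (Ω₁ : Matrix α α F) (Ω₂ : Matrix β β F) (a : Matrix α α F)
    (d : Matrix β β F) :
    fromBlocks a 0 0 d ∈ spSet (fromBlocks Ω₁ 0 0 Ω₂) ↔ a ∈ spSet Ω₁ ∧ d ∈ spSet Ω₂ := by
  rw [mem_spSet, mem_spSet, mem_spSet, fromBlocks_transpose, fromBlocks_multiply,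
    fromBlocks_multiply, fromBlocks_inj]
  simp

theorem fromBlocks_sub_one (a : Matrix α α F) (d : Matrix β β F) :
    fromBlocks a 0 0 d - 1 = fromBlocks (a - 1) 0 0 (d - 1) := by
  rw [← fromBlocks_one, sub_eq_add_neg, fromBlocks_neg, fromBlocks_add]
  simp [sub_eq_add_neg]

end blocks

section B1
variable (F : Type*) [Field F] [Fintype F]

/-- the number of isometries `g` with `dim ker (g - 1)^∞ = 2k`. -/
noncomputable def t1N (n k : ℕ) : ℕ :=
  Nat.card {g : Matrix (Fin n ⊕ Fin n) (Fin n ⊕ Fin n) F //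
    g ∈ spSet (J (Fin n) F) ∧ (g - 1).charpoly.natTrailingDegree = 2 * k}

theorem card_spGrp_J (k : ℕ) : Nat.card (spGrp (J (Fin k) F)) = sN F k :=
  card_spGrp (J_inv_mul F k)

theorem card_spGrp_std (k j : ℕ) : Nat.card (spGrp (stdΩ F k j)) = sN F (k + j) := by
  rw [card_spGrp (stdΩ_inv_mul F k j)]
  unfold sN
  apply card_reindex (eKJ k j)
  intro x
  rw [reindex_mem_spSet, ← stdΩ_eq_submatrix]

theorem count_B1 (k j : ℕ) :
    t1N F (k + j) k * (sN F k * sN F j) = sN F (k + j) * (uN F k * eN F j) := by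
  have h := fit_count (F := F) (k := k) (j := j) (spSet (J (Fin k) F)) (spSet (J (Fin j) F))
    (spSet (stdΩ F k j)) (fun a => a - 1) (fun d => d - 1) (fun x => x - 1)
    (fun a d => fromBlocks_mem_spSet _ _ a d) (fun a d => fromBlocks_sub_one a d)
    (fun g hg x hx => sp_conj_mem _ g hg x hx) (fun g x => conj_sub_one g x)
    (fun x hx => sp_adj _ _ x (stdΩ_mul_inv F k j) hx)
  rw [card_spGrp_J, card_spGrp_J, card_spGrp_std] at h
  have e1 : Nat.card {x : Matrix ((Fin k ⊕ Fin k) ⊕ (Fin j ⊕ Fin j)) ((Fin k ⊕ Fin k) ⊕ (Fin j ⊕ Fin j)) F //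
      x ∈ spSet (stdΩ F k j) ∧ (x - 1).charpoly.natTrailingDegree = 2 * k} = t1N F (k + j) k := by
    unfold t1N
    apply card_reindex (eKJ k j)
    intro x
    rw [reindex_mem_spSet, ← stdΩ_eq_submatrix, ← map_one (Matrix.reindexAlgEquiv F F (eKJ k j)),
      ← map_sub, reindex_charpoly]
  rw [e1] at h
  exact h

theorem J_mul_inv (k : ℕ) : J (Fin k) F * (-J (Fin k) F) = 1 := by
  simp [J_squared]

theorem J_diag (k : ℕ) (i : Fin k ⊕ Fin k) : J (Fin k) F i i = 0 := by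
  rcases i with i | i <;> simp [J]

theorem natTrailingDegree_le_two_mul (n : ℕ) (T : Matrix (Fin n ⊕ Fin n) (Fin n ⊕ Fin n) F) :
    T.charpoly.natTrailingDegree ≤ 2 * n := by
  have h1 := Polynomial.natTrailingDegree_le_natDegree (p := T.charpoly)
  rw [Matrix.charpoly_natDegree_eq_dim, Fintype.card_sum, Fintype.card_fin] at h1
  omega

theorem sum_t1N (n : ℕ) : ∑ k ∈ Finset.range (n + 1), t1N F n k = sN F n := by
  unfold sN
  rw [← sum_fibers (X := {g : Matrix (Fin n ⊕ Fin n) (Fin n ⊕ Fin n) F // g ∈ spSet (J (Fin n) F)})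
    (fun g => (g.1 - 1).charpoly.natTrailingDegree) n ?_]
  · apply Finset.sum_congr rfl
    intro k _
    unfold t1N
    apply Nat.card_congr
    exact (Equiv.subtypeSubtypeEquivSubtypeInter _ _).symm
  · intro g
    refine ⟨?_, natTrailingDegree_le_two_mul F n _⟩
    obtain ⟨-, w, w', hw, hTw, hadj⟩ := sp_adj _ _ g.1 (J_mul_inv F n) g.2
    exact even_trailing _ _ (g.1 - 1) w w' (J_transpose (Fin n) F) (J_diag F n) (J_mul_inv F n)
      hw hTw hadj

/-- **Package B1.** -/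
theorem exists_t1 : ∃ t1 : ℕ → ℕ → ℕ,
    (∀ n k, k ≤ n → t1 n k * (sN F k * sN F (n - k)) = sN F n * (uN F k * eN F (n - k))) ∧
    ∀ n, ∑ k ∈ Finset.range (n + 1), t1 n k = sN F n := by
  refine ⟨t1N F, ?_, sum_t1N F⟩
  intro n k hk
  obtain ⟨j, rfl⟩ := Nat.exists_eq_add_of_le hk
  rw [Nat.add_sub_cancel_left]
  exact count_B1 F k j

end B1

end Cfsg.Agent.Lib.Helper5.SpUn
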