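import Mathlib
import Cfsg.Agent.Lib.Helper5.SpUn7

set_option autoImplicit false

/-!
# The Fitting relation in the affine space of Cayley--Wall parameters (package B3)
-/

namespace Cfsg.Agent.Lib.Helper5.SpUn

open Matrix Cfsg.Agent.Lib.Helper5.NilCount

section general
variable {F : Type*} [Field F] {ι : Type*} [Fintype ι] [DecidableEq ι]

theorem a_conj_mem (Ω : Matrix ι ι F) (g : GL ι F) (hg : g ∈ spGrp Ω) (x : Matrix ι ι F)
    (hx : x ∈ aSet Ω) : g.val * x * (g⁻¹).val ∈ aSet Ω := by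
  have hgi : g⁻¹ ∈ spGrp Ω := (spGrp Ω).inv_mem hg
  rw [mem_spGrp] at hg hgi
  rw [mem_aSet] at hx ⊢
  have hgg : g.val * (g⁻¹).val = 1 := by rw [← Units.val_mul, mul_inv_cancel, Units.val_one]
  have h1 : g.valᵀ * Ω = Ω * (g⁻¹).val := by
    calc g.valᵀ * Ω = g.valᵀ * Ω * (g.val * (g⁻¹).val) := by rw [hgg, mul_one]
      _ = (g.valᵀ * Ω * g.val) * (g⁻¹).val := by simp only [mul_assoc]
      _ = Ω * (g⁻¹).val := by rw [hg]
  have h2 : Ω * g.val = (g⁻¹).valᵀ * Ω := by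
    calc Ω * g.val = (g.val * (g⁻¹).val)ᵀ * Ω * g.val := by rw [hgg, transpose_one, one_mul]
      _ = (g⁻¹).valᵀ * (g.valᵀ * Ω * g.val) := by rw [transpose_mul]; simp only [mul_assoc]
      _ = (g⁻¹).valᵀ * Ω := by rw [hg]
  calc (g.val * x * (g⁻¹).val)ᵀ * Ω + Ω * (g.val * x * (g⁻¹).val) + Ω
      = (g⁻¹).valᵀ * xᵀ * (g.valᵀ * Ω) + (Ω * g.val) * x * (g⁻¹).val + (g⁻¹).valᵀ * Ω * (g⁻¹).val := by
        rw [hgi]; simp only [transpose_mul, mul_assoc]
    _ = (g⁻¹).valᵀ * (xᵀ * Ω + Ω * x + Ω) * (g⁻¹).val := by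
        rw [h1, h2]; noncomm_ring
    _ = 0 := by rw [hx, mul_zero, zero_mul]

theorem conj_mul_add_one (g : GL ι F) (x : Matrix ι ι F) :
    g.val * x * (g⁻¹).val * (g.val * x * (g⁻¹).val + 1) = g.val * (x * (x + 1)) * (g⁻¹).val := by
  have hgg : (g⁻¹).val * g.val = 1 := by rw [← Units.val_mul, inv_mul_cancel, Units.val_one]
  calc g.val * x * (g⁻¹).val * (g.val * x * (g⁻¹).val + 1)
      = g.val * x * ((g⁻¹).val * g.val) * x * (g⁻¹).val + g.val * x * (g⁻¹).val := by noncomm_ring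
    _ = g.val * (x * (x + 1)) * (g⁻¹).val := by rw [hgg]; noncomm_ring

/-- `A (A + 1)` is self-adjoint. -/
theorem a_adj (Ω x : Matrix ι ι F) (hx : x ∈ aSet Ω) :
    x * (x * (x + 1)) = (x * (x + 1)) * x ∧ ∃ w w' : Matrix ι ι F, w * w' = 1 ∧
      (x * (x + 1)) * w = w * (x * (x + 1)) ∧
      (x * (x + 1))ᵀ * Ω = Ω * ((x * (x + 1)) * w) := by
  refine ⟨by noncomm_ring, 1, 1, one_mul 1, by rw [mul_one, one_mul], ?_⟩
  rw [mem_aSet] at hx
  have h1 : xᵀ * Ω = -(Ω * x) - Ω := by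
    have : xᵀ * Ω = (xᵀ * Ω + Ω * x + Ω) - Ω * x - Ω := by noncomm_ring
    rw [this, hx]; noncomm_ring
  calc (x * (x + 1))ᵀ * Ω = (xᵀ + 1) * (xᵀ * Ω) := by
        rw [transpose_mul, transpose_add, transpose_one, mul_assoc]
    _ = (xᵀ + 1) * (-(Ω * x) - Ω) := by rw [h1]
    _ = -(xᵀ * Ω) * x - xᵀ * Ω - Ω * x - Ω := by noncomm_ring
    _ = -(-(Ω * x) - Ω) * x - (-(Ω * x) - Ω) - Ω * x - Ω := by rw [h1]
    _ = Ω * (x * (x + 1) * 1) := by noncomm_ring

/-- in `aSet`, `A` is invertible iff `A + 1` is. -/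
theorem isUnit_mul_add_one_iff (Ω Ω' x : Matrix ι ι F) (hΩ : Ω * Ω' = 1) (hx : x ∈ aSet Ω) :
    IsUnit (x * (x + 1)) ↔ IsUnit x := by
  rw [mem_aSet] at hx
  have h1 : xᵀ * Ω = -(Ω * (x + 1)) := by
    have : xᵀ * Ω = (xᵀ * Ω + Ω * x + Ω) - Ω * (x + 1) := by noncomm_ring
    rw [this, hx]; noncomm_ring
  have h2 := congrArg Matrix.det h1
  rw [det_mul, det_transpose, det_neg, det_mul] at h2
  have hΩu : Ω.det ≠ 0 := (Matrix.isUnit_det_of_right_inverse hΩ).ne_zero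
  have hs : ((-1 : F)) ^ Fintype.card ι ≠ 0 := pow_ne_zero _ (neg_ne_zero.2 one_ne_zero)
  have key : x.det ≠ 0 ↔ (x + 1).det ≠ 0 := by
    constructor
    · intro h h0
      rw [h0, mul_zero, mul_zero] at h2
      exact (mul_ne_zero h hΩu) h2
    · intro h h0
      rw [h0, zero_mul] at h2
      exact (mul_ne_zero hs (mul_ne_zero hΩu h)) h2.symm
  rw [Matrix.isUnit_iff_isUnit_det, Matrix.isUnit_iff_isUnit_det, det_mul, isUnit_iff_ne_zero,
    isUnit_iff_ne_zero]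
  constructor
  · intro h
    exact left_ne_zero_of_mul h
  · intro h
    exact mul_ne_zero h (key.1 h)

end general

section blocks
variable {F : Type*} [Field F] {α β : Type*} [Fintype α] [Fintype β] [DecidableEq α] [DecidableEq β]

theorem fromBlocks_mem_aSet (Ω₁ : Matrix α α F) (Ω₂ : Matrix β β F) (a : Matrix α α F)
    (d : Matrix β β F) :
    fromBlocks a 0 0 d ∈ aSet (fromBlocks Ω₁ 0 0 Ω₂) ↔ a ∈ aSet Ω₁ ∧ d ∈ aSet Ω₂ := by
  rw [mem_aSet, mem_aSet, mem_aSet, fromBlocks_transpose, fromBlocks_multiply,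
    fromBlocks_multiply, fromBlocks_add, fromBlocks_add, ← fromBlocks_zero, fromBlocks_inj]
  simp

theorem fromBlocks_mul_add_one (a : Matrix α α F) (d : Matrix β β F) :
    fromBlocks a 0 0 d * (fromBlocks a 0 0 d + 1) =
      fromBlocks (a * (a + 1)) 0 0 (d * (d + 1)) := by
  rw [← fromBlocks_one, fromBlocks_add, fromBlocks_multiply]
  simp

end blocks

section B3
variable (F : Type*) [Field F] [Fintype F]

/-- the number of `A` in `aSet` with `dim ker (A (A + 1))^∞ = 2k`. -/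
noncomputable def t3N (n k : ℕ) : ℕ :=
  Nat.card {A : Matrix (Fin n ⊕ Fin n) (Fin n ⊕ Fin n) F //
    A ∈ aSet (J (Fin n) F) ∧ (A * (A + 1)).charpoly.natTrailingDegree = 2 * k}

theorem iN_eq' (j : ℕ) :
    Nat.card {d : Matrix (Fin j ⊕ Fin j) (Fin j ⊕ Fin j) F //
      d ∈ aSet (J (Fin j) F) ∧ IsUnit (d * (d + 1))} = iN F j := by
  unfold iN
  apply Nat.card_congr
  apply Equiv.subtypeEquivRight
  intro d
  constructor
  · rintro ⟨h1, h2⟩
    exact ⟨h1, (isUnit_mul_add_one_iff _ _ d (J_mul_inv F j) h1).1 h2⟩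
  · rintro ⟨h1, h2⟩
    exact ⟨h1, (isUnit_mul_add_one_iff _ _ d (J_mul_inv F j) h1).2 h2⟩

theorem count_B3 (k j : ℕ) :
    t3N F (k + j) k * (sN F k * sN F j) = sN F (k + j) * (hN F k * iN F j) := by
  have h := fit_count (F := F) (k := k) (j := j) (aSet (J (Fin k) F)) (aSet (J (Fin j) F))
    (aSet (stdΩ F k j)) (fun a => a * (a + 1)) (fun d => d * (d + 1)) (fun x => x * (x + 1))
    (fun a d => fromBlocks_mem_aSet _ _ a d) (fun a d => fromBlocks_mul_add_one a d)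
    (fun g hg x hx => a_conj_mem _ g hg x hx) (fun g x => conj_mul_add_one g x)
    (fun x hx => a_adj _ x hx)
  rw [card_spGrp_J, card_spGrp_J, card_spGrp_std, iN_eq'] at h
  have e1 : Nat.card {x : Matrix ((Fin k ⊕ Fin k) ⊕ (Fin j ⊕ Fin j)) ((Fin k ⊕ Fin k) ⊕ (Fin j ⊕ Fin j)) F //
      x ∈ aSet (stdΩ F k j) ∧ (x * (x + 1)).charpoly.natTrailingDegree = 2 * k} =
        t3N F (k + j) k := by
    unfold t3N
    apply card_reindex (eKJ k j)
    intro x
    rw [reindex_mem_aSet, ← stdΩ_eq_submatrix, ← map_one (Matrix.reindexAlgEquiv F F (eKJ k j)),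
      ← map_add, ← map_mul, reindex_charpoly]
  rw [e1] at h
  exact h

theorem sum_t3N (n : ℕ) : ∑ k ∈ Finset.range (n + 1), t3N F n k = aN F n := by
  unfold aN
  rw [← sum_fibers (X := {A : Matrix (Fin n ⊕ Fin n) (Fin n ⊕ Fin n) F // A ∈ aSet (J (Fin n) F)})
    (fun A => (A.1 * (A.1 + 1)).charpoly.natTrailingDegree) n ?_]
  · apply Finset.sum_congr rfl
    intro k _
    unfold t3N
    apply Nat.card_congr
    exact (Equiv.subtypeSubtypeEquivSubtypeInter _ _).symm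
  · intro A
    refine ⟨?_, natTrailingDegree_le_two_mul F n _⟩
    obtain ⟨-, w, w', hw, hTw, hadj⟩ := a_adj (J (Fin n) F) A.1 A.2
    exact even_trailing _ _ (A.1 * (A.1 + 1)) w w' (J_transpose (Fin n) F) (J_diag F n)
      (J_mul_inv F n) hw hTw hadj

/-- **Package B3.** -/
theorem exists_t3 : ∃ t3 : ℕ → ℕ → ℕ,
    (∀ n k, k ≤ n → t3 n k * (sN F k * sN F (n - k)) = sN F n * (hN F k * iN F (n - k))) ∧
    ∀ n, ∑ k ∈ Finset.range (n + 1), t3 n k = aN F n := by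
  refine ⟨t3N F, ?_, sum_t3N F⟩
  intro n k hk
  obtain ⟨j, rfl⟩ := Nat.exists_eq_add_of_le hk
  rw [Nat.add_sub_cancel_left]
  exact count_B3 F k j

end B3

end Cfsg.Agent.Lib.Helper5.SpUn
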