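import Mathlib
import Cfsg.Agent.Lib.Helper5.SpUn8

set_option autoImplicit false

/-!
# Unipotent elements of the symplectic group: elements of `p`-power order
-/

namespace Cfsg.Agent.Lib.Helper5.SpUn

open Matrix

section unip
variable {F : Type*} [Field F] (p : ℕ) [Fact p.Prime] [CharP F p]
variable {ι : Type*} [Fintype ι] [DecidableEq ι]

theorem sub_one_pow_char_pow' (A : Matrix ι ι F) (j : ℕ) :
    (A - 1) ^ (p ^ j) = A ^ (p ^ j) - 1 := by
  rcases isEmpty_or_nonempty ι with hn | hn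
  · exact Subsingleton.elim _ _
  · rw [sub_pow_char_pow_of_commute p j (Commute.one_right _), one_pow]

theorem isNilpotent_sub_one_of_pow (A : Matrix ι ι F) (j : ℕ) (h : A ^ (p ^ j) = 1) :
    IsNilpotent (A - 1) :=
  ⟨p ^ j, by rw [sub_one_pow_char_pow', h, sub_self]⟩

theorem pow_eq_one_of_isNilpotent_sub_one (A : Matrix ι ι F) (h : IsNilpotent (A - 1)) :
    ∃ j : ℕ, A ^ (p ^ j) = 1 := by
  have hp : p.Prime := Fact.out
  obtain ⟨m, hm⟩ := h
  refine ⟨m, ?_⟩
  have h1 := sub_one_pow_char_pow' p A m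
  have h2 : (A - 1) ^ (p ^ m) = 0 := by
    have hle : m ≤ p ^ m := (Nat.lt_pow_self hp.one_lt).le
    obtain ⟨t, ht⟩ := Nat.exists_eq_add_of_le hle
    rw [ht, pow_add, hm, zero_mul]
  rw [h2] at h1
  exact (sub_eq_zero.1 h1.symm)

end unip

section final
variable (F : Type*) [Field F] [Fintype F]

theorem sN_eq_card (m : ℕ) : sN F m = Nat.card (Matrix.symplecticGroup (Fin m) F) := by
  unfold sN
  apply Nat.card_congr
  apply Equiv.subtypeEquivRight
  intro g
  rw [mem_spSet, SymplecticGroup.mem_iff']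

theorem card_unipotent_eq_uN (p : ℕ) [Fact p.Prime] [CharP F p] (m : ℕ) :
    Nat.card {g : ↥(Matrix.symplecticGroup (Fin m) F) // ∃ k : ℕ, orderOf g = p ^ k} = uN F m := by
  classical
  have hp : p.Prime := Fact.out
  unfold uN
  apply Nat.card_congr
  refine Equiv.ofBijective (fun g => ⟨g.1.1, ?_, ?_⟩) ⟨?_, ?_⟩
  · rw [mem_spSet]
    exact SymplecticGroup.mem_iff'.1 g.1.2
  · obtain ⟨k, hk⟩ := g.2
    apply isNilpotent_sub_one_of_pow p _ k
    have h1 : g.1 ^ (p ^ k) = 1 := by rw [← hk]; exact pow_orderOf_eq_one _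
    have h2 := congrArg Subtype.val h1
    rwa [SubmonoidClass.coe_pow] at h2
  · rintro ⟨g, hg⟩ ⟨h, hh⟩ hgh
    apply Subtype.ext
    apply Subtype.ext
    have h1 := congrArg Subtype.val hgh
    exact h1
  · rintro ⟨g, hg, hnil⟩
    have hmem : g ∈ Matrix.symplecticGroup (Fin m) F := SymplecticGroup.mem_iff'.2 hg
    obtain ⟨j, hj⟩ := pow_eq_one_of_isNilpotent_sub_one p g hnil
    have hpow : (⟨g, hmem⟩ : Matrix.symplecticGroup (Fin m) F) ^ (p ^ j) = 1 := by
      apply Subtype.ext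
      rw [SubmonoidClass.coe_pow]
      exact hj
    obtain ⟨k, _, hk⟩ := (Nat.dvd_prime_pow hp).1 (orderOf_dvd_of_pow_eq_one hpow)
    exact ⟨⟨⟨g, hmem⟩, k, hk⟩, rfl⟩

end final

end Cfsg.Agent.Lib.Helper5.SpUn
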