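import Mathlib

set_option autoImplicit false

namespace Cfsg.Agent.Lib.Helper5.Spec4

open Matrix

variable {F : Type*} [Field F] [CharP F 3]

/-- `2 × 2` matrices. -/
abbrev M2 (F : Type*) := Matrix (Fin 2) (Fin 2) F

instance : Fact (Nat.Prime 3) := ⟨by norm_num⟩

/-- entrywise cube (Frobenius twist), a ring endomorphism of the matrix ring in characteristic 3 -/
noncomputable def tw : M2 F →+* M2 F := (frobenius F 3).mapMatrix

theorem tw_apply (g : M2 F) (i j : Fin 2) : tw g i j = (g i j) ^ 3 := by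
  simp [tw, frobenius_def]

/-- the linear part -/
noncomputable def lin (ε : F) (g : M2 F) (X : M2 F) : M2 F := ε • (g * X * (tw g)ᵀ)

/-- the affine map -/
noncomputable def aff (ε : F) (g : M2 F) (B : M2 F) (X : M2 F) : M2 F := lin ε g X + B

theorem lin_add (ε : F) (g X Y : M2 F) : lin ε g (X + Y) = lin ε g X + lin ε g Y := by
  simp [lin, mul_add, add_mul]

theorem lin_sub (ε : F) (g X Y : M2 F) : lin ε g (X - Y) = lin ε g X - lin ε g Y := by
  simp [lin, mul_sub, sub_mul, smul_sub]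

theorem lin_zero (ε : F) (g : M2 F) : lin ε g 0 = 0 := by
  simp [lin]

theorem lin_lin (ε₁ ε₂ : F) (g₁ g₂ X : M2 F) :
    lin ε₁ g₁ (lin ε₂ g₂ X) = lin (ε₁ * ε₂) (g₁ * g₂) X := by
  simp only [lin, map_mul, Matrix.transpose_mul, Matrix.mul_smul, Matrix.smul_mul, smul_smul,
    Matrix.mul_assoc]

theorem lin_one (X : M2 F) : lin 1 1 X = X := by
  simp [lin]

theorem lin_neg_one (X : M2 F) : lin 1 (-1) X = X := by
  simp [lin]

theorem aff_aff (ε₁ ε₂ : F) (g₁ g₂ B₁ B₂ X : M2 F) :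
    aff ε₁ g₁ B₁ (aff ε₂ g₂ B₂ X) = aff (ε₁ * ε₂) (g₁ * g₂) (lin ε₁ g₁ B₂ + B₁) X := by
  simp only [aff, lin_add, lin_lin, add_assoc]

/-- Cayley–Hamilton for `2 × 2` matrices -/
theorem ch2 {R : Type*} [CommRing R] (g : Matrix (Fin 2) (Fin 2) R) :
    g * g = g.trace • g - g.det • (1 : Matrix (Fin 2) (Fin 2) R) := by
  ext i j
  fin_cases i <;> fin_cases j <;>
    simp [Matrix.mul_apply, Fin.sum_univ_two, Matrix.trace_fin_two, Matrix.det_fin_two] <;> ring

theorem ch2' {R : Type*} [CommRing R] (g : Matrix (Fin 2) (Fin 2) R) (hd : g.det = 1) :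
    g * g = g.trace • g - 1 := by
  rw [ch2 g, hd, one_smul]

/-- the adjugate-type inverse -/
theorem mul_tr_sub {R : Type*} [CommRing R] (g : Matrix (Fin 2) (Fin 2) R) (hd : g.det = 1) :
    g * (g.trace • (1 : Matrix (Fin 2) (Fin 2) R) - g) = 1 := by
  rw [mul_sub, ch2' g hd]
  simp

theorem tr_sub_mul {R : Type*} [CommRing R] (g : Matrix (Fin 2) (Fin 2) R) (hd : g.det = 1) :
    (g.trace • (1 : Matrix (Fin 2) (Fin 2) R) - g) * g = 1 := by
  rw [sub_mul, ch2' g hd]
  simp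

theorem three_eq_zero : (3 : F) = 0 := by
  have := CharP.cast_eq_zero F 3
  exact_mod_cast this

theorem add_cube (a b : F) : (a + b) ^ 3 = a ^ 3 + b ^ 3 := by
  have h3 : (3 : F) = 0 := three_eq_zero
  have : (a + b) ^ 3 = a ^ 3 + b ^ 3 + 3 * (a ^ 2 * b + a * b ^ 2) := by ring
  rw [this, h3, zero_mul, add_zero]

theorem sub_cube (a b : F) : (a - b) ^ 3 = a ^ 3 - b ^ 3 := by
  have h3 : (3 : F) = 0 := three_eq_zero
  have : (a - b) ^ 3 = a ^ 3 - b ^ 3 - 3 * (a ^ 2 * b - a * b ^ 2) := by ring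
  rw [this, h3, zero_mul, sub_zero]
theorem det_tw (g : M2 F) : (tw g).det = g.det ^ 3 := by
  rw [Matrix.det_fin_two, Matrix.det_fin_two]
  simp only [tw_apply]
  rw [sub_cube]; ring

theorem trace_tw (g : M2 F) : (tw g).trace = g.trace ^ 3 := by
  rw [Matrix.trace_fin_two, Matrix.trace_fin_two]
  simp only [tw_apply]
  rw [add_cube]

/-- a fixed vector of the linear part forces special trace -/
theorem lin_fixed_eq_zero (ε : F) (g X : M2 F) (hε : ε * ε = 1) (hd : g.det = 1)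
    (ht : g.trace ≠ 0) (ht2 : g.trace * g.trace ≠ ε) (hX : lin ε g X = X) : X = 0 := by
  set t := g.trace with ht_def
  set h : M2 F := (tw g)ᵀ with hh
  have hdh : h.det = 1 := by rw [hh, Matrix.det_transpose, det_tw, hd, one_pow]
  have hth : h.trace = t ^ 3 := by rw [hh, Matrix.trace_transpose, trace_tw]
  set k : M2 F := h.trace • (1 : M2 F) - h with hk
  have hhk : h * k = 1 := mul_tr_sub h hdh
  have hkh : k * h = 1 := tr_sub_mul h hdh
  -- k * k = t^3 • k - 1
  have hkk : k * k = (t ^ 3) • k - 1 := by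
    have hdk : k.det = 1 := by
      have : (h * k).det = 1 := by rw [hhk, Matrix.det_one]
      rw [Matrix.det_mul, hdh, one_mul] at this
      exact this
    have htk : k.trace = t ^ 3 := by
      rw [hk, Matrix.trace_sub, Matrix.trace_smul, Matrix.trace_one, hth]
      simp
      ring
    rw [ch2' k hdk, htk]
  -- g * X = ε • (X * k)
  have h1 : g * X = ε • (X * k) := by
    have : (lin ε g X) * k = X * k := by rw [hX]
    rw [lin, Matrix.smul_mul, Matrix.mul_assoc, hhk, Matrix.mul_one] at this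
    calc g * X = (ε * ε) • (g * X) := by rw [hε, one_smul]
      _ = ε • (ε • (g * X)) := by rw [smul_smul]
      _ = ε • (X * k) := by rw [this]
  have h2 : g * (g * X) = X * (k * k) := by
    rw [h1, Matrix.mul_smul, ← Matrix.mul_assoc, h1, Matrix.smul_mul, smul_smul, hε, one_smul,
      Matrix.mul_assoc]
  have h3 : g * (g * X) = (t * ε) • (X * k) - X := by
    rw [← Matrix.mul_assoc, ch2' g hd, sub_mul, Matrix.smul_mul, h1, smul_smul, one_mul]
  rw [h2, hkk, mul_sub, Matrix.mul_smul, mul_one] at h3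
  have h4 : (t ^ 3 - t * ε) • (X * k) = 0 := by
    rw [sub_smul]
    have := h3
    rw [sub_eq_sub_iff_add_eq_add] at this
    have h5 := add_right_cancel this
    rw [h5, sub_self]
  have h6 : t ^ 3 - t * ε ≠ 0 := by
    have : t ^ 3 - t * ε = t * (t * t - ε) := by ring
    rw [this]
    exact mul_ne_zero ht (sub_ne_zero.mpr ht2)
  have h7 : X * k = 0 := by
    rcases smul_eq_zero.mp h4 with h | h
    · exact absurd h h6
    · exact h
  calc X = X * (k * h) := by rw [hkh, mul_one]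
    _ = 0 := by rw [← Matrix.mul_assoc, h7, zero_mul]


theorem lin_neg (ε : F) (g X : M2 F) : lin ε g (-X) = -lin ε g X := by
  simp [lin]

theorem det_inv2 (g : M2 F) (hd : g.det = 1) : (g.trace • (1 : M2 F) - g).det = 1 := by
  have : (g * (g.trace • (1 : M2 F) - g)).det = 1 := by rw [mul_tr_sub g hd, Matrix.det_one]
  rw [Matrix.det_mul, hd, one_mul] at this
  exact this

/-- the group of affine maps `X ↦ ε g X (tw g)ᵀ + B` -/
noncomputable def HS (F : Type*) [Field F] [CharP F 3] : Subgroup (Equiv.Perm (M2 F)) where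
  carrier := {f | ∃ (ε : F) (g B : M2 F), ε * ε = 1 ∧ g.det = 1 ∧ ∀ X, f X = aff ε g B X}
  one_mem' := ⟨1, 1, 0, one_mul 1, Matrix.det_one, fun X => by simp [aff, lin_one]⟩
  mul_mem' := by
    rintro f₁ f₂ ⟨ε₁, g₁, B₁, h1, hd1, hf1⟩ ⟨ε₂, g₂, B₂, h2, hd2, hf2⟩
    refine ⟨ε₁ * ε₂, g₁ * g₂, lin ε₁ g₁ B₂ + B₁, ?_, ?_, fun X => ?_⟩
    · calc ε₁ * ε₂ * (ε₁ * ε₂) = (ε₁ * ε₁) * (ε₂ * ε₂) := by ring
        _ = 1 := by rw [h1, h2, one_mul]
    · rw [Matrix.det_mul, hd1, hd2, one_mul]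
    · rw [Equiv.Perm.mul_apply, hf1, hf2, aff_aff]
  inv_mem' := by
    rintro f ⟨ε, g, B, h1, hd, hf⟩
    set gi : M2 F := g.trace • (1 : M2 F) - g with hgi
    refine ⟨ε, gi, -lin ε gi B, h1, det_inv2 g hd, fun X => ?_⟩
    rw [Equiv.Perm.inv_def, Equiv.symm_apply_eq, hf, aff_aff, h1, mul_tr_sub g hd, lin_neg,
      lin_lin, h1, mul_tr_sub g hd, lin_one, neg_add_cancel, aff, lin_one, add_zero]

theorem mem_HS (f : Equiv.Perm (M2 F)) :
    f ∈ HS F ↔ ∃ (ε : F) (g B : M2 F), ε * ε = 1 ∧ g.det = 1 ∧ ∀ X, f X = aff ε g B X := Iff.rfl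

/-- power of an affine map -/
theorem pow_aff (f : Equiv.Perm (M2 F)) (ε : F) (g B : M2 F) (hf : ∀ X, f X = aff ε g B X) (k : ℕ) :
    ∃ C : M2 F, ∀ X, (f ^ k) X = aff (ε ^ k) (g ^ k) C X := by
  induction k with
  | zero => exact ⟨0, fun X => by simp [aff, lin_one]⟩
  | succ k ih =>
    obtain ⟨C, hC⟩ := ih
    refine ⟨lin (ε ^ k) (g ^ k) B + C, fun X => ?_⟩
    rw [pow_succ, Equiv.Perm.mul_apply, hC, hf, aff_aff, pow_succ, pow_succ]

/-- power of an affine map with a fixed point -/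
theorem pow_aff_fixed (f : Equiv.Perm (M2 F)) (ε : F) (g B X₀ : M2 F)
    (hf : ∀ X, f X = aff ε g B X) (h0 : f X₀ = X₀) (k : ℕ) (X : M2 F) :
    (f ^ k) X = lin (ε ^ k) (g ^ k) (X - X₀) + X₀ := by
  induction k generalizing X with
  | zero => simp [lin_one]
  | succ k ih =>
    rw [pow_succ, Equiv.Perm.mul_apply, ih]
    have : f X - X₀ = lin ε g (X - X₀) := by
      nth_rewrite 1 [← h0]
      rw [hf, hf, aff, aff, lin_sub]
      abel
    rw [this, lin_lin, pow_succ, pow_succ]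

end Cfsg.Agent.Lib.Helper5.Spec4
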