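import Cfsg.Agent.Lib.Helper5.Spec4A

set_option autoImplicit false

namespace Cfsg.Agent.Lib.Helper5.Spec4

open Matrix

variable {F : Type*} [Field F] [CharP F 3]

theorem three_pow_odd_mod_eight (α : ℕ) (hα : Odd α) : 3 ^ α % 8 = 3 := by
  obtain ⟨k, rfl⟩ := hα
  rw [pow_succ, pow_mul, Nat.mul_mod, Nat.pow_mod]
  norm_num

theorem two_ne_zero' : (2 : F) ≠ 0 := by
  intro h
  have h3 : (3 : F) = 0 := three_eq_zero
  have : (1 : F) = 0 := by linear_combination h3 - h
  exact one_ne_zero this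

theorem two_eq_neg_one : (2 : F) = -1 := by
  have h3 : (3 : F) = 0 := three_eq_zero
  linear_combination h3

/-- in `SL₂` (odd characteristic) the only involution is `-1` -/
theorem sq_eq_one_of_det (y : M2 F) (hd : y.det = 1) (hy : y * y = 1) : y = 1 ∨ y = -1 := by
  have h1 := ch2' y hd
  rw [hy] at h1
  -- y.trace • y = 2
  have h2 : y.trace • y = (2 : F) • (1 : M2 F) := by
    have : y.trace • y = 1 + 1 := by rw [eq_sub_iff_add_eq] at h1; exact h1.symm
    rw [this, two_smul]
  by_cases ht : y.trace = 0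
  · rw [ht, zero_smul] at h2
    have : ((2 : F) • (1 : M2 F)) 0 0 = 0 := by rw [← h2]; rfl
    simp at this
    exact absurd this two_ne_zero'
  · have h3 : y = (y.trace⁻¹ * 2) • (1 : M2 F) := by
      calc y = (y.trace⁻¹ * y.trace) • y := by rw [inv_mul_cancel₀ ht, one_smul]
        _ = y.trace⁻¹ • (y.trace • y) := by rw [smul_smul]
        _ = (y.trace⁻¹ * 2) • (1 : M2 F) := by rw [h2, smul_smul]
    set c := y.trace⁻¹ * 2
    have hc : c * c = 1 := by
      have : y.det = c * c := by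
        rw [h3, Matrix.det_smul, Matrix.det_one]; simp; ring
      rw [← this, hd]
    rcases mul_self_eq_one_iff.mp hc with h | h
    · left; rw [h3, h, one_smul]
    · right; rw [h3, h]; simp

variable [Fintype F]

/-- Frobenius on a matrix of determinant one -/
theorem pow_card_cases (α : ℕ) (hq : Fintype.card F = 3 ^ α) (g : M2 F) (hd : g.det = 1)
    (hδ : g.trace * g.trace - 1 ≠ 0) :
    g ^ (Fintype.card F - 1) = 1 ∨ g ^ (Fintype.card F + 1) = 1 := by
  set q := Fintype.card F with hqdef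
  set t := g.trace with ht
  set δ := t * t - 1 with hδdef
  set w : M2 F := -g - t • (1 : M2 F) with hw
  have h3 : (3 : F) = 0 := three_eq_zero
  have hww : w * w = δ • (1 : M2 F) := by
    have : w * w = g * g + (2 * t) • g + (t * t) • (1 : M2 F) := by
      rw [hw]
      simp only [sub_mul, mul_sub, neg_mul, mul_neg, Matrix.smul_mul, Matrix.mul_smul, mul_one,
        one_mul, smul_sub, smul_neg, smul_smul, two_mul, add_smul]
      abel
    rw [this, ch2' g hd, hδdef, sub_smul, one_smul]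
    have : (2 * t) • g = -(t • g) := by
      rw [two_eq_neg_one]; simp
    rw [this]; abel
  -- q is odd
  have hqodd : Odd q := by rw [hq]; exact Odd.pow (by decide)
  obtain ⟨m, hm⟩ := hqodd
  have hwq : w ^ q = (δ ^ m) • w := by
    rw [hm, pow_succ, pow_mul, pow_two, hww, smul_pow, one_pow, Matrix.smul_mul, one_mul]
  have hcomm : Commute (-w) (-(t • (1 : M2 F))) := by
    apply Commute.neg_left; apply Commute.neg_right
    exact (Commute.one_right w).smul_right t
  have hg : g = -w + -(t • (1 : M2 F)) := by rw [hw]; abel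
  have hgq : g ^ q = -(δ ^ m • w) + -(t • (1 : M2 F)) := by
    have h1 : g ^ q = (-w) ^ q + (-(t • (1 : M2 F))) ^ q := by
      nth_rewrite 1 [hg]
      rw [hq]
      exact add_pow_char_pow_of_commute 3 α hcomm
    have hodd : Odd q := ⟨m, hm⟩
    rw [h1, hodd.neg_pow, hodd.neg_pow, hwq, smul_pow, one_pow, hqdef, FiniteField.pow_card]
  -- e = ± 1
  have he : (δ ^ m) * (δ ^ m) = 1 := by
    rw [← pow_add, ← two_mul]
    have : 2 * m = q - 1 := by omega
    rw [this, hqdef]
    exact FiniteField.pow_card_sub_one_eq_one δ hδ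
  have hgi : g * (t • (1 : M2 F) - g) = 1 := mul_tr_sub g hd
  have hgi' : (t • (1 : M2 F) - g) * g = 1 := tr_sub_mul g hd
  rcases mul_self_eq_one_iff.mp he with h | h
  · left
    rw [h, one_smul, ← hg] at hgq
    have hq1 : q = (q - 1) + 1 := by omega
    calc g ^ (q - 1) = g ^ (q - 1) * (g * (t • (1 : M2 F) - g)) := by rw [hgi, mul_one]
      _ = g ^ q * (t • (1 : M2 F) - g) := by
          rw [← mul_assoc, ← pow_succ, ← hq1]
      _ = 1 := by rw [hgq, hgi]
  · right
    rw [h] at hgq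
    have : g ^ q = t • (1 : M2 F) - g := by
      rw [hgq, hw]
      have : (2 * t) • (1 : M2 F) = -(t • (1 : M2 F)) := by
        rw [two_eq_neg_one]; simp
      simp only [neg_smul, one_smul, neg_sub, neg_neg]
      rw [sub_eq_add_neg (t • (1 : M2 F)) g]
      have h2 : -g - t • (1 : M2 F) + -(t • (1 : M2 F)) = -g - (2 * t) • (1 : M2 F) := by
        rw [two_mul, add_smul]; abel
      rw [h2, this]; abel
    rw [pow_succ, this, hgi']

omit [Fintype F] in
theorem three_smul_eq_zero (C : M2 F) : C + C + C = 0 := by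
  have h3 : (3 : F) = 0 := three_eq_zero
  have : C + C + C = (3 : F) • C := by
    rw [show (3 : F) = 1 + 1 + 1 by norm_num, add_smul, add_smul, one_smul]
  rw [this, h3, zero_smul]

omit [Fintype F] in
theorem translation_pow_three (h : Equiv.Perm (M2 F)) (C : M2 F) (hh : ∀ X, h X = X + C) :
    h ^ 3 = 1 := by
  ext1 X
  rw [pow_succ, pow_two, Equiv.Perm.mul_apply, Equiv.Perm.mul_apply, hh, hh, hh,
    Equiv.Perm.one_apply, add_assoc, add_assoc, ← add_assoc C, three_smul_eq_zero, add_zero]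

omit [Fintype F] in
theorem tw_smul_one (c : F) : tw (c • (1 : M2 F)) = (c ^ 3) • (1 : M2 F) := by
  ext i j
  rw [tw_apply]
  fin_cases i <;> fin_cases j <;> simp

omit [Fintype F] in
theorem lin_smul_one (ε c : F) (X : M2 F) : lin ε (c • (1 : M2 F)) X = (ε * c ^ 4) • X := by
  rw [lin, tw_smul_one]
  simp only [Matrix.smul_mul, Matrix.mul_smul, one_mul, Matrix.transpose_smul,
    Matrix.transpose_one, mul_one, smul_smul]
  congr 1; ring

omit [Fintype F] in
theorem neg_one_not_sq_aux (t : F) (h : ¬ IsSquare (-1 : F)) : t * t ≠ -1 := by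
  intro ht
  exact h ⟨t, ht.symm⟩

theorem neg_one_not_sq (α : ℕ) (hα : Odd α) (hq : Fintype.card F = 3 ^ α) : ¬ IsSquare (-1 : F) := by
  rw [FiniteField.isSquare_neg_one_iff, hq]
  have := three_pow_odd_mod_eight α hα
  omega


omit [Fintype F] in
theorem pow_six_of_trace_zero (f : Equiv.Perm (M2 F)) (ε : F) (g B : M2 F) (hε : ε * ε = 1)
    (hd : g.det = 1) (hf : ∀ X, f X = aff ε g B X) (ht : g.trace = 0) : f ^ 6 = 1 := by
  obtain ⟨C, hC⟩ := pow_aff f ε g B hf 2
  have hg2 : g ^ 2 = -1 := by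
    rw [pow_two, ch2' g hd, ht, zero_smul, zero_sub]
  have : f ^ 6 = (f ^ 2) ^ 3 := by rw [← pow_mul]
  rw [this]
  apply translation_pow_three (f ^ 2) C
  intro X
  rw [hC, pow_two, hε, hg2, aff, lin_neg_one]

omit [Fintype F] in
theorem pow_three_of_trace_sq (f : Equiv.Perm (M2 F)) (ε : F) (g B : M2 F) (hε : ε * ε = 1)
    (hd : g.det = 1) (hf : ∀ X, f X = aff ε g B X) (ht : g.trace * g.trace = 1) :
    ∃ C : M2 F, ∀ X, (f ^ 3) X = ε • X + C := by
  obtain ⟨C, hC⟩ := pow_aff f ε g B hf 3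
  refine ⟨C, fun X => ?_⟩
  set t := g.trace with htdef
  have hg3 : g ^ 3 = (-t) • (1 : M2 F) := by
    have h1 : g ^ 3 = g * g * g := by rw [pow_succ, pow_two]
    rw [h1, ch2' g hd, sub_mul, Matrix.smul_mul, ch2' g hd, one_mul, smul_sub, smul_smul, ← htdef,
      ht, one_smul]
    simp
  have hε3 : ε ^ 3 = ε := by rw [pow_succ, pow_two, hε, one_mul]
  rw [hC, hg3, hε3, aff, lin_smul_one]
  have : (-t) ^ 4 = 1 := by
    have : (-t) ^ 4 = (t * t) * (t * t) := by ring
    rw [this, ht, one_mul]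
  rw [this, mul_one]

omit [Fintype F] in
theorem pow_nine_of_trace_sq (f : Equiv.Perm (M2 F)) (g B : M2 F)
    (hd : g.det = 1) (hf : ∀ X, f X = aff 1 g B X) (ht : g.trace * g.trace = 1) :
    f ^ 9 = 1 := by
  obtain ⟨C, hC⟩ := pow_three_of_trace_sq f 1 g B (one_mul 1) hd hf ht
  have : f ^ 9 = (f ^ 3) ^ 3 := by rw [← pow_mul]
  rw [this]
  apply translation_pow_three (f ^ 3) C
  intro X
  rw [hC, one_smul]

omit [Fintype F] in
theorem pow_six_of_trace_sq (f : Equiv.Perm (M2 F)) (g B : M2 F)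
    (hd : g.det = 1) (hf : ∀ X, f X = aff (-1) g B X) (ht : g.trace * g.trace = 1) :
    f ^ 6 = 1 := by
  obtain ⟨C, hC⟩ := pow_three_of_trace_sq f (-1) g B (by ring) hd hf ht
  have : f ^ 6 = (f ^ 3) ^ 2 := by rw [← pow_mul]
  rw [this]
  ext1 X
  rw [pow_two, Equiv.Perm.mul_apply, hC, hC, Equiv.Perm.one_apply]
  simp

omit [Fintype F] in
theorem pow_nine_or_six_of_trace_sq (f : Equiv.Perm (M2 F)) (ε : F) (g B : M2 F) (hε : ε * ε = 1)
    (hd : g.det = 1) (hf : ∀ X, f X = aff ε g B X) (ht : g.trace * g.trace = 1) :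
    f ^ 6 = 1 ∨ f ^ 9 = 1 := by
  rcases mul_self_eq_one_iff.mp hε with h | h
  · right
    subst h
    exact pow_nine_of_trace_sq f g B hd hf ht
  · left
    subst h
    exact pow_six_of_trace_sq f g B hd hf ht

/-- existence of a fixed point when the linear part has no fixed vector -/
theorem exists_fixed (f : Equiv.Perm (M2 F)) (ε : F) (g B : M2 F) (hε : ε * ε = 1)
    (hd : g.det = 1) (hf : ∀ X, f X = aff ε g B X) (ht : g.trace ≠ 0)
    (ht2 : g.trace * g.trace ≠ ε) : ∃ X₀, f X₀ = X₀ := by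
  have hinj : Function.Injective (fun X : M2 F => X - lin ε g X) := by
    intro X Y hXY
    simp only at hXY
    have h1 : lin ε g (X - Y) = X - Y := by
      rw [lin_sub]
      have := hXY
      rw [sub_eq_sub_iff_add_eq_add] at this
      rw [sub_eq_sub_iff_add_eq_add, add_comm, ← this, add_comm]
    have := lin_fixed_eq_zero ε g (X - Y) hε hd ht ht2 h1
    exact sub_eq_zero.mp this
  have hsurj := Finite.injective_iff_surjective.mp hinj
  obtain ⟨X₀, hX₀⟩ := hsurj B
  simp only at hX₀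
  refine ⟨X₀, ?_⟩
  rw [hf, aff, ← hX₀]
  abel

end Cfsg.Agent.Lib.Helper5.Spec4
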