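import Cfsg.Agent.Lib.Helper5.Spec4B

set_option autoImplicit false

namespace Cfsg.Agent.Lib.Helper5.Spec4

open Matrix

variable {F : Type*} [Field F] [CharP F 3] [Fintype F]

omit [CharP F 3] [Fintype F] in
theorem eps_pow_even (ε : F) (hε : ε * ε = 1) (k : ℕ) (hk : Even k) : ε ^ k = 1 := by
  obtain ⟨m, rfl⟩ := hk
  rw [pow_add, ← mul_pow, hε, one_pow]

/-- every element of `HS F` has order dividing one of `6, 9, q - 1, (q + 1) / 2` -/
theorem pow_eq_one_cases (α : ℕ) (hα : Odd α) (hq : Fintype.card F = 3 ^ α)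
    (f : Equiv.Perm (M2 F)) (hfH : f ∈ HS F) :
    f ^ 6 = 1 ∨ f ^ 9 = 1 ∨ f ^ (3 ^ α - 1) = 1 ∨ f ^ ((3 ^ α + 1) / 2) = 1 := by
  obtain ⟨ε, g, B, hε, hd, hf⟩ := hfH
  have hmod := three_pow_odd_mod_eight α hα
  by_cases ht0 : g.trace = 0
  · left; exact pow_six_of_trace_zero f ε g B hε hd hf ht0
  by_cases ht1 : g.trace * g.trace = 1
  · rcases pow_nine_or_six_of_trace_sq f ε g B hε hd hf ht1 with h | h
    · left; exact h
    · right; left; exact h
  right; right
  have hns := neg_one_not_sq α hα hq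
  have ht2 : g.trace * g.trace ≠ ε := by
    rcases mul_self_eq_one_iff.mp hε with h | h
    · rw [h]; exact ht1
    · rw [h]; exact neg_one_not_sq_aux _ hns
  obtain ⟨X₀, hX₀⟩ := exists_fixed f ε g B hε hd hf ht0 ht2
  have hδ : g.trace * g.trace - 1 ≠ 0 := sub_ne_zero.mpr ht1
  rcases pow_card_cases α hq g hd hδ with h | h
  · left
    ext1 X
    rw [pow_aff_fixed f ε g B X₀ hf hX₀, ← hq, h, eps_pow_even ε hε, lin_one]
    · simp
    · rw [hq, Nat.even_iff]; omega
  · right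
    ext1 X
    set k := (3 ^ α + 1) / 2 with hk
    have hk2 : k + k = Fintype.card F + 1 := by rw [hq]; omega
    have hkeven : Even k := by
      rw [Nat.even_iff]; omega
    have hy : g ^ k * g ^ k = 1 := by rw [← pow_add, hk2, h]
    have hdy : (g ^ k).det = 1 := by rw [Matrix.det_pow, hd, one_pow]
    rw [pow_aff_fixed f ε g B X₀ hf hX₀, eps_pow_even ε hε k hkeven]
    rcases sq_eq_one_of_det (g ^ k) hdy hy with h1 | h1
    · rw [h1, lin_one]; simp
    · rw [h1, lin_neg_one]; simp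


omit [Fintype F] in
/-- entry formula for the linear part -/
theorem lin_apply (ε : F) (g X : M2 F) (i j : Fin 2) :
    lin ε g X i j = ε * ((g i 0 * X 0 0 + g i 1 * X 1 0) * (g j 0) ^ 3 +
      (g i 0 * X 0 1 + g i 1 * X 1 1) * (g j 1) ^ 3) := by
  simp only [lin, Matrix.smul_apply, Matrix.mul_apply, Fin.sum_univ_two, Matrix.transpose_apply,
    tw_apply, smul_eq_mul]

omit [Fintype F] in
/-- constructor for elements of `HS F` -/
noncomputable def mk (ε : F) (g B : M2 F) (hε : ε * ε = 1) (hd : g.det = 1) :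
    Equiv.Perm (M2 F) where
  toFun := aff ε g B
  invFun := aff ε (g.trace • (1 : M2 F) - g) (-lin ε (g.trace • (1 : M2 F) - g) B)
  left_inv := fun X => by
    rw [aff_aff, hε, tr_sub_mul g hd, add_neg_cancel, aff, lin_one, add_zero]
  right_inv := fun X => by
    rw [aff_aff, hε, mul_tr_sub g hd, lin_neg, lin_lin, hε, mul_tr_sub g hd, lin_one,
      neg_add_cancel, aff, lin_one, add_zero]

omit [Fintype F] in
theorem mk_apply (ε : F) (g B : M2 F) (hε : ε * ε = 1) (hd : g.det = 1) (X : M2 F) :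
    mk ε g B hε hd X = aff ε g B X := rfl

omit [Fintype F] in
theorem mk_mem (ε : F) (g B : M2 F) (hε : ε * ε = 1) (hd : g.det = 1) :
    mk ε g B hε hd ∈ HS F := ⟨ε, g, B, hε, hd, fun _ => rfl⟩

omit [Fintype F] in
/-- powers of a linear element -/
theorem mk_zero_pow (ε : F) (g : M2 F) (hε : ε * ε = 1) (hd : g.det = 1) (k : ℕ) (X : M2 F) :
    ((mk ε g 0 hε hd) ^ k) X = lin (ε ^ k) (g ^ k) X := by
  have h0 : mk ε g 0 hε hd 0 = 0 := by rw [mk_apply, aff, lin_zero, add_zero]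
  rw [pow_aff_fixed (mk ε g 0 hε hd) ε g 0 0 (fun _ => rfl) h0, sub_zero, add_zero]

end Cfsg.Agent.Lib.Helper5.Spec4
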