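import Cfsg.Agent.Lib.Helper5.Spec4C

set_option autoImplicit false

namespace Cfsg.Agent.Lib.Helper5.Spec4

open Matrix

variable {F : Type*} [Field F] [CharP F 3]

/-- the regular unipotent element -/
def uu (F : Type*) [Field F] : M2 F := !![1, 1; 0, 1]

omit [CharP F 3] in
theorem det_uu : (uu F).det = 1 := by simp [uu, Matrix.det_fin_two]

theorem trace_uu : (uu F).trace * (uu F).trace = 1 := by
  have h3 : (3 : F) = 0 := three_eq_zero
  simp only [uu, Matrix.trace_fin_two_of]
  linear_combination h3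

theorem lin_uu (ε : F) (X : M2 F) :
    lin ε (uu F) X = ε • !![X 0 0 + X 0 1 + X 1 0 + X 1 1, X 0 1 + X 1 1; X 1 0 + X 1 1, X 1 1] := by
  ext i j
  fin_cases i <;> fin_cases j <;> simp [lin_apply, uu, -mul_eq_mul_left_iff] <;> ring

theorem orderOf_eq_six {G : Type*} [Group G] (x : G) (h6 : x ^ 6 = 1) (h2 : x ^ 2 ≠ 1)
    (h3 : x ^ 3 ≠ 1) : orderOf x = 6 := by
  have h := orderOf_dvd_of_pow_eq_one h6
  have hle := Nat.le_of_dvd (by norm_num) h
  have hpos : 0 < orderOf x :=
    orderOf_pos_iff.mpr (isOfFinOrder_iff_pow_eq_one.mpr ⟨6, by norm_num, h6⟩)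
  have hpow : x ^ orderOf x = 1 := pow_orderOf_eq_one x
  generalize orderOf x = n at *
  interval_cases n
  · rw [pow_one] at hpow; rw [hpow, one_pow] at h2; exact absurd rfl h2
  · exact absurd hpow h2
  · exact absurd hpow h3
  · norm_num at h
  · norm_num at h
  · rfl

/-- an element of order 9 -/
theorem exists_order_nine : ∃ f ∈ HS F, orderOf f = 9 := by
  have h3 : (3 : F) = 0 := three_eq_zero
  set B : M2 F := !![0, 0; 0, 1] with hB
  set f := mk 1 (uu F) B (one_mul 1) det_uu with hf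
  refine ⟨f, mk_mem _ _ _ _ _, ?_⟩
  have h9 : f ^ 9 = 1 := pow_nine_of_trace_sq f (uu F) B det_uu (fun _ => rfl) trace_uu
  have hn3 : ¬ f ^ 3 = 1 := by
    intro h
    have h0 : (f ^ 3) 0 = 0 := by rw [h]; rfl
    rw [pow_succ, pow_two, Equiv.Perm.mul_apply, Equiv.Perm.mul_apply] at h0
    have e1 : f 0 = B := by rw [hf, mk_apply, aff, lin_zero, zero_add]
    have e2 : f B = !![1, 1; 1, 2] := by
      rw [hf, mk_apply, aff, lin_uu, hB]
      ext i j
      fin_cases i <;> fin_cases j <;> simp <;> norm_num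
    have e3 : (f !![1, 1; 1, 2]) 0 0 = 2 := by
      rw [hf, mk_apply, aff, lin_uu, hB]
      simp
      linear_combination h3
    rw [e1, e2] at h0
    rw [h0] at e3
    simp at e3
    exact two_ne_zero' e3.symm
  have := orderOf_eq_prime_pow (p := 3) (n := 1) (x := f) (by simpa using hn3) (by simpa using h9)
  simpa using this


/-- an element of order 6 -/
theorem exists_order_six : ∃ f ∈ HS F, orderOf f = 6 := by
  have h3 : (3 : F) = 0 := three_eq_zero
  set B : M2 F := !![0, 0; 0, 1] with hB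
  have hε : (-1 : F) * (-1) = 1 := by ring
  set f := mk (-1) (uu F) 0 hε det_uu with hf
  refine ⟨f, mk_mem _ _ _ _ _, ?_⟩
  have h6 : f ^ 6 = 1 := pow_six_of_trace_sq f (uu F) 0 det_uu (fun _ => rfl) trace_uu
  have hfX : ∀ X, f X = lin (-1) (uu F) X := fun X => by rw [hf, mk_apply, aff, add_zero]
  have e1 : f B = !![-1, -1; -1, -1] := by
    rw [hfX, lin_uu, hB]
    ext i j
    fin_cases i <;> fin_cases j <;> simp
  have e2 : f !![-1, -1; -1, -1] = !![4, 2; 2, 1] := by
    rw [hfX, lin_uu]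
    ext i j
    fin_cases i <;> fin_cases j <;> simp <;> norm_num
  have e3 : (f !![4, 2; 2, 1]) 1 1 = -1 := by
    rw [hfX, lin_uu]
    simp
  apply orderOf_eq_six f h6
  · intro h
    have h0 : (f ^ 2) B = B := by rw [h]; rfl
    rw [pow_two, Equiv.Perm.mul_apply, e1, e2] at h0
    have : (!![4, 2; 2, 1] : M2 F) 0 1 = B 0 1 := by rw [h0]
    simp [hB] at this
    exact two_ne_zero' this
  · intro h
    have h0 : (f ^ 3) B = B := by rw [h]; rfl
    rw [pow_succ, pow_two, Equiv.Perm.mul_apply, Equiv.Perm.mul_apply, e1, e2] at h0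
    rw [h0] at e3
    simp [hB] at e3
    have : (2 : F) = 0 := by linear_combination e3
    exact two_ne_zero' this

end Cfsg.Agent.Lib.Helper5.Spec4
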