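import Cfsg.Agent.Lib.Helper5.Spec4D

set_option autoImplicit false

namespace Cfsg.Agent.Lib.Helper5.Spec4

open Matrix

variable {F : Type*} [Field F] [CharP F 3]

theorem lin_diagonal (ε : F) (d : Fin 2 → F) (X : M2 F) (i j : Fin 2) :
    lin ε (Matrix.diagonal d) X i j = ε * d i * (d j) ^ 3 * X i j := by
  fin_cases i <;> fin_cases j <;> simp [lin_apply, Matrix.diagonal] <;> ring

variable [Fintype F]

/-- an element of order `q - 1` -/
theorem exists_order_card_sub_one (α : ℕ) (hα : Odd α) (hq : Fintype.card F = 3 ^ α) :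
    ∃ f ∈ HS F, orderOf f = 3 ^ α - 1 := by
  classical
  have hmod := three_pow_odd_mod_eight α hα
  obtain ⟨a, ha⟩ := IsCyclic.exists_generator (α := Fˣ)
  have hoa : orderOf a = 3 ^ α - 1 := by
    rw [orderOf_eq_card_of_forall_mem_zpowers ha, Nat.card_eq_fintype_card, Fintype.card_units, hq]
  set d : Fin 2 → F := ![(a : F), ((a⁻¹ : Fˣ) : F)] with hd
  have hdet : (Matrix.diagonal d).det = 1 := by
    rw [Matrix.det_diagonal, Fin.prod_univ_two, hd]
    simp
  have hε : (-1 : F) * (-1) = 1 := by ring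
  set f := mk (-1) (Matrix.diagonal d) 0 hε hdet with hf
  refine ⟨f, mk_mem _ _ _ _ _, ?_⟩
  have hfk : ∀ (k : ℕ) (X : M2 F) (i j : Fin 2),
      ((f ^ k) X) i j = (-1) ^ k * (d i) ^ k * ((d j) ^ k) ^ 3 * X i j := by
    intro k X i j
    rw [hf, mk_zero_pow, Matrix.diagonal_pow, lin_diagonal]
    simp
  -- f ^ (q - 1) = 1
  have h1 : f ^ (3 ^ α - 1) = 1 := by
    ext X i j
    rw [hfk, Equiv.Perm.one_apply]
    have hdi : ∀ i, (d i) ^ (3 ^ α - 1) = 1 := by
      intro i
      rw [← hq]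
      apply FiniteField.pow_card_sub_one_eq_one
      fin_cases i <;> simp [hd]
    have he : Even (3 ^ α - 1) := by rw [Nat.even_iff]; omega
    rw [hdi, hdi, he.neg_one_pow]
    simp
  -- the unit b = - a ^ 4 has order q - 1
  set b : Fˣ := (-1) * a ^ 4 with hb
  have hob : orderOf b = 3 ^ α - 1 := by
    have h2 : orderOf (-1 : Fˣ) = 2 := by
      apply orderOf_eq_prime
      · simp
      · intro h
        have : ((-1 : Fˣ) : F) = ((1 : Fˣ) : F) := by rw [h]
        simp at this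
        have h3 : (2 : F) = 0 := by linear_combination -this
        exact two_ne_zero' h3
    obtain ⟨m, hm⟩ : ∃ m, 3 ^ α - 1 = 2 * m := ⟨(3 ^ α - 1) / 2, by omega⟩
    have hmodd : m % 2 = 1 := by omega
    have h4 : orderOf (a ^ 4) = m := by
      rw [orderOf_pow, hoa, hm, show (4 : ℕ) = 2 * 2 by norm_num, Nat.gcd_mul_left]
      have : Nat.gcd m 2 = 1 := Nat.coprime_two_right.mpr (Nat.odd_iff.mpr hmodd)
      rw [this, mul_one, Nat.mul_div_cancel_left m (by norm_num)]
    rw [hb, (Commute.all (-1 : Fˣ) (a ^ 4)).orderOf_mul_eq_mul_orderOf_of_coprime, h2, h4, hm]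
    rw [h2, h4]
    exact Nat.coprime_two_left.mpr (Nat.odd_iff.mpr hmodd)
  apply Nat.dvd_antisymm (orderOf_dvd_of_pow_eq_one h1)
  rw [← hob]
  apply orderOf_dvd_of_pow_eq_one
  have h5 := hfk (orderOf f) !![1, 0; 0, 0] 0 0
  rw [pow_orderOf_eq_one, Equiv.Perm.one_apply] at h5
  simp [hd] at h5
  apply Units.ext
  rw [hb]
  push_cast
  calc (-1 * (a : F) ^ 4) ^ orderOf f
      = (-1) ^ orderOf f * (a : F) ^ orderOf f * ((a : F) ^ orderOf f) ^ 3 := by ring
    _ = 1 := h5.symm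

end Cfsg.Agent.Lib.Helper5.Spec4
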