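import Cfsg.Agent.Lib.Helper5.Spec4E

set_option autoImplicit false

namespace Cfsg.Agent.Lib.Helper5.Spec4

open Matrix Polynomial

variable {F : Type*} [Field F] [CharP F 3] [Fintype F]

/-- an element of `SL₂(F)` of order `q + 1` -/
theorem exists_det_one_order (α : ℕ) (hα : Odd α) (hq : Fintype.card F = 3 ^ α) :
    ∃ g : M2 F, g.det = 1 ∧ orderOf g = 3 ^ α + 1 := by
  classical
  have hns := neg_one_not_sq α hα hq
  set p : F[X] := X ^ 2 + C 1 with hp
  have hmonic : p.Monic := monic_X_pow_add_C 1 (by norm_num)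
  have hdeg : p.natDegree = 2 := natDegree_X_pow_add_C
  have hirr : Irreducible p := by
    apply irreducible_of_degree_le_three_of_not_isRoot
    · rw [hdeg]; decide
    · intro x hx
      rw [IsRoot, hp] at hx
      simp at hx
      apply neg_one_not_sq_aux x hns
      linear_combination hx
  haveI : Fact (Irreducible p) := ⟨hirr⟩
  set pb := AdjoinRoot.powerBasis' hmonic with hpb
  have hdim : pb.dim = 2 := by rw [hpb, AdjoinRoot.powerBasis'_dim, hdeg]
  set b : Module.Basis (Fin 2) F (AdjoinRoot p) := pb.basis.reindex (finCongr hdim) with hb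
  haveI : Module.Finite F (AdjoinRoot p) := Module.Finite.of_basis b
  haveI : Finite (AdjoinRoot p) := Module.finite_of_finite F
  haveI : Fintype (AdjoinRoot p) := Fintype.ofFinite _
  have hcardK : Fintype.card (AdjoinRoot p) = (3 ^ α) ^ 2 := by
    rw [Module.card_eq_pow_finrank (K := F) (V := AdjoinRoot p), Module.finrank_eq_card_basis b, hq]
    simp
  obtain ⟨ζ, hζ⟩ := IsCyclic.exists_generator (α := (AdjoinRoot p)ˣ)
  have hoζ : orderOf ζ = (3 ^ α) ^ 2 - 1 := by
    rw [orderOf_eq_card_of_forall_mem_zpowers hζ, Nat.card_eq_fintype_card, Fintype.card_units,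
      hcardK]
  have hqpos : 1 ≤ 3 ^ α := Nat.one_le_pow _ _ (by norm_num)
  have hfac : (3 ^ α) ^ 2 - 1 = (3 ^ α - 1) * (3 ^ α + 1) := by
    zify [hqpos, Nat.one_le_pow 2 _ hqpos]
    ring
  have hq2 : 3 ≤ 3 ^ α := by
    have := three_pow_odd_mod_eight α hα
    omega
  set a : (AdjoinRoot p)ˣ := ζ ^ (3 ^ α - 1) with ha
  have hoa : orderOf a = 3 ^ α + 1 := by
    rw [ha, orderOf_pow, hoζ, hfac, Nat.gcd_eq_right (Dvd.intro _ rfl),
      Nat.mul_div_cancel_left _ (by omega)]
  set φ : AdjoinRoot p →ₐ[F] M2 F := Algebra.leftMulMatrix b with hφ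
  have hinj : Function.Injective φ := Algebra.leftMulMatrix_injective b
  refine ⟨φ (a : AdjoinRoot p), ?_, ?_⟩
  · have h1 : φ (a : AdjoinRoot p) = (φ (ζ : AdjoinRoot p)) ^ (3 ^ α - 1) := by
      rw [ha, Units.val_pow_eq_pow_val, map_pow]
    have h2 : (φ (ζ : AdjoinRoot p)).det ≠ 0 := by
      intro h0
      have : φ (ζ : AdjoinRoot p) * φ ((ζ⁻¹ : (AdjoinRoot p)ˣ) : AdjoinRoot p) = 1 := by
        rw [← map_mul, Units.mul_inv, map_one]
      have h3 := congrArg Matrix.det this
      rw [Matrix.det_mul, h0, zero_mul, Matrix.det_one] at h3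
      exact zero_ne_one h3
    rw [h1, Matrix.det_pow, ← hq]
    exact FiniteField.pow_card_sub_one_eq_one _ h2
  · rw [← hoa, ← orderOf_units (y := a)]
    exact orderOf_injective (φ : AdjoinRoot p →* M2 F) hinj (a : AdjoinRoot p)


omit [Fintype F] in
/-- faithfulness of the linear action modulo `± 1` -/
theorem eq_one_or_neg_one_of_lin (y : M2 F) (hd : y.det = 1) (h : ∀ X, lin 1 y X = X) :
    y = 1 ∨ y = -1 := by
  have e11 := h !![1, 0; 0, 0]
  have e22 := h !![0, 0; 0, 1]
  have e12 := h !![0, 1; 0, 0]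
  have a1 : (y 0 0) ^ 4 = 1 := by
    have := congrFun (congrFun e11 0) 0
    rw [lin_apply] at this
    simp at this
    linear_combination this
  have a2 : y 1 0 * (y 0 0) ^ 3 = 0 := by
    have := congrFun (congrFun e11 1) 0
    rw [lin_apply] at this
    simp at this
    rcases this with h | h
    · rw [h, zero_mul]
    · rw [h]; simp
  have a3 : (y 1 1) ^ 4 = 1 := by
    have := congrFun (congrFun e22 1) 1
    rw [lin_apply] at this
    simp at this
    linear_combination this
  have a4 : y 0 1 * (y 1 1) ^ 3 = 0 := by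
    have := congrFun (congrFun e22 0) 1
    rw [lin_apply] at this
    simp at this
    rcases this with h | h
    · rw [h, zero_mul]
    · rw [h]; simp
  have a5 : y 0 0 * (y 1 1) ^ 3 = 1 := by
    have := congrFun (congrFun e12 0) 1
    rw [lin_apply] at this
    simp at this
    linear_combination this
  have h00 : y 0 0 ≠ 0 := by
    intro h0; rw [h0] at a1; simp at a1
  have h11 : y 1 1 ≠ 0 := by
    intro h0; rw [h0] at a3; simp at a3
  have h10 : y 1 0 = 0 := by
    rcases mul_eq_zero.mp a2 with h | h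
    · exact h
    · exact absurd (pow_eq_zero_iff (by norm_num) |>.mp h) h00
  have h01 : y 0 1 = 0 := by
    rcases mul_eq_zero.mp a4 with h | h
    · exact h
    · exact absurd (pow_eq_zero_iff (by norm_num) |>.mp h) h11
  have hdet : y 0 0 * y 1 1 = 1 := by
    rw [Matrix.det_fin_two, h01, h10] at hd
    linear_combination hd
  have hsq : y 1 1 * y 1 1 = 1 := by
    have : y 0 0 * (y 1 1) ^ 3 = (y 0 0 * y 1 1) * (y 1 1 * y 1 1) := by ring
    rw [this, hdet, one_mul] at a5
    exact a5
  have heq : y 0 0 = y 1 1 := by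
    calc y 0 0 = y 0 0 * (y 1 1 * y 1 1) := by rw [hsq, mul_one]
      _ = (y 0 0 * y 1 1) * y 1 1 := by ring
      _ = y 1 1 := by rw [hdet, one_mul]
  rcases mul_self_eq_one_iff.mp hsq with h1 | h1
  · left
    ext i j
    fin_cases i <;> fin_cases j <;> simp [heq, h1, h01, h10]
  · right
    ext i j
    fin_cases i <;> fin_cases j <;> simp [heq, h1, h01, h10]

/-- an element of order `(q + 1) / 2` -/
theorem exists_order_half (α : ℕ) (hα : Odd α) (hq : Fintype.card F = 3 ^ α) :
    ∃ f ∈ HS F, orderOf f = (3 ^ α + 1) / 2 := by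
  have hmod := three_pow_odd_mod_eight α hα
  obtain ⟨g, hd, hog⟩ := exists_det_one_order α hα hq
  set f := mk 1 g 0 (one_mul 1) hd with hf
  refine ⟨f, mk_mem _ _ _ _ _, ?_⟩
  have hfk : ∀ (n : ℕ) (X : M2 F), (f ^ n) X = lin 1 (g ^ n) X := by
    intro n X
    rw [hf, mk_zero_pow, one_pow]
  set k := (3 ^ α + 1) / 2 with hk
  have hk2 : k + k = 3 ^ α + 1 := by omega
  have h1 : f ^ k = 1 := by
    ext1 X
    rw [hfk, Equiv.Perm.one_apply]
    have hy : g ^ k * g ^ k = 1 := by rw [← pow_add, hk2, ← hog, pow_orderOf_eq_one]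
    have hdy : (g ^ k).det = 1 := by rw [Matrix.det_pow, hd, one_pow]
    rcases sq_eq_one_of_det (g ^ k) hdy hy with h | h
    · rw [h, lin_one]
    · rw [h, lin_neg_one]
  apply Nat.dvd_antisymm (orderOf_dvd_of_pow_eq_one h1)
  set n := orderOf f with hn
  have h2 : ∀ X, lin 1 (g ^ n) X = X := by
    intro X
    rw [← hfk, hn, pow_orderOf_eq_one, Equiv.Perm.one_apply]
  have hdy : (g ^ n).det = 1 := by rw [Matrix.det_pow, hd, one_pow]
  have h3 : g ^ (2 * n) = 1 := by
    rw [two_mul, pow_add]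
    rcases eq_one_or_neg_one_of_lin (g ^ n) hdy h2 with h | h
    · rw [h, one_mul]
    · rw [h]; simp
  have h4 : 3 ^ α + 1 ∣ 2 * n := by
    rw [← hog]
    exact orderOf_dvd_of_pow_eq_one h3
  rw [← hk2, ← two_mul] at h4
  exact (Nat.mul_dvd_mul_iff_left (by norm_num)).mp h4

end Cfsg.Agent.Lib.Helper5.Spec4
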