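import Cfsg.Agent.Lib.Helper5.Spec4F

set_option autoImplicit false

namespace Cfsg.Agent.Lib.Helper5.Spec4

open Matrix

variable {F : Type*} [Field F] [CharP F 3]

/-- the translation subgroup -/
noncomputable def PT (F : Type*) [Field F] [CharP F 3] : Subgroup ↥(HS F) where
  carrier := {f | ∃ B : M2 F, ∀ X, (f : Equiv.Perm (M2 F)) X = X + B}
  one_mem' := ⟨0, fun X => by simp⟩
  mul_mem' := by
    rintro f₁ f₂ ⟨B₁, h1⟩ ⟨B₂, h2⟩
    refine ⟨B₂ + B₁, fun X => ?_⟩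
    rw [Subgroup.coe_mul, Equiv.Perm.mul_apply, h2, h1, add_assoc]
  inv_mem' := by
    rintro f ⟨B, h⟩
    refine ⟨-B, fun X => ?_⟩
    rw [Subgroup.coe_inv, Equiv.Perm.inv_def, Equiv.symm_apply_eq, h]
    abel

theorem PT_normal : (PT F).Normal := by
  constructor
  rintro n ⟨B, hn⟩ g
  obtain ⟨ε, γ, C, hε, hd, hg⟩ := g.2
  refine ⟨lin ε γ B, fun X => ?_⟩
  rw [Subgroup.coe_mul, Subgroup.coe_mul, Equiv.Perm.mul_apply, Equiv.Perm.mul_apply, hn, hg, aff,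
    lin_add]
  have : lin ε γ ((↑g⁻¹ : Equiv.Perm (M2 F)) X) + C = X := by
    have h1 : (g : Equiv.Perm (M2 F)) ((↑g⁻¹ : Equiv.Perm (M2 F)) X) = X := by
      rw [Subgroup.coe_inv]; simp
    rw [hg, aff] at h1
    exact h1
  rw [add_right_comm, this]

theorem PT_ne_bot : PT F ≠ ⊥ := by
  intro h
  set E : M2 F := !![1, 0; 0, 0] with hE
  set f : ↥(HS F) := ⟨mk 1 1 E (one_mul 1) Matrix.det_one, mk_mem _ _ _ _ _⟩ with hf
  have hmem : f ∈ PT F := ⟨E, fun X => by rw [hf]; simp only [mk_apply, aff, lin_one]⟩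
  rw [h, Subgroup.mem_bot] at hmem
  have h0 : (f : Equiv.Perm (M2 F)) 0 = 0 := by rw [hmem]; rfl
  rw [hf] at h0
  simp only [mk_apply, aff, lin_one, zero_add] at h0
  have := congrFun (congrFun h0 0) 0
  simp [hE] at this

theorem PT_pgroup : IsPGroup 3 ↥(PT F) := by
  rintro ⟨f, B, hB⟩
  refine ⟨1, ?_⟩
  apply Subtype.ext
  apply Subtype.ext
  rw [pow_one]
  simp only [Subgroup.coe_pow, Subgroup.coe_one]
  exact translation_pow_three _ B hB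


theorem dset_antichain (q : ℕ) (h8 : q % 8 = 3) (h3 : q % 3 = 0) (h27 : 27 ≤ q) (d d' : ℕ)
    (hd : d = 6 ∨ d = 9 ∨ d = q - 1 ∨ d = (q + 1) / 2)
    (hd' : d' = 6 ∨ d' = 9 ∨ d' = q - 1 ∨ d' = (q + 1) / 2) (h : d ∣ d') : d = d' := by
  have key : (q + 1) / 2 ∣ q - 1 → False := by
    intro hk
    have h1 : (q + 1) / 2 ∣ 2 * ((q + 1) / 2) := Dvd.intro_left _ rfl
    have h2 : 2 * ((q + 1) / 2) - (q - 1) = 2 := by omega
    have h3 := Nat.dvd_sub h1 hk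
    rw [h2] at h3
    have := Nat.le_of_dvd (by norm_num) h3
    omega
  rcases hd with rfl | rfl | rfl | rfl <;> rcases hd' with rfl | rfl | rfl | rfl
  all_goals first
    | rfl
    | (exfalso; exact key h)
    | (exfalso; have := Nat.le_of_dvd (by omega) h; omega)
    | (exfalso; omega)

variable [Fintype F]

theorem spectrum (α : ℕ) (hα3 : 3 ≤ α) (hα : Odd α) (hq : Fintype.card F = 3 ^ α) :
    {n : ℕ | n ∈ Set.range (orderOf : ↥(HS F) → ℕ) ∧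
      ∀ m ∈ Set.range (orderOf : ↥(HS F) → ℕ), n ∣ m → m = n} =
      ({6, 9, 3 ^ α - 1, (3 ^ α + 1) / 2} : Set ℕ) := by
  have h8 := three_pow_odd_mod_eight α hα
  have h3 : 3 ^ α % 3 = 0 := by
    obtain ⟨k, rfl⟩ : ∃ k, α = k + 1 := ⟨α - 1, by omega⟩
    rw [pow_succ]; simp
  have h27 : 27 ≤ 3 ^ α := by
    calc 27 = 3 ^ 3 := by norm_num
      _ ≤ 3 ^ α := Nat.pow_le_pow_right (by norm_num) hα3
  -- (A)
  have hA : ∀ h : ↥(HS F), ∃ d, (d = 6 ∨ d = 9 ∨ d = 3 ^ α - 1 ∨ d = (3 ^ α + 1) / 2) ∧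
      orderOf h ∣ d := by
    intro h
    have hc := pow_eq_one_cases α hα hq (h : Equiv.Perm (M2 F)) h.2
    rw [← Subgroup.orderOf_coe]
    rcases hc with hc | hc | hc | hc
    · exact ⟨6, Or.inl rfl, orderOf_dvd_of_pow_eq_one hc⟩
    · exact ⟨9, Or.inr (Or.inl rfl), orderOf_dvd_of_pow_eq_one hc⟩
    · exact ⟨_, Or.inr (Or.inr (Or.inl rfl)), orderOf_dvd_of_pow_eq_one hc⟩
    · exact ⟨_, Or.inr (Or.inr (Or.inr rfl)), orderOf_dvd_of_pow_eq_one hc⟩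
  -- (B)
  have hB : ∀ d, (d = 6 ∨ d = 9 ∨ d = 3 ^ α - 1 ∨ d = (3 ^ α + 1) / 2) →
      ∃ h : ↥(HS F), orderOf h = d := by
    intro d hd
    rcases hd with rfl | rfl | rfl | rfl
    · obtain ⟨f, hf, ho⟩ := exists_order_six (F := F)
      exact ⟨⟨f, hf⟩, by rw [← Subgroup.orderOf_coe]; exact ho⟩
    · obtain ⟨f, hf, ho⟩ := exists_order_nine (F := F)
      exact ⟨⟨f, hf⟩, by rw [← Subgroup.orderOf_coe]; exact ho⟩
    · obtain ⟨f, hf, ho⟩ := exists_order_card_sub_one α hα hq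
      exact ⟨⟨f, hf⟩, by rw [← Subgroup.orderOf_coe]; exact ho⟩
    · obtain ⟨f, hf, ho⟩ := exists_order_half α hα hq
      exact ⟨⟨f, hf⟩, by rw [← Subgroup.orderOf_coe]; exact ho⟩
  ext n
  simp only [Set.mem_setOf_eq, Set.mem_range, Set.mem_insert_iff, Set.mem_singleton_iff]
  constructor
  · rintro ⟨⟨h, rfl⟩, hmax⟩
    obtain ⟨d, hd, hdvd⟩ := hA h
    obtain ⟨h', hh'⟩ := hB d hd
    have := hmax d ⟨h', hh'⟩ hdvd
    rw [← this]; exact hd
  · intro hn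
    refine ⟨hB n hn, ?_⟩
    rintro m ⟨h', rfl⟩ hnm
    obtain ⟨d', hd', hdvd'⟩ := hA h'
    have := dset_antichain (3 ^ α) h8 h3 h27 n d' hn hd' (dvd_trans hnm hdvd')
    rw [← this] at hdvd'
    exact Nat.dvd_antisymm hdvd' hnm

/-- the final existence statement -/
theorem main (α : ℕ) (hα3 : 3 ≤ α) (hα : Odd α) :
    ∃ (H : Type) (_ : Group H) (_ : Fintype H),
      (∃ P : Subgroup H, P.Normal ∧ P ≠ ⊥ ∧ IsPGroup 3 ↥P) ∧
      {n : ℕ | n ∈ Set.range (orderOf : H → ℕ) ∧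
        ∀ m ∈ Set.range (orderOf : H → ℕ), n ∣ m → m = n} =
        ({6, 9, 3 ^ α - 1, (3 ^ α + 1) / 2} : Set ℕ) := by
  haveI : Fintype (GaloisField 3 α) := Fintype.ofFinite _
  have hcard : Fintype.card (GaloisField 3 α) = 3 ^ α := by
    rw [← Nat.card_eq_fintype_card]
    exact GaloisField.card 3 α (by omega)
  refine ⟨↥(HS (GaloisField 3 α)), inferInstance, Fintype.ofFinite _, ⟨PT _, PT_normal, PT_ne_bot,
    PT_pgroup⟩, ?_⟩
  exact spectrum α hα3 hα hcard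

end Cfsg.Agent.Lib.Helper5.Spec4
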