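import Cfsg.Prelude.Def_Sporadic

/-!
Helper library (helper5): prime-power factorizations of the 26 sporadic orders, with a generic
lemma computing `Nat.factorization` of a product of prime powers given as a list of pairs.
-/

set_option autoImplicit false

namespace Cfsg.Agent.Lib.Helper5

/-- The number `∏ p_i ^ e_i` for a list of pairs `(p_i, e_i)`. -/
def ppVal (l : List (ℕ × ℕ)) : ℕ := (l.map (fun x => x.1 ^ x.2)).prod

/-- The total exponent of `p` in the list of pairs. -/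
def ppExpo (l : List (ℕ × ℕ)) (p : ℕ) : ℕ := ((l.filter (fun x => x.1 = p)).map Prod.snd).sum

theorem ppVal_cons (x : ℕ × ℕ) (l : List (ℕ × ℕ)) : ppVal (x :: l) = x.1 ^ x.2 * ppVal l := by
  simp [ppVal]

theorem ppVal_ne_zero (l : List (ℕ × ℕ)) (hl : ∀ x ∈ l, x.1.Prime) : ppVal l ≠ 0 := by
  induction l with
  | nil => simp [ppVal]
  | cons x l ih =>
    rw [ppVal_cons]
    have hx : x.1.Prime := hl x List.mem_cons_self
    exact mul_ne_zero (pow_ne_zero _ hx.ne_zero) (ih fun y hy => hl y (List.mem_cons_of_mem _ hy))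

theorem factorization_ppVal (l : List (ℕ × ℕ)) (hl : ∀ x ∈ l, x.1.Prime) (p : ℕ) :
    (ppVal l).factorization p = ppExpo l p := by
  induction l with
  | nil => simp [ppVal, ppExpo]
  | cons x l ih =>
    have hx : x.1.Prime := hl x List.mem_cons_self
    have hl' : ∀ y ∈ l, y.1.Prime := fun y hy => hl y (List.mem_cons_of_mem _ hy)
    rw [ppVal_cons, Nat.factorization_mul (pow_ne_zero _ hx.ne_zero) (ppVal_ne_zero l hl'),
      Nat.factorization_pow, hx.factorization]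
    simp only [Finsupp.coe_add, Finsupp.coe_smul, Pi.add_apply, Pi.smul_apply, smul_eq_mul,
      Finsupp.single_apply, ih hl']
    unfold ppExpo
    rw [List.filter_cons]
    by_cases h : x.1 = p
    · simp [h]
    · simp [h]

theorem exists_mem_of_ppExpo_ne_zero (l : List (ℕ × ℕ)) (p : ℕ) (h : ppExpo l p ≠ 0) :
    ∃ x ∈ l, x.1 = p := by
  by_contra hcon
  push Not at hcon
  apply h
  unfold ppExpo
  have : l.filter (fun x => x.1 = p) = [] := by
    rw [List.filter_eq_nil_iff]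
    intro x hx
    simpa using hcon x hx
  rw [this]
  rfl

/-- The prime-power factorizations of the orders of the 26 sporadic groups, in the order of
`Cfsg.IsSporadic`. -/
def sporadicFactorizations : List (List (ℕ × ℕ)) :=
  [[(2, 4), (3, 2), (5, 1), (11, 1)],
   [(2, 6), (3, 3), (5, 1), (11, 1)],
   [(2, 7), (3, 2), (5, 1), (7, 1), (11, 1)],
   [(2, 7), (3, 2), (5, 1), (7, 1), (11, 1), (23, 1)],
   [(2, 10), (3, 3), (5, 1), (7, 1), (11, 1), (23, 1)],
   [(2, 3), (3, 1), (5, 1), (7, 1), (11, 1), (19, 1)],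
   [(2, 7), (3, 3), (5, 2), (7, 1)],
   [(2, 7), (3, 5), (5, 1), (17, 1), (19, 1)],
   [(2, 21), (3, 3), (5, 1), (7, 1), (11, 3), (23, 1), (29, 1), (31, 1), (37, 1), (43, 1)],
   [(2, 21), (3, 9), (5, 4), (7, 2), (11, 1), (13, 1), (23, 1)],
   [(2, 18), (3, 6), (5, 3), (7, 1), (11, 1), (23, 1)],
   [(2, 10), (3, 7), (5, 3), (7, 1), (11, 1), (23, 1)],
   [(2, 17), (3, 9), (5, 2), (7, 1), (11, 1), (13, 1)],
   [(2, 18), (3, 13), (5, 2), (7, 1), (11, 1), (13, 1), (17, 1), (23, 1)],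
   [(2, 21), (3, 16), (5, 2), (7, 3), (11, 1), (13, 1), (17, 1), (23, 1), (29, 1)],
   [(2, 9), (3, 2), (5, 3), (7, 1), (11, 1)],
   [(2, 7), (3, 6), (5, 3), (7, 1), (11, 1)],
   [(2, 10), (3, 3), (5, 2), (7, 3), (17, 1)],
   [(2, 14), (3, 3), (5, 3), (7, 1), (13, 1), (29, 1)],
   [(2, 13), (3, 7), (5, 2), (7, 1), (11, 1), (13, 1)],
   [(2, 9), (3, 4), (5, 1), (7, 3), (11, 1), (19, 1), (31, 1)],
   [(2, 14), (3, 6), (5, 6), (7, 1), (11, 1), (19, 1)],
   [(2, 8), (3, 7), (5, 6), (7, 1), (11, 1), (31, 1), (37, 1), (67, 1)],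
   [(2, 15), (3, 10), (5, 3), (7, 2), (13, 1), (19, 1), (31, 1)],
   [(2, 41), (3, 13), (5, 6), (7, 2), (11, 1), (13, 1), (17, 1), (19, 1), (23, 1), (31, 1), (47, 1)],
   [(2, 46), (3, 20), (5, 9), (7, 6), (11, 2), (13, 3), (17, 1), (19, 1), (23, 1), (29, 1), (31, 1), (41, 1), (47, 1), (59, 1), (71, 1)]]

theorem sporadicFactorizations_prime :
    ∀ l ∈ sporadicFactorizations, ∀ x ∈ l, x.1.Prime := by
  simp only [sporadicFactorizations, List.forall_mem_cons, List.not_mem_nil, false_imp_iff,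
    implies_true, and_true]
  norm_num

theorem exists_sporadicFactorization {G : Type*} [Group G] (h : Cfsg.IsSporadic G) :
    ∃ l ∈ sporadicFactorizations, Nat.card G = ppVal l := by
  unfold Cfsg.IsSporadic at h
  rcases h with h | h | h | h | h | h | h | h | h | h | h | h | h | h | h | h | h | h | h | h | h | h | h | h | h | h
  · exact ⟨[(2, 4), (3, 2), (5, 1), (11, 1)], by simp [sporadicFactorizations], by rw [h.2]; norm_num [ppVal]⟩
  · exact ⟨[(2, 6), (3, 3), (5, 1), (11, 1)], by simp [sporadicFactorizations], by rw [h.2]; norm_num [ppVal]⟩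
  · exact ⟨[(2, 7), (3, 2), (5, 1), (7, 1), (11, 1)], by simp [sporadicFactorizations], by rw [h.2]; norm_num [ppVal]⟩
  · exact ⟨[(2, 7), (3, 2), (5, 1), (7, 1), (11, 1), (23, 1)], by simp [sporadicFactorizations], by rw [h.2]; norm_num [ppVal]⟩
  · exact ⟨[(2, 10), (3, 3), (5, 1), (7, 1), (11, 1), (23, 1)], by simp [sporadicFactorizations], by rw [h.2]; norm_num [ppVal]⟩
  · exact ⟨[(2, 3), (3, 1), (5, 1), (7, 1), (11, 1), (19, 1)], by simp [sporadicFactorizations], by rw [h.2]; norm_num [ppVal]⟩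
  · exact ⟨[(2, 7), (3, 3), (5, 2), (7, 1)], by simp [sporadicFactorizations], by rw [h.2]; norm_num [ppVal]⟩
  · exact ⟨[(2, 7), (3, 5), (5, 1), (17, 1), (19, 1)], by simp [sporadicFactorizations], by rw [h.2]; norm_num [ppVal]⟩
  · exact ⟨[(2, 21), (3, 3), (5, 1), (7, 1), (11, 3), (23, 1), (29, 1), (31, 1), (37, 1), (43, 1)], by simp [sporadicFactorizations], by rw [h.2]; norm_num [ppVal]⟩
  · exact ⟨[(2, 21), (3, 9), (5, 4), (7, 2), (11, 1), (13, 1), (23, 1)], by simp [sporadicFactorizations], by rw [h.2]; norm_num [ppVal]⟩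
  · exact ⟨[(2, 18), (3, 6), (5, 3), (7, 1), (11, 1), (23, 1)], by simp [sporadicFactorizations], by rw [h.2]; norm_num [ppVal]⟩
  · exact ⟨[(2, 10), (3, 7), (5, 3), (7, 1), (11, 1), (23, 1)], by simp [sporadicFactorizations], by rw [h.2]; norm_num [ppVal]⟩
  · exact ⟨[(2, 17), (3, 9), (5, 2), (7, 1), (11, 1), (13, 1)], by simp [sporadicFactorizations], by rw [h.2]; norm_num [ppVal]⟩
  · exact ⟨[(2, 18), (3, 13), (5, 2), (7, 1), (11, 1), (13, 1), (17, 1), (23, 1)], by simp [sporadicFactorizations], by rw [h.2]; norm_num [ppVal]⟩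
  · exact ⟨[(2, 21), (3, 16), (5, 2), (7, 3), (11, 1), (13, 1), (17, 1), (23, 1), (29, 1)], by simp [sporadicFactorizations], by rw [h.2]; norm_num [ppVal]⟩
  · exact ⟨[(2, 9), (3, 2), (5, 3), (7, 1), (11, 1)], by simp [sporadicFactorizations], by rw [h.2]; norm_num [ppVal]⟩
  · exact ⟨[(2, 7), (3, 6), (5, 3), (7, 1), (11, 1)], by simp [sporadicFactorizations], by rw [h.2]; norm_num [ppVal]⟩
  · exact ⟨[(2, 10), (3, 3), (5, 2), (7, 3), (17, 1)], by simp [sporadicFactorizations], by rw [h.2]; norm_num [ppVal]⟩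
  · exact ⟨[(2, 14), (3, 3), (5, 3), (7, 1), (13, 1), (29, 1)], by simp [sporadicFactorizations], by rw [h.2]; norm_num [ppVal]⟩
  · exact ⟨[(2, 13), (3, 7), (5, 2), (7, 1), (11, 1), (13, 1)], by simp [sporadicFactorizations], by rw [h.2]; norm_num [ppVal]⟩
  · exact ⟨[(2, 9), (3, 4), (5, 1), (7, 3), (11, 1), (19, 1), (31, 1)], by simp [sporadicFactorizations], by rw [h.2]; norm_num [ppVal]⟩
  · exact ⟨[(2, 14), (3, 6), (5, 6), (7, 1), (11, 1), (19, 1)], by simp [sporadicFactorizations], by rw [h.2]; norm_num [ppVal]⟩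
  · exact ⟨[(2, 8), (3, 7), (5, 6), (7, 1), (11, 1), (31, 1), (37, 1), (67, 1)], by simp [sporadicFactorizations], by rw [h.2]; norm_num [ppVal]⟩
  · exact ⟨[(2, 15), (3, 10), (5, 3), (7, 2), (13, 1), (19, 1), (31, 1)], by simp [sporadicFactorizations], by rw [h.2]; norm_num [ppVal]⟩
  · exact ⟨[(2, 41), (3, 13), (5, 6), (7, 2), (11, 1), (13, 1), (17, 1), (19, 1), (23, 1), (31, 1), (47, 1)], by simp [sporadicFactorizations], by rw [h.2]; norm_num [ppVal]⟩
  · exact ⟨[(2, 46), (3, 20), (5, 9), (7, 6), (11, 2), (13, 3), (17, 1), (19, 1), (23, 1), (29, 1), (31, 1), (41, 1), (47, 1), (59, 1), (71, 1)], by simp [sporadicFactorizations], by rw [h.2]; norm_num [ppVal]⟩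

end Cfsg.Agent.Lib.Helper5
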