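import Cfsg.Agent.Lib.Helper5.Chain4
import Cfsg.Agent.Lib.Helper2.PMChain4

set_option autoImplicit false

/-! # Tools for certified searches: orbits as bit masks, checks on ranges, models with a literal
number of letters -/

namespace Cfsg.Agent.Lib.Helper5.Srch

open Cfsg.Agent.Lib.Helper6.TC Cfsg.Agent.Lib.Helper6.PM Cfsg.Agent.Lib.Helper2.PMS
open Cfsg.Agent.Lib.Helper2.PMC

/-- the bit mask of a list of numbers -/
def maskOf : List ℕ → ℕ
  | [] => 0
  | y :: I => Nat.lor (maskOf I) (Nat.shiftLeft 1 y)

/-- the test of a bit -/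
def tb (m y : ℕ) : Bool := Nat.beq (Nat.land (Nat.shiftRight m y) 1) 1

theorem tb_eq (m y : ℕ) : tb m y = Nat.testBit m y := by
  unfold tb
  show Nat.beq (m >>> y &&& 1) 1 = Nat.testBit m y
  rw [Nat.testBit, Nat.and_comm]
  have h : (1 &&& m >>> y) = 0 ∨ (1 &&& m >>> y) = 1 := by
    have := Nat.and_le_left (n := 1) (m := m >>> y)
    omega
  rcases h with h | h <;> rw [h] <;> rfl

theorem tb_maskOf (I : List ℕ) (y : ℕ) : tb (maskOf I) y = true ↔ y ∈ I := by
  rw [tb_eq]
  induction I with
  | nil => simp [maskOf]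
  | cons a I ih =>
    show Nat.testBit (maskOf I ||| 1 <<< a) y = true ↔ _
    rw [Nat.testBit_or, Bool.or_eq_true, ih, Nat.one_shiftLeft, Nat.testBit_two_pow,
      List.mem_cons, decide_eq_true_eq]
    constructor
    · rintro (h | h)
      · exact Or.inr h
      · exact Or.inl h.symm
    · rintro (h | h)
      · exact Or.inr h.symm
      · exact Or.inl h

/-- the check of the masks of the levels -/
def chkMasks : List Level → List ℕ → Bool
  | [], _ => true
  | L :: lv, ms => Nat.beq (ms.headD 0) (maskOf L.I) && chkMasks lv ms.tail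

/-- the masks of the levels are right -/
def MasksOK : List Level → List ℕ → Prop
  | [], _ => True
  | L :: lv, ms => (∀ y, tb (ms.headD 0) y = true ↔ y ∈ L.I) ∧ MasksOK lv ms.tail

theorem masksOK_of_chk : ∀ (lv : List Level) (ms : List ℕ), chkMasks lv ms = true → MasksOK lv ms
  | [], _, _ => trivial
  | L :: lv, ms, h => by
    unfold chkMasks at h
    rw [Bool.and_eq_true, Nat.beq_eq] at h
    refine ⟨fun y => ?_, masksOK_of_chk lv ms.tail h.2⟩
    rw [h.1]
    exact tb_maskOf L.I y

/-- a check on a range of numbers -/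
def chkRange (f : ℕ → Bool) : ℕ → ℕ → Bool
  | _, 0 => true
  | lo, k + 1 => f lo && chkRange f (lo + 1) k

theorem chkRange_spec (f : ℕ → Bool) : ∀ (k lo : ℕ), chkRange f lo k = true →
    ∀ i, lo ≤ i → i < lo + k → f i = true
  | 0, lo, _, i, h1, h2 => by omega
  | k + 1, lo, h, i, h1, h2 => by
    unfold chkRange at h
    rw [Bool.and_eq_true] at h
    rcases Nat.eq_or_lt_of_le h1 with rfl | h3
    · exact h.1
    · exact chkRange_spec f k (lo + 1) h.2 i h3 (by omega)

section withNl

variable (M : PModel) (k : ℕ) (hk : M.nl = k)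

/-- the same model, with the number of letters given by a literal -/
noncomputable def withNl : PModel where
  G := M.G
  n := M.n
  nl := k
  px := M.px
  elt := M.elt
  phi := M.phi
  elt_nil := M.elt_nil
  elt_append := M.elt_append
  px_lt := by rw [← hk]; exact M.px_lt
  phi_inv_val := by rw [← hk]; exact M.phi_inv_val
  phi_injective := M.phi_injective
  closure_letters := by rw [← hk]; exact M.closure_letters

end withNl

end Cfsg.Agent.Lib.Helper5.Srch
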