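import Cfsg.Agent.Lib.Helper5.Srch1

set_option autoImplicit false

/-! # Certified searches for the elements conjugating one word to another, along a chain

A variant of the searches of `Cfsg.Agent.Lib.Helper2.PMC`: the orbits are tested with bit masks,
there is a certificate for a point on a cycle of the first word whose image is not on a cycle of
the same length of the second word, and the first level can be cut into pieces checked
separately. -/

namespace Cfsg.Agent.Lib.Helper5.Srch

open Cfsg.Agent.Lib.Helper6.TC Cfsg.Agent.Lib.Helper6.PM Cfsg.Agent.Lib.Helper2.PMS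
open Cfsg.Agent.Lib.Helper2.PMC

/-- the certificates of a search -/
inductive Cert where
  /-- at a forced level, the forced image is not in the orbit -/
  | fail : Cert
  /-- the compatibility fails at an earlier base point -/
  | bad : ℕ → Cert
  /-- an earlier base point is fixed by a power of the first word, its image is not fixed by
  the power of the second word -/
  | badPow : ℕ → ℕ → Cert
  /-- at a forced level, a word with the forced image -/
  | step : List ℕ → Cert → Cert
  /-- at the end, a word for the element found -/
  | done : List ℕ → Cert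
  /-- at the end, the compatibility fails at a point -/
  | badAt : ℕ → Cert
  /-- at a free level, no word of the transversal is left -/
  | nil : Cert
  /-- at a free level, the certificate of the next word of the transversal and of the others -/
  | cons : Cert → Cert → Cert

/-- the words of the elements found -/
def leaves : Cert → List (List ℕ)
  | .fail => []
  | .bad _ => []
  | .badPow _ _ => []
  | .step _ c => leaves c
  | .done z => [z]
  | .badAt _ => []
  | .nil => []
  | .cons c cs => leaves c ++ leaves cs

/-- the certificate of a list of certificates -/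
def Cert.ofList : List Cert → Cert
  | [] => .nil
  | c :: l => .cons c (Cert.ofList l)

/-- the certificate of a list of certificates with repetitions -/
def Cert.rl (l : List (ℕ × Cert)) : Cert :=
  Cert.ofList (l.flatMap fun x => List.replicate x.1 x.2)

section search

variable (M : PModel) (iv : ℕ → ℕ) (ws ws' : List ℕ)

noncomputable def chkFailM (lv : List Level) (ms : List ℕ) (pend : Option (List (List ℕ)))
    (acc : List ℕ) : Bool :=
  match lv, pend with
  | L :: _, none =>
    match L.src with
    | some s => !(tb (ms.headD 0) (wappS M.px (invw iv acc) (wappS M.px ws' (wappS M.px acc s))))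
    | none => false
  | _, _ => false

noncomputable def chkBadPow (q k : ℕ) (fixed acc : List ℕ) : Bool :=
  memNat q fixed && xor (Nat.beq (wappS M.px (rep k ws) q) q)
    (Nat.beq (wappS M.px (rep k ws') (wappS M.px acc q)) (wappS M.px acc q))

/-- the check of a certificate -/
noncomputable def chk : Cert → List Level → List ℕ → Option (List (List ℕ)) → List ℕ → List ℕ →
    Bool
  | .fail, lv, ms, pend, _, acc => chkFailM M iv ws' lv ms pend acc
  | .bad q, _, _, _, fixed, acc => chkBad M ws ws' q fixed acc
  | .badPow q k, _, _, _, fixed, acc => chkBadPow M ws ws' q k fixed acc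
  | .step u c, lv, ms, pend, fixed, acc =>
    match lv, pend with
    | L :: lv', none =>
      chkStep M ws' L u fixed acc && chk c lv' ms.tail (pendOf lv') (L.b :: fixed) (u ++ acc)
    | _, _ => false
  | .done z, lv, _, _, fixed, acc => chkDone M lv z fixed acc
  | .badAt q, lv, _, _, _, acc => chkBadAt M ws ws' lv q acc
  | .nil, _, _, pend, _, _ =>
    match pend with
    | some [] => true
    | _ => false
  | .cons c cs, lv, ms, pend, fixed, acc =>
    match lv, pend with
    | L :: lv', some (u :: U') =>
      chk c lv' ms.tail (pendOf lv') (L.b :: fixed) (u ++ acc) &&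
        chk cs (L :: lv') ms (some U') fixed acc
    | _, _ => false

variable {M iv ws ws'}

/-- the compatibility with the powers of the words -/
theorem compat_rep (hws : ∀ c ∈ ws, c < M.nl) (hws' : ∀ c ∈ ws', c < M.nl) (g : M.G)
    (hg : Compat M ws ws' g) (k : ℕ) : Compat M (rep k ws) (rep k ws') g := by
  induction k with
  | zero =>
    intro q hq
    rw [rep_zero, rep_zero, wapp_nil, wapp_nil]
    exact (pnt_eq M _).symm
  | succ k ih =>
    intro q hq
    rw [rep_succ, rep_succ, wapp_append, wapp_append]
    have hq1 : wapp M.px ws q < M.n := M.wapp_lt ws hws q hq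
    rw [ih _ hq1, hg q hq]
    congr 2
    exact pnt_val M _ (M.wapp_lt ws' hws' _ (Fin.isLt _))

theorem rep_lt (w : List ℕ) (hw : ∀ c ∈ w, c < M.nl) (k : ℕ) : ∀ c ∈ rep k w, c < M.nl := by
  induction k with
  | zero => intro c hc; rw [rep_zero] at hc; exact absurd hc List.not_mem_nil
  | succ k ih =>
    intro c hc
    rw [rep_succ] at hc
    rcases List.mem_append.mp hc with h | h
    · exact hw c h
    · exact ih c h

/-- the soundness of the check of a certificate -/
theorem chk_sound [Finite M.G] (hI : InvMap M iv) (hws : ∀ c ∈ ws, c < M.nl)
    (hws' : ∀ c ∈ ws', c < M.nl) (g : M.G)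
    (hg : Compat M ws ws' g) (c : Cert) :
    ∀ (lv : List Level) (ms : List ℕ) (pend : Option (List (List ℕ))) (fixed acc : List ℕ),
      chk M iv ws ws' c lv ms pend fixed acc = true → MasksOK lv ms →
      St M ws g lv pend fixed acc → ∃ z ∈ leaves c, g = M.elt z := by
  induction c with
  | fail =>
    intro lv ms pend fixed acc h hm S
    exfalso
    unfold chk chkFailM at h
    cases lv with
    | nil => simp at h
    | cons L lv' =>
      cases pend with
      | some Us => simp at h
      | none =>
        simp only at h
        cases hsrc : L.src with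
        | none => rw [hsrc] at h; simp at h
        | some s =>
          rw [hsrc] at h
          simp only [Bool.not_eq_true', wappS_eq] at h
          obtain ⟨hs, hsb⟩ := S.hsrc.1 s hsrc
          obtain ⟨t, ht, htb⟩ := S.hcomp.1 _ S.hr
          change t ∈ L.U.map _ at ht
          rw [List.mem_map] at ht
          obtain ⟨u, hu, rfl⟩ := ht
          have hb : L.b < M.n := S.hok.1
          have h1 : (M.elt u)⁻¹ • pnt M L.b = pnt M (wapp M.px u L.b) :=
            inv_elt_smul_pnt M u (S.hok.2.1 u hu) L.b hb
          have h2 : (M.elt acc * g⁻¹) • pnt M L.b =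
              pnt M (wapp M.px (invw iv acc) (wapp M.px ws' (wapp M.px acc s))) := by
            rw [mul_smul, S.ginv_src hg s L.b hs hsb]
            have hlt : wapp M.px ws' (wapp M.px acc s) < M.n :=
              M.wapp_lt ws' hws' _ (M.wapp_lt acc S.hacc s (S.hfix s hs))
            rw [← inv_elt_smul_pnt M (invw iv acc) (invw_lt M iv hI acc S.hacc) _ hlt,
              elt_invw M iv hI acc S.hacc, inv_inv]
          have htb' : (M.elt u)⁻¹ • pnt M L.b = (M.elt acc * g⁻¹) • pnt M L.b := htb
          rw [← htb', h1] at h2
          have hlt : wapp M.px ws' (wapp M.px acc s) < M.n :=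
            M.wapp_lt ws' hws' _ (M.wapp_lt acc S.hacc s (S.hfix s hs))
          have h3 := pnt_injOn M _ _ (M.wapp_lt u (S.hok.2.1 u hu) L.b hb)
            (M.wapp_lt _ (invw_lt M iv hI acc S.hacc) _ hlt) h2
          have h4 : wapp M.px u L.b ∈ L.I := by
            rw [S.hok.2.2.2.1]
            exact List.mem_map_of_mem hu
          rw [h3, ← hm.1] at h4
          rw [h4] at h
          exact Bool.noConfusion h
  | bad q =>
    intro lv ms pend fixed acc h _ S
    exfalso
    unfold chk chkBad at h
    simp only [Bool.and_eq_true, memNat_iff, wappS_eq, Bool.not_eq_true'] at h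
    obtain ⟨⟨hq, hsq⟩, hne0⟩ := h
    have hne := Nat.ne_of_beq_eq_false hne0
    have h1 := hg q (S.hfix q hq)
    rw [S.ginv_fixed _ hsq, S.ginv_fixed q hq,
      pnt_val M _ (M.wapp_lt acc S.hacc q (S.hfix q hq))] at h1
    apply hne
    exact pnt_injOn M _ _ (M.wapp_lt acc S.hacc _ (S.hfix _ hsq))
      (M.wapp_lt ws' hws' _ (M.wapp_lt acc S.hacc q (S.hfix q hq))) h1
  | badPow q k =>
    intro lv ms pend fixed acc h _ S
    exfalso
    unfold chk chkBadPow at h
    simp only [Bool.and_eq_true, memNat_iff, wappS_eq] at h
    obtain ⟨hq, hx⟩ := h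
    have hqn : q < M.n := S.hfix q hq
    have haq : wapp M.px acc q < M.n := M.wapp_lt acc S.hacc q hqn
    have h1 := compat_rep hws hws' g hg k q hqn
    rw [S.ginv_fixed q hq, pnt_val M _ haq] at h1
    have h0 := S.ginv_fixed q hq
    have hiff : wapp M.px (rep k ws) q = q ↔
        wapp M.px (rep k ws') (wapp M.px acc q) = wapp M.px acc q := by
      constructor
      · intro e
        rw [e, h0] at h1
        exact (pnt_injOn M _ _ haq (M.wapp_lt _ (rep_lt ws' hws' k) _ haq) h1).symm
      · intro e
        rw [e, ← h0] at h1
        have h2 := smul_left_cancel _ h1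
        exact pnt_injOn M _ _ (M.wapp_lt _ (rep_lt ws hws k) _ hqn) hqn h2
    by_cases e : wapp M.px (rep k ws) q = q
    · have e' := hiff.mp e
      rw [e, e'] at hx
      simp at hx
    · have e' : ¬ wapp M.px (rep k ws') (wapp M.px acc q) = wapp M.px acc q := fun h => e (hiff.mpr h)
      have b1 : Nat.beq (wapp M.px (rep k ws) q) q = false := by
        cases hb : Nat.beq (wapp M.px (rep k ws) q) q with
        | false => rfl
        | true => exact absurd (Nat.eq_of_beq_eq_true hb) e
      have b2 : Nat.beq (wapp M.px (rep k ws') (wapp M.px acc q)) (wapp M.px acc q) = false := by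
        cases hb : Nat.beq (wapp M.px (rep k ws') (wapp M.px acc q)) (wapp M.px acc q) with
        | false => rfl
        | true => exact absurd (Nat.eq_of_beq_eq_true hb) e'
      rw [b1, b2] at hx
      simp at hx
  | step u c ih =>
    intro lv ms pend fixed acc h hm S
    unfold chk at h
    cases lv with
    | nil => simp at h
    | cons L lv' =>
      cases pend with
      | some Us => simp at h
      | none =>
        simp only [Bool.and_eq_true] at h
        obtain ⟨h1, h2⟩ := h
        unfold chkStep at h1
        cases hsrc : L.src with
        | none => rw [hsrc] at h1; simp at h1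
        | some s =>
          rw [hsrc] at h1
          simp only [Bool.and_eq_true, List.all_eq_true, Nat.beq_eq, wappS_eq] at h1
          obtain ⟨⟨hu, hfixu⟩, himg⟩ := h1
          have hu' := lt_of_chkW M u hu
          obtain ⟨hs, hsb⟩ := S.hsrc.1 s hsrc
          have hb : L.b < M.n := S.hok.1
          have hru : (M.elt acc * g⁻¹) • pnt M L.b = pnt M (wapp M.px u L.b) := by
            rw [mul_smul, S.ginv_src hg s L.b hs hsb, ← himg]
            exact elt_smul_pnt M acc S.hacc _ _ (M.wapp_lt u hu' L.b hb) rfl
          exact ih _ _ _ _ _ h2 hm.2 (S.descend u hu' hfixu hru)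
  | done z =>
    intro lv ms pend fixed acc h _ S
    unfold chk chkDone at h
    cases lv with
    | cons L lv' => simp at h
    | nil =>
      simp only [Bool.and_eq_true, List.all_eq_true, Nat.beq_eq, wappS_eq] at h
      obtain ⟨hz, himg⟩ := h
      have hz' := lt_of_chkW M z hz
      refine ⟨z, List.mem_singleton.mpr rfl, ?_⟩
      have h1 : M.elt acc * g⁻¹ = 1 := S.hcomp _ S.hr
      have h2 : g = M.elt acc := by
        have := mul_eq_one_iff_eq_inv.mp h1
        rw [inv_inv] at this
        exact this.symm
      have h3 : M.elt z * (M.elt acc)⁻¹ ∈ stabL M fixed := by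
        rw [mem_stabL]
        intro q hq
        rw [mul_smul, inv_elt_smul_pnt M acc S.hacc q (S.hfix q hq), himg q hq]
        exact elt_smul_pnt M z hz' q _ (S.hfix q hq) rfl
      have h4 : M.elt z * (M.elt acc)⁻¹ = 1 := S.hcomp _ h3
      rw [h2]
      have := mul_eq_one_iff_eq_inv.mp h4
      rw [inv_inv] at this
      exact this.symm
  | badAt q =>
    intro lv ms pend fixed acc h _ S
    exfalso
    unfold chk chkBadAt at h
    cases lv with
    | cons L lv' => simp at h
    | nil =>
      simp only [Bool.and_eq_true, Nat.blt_eq, wappS_eq, Bool.not_eq_true'] at h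
      obtain ⟨hq, hne0⟩ := h
      have hne := Nat.ne_of_beq_eq_false hne0
      have h1 : M.elt acc * g⁻¹ = 1 := S.hcomp _ S.hr
      have h2 : g⁻¹ = (M.elt acc)⁻¹ := by
        have := mul_eq_one_iff_eq_inv.mp h1
        rw [inv_inv] at this
        rw [this]
      have h3 := hg q hq
      have hwsq : wapp M.px ws q < M.n := M.wapp_lt ws hws q hq
      rw [h2, inv_elt_smul_pnt M acc S.hacc _ hwsq, inv_elt_smul_pnt M acc S.hacc q hq,
        pnt_val M _ (M.wapp_lt acc S.hacc q hq)] at h3
      apply hne
      exact pnt_injOn M _ _ (M.wapp_lt acc S.hacc _ hwsq)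
        (M.wapp_lt ws' hws' _ (M.wapp_lt acc S.hacc q hq)) h3
  | nil =>
    intro lv ms pend fixed acc h _ S
    exfalso
    unfold chk at h
    cases pend with
    | none => simp at h
    | some Us =>
      cases Us with
      | cons u U' => simp at h
      | nil =>
        obtain ⟨_, _, _, u, hu, _⟩ := S.hpend [] rfl
        exact absurd hu List.not_mem_nil
  | cons c cs ih1 ih2 =>
    intro lv ms pend fixed acc h hm S
    unfold chk at h
    cases lv with
    | nil => simp at h
    | cons L lv' =>
      cases pend with
      | none => simp at h
      | some Us =>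
        cases Us with
        | nil => simp at h
        | cons u U' =>
          simp only [Bool.and_eq_true] at h
          obtain ⟨h1, h2⟩ := h
          obtain ⟨L0, lv0, e, u0, hu0, hu0L, hru⟩ := S.hpend _ rfl
          have e1 : L = L0 := (List.cons.inj e).1
          subst e1
          rcases List.mem_cons.mp hu0 with rfl | hu0'
          · obtain ⟨z, hz, hgz⟩ := ih1 _ _ _ _ _ h1 hm.2
              (S.descend u0 (S.hok.2.1 u0 hu0L) (fun q hq => S.hok.2.2.1 u0 hu0L q hq) hru)
            exact ⟨z, List.mem_append_left _ hz, hgz⟩
          · have S' : St M ws g (L :: lv') (some U') fixed acc := {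
              hfix := S.hfix
              hacc := S.hacc
              hok := S.hok
              hsrc := S.hsrc
              hcomp := S.hcomp
              hr := S.hr
              hpend := by
                intro Us hUs
                simp only [Option.some.injEq] at hUs
                subst hUs
                exact ⟨L, lv', rfl, u0, hu0', hu0L, hru⟩ }
            obtain ⟨z, hz, hgz⟩ := ih2 _ _ _ _ _ h2 hm S'
            exact ⟨z, List.mem_append_right _ hz, hgz⟩

end search

variable {M : PModel}

/-- the result of a certified search whose first level is cut into pieces: the elements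
conjugating the element of the word `ws` to the element of the word `ws'` are the elements of the
words found -/
theorem search_pieces [Finite M.G] {L : Level} {lv' : List Level}
    (F : ChainFacts M (L :: lv')) (ms : List ℕ) (hms : chkMasks (L :: lv') ms = true)
    (iv : ℕ → ℕ) (hI : InvMap M iv) (ws ws' : List ℕ) (hws : chkW M ws = true)
    (hws' : chkW M ws' = true) (hsrc : chkSrc M ws [] (L :: lv') = true) (hL : L.src = none)
    (pcs : List (List (List ℕ) × Cert)) (hU : L.U = (pcs.map fun p => p.1).flatten)
    (hc : ∀ p ∈ pcs, chk M iv ws ws' p.2 (L :: lv') ms (some p.1) [] [] = true) (g : M.G)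
    (hg : g⁻¹ * M.elt ws * g = M.elt ws') : ∃ p ∈ pcs, ∃ z ∈ leaves p.2, g = M.elt z := by
  have hcompat := compat_of_conj M ws ws' (lt_of_chkW M ws hws) (lt_of_chkW M ws' hws') g hg
  have hr : M.elt [] * g⁻¹ ∈ stabL M [] := Subgroup.mem_top _
  have hp := pend_of_complete g (L :: lv') [] [] F.ok F.complete hr
  have e0 : pendOf (L :: lv') = some L.U := by
    show (match L.src with
      | none => some L.U
      | some _ => none) = _
    rw [hL]
  obtain ⟨L0, lv0, e, u, hu, huL, hru⟩ := hp L.U e0
  have e1 : L = L0 := (List.cons.inj e).1
  subst e1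
  rw [hU, List.mem_flatten] at hu
  obtain ⟨U1, hU1, huU1⟩ := hu
  rw [List.mem_map] at hU1
  obtain ⟨p, hp1, rfl⟩ := hU1
  have S : St M ws g (L :: lv') (some p.1) [] [] := {
    hfix := fun q hq => absurd hq List.not_mem_nil
    hacc := fun q hq => absurd hq List.not_mem_nil
    hok := F.ok
    hsrc := srcOK_of_chk M ws (L :: lv') [] hsrc
    hcomp := F.complete
    hr := hr
    hpend := by
      intro Us hUs
      simp only [Option.some.injEq] at hUs
      subst hUs
      exact ⟨L, lv', rfl, u, huU1, huL, hru⟩ }
  obtain ⟨z, hz, hgz⟩ := chk_sound hI (lt_of_chkW M ws hws) (lt_of_chkW M ws' hws') g hcompat p.2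
    (L :: lv') ms (some p.1) [] [] (hc p hp1) (masksOK_of_chk _ _ hms) S
  exact ⟨p, hp1, z, hz, hgz⟩

end Cfsg.Agent.Lib.Helper5.Srch
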