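import Mathlib
import Cfsg.Agent.Lib.Helper5.YoungDC
import Cfsg.Agent.Lib.Helper5.JT2

/-!
The number of double cosets of two Young subgroups is the number of contingency tables.
-/

namespace Cfsg.Agent.Lib.Helper5.YoungDC

open Finset

section count
variable {X I J : Type*} [Fintype X] [DecidableEq X] [DecidableEq I] [DecidableEq J]
  [Fintype I] [Fintype J]

/-- Contingency tables with the margins given by two labellings. -/
def IsTable (la : X → I) (lb : X → J) (M : I → J → ℕ) : Prop :=
  (∀ i, ∑ j, M i j = (univ.filter fun x => la x = i).card) ∧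
    (∀ j, ∑ i, M i j = (univ.filter fun y => lb y = j).card)

theorem card_dc_young (la : X → I) (lb : X → J) :
    Nat.card (DoubleCoset.Quotient (young la : Set (Equiv.Perm X)) (young lb))
      = Nat.card {M : I → J → ℕ // IsTable la lb M} := by
  let f : DoubleCoset.Quotient (young la : Set (Equiv.Perm X)) (young lb)
      → {M : I → J → ℕ // IsTable la lb M} :=
    Quotient.lift (fun σ : Equiv.Perm X => (⟨cm la lb σ,
        fun i => sum_cm_right la lb σ i, fun j => sum_cm_left la lb σ j⟩ :
        {M : I → J → ℕ // IsTable la lb M})) (by
      intro σ τ hστ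
      have h' : DoubleCoset.setoid (young la : Set (Equiv.Perm X)) (young lb) σ τ := hστ
      rw [DoubleCoset.rel_iff] at h'
      obtain ⟨u, hu, v, hv, rfl⟩ := h'
      apply Subtype.ext
      exact (cm_mul la lb σ u v hu hv).symm)
  apply Nat.card_eq_of_bijective f
  constructor
  · intro x y hxy
    induction x using Quotient.inductionOn with | _ σ => ?_
    induction y using Quotient.inductionOn with | _ τ => ?_
    have h1 : cm la lb σ = cm la lb τ := congrArg Subtype.val hxy
    obtain ⟨u, hu, v, hv, h⟩ := exists_mul_of_cm_eq la lb σ τ h1
    apply Quotient.sound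
    show DoubleCoset.setoid (young la : Set (Equiv.Perm X)) (young lb) σ τ
    rw [DoubleCoset.rel_iff]
    exact ⟨u, hu, v, hv, h⟩
  · rintro ⟨M, hM⟩
    obtain ⟨σ, hσ⟩ := exists_cm_eq la lb M hM.1 hM.2
    exact ⟨Quotient.mk'' σ, Subtype.ext hσ⟩

end count

section fin
variable {n : ℕ} {X : Type*} [Fintype X] [DecidableEq X]

open Cfsg.Agent.Lib.Helper5.JT

/-- The number of contingency tables in terms of `Ncount`. -/
theorem card_isTable (la lb : X → Fin n) :
    Nat.card {M : Fin n → Fin n → ℕ // IsTable la lb M}
      = Ncount (fun i => (univ.filter fun x => la x = i).card)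
          (fun j => (univ.filter fun y => lb y = j).card) := by
  classical
  unfold Ncount
  rw [← Fintype.card_coe, ← Nat.card_eq_fintype_card]
  let a : Fin n → ℕ := fun i => (univ.filter fun x => la x = i).card
  let b : Fin n → ℕ := fun j => (univ.filter fun y => lb y = j).card
  apply Nat.card_congr
  refine
    { toFun := fun M => ⟨fun j => toF fun i => M.1 i j, ?_⟩
      invFun := fun N => ⟨fun i j => N.1 j i, ?_⟩
      left_inv := ?_
      right_inv := ?_ }
  · rw [mem_filter]
    constructor
    · unfold colSet
      rw [Fintype.mem_piFinset]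
      intro j
      rw [mem_finsuppAntidiag]
      refine ⟨?_, Finset.subset_univ _⟩
      exact M.2.2 j
    · ext i
      rw [Finsupp.finset_sum_apply]
      exact M.2.1 i
  · have hN := N.2
    rw [mem_filter] at hN
    constructor
    · intro i
      have := DFunLike.congr_fun hN.2 i
      rw [Finsupp.finset_sum_apply] at this
      exact this
    · intro j
      have h1 := hN.1
      unfold colSet at h1
      rw [Fintype.mem_piFinset] at h1
      have h2 := h1 j
      rw [mem_finsuppAntidiag] at h2
      exact h2.1
  · intro M
    rfl
  · intro N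
    apply Subtype.ext
    funext j
    ext i
    rfl

end fin

end Cfsg.Agent.Lib.Helper5.YoungDC
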