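import Mathlib
import Cfsg.Prelude.Def_LinearParabolics
import Cfsg.Agent.Lib.Helper5.PermChar
import Cfsg.Agent.Lib.Helper5.GLBruhat3
import Cfsg.Agent.Lib.Helper5.YoungDC2
import Cfsg.Agent.Lib.Helper5.CompLabel
import Cfsg.Agent.Lib.Helper5.JT3
import Cfsg.Agent.Lib.Helper4.VirtualChar
import Cfsg.Agent.Lib.Helper1.CharFound6

/-!
Inner products of the flag permutation characters of `GL_n(F)` and of their alternating sums.
-/

namespace Cfsg.Agent.Lib.Helper5.UnipChar

open Finset
open scoped ComplexConjugate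
open Cfsg.Agent.Lib.Helper5.JT Cfsg.Agent.Lib.Helper5.YoungDC Cfsg.Agent.Lib.Helper5.CompLabel

variable {n : ℕ} {F : Type*} [Field F] [Fintype (GL (Fin n) F)]

/-- The labelling with values in `Fin n`. -/
def labelFin (a : Fin n → ℕ) (ha : ∑ i, a i = n) : Fin n → Fin n :=
  fun x => ⟨Cfsg.compLabel a x, compLabel_lt a ha x⟩

theorem young_labelFin (a : Fin n → ℕ) (ha : ∑ i, a i = n) :
    young (labelFin a ha) = Cfsg.youngSubgroup a := by
  ext σ
  show (∀ x, labelFin a ha (σ x) = labelFin a ha x) ↔ ∀ x, Cfsg.compLabel a (σ x) = Cfsg.compLabel a x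
  simp only [labelFin, Fin.mk.injEq]

theorem card_filter_labelFin (a : Fin n → ℕ) (ha : ∑ i, a i = n) (i : Fin n) :
    (univ.filter fun x => labelFin a ha x = i).card = a i := by
  rw [← card_filter_compLabel a ha i]
  congr 1
  ext x
  simp only [mem_filter, mem_univ, true_and, labelFin, Fin.ext_iff]

/-- The inner product of two flag characters is the number of contingency tables. -/
theorem classInner_flag (a b : Fin n → ℕ) (ha : ∑ i, a i = n) (hb : ∑ i, b i = n) :
    Cfsg.classInner (Cfsg.fixedPointCharacter (Cfsg.parabolicGL n F a))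
        (Cfsg.fixedPointCharacter (Cfsg.parabolicGL n F b)) = (Ncount a b : ℂ) := by
  rw [PermChar.classInner_fixedPointCharacter, ← GLBruhat.card_dc_parabolic (F := F) a b,
    ← young_labelFin a ha, ← young_labelFin b hb, card_dc_young, card_isTable]
  congr 2
  · funext i
    exact card_filter_labelFin a ha i
  · funext j
    exact card_filter_labelFin b hb j

/-- One term of the alternating sum. -/
noncomputable def term (ν : Fin n → ℕ) (κ : Equiv.Perm (Fin n)) : GL (Fin n) F → ℂ :=
  if ∀ i : Fin n, (κ i).val ≤ ν i + i.val then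
    ((Equiv.Perm.sign κ : ℤ) : ℂ) •
      Cfsg.fixedPointCharacter (Cfsg.parabolicGL n F fun i => ν i + i.val - (κ i).val)
  else 0

theorem unipotentCharacterGL_eq_sum (ν : Fin n → ℕ) :
    Cfsg.unipotentCharacterGL n F ν = ∑ κ : Equiv.Perm (Fin n), term ν κ := by
  funext g
  unfold Cfsg.unipotentCharacterGL
  rw [Finset.sum_apply]
  refine Finset.sum_congr rfl fun κ _ => ?_
  unfold term
  split_ifs
  · rfl
  · rfl

theorem sum_sub_perm (ν : Fin n → ℕ) (hν : ∑ i, ν i = n) (κ : Equiv.Perm (Fin n))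
    (h : ∀ i : Fin n, (κ i).val ≤ ν i + i.val) : ∑ i, (ν i + i.val - (κ i).val) = n := by
  have h1 : ∑ i, (ν i + i.val - (κ i).val) + ∑ i, (κ i).val = ∑ i, (ν i + i.val) := by
    rw [← Finset.sum_add_distrib]
    exact Finset.sum_congr rfl fun i _ => Nat.sub_add_cancel (h i)
  rw [sum_perm_val, Finset.sum_add_distrib, hν] at h1
  omega

theorem isGenChar_term (ν : Fin n → ℕ) (κ : Equiv.Perm (Fin n)) :
    Cfsg.IsGeneralizedCharacter (GL (Fin n) F) (term ν κ) := by
  unfold term
  split_ifs
  · have hc := Cfsg.Agent.Lib.Helper4.isGenChar_of_isCharacter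
      (PermChar.isCharacter_fixedPointCharacter
        (Cfsg.parabolicGL n F fun i => ν i + i.val - (κ i).val))
    rcases Int.units_eq_one_or (Equiv.Perm.sign κ) with h | h
    · rw [h]
      simpa using hc
    · rw [h]
      have := Cfsg.Agent.Lib.Helper4.isGenChar_neg hc
      simpa using this
  · exact Cfsg.Agent.Lib.Helper4.isGenChar_zero

theorem isGenChar_unipotentCharacterGL (ν : Fin n → ℕ) :
    Cfsg.IsGeneralizedCharacter (GL (Fin n) F) (Cfsg.unipotentCharacterGL n F ν) := by
  rw [unipotentCharacterGL_eq_sum]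
  exact Cfsg.Agent.Lib.Helper4.isGenChar_sum _ _ fun κ _ => isGenChar_term ν κ

theorem classInner_term (ν ν' : Fin n → ℕ) (hν : ∑ i, ν i = n) (hν' : ∑ i, ν' i = n)
    (κ κ' : Equiv.Perm (Fin n)) :
    Cfsg.classInner (term (F := F) ν κ) (term ν' κ')
      = if ∀ i : Fin n, (κ i).val ≤ ν i + i.val then
          (if ∀ j : Fin n, (κ' j).val ≤ ν' j + j.val then
            (((Equiv.Perm.sign κ : ℤ) * (Equiv.Perm.sign κ' : ℤ) *
              (Ncount (fun i => ν i + i.val - (κ i).val) (fun j => ν' j + j.val - (κ' j).val) : ℤ)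
                : ℤ) : ℂ)
          else 0)
        else 0 := by
  unfold term
  by_cases h : ∀ i : Fin n, (κ i).val ≤ ν i + i.val
  · by_cases h' : ∀ j : Fin n, (κ' j).val ≤ ν' j + j.val
    · rw [if_pos h, if_pos h', if_pos h, if_pos h',
        Cfsg.Agent.Lib.Helper4.classInner_smul_left, Cfsg.Agent.Lib.Helper4.classInner_smul_right,
        classInner_flag _ _ (sum_sub_perm ν hν κ h) (sum_sub_perm ν' hν' κ' h')]
      rw [map_intCast (starRingEnd ℂ)]
      push_cast
      ring
    · rw [if_pos h, if_neg h', if_pos h, if_neg h', Cfsg.Agent.Lib.Helper4.classInner_zero_right]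
  · rw [if_neg h, if_neg h, Cfsg.Agent.Lib.Helper4.classInner_zero_left]

theorem strictMono_lam (ν : Fin n → ℕ) (hmono : Monotone ν) :
    StrictMono fun i : Fin n => ν i + i.val := by
  intro i j hij
  have := hmono hij.le
  have h2 : i.val < j.val := hij
  show ν i + i.val < ν j + j.val
  omega

/-- Orthonormality of the alternating sums. -/
theorem classInner_unipotentCharacterGL (ν ν' : Fin n → ℕ) (hmono : Monotone ν)
    (hν : ∑ i, ν i = n) (hmono' : Monotone ν') (hν' : ∑ i, ν' i = n) :
    Cfsg.classInner (Cfsg.unipotentCharacterGL n F ν) (Cfsg.unipotentCharacterGL n F ν')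
      = if ν = ν' then 1 else 0 := by
  rw [unipotentCharacterGL_eq_sum, unipotentCharacterGL_eq_sum,
    Cfsg.Agent.Lib.Helper4.classInner_sum_left]
  simp_rw [Cfsg.Agent.Lib.Helper4.classInner_sum_right, classInner_term ν ν' hν hν']
  have key := jt_orth (fun i : Fin n => ν i + i.val) (fun i : Fin n => ν' i + i.val)
    (strictMono_lam ν hmono) (strictMono_lam ν' hmono')
  have hiff : ((fun i : Fin n => ν i + i.val) = fun i : Fin n => ν' i + i.val) ↔ ν = ν' := by
    constructor
    · intro h
      funext i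
      have : ν i + i.val = ν' i + i.val := congrFun h i
      omega
    · rintro rfl
      rfl
  have hcast : (∑ κ : Equiv.Perm (Fin n), ∑ κ' : Equiv.Perm (Fin n),
      if ∀ i : Fin n, (κ i).val ≤ ν i + i.val then
          (if ∀ j : Fin n, (κ' j).val ≤ ν' j + j.val then
            (((Equiv.Perm.sign κ : ℤ) * (Equiv.Perm.sign κ' : ℤ) *
              (Ncount (fun i => ν i + i.val - (κ i).val) (fun j => ν' j + j.val - (κ' j).val) : ℤ)
                : ℤ) : ℂ)
          else 0)
        else 0)
      = ((∑ κ : Equiv.Perm (Fin n), (if ∀ i, ((κ i : Fin n) : ℕ) ≤ ν i + i.val then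
        ((Equiv.Perm.sign κ : ℤˣ) : ℤ) * ∑ κ' : Equiv.Perm (Fin n),
          (if ∀ j, ((κ' j : Fin n) : ℕ) ≤ ν' j + j.val then
            ((Equiv.Perm.sign κ' : ℤˣ) : ℤ) *
              (Ncount (fun i => ν i + i.val - (κ i : ℕ)) (fun j => ν' j + j.val - (κ' j : ℕ)) : ℤ)
          else 0)
      else 0) : ℤ) : ℂ) := by
    push_cast
    refine Finset.sum_congr rfl fun κ _ => ?_
    by_cases h : ∀ i : Fin n, (κ i).val ≤ ν i + i.val
    · simp only [if_pos h]
      rw [Finset.mul_sum]
      refine Finset.sum_congr rfl fun κ' _ => ?_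
      by_cases h' : ∀ j : Fin n, (κ' j).val ≤ ν' j + j.val
      · simp only [if_pos h']
        push_cast
        ring
      · simp only [if_neg h']
        simp
    · simp only [if_neg h]
      simp
  rw [hcast, key]
  by_cases hνν : ν = ν'
  · rw [if_pos hνν, if_pos (hiff.mpr hνν)]
    simp
  · rw [if_neg hνν, if_neg (fun h => hνν (hiff.mp h))]
    simp

/-- The alternating sum has positive multiplicity in the full flag character. -/
theorem classInner_unipotentCharacterGL_flag (ν : Fin n → ℕ) (hmono : Monotone ν)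
    (hν : ∑ i, ν i = n) :
    ∃ m : ℤ, 0 < m ∧ Cfsg.classInner (Cfsg.unipotentCharacterGL n F ν)
      (Cfsg.fixedPointCharacter (Cfsg.parabolicGL n F fun _ => 1)) = m := by
  have hones : ∑ _i : Fin n, 1 = n := by simp
  refine ⟨_, alt_sum_ones_pos (fun i : Fin n => ν i + i.val) (strictMono_lam ν hmono)
    (by rw [Finset.sum_add_distrib, hν]), ?_⟩
  rw [unipotentCharacterGL_eq_sum, Cfsg.Agent.Lib.Helper4.classInner_sum_left]
  push_cast
  refine Finset.sum_congr rfl fun κ _ => ?_
  unfold term
  by_cases h : ∀ i : Fin n, (κ i).val ≤ ν i + i.val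
  · rw [if_pos h, if_pos h, Cfsg.Agent.Lib.Helper4.classInner_smul_left,
      classInner_flag _ _ (sum_sub_perm ν hν κ h) hones]
  · rw [if_neg h, if_neg h, Cfsg.Agent.Lib.Helper4.classInner_zero_left]

end Cfsg.Agent.Lib.Helper5.UnipChar
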