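import Mathlib
import Cfsg.Agent.Lib.Helper5.UnipChar
import Cfsg.Agent.Lib.Helper5.SLnUni2
import Cfsg.Agent.Lib.Helper1.SLCard

set_option autoImplicit false

/-!
Transfer of the flag permutation characters from `GL_n(F)` to `PSL_n(F)`: the images of the
standard parabolic subgroups in `PSL_n(F)` have the same indices and the same numbers of double
cosets as the parabolic subgroups of `GL_n(F)`.
-/

namespace Cfsg.Agent.Lib.Helper5.SteinbergPSL

open Matrix Cfsg.Agent.Lib.Helper5.GLBruhat Cfsg.Agent.Lib.Helper5.YoungDC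
  Cfsg.Agent.Lib.Helper5.SLnAut

section general
variable {G : Type*} [Group G]

theorem relIndex_eq_index_of_sup [Finite G] (P R : Subgroup G) [R.Normal] (h : P ⊔ R = ⊤) :
    P.relIndex R = P.index := by
  have h1 : (P ⊓ R).relIndex R * R.index = (P ⊓ R).index :=
    Subgroup.relIndex_mul_index inf_le_right
  have h2 : (P ⊓ R).relIndex P * P.index = (P ⊓ R).index :=
    Subgroup.relIndex_mul_index inf_le_left
  rw [Subgroup.inf_relIndex_right] at h1
  rw [Subgroup.inf_relIndex_left] at h2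
  have h3 : R.relIndex P = R.index := by
    rw [← Subgroup.relIndex_sup_right (H := P) (K := R), h, Subgroup.relIndex_top_right]
  rw [h3, ← h1, mul_comm] at h2
  have hR : 0 < R.index := Nat.pos_of_ne_zero Subgroup.index_ne_zero_of_finite
  exact (Nat.eq_of_mul_eq_mul_right hR h2).symm

theorem card_dc_map {S Gb : Type*} [Group S] [Group Gb] (π : S →* Gb)
    (hπ : Function.Surjective π) (Q Q' : Subgroup S) (hker : π.ker ≤ Q') :
    Nat.card (DoubleCoset.Quotient (Q : Set S) Q') =
      Nat.card (DoubleCoset.Quotient ((Q.map π : Subgroup Gb) : Set Gb) (Q'.map π)) := by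
  apply card_dc_eq (Q.map π) (Q'.map π) Q Q' π
  · intro g
    obtain ⟨w, rfl⟩ := hπ g
    exact ⟨w, 1, one_mem _, 1, one_mem _, by simp⟩
  · intro w w'
    constructor
    · rintro ⟨h, hh, k, hk, rfl⟩
      exact ⟨π h, Subgroup.mem_map_of_mem _ hh, π k, Subgroup.mem_map_of_mem _ hk, by simp⟩
    · rintro ⟨_, ⟨h, hh, rfl⟩, _, ⟨k, hk, rfl⟩, he⟩
      have hz : (h * w * k)⁻¹ * w' ∈ π.ker := by
        rw [MonoidHom.mem_ker, map_mul, map_inv, he, map_mul, map_mul]
        group
      refine ⟨h, hh, k * ((h * w * k)⁻¹ * w'), Q'.mul_mem hk (hker hz), ?_⟩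
      group

end general

section GLpart
variable {m : ℕ} {F : Type*} [Field F]

theorem pmat_conj_diagonal {n : ℕ} (σ : Equiv.Perm (Fin n)) (v : Fin n → F) :
    (pmat σ⁻¹ : Matrix (Fin n) (Fin n) F) * Matrix.diagonal v * pmat σ
      = Matrix.diagonal (v ∘ σ) := by
  ext i j
  rw [Matrix.mul_apply, Finset.sum_eq_single (σ j)]
  · rw [Matrix.mul_diagonal, pmat_apply, pmat_apply, if_pos rfl, mul_one]
    by_cases hij : i = j
    · subst hij
      rw [Matrix.diagonal_apply_eq, if_pos (by simp)]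
      simp
    · rw [Matrix.diagonal_apply_ne _ hij, if_neg (by simpa using hij), zero_mul]
  · intro k _ hk
    rw [pmat_apply (F := F) σ, if_neg hk, mul_zero]
  · intro h
    exact absurd (Finset.mem_univ _) h

theorem conj_diagFirst_mem (σ : Equiv.Perm (Fin (m + 1))) (d : Fˣ) :
    (permGL σ : GL (Fin (m + 1)) F)⁻¹ * diagFirst d * permGL σ
      ∈ Cfsg.upperTriangularGL (m + 1) F := by
  show ((((permGL σ : GL (Fin (m + 1)) F)⁻¹ * diagFirst d * permGL σ : GL (Fin (m + 1)) F)) :
    Matrix (Fin (m + 1)) (Fin (m + 1)) F).BlockTriangular id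
  rw [← map_inv, Units.val_mul, Units.val_mul, coe_permGL, coe_permGL]
  show ((pmat σ⁻¹ : Matrix (Fin (m + 1)) (Fin (m + 1)) F) *
    Matrix.diagonal (Function.update (fun _ => (1 : F)) 0 (d : F)) * pmat σ).BlockTriangular id
  rw [pmat_conj_diagonal]
  exact Matrix.blockTriangular_diagonal _

theorem detGL_diagFirst (d : Fˣ) :
    Matrix.GeneralLinearGroup.det (diagFirst d : GL (Fin (m + 1)) F) = d :=
  Units.ext (det_diagFirst d)

theorem exists_toGL_of_det {n : ℕ} (g : GL (Fin n) F) (hg : Matrix.GeneralLinearGroup.det g = 1) :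
    ∃ s : SpecialLinearGroup (Fin n) F, SpecialLinearGroup.toGL s = g := by
  have : g ∈ (SpecialLinearGroup.toGL : SpecialLinearGroup (Fin n) F →* GL (Fin n) F).range := by
    rw [Cfsg.Agent.Lib.Helper1.range_toGL_eq_ker_det]
    exact hg
  exact this

theorem detGL_toGL {n : ℕ} (s : SpecialLinearGroup (Fin n) F) :
    Matrix.GeneralLinearGroup.det (SpecialLinearGroup.toGL s : GL (Fin n) F) = 1 := by
  have : SpecialLinearGroup.toGL s ∈ (Matrix.GeneralLinearGroup.det : GL (Fin n) F →* Fˣ).ker := by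
    rw [← Cfsg.Agent.Lib.Helper1.range_toGL_eq_ker_det]
    exact ⟨s, rfl⟩
  exact this

theorem exists_mul_toGL (a : Fin (m + 1) → ℕ) (g : GL (Fin (m + 1)) F) :
    ∃ h ∈ Cfsg.parabolicGL (m + 1) F a, ∃ s : SpecialLinearGroup (Fin (m + 1)) F,
      g = h * SpecialLinearGroup.toGL s := by
  obtain ⟨s, hs⟩ := exists_toGL_of_det ((diagFirst (Matrix.GeneralLinearGroup.det g))⁻¹ * g) (by
    rw [map_mul, map_inv, detGL_diagFirst, inv_mul_cancel])
  refine ⟨diagFirst (Matrix.GeneralLinearGroup.det g),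
    upperTriangularGL_le_parabolicGL a (diagFirst_mem _), s, ?_⟩
  rw [hs, mul_inv_cancel_left]

theorem dc_inj (a b : Fin (m + 1) → ℕ) (s s' : SpecialLinearGroup (Fin (m + 1)) F)
    (h : ∃ h ∈ Cfsg.parabolicGL (m + 1) F a, ∃ k ∈ Cfsg.parabolicGL (m + 1) F b,
      (SpecialLinearGroup.toGL s' : GL (Fin (m + 1)) F) = h * SpecialLinearGroup.toGL s * k) :
    ∃ h' ∈ (Cfsg.parabolicGL (m + 1) F a).comap SpecialLinearGroup.toGL,
      ∃ k' ∈ (Cfsg.parabolicGL (m + 1) F b).comap SpecialLinearGroup.toGL, s' = h' * s * k' := by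
  obtain ⟨h, hh, k, hk, he⟩ := h
  obtain ⟨σ, p, hp, p', hp', hs⟩ :=
    exists_bruhat_GL (SpecialLinearGroup.toGL s : GL (Fin (m + 1)) F)
  set δ : Fˣ := Matrix.GeneralLinearGroup.det h with hδ
  set t : GL (Fin (m + 1)) F := p * diagFirst δ * p⁻¹ with ht
  have htdet : Matrix.GeneralLinearGroup.det t = δ := by
    rw [ht, map_mul, map_mul, map_inv, detGL_diagFirst, mul_comm, inv_mul_cancel_left]
  have hpa := upperTriangularGL_le_parabolicGL (F := F) a
  have hpb := upperTriangularGL_le_parabolicGL (F := F) b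
  have htmem : t ∈ Cfsg.parabolicGL (m + 1) F a :=
    hpa (Subgroup.mul_mem _ (Subgroup.mul_mem _ hp (diagFirst_mem δ)) (Subgroup.inv_mem _ hp))
  have hconj : (SpecialLinearGroup.toGL s : GL (Fin (m + 1)) F)⁻¹ * t * SpecialLinearGroup.toGL s
      = p'⁻¹ * ((permGL σ)⁻¹ * diagFirst δ * permGL σ) * p' := by
    rw [hs, ht]
    group
  have hcmem : (SpecialLinearGroup.toGL s : GL (Fin (m + 1)) F)⁻¹ * t * SpecialLinearGroup.toGL s
      ∈ Cfsg.parabolicGL (m + 1) F b := by
    rw [hconj]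
    exact hpb (Subgroup.mul_mem _ (Subgroup.mul_mem _ (Subgroup.inv_mem _ hp')
      (conj_diagFirst_mem σ δ)) hp')
  have h1det : Matrix.GeneralLinearGroup.det (h * t⁻¹) = 1 := by
    rw [map_mul, map_inv, htdet, mul_inv_cancel]
  obtain ⟨y, hy⟩ := exists_toGL_of_det _ h1det
  have h2eq : (SpecialLinearGroup.toGL s' : GL (Fin (m + 1)) F) = (h * t⁻¹) * SpecialLinearGroup.toGL s *
      ((SpecialLinearGroup.toGL s : GL (Fin (m + 1)) F)⁻¹ * t * SpecialLinearGroup.toGL s * k) := by
    rw [he]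
    group
  have h2det : Matrix.GeneralLinearGroup.det
      ((SpecialLinearGroup.toGL s : GL (Fin (m + 1)) F)⁻¹ * t * SpecialLinearGroup.toGL s * k) = 1 := by
    have := congrArg Matrix.GeneralLinearGroup.det h2eq
    rw [map_mul, map_mul, h1det, detGL_toGL, detGL_toGL, one_mul, one_mul] at this
    exact this.symm
  obtain ⟨y', hy'⟩ := exists_toGL_of_det _ h2det
  refine ⟨y, ?_, y', ?_, ?_⟩
  · rw [Subgroup.mem_comap, hy]
    exact Subgroup.mul_mem _ hh (Subgroup.inv_mem _ htmem)
  · rw [Subgroup.mem_comap, hy']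
    exact Subgroup.mul_mem _ hcmem hk
  · apply SpecialLinearGroup.toGL_injective
    rw [map_mul, map_mul, hy, hy']
    exact h2eq

/-- The double cosets of parabolic subgroups in `SL_n(F)` and in `GL_n(F)` correspond. -/
theorem card_dc_SL (a b : Fin (m + 1) → ℕ) :
    Nat.card (DoubleCoset.Quotient
        (((Cfsg.parabolicGL (m + 1) F a).comap SpecialLinearGroup.toGL :
          Subgroup (SpecialLinearGroup (Fin (m + 1)) F)) : Set (SpecialLinearGroup (Fin (m + 1)) F))
        ((Cfsg.parabolicGL (m + 1) F b).comap SpecialLinearGroup.toGL))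
      = Nat.card (DoubleCoset.Quotient (Cfsg.parabolicGL (m + 1) F a : Set (GL (Fin (m + 1)) F))
        (Cfsg.parabolicGL (m + 1) F b)) := by
  apply card_dc_eq (Cfsg.parabolicGL (m + 1) F a) (Cfsg.parabolicGL (m + 1) F b) _ _
    (fun s => (SpecialLinearGroup.toGL s : GL (Fin (m + 1)) F))
  · intro g
    obtain ⟨h, hh, s, hg⟩ := exists_mul_toGL a g
    exact ⟨s, h, hh, 1, one_mem _, by rw [mul_one]; exact hg⟩
  · intro s s'
    constructor
    · rintro ⟨h, hh, k, hk, rfl⟩
      exact ⟨SpecialLinearGroup.toGL h, hh, SpecialLinearGroup.toGL k, hk, by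
        rw [map_mul, map_mul]⟩
    · intro h
      exact dc_inj a b s s' h

theorem center_le_comap {n : ℕ} (a : Fin n → ℕ) :
    Subgroup.center (SpecialLinearGroup (Fin n) F)
      ≤ (Cfsg.parabolicGL n F a).comap SpecialLinearGroup.toGL := by
  intro z hz
  rw [Matrix.SpecialLinearGroup.mem_center_iff] at hz
  obtain ⟨r, -, hr⟩ := hz
  rw [Subgroup.mem_comap]
  show ((SpecialLinearGroup.toGL z : GL (Fin n) F) : Matrix (Fin n) (Fin n) F).BlockTriangular
    (Cfsg.compLabel a)
  rw [Matrix.SpecialLinearGroup.coe_GL_coe_matrix, ← hr]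
  exact Matrix.blockTriangular_diagonal _

/-- The image in `PSL_n(F)` of a standard parabolic subgroup. -/
def parBar (n : ℕ) (F : Type*) [Field F] (a : Fin n → ℕ) :
    Subgroup (ProjectiveSpecialLinearGroup (Fin n) F) :=
  ((Cfsg.parabolicGL n F a).comap SpecialLinearGroup.toGL).map piN

theorem card_dc_parBar (a b : Fin (m + 1) → ℕ) :
    Nat.card (DoubleCoset.Quotient
        ((parBar (m + 1) F a : Subgroup (ProjectiveSpecialLinearGroup (Fin (m + 1)) F)) :
          Set (ProjectiveSpecialLinearGroup (Fin (m + 1)) F)) (parBar (m + 1) F b))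
      = Nat.card (DoubleCoset.Quotient (Cfsg.parabolicGL (m + 1) F a : Set (GL (Fin (m + 1)) F))
        (Cfsg.parabolicGL (m + 1) F b)) := by
  rw [← card_dc_SL a b]
  unfold parBar
  rw [← card_dc_map piN piN_surjective _ _ (by rw [ker_piN]; exact center_le_comap b)]

theorem index_parBar [Finite F] (a : Fin (m + 1) → ℕ) :
    (parBar (m + 1) F a).index = (Cfsg.parabolicGL (m + 1) F a).index := by
  unfold parBar
  rw [Subgroup.index_map_eq _ piN_surjective (by rw [ker_piN]; exact center_le_comap a),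
    Subgroup.index_comap]
  have hnorm : (SpecialLinearGroup.toGL :
      SpecialLinearGroup (Fin (m + 1)) F →* GL (Fin (m + 1)) F).range.Normal := by
    rw [Cfsg.Agent.Lib.Helper1.range_toGL_eq_ker_det]
    infer_instance
  have : Finite (GL (Fin (m + 1)) F) := inferInstance
  apply relIndex_eq_index_of_sup
  rw [eq_top_iff]
  intro g _
  obtain ⟨h, hh, s, rfl⟩ := exists_mul_toGL a g
  exact Subgroup.mul_mem _ (Subgroup.mem_sup_left hh) (Subgroup.mem_sup_right ⟨s, rfl⟩)

end GLpart

end Cfsg.Agent.Lib.Helper5.SteinbergPSL
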