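import Mathlib
import Cfsg.Agent.Lib.Helper5.FlagCount3
import Cfsg.Agent.Lib.Helper5.UnipChar

/-!
The degree of the partition-indexed characters of `GL_n(F)`.
-/

namespace Cfsg.Agent.Lib.Helper5.FlagCount

open Finset Polynomial

theorem gs_add (q t s : ℕ) : gs q (t + s) = gs q t + q ^ t * gs q s := by
  unfold gs
  rw [Finset.sum_range_add, Finset.mul_sum]
  congr 1
  exact Finset.sum_congr rfl fun l _ => pow_add q t l

theorem gs_sub (q m t : ℕ) (h : t ≤ m) :
    (gs q m : ℤ) - (gs q t : ℤ) = (q : ℤ) ^ t * (gs q (m - t) : ℤ) := by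
  have := gs_add q t (m - t)
  rw [Nat.add_sub_cancel' h] at this
  rw [this]
  push_cast
  ring

/-- The q-factorial. -/
def Qf (q m : ℕ) : ℕ := ∏ j ∈ range m, gs q (j + 1)

theorem Qf_split (q m : ℕ) : ∀ k : ℕ, k ≤ m →
    Qf q m = Qf q (m - k) * ∏ t ∈ range k, gs q (m - t) := by
  intro k
  induction k with
  | zero => intro _; simp
  | succ k ih =>
    intro hk
    rw [ih (by omega), Finset.prod_range_succ]
    have h1 : m - k = (m - (k + 1)) + 1 := by omega
    have h2 : Qf q (m - k) = Qf q (m - (k + 1)) * gs q (m - k) := by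
      unfold Qf
      conv_lhs => rw [h1, Finset.prod_range_succ]
      rw [← h1]
    rw [h2]
    ring

theorem falling (q m k : ℕ) (h : k ≤ m) :
    (q : ℤ) ^ (k * (k - 1) / 2) * ∏ t ∈ range k, (gs q (m - t) : ℤ)
      = ∏ t ∈ range k, ((gs q m : ℤ) - (gs q t : ℤ)) := by
  have h1 : ∏ t ∈ range k, ((gs q m : ℤ) - (gs q t : ℤ))
      = ∏ t ∈ range k, ((q : ℤ) ^ t * (gs q (m - t) : ℤ)) := by
    refine Finset.prod_congr rfl fun t ht => ?_
    rw [mem_range] at ht
    exact gs_sub q m t (by omega)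
  rw [h1, Finset.prod_mul_distrib, Finset.prod_pow_eq_pow_sum, Finset.sum_range_id]

theorem falling_zero (q m k : ℕ) (h : m < k) :
    ∏ t ∈ range k, ((gs q m : ℤ) - (gs q t : ℤ)) = 0 :=
  Finset.prod_eq_zero (mem_range.mpr h) (sub_self _)

theorem sum_choose_two (n : ℕ) : ∑ k ∈ range n, k * (k - 1) / 2 = n * (n - 1) * (n - 2) / 6 := by
  have h2 : ∀ k : ℕ, k * (k - 1) / 2 * 2 = k * (k - 1) := fun k =>
    Nat.div_mul_cancel (Even.two_dvd (Nat.even_mul_pred_self k))
  have key : ∀ n : ℕ, (∑ k ∈ range n, k * (k - 1) / 2) * 6 = n * (n - 1) * (n - 2) := by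
    intro n
    induction n with
    | zero => simp
    | succ n ih =>
      rw [Finset.sum_range_succ, add_mul, ih]
      have : n * (n - 1) / 2 * 6 = n * (n - 1) * 3 := by
        have := h2 n
        omega
      rw [this]
      rcases n with _ | _ | n
      · simp
      · simp
      · have e1 : n + 1 + 1 - 1 = n + 1 := by omega
        have e2 : n + 1 + 1 - 2 = n := by omega
        have e3 : n + 1 + 1 + 1 - 1 = n + 2 := by omega
        have e4 : n + 1 + 1 + 1 - 2 = n + 1 := by omega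
        rw [e1, e2, e3, e4]
        ring
  rw [← key n, Nat.mul_div_cancel _ (by norm_num : 0 < 6)]

/-- The monic polynomial `∏_{t<k} (X - [t])`. -/
noncomputable def fallPoly (q k : ℕ) : ℤ[X] := ∏ t ∈ range k, (X - C (gs q t : ℤ))

theorem fallPoly_monic (q k : ℕ) : (fallPoly q k).Monic :=
  monic_prod_of_monic _ _ fun t _ => monic_X_sub_C _

theorem fallPoly_natDegree (q k : ℕ) : (fallPoly q k).natDegree = k := by
  unfold fallPoly
  rw [natDegree_prod_of_monic _ _ fun t _ => monic_X_sub_C _]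
  rw [Finset.sum_congr rfl fun t _ => natDegree_X_sub_C (gs q t : ℤ)]
  simp

theorem fallPoly_eval (q k : ℕ) (x : ℤ) :
    (fallPoly q k).eval x = ∏ t ∈ range k, (x - (gs q t : ℤ)) := by
  unfold fallPoly
  rw [eval_prod]
  simp

variable {n : ℕ} {F : Type*} [Field F] [Fintype F]

open Cfsg.Agent.Lib.Helper5.UnipChar Cfsg.Agent.Lib.Helper5.JT

/-- The degree identity over the integers. -/
theorem degree_identity (ν : Fin n → ℕ) (hν : ∑ i, ν i = n) :
    (∑ κ : Equiv.Perm (Fin n), if ∀ i : Fin n, (κ i).val ≤ ν i + i.val then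
        ((Equiv.Perm.sign κ : ℤˣ) : ℤ) *
          ((Cfsg.parabolicGL n F fun i => ν i + i.val - (κ i).val).index : ℤ)
      else 0) * (Fintype.card F : ℤ) ^ (n * (n - 1) * (n - 2) / 6)
        * ∏ i : Fin n, (Qf (Fintype.card F) (ν i + i.val) : ℤ)
      = (Qf (Fintype.card F) n : ℤ) * ∏ i : Fin n, ∏ j ∈ Finset.Ioi i,
          ((gs (Fintype.card F) (ν j + j.val) : ℤ) - (gs (Fintype.card F) (ν i + i.val) : ℤ)) := by
  set q := Fintype.card F with hq
  have hdet := Matrix.det_eval_matrixOfPolynomials_eq_det_vandermonde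
    (fun i : Fin n => (gs q (ν i + i.val) : ℤ)) (fun j : Fin n => fallPoly q j.val)
    (fun j => fallPoly_natDegree q j.val) (fun j => fallPoly_monic q j.val)
  rw [← Matrix.det_vandermonde, hdet, ← Matrix.det_transpose, Matrix.det_apply, Finset.sum_mul,
    Finset.sum_mul, Finset.mul_sum]
  refine Finset.sum_congr rfl fun κ _ => ?_
  have hE : (q : ℤ) ^ (n * (n - 1) * (n - 2) / 6)
      = ∏ i : Fin n, (q : ℤ) ^ ((κ i).val * ((κ i).val - 1) / 2) := by
    rw [Finset.prod_pow_eq_pow_sum, ← sum_choose_two,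
      Equiv.sum_comp κ (fun k : Fin n => k.val * (k.val - 1) / 2),
      Fin.sum_univ_eq_sum_range (fun k => k * (k - 1) / 2) n]
  have hprod : ∏ i : Fin n, (Matrix.of fun (i : Fin n) (j : Fin n) =>
        (fallPoly q j.val).eval ((gs q (ν i + i.val) : ℤ))).transpose (κ i) i
      = ∏ i : Fin n, ∏ t ∈ range (κ i).val,
          ((gs q (ν i + i.val) : ℤ) - (gs q t : ℤ)) := by
    refine Finset.prod_congr rfl fun i _ => ?_
    rw [Matrix.transpose_apply, Matrix.of_apply, fallPoly_eval]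
  rw [hprod, Units.smul_def, smul_eq_mul]
  by_cases h : ∀ i : Fin n, (κ i).val ≤ ν i + i.val
  · rw [if_pos h]
    have hidx := index_parabolicGL (F := F) (fun i => ν i + i.val - (κ i).val)
      (sum_sub_perm ν hν κ h)
    have hsplit : ∏ i : Fin n, (Qf q (ν i + i.val) : ℤ)
        = (∏ i : Fin n, (Qf q (ν i + i.val - (κ i).val) : ℤ)) *
            ∏ i : Fin n, ∏ t ∈ range (κ i).val, (gs q (ν i + i.val - t) : ℤ) := by
      rw [← Finset.prod_mul_distrib]
      refine Finset.prod_congr rfl fun i _ => ?_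
      rw [Qf_split q (ν i + i.val) (κ i).val (h i)]
      push_cast
      rfl
    have hfall : (∏ i : Fin n, (q : ℤ) ^ ((κ i).val * ((κ i).val - 1) / 2)) *
        ∏ i : Fin n, ∏ t ∈ range (κ i).val, (gs q (ν i + i.val - t) : ℤ)
        = ∏ i : Fin n, ∏ t ∈ range (κ i).val,
          ((gs q (ν i + i.val) : ℤ) - (gs q t : ℤ)) := by
      rw [← Finset.prod_mul_distrib]
      exact Finset.prod_congr rfl fun i _ => falling q _ _ (h i)
    have hidx' : ((Cfsg.parabolicGL n F fun i => ν i + i.val - (κ i).val).index : ℤ) *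
        ∏ i : Fin n, (Qf q (ν i + i.val - (κ i).val) : ℤ) = (Qf q n : ℤ) := by
      have : (Cfsg.parabolicGL n F fun i => ν i + i.val - (κ i).val).index *
          ∏ i : Fin n, Qf q (ν i + i.val - (κ i).val) = Qf q n := hidx
      exact_mod_cast this
    rw [hE, hsplit, ← hfall, ← hidx']
    ring
  · rw [if_neg h, zero_mul, zero_mul]
    push Not at h
    obtain ⟨i, hi⟩ := h
    rw [Finset.prod_eq_zero (mem_univ i) (falling_zero q _ _ hi)]
    simp

end Cfsg.Agent.Lib.Helper5.FlagCount
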