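import Mathlib
import Cfsg.Agent.Lib.Helper5.UnipDegree

set_option autoImplicit false

/-!
The degree identity for the partition `(1, …, 1)`: the Steinberg degree `q^(n(n-1)/2)`.
-/

namespace Cfsg.Agent.Lib.Helper5.SteinbergPSL

open Finset Cfsg.Agent.Lib.Helper5.FlagCount

theorem gs_succ_pos (q j : ℕ) : 0 < gs q (j + 1) := by
  unfold gs
  rw [Finset.sum_range_succ']
  simp

theorem Qf_pos (q m : ℕ) : 0 < Qf q m := Finset.prod_pos fun j _ => gs_succ_pos q j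

theorem prod_Iio_fin {n : ℕ} (j : Fin n) (f : ℕ → ℤ) :
    ∏ i ∈ Finset.Iio j, f i.val = ∏ t ∈ range j.val, f t := by
  rw [← Nat.Iio_eq_range, ← Fin.map_valEmbedding_Iio, Finset.prod_map]
  rfl

theorem sum_succ_range (j : ℕ) : ∑ t ∈ range j, (1 + t) = j * (j + 1) / 2 := by
  have h1 : ∑ t ∈ range (j + 1), t = ∑ t ∈ range j, (1 + t) := by
    rw [Finset.sum_range_succ']
    simp [add_comm]
  rw [← h1, Finset.sum_range_id, Nat.add_sub_cancel, mul_comm]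

theorem inner_prod (q j : ℕ) :
    ∏ t ∈ range j, ((gs q (1 + j) : ℤ) - (gs q (1 + t) : ℤ))
      = (q : ℤ) ^ (j * (j + 1) / 2) * (Qf q j : ℤ) := by
  have h1 : ∏ t ∈ range j, ((gs q (1 + j) : ℤ) - (gs q (1 + t) : ℤ))
      = ∏ t ∈ range j, ((q : ℤ) ^ (1 + t) * (gs q (j - 1 - t + 1) : ℤ)) := by
    refine Finset.prod_congr rfl fun t ht => ?_
    rw [mem_range] at ht
    rw [gs_sub q (1 + j) (1 + t) (by omega)]
    congr 3
    omega
  rw [h1, Finset.prod_mul_distrib, Finset.prod_pow_eq_pow_sum, sum_succ_range]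
  congr 1
  unfold Qf
  rw [Nat.cast_prod]
  exact Finset.prod_range_reflect (fun t => (gs q (t + 1) : ℤ)) j

theorem half_succ (j : ℕ) : j * (j + 1) / 2 = j * (j - 1) / 2 + j := by
  rcases j with _ | k
  · rfl
  · have : (k + 1) * (k + 1 + 1) = (k + 1) * (k + 1 - 1) + 2 * (k + 1) := by
      rw [Nat.add_sub_cancel]
      ring
    rw [this, Nat.add_mul_div_left _ _ (by norm_num : 0 < 2)]

theorem sum_half_succ (n : ℕ) :
    ∑ j ∈ range n, j * (j + 1) / 2 = n * (n - 1) * (n - 2) / 6 + n * (n - 1) / 2 := by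
  rw [← sum_choose_two, ← Finset.sum_range_id, ← Finset.sum_add_distrib]
  exact Finset.sum_congr rfl fun j _ => half_succ j

theorem steinberg_degree (q n : ℕ) (hq : 0 < q) (D : ℤ)
    (h : D * (q : ℤ) ^ (n * (n - 1) * (n - 2) / 6) * ∏ i : Fin n, (Qf q (1 + i.val) : ℤ)
      = (Qf q n : ℤ) * ∏ i : Fin n, ∏ j ∈ Finset.Ioi i,
          ((gs q (1 + j.val) : ℤ) - (gs q (1 + i.val) : ℤ))) :
    D = (q : ℤ) ^ (n * (n - 1) / 2) := by
  have hswap : ∏ i : Fin n, ∏ j ∈ Finset.Ioi i,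
      ((gs q (1 + j.val) : ℤ) - (gs q (1 + i.val) : ℤ))
      = ∏ j : Fin n, ∏ i ∈ Finset.Iio j, ((gs q (1 + j.val) : ℤ) - (gs q (1 + i.val) : ℤ)) := by
    apply Finset.prod_comm'
    intro x y
    simp
  have hinner : ∀ j : Fin n, ∏ i ∈ Finset.Iio j, ((gs q (1 + j.val) : ℤ) - (gs q (1 + i.val) : ℤ))
      = (q : ℤ) ^ (j.val * (j.val + 1) / 2) * (Qf q j.val : ℤ) := by
    intro j
    rw [prod_Iio_fin j (fun t => (gs q (1 + j.val) : ℤ) - (gs q (1 + t) : ℤ)), inner_prod]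
  rw [hswap, Finset.prod_congr rfl fun j _ => hinner j, Finset.prod_mul_distrib,
    Finset.prod_pow_eq_pow_sum,
    Fin.sum_univ_eq_sum_range (fun j => j * (j + 1) / 2) n,
    Fin.prod_univ_eq_prod_range (fun j => (Qf q j : ℤ)) n,
    Fin.prod_univ_eq_prod_range (fun i => (Qf q (1 + i) : ℤ)) n, sum_half_succ, pow_add] at h
  have hshift : ∏ i ∈ range n, (Qf q (1 + i) : ℤ) = (Qf q n : ℤ) * ∏ i ∈ range n, (Qf q i : ℤ) := by
    have h1 := Finset.prod_range_succ (fun i => (Qf q i : ℤ)) n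
    have h2 := Finset.prod_range_succ' (fun i => (Qf q i : ℤ)) n
    rw [h1] at h2
    have h0 : (Qf q 0 : ℤ) = 1 := by simp [Qf]
    rw [h0, mul_one] at h2
    rw [mul_comm, h2]
    exact Finset.prod_congr rfl fun i _ => by rw [add_comm]
  rw [hshift] at h
  have hne1 : ((Qf q n : ℤ) * ∏ i ∈ range n, (Qf q i : ℤ)) ≠ 0 := by
    apply mul_ne_zero
    · exact_mod_cast (Qf_pos q n).ne'
    · rw [Finset.prod_ne_zero_iff]
      intro i _
      exact_mod_cast (Qf_pos q i).ne'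
  have hne2 : ((q : ℤ) ^ (n * (n - 1) * (n - 2) / 6)) ≠ 0 := by
    apply pow_ne_zero
    exact_mod_cast hq.ne'
  have h3 : (D * (q : ℤ) ^ (n * (n - 1) * (n - 2) / 6)) *
      ((Qf q n : ℤ) * ∏ i ∈ range n, (Qf q i : ℤ))
      = ((q : ℤ) ^ (n * (n - 1) / 2) * (q : ℤ) ^ (n * (n - 1) * (n - 2) / 6)) *
        ((Qf q n : ℤ) * ∏ i ∈ range n, (Qf q i : ℤ)) := by
    rw [h]
    ring
  exact mul_right_cancel₀ hne2 (mul_right_cancel₀ hne1 h3)

end Cfsg.Agent.Lib.Helper5.SteinbergPSL
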