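import Mathlib
import Cfsg.Agent.Lib.Helper5.SteinbergPSL1
import Cfsg.Agent.Lib.Helper5.SteinbergPSL3

set_option autoImplicit false

/-!
The alternating sum of flag permutation characters on `PSL_n(F)`: it is a generalized character of
norm one, and for the partition `(1, …, 1)` its degree is `q^(n(n-1)/2)`.
-/

namespace Cfsg.Agent.Lib.Helper5.SteinbergPSL

open Matrix Finset Cfsg.Agent.Lib.Helper5.UnipChar Cfsg.Agent.Lib.Helper5.FlagCount

variable {n : ℕ} {F : Type*} [Field F]

/-- One term of the alternating sum on `PSL_n(F)`. -/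
noncomputable def termBar (ν : Fin n → ℕ) (κ : Equiv.Perm (Fin n)) :
    ProjectiveSpecialLinearGroup (Fin n) F → ℂ :=
  if ∀ i : Fin n, (κ i).val ≤ ν i + i.val then
    ((Equiv.Perm.sign κ : ℤ) : ℂ) •
      Cfsg.fixedPointCharacter (parBar n F fun i => ν i + i.val - (κ i).val)
  else 0

/-- The alternating sum on `PSL_n(F)`. -/
noncomputable def stBar (n : ℕ) (F : Type*) [Field F] (ν : Fin n → ℕ) :
    ProjectiveSpecialLinearGroup (Fin n) F → ℂ :=
  ∑ κ : Equiv.Perm (Fin n), termBar ν κ

theorem isGenChar_termBar [Fintype (ProjectiveSpecialLinearGroup (Fin n) F)] (ν : Fin n → ℕ)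
    (κ : Equiv.Perm (Fin n)) :
    Cfsg.IsGeneralizedCharacter (ProjectiveSpecialLinearGroup (Fin n) F) (termBar (F := F) ν κ) := by
  unfold termBar
  split_ifs
  · have hc := Cfsg.Agent.Lib.Helper4.isGenChar_of_isCharacter
      (PermChar.isCharacter_fixedPointCharacter
        (parBar n F fun i => ν i + i.val - (κ i).val))
    rcases Int.units_eq_one_or (Equiv.Perm.sign κ) with h | h
    · rw [h]
      simpa using hc
    · rw [h]
      have := Cfsg.Agent.Lib.Helper4.isGenChar_neg hc
      simpa using this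
  · exact Cfsg.Agent.Lib.Helper4.isGenChar_zero

theorem isGenChar_stBar [Fintype (ProjectiveSpecialLinearGroup (Fin n) F)] (ν : Fin n → ℕ) :
    Cfsg.IsGeneralizedCharacter (ProjectiveSpecialLinearGroup (Fin n) F) (stBar n F ν) :=
  Cfsg.Agent.Lib.Helper4.isGenChar_sum _ _ fun κ _ => isGenChar_termBar ν κ

theorem classInner_termBar {m : ℕ} [Fintype (ProjectiveSpecialLinearGroup (Fin (m + 1)) F)]
    [Fintype (GL (Fin (m + 1)) F)] (ν : Fin (m + 1) → ℕ) (κ κ' : Equiv.Perm (Fin (m + 1))) :
    Cfsg.classInner (termBar (F := F) ν κ) (termBar ν κ')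
      = Cfsg.classInner (term (F := F) ν κ) (term ν κ') := by
  unfold termBar term
  by_cases h : ∀ i : Fin (m + 1), (κ i).val ≤ ν i + i.val
  · by_cases h' : ∀ j : Fin (m + 1), (κ' j).val ≤ ν j + j.val
    · rw [if_pos h, if_pos h', if_pos h, if_pos h',
        Cfsg.Agent.Lib.Helper4.classInner_smul_left, Cfsg.Agent.Lib.Helper4.classInner_smul_right,
        Cfsg.Agent.Lib.Helper4.classInner_smul_left, Cfsg.Agent.Lib.Helper4.classInner_smul_right,
        PermChar.classInner_fixedPointCharacter, PermChar.classInner_fixedPointCharacter,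
        card_dc_parBar]
    · rw [if_pos h, if_neg h', if_pos h, if_neg h', Cfsg.Agent.Lib.Helper4.classInner_zero_right,
        Cfsg.Agent.Lib.Helper4.classInner_zero_right]
  · rw [if_neg h, if_neg h, Cfsg.Agent.Lib.Helper4.classInner_zero_left,
      Cfsg.Agent.Lib.Helper4.classInner_zero_left]

theorem classInner_stBar {m : ℕ} [Fintype (ProjectiveSpecialLinearGroup (Fin (m + 1)) F)]
    [Fintype (GL (Fin (m + 1)) F)] (ν : Fin (m + 1) → ℕ) (hmono : Monotone ν)
    (hν : ∑ i, ν i = m + 1) :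
    Cfsg.classInner (stBar (m + 1) F ν) (stBar (m + 1) F ν) = 1 := by
  have h1 := classInner_unipotentCharacterGL (F := F) ν ν hmono hν hmono hν
  rw [if_pos rfl, unipotentCharacterGL_eq_sum, Cfsg.Agent.Lib.Helper4.classInner_sum_left] at h1
  simp_rw [Cfsg.Agent.Lib.Helper4.classInner_sum_right] at h1
  unfold stBar
  rw [Cfsg.Agent.Lib.Helper4.classInner_sum_left]
  simp_rw [Cfsg.Agent.Lib.Helper4.classInner_sum_right, classInner_termBar]
  exact h1

theorem fpc_one {G : Type*} [Group G] (P : Subgroup G) :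
    Cfsg.fixedPointCharacter P 1 = (P.index : ℂ) := by
  unfold Cfsg.fixedPointCharacter
  rw [MulAction.fixedBy_one_eq_univ]
  congr 1
  exact Nat.card_congr (Equiv.Set.univ _)

theorem stBar_apply_one {m : ℕ} [Finite F] (ν : Fin (m + 1) → ℕ) :
    stBar (m + 1) F ν 1 =
      ((∑ κ : Equiv.Perm (Fin (m + 1)), if ∀ i : Fin (m + 1), (κ i).val ≤ ν i + i.val then
        ((Equiv.Perm.sign κ : ℤˣ) : ℤ) *
          ((Cfsg.parabolicGL (m + 1) F fun i => ν i + i.val - (κ i).val).index : ℤ)
      else 0 : ℤ) : ℂ) := by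
  unfold stBar
  rw [Finset.sum_apply, Int.cast_sum]
  refine Finset.sum_congr rfl fun κ _ => ?_
  unfold termBar
  by_cases h : ∀ i : Fin (m + 1), (κ i).val ≤ ν i + i.val
  · rw [if_pos h, if_pos h, Pi.smul_apply, fpc_one, index_parBar]
    push_cast
    rfl
  · rw [if_neg h, if_neg h]
    simp

/-- The Steinberg degree. -/
theorem stBar_ones_apply_one {m : ℕ} [Fintype F] :
    stBar (m + 1) F (fun _ => 1) 1 = ((Fintype.card F ^ ((m + 1) * m / 2) : ℕ) : ℂ) := by
  rw [stBar_apply_one]
  have key := degree_identity (F := F) (fun _ : Fin (m + 1) => 1) (by simp)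
  have := steinberg_degree (Fintype.card F) (m + 1) Fintype.card_pos _ key
  rw [this]
  push_cast
  rfl

end Cfsg.Agent.Lib.Helper5.SteinbergPSL
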