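import Mathlib
import Cfsg.Agent.Lib.Helper6.SubF_Crit
import Cfsg.Agent.Lib.Helper9.GReal5
import Cfsg.Agent.Lib.Helper4.EqDecD

set_option autoImplicit false
set_option linter.style.haveILetI false

/-!
PK-BLK of the S5965 board: an element of order `r` (with `r ∤ q - 1`) conjugate into the
subfield subgroup of `F₀` has a fixed space of codimension at least `ord_r(q₀)`.
-/

namespace Cfsg.Agent.Lib.Helper6.SubF

open Module Polynomial Cfsg.Agent.Lib.Helper9.H9GReal Cfsg.Agent.Lib.Helper4.EqDec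
open scoped Matrix

section blk
variable {F : Type*} [Field F]

theorem blk_fixE_eq_eigenspace {V : Type*} [AddCommGroup V] [Module F V] (y : V →ₗ[F] V) :
    LinearMap.ker (aeval y (X - 1 : F[X])) = Module.End.eigenspace y 1 := by
  rw [Module.End.eigenspace_def, one_smul, map_sub, aeval_X, map_one]

theorem blk_toLin'_pow {m : ℕ} (M : Matrix (Fin m) (Fin m) F) (k : ℕ) :
    (Matrix.toLin' M) ^ k = Matrix.toLin' (M ^ k) := by
  induction k with
  | zero =>
    rw [pow_zero, pow_zero, Matrix.toLin'_one]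
    rfl
  | succ k ih => rw [pow_succ, pow_succ, Matrix.toLin'_mul, ih, Module.End.mul_eq_comp]

theorem blk_nrm_toLin' {m : ℕ} (r : ℕ) (M : Matrix (Fin m) (Fin m) F) :
    nrm r (Matrix.toLin' M) = Matrix.toLin' (∑ k ∈ Finset.range r, M ^ k) := by
  unfold nrm
  rw [map_sum]
  exact Finset.sum_congr rfl fun k _ => blk_toLin'_pow M k

/-- `r`-th roots of unity are trivial when `r ∤ |F| - 1`. -/
theorem blk_eq_one_of_pow_eq_one [Fintype F] (r : ℕ) (hr : r.Prime)
    (hnd : ¬ r ∣ Fintype.card F - 1) (u : F) (hu : u ^ r = 1) : u = 1 := by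
  classical
  have hu0 : u ≠ 0 := by
    rintro rfl
    rw [zero_pow hr.ne_zero] at hu
    exact zero_ne_one hu
  have hcop : (Nat.card Fˣ).Coprime r := by
    rw [Nat.card_eq_fintype_card, Fintype.card_units, Nat.coprime_comm]
    exact (Nat.Prime.coprime_iff_not_dvd hr).mpr hnd
  have h1 : (powCoprime hcop) (Units.mk0 u hu0) = (powCoprime hcop) 1 := by
    rw [powCoprime_apply, powCoprime_apply, one_pow]
    apply Units.ext
    rw [Units.val_pow_eq_pow_val, Units.val_mk0, hu, Units.val_one]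
  have h2 := (powCoprime hcop).injective h1
  have := congrArg Units.val h2
  rwa [Units.val_mk0, Units.val_one] at this

end blk

/-- PK-BLK -/
theorem order_le_of_conj_mem {F : Type*} [Field F] [Fintype F] {p : ℕ} [Fact p.Prime] [CharP F p]
    {n : ℕ} (F₀ : Subfield F) (q₀ : ℕ) (hF₀ : Nat.card ↥F₀ = q₀) (r : ℕ) [Fact r.Prime]
    (hrp : r ≠ p) (hr1 : ¬ r ∣ Fintype.card F - 1)
    (x P : Matrix.SpecialLinearGroup (Fin n) F)
    (hx : ((x ^ r : Matrix.SpecialLinearGroup (Fin n) F) : Matrix (Fin n) (Fin n) F) = 1)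
    (hx1 : (x : Matrix (Fin n) (Fin n) F) ≠ 1)
    (hP : P⁻¹ * x * P ∈ (Cfsg.Geo.subfieldSubgroup F₀ (1 : GL (Fin n) F)).comap
      (Matrix.SpecialLinearGroup.toGL :
        Matrix.SpecialLinearGroup (Fin n) F →* GL (Fin n) F)) :
    orderOf ((q₀ : ℕ) : ZMod r) + finrank F (LinearMap.ker
      (aeval (Matrix.toLin' (x : Matrix (Fin n) (Fin n) F)) (X - 1 : F[X]))) ≤ n := by
  classical
  have hr : r.Prime := Fact.out
  letI : Fintype ↥F₀ := Fintype.ofFinite _
  have : CharP ↥F₀ p := Subfield.charP F₀ p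
  -- `n ≥ 1`
  have hn : 0 < n := by
    rcases Nat.eq_zero_or_pos n with rfl | h
    · exact absurd (Subsingleton.elim _ _) hx1
    · exact h
  set y : Matrix.SpecialLinearGroup (Fin n) F := P⁻¹ * x * P with hy
  have hxr : x ^ r = 1 := Subtype.ext hx
  have hyr : y ^ r = 1 := by
    have : y = P⁻¹ * x * (P⁻¹)⁻¹ := by rw [hy, inv_inv]
    rw [this, conj_pow, hxr, mul_one, mul_inv_cancel]
  have hyval : (y : Matrix (Fin n) (Fin n) F)
      = (P⁻¹ : Matrix.SpecialLinearGroup (Fin n) F).val * x.val * P.val := by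
    rw [hy]
    rfl
  have hPP : P.val * (P⁻¹ : Matrix.SpecialLinearGroup (Fin n) F).val = 1 := by
    have := congrArg Subtype.val (mul_inv_cancel P)
    exact this
  have hPP' : (P⁻¹ : Matrix.SpecialLinearGroup (Fin n) F).val * P.val = 1 := by
    have := congrArg Subtype.val (inv_mul_cancel P)
    exact this
  have hy1 : (y : Matrix (Fin n) (Fin n) F) ≠ 1 := by
    intro h
    apply hx1
    have h3 : x.val = P.val * y.val * (P⁻¹ : Matrix.SpecialLinearGroup (Fin n) F).val := by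
      rw [hyval]
      simp only [Matrix.mul_assoc]
      rw [hPP, Matrix.mul_one, ← Matrix.mul_assoc, hPP, Matrix.one_mul]
    rw [h3, h, Matrix.mul_one, hPP]
  -- entries
  rw [Subgroup.mem_comap, mem_subfieldSubgroup_one_iff] at hP
  obtain ⟨c, hc, hent⟩ := hP
  choose a ha hya using hent
  have hya' : ∀ i j, (y : Matrix (Fin n) (Fin n) F) i j = c * a i j := fun i j => hya i j
  let A₀ : Matrix (Fin n) (Fin n) ↥F₀ := fun i j => ⟨a i j, ha i j⟩
  have hyA : (y : Matrix (Fin n) (Fin n) F) = c • A₀.map F₀.subtype := by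
    ext i j
    rw [hya', Matrix.smul_apply, Matrix.map_apply, smul_eq_mul]
    rfl
  have hyrval : (y : Matrix (Fin n) (Fin n) F) ^ r = 1 := by
    have := congrArg Subtype.val hyr
    rwa [Matrix.SpecialLinearGroup.coe_pow] at this
  have hmapPow : ∀ (M : Matrix (Fin n) (Fin n) ↥F₀) (k : ℕ),
      (M ^ k).map F₀.subtype = (M.map F₀.subtype) ^ k := by
    intro M k
    exact map_pow (F₀.subtype.mapMatrix (m := Fin n)) M k
  -- `c ^ r ∈ F₀`
  have hcr : c ^ r * ((A₀ ^ r) ⟨0, hn⟩ ⟨0, hn⟩ : F) = 1 := by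
    have h3 := hyrval
    rw [hyA, _root_.smul_pow, ← hmapPow] at h3
    have := congrFun (congrFun h3 ⟨0, hn⟩) ⟨0, hn⟩
    rw [Matrix.smul_apply, Matrix.map_apply, smul_eq_mul, Matrix.one_apply_eq] at this
    exact this
  have hcrmem : c ^ r ∈ F₀ := by
    have h4 : c ^ r = ((A₀ ^ r) ⟨0, hn⟩ ⟨0, hn⟩ : F)⁻¹ := eq_inv_of_mul_eq_one_left hcr
    rw [h4]
    exact F₀.inv_mem (SetLike.coe_mem _)
  -- `r ∤ q₀ - 1`
  have hnd₀ : ¬ r ∣ Fintype.card ↥F₀ - 1 := by
    intro hdvd
    apply hr1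
    have h5 : Fintype.card (↥F₀)ˣ ∣ Fintype.card Fˣ := by
      have := Subgroup.card_dvd_of_injective (Units.map (F₀.subtype : ↥F₀ →* F))
        (Units.map_injective F₀.subtype_injective)
      rwa [Nat.card_eq_fintype_card, Nat.card_eq_fintype_card] at this
    rw [Fintype.card_units, Fintype.card_units] at h5
    exact hdvd.trans h5
  obtain ⟨d, hd⟩ := Cfsg.Agent.Lib.Helper9.H9Elus.exists_pow_eq_of_not_dvd (F := ↥F₀) r hr hnd₀
    ⟨c ^ r, hcrmem⟩
  have hd' : (d : F) ^ r = c ^ r := by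
    have := congrArg Subtype.val hd
    rwa [SubmonoidClass.coe_pow] at this
  have hd0 : (d : F) ≠ 0 := by
    intro h0
    rw [h0, zero_pow hr.ne_zero] at hd'
    exact pow_ne_zero r hc hd'.symm
  have hcd : c = (d : F) := by
    have h6 : (c / (d : F)) ^ r = 1 := by
      rw [div_pow, hd', div_self (pow_ne_zero r hc)]
    have := blk_eq_one_of_pow_eq_one r hr hr1 _ h6
    rwa [div_eq_one_iff_eq hd0] at this
  have hcmem : c ∈ F₀ := by
    rw [hcd]
    exact SetLike.coe_mem d
  -- the conjugate has entries in `F₀`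
  let Y₀ : Matrix (Fin n) (Fin n) ↥F₀ := fun i j => ⟨(y : Matrix (Fin n) (Fin n) F) i j, by
    rw [hya']
    exact F₀.mul_mem hcmem (ha i j)⟩
  have hyY : (y : Matrix (Fin n) (Fin n) F) = Y₀.map F₀.subtype := by
    ext i j
    rfl
  have hmapinj : Function.Injective
      (fun M : Matrix (Fin n) (Fin n) ↥F₀ => M.map F₀.subtype) := by
    intro M N h
    ext i j
    have := congrFun (congrFun h i) j
    exact this
  have hY₀r : Y₀ ^ r = 1 := by
    apply hmapinj
    show (Y₀ ^ r).map F₀.subtype = (1 : Matrix (Fin n) (Fin n) ↥F₀).map F₀.subtype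
    rw [hmapPow, ← hyY, hyrval]
    ext i j
    rw [Matrix.map_apply, Matrix.one_apply, Matrix.one_apply]
    split_ifs <;> rfl
  have hY₀1 : Y₀ ≠ 1 := by
    intro h
    apply hy1
    rw [hyY, h]
    ext i j
    rw [Matrix.map_apply, Matrix.one_apply, Matrix.one_apply]
    split_ifs <;> rfl
  -- over `F₀`
  set y₀ : (Fin n → ↥F₀) →ₗ[↥F₀] (Fin n → ↥F₀) := Matrix.toLin' Y₀ with hy₀
  have hy₀r : y₀ ^ r = 1 := by
    rw [hy₀, blk_toLin'_pow, hY₀r, Matrix.toLin'_one]
    rfl
  have hsplit₀ := finrank_fixE_add_cycK (F := ↥F₀) (p := p) r hrp y₀ hy₀r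
  have hdvd₀ := order_dvd_finrank_cycK (F := ↥F₀) (p := p) r hrp y₀ hy₀r
  rw [Module.finrank_fintype_fun_eq_card, Fintype.card_fin] at hsplit₀
  have hcardF₀ : Fintype.card ↥F₀ = q₀ := by rw [← Nat.card_eq_fintype_card, hF₀]
  rw [hcardF₀] at hdvd₀
  have hcyc_pos : 0 < finrank ↥F₀ ↥(cycK r y₀) := by
    by_contra hzero
    have hz : finrank ↥F₀ ↥(cycK r y₀) = 0 := by omega
    rw [hz, add_zero] at hsplit₀
    have htop : fixE y₀ = ⊤ := by
      apply Submodule.eq_top_of_finrank_eq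
      rw [hsplit₀, Module.finrank_fintype_fun_eq_card, Fintype.card_fin]
    apply hY₀1
    apply Matrix.toLin'.injective
    rw [Matrix.toLin'_one]
    apply LinearMap.ext
    intro v
    have hv : v ∈ fixE y₀ := by rw [htop]; trivial
    exact (mem_fixE y₀ v).1 hv
  have hord_le : orderOf ((q₀ : ℕ) : ZMod r) ≤ finrank ↥F₀ ↥(cycK r y₀) :=
    Nat.le_of_dvd hcyc_pos hdvd₀
  -- a basis of the cyclotomic kernel over `F₀`, and a left inverse
  set d₀ := finrank ↥F₀ ↥(cycK r y₀) with hd₀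
  let bW := Module.finBasis ↥F₀ ↥(cycK r y₀)
  let β : (Fin d₀ → ↥F₀) →ₗ[↥F₀] (Fin n → ↥F₀) :=
    (cycK r y₀).subtype ∘ₗ bW.equivFun.symm.toLinearMap
  have hβinj : LinearMap.ker β = ⊥ := by
    rw [LinearMap.ker_eq_bot]
    exact (Submodule.injective_subtype _).comp bW.equivFun.symm.injective
  obtain ⟨g, hg⟩ := β.exists_leftInverse_of_injective hβinj
  let B : Matrix (Fin n) (Fin d₀) ↥F₀ := LinearMap.toMatrix' β
  let L : Matrix (Fin d₀) (Fin n) ↥F₀ := LinearMap.toMatrix' g
  have hLB : L * B = 1 := by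
    rw [← LinearMap.toMatrix'_comp, hg, LinearMap.toMatrix'_id]
  have hNB : (∑ k ∈ Finset.range r, Y₀ ^ k) * B = 0 := by
    apply Matrix.toLin'.injective
    rw [Matrix.toLin'_mul, ← blk_nrm_toLin', Matrix.toLin'_toMatrix', map_zero]
    apply LinearMap.ext
    intro v
    rw [LinearMap.comp_apply, LinearMap.zero_apply]
    have hv : β v ∈ cycK r y₀ := by
      show ((cycK r y₀).subtype (bW.equivFun.symm v)) ∈ cycK r y₀
      exact Submodule.coe_mem _
    exact (mem_cycK_iff y₀ r (β v)).1 hv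
  -- move to `F`
  let B' : Matrix (Fin n) (Fin d₀) F := B.map F₀.subtype
  let L' : Matrix (Fin d₀) (Fin n) F := L.map F₀.subtype
  have hLB' : L' * B' = 1 := by
    show L.map F₀.subtype * B.map F₀.subtype = 1
    rw [← Matrix.map_mul, hLB]
    ext i j
    rw [Matrix.map_apply, Matrix.one_apply, Matrix.one_apply]
    split_ifs <;> rfl
  have hNB' : (∑ k ∈ Finset.range r, (y : Matrix (Fin n) (Fin n) F) ^ k) * B' = 0 := by
    have h7 : (∑ k ∈ Finset.range r, (y : Matrix (Fin n) (Fin n) F) ^ k)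
        = (∑ k ∈ Finset.range r, Y₀ ^ k).map F₀.subtype := by
      rw [hyY]
      have := map_sum (F₀.subtype.mapMatrix (m := Fin n)) (fun k => Y₀ ^ k) (Finset.range r)
      rw [RingHom.mapMatrix_apply] at this
      rw [this]
      exact Finset.sum_congr rfl fun k _ => (hmapPow Y₀ k).symm
    show _ * B.map F₀.subtype = 0
    rw [h7, ← Matrix.map_mul, hNB]
    ext i j
    rw [Matrix.map_apply]
    rfl
  set y' : (Fin n → F) →ₗ[F] (Fin n → F) := Matrix.toLin' (y : Matrix (Fin n) (Fin n) F) with hy'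
  have hy'r : y' ^ r = 1 := by
    rw [hy', blk_toLin'_pow, hyrval, Matrix.toLin'_one]
    rfl
  have hβ'inj : Function.Injective (Matrix.toLin' B') := by
    intro u v huv
    have := congrArg (Matrix.toLin' L') huv
    rwa [← LinearMap.comp_apply, ← LinearMap.comp_apply, ← Matrix.toLin'_mul, hLB',
      Matrix.toLin'_one] at this
  have hrange : LinearMap.range (Matrix.toLin' B') ≤ cycK r y' := by
    rintro _ ⟨u, rfl⟩
    rw [mem_cycK_iff, hy', blk_nrm_toLin', ← LinearMap.comp_apply, ← Matrix.toLin'_mul, hNB',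
      map_zero, LinearMap.zero_apply]
  have hd₀le : d₀ ≤ finrank F ↥(cycK r y') := by
    have h8 := LinearMap.finrank_range_of_inj hβ'inj
    rw [Module.finrank_fintype_fun_eq_card, Fintype.card_fin] at h8
    rw [← h8]
    exact Submodule.finrank_mono hrange
  have hsplit := finrank_fixE_add_cycK (F := F) (p := p) r hrp y' hy'r
  rw [Module.finrank_fintype_fun_eq_card, Fintype.card_fin] at hsplit
  -- back to `x`
  have hconj : finrank F ↥(LinearMap.ker (aeval (Matrix.toLin' (x : Matrix (Fin n) (Fin n) F))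
      (X - 1 : F[X]))) = finrank F ↥(fixE y') := by
    rw [blk_fixE_eq_eigenspace, fixE, blk_fixE_eq_eigenspace, hy', hyval]
    exact (finrank_eigenspace_conj x.val P.val _ hPP hPP' 1).symm
  rw [hconj]
  omega

end Cfsg.Agent.Lib.Helper6.SubF
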