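import Mathlib
import Cfsg.Agent.Lib.Helper7.SubfDefs
import Cfsg.Agent.Lib.Helper1.Subf_X

set_option autoImplicit false

namespace Cfsg.Agent.Lib.Helper7.Subf

open Matrix

variable {F : Type*} [Field F] {n : ℕ}

/-- walk step 1: change the functional -/
theorem a2_walk_one (F₀ : Subfield F) (M : Subgroup (GL (Fin n) F)) (hT : HasRatTv F₀ M)
    (a : F) (v φ φ' : Fin n → F) (hφ : Rat F₀ φ) (hφ' : Rat F₀ φ')
    (hinc : φ ⬝ᵥ v = 0) (hinc' : φ' ⬝ᵥ v = 0) (hind : Indep φ φ') (h : Mm M (tvm a v φ)) :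
    Mm M (tvm a v φ') := by
  obtain ⟨v', hv', h1, h2⟩ := exists_dual_of_indep F₀ φ φ' hφ hφ' hind
  have hM2 : Mm M (tvm 1 v' φ') := hT v' φ' hv' hφ' h2
  have := Mm.comm_tvm (M := M) (a := a) (b := 1) hinc h2 hinc' h hM2
  rwa [h1, mul_one, mul_one] at this

/-- walk step 2: change the centre -/
theorem a2_walk_two (F₀ : Subfield F) (M : Subgroup (GL (Fin n) F)) (hT : HasRatTv F₀ M)
    (a : F) (v v' φ : Fin n → F) (hv : Rat F₀ v) (hv' : Rat F₀ v')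
    (hinc : φ ⬝ᵥ v = 0) (hinc' : φ ⬝ᵥ v' = 0) (hind : Indep v v') (h : Mm M (tvm a v φ)) :
    Mm M (tvm a v' φ) := by
  obtain ⟨φ', hφ', h1, h2⟩ := exists_dual_of_indep F₀ v v' hv hv' hind
  rw [dotProduct_comm] at h1 h2
  have hM1 : Mm M (tvm 1 v' φ') := hT v' φ' hv' hφ' h2
  have := Mm.comm_tvm (M := M) (a := 1) (b := a) h2 hinc hinc' hM1 h
  rwa [h1, mul_one, one_mul] at this

theorem mem_AA_of_mm (hn : 4 ≤ n) (F₀ : Subfield F) (M : Subgroup (GL (Fin n) F)) (hT : HasRatTv F₀ M)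
    (a : F) (v φ : Fin n → F) (hv : Rat F₀ v) (hφ : Rat F₀ φ) (hv0 : v ≠ 0) (hφ0 : φ ≠ 0)
    (hinc : φ ⬝ᵥ v = 0) (h : Mm M (tvm a v φ)) : a ∈ AA F₀ M := by
  intro v₂ φ₂ hv₂ hφ₂ hinc₂
  by_cases hv₂0 : v₂ = 0
  · have : tvm a v₂ φ₂ = 1 := by
      rw [hv₂0, tvm]
      ext i j
      simp
    rw [this]; exact Mm.one M
  by_cases hφ₂0 : φ₂ = 0
  · have : tvm a v₂ φ₂ = 1 := by
      rw [hφ₂0, tvm]
      ext i j
      simp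
    rw [this]; exact Mm.one M
  obtain ⟨φ', hφ', k1, k2, i1, i2⟩ :=
    exists_rat_kill_two_avoid hn F₀ v v₂ φ φ₂ hv hv₂ hφ hφ₂ hφ0 hφ₂0
  obtain ⟨v'', hv'', l1, -, j1, j2⟩ :=
    exists_rat_kill_two_avoid hn F₀ φ' φ' v v₂ hφ' hφ' hv hv₂ hv0 hv₂0
  rw [dotProduct_comm] at l1
  have s1 : Mm M (tvm a v φ') := a2_walk_one F₀ M hT a v φ φ' hφ hφ' hinc k1 i1 h
  have s2 : Mm M (tvm a v'' φ') := a2_walk_two F₀ M hT a v v'' φ' hv hv'' k1 l1 j1 s1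
  have s3 : Mm M (tvm a v₂ φ') := a2_walk_two F₀ M hT a v'' v₂ φ' hv'' hv₂ l1 k2 j2 s2
  exact a2_walk_one F₀ M hT a v₂ φ' φ₂ hφ' hφ₂ k2 hinc₂ i2 s3

end Cfsg.Agent.Lib.Helper7.Subf
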