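import Mathlib
import Cfsg.Prelude.Def_GeometricClasses
import Cfsg.Agent.Lib.Helper7.SubfDefs
import Cfsg.Agent.Lib.Helper1.SLn

set_option autoImplicit false

namespace Cfsg.Agent.Lib.Helper7.Subf

open Matrix

variable {F : Type*} [Field F] {n : ℕ}

theorem sl_le_of_AA_univ (hn : 2 ≤ n) (F₀ : Subfield F) (M : Subgroup (GL (Fin n) F))
    (h : AA F₀ M = Set.univ) : Cfsg.Geo.specialLinear (Fin n) F ≤ M := by
  classical
  have : Nontrivial (Fin n) := Fin.nontrivial_iff_two_le.2 hn
  set M' : Subgroup (Matrix.SpecialLinearGroup (Fin n) F) :=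
    M.comap (Matrix.SpecialLinearGroup.toGL) with hM'
  have hM'top : M' = ⊤ := by
    apply Cfsg.Agent.Lib.Helper1.eq_top_of_transvection_mem
    intro i j hij c
    rw [hM', Subgroup.mem_comap]
    have hc : c ∈ AA F₀ M := by rw [h]; trivial
    have hinc : (Pi.single j 1 : Fin n → F) ⬝ᵥ (Pi.single i 1 : Fin n → F) = 0 := by
      rw [single_dotProduct, one_mul, Pi.single_eq_of_ne (Ne.symm hij)]
    obtain ⟨g, hg, hgm⟩ := hc (Pi.single i 1) (Pi.single j 1) (Rat.single F₀ i F₀.one_mem)
      (Rat.single F₀ j F₀.one_mem) hinc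
    have : Matrix.SpecialLinearGroup.toGL (Matrix.SpecialLinearGroup.transvection hij c) = g := by
      apply Units.ext
      rw [hgm]
      show (Matrix.SpecialLinearGroup.transvection hij c : Matrix (Fin n) (Fin n) F) = _
      rw [Matrix.SpecialLinearGroup.transvection_coe, tvm]
      congr 1
      ext k l
      simp only [Matrix.single_apply, Matrix.smul_apply, vecMulVec_apply, Pi.single_apply, smul_eq_mul]
      by_cases hk : i = k <;> by_cases hl : j = l <;> simp [hk, hl, eq_comm]
    rw [this]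
    exact hg
  intro g hg
  rw [Cfsg.Geo.specialLinear, MonoidHom.mem_ker] at hg
  have hdet : (g : Matrix (Fin n) (Fin n) F).det = 1 := by
    have := congrArg Units.val hg
    simpa using this
  obtain ⟨gs, hgs⟩ : ∃ gs : Matrix.SpecialLinearGroup (Fin n) F,
      Matrix.SpecialLinearGroup.toGL gs = g := ⟨⟨g, hdet⟩, Units.ext rfl⟩
  have hmem : gs ∈ M' := by rw [hM'top]; trivial
  rw [← hgs]
  exact hmem

end Cfsg.Agent.Lib.Helper7.Subf
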