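import Mathlib
import Cfsg.Prelude
import Cfsg.Agent.Lib.Helper5.SylO6a
import Cfsg.Agent.Lib.Helper5.ListGrp

set_option autoImplicit false
set_option maxRecDepth 100000

/-! A subgroup of order 128 of the orthogonal group of minus type of degree 6 over the field with 2
elements that is isomorphic to a subgroup of order 128 of the symmetric group of degree 8. -/

namespace Cfsg.Agent.Lib.Helper5.SylO6

open Matrix

/-- the index type of the matrices -/
abbrev I6 : Type := (Fin 2 ⊕ Fin 2) ⊕ Fin 2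

/-- the numbering of the coordinates -/
def e6 : I6 ≃ Fin 6 := (Equiv.sumCongr finSumFinEquiv (Equiv.refl (Fin 2))).trans finSumFinEquiv

/-- the orthogonal group -/
abbrev Y0 : Type := ↥(Cfsg.isometryGroup (ZMod 2) (Cfsg.quadFormMinus 2 (ZMod 2) 1 1))

/-- the quadratic form in the new coordinates -/
def Q6 (w : Fin 6 → ZMod 2) : ZMod 2 :=
  w 0 * w 2 + w 1 * w 3 + (w 4 ^ 2 + 1 * w 4 * w 5 + 1 * w 5 ^ 2)

theorem quadFormMinus_eq (u : I6 → ZMod 2) :
    Cfsg.quadFormMinus 2 (ZMod 2) 1 1 u = Q6 (u ∘ e6.symm) := by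
  unfold Cfsg.quadFormMinus Q6
  rw [Fin.sum_univ_two]
  rfl

theorem Q6_gen : ∀ s, s < 3 → ∀ w : Fin 6 → ZMod 2,
    Q6 ((gkB.getD s 1).2 *ᵥ w) = Q6 w := by decide +kernel

theorem sq_gen : ∀ s, s < 3 → gkB.getD s 1 * gkB.getD s 1 = 1 := by decide +kernel

/-- the permutation attached to an involutive map -/
def permOf (f : Function.End (Fin 8)) (h : f * f = 1) : Equiv.Perm (Fin 8) :=
  ⟨f, f, fun x => congrFun h x, fun x => congrFun h x⟩

theorem submatrix_mul_self {M : Matrix (Fin 6) (Fin 6) (ZMod 2)} (h : M * M = 1) :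
    M.submatrix e6 e6 * M.submatrix e6 e6 = 1 := by
  rw [Matrix.submatrix_mul_equiv, h, Matrix.submatrix_one_equiv]

/-- the invertible matrix attached to an involutive matrix -/
def glOf (M : Matrix (Fin 6) (Fin 6) (ZMod 2)) (h : M * M = 1) : GL I6 (ZMod 2) :=
  ⟨M.submatrix e6 e6, M.submatrix e6 e6, submatrix_mul_self h, submatrix_mul_self h⟩

theorem glOf_mem (M : Matrix (Fin 6) (Fin 6) (ZMod 2)) (h : M * M = 1)
    (hQ : ∀ w : Fin 6 → ZMod 2, Q6 (M *ᵥ w) = Q6 w) :
    glOf M h ∈ Cfsg.isometryGroup (ZMod 2) (Cfsg.quadFormMinus 2 (ZMod 2) 1 1) := by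
  intro u _
  show Cfsg.quadFormMinus 2 (ZMod 2) 1 1 (M.submatrix e6 e6 *ᵥ u) = Cfsg.quadFormMinus 2 (ZMod 2) 1 1 u
  rw [quadFormMinus_eq, quadFormMinus_eq, Matrix.submatrix_mulVec_equiv]
  have h1 : ((M *ᵥ (u ∘ ⇑e6.symm)) ∘ ⇑e6) ∘ ⇑e6.symm = M *ᵥ (u ∘ ⇑e6.symm) := by
    ext i
    simp
  rw [h1]
  exact hQ _

/-- the group in which the graph lives -/
abbrev ZB : Type := Equiv.Perm (Fin 8) × Y0

/-- the element attached to an involutive pair -/
def mkZ (k : KB) (h : k * k = 1) (hQ : ∀ w : Fin 6 → ZMod 2, Q6 (k.2 *ᵥ w) = Q6 w) : ZB :=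
  (permOf k.1 (congrArg Prod.fst h), ⟨glOf k.2 (congrArg Prod.snd h), glOf_mem _ _ hQ⟩)

/-- the map of a permutation -/
def kap1 : Equiv.Perm (Fin 8) →* Function.End (Fin 8) where
  toFun σ := ⇑σ
  map_one' := rfl
  map_mul' _ _ := rfl

/-- the matrix of an element of the orthogonal group in the new coordinates -/
def kap2 : Y0 →* Matrix (Fin 6) (Fin 6) (ZMod 2) where
  toFun y := ((y : GL I6 (ZMod 2)) : Matrix I6 I6 (ZMod 2)).submatrix e6.symm e6.symm
  map_one' := by
    show (1 : Matrix I6 I6 (ZMod 2)).submatrix e6.symm e6.symm = 1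
    exact Matrix.submatrix_one_equiv _
  map_mul' y y' := by
    show (((y : GL I6 (ZMod 2)) : Matrix I6 I6 (ZMod 2)) *
      ((y' : GL I6 (ZMod 2)) : Matrix I6 I6 (ZMod 2))).submatrix e6.symm e6.symm = _
    exact (Matrix.submatrix_mul_equiv _ _ _ _ _).symm

/-- the pair of an element -/
def kapB : ZB →* KB := kap1.prodMap kap2

theorem kap1_injective : Function.Injective kap1 := by
  intro σ τ h
  exact Equiv.ext (congrFun h)

theorem kap2_injective : Function.Injective kap2 := by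
  intro y y' h
  apply Subtype.ext
  apply Units.ext
  have h1 : (((y : GL I6 (ZMod 2)) : Matrix I6 I6 (ZMod 2)).submatrix e6.symm e6.symm).submatrix e6 e6
      = (((y' : GL I6 (ZMod 2)) : Matrix I6 I6 (ZMod 2)).submatrix e6.symm e6.symm).submatrix e6 e6 :=
    congrArg (fun M : Matrix (Fin 6) (Fin 6) (ZMod 2) => M.submatrix e6 e6) h
  simpa using h1

theorem kapB_injective : Function.Injective kapB := by
  intro z z' h
  have h1 : kap1 z.1 = kap1 z'.1 := congrArg Prod.fst h
  have h2 : kap2 z.2 = kap2 z'.2 := congrArg Prod.snd h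
  exact Prod.ext (kap1_injective h1) (kap2_injective h2)

theorem kapB_mkZ (k : KB) (h : k * k = 1) (hQ : ∀ w : Fin 6 → ZMod 2, Q6 (k.2 *ᵥ w) = Q6 w) :
    kapB (mkZ k h hQ) = k := by
  refine Prod.ext rfl ?_
  show (k.2.submatrix e6 e6).submatrix e6.symm e6.symm = k.2
  ext i j
  simp

/-- the generators -/
def gensB : List ZB :=
  [mkZ (gkB.getD 0 1) (sq_gen 0 (by norm_num)) (Q6_gen 0 (by norm_num)),
   mkZ (gkB.getD 1 1) (sq_gen 1 (by norm_num)) (Q6_gen 1 (by norm_num)),
   mkZ (gkB.getD 2 1) (sq_gen 2 (by norm_num)) (Q6_gen 2 (by norm_num))]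

theorem map_gensB : gensB.map kapB = gkB := by
  show [kapB _, kapB _, kapB _] = gkB
  rw [kapB_mkZ, kapB_mkZ, kapB_mkZ]
  rfl

theorem mkZ_inv (k : KB) (h : k * k = 1) (hQ : ∀ w : Fin 6 → ZMod 2, Q6 (k.2 *ᵥ w) = Q6 w) :
    (mkZ k h hQ)⁻¹ = mkZ k h hQ := by
  rw [inv_eq_iff_mul_eq_one]
  apply kapB_injective
  rw [map_mul, kapB_mkZ, map_one, h]

/-- the certificate -/
theorem certB : ListGrp.Cert kapB gensB TB where
  inj := kapB_injective
  inv_mem := by
    intro g hg
    simp only [gensB, List.mem_cons, List.not_mem_nil, or_false] at hg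
    rcases hg with rfl | rfl | rfl
    · rw [mkZ_inv]; simp [gensB]
    · rw [mkZ_inv]; simp [gensB]
    · rw [mkZ_inv]; simp [gensB]
  nodup := TB_nodup
  one_mem := by
    have h := TB_zero
    rw [List.getD_eq_getElem _ _ (by rw [TB_length]; norm_num)] at h
    rw [← h]
    exact List.getElem_mem _
  step := by
    apply ListGrp.step_of_table kapB gensB TB tauB
    intro s hs k hk
    rw [map_gensB]
    exact tabB s hs k (by rw [TB_length] at hk; exact hk)
  reach := by
    apply ListGrp.reach_of_tree kapB gensB TB parB giB TB_zero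
    intro k hk0 hk
    rw [map_gensB]
    exact treeB k (by rw [TB_length] at hk; exact hk) hk0

/-- the graph -/
def GamB : Subgroup ZB := Subgroup.closure {g | g ∈ gensB}

theorem card_GamB : Nat.card GamB = 128 := by
  have h := certB.card
  rw [TB_length] at h
  exact h

theorem GamB_fst {w : ZB} (hw : w ∈ GamB) (h1 : w.1 = 1) : w = 1 := by
  apply kapB_injective
  rw [map_one]
  apply fst_one _ (certB.mem hw)
  show kap1 w.1 = 1
  rw [h1, map_one]

theorem GamB_snd {w : ZB} (hw : w ∈ GamB) (h1 : w.2 = 1) : w = 1 := by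
  apply kapB_injective
  rw [map_one]
  apply snd_one _ (certB.mem hw)
  show kap2 w.2 = 1
  rw [h1, map_one]

end Cfsg.Agent.Lib.Helper5.SylO6
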