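import Mathlib
import Cfsg.Prelude
import Cfsg.Agent.Lib.Helper5.SylO6b
import Cfsg.Agent.Lib.Helper5.GraphIso
import Cfsg.Agent.Lib.Helper5.IsoCongr
import Cfsg.Agent.S0288

set_option autoImplicit false

/-! The Sylow 2-subgroups of the symmetric group of degree 8 and of the orthogonal group of
minus type of degree 6 over the field with 2 elements. -/

namespace Cfsg.Agent.Lib.Helper5.SylO6

open Matrix

section field2

variable {K : Type} [Field K] [Fintype K]

theorem zero_or_one2 (hK : Fintype.card K = 2) (x : K) : x = 0 ∨ x = 1 := by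
  classical
  by_contra h
  rw [not_or] at h
  have h3 : ({0, 1, x} : Finset K).card = 3 := by
    rw [Finset.card_insert_of_notMem, Finset.card_insert_of_notMem, Finset.card_singleton]
    · simpa using Ne.symm h.2
    · simp only [Finset.mem_insert, Finset.mem_singleton, not_or]
      exact ⟨zero_ne_one, Ne.symm h.1⟩
  have := Finset.card_le_univ ({0, 1, x} : Finset K)
  omega

theorem char2 (hK : Fintype.card K = 2) : (1 : K) + 1 = 0 := by
  rcases zero_or_one2 hK ((1 : K) + 1) with h | h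
  · exact h
  · exfalso
    have : (1 : K) = 0 := by
      have h2 : (1 : K) + 1 = 0 + 1 := by rw [h, zero_add]
      exact add_right_cancel h2
    exact one_ne_zero this

theorem ab_eq_one (hK : Fintype.card K = 2) (a b : K)
    (hab : ∀ z₁ z₂ : K, z₁ ^ 2 + a * z₁ * z₂ + b * z₂ ^ 2 = 0 → z₁ = 0 ∧ z₂ = 0) :
    a = 1 ∧ b = 1 := by
  have hb : b = 1 := by
    rcases zero_or_one2 hK b with h | h
    · exfalso
      have := hab 0 1 (by rw [h]; ring)
      exact one_ne_zero this.2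
    · exact h
  refine ⟨?_, hb⟩
  rcases zero_or_one2 hK a with h | h
  · exfalso
    have := hab 1 1 (by rw [h, hb]; linear_combination char2 hK)
    exact one_ne_zero this.2
  · exact h

end field2

/-- the order of the orthogonal group -/
theorem card_Y0 : Nat.card Y0 = 2 ^ 7 * 405 := by
  have h := Cfsg.Agent.S0288.result (F := ZMod 2) (q := 2) (by simp) 3 (by norm_num) 1 1
    (by
      have h' : ∀ z₁ z₂ : ZMod 2, z₁ ^ 2 + 1 * z₁ * z₂ + 1 * z₂ ^ 2 = 0 → z₁ = 0 ∧ z₂ = 0 := by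
        decide
      exact h')
  rw [show (3 : ℕ) - 1 = 2 from rfl] at h
  rw [h]
  simp [Finset.prod_range_succ]

theorem card_perm8 : Nat.card (Equiv.Perm (Fin 8)) = 2 ^ 7 * 315 := by
  rw [Nat.card_eq_fintype_card, Fintype.card_perm, Fintype.card_fin]
  rfl

theorem sylow_perm8 (P : Sylow 2 (Equiv.Perm (Fin 8))) :
    Nonempty (↥(P : Subgroup (Equiv.Perm (Fin 8))) ≃*
      ↥(GamB.map (MonoidHom.fst (Equiv.Perm (Fin 8)) Y0))) := by
  apply GraphIso.sylow_equiv_of_card _ 7 315 _ card_perm8 (by norm_num)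
  rw [GraphIso.card_map _ _ (fun w hw h => GamB_fst hw h), card_GamB]
  norm_num

theorem sylow_Y0 (P : Sylow 2 Y0) :
    Nonempty (↥(P : Subgroup Y0) ≃* ↥(GamB.map (MonoidHom.snd (Equiv.Perm (Fin 8)) Y0))) := by
  apply GraphIso.sylow_equiv_of_card _ 7 405 _ card_Y0 (by norm_num)
  rw [GraphIso.card_map _ _ (fun w hw h => GamB_snd hw h), card_GamB]
  norm_num

theorem sylow_perm8_Y0 (P : Sylow 2 (Equiv.Perm (Fin 8))) (Q : Sylow 2 Y0) :
    Nonempty (↥(P : Subgroup (Equiv.Perm (Fin 8))) ≃* ↥(Q : Subgroup Y0)) := by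
  obtain ⟨e1⟩ := sylow_perm8 P
  obtain ⟨e2⟩ := sylow_Y0 Q
  exact ⟨e1.trans ((GraphIso.fstEquivSnd GamB (fun w hw h => GamB_fst hw h)
    (fun w hw h => GamB_snd hw h)).trans e2.symm)⟩

/-- the second half of the statement -/
theorem partB (K : Type) [Field K] [Fintype K] (hK : Fintype.card K = 2) (a b : K)
    (hab : ∀ z₁ z₂ : K, z₁ ^ 2 + a * z₁ * z₂ + b * z₂ ^ 2 = 0 → z₁ = 0 ∧ z₂ = 0)
    (P' : Sylow 2 (Equiv.Perm (Fin 8)))
    (Q' : Sylow 2 ↥(Cfsg.isometryGroup K (Cfsg.quadFormMinus 2 K a b))) :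
    Nonempty (↥(P' : Subgroup (Equiv.Perm (Fin 8))) ≃*
      ↥(Q' : Subgroup ↥(Cfsg.isometryGroup K (Cfsg.quadFormMinus 2 K a b)))) := by
  obtain ⟨rfl, rfl⟩ := ab_eq_one hK a b hab
  let φ : ZMod 2 ≃+* K := ZMod.ringEquivOfPrime K Nat.prime_two hK
  have hQ : ∀ v : I6 → ZMod 2, Cfsg.quadFormMinus 2 K 1 1 (φ ∘ v) =
      φ (Cfsg.quadFormMinus 2 (ZMod 2) 1 1 v) := by
    intro v
    unfold Cfsg.quadFormMinus
    simp only [Function.comp, map_add, map_sum, map_mul, map_pow, map_one]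
  let e : Y0 ≃* ↥(Cfsg.isometryGroup K (Cfsg.quadFormMinus 2 K 1 1)) :=
    IsoCongr.isoCongr φ _ _ hQ
  let H0 : Subgroup Y0 := GamB.map (MonoidHom.snd (Equiv.Perm (Fin 8)) Y0)
  have hH0 : Nat.card H0 = 2 ^ 7 := by
    rw [GraphIso.card_map _ _ (fun w hw h => GamB_snd hw h), card_GamB]
    norm_num
  let H1 : Subgroup ↥(Cfsg.isometryGroup K (Cfsg.quadFormMinus 2 K 1 1)) := H0.map e.toMonoidHom
  let e1 : ↥H0 ≃* ↥H1 := H0.equivMapOfInjective e.toMonoidHom e.injective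
  have hH1 : Nat.card H1 = 2 ^ 7 := by
    rw [← Nat.card_congr e1.toEquiv, hH0]
  have hG1 : Nat.card ↥(Cfsg.isometryGroup K (Cfsg.quadFormMinus 2 K 1 1)) = 2 ^ 7 * 405 := by
    rw [← Nat.card_congr e.toEquiv, card_Y0]
  obtain ⟨e2⟩ := GraphIso.sylow_equiv_of_card H1 7 405 hH1 hG1 (by norm_num) Q'
  obtain ⟨e3⟩ := sylow_perm8 P'
  exact ⟨e3.trans ((GraphIso.fstEquivSnd GamB (fun w hw h => GamB_fst hw h)
    (fun w hw h => GamB_snd hw h)).trans (e1.trans e2.symm))⟩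

end Cfsg.Agent.Lib.Helper5.SylO6
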