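import Mathlib

/-!
# Sylvester–Schur (S3571 swarm): shared base lemmas (helper5)
-/

set_option autoImplicit false

namespace Cfsg.Agent.Lib.Helper5.SylSchur

open Finset

/-- a prime `p > k` dividing one of `n, n-1, …, n-k+1` divides `C(n,k)` -/
theorem prime_dvd_choose_of_dvd_sub {n k i p : ℕ} (hp : p.Prime) (hkp : k < p) (hik : i < k)
    (_hkn : k ≤ n) (hd : p ∣ n - i) : p ∣ n.choose k := by
  have h1 : p ∣ n.descFactorial k := by
    rw [Nat.descFactorial_eq_prod_range]
    exact hd.trans (Finset.dvd_prod_of_mem (fun j => n - j) (Finset.mem_range.2 hik))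
  rw [Nat.descFactorial_eq_factorial_mul_choose] at h1
  rcases (Nat.Prime.dvd_mul hp).1 h1 with h | h
  · exact absurd ((Nat.Prime.dvd_factorial hp).1 h) (by omega)
  · exact h

/-- a prime in `(n-k, n]` (with `2k ≤ n`) is a prime `> k` dividing `C(n,k)` -/
theorem exists_of_prime_Ioc {n k p : ℕ} (hp : p.Prime) (h2k : 2 * k ≤ n) (h1 : n - k < p)
    (h2 : p ≤ n) : ∃ p, p.Prime ∧ k < p ∧ p ∣ n.choose k := by
  have hk0 : 0 < k := by
    by_contra h
    have : k = 0 := by omega
    subst this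
    omega
  refine ⟨p, hp, by omega, ?_⟩
  apply prime_dvd_choose_of_dvd_sub (i := n - p) hp (by omega) (by omega) (by omega)
  have : n - (n - p) = p := by omega
  rw [this]

/-- a certificate `(i, p)` gives the Sylvester–Schur conclusion -/
theorem exists_of_cert {n k : ℕ} (i p : ℕ) (hp : p.Prime) (hkp : k < p) (hik : i < k)
    (hkn : k ≤ n) (hd : p ∣ n - i) : ∃ p, p.Prime ∧ k < p ∧ p ∣ n.choose k :=
  ⟨p, hp, hkp, prime_dvd_choose_of_dvd_sub hp hkp hik hkn hd⟩

end Cfsg.Agent.Lib.Helper5.SylSchur
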