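import Mathlib
import Cfsg.Agent.Lib.Helper5.SylSchur_Base

/-!
# Sylvester–Schur for `k < 37` (S3571 swarm, slice SMALLK, helper5)

`ss_small : 1 ≤ k → k < 37 → 2 * k ≤ n → ∃ p, p.Prime ∧ k < p ∧ p ∣ n.choose k`.

* `n ≥ 200`: if all prime divisors of `C(n,k)` were `≤ k` then `C(n,k) ≤ n ^ π(k)` while
  `(n+1-k)^k ≤ k! * C(n,k)`; the resulting inequality fails from `n = 200` on.
* `n < 200`, `k ≥ 14`: a prime in `(n-k, n]` (prime gaps below 200 are `≤ 14`).
* `n < 200`, `k ≤ 13`: certificates `(i, p)` with `p ∣ n - i`, found by `decide`.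
-/

set_option autoImplicit false

namespace Cfsg.Agent.Lib.Helper5.SylSchur

open Finset

/-- the primes below 200 -/
def L200 : List ℕ := [2, 3, 5, 7, 11, 13, 17, 19, 23, 29, 31, 37, 41, 43, 47, 53, 59, 61, 67, 71,
  73, 79, 83, 89, 97, 101, 103, 107, 109, 113, 127, 131, 137, 139, 149, 151, 157, 163, 167, 173,
  179, 181, 191, 193, 197, 199]

theorem L200_prime : ∀ p ∈ L200, p.Prime := by
  intro p hp
  unfold L200 at hp
  fin_cases hp <;> norm_num

/-- the primes below 37 -/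
def L36 : List ℕ := [2, 3, 5, 7, 11, 13, 17, 19, 23, 29, 31]

theorem mem_L36 {p : ℕ} (hp : p.Prime) (h : p < 37) : p ∈ L36 := by
  unfold L36
  interval_cases p <;> first | decide | (exfalso; revert hp; norm_num)

/-- number of primes `≤ k` (for `k < 37`) -/
def cnt (k : ℕ) : ℕ := (L36.filter (· ≤ k)).length

/-- if all prime divisors of `C(n,k)` are `≤ k < 37` then `C(n,k) ≤ n ^ cnt k` -/
theorem choose_le_pow_of_smooth {n k : ℕ} (hk : k < 37) (hkn : k ≤ n) (hn0 : 0 < n)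
    (hB : ∀ p : ℕ, p.Prime → p ∣ n.choose k → p ≤ k) : n.choose k ≤ n ^ cnt k := by
  have hpos : 0 < n.choose k := Nat.choose_pos hkn
  have hprod : (n.choose k).factorization.prod (fun p e => p ^ e) = n.choose k :=
    Nat.prod_factorization_pow_eq_self hpos.ne'
  have hle : (n.choose k).factorization.prod (fun p e => p ^ e)
      ≤ ∏ _p ∈ (n.choose k).factorization.support, n := by
    unfold Finsupp.prod
    apply Finset.prod_le_prod'
    intro p _
    exact Nat.pow_factorization_choose_le hn0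
  rw [hprod, Finset.prod_const] at hle
  refine hle.trans (Nat.pow_le_pow_right hn0 ?_)
  -- the support is contained in the primes `≤ k`
  have hsub : (n.choose k).factorization.support ⊆ (L36.filter (· ≤ k)).toFinset := by
    intro p hp
    rw [Nat.support_factorization, Nat.mem_primeFactors] at hp
    have hpk := hB p hp.1 hp.2.1
    rw [List.mem_toFinset, List.mem_filter]
    exact ⟨mem_L36 hp.1 (by omega), by simpa using hpk⟩
  calc (n.choose k).factorization.support.card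
      ≤ (L36.filter (· ≤ k)).toFinset.card := Finset.card_le_card hsub
    _ ≤ (L36.filter (· ≤ k)).length := List.toFinset_card_le _


theorem table : ∀ k < 37, 1 ≤ k →
    k.factorial * 200 ^ k < 200 ^ (k - cnt k) * (201 - k) ^ k := by decide

theorem cnt_le : ∀ k < 37, cnt k ≤ k := by decide

/-- `n ≥ 200` -/
theorem large_case {n k : ℕ} (hk1 : 1 ≤ k) (hk : k < 37) (hn : 200 ≤ n) :
    ∃ p, p.Prime ∧ k < p ∧ p ∣ n.choose k := by
  by_contra hcon
  push Not at hcon
  have hB : ∀ p : ℕ, p.Prime → p ∣ n.choose k → p ≤ k := fun p hp hd => by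
    by_contra h
    exact hcon p hp (by omega) hd
  have h1 : n.choose k ≤ n ^ cnt k := choose_le_pow_of_smooth hk (by omega) (by omega) hB
  have h2 : (n + 1 - k) ^ k ≤ k.factorial * n.choose k := by
    rw [← Nat.descFactorial_eq_factorial_mul_choose]
    exact Nat.pow_sub_le_descFactorial n k
  have h3 : (n + 1 - k) ^ k ≤ k.factorial * n ^ cnt k := h2.trans (Nat.mul_le_mul_left _ h1)
  have hc := cnt_le k hk
  have htab := table k hk hk1
  set c := cnt k with hcdef
  -- `(201 - k) * n ≤ (n + 1 - k) * 200`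
  have h4 : (201 - k) * n ≤ (n + 1 - k) * 200 := by
    obtain ⟨a, ha⟩ : ∃ a, n = 200 + a := ⟨n - 200, by omega⟩
    obtain ⟨b, hb⟩ : ∃ b, k = 1 + b := ⟨k - 1, by omega⟩
    subst ha; subst hb
    have e1 : 201 - (1 + b) = 200 - b := by omega
    have e2 : 200 + a + 1 - (1 + b) = 200 + a - b := by omega
    rw [e1, e2]
    have hb36 : b ≤ 36 := by omega
    zify [show b ≤ 200 by omega, show b ≤ 200 + a by omega]
    nlinarith
  have h5 : ((201 - k) * n) ^ k ≤ ((n + 1 - k) * 200) ^ k := Nat.pow_le_pow_left h4 k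
  rw [mul_pow, mul_pow] at h5
  have h6 : (201 - k) ^ k * n ^ k ≤ k.factorial * n ^ c * 200 ^ k :=
    h5.trans (Nat.mul_le_mul_right _ h3)
  have hn0 : 0 < n := by omega
  have h7 : n ^ k = n ^ (k - c) * n ^ c := by rw [← pow_add]; congr 1; omega
  rw [h7] at h6
  have h8 : (201 - k) ^ k * n ^ (k - c) * n ^ c ≤ k.factorial * 200 ^ k * n ^ c := by
    calc (201 - k) ^ k * n ^ (k - c) * n ^ c = (201 - k) ^ k * (n ^ (k - c) * n ^ c) := by ring
      _ ≤ k.factorial * n ^ c * 200 ^ k := h6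
      _ = k.factorial * 200 ^ k * n ^ c := by ring
  have h9 : (201 - k) ^ k * n ^ (k - c) ≤ k.factorial * 200 ^ k :=
    Nat.le_of_mul_le_mul_right h8 (pow_pos hn0 c)
  have h10 : 200 ^ (k - c) ≤ n ^ (k - c) := Nat.pow_le_pow_left hn _
  have h11 : 200 ^ (k - c) * (201 - k) ^ k ≤ k.factorial * 200 ^ k := by
    calc 200 ^ (k - c) * (201 - k) ^ k = (201 - k) ^ k * 200 ^ (k - c) := by ring
      _ ≤ (201 - k) ^ k * n ^ (k - c) := Nat.mul_le_mul_left _ h10
      _ ≤ _ := h9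
  omega

set_option maxRecDepth 100000 in
theorem gap14 : ∀ n < 200, 2 ≤ n → ∃ p ∈ L200, p ≤ n ∧ n < p + 14 := by decide

set_option maxRecDepth 100000 in
theorem small_cert_1 : ∀ n < 200, 2 * 1 ≤ n → ∃ i < 1, ∃ p ∈ L200, 1 < p ∧ p ∣ n - i := by
  decide

set_option maxRecDepth 100000 in
theorem small_cert_2 : ∀ n < 200, 2 * 2 ≤ n → ∃ i < 2, ∃ p ∈ L200, 2 < p ∧ p ∣ n - i := by
  decide

set_option maxRecDepth 100000 in
theorem small_cert_3 : ∀ n < 200, 2 * 3 ≤ n → ∃ i < 3, ∃ p ∈ L200, 3 < p ∧ p ∣ n - i := by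
  decide

set_option maxRecDepth 100000 in
theorem small_cert_4 : ∀ n < 200, 2 * 4 ≤ n → ∃ i < 4, ∃ p ∈ L200, 4 < p ∧ p ∣ n - i := by
  decide

set_option maxRecDepth 100000 in
theorem small_cert_5 : ∀ n < 200, 2 * 5 ≤ n → ∃ i < 5, ∃ p ∈ L200, 5 < p ∧ p ∣ n - i := by
  decide

set_option maxRecDepth 100000 in
theorem small_cert_6 : ∀ n < 200, 2 * 6 ≤ n → ∃ i < 6, ∃ p ∈ L200, 6 < p ∧ p ∣ n - i := by
  decide

set_option maxRecDepth 100000 in
theorem small_cert_7 : ∀ n < 200, 2 * 7 ≤ n → ∃ i < 7, ∃ p ∈ L200, 7 < p ∧ p ∣ n - i := by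
  decide

set_option maxRecDepth 100000 in
theorem small_cert_8 : ∀ n < 200, 2 * 8 ≤ n → ∃ i < 8, ∃ p ∈ L200, 8 < p ∧ p ∣ n - i := by
  decide

set_option maxRecDepth 100000 in
theorem small_cert_9 : ∀ n < 200, 2 * 9 ≤ n → ∃ i < 9, ∃ p ∈ L200, 9 < p ∧ p ∣ n - i := by
  decide

set_option maxRecDepth 100000 in
theorem small_cert_10 : ∀ n < 200, 2 * 10 ≤ n → ∃ i < 10, ∃ p ∈ L200, 10 < p ∧ p ∣ n - i := by
  decide

set_option maxRecDepth 100000 in
theorem small_cert_11 : ∀ n < 200, 2 * 11 ≤ n → ∃ i < 11, ∃ p ∈ L200, 11 < p ∧ p ∣ n - i := by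
  decide

set_option maxRecDepth 100000 in
theorem small_cert_12 : ∀ n < 200, 2 * 12 ≤ n → ∃ i < 12, ∃ p ∈ L200, 12 < p ∧ p ∣ n - i := by
  decide

set_option maxRecDepth 100000 in
theorem small_cert_13 : ∀ n < 200, 2 * 13 ≤ n → ∃ i < 13, ∃ p ∈ L200, 13 < p ∧ p ∣ n - i := by
  decide

theorem small_cert : ∀ k < 14, ∀ n < 200, 1 ≤ k → 2 * k ≤ n →
    ∃ i < k, ∃ p ∈ L200, k < p ∧ p ∣ n - i := by
  intro k hk n hn hk1 h2
  interval_cases k
  · exact small_cert_1 n hn h2
  · exact small_cert_2 n hn h2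
  · exact small_cert_3 n hn h2
  · exact small_cert_4 n hn h2
  · exact small_cert_5 n hn h2
  · exact small_cert_6 n hn h2
  · exact small_cert_7 n hn h2
  · exact small_cert_8 n hn h2
  · exact small_cert_9 n hn h2
  · exact small_cert_10 n hn h2
  · exact small_cert_11 n hn h2
  · exact small_cert_12 n hn h2
  · exact small_cert_13 n hn h2

/-- **Sylvester–Schur for `k < 37`.** -/
theorem ss_small (n k : ℕ) (hk : 1 ≤ k) (hk37 : k < 37) (hn : 2 * k ≤ n) :
    ∃ p, p.Prime ∧ k < p ∧ p ∣ n.choose k := by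
  rcases le_or_gt 200 n with h200 | h200
  · exact large_case hk hk37 h200
  · rcases le_or_gt 14 k with h14 | h14
    · obtain ⟨p, hpL, hpn, hnp⟩ := gap14 n h200 (by omega)
      exact exists_of_prime_Ioc (L200_prime p hpL) hn (by omega) hpn
    · obtain ⟨i, hik, p, hpL, hkp, hd⟩ := small_cert k h14 n h200 hk hn
      exact exists_of_cert i p (L200_prime p hpL) hkp hik (by omega) hd

end Cfsg.Agent.Lib.Helper5.SylSchur
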