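import Mathlib
import Cfsg.Agent.Lib.Helper5.SylSchur_SMALLK
import Cfsg.Agent.Lib.Helper2.SylSchur_CHAIN24
import Cfsg.Agent.Lib.Helper9.SylSchur_R1

/-!
# Sylvester–Schur: assembly from the four slices (S3571 swarm, helper5)

`ss_small` (k < 37, helper5), `ss_large` (k³ ≤ n², helper9), `ss_chain` / `ss_chain24`
(n < 2^15 / 2^24, helper2) and the middle range `ss_mid`, taken here as an explicit hypothesis
(with threshold `2^15` or `2^24`).
-/

set_option autoImplicit false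

namespace Cfsg.Agent.Lib.S3571

/-- Sylvester–Schur from the middle range with threshold `2 ^ 15`. -/
theorem sylvester_schur_of_mid15
    (MID : ∀ n k : ℕ, 37 ≤ k → 2 * k ≤ n → 2 ^ 15 ≤ n → n ^ 2 < k ^ 3 →
      ∃ p, p.Prime ∧ k < p ∧ p ∣ n.choose k)
    (n k : ℕ) (hk : 1 ≤ k) (hn : 2 * k ≤ n) : ∃ p, p.Prime ∧ k < p ∧ p ∣ n.choose k := by
  rcases lt_or_ge k 37 with h37 | h37
  · exact Cfsg.Agent.Lib.Helper5.SylSchur.ss_small n k hk h37 hn
  · rcases le_or_gt (k ^ 3) (n ^ 2) with hge | hlt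
    · exact Cfsg.Agent.Lib.SylSchur.ss_large n k h37 hn hge
    · rcases lt_or_ge n (2 ^ 15) with h15 | h15
      · exact Cfsg.Agent.Lib.SylSchur.ss_chain n k h37 hn h15 hlt
      · exact MID n k h37 hn h15 hlt

/-- Sylvester–Schur from the middle range with threshold `2 ^ 24`. -/
theorem sylvester_schur_of_mid24
    (MID : ∀ n k : ℕ, 37 ≤ k → 2 * k ≤ n → 2 ^ 24 ≤ n → n ^ 2 < k ^ 3 →
      ∃ p, p.Prime ∧ k < p ∧ p ∣ n.choose k)
    (n k : ℕ) (hk : 1 ≤ k) (hn : 2 * k ≤ n) : ∃ p, p.Prime ∧ k < p ∧ p ∣ n.choose k := by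
  rcases lt_or_ge k 37 with h37 | h37
  · exact Cfsg.Agent.Lib.Helper5.SylSchur.ss_small n k hk h37 hn
  · rcases le_or_gt (k ^ 3) (n ^ 2) with hge | hlt
    · exact Cfsg.Agent.Lib.SylSchur.ss_large n k h37 hn hge
    · rcases lt_or_ge n (2 ^ 24) with h24 | h24
      · exact Cfsg.Agent.Lib.SylSchur.ss_chain24 n k h37 hn h24 hlt
      · exact MID n k h37 hn h24 hlt

end Cfsg.Agent.Lib.S3571
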