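import Mathlib
import Cfsg.Agent.Lib.Helper5.SylSchur_Assemble
import Cfsg.Agent.Lib.Helper4.SylSchur_R2

/-!
# Sylvester–Schur (assembled from the slices of helper2, helper4, helper5, helper9)
-/

set_option autoImplicit false

namespace Cfsg.Agent.Lib.Helper5.SylSchur

/-- **Sylvester–Schur**: for `n ≥ 2k ≥ 2`, `C(n,k)` has a prime divisor `> k`. -/
theorem sylvester_schur (n k : ℕ) (hk : 1 ≤ k) (hn : 2 * k ≤ n) :
    ∃ p, p.Prime ∧ k < p ∧ p ∣ n.choose k :=
  Cfsg.Agent.Lib.S3571.sylvester_schur_of_mid15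
    Cfsg.Agent.Lib.Helper4.SylSchurR2.ss_mid n k hk hn

end Cfsg.Agent.Lib.Helper5.SylSchur
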