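import Mathlib
import Cfsg.Prelude
import Cfsg.Agent.Lib.Helper5.SylSp4a
import Cfsg.Agent.Lib.Helper5.SylO6b
import Cfsg.Agent.Lib.Helper5.ListGrp

set_option autoImplicit false
set_option maxRecDepth 100000

/-! A subgroup of order 128 of the product of the symmetric group of degree 8 and the symplectic
group of degree 4 over the field with 3 elements, which is the graph of a homomorphism with
kernel of order 2. -/

namespace Cfsg.Agent.Lib.Helper5.SylSp4

open Matrix
open Cfsg.Agent.Lib.Helper5.SylO6 (kap1 kap1_injective)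

/-- the numbering of the coordinates -/
def e4 : Fin 2 ⊕ Fin 2 ≃ Fin 4 := finSumFinEquiv

/-- the symplectic group -/
abbrev SpZ : Type := ↥(Matrix.symplecticGroup (Fin 2) (ZMod 3))

theorem J4_eq : J4.submatrix e4 e4 = Matrix.J (Fin 2) (ZMod 3) := by decide +kernel

/-- the permutation attached to a pair of mutually inverse maps -/
def permOf2 (f f' : Function.End (Fin 8)) (h : f * f' = 1) (h' : f' * f = 1) :
    Equiv.Perm (Fin 8) :=
  ⟨f, f', fun x => congrFun h' x, fun x => congrFun h x⟩

theorem spOf_mem (M : Matrix (Fin 4) (Fin 4) (ZMod 3)) (hJ : M * J4 * M.transpose = J4) :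
    M.submatrix e4 e4 ∈ Matrix.symplecticGroup (Fin 2) (ZMod 3) := by
  rw [SymplecticGroup.mem_iff, ← J4_eq, Matrix.transpose_submatrix,
    Matrix.submatrix_mul_equiv, Matrix.submatrix_mul_equiv, hJ]

/-- the group in which the graph lives -/
abbrev ZA : Type := Equiv.Perm (Fin 8) × SpZ

/-- the element attached to a pair and its inverse -/
def mkZA (k k' : KA) (h : k * k' = 1) (h' : k' * k = 1) (hJ : k.2 * J4 * k.2.transpose = J4) : ZA :=
  (permOf2 k.1 k'.1 (congrArg Prod.fst h) (congrArg Prod.fst h'), ⟨k.2.submatrix e4 e4, spOf_mem _ hJ⟩)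

/-- the matrix of an element of the symplectic group in the new coordinates -/
def kapS : SpZ →* Matrix (Fin 4) (Fin 4) (ZMod 3) where
  toFun y := (y : Matrix (Fin 2 ⊕ Fin 2) (Fin 2 ⊕ Fin 2) (ZMod 3)).submatrix e4.symm e4.symm
  map_one' := by
    show (1 : Matrix (Fin 2 ⊕ Fin 2) (Fin 2 ⊕ Fin 2) (ZMod 3)).submatrix e4.symm e4.symm = 1
    exact Matrix.submatrix_one_equiv _
  map_mul' y y' := by
    show ((y : Matrix (Fin 2 ⊕ Fin 2) (Fin 2 ⊕ Fin 2) (ZMod 3)) *
      (y' : Matrix (Fin 2 ⊕ Fin 2) (Fin 2 ⊕ Fin 2) (ZMod 3))).submatrix e4.symm e4.symm = _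
    exact (Matrix.submatrix_mul_equiv _ _ _ _ _).symm

/-- the pair of an element -/
def kapA : ZA →* KA := kap1.prodMap kapS

theorem kapS_injective : Function.Injective kapS := by
  intro y y' h
  apply Subtype.ext
  have h1 : ((y : Matrix (Fin 2 ⊕ Fin 2) (Fin 2 ⊕ Fin 2) (ZMod 3)).submatrix e4.symm e4.symm).submatrix e4 e4
      = ((y' : Matrix (Fin 2 ⊕ Fin 2) (Fin 2 ⊕ Fin 2) (ZMod 3)).submatrix e4.symm e4.symm).submatrix e4 e4 :=
    congrArg (fun M : Matrix (Fin 4) (Fin 4) (ZMod 3) => M.submatrix e4 e4) h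
  simpa using h1

theorem kapA_injective : Function.Injective kapA := by
  intro z z' h
  have h1 : kap1 z.1 = kap1 z'.1 := congrArg Prod.fst h
  have h2 : kapS z.2 = kapS z'.2 := congrArg Prod.snd h
  exact Prod.ext (kap1_injective h1) (kapS_injective h2)

theorem kapA_mkZA (k k' : KA) (h : k * k' = 1) (h' : k' * k = 1)
    (hJ : k.2 * J4 * k.2.transpose = J4) : kapA (mkZA k k' h h' hJ) = k := by
  refine Prod.ext rfl ?_
  show (k.2.submatrix e4 e4).submatrix e4.symm e4.symm = k.2
  ext i j
  simp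

theorem mkZA_inv (k k' : KA) (h : k * k' = 1) (h' : k' * k = 1)
    (hJ : k.2 * J4 * k.2.transpose = J4) (hJ' : k'.2 * J4 * k'.2.transpose = J4) :
    (mkZA k k' h h' hJ)⁻¹ = mkZA k' k h' h hJ' := by
  rw [inv_eq_iff_mul_eq_one]
  apply kapA_injective
  rw [map_mul, kapA_mkZA, kapA_mkZA, map_one, h]

/-- the generator of a given place -/
def genA (s : ℕ) (hs : s < 5) : ZA :=
  mkZA (gkA.getD s 1) (gkA.getD (invA s) 1) (inv_gen s hs).2.1 (inv_gen s hs).2.2 (J_gen s hs)

/-- the generators -/
def gensA : List ZA :=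
  [genA 0 (by norm_num), genA 1 (by norm_num), genA 2 (by norm_num), genA 3 (by norm_num),
   genA 4 (by norm_num)]

theorem map_gensA : gensA.map kapA = gkA := by
  show [kapA _, kapA _, kapA _, kapA _, kapA _] = gkA
  unfold genA
  rw [kapA_mkZA, kapA_mkZA, kapA_mkZA, kapA_mkZA, kapA_mkZA]
  rfl

theorem genA_inv (s : ℕ) (hs : s < 5) : (genA s hs)⁻¹ = genA (invA s) (inv_gen s hs).1 := by
  rw [inv_eq_iff_mul_eq_one]
  apply kapA_injective
  unfold genA
  rw [map_mul, kapA_mkZA, kapA_mkZA, map_one]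
  exact (inv_gen s hs).2.1

/-- the certificate -/
theorem certA : ListGrp.Cert kapA gensA TA where
  inj := kapA_injective
  inv_mem := by
    intro g hg
    simp only [gensA, List.mem_cons, List.not_mem_nil, or_false] at hg
    rcases hg with rfl | rfl | rfl | rfl | rfl
    · rw [genA_inv]; show genA 1 _ ∈ _; simp [gensA]
    · rw [genA_inv]; show genA 0 _ ∈ _; simp [gensA]
    · rw [genA_inv]; show genA 3 _ ∈ _; simp [gensA]
    · rw [genA_inv]; show genA 2 _ ∈ _; simp [gensA]
    · rw [genA_inv]; show genA 4 _ ∈ _; simp [gensA]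
  nodup := TA_nodup
  one_mem := by
    have h := TA_zero
    rw [List.getD_eq_getElem _ _ (by rw [TA_length]; norm_num)] at h
    rw [← h]
    exact List.getElem_mem _
  step := by
    apply ListGrp.step_of_table kapA gensA TA tauA
    intro s hs k hk
    rw [map_gensA]
    exact tabA s hs k (by rw [TA_length] at hk; exact hk)
  reach := by
    apply ListGrp.reach_of_tree kapA gensA TA parA giA TA_zero
    intro k hk0 hk
    rw [map_gensA]
    exact treeA k (by rw [TA_length] at hk; exact hk) hk0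

/-- the graph -/
def GamA : Subgroup ZA := Subgroup.closure {g | g ∈ gensA}

theorem card_GamA : Nat.card GamA = 128 := by
  have h := certA.card
  rw [TA_length] at h
  exact h

end Cfsg.Agent.Lib.Helper5.SylSp4
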