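import Mathlib
import Cfsg.Prelude
import Cfsg.Agent.Lib.Helper5.SylSp4b
import Cfsg.Agent.Lib.Helper5.GraphIso
import Cfsg.Agent.S0245
import Cfsg.Agent.S0246

set_option autoImplicit false
set_option maxRecDepth 100000

/-! The Sylow 2-subgroups of the alternating group of degree 8 and of the projective symplectic
group of degree 4 over the field with 3 elements. -/

namespace Cfsg.Agent.Lib.Helper5.SylSp4

open Matrix
open Cfsg.Agent.Lib.Helper5.SylO6 (kap1 kap1_injective)

section congr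

variable {F F' : Type*} [Field F] [Field F'] {m : ℕ}

theorem J_map' (φ : F →+* F') : (J (Fin m) F).map φ = J (Fin m) F' := by
  unfold J
  rw [Matrix.fromBlocks_map]
  congr 1
  · exact Matrix.map_zero _ (map_zero φ)
  · ext i j
    simp [Matrix.one_apply, apply_ite]
  · ext i j
    simp [Matrix.one_apply, apply_ite]
  · exact Matrix.map_zero _ (map_zero φ)

theorem map_mem_symplectic' (φ : F →+* F') (A : Matrix (Fin m ⊕ Fin m) (Fin m ⊕ Fin m) F)
    (hA : A ∈ symplecticGroup (Fin m) F) : A.map φ ∈ symplecticGroup (Fin m) F' := by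
  rw [SymplecticGroup.mem_iff] at hA ⊢
  rw [← J_map' φ, ← Matrix.transpose_map, ← Matrix.map_mul, ← Matrix.map_mul, hA]

/-- the symplectic groups over isomorphic fields are isomorphic -/
def spCongr' (φ : F ≃+* F') : symplecticGroup (Fin m) F ≃* symplecticGroup (Fin m) F' where
  toFun A := ⟨A.1.map φ, map_mem_symplectic' (φ : F →+* F') A.1 A.2⟩
  invFun A := ⟨A.1.map φ.symm, map_mem_symplectic' (φ.symm : F' →+* F) A.1 A.2⟩
  left_inv A := by
    apply Subtype.ext
    ext i j
    show φ.symm (φ (A.1 i j)) = A.1 i j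
    rw [RingEquiv.symm_apply_apply]
  right_inv A := by
    apply Subtype.ext
    ext i j
    show φ (φ.symm (A.1 i j)) = A.1 i j
    rw [RingEquiv.apply_symm_apply]
  map_mul' A A' := by
    apply Subtype.ext
    show (A.1 * A'.1).map φ = A.1.map φ * A'.1.map φ
    exact Matrix.map_mul (f := (φ : F →+* F'))

theorem spCongr'_negOne (φ : F ≃+* F') :
    spCongr' φ (Cfsg.Agent.S0246.negOne m F) = Cfsg.Agent.S0246.negOne m F' := by
  apply Subtype.ext
  show (-1 : Matrix (Fin m ⊕ Fin m) (Fin m ⊕ Fin m) F).map φ = -1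
  ext i j
  simp [Matrix.one_apply, apply_ite]

end congr

theorem sign_gensA : ∀ g ∈ gensA, Equiv.Perm.sign g.1 = 1 := by decide +kernel

/-- the central element -/
def zA : ZA := (1, Cfsg.Agent.S0246.negOne 2 (ZMod 3))

theorem kapS_negOne : kapS (Cfsg.Agent.S0246.negOne 2 (ZMod 3)) = -1 := by
  show (-1 : Matrix (Fin 2 ⊕ Fin 2) (Fin 2 ⊕ Fin 2) (ZMod 3)).submatrix e4.symm e4.symm = -1
  ext i j
  simp [Matrix.one_apply]

theorem kapS_eq_one_iff (y : SpZ) : kapS y = 1 ↔ y = 1 := by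
  rw [← map_one kapS]
  exact kapS_injective.eq_iff

theorem kapS_eq_neg_one_iff (y : SpZ) : kapS y = -1 ↔ y = Cfsg.Agent.S0246.negOne 2 (ZMod 3) := by
  rw [← kapS_negOne]
  exact kapS_injective.eq_iff

theorem kap1_eq_one_iff (σ : Equiv.Perm (Fin 8)) : kap1 σ = 1 ↔ σ = 1 := by
  rw [← map_one kap1]
  exact kap1_injective.eq_iff

theorem GamA_ker {w : ZA} (hw : w ∈ GamA) :
    w.1 = 1 ↔ (w.2 = 1 ∨ w.2 = Cfsg.Agent.S0246.negOne 2 (ZMod 3)) := by
  have h := ker_code _ (certA.mem hw)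
  rw [← kap1_eq_one_iff, ← kapS_eq_one_iff, ← kapS_eq_neg_one_iff]
  exact h

theorem zA_mem : zA ∈ GamA := by
  obtain ⟨w, hw, h⟩ := certA.reach _ negone_mem
  have : w = zA := by
    apply kapA_injective
    rw [h]
    refine Prod.ext ?_ ?_
    · show (1 : Function.End (Fin 8)) = kap1 1
      rw [map_one]
    · show (-1 : Matrix (Fin 4) (Fin 4) (ZMod 3)) = kapS (Cfsg.Agent.S0246.negOne 2 (ZMod 3))
      rw [kapS_negOne]
  rw [← this]
  exact hw

theorem zA_ne_one : zA ≠ 1 := by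
  intro h
  have h2 : kapS (Cfsg.Agent.S0246.negOne 2 (ZMod 3)) = kapS 1 := by
    rw [show Cfsg.Agent.S0246.negOne 2 (ZMod 3) = zA.2 from rfl, h]
    rfl
  rw [kapS_negOne, map_one] at h2
  revert h2
  decide +kernel

/-- the first projection -/
def f1 : ↥GamA →* Equiv.Perm (Fin 8) := (MonoidHom.fst _ _).comp GamA.subtype

theorem mem_ker_f1 (w : ↥GamA) : w ∈ f1.ker ↔ w.1.1 = 1 := by
  rw [MonoidHom.mem_ker]
  rfl

theorem card_ker_f1 : Nat.card f1.ker = 2 := by
  rw [Nat.card_eq_two_iff]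
  refine ⟨⟨⟨1, Subgroup.one_mem _⟩, Subgroup.one_mem _⟩, ⟨⟨zA, zA_mem⟩, (mem_ker_f1 _).2 rfl⟩, ?_, ?_⟩
  · intro h
    apply zA_ne_one
    have := congrArg (fun x : f1.ker => x.1.1) h
    exact this.symm
  · rw [Set.eq_univ_iff_forall]
    rintro ⟨⟨w, hw⟩, hk⟩
    have h1 : w.1 = 1 := (mem_ker_f1 _).1 hk
    rcases (GamA_ker hw).1 h1 with h2 | h2
    · left
      apply Subtype.ext
      apply Subtype.ext
      exact Prod.ext h1 h2
    · right
      rw [Set.mem_singleton_iff]
      apply Subtype.ext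
      apply Subtype.ext
      exact Prod.ext h1 h2

theorem card_range_f1 : Nat.card f1.range = 2 ^ 6 := by
  have h1 := Subgroup.card_eq_card_quotient_mul_card_subgroup f1.ker
  rw [card_ker_f1, card_GamA, Nat.card_congr (QuotientGroup.quotientKerEquivRange f1).toEquiv] at h1
  omega

theorem range_f1_le : f1.range ≤ alternatingGroup (Fin 8) := by
  have h : GamA ≤ (alternatingGroup (Fin 8)).comap (MonoidHom.fst _ _) := by
    unfold GamA
    rw [Subgroup.closure_le]
    intro g hg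
    show g.1 ∈ alternatingGroup (Fin 8)
    rw [Equiv.Perm.mem_alternatingGroup]
    exact sign_gensA g hg
  rintro _ ⟨w, rfl⟩
  exact h w.2

theorem card_alt8 : Nat.card (alternatingGroup (Fin 8)) = 2 ^ 6 * 315 := by
  rw [nat_card_alternatingGroup, Nat.card_eq_fintype_card, Fintype.card_fin]
  rfl

section fieldF

variable (F : Type) [Field F] [Fintype F]

theorem card_PSp (hF : Fintype.card F = 3) : Nat.card (Cfsg.PSp 2 F) = 2 ^ 6 * 405 := by
  have h1 := Cfsg.Agent.S0245.result hF 2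
  have h2 := Cfsg.Agent.S0246.result hF 2 (by norm_num)
  have h3 := Subgroup.card_eq_card_quotient_mul_card_subgroup
    (Subgroup.center (Matrix.symplecticGroup (Fin 2) F))
  rw [h1, h2] at h3
  simp [Finset.prod_range_succ] at h3
  show Nat.card (Matrix.symplecticGroup (Fin 2) F ⧸
    Subgroup.center (Matrix.symplecticGroup (Fin 2) F)) = _
  omega

/-- the second projection, into the projective group -/
noncomputable def f2 (φ : ZMod 3 ≃+* F) : ↥GamA →* Cfsg.PSp 2 F :=
  (QuotientGroup.mk' (Subgroup.center (Matrix.symplecticGroup (Fin 2) F))).comp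
    ((spCongr' φ).toMonoidHom.comp ((MonoidHom.snd _ _).comp GamA.subtype))

theorem ker_f2 (φ : ZMod 3 ≃+* F) : (f2 F φ).ker = f1.ker := by
  ext w
  rw [mem_ker_f1, MonoidHom.mem_ker]
  show (QuotientGroup.mk (spCongr' φ w.1.2) : Cfsg.PSp 2 F) = 1 ↔ _
  rw [QuotientGroup.eq_one_iff, Cfsg.Agent.S0246.mem_center_iff (by norm_num), GamA_ker w.2,
    ← spCongr'_negOne φ, (spCongr' φ).injective.eq_iff, MulEquiv.map_eq_one_iff]

/-- the first half of the statement -/
theorem partA (hF : Fintype.card F = 3) (P : Sylow 2 ↥(alternatingGroup (Fin 8)))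
    (Q : Sylow 2 (Cfsg.PSp 2 F)) :
    Nonempty (↥(P : Subgroup ↥(alternatingGroup (Fin 8))) ≃* ↥(Q : Subgroup (Cfsg.PSp 2 F))) := by
  let φ : ZMod 3 ≃+* F := ZMod.ringEquivOfPrime F Nat.prime_three hF
  let e12 : ↥f1.range ≃* ↥(f2 F φ).range :=
    (QuotientGroup.quotientKerEquivRange f1).symm.trans
      ((QuotientGroup.quotientMulEquivOfEq (ker_f2 F φ).symm).trans
        (QuotientGroup.quotientKerEquivRange (f2 F φ)))
  have hc2 : Nat.card (f2 F φ).range = 2 ^ 6 := by
    rw [← Nat.card_congr e12.toEquiv, card_range_f1]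
  obtain ⟨eQ⟩ := GraphIso.sylow_equiv_of_card (f2 F φ).range 6 405 hc2 (card_PSp F hF)
    (by norm_num) Q
  let HA : Subgroup ↥(alternatingGroup (Fin 8)) := f1.range.subgroupOf (alternatingGroup (Fin 8))
  let eA : ↥HA ≃* ↥f1.range := Subgroup.subgroupOfEquivOfLe range_f1_le
  have hcA : Nat.card HA = 2 ^ 6 := by
    rw [Nat.card_congr eA.toEquiv, card_range_f1]
  obtain ⟨eP⟩ := GraphIso.sylow_equiv_of_card HA 6 315 hcA card_alt8 (by norm_num) P
  exact ⟨eP.trans (eA.trans (e12.trans eQ.symm))⟩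

end fieldF

end Cfsg.Agent.Lib.Helper5.SylSp4
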