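import Mathlib

namespace Cfsg.Agent.Lib.Helper5.SylTor

open Matrix

/-- a hom between finite groups of coprime orders is trivial -/
theorem hom_apply_eq_one_of_coprime {A B : Type*} [Group A] [Group B] [Finite A] [Finite B]
    (h : (Nat.card A).Coprime (Nat.card B)) (f : A →* B) (x : A) : f x = 1 := by
  have h1 : (f x) ^ Nat.card A = 1 := by rw [← map_pow, pow_card_eq_one', map_one]
  have h2 : (f x) ^ Nat.card B = 1 := pow_card_eq_one'
  have h3 := orderOf_dvd_of_pow_eq_one h1
  have h4 := orderOf_dvd_of_pow_eq_one h2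
  have h5 : orderOf (f x) = 1 := Nat.eq_one_of_dvd_coprimes h h3 h4
  exact orderOf_eq_one_iff.1 h5

/-- a matrix-valued hom with determinant one, as a hom to `SL`. -/
def toSLHom {A n F : Type*} [Monoid A] [Fintype n] [DecidableEq n] [CommRing F]
    (φ : A →* Matrix n n F) (h : ∀ x, (φ x).det = 1) : A →* SpecialLinearGroup n F where
  toFun x := (⟨φ x, h x⟩ : SpecialLinearGroup n F)
  map_one' := by
    apply Subtype.ext
    show φ 1 = 1
    exact map_one φ
  map_mul' x y := by
    apply Subtype.ext
    show φ (x * y) = φ x * φ y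
    exact map_mul φ x y

theorem toSLHom_coe {A n F : Type*} [Monoid A] [Fintype n] [DecidableEq n] [CommRing F]
    (φ : A →* Matrix n n F) (h : ∀ x, (φ x).det = 1) (x : A) :
    ((toSLHom φ h x : SpecialLinearGroup n F) : Matrix n n F) = φ x := rfl

theorem toSLHom_injective {A n F : Type*} [Monoid A] [Fintype n] [DecidableEq n] [CommRing F]
    (φ : A →* Matrix n n F) (h : ∀ x, (φ x).det = 1) (hφ : Function.Injective φ) :
    Function.Injective (toSLHom φ h) := by
  intro x y hxy
  apply hφ
  have := congrArg (fun g : SpecialLinearGroup n F => (g : Matrix n n F)) hxy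
  simpa only [toSLHom_coe] using this

/-- the diagonal torus `(F^×)^k → SL_{k+1}(F)`. -/
noncomputable def diagVec {F : Type*} [Field F] (k : ℕ) : (Fin k → Fˣ) →* (Fin (k + 1) → F) where
  toFun x := Fin.snoc (α := fun _ => F) (fun i => ((x i : Fˣ) : F)) (((∏ i, x i)⁻¹ : Fˣ) : F)
  map_one' := by
    funext i
    refine Fin.lastCases ?_ (fun j => ?_) i <;> simp
  map_mul' x y := by
    funext i
    refine Fin.lastCases ?_ (fun j => ?_) i
    · simp [Finset.prod_mul_distrib, mul_comm]
    · simp

theorem diagVec_injective {F : Type*} [Field F] (k : ℕ) : Function.Injective (diagVec (F := F) k) := by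
  intro x y h
  funext i
  have := congrFun h i.castSucc
  simp only [diagVec, MonoidHom.coe_mk, OneHom.coe_mk, Fin.snoc_castSucc] at this
  exact Units.ext this

theorem diagVec_prod {F : Type*} [Field F] (k : ℕ) (x : Fin k → Fˣ) :
    ∏ i, diagVec k x i = 1 := by
  rw [Fin.prod_univ_castSucc]
  simp only [diagVec, MonoidHom.coe_mk, OneHom.coe_mk, Fin.snoc_castSucc, Fin.snoc_last]
  rw [← Units.coe_prod, ← Units.val_mul, mul_inv_cancel, Units.val_one]

noncomputable def diagSL {F : Type*} [Field F] (k : ℕ) :
    (Fin k → Fˣ) →* SpecialLinearGroup (Fin (k + 1)) F :=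
  toSLHom (((Matrix.diagonalRingHom (Fin (k + 1)) F : (Fin (k + 1) → F) →* _)).comp (diagVec k))
    (fun x => by
      simp only [MonoidHom.comp_apply]
      erw [Matrix.diagonalRingHom_apply]
      rw [Matrix.det_diagonal, diagVec_prod])

theorem diagSL_injective {F : Type*} [Field F] (k : ℕ) : Function.Injective (diagSL (F := F) k) := by
  apply toSLHom_injective
  intro x y h
  apply diagVec_injective
  exact Matrix.diagonal_injective h

end Cfsg.Agent.Lib.Helper5.SylTor
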