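import Mathlib
import Cfsg.Agent.Lib.Helper5.SylTor1
import Cfsg.Agent.Lib.Helper5.AltForm

namespace Cfsg.Agent.Lib.Helper5.SylTor

open Polynomial Module

section NT2

variable {q r : ℕ} [hr : Fact r.Prime]

theorem val_pow_sub_one_of_not_dvd {x k : ℕ} (hx : 1 < x) (hx1 : r ∣ x - 1) (hk : ¬ r ∣ k) :
    padicValNat r (x ^ k - 1) = padicValNat r (x - 1) := by
  have hmul : x ^ k - 1 = (x - 1) * ∑ i ∈ Finset.range k, x ^ i := by
    have h1 : 1 ≤ x ^ k := Nat.one_le_pow _ _ (by omega)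
    zify [h1, hx.le]
    rw [mul_geom_sum]
  have hxz : (x : ZMod r) = 1 := by
    have := (ZMod.natCast_eq_zero_iff _ _).2 hx1
    rw [Nat.cast_sub hx.le, sub_eq_zero] at this
    simpa using this
  have hsum : ¬ r ∣ ∑ i ∈ Finset.range k, x ^ i := by
    rw [← ZMod.natCast_eq_zero_iff]
    push_cast
    rw [hxz]
    simp only [one_pow, Finset.sum_const, Finset.card_range, nsmul_eq_mul, mul_one]
    rw [ZMod.natCast_eq_zero_iff]
    exact hk
  have h0 : x - 1 ≠ 0 := by omega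
  have h0' : (∑ i ∈ Finset.range k, x ^ i) ≠ 0 := by
    intro h; rw [h] at hsum; exact hsum (dvd_zero _)
  rw [hmul, padicValNat.mul h0 h0', padicValNat.eq_zero_of_not_dvd hsum, add_zero]

/-- valuation of `q^j - 1` for `r ∤ j`. -/
theorem val_pow_sub_one' (hq : 1 < q) (hrq : ¬ r ∣ q) {j : ℕ} (hj : ¬ r ∣ j) :
    padicValNat r (q ^ j - 1) = if orderOf (q : ZMod r) ∣ j then
      padicValNat r ((cyclotomic (orderOf (q : ZMod r)) ℤ).eval (q : ℤ)).natAbs else 0 := by
  have hq0 : 0 < q := by omega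
  split_ifs with h
  · obtain ⟨k, rfl⟩ := h
    have hd0 : 0 < orderOf (q : ZMod r) := ord_pos hrq
    have hkr : ¬ r ∣ k := fun h' => hj (h'.mul_left _)
    rw [pow_mul, val_pow_sub_one_of_not_dvd (Nat.one_lt_pow hd0.ne' hq)
      ((dvd_pow_sub_one_iff hq0 _).2 dvd_rfl) hkr, val_cyclotomic hq0 hrq]
  · exact padicValNat.eq_zero_of_not_dvd (fun h' => h ((dvd_pow_sub_one_iff hq0 j).1 h'))

/-- the `r`-part of `|Sp_{2n}(q)|` for `n < r`, `r` odd. -/
theorem val_card_Sp (hq : 1 < q) (hrq : ¬ r ∣ q) (hr2 : r ≠ 2) {n : ℕ} (hnr : n < r) :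
    (q ^ (n ^ 2) * ∏ i ∈ Finset.range n, (q ^ (2 * (i + 1)) - 1)).factorization r =
      ((Finset.Icc 1 n).filter (fun i => orderOf (q : ZMod r) ∣ 2 * i)).card *
        padicValNat r ((cyclotomic (orderOf (q : ZMod r)) ℤ).eval (q : ℤ)).natAbs := by
  have hq0 : 0 < q := by omega
  set v := padicValNat r ((cyclotomic (orderOf (q : ZMod r)) ℤ).eval (q : ℤ)).natAbs with hv
  have hne : ∀ i ∈ Finset.range n, q ^ (2 * (i + 1)) - 1 ≠ 0 := by
    intro i _
    have : 1 < q ^ (2 * (i + 1)) := Nat.one_lt_pow (by omega) hq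
    omega
  have hne0 : (∏ i ∈ Finset.range n, (q ^ (2 * (i + 1)) - 1)) ≠ 0 :=
    Finset.prod_ne_zero_iff.2 hne
  rw [Nat.factorization_mul (pow_pos hq0 _).ne' hne0, Finsupp.add_apply,
    Nat.factorization_def _ hr.out,
    padicValNat.eq_zero_of_not_dvd (fun h => hrq (hr.out.dvd_of_dvd_pow h)), zero_add,
    Nat.factorization_prod hne, Finsupp.finsetSum_apply]
  have hterm : ∀ i ∈ Finset.range n, (q ^ (2 * (i + 1)) - 1).factorization r =
      if orderOf (q : ZMod r) ∣ 2 * (i + 1) then v else 0 := by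
    intro i hi
    rw [Finset.mem_range] at hi
    rw [Nat.factorization_def _ hr.out]
    apply val_pow_sub_one' hq hrq
    intro h
    rcases (Nat.Prime.dvd_mul hr.out).1 h with h2 | h2
    · exact hr2 ((Nat.prime_dvd_prime_iff_eq hr.out Nat.prime_two).1 h2)
    · exact absurd (Nat.le_of_dvd (by omega) h2) (by omega)
  rw [Finset.sum_congr rfl hterm, Finset.sum_ite, Finset.sum_const_zero, add_zero, Finset.sum_const,
    smul_eq_mul]
  congr 1
  apply Finset.card_bij (fun j _ => j + 1)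
  · intro j hj
    simp only [Finset.mem_filter, Finset.mem_range, Finset.mem_Icc] at hj ⊢
    exact ⟨⟨by omega, by omega⟩, hj.2⟩
  · intro a _ b _ h; omega
  · intro b hb
    simp only [Finset.mem_filter, Finset.mem_range, Finset.mem_Icc] at hb ⊢
    exact ⟨b - 1, ⟨by omega, by rw [Nat.sub_add_cancel (by omega)]; exact hb.2⟩, by omega⟩

end NT2

end Cfsg.Agent.Lib.Helper5.SylTor
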