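import Mathlib
import Cfsg.Agent.Lib.Helper5.QuadFin

set_option autoImplicit false

/-!
Pairs of flags of totally singular subspaces in a non-degenerate quadratic space:
isometries stabilising both.
-/

namespace Cfsg.Agent.Lib.Helper5.TSFlag

open QuadraticMap Module

universe u v

variable {F : Type u} [Field F] {V : Type v} [AddCommGroup V] [Module F V]

/-- a full flag of totally singular subspaces of length `k` -/
structure IsTSFlag (Q : QuadraticForm F V) (k : ℕ) (Vf : ℕ → Submodule F V) : Prop where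
  zero : Vf 0 = ⊥
  mono : ∀ j, j < k → Vf j ≤ Vf (j + 1)
  rank : ∀ j, j ≤ k → finrank F (Vf j) = j
  sing : ∀ j, j ≤ k → ∀ x ∈ Vf j, Q x = 0

variable {Q : QuadraticForm F V}

theorem IsTSFlag.mono' {k : ℕ} {Vf : ℕ → Submodule F V} (h : IsTSFlag Q k Vf) {j j' : ℕ}
    (hjj : j ≤ j') (hj' : j' ≤ k) : Vf j ≤ Vf j' := by
  induction j', hjj using Nat.le_induction with
  | base => exact le_rfl
  | succ n hn ih => exact (ih (by omega)).trans (h.mono n (by omega))

theorem IsTSFlag.polar_eq_zero {k : ℕ} {Vf : ℕ → Submodule F V} (h : IsTSFlag Q k Vf) {j : ℕ}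
    (hj : j ≤ k) {x y : V} (hx : x ∈ Vf j) (hy : y ∈ Vf j) : polar Q x y = 0 := by
  unfold polar
  rw [h.sing j hj _ ((Vf j).add_mem hx hy), h.sing j hj x hx, h.sing j hj y hy]
  ring

/-- the Siegel transformation attached to two orthogonal singular vectors -/
def siegel (Q : QuadraticForm F V) (u w : V) : V →ₗ[F] V :=
  LinearMap.id + (polarBilin Q u).smulRight w - (polarBilin Q w).smulRight u

theorem siegel_apply (u w x : V) :
    siegel Q u w x = x + polar Q u x • w - polar Q w x • u := by
  simp [siegel]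

theorem siegel_isometry {u w : V} (hu : Q u = 0) (hw : Q w = 0) (huw : polar Q u w = 0) (x : V) :
    Q (siegel Q u w x) = Q x := by
  have h : siegel Q u w x = (1 : F) • x + polar Q u x • w + (-polar Q w x) • u := by
    rw [siegel_apply, one_smul, neg_smul, sub_eq_add_neg]
  rw [h, Cfsg.Agent.Lib.Helper5.map_lin3, hu, hw, polar_comm (⇑Q) w u, huw, polar_comm (⇑Q) x w,
    polar_comm (⇑Q) x u]
  ring

/-- the reflection in a non-singular vector -/
def refl (Q : QuadraticForm F V) (a : V) : V →ₗ[F] V :=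
  LinearMap.id - ((Q a)⁻¹ • polarBilin Q a).smulRight a

theorem refl_apply (a x : V) : refl Q a x = x - ((Q a)⁻¹ * polar Q a x) • a := by
  simp [refl]

theorem refl_isometry {a : V} (ha : Q a ≠ 0) (x : V) : Q (refl Q a x) = Q x := by
  have h : refl Q a x = (1 : F) • x + (-((Q a)⁻¹ * polar Q a x)) • a := by
    rw [refl_apply, one_smul, neg_smul, sub_eq_add_neg]
  rw [h, Cfsg.Agent.Lib.Helper5.map_lin2, polar_comm (⇑Q) x a]
  field_simp
  ring

end Cfsg.Agent.Lib.Helper5.TSFlag
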