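import Mathlib
import Cfsg.Agent.Lib.Helper5.TSFlag1

set_option autoImplicit false

namespace Cfsg.Agent.Lib.Helper5.TSFlag

open QuadraticMap Module

universe u v

variable {F : Type u} [Field F] {V : Type v} [AddCommGroup V] [Module F V]
variable {Q : QuadraticForm F V}

theorem exists_nonsingular_orth [FiniteDimensional F V] (hQ : (polarBilin Q).Nondegenerate)
    (U : Submodule F V) (hU : ∀ x ∈ U, Q x = 0) (hdim : 2 * finrank F U < finrank F V) :
    ∃ a, (∀ x ∈ U, polar Q a x = 0) ∧ Q a ≠ 0 := by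
  by_contra h
  push Not at h
  set Up := LinearMap.BilinForm.orthogonal (polarBilin Q) U with hUp
  have hsing : ∀ a ∈ Up, Q a = 0 := by
    intro a ha
    apply h
    intro x hx
    rw [polar_comm]
    exact ha x hx
  have hle : Up ≤ LinearMap.BilinForm.orthogonal (polarBilin Q) Up := by
    intro b hb n hn
    show polar Q n b = 0
    unfold polar
    rw [hsing _ (Up.add_mem hn hb), hsing n hn, hsing b hb]
    ring
  rw [hUp, LinearMap.BilinForm.orthogonal_orthogonal hQ
    (Cfsg.Agent.Lib.Helper5.polarBilin_isRefl Q), ← hUp] at hle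
  have h1 := Submodule.finrank_mono hle
  have h2 := LinearMap.BilinForm.finrank_orthogonal hQ U
  rw [← hUp] at h2
  have h3 : finrank F U ≤ finrank F V := Submodule.finrank_le U
  omega

/-- the reflection case: an isometry fixing a totally singular subspace of small dimension
pointwise -/
theorem exists_refl [FiniteDimensional F V] (hQ : (polarBilin Q).Nondegenerate)
    (U : Submodule F V) (hU : ∀ x ∈ U, Q x = 0) (hdim : 2 * finrank F U < finrank F V) :
    ∃ g : V →ₗ[F] V, (∀ x, Q (g x) = Q x) ∧ g ≠ LinearMap.id ∧ ∀ x ∈ U, g x = x := by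
  obtain ⟨a, ha, hQa⟩ := exists_nonsingular_orth hQ U hU hdim
  have ha0 : a ≠ 0 := by
    rintro rfl
    exact hQa (QuadraticMap.map_zero Q)
  refine ⟨refl Q a, refl_isometry hQa, ?_, ?_⟩
  · intro h
    have h1 : ∃ x, polar Q a x ≠ 0 := by
      by_contra hcon
      push Not at hcon
      exact ha0 (hQ.1 a hcon)
    obtain ⟨x, hx⟩ := h1
    have h2 := LinearMap.congr_fun h x
    rw [refl_apply, LinearMap.id_apply, sub_eq_self, smul_eq_zero] at h2
    rcases h2 with h2 | h2
    · exact (mul_ne_zero (inv_ne_zero hQa) hx) h2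
    · exact ha0 h2
  · intro x hx
    rw [refl_apply, ha x hx, mul_zero, zero_smul, sub_zero]

/-- the Siegel case -/
theorem exists_siegel (hQ : (polarBilin Q).Nondegenerate) {u w : V} (hu : Q u = 0) (hw : Q w = 0)
    (huw : polar Q u w = 0) (hind : ∀ c : F, w ≠ c • u) (hu0 : u ≠ 0) :
    siegel Q u w ≠ LinearMap.id := by
  intro h
  have h1 : ∃ x, polar Q u x ≠ 0 := by
    by_contra hcon
    push Not at hcon
    exact hu0 (hQ.1 u hcon)
  obtain ⟨x, hx⟩ := h1
  have h2 := LinearMap.congr_fun h x
  rw [siegel_apply, LinearMap.id_apply, add_sub_assoc, add_eq_left, sub_eq_zero] at h2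
  apply hind ((polar Q u x)⁻¹ * polar Q w x)
  rw [mul_smul, ← h2, smul_smul, inv_mul_cancel₀ hx, one_smul]

end Cfsg.Agent.Lib.Helper5.TSFlag
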