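import Mathlib
import Cfsg.Agent.Lib.Helper5.TSFlag2

set_option autoImplicit false

namespace Cfsg.Agent.Lib.Helper5.TSFlag

open QuadraticMap Module

universe u v

variable {F : Type u} [Field F] {V : Type v} [AddCommGroup V] [Module F V]
variable {Q : QuadraticForm F V}

/-- the hyperplane orthogonal to a vector -/
def perp (Q : QuadraticForm F V) (a : V) : Submodule F V := LinearMap.ker (polarBilin Q a)

theorem mem_perp (a x : V) : x ∈ perp Q a ↔ polar Q a x = 0 := by
  rw [perp, LinearMap.mem_ker]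
  rfl

/-- intersecting with a hyperplane not containing a given vector of the subspace lowers the
dimension by one -/
theorem finrank_inf_perp [FiniteDimensional F V] (X : Submodule F V) {a b : V} (hb : b ∈ X)
    (hab : polar Q a b = 1) : finrank F ↥(X ⊓ perp Q a) + 1 = finrank F X := by
  have hb0 : b ≠ 0 := by
    rintro rfl
    rw [polar_zero_right] at hab
    exact zero_ne_one hab
  have h1 : (X ⊓ perp Q a) ⊔ Submodule.span F {b} = X := by
    apply le_antisymm
    · apply sup_le inf_le_left
      rw [Submodule.span_singleton_le_iff_mem]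
      exact hb
    · intro x hx
      rw [Submodule.mem_sup]
      refine ⟨x - polar Q a x • b, ⟨X.sub_mem hx (X.smul_mem _ hb), ?_⟩, polar Q a x • b,
        Submodule.smul_mem _ _ (Submodule.mem_span_singleton_self b), by abel⟩
      show x - polar Q a x • b ∈ perp Q a
      rw [mem_perp, polar_sub_right, polar_smul_right, hab, smul_eq_mul, mul_one, sub_self]
  have h2 : (X ⊓ perp Q a) ⊓ Submodule.span F {b} = ⊥ := by
    rw [eq_bot_iff]
    rintro x ⟨⟨-, hx1⟩, hx2⟩
    obtain ⟨c, rfl⟩ := Submodule.mem_span_singleton.1 hx2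
    have hx1' : c • b ∈ perp Q a := hx1
    rw [mem_perp, polar_smul_right, hab, smul_eq_mul, mul_one] at hx1'
    rw [hx1', zero_smul]
    exact Submodule.zero_mem _
  have h3 := Submodule.finrank_sup_add_finrank_inf_eq (X ⊓ perp Q a) (Submodule.span F {b})
  rw [h1, h2, finrank_bot, finrank_span_singleton hb0] at h3
  omega

section ext

variable {u u' : V} (W : Submodule F V)

/-- the projection onto the orthogonal complement of a hyperbolic pair -/
def projHyp (Q : QuadraticForm F V) (u u' : V) : V →ₗ[F] V :=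
  LinearMap.id - (polarBilin Q u').smulRight u - (polarBilin Q u).smulRight u'

theorem projHyp_apply (x : V) :
    projHyp Q u u' x = x - polar Q u' x • u - polar Q u x • u' := by
  simp [projHyp]

theorem projHyp_mem (hu : Q u = 0) (hu' : Q u' = 0) (huu' : polar Q u u' = 1)
    (hmem : ∀ x, x ∈ W ↔ polar Q u x = 0 ∧ polar Q u' x = 0) (x : V) : projHyp Q u u' x ∈ W := by
  rw [hmem, projHyp_apply]
  have h1 : polar Q u u = 0 := Cfsg.Agent.Lib.Helper5.polar_self_of_singular Q hu
  have h2 : polar Q u' u' = 0 := Cfsg.Agent.Lib.Helper5.polar_self_of_singular Q hu'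
  have h3 : polar Q u' u = 1 := by rw [polar_comm]; exact huu'
  constructor
  · rw [polar_sub_right, polar_sub_right, polar_smul_right, polar_smul_right, h1, huu']
    simp
  · rw [polar_sub_right, polar_sub_right, polar_smul_right, polar_smul_right, h2, h3]
    simp

theorem projHyp_of_mem (hmem : ∀ x, x ∈ W ↔ polar Q u x = 0 ∧ polar Q u' x = 0) {x : V}
    (hx : x ∈ W) : projHyp Q u u' x = x := by
  obtain ⟨h1, h2⟩ := (hmem x).1 hx
  rw [projHyp_apply, h1, h2, zero_smul, zero_smul, sub_zero, sub_zero]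

/-- extension of an endomorphism of the orthogonal complement of a hyperbolic pair by the
identity on the pair -/
def extHyp (Q : QuadraticForm F V) (u u' : V) (W : Submodule F V)
    (hW : ∀ x, projHyp Q u u' x ∈ W) (g' : W →ₗ[F] W) : V →ₗ[F] V :=
  (polarBilin Q u').smulRight u + (polarBilin Q u).smulRight u' +
    W.subtype ∘ₗ g' ∘ₗ (LinearMap.codRestrict W (projHyp Q u u') hW)

theorem extHyp_apply (hW : ∀ x, projHyp Q u u' x ∈ W) (g' : W →ₗ[F] W) (x : V) :
    extHyp Q u u' W hW g' x = polar Q u' x • u + polar Q u x • u' +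
      (g' ⟨projHyp Q u u' x, hW x⟩ : V) := by
  simp only [extHyp, LinearMap.add_apply, LinearMap.smulRight_apply, LinearMap.comp_apply,
    Submodule.subtype_apply, polarBilin_apply_apply]
  rfl

theorem extHyp_isometry (hu : Q u = 0) (hu' : Q u' = 0) (huu' : polar Q u u' = 1)
    (hmem : ∀ x, x ∈ W ↔ polar Q u x = 0 ∧ polar Q u' x = 0)
    (hW : ∀ x, projHyp Q u u' x ∈ W) (g' : W →ₗ[F] W)
    (hg' : ∀ w : W, Q (g' w : V) = Q (w : V)) (x : V) :
    Q (extHyp Q u u' W hW g' x) = Q x := by
  have key : ∀ (a b : F) (w : V), w ∈ W → Q (a • u + b • u' + w) = a * b + Q w := by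
    intro a b w hw
    obtain ⟨h1, h2⟩ := (hmem w).1 hw
    have : a • u + b • u' + w = a • u + b • u' + (1 : F) • w := by rw [one_smul]
    rw [this, Cfsg.Agent.Lib.Helper5.map_lin3, hu, hu', huu', h1, h2]
    ring
  rw [extHyp_apply, key _ _ _ (g' ⟨projHyp Q u u' x, hW x⟩).2, hg']
  have hx : x = polar Q u' x • u + polar Q u x • u' + projHyp Q u u' x := by
    rw [projHyp_apply]
    abel
  conv_rhs => rw [hx, key _ _ _ (hW x)]

theorem extHyp_of_mem (hmem : ∀ x, x ∈ W ↔ polar Q u x = 0 ∧ polar Q u' x = 0)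
    (hW : ∀ x, projHyp Q u u' x ∈ W) (g' : W →ₗ[F] W) {x : V} (hx : x ∈ W) :
    extHyp Q u u' W hW g' x = (g' ⟨x, hx⟩ : V) := by
  obtain ⟨h1, h2⟩ := (hmem x).1 hx
  rw [extHyp_apply, h1, h2, zero_smul, zero_smul, zero_add, zero_add]
  congr 2
  exact Subtype.ext (projHyp_of_mem W hmem hx)

end ext

end Cfsg.Agent.Lib.Helper5.TSFlag
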