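import Mathlib
import Cfsg.Agent.Lib.Helper5.TSFlag3

set_option autoImplicit false

namespace Cfsg.Agent.Lib.Helper5.TSFlag

open QuadraticMap Module

universe u v

variable {F : Type u} [Field F] {V : Type v} [AddCommGroup V] [Module F V]
variable {Q : QuadraticForm F V}

theorem finrank_span_pair_le (a b : V) : finrank F ↥(Submodule.span F {a, b}) ≤ 2 := by
  classical
  have h := finrank_span_le_card (R := F) ({a, b} : Set V)
  have h2 : ({a, b} : Set V).toFinset.card ≤ 2 := by
    have : ({a, b} : Set V).toFinset = {a, b} := by ext; simp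
    rw [this]
    exact Finset.card_le_two
  exact h.trans h2

theorem IsTSFlag.succ_eq [FiniteDimensional F V] {k : ℕ} {Vf : ℕ → Submodule F V}
    (h : IsTSFlag Q k Vf) {i : ℕ} (hi : i < k) {a : V} (ha : a ∈ Vf (i + 1)) (ha' : a ∉ Vf i) :
    Vf (i + 1) = Vf i ⊔ Submodule.span F {a} := by
  symm
  have hle : Vf i ⊔ Submodule.span F {a} ≤ Vf (i + 1) := by
    apply sup_le (h.mono i hi)
    rw [Submodule.span_singleton_le_iff_mem]
    exact ha
  apply Submodule.eq_of_le_of_finrank_le hle
  have hlt : Vf i < Vf i ⊔ Submodule.span F {a} := by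
    apply lt_of_le_of_ne le_sup_left
    intro heq
    apply ha'
    rw [heq]
    exact Submodule.mem_sup_right (Submodule.mem_span_singleton_self a)
  have := Submodule.finrank_lt_finrank_of_lt hlt
  rw [h.rank i (by omega)] at this
  rw [h.rank (i + 1) (by omega)]
  omega

theorem IsTSFlag.exists_not_mem [FiniteDimensional F V] {k : ℕ} {Vf : ℕ → Submodule F V}
    (h : IsTSFlag Q k Vf) {i : ℕ} (hi : i < k) : ∃ a, a ∈ Vf (i + 1) ∧ a ∉ Vf i := by
  have hlt : Vf i < Vf (i + 1) := by
    apply lt_of_le_of_ne (h.mono i hi)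
    intro heq
    have h1 := h.rank i (by omega)
    have h2 := h.rank (i + 1) (by omega)
    rw [heq] at h1
    omega
  obtain ⟨a, ha, ha'⟩ := SetLike.exists_of_lt hlt
  exact ⟨a, ha, ha'⟩

/-- index shift for the reduced flag -/
def redIdx (i j : ℕ) : ℕ := if j < i then j else j + 1

theorem redIdx_mono (i : ℕ) {j j' : ℕ} (h : j ≤ j') : redIdx i j ≤ redIdx i j' := by
  unfold redIdx
  split_ifs <;> omega

theorem redIdx_le (i : ℕ) {j k : ℕ} (h : j ≤ k) : redIdx i j ≤ k + 1 := by
  unfold redIdx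
  split_ifs <;> omega

/-- the reduced flag in the orthogonal complement of a hyperbolic pair -/
def redFlag (Vf : ℕ → Submodule F V) (W : Submodule F V) (i : ℕ) (j : ℕ) : Submodule F W :=
  (Vf (redIdx i j) ⊓ W).comap W.subtype

theorem mem_redFlag (Vf : ℕ → Submodule F V) (W : Submodule F V) (i j : ℕ) (x : W) :
    x ∈ redFlag Vf W i j ↔ (x : V) ∈ Vf (redIdx i j) := by
  unfold redFlag
  rw [Submodule.mem_comap, Submodule.mem_inf]
  simp

theorem finrank_redFlag [FiniteDimensional F V] (Vf : ℕ → Submodule F V) (W : Submodule F V)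
    (i j : ℕ) : finrank F ↥(redFlag Vf W i j) = finrank F ↥(Vf (redIdx i j) ⊓ W) :=
  (Submodule.comapSubtypeEquivOfLe (inf_le_right : Vf (redIdx i j) ⊓ W ≤ W)).finrank_eq

theorem isTSFlag_redFlag [FiniteDimensional F V] {k : ℕ} {Vf : ℕ → Submodule F V}
    (h : IsTSFlag Q (k + 1) Vf) {i : ℕ} (hi : i < k + 1) {a b : V} (W : Submodule F V)
    (hmem : ∀ x, x ∈ W ↔ polar Q b x = 0 ∧ polar Q a x = 0)
    (hb : b ∈ Vf (i + 1)) (hab : polar Q a b = 1) (hVi : Vf i ≤ W) :
    IsTSFlag (Q.comp W.subtype) k (redFlag Vf W i) := by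
  have hrank : ∀ j, j ≤ k → finrank F ↥(redFlag Vf W i j) = j := by
    intro j hj
    rw [finrank_redFlag]
    by_cases hji : j < i
    · have e : redIdx i j = j := if_pos hji
      have : Vf j ⊓ W = Vf j :=
        inf_eq_left.2 ((h.mono' (by omega) (by omega)).trans hVi)
      rw [e, this, h.rank j (by omega)]
    · have e : redIdx i j = j + 1 := if_neg hji
      rw [e]
      have hbj : b ∈ Vf (j + 1) := h.mono' (by omega) (by omega) hb
      have : Vf (j + 1) ⊓ W = Vf (j + 1) ⊓ perp Q a := by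
        ext x
        rw [Submodule.mem_inf, Submodule.mem_inf, hmem, mem_perp]
        constructor
        · rintro ⟨h1, -, h2⟩
          exact ⟨h1, h2⟩
        · rintro ⟨h1, h2⟩
          exact ⟨h1, h.polar_eq_zero (by omega) hbj h1, h2⟩
      rw [this]
      have := finrank_inf_perp (Q := Q) (Vf (j + 1)) hbj hab
      rw [h.rank (j + 1) (by omega)] at this
      omega
  refine ⟨?_, ?_, hrank, ?_⟩
  · have := hrank 0 (Nat.zero_le k)
    exact Submodule.finrank_eq_zero.1 this
  · intro j hj x hx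
    rw [mem_redFlag] at hx ⊢
    exact h.mono' (redIdx_mono i (Nat.le_succ j)) (redIdx_le i (by omega)) hx
  · intro j hj x hx
    rw [mem_redFlag] at hx
    rw [QuadraticMap.comp_apply]
    exact h.sing _ (redIdx_le i hj) _ hx

end Cfsg.Agent.Lib.Helper5.TSFlag
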