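import Mathlib
import Cfsg.Agent.Lib.Helper5.TSFlag4

set_option autoImplicit false

namespace Cfsg.Agent.Lib.Helper5.TSFlag

open QuadraticMap Module

universe u v

variable {F : Type u} [Field F]

/-- the reduction step: a hyperbolic pair `(a, b)` with `a ∈ Vf (i+1)`, `b ∈ Vf' (i+1)` and
the two flags agreeing up to index `i`. -/
theorem step_hyp {V : Type v} [AddCommGroup V] [Module F V] [FiniteDimensional F V]
    {Q : QuadraticForm F V} (hQ : (polarBilin Q).Nondegenerate) {k : ℕ}
    (hdim : 2 * (k + 1) + 2 ≤ finrank F V) {Vf Vf' : ℕ → Submodule F V}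
    (h : IsTSFlag Q (k + 1) Vf) (h' : IsTSFlag Q (k + 1) Vf') {i : ℕ} (hik : i < k + 1)
    (heq : Vf i = Vf' i) {a b : V} (ha : a ∈ Vf (i + 1)) (hb : b ∈ Vf' (i + 1))
    (hab : polar Q a b = 1)
    (ih : ∀ (W : Submodule F V), (polarBilin (Q.comp W.subtype)).Nondegenerate →
      2 * k + 2 ≤ finrank F W → ∀ Xf Xf' : ℕ → Submodule F W,
      IsTSFlag (Q.comp W.subtype) k Xf → IsTSFlag (Q.comp W.subtype) k Xf' →
      ∃ g : W →ₗ[F] W, (∀ x, (Q.comp W.subtype) (g x) = (Q.comp W.subtype) x) ∧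
        g ≠ LinearMap.id ∧ (∀ j, j ≤ k → ∀ x ∈ Xf j, g x ∈ Xf j) ∧
        (∀ j, j ≤ k → ∀ x ∈ Xf' j, g x ∈ Xf' j)) :
    ∃ g : V →ₗ[F] V, (∀ x, Q (g x) = Q x) ∧ g ≠ LinearMap.id ∧
      (∀ j, j ≤ k + 1 → ∀ x ∈ Vf j, g x ∈ Vf j) ∧
      (∀ j, j ≤ k + 1 → ∀ x ∈ Vf' j, g x ∈ Vf' j) := by
  have hQa : Q a = 0 := h.sing (i + 1) (by omega) a ha
  have hQb : Q b = 0 := h'.sing (i + 1) (by omega) b hb
  have hba : polar Q b a = 1 := by rw [polar_comm]; exact hab
  have hVa : ∀ x ∈ Vf i, polar Q a x = 0 := fun x hx =>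
    h.polar_eq_zero (j := i + 1) (by omega) ha (h.mono i hik hx)
  have hVb : ∀ x ∈ Vf i, polar Q b x = 0 := fun x hx =>
    h'.polar_eq_zero (j := i + 1) (by omega) hb (h'.mono i hik (heq ▸ hx))
  obtain ⟨hWnd, -, hmem⟩ := Cfsg.Agent.Lib.Helper5.hyp_complement Q hQ hQa hQb hab
  set W := LinearMap.BilinForm.orthogonal (polarBilin Q) (Submodule.span F {a, b}) with hWdef
  have hdimW : 2 * k + 2 ≤ finrank F W := by
    have h1 := LinearMap.BilinForm.finrank_orthogonal hQ (Submodule.span F {a, b})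
    have h2 := finrank_span_pair_le (F := F) a b
    rw [← hWdef] at h1
    omega
  have hViW : Vf i ≤ W := fun x hx => (hmem x).2 ⟨hVa x hx, hVb x hx⟩
  have hViW' : Vf' i ≤ W := heq ▸ hViW
  have hF := isTSFlag_redFlag h hik W hmem ha hba hViW
  have hF' := isTSFlag_redFlag h' hik W (fun x => (hmem x).trans and_comm) hb hab hViW'
  obtain ⟨g', hg'1, hg'2, hg'3, hg'4⟩ := ih W hWnd hdimW _ _ hF hF'
  have hW : ∀ x, projHyp Q a b x ∈ W := projHyp_mem W hQa hQb hab hmem
  have hii : redIdx i i = i + 1 := if_neg (lt_irrefl i)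
  -- `Vf (i+1) ⊓ W = Vf i`
  have hVi_eq : Vf (i + 1) ⊓ W = Vf i := by
    symm
    apply Submodule.eq_of_le_of_finrank_eq (le_inf (h.mono i hik) hViW)
    have := hF.rank i (by omega)
    rw [finrank_redFlag, hii] at this
    rw [this, h.rank i (by omega)]
  have hVi_eq' : Vf' (i + 1) ⊓ W = Vf' i := by
    symm
    apply Submodule.eq_of_le_of_finrank_eq (le_inf (h'.mono i hik) hViW')
    have := hF'.rank i (by omega)
    rw [finrank_redFlag, hii] at this
    rw [this, h'.rank i (by omega)]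
  refine ⟨extHyp Q a b W hW g', extHyp_isometry W hQa hQb hab hmem hW g' (fun w => hg'1 w),
    ?_, ?_, ?_⟩
  · intro hid
    apply hg'2
    ext w
    have := LinearMap.congr_fun hid (w : V)
    rw [extHyp_of_mem W hmem hW g' w.2, LinearMap.id_apply] at this
    rw [LinearMap.id_apply]
    exact this
  · intro j hj x hx
    by_cases hji : j ≤ i
    · have hxi : x ∈ Vf i := h.mono' hji (by omega) hx
      have hxW : x ∈ W := hViW hxi
      rw [extHyp_of_mem W hmem hW g' hxW]
      by_cases hji' : j < i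
      · have e : redIdx i j = j := if_pos hji'
        have h1 : (⟨x, hxW⟩ : W) ∈ redFlag Vf W i j := by
          rw [mem_redFlag, e]; exact hx
        have h2 := hg'3 j (by omega) _ h1
        rw [mem_redFlag, e] at h2
        exact h2
      · have hji'' : j = i := by omega
        subst hji''
        have h1 : (⟨x, hxW⟩ : W) ∈ redFlag Vf W j j := by
          rw [mem_redFlag, hii]; exact h.mono j hik hx
        have h2 := hg'3 j (by omega) _ h1
        rw [mem_redFlag, hii] at h2
        have h3 : (g' ⟨x, hxW⟩ : V) ∈ Vf (j + 1) ⊓ W := ⟨h2, (g' ⟨x, hxW⟩).2⟩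
        rw [hVi_eq] at h3
        exact h3
    · have haj : a ∈ Vf j := h.mono' (by omega) hj ha
      have hax : polar Q a x = 0 := h.polar_eq_zero hj haj hx
      rw [extHyp_apply, hax, zero_smul, add_zero]
      apply (Vf j).add_mem ((Vf j).smul_mem _ haj)
      have e : redIdx i (j - 1) = j := by
        unfold redIdx
        rw [if_neg (by omega)]
        omega
      have hp : projHyp Q a b x ∈ Vf j := by
        rw [projHyp_apply, hax, zero_smul, sub_zero]
        exact (Vf j).sub_mem hx ((Vf j).smul_mem _ haj)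
      have h1 : (⟨projHyp Q a b x, hW x⟩ : W) ∈ redFlag Vf W i (j - 1) := by
        rw [mem_redFlag, e]; exact hp
      have h2 := hg'3 (j - 1) (by omega) _ h1
      rw [mem_redFlag, e] at h2
      exact h2
  · intro j hj x hx
    by_cases hji : j ≤ i
    · have hxi : x ∈ Vf' i := h'.mono' hji (by omega) hx
      have hxW : x ∈ W := hViW' hxi
      rw [extHyp_of_mem W hmem hW g' hxW]
      by_cases hji' : j < i
      · have e : redIdx i j = j := if_pos hji'
        have h1 : (⟨x, hxW⟩ : W) ∈ redFlag Vf' W i j := by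
          rw [mem_redFlag, e]; exact hx
        have h2 := hg'4 j (by omega) _ h1
        rw [mem_redFlag, e] at h2
        exact h2
      · have hji'' : j = i := by omega
        subst hji''
        have h1 : (⟨x, hxW⟩ : W) ∈ redFlag Vf' W j j := by
          rw [mem_redFlag, hii]; exact h'.mono j hik hx
        have h2 := hg'4 j (by omega) _ h1
        rw [mem_redFlag, hii] at h2
        have h3 : (g' ⟨x, hxW⟩ : V) ∈ Vf' (j + 1) ⊓ W := ⟨h2, (g' ⟨x, hxW⟩).2⟩
        rw [hVi_eq'] at h3
        exact h3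
    · have hbj : b ∈ Vf' j := h'.mono' (by omega) hj hb
      have hbx : polar Q b x = 0 := h'.polar_eq_zero hj hbj hx
      rw [extHyp_apply, hbx, zero_smul, zero_add]
      apply (Vf' j).add_mem ((Vf' j).smul_mem _ hbj)
      have e : redIdx i (j - 1) = j := by
        unfold redIdx
        rw [if_neg (by omega)]
        omega
      have hp : projHyp Q a b x ∈ Vf' j := by
        rw [projHyp_apply, hbx, zero_smul, sub_zero]
        exact (Vf' j).sub_mem hx ((Vf' j).smul_mem _ hbj)
      have h1 : (⟨projHyp Q a b x, hW x⟩ : W) ∈ redFlag Vf' W i (j - 1) := by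
        rw [mem_redFlag, e]; exact hp
      have h2 := hg'4 (j - 1) (by omega) _ h1
      rw [mem_redFlag, e] at h2
      exact h2

end Cfsg.Agent.Lib.Helper5.TSFlag
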