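import Mathlib
import Cfsg.Agent.Lib.Helper5.TSFlag5

set_option autoImplicit false

namespace Cfsg.Agent.Lib.Helper5.TSFlag

open QuadraticMap Module

universe u v

variable {F : Type u} [Field F]

/-- Any two full flags of totally singular subspaces of length `k` in a non-degenerate quadratic
space of dimension at least `2k+2` are stabilised by a common non-trivial isometry. -/
theorem exists_isometry_of_flags (k : ℕ) : ∀ (V : Type v) [AddCommGroup V] [Module F V]
    [FiniteDimensional F V] (Q : QuadraticForm F V), (polarBilin Q).Nondegenerate →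
    2 * k + 2 ≤ finrank F V → ∀ Vf Vf' : ℕ → Submodule F V, IsTSFlag Q k Vf → IsTSFlag Q k Vf' →
    ∃ g : V →ₗ[F] V, (∀ x, Q (g x) = Q x) ∧ g ≠ LinearMap.id ∧
      (∀ j, j ≤ k → ∀ x ∈ Vf j, g x ∈ Vf j) ∧ (∀ j, j ≤ k → ∀ x ∈ Vf' j, g x ∈ Vf' j) := by
  induction k with
  | zero =>
    intro V _ _ _ Q hQ hdim Vf Vf' h h'
    obtain ⟨g, hg1, hg2, -⟩ := exists_refl hQ ⊥
      (by intro x hx; rw [(Submodule.mem_bot F).1 hx, QuadraticMap.map_zero])
      (by rw [finrank_bot]; omega)
    refine ⟨g, hg1, hg2, ?_, ?_⟩
    · intro j hj x hx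
      have hj0 : j = 0 := by omega
      subst hj0
      rw [h.zero] at hx ⊢
      rw [(Submodule.mem_bot F).1 hx, map_zero]
      exact Submodule.zero_mem _
    · intro j hj x hx
      have hj0 : j = 0 := by omega
      subst hj0
      rw [h'.zero] at hx ⊢
      rw [(Submodule.mem_bot F).1 hx, map_zero]
      exact Submodule.zero_mem _
  | succ k ih =>
    intro V _ _ _ Q hQ hdim Vf Vf' h h'
    classical
    by_cases hne : ∃ i, i < k + 1 ∧ Vf (i + 1) ≠ Vf' (i + 1)
    · obtain ⟨hik, hVne⟩ := Nat.find_spec hne
      have hmin : ∀ j, j < Nat.find hne → Vf (j + 1) = Vf' (j + 1) := by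
        intro j hj
        by_contra hcon
        exact Nat.find_min hne hj ⟨by omega, hcon⟩
      set i := Nat.find hne with hi_def
      have heq : ∀ j, j ≤ i → Vf j = Vf' j := by
        intro j hj
        rcases j with _ | j
        · rw [h.zero, h'.zero]
        · exact hmin j (by omega)
      obtain ⟨a, ha, ha'⟩ := h.exists_not_mem hik
      obtain ⟨b, hb, hb'⟩ := h'.exists_not_mem hik
      have hQa : Q a = 0 := h.sing (i + 1) (by omega) a ha
      have hQb : Q b = 0 := h'.sing (i + 1) (by omega) b hb
      by_cases hab : polar Q a b = 0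
      · have hVa : ∀ x ∈ Vf i, polar Q a x = 0 := fun x hx =>
          h.polar_eq_zero (j := i + 1) (by omega) ha (h.mono i hik hx)
        have hVb : ∀ x ∈ Vf i, polar Q b x = 0 := fun x hx =>
          h'.polar_eq_zero (j := i + 1) (by omega) hb (h'.mono i hik (heq i le_rfl ▸ hx))
        have hind : ∀ c : F, b ≠ c • a := by
          intro c hc
          apply hVne
          have h1 := h'.succ_eq hik hb hb'
          have h2 : Vf' (i + 1) ≤ Vf (i + 1) := by
            rw [h1, ← heq i le_rfl]
            apply sup_le (h.mono i hik)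
            rw [Submodule.span_singleton_le_iff_mem, hc]
            exact (Vf (i + 1)).smul_mem c ha
          symm
          apply Submodule.eq_of_le_of_finrank_eq h2
          rw [h.rank (i + 1) (by omega), h'.rank (i + 1) (by omega)]
        have ha0 : a ≠ 0 := by
          rintro rfl
          exact ha' (Submodule.zero_mem _)
        refine ⟨siegel Q a b, siegel_isometry hQa hQb hab,
          exists_siegel hQ hQa hQb hab hind ha0, ?_, ?_⟩
        · intro j hj x hx
          rw [siegel_apply]
          by_cases hji : j ≤ i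
          · have hxi : x ∈ Vf i := h.mono' hji (by omega) hx
            rw [hVa x hxi, hVb x hxi, zero_smul, zero_smul, add_zero, sub_zero]
            exact hx
          · have haj : a ∈ Vf j := h.mono' (by omega) hj ha
            rw [h.polar_eq_zero hj haj hx, zero_smul, add_zero]
            exact (Vf j).sub_mem hx ((Vf j).smul_mem _ haj)
        · intro j hj x hx
          rw [siegel_apply]
          by_cases hji : j ≤ i
          · have hxi : x ∈ Vf i := by
              rw [heq i le_rfl]
              exact h'.mono' hji (by omega) hx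
            rw [hVa x hxi, hVb x hxi, zero_smul, zero_smul, add_zero, sub_zero]
            exact hx
          · have hbj : b ∈ Vf' j := h'.mono' (by omega) hj hb
            rw [h'.polar_eq_zero hj hbj hx, zero_smul, sub_zero]
            exact (Vf' j).add_mem hx ((Vf' j).smul_mem _ hbj)
      · have hb₁ : (polar Q a b)⁻¹ • b ∈ Vf' (i + 1) := (Vf' (i + 1)).smul_mem _ hb
        have hab₁ : polar Q a ((polar Q a b)⁻¹ • b) = 1 := by
          rw [polar_smul_right, smul_eq_mul, inv_mul_cancel₀ hab]
        exact step_hyp hQ hdim h h' hik (heq i le_rfl) ha hb₁ hab₁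
          (fun W hWnd hdimW Xf Xf' hX hX' => ih W (Q.comp W.subtype) hWnd hdimW Xf Xf' hX hX')
    · push Not at hne
      have heq : ∀ j, j ≤ k + 1 → Vf j = Vf' j := by
        intro j hj
        rcases j with _ | j
        · rw [h.zero, h'.zero]
        · exact hne j (by omega)
      obtain ⟨g, hg1, hg2, hg3⟩ := exists_refl hQ (Vf (k + 1)) (h.sing (k + 1) le_rfl)
        (by rw [h.rank (k + 1) le_rfl]; omega)
      refine ⟨g, hg1, hg2, ?_, ?_⟩
      · intro j hj x hx
        rw [hg3 x (h.mono' hj le_rfl hx)]
        exact hx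
      · intro j hj x hx
        rw [← heq j hj] at hx ⊢
        rw [hg3 x (h.mono' hj le_rfl hx)]
        exact hx

end Cfsg.Agent.Lib.Helper5.TSFlag
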