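import Mathlib
import Cfsg.Agent.Lib.Helper5.TSFlag6

set_option autoImplicit false

namespace Cfsg.Agent.Lib.Helper5.TSFlag

open QuadraticMap Module

universe u v

variable {F : Type u} [Field F] {V : Type v} [AddCommGroup V] [Module F V]
variable {Q : QuadraticForm F V}

theorem polar_map_of_isometry (T : V →ₗ[F] V) (hT : ∀ x, Q (T x) = Q x) (x y : V) :
    polar Q (T x) (T y) = polar Q x y := by
  unfold polar
  rw [← map_add, hT, hT, hT]

theorem injective_of_isometry (hQ : (polarBilin Q).Nondegenerate) (T : V →ₗ[F] V)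
    (hT : ∀ x, Q (T x) = Q x) : Function.Injective T := by
  rw [← LinearMap.ker_eq_bot, LinearMap.ker_eq_bot']
  intro x hx
  apply hQ.1
  intro y
  show polar Q x y = 0
  rw [← polar_map_of_isometry T hT, hx, polar_zero_left]

/-- a linear map stabilising two nested subspaces with one-dimensional quotient over the field with
two elements acts trivially on the quotient -/
theorem sub_mem_of_stab [FiniteDimensional F V] (hF2 : ∀ c : F, c = 0 ∨ c = 1)
    (T : V →ₗ[F] V) (U' U : Submodule F V)
    (hle : U' ≤ U) (hrank : finrank F U = finrank F U' + 1)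
    (hU : ∀ x, T x ∈ U ↔ x ∈ U) (hU' : ∀ x, T x ∈ U' ↔ x ∈ U') (x : V) (hx : x ∈ U) :
    T x - x ∈ U' := by
  have hlt : U' < U := by
    apply lt_of_le_of_ne hle
    intro h
    rw [h] at hrank
    omega
  obtain ⟨a, haU, haU'⟩ := SetLike.exists_of_lt hlt
  have hsup : U' ⊔ Submodule.span F {a} = U := by
    have hle2 : U' ⊔ Submodule.span F {a} ≤ U := by
      apply sup_le hle
      rw [Submodule.span_singleton_le_iff_mem]
      exact haU
    apply Submodule.eq_of_le_of_finrank_le hle2
    have hlt2 : U' < U' ⊔ Submodule.span F {a} := by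
      apply lt_of_le_of_ne le_sup_left
      intro heq
      apply haU'
      rw [heq]
      exact Submodule.mem_sup_right (Submodule.mem_span_singleton_self a)
    have := Submodule.finrank_lt_finrank_of_lt hlt2
    omega
  have hdec : ∀ y ∈ U, ∃ w ∈ U', ∃ c : F, y = w + c • a := by
    intro y hy
    rw [← hsup, Submodule.mem_sup] at hy
    obtain ⟨w, hw, z, hz, rfl⟩ := hy
    obtain ⟨c, rfl⟩ := Submodule.mem_span_singleton.1 hz
    exact ⟨w, hw, c, rfl⟩
  -- `T a - a ∈ U'`
  have hTa : T a - a ∈ U' := by
    obtain ⟨w, hw, c, hc⟩ := hdec (T a) ((hU a).2 haU)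
    rcases hF2 c with rfl | rfl
    · exfalso
      apply haU'
      rw [← hU', hc, zero_smul, add_zero]
      exact hw
    · rw [hc, one_smul, add_sub_cancel_right]
      exact hw
  obtain ⟨w, hw, c, rfl⟩ := hdec x hx
  have : T (w + c • a) - (w + c • a) = (T w - w) + c • (T a - a) := by
    rw [map_add, map_smul, smul_sub]
    abel
  rw [this]
  exact U'.add_mem (U'.sub_mem ((hU' w).2 hw) hw) (U'.smul_mem c hTa)

theorem f2_arith (hF2 : ∀ c : F, c = 0 ∨ c = 1) (α β γ δ : F) (c1 : α * β = 0) (c2 : γ * δ = 0)
    (c3 : α * δ + β * γ = 1) :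
    α * β + β * δ = 0 ∧ γ * β + δ * δ = 1 ∧ α * α + β * γ = 1 ∧ γ * α + δ * γ = 0 := by
  rcases hF2 α with rfl | rfl <;> rcases hF2 β with rfl | rfl <;> rcases hF2 γ with rfl | rfl <;>
    rcases hF2 δ with rfl | rfl <;> simp_all

/-- the middle step: the square of an isometry stabilising `U` acts trivially on `U^⊥/U` when this
is a hyperbolic plane over the field with two elements -/
theorem sq_sub_mem_of_hyp [FiniteDimensional F V] (hF2 : ∀ c : F, c = 0 ∨ c = 1)
    (hQ : (polarBilin Q).Nondegenerate)
    (T : V →ₗ[F] V) (hT : ∀ x, Q (T x) = Q x) (U : Submodule F V) (hUs : ∀ x ∈ U, Q x = 0)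
    (hU : ∀ x, T x ∈ U ↔ x ∈ U)
    (hUp : ∀ x, T x ∈ LinearMap.BilinForm.orthogonal (polarBilin Q) U ↔
      x ∈ LinearMap.BilinForm.orthogonal (polarBilin Q) U)
    (hdim : finrank F V = 2 * finrank F U + 2)
    {e f : V} (he : e ∈ LinearMap.BilinForm.orthogonal (polarBilin Q) U)
    (hf : f ∈ LinearMap.BilinForm.orthogonal (polarBilin Q) U) (hQe : Q e = 0) (hQf : Q f = 0)
    (hef : polar Q e f = 1) (x : V)
    (hx : x ∈ LinearMap.BilinForm.orthogonal (polarBilin Q) U) : T (T x) - x ∈ U := by
  set P := LinearMap.BilinForm.orthogonal (polarBilin Q) U with hP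
  have hfe : polar Q f e = 1 := by rw [polar_comm]; exact hef
  have hee : polar Q e e = 0 := Cfsg.Agent.Lib.Helper5.polar_self_of_singular Q hQe
  have hff : polar Q f f = 0 := Cfsg.Agent.Lib.Helper5.polar_self_of_singular Q hQf
  have hUP : U ≤ P := by
    intro y hy n hn
    show polar Q n y = 0
    unfold polar
    rw [hUs _ (U.add_mem hn hy), hUs n hn, hUs y hy]
    ring
  have hPU : ∀ y ∈ P, ∀ w ∈ U, polar Q y w = 0 := by
    intro y hy w hw
    rw [polar_comm]
    exact hy w hw
  -- elements of `P` orthogonal to `e` and `f` lie in `U`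
  have hkey : ∀ y ∈ P, polar Q e y = 0 → polar Q f y = 0 → y ∈ U := by
    intro y hy h1 h2
    have hfP := LinearMap.BilinForm.finrank_orthogonal hQ U
    rw [← hP] at hfP
    have r1 := finrank_inf_perp (Q := Q) P hf hef
    have heP1 : e ∈ P ⊓ perp Q e := ⟨he, (mem_perp e e).2 hee⟩
    have r2 := finrank_inf_perp (Q := Q) (P ⊓ perp Q e) heP1 hfe
    have hle : U ≤ (P ⊓ perp Q e) ⊓ perp Q f := by
      intro w hw
      refine ⟨⟨hUP hw, (mem_perp e w).2 (hPU e he w hw)⟩, (mem_perp f w).2 (hPU f hf w hw)⟩
    have heq : U = (P ⊓ perp Q e) ⊓ perp Q f := by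
      apply Submodule.eq_of_le_of_finrank_eq hle
      omega
    rw [heq]
    exact ⟨⟨hy, (mem_perp e y).2 h1⟩, (mem_perp f y).2 h2⟩
  have hdec : ∀ y ∈ P, y - polar Q f y • e - polar Q e y • f ∈ U := by
    intro y hy
    apply hkey
    · exact P.sub_mem (P.sub_mem hy (P.smul_mem _ he)) (P.smul_mem _ hf)
    · rw [polar_sub_right, polar_sub_right, polar_smul_right, polar_smul_right, hee, hef]
      simp
    · rw [polar_sub_right, polar_sub_right, polar_smul_right, polar_smul_right, hff, hfe]
      simp
  have hQdec : ∀ y ∈ P, Q y = polar Q f y * polar Q e y := by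
    intro y hy
    have hw := hdec y hy
    set w := y - polar Q f y • e - polar Q e y • f with hwdef
    have hy' : y = (1 : F) • w + polar Q f y • e + polar Q e y • f := by
      rw [one_smul, hwdef]
      abel
    have h1 : polar Q w e = 0 := by rw [polar_comm]; exact hPU e he w hw
    have h2 : polar Q w f = 0 := by rw [polar_comm]; exact hPU f hf w hw
    conv_lhs => rw [hy']
    rw [Cfsg.Agent.Lib.Helper5.map_lin3, hUs w hw, hQe, hQf, h1, h2, hef]
    ring
  have hTP : ∀ y ∈ P, T y ∈ P := fun y hy => (hUp y).2 hy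
  -- expansion of the polar form against an element of `P`
  have hexp : ∀ y ∈ P, ∀ z ∈ P, polar Q y z =
      polar Q f y * polar Q e z + polar Q e y * polar Q f z := by
    intro y hy z hz
    have hw := hdec y hy
    set w := y - polar Q f y • e - polar Q e y • f with hwdef
    have hy' : y = w + polar Q f y • e + polar Q e y • f := by
      rw [hwdef]
      abel
    have h1 : polar Q w z = 0 := by rw [polar_comm]; exact hPU z hz w hw
    conv_lhs => rw [hy']
    rw [polar_add_left, polar_add_left, polar_smul_left, polar_smul_left, h1]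
    simp
  set α := polar Q f (T e) with hα
  set β := polar Q e (T e) with hβ
  set γ := polar Q f (T f) with hγ
  set δ := polar Q e (T f) with hδ
  have c1 : α * β = 0 := by rw [← hQdec (T e) (hTP e he), hT, hQe]
  have c2 : γ * δ = 0 := by rw [← hQdec (T f) (hTP f hf), hT, hQf]
  have c3 : α * δ + β * γ = 1 := by
    rw [← hexp (T e) (hTP e he) (T f) (hTP f hf), polar_map_of_isometry T hT, hef]
  have hTexp_e : ∀ y ∈ P, polar Q e (T y) = polar Q f y * β + polar Q e y * δ := by
    intro y hy
    have hw := hdec y hy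
    set w := y - polar Q f y • e - polar Q e y • f with hwdef
    have hy' : y = w + polar Q f y • e + polar Q e y • f := by
      rw [hwdef]
      abel
    have h1 : polar Q e (T w) = 0 := hPU e he (T w) ((hU w).2 hw)
    conv_lhs => rw [hy']
    rw [map_add, map_add, map_smul, map_smul, polar_add_right, polar_add_right, polar_smul_right,
      polar_smul_right, h1, zero_add, smul_eq_mul, smul_eq_mul]
  have hTexp_f : ∀ y ∈ P, polar Q f (T y) = polar Q f y * α + polar Q e y * γ := by
    intro y hy
    have hw := hdec y hy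
    set w := y - polar Q f y • e - polar Q e y • f with hwdef
    have hy' : y = w + polar Q f y • e + polar Q e y • f := by
      rw [hwdef]
      abel
    have h1 : polar Q f (T w) = 0 := hPU f hf (T w) ((hU w).2 hw)
    conv_lhs => rw [hy']
    rw [map_add, map_add, map_smul, map_smul, polar_add_right, polar_add_right, polar_smul_right,
      polar_smul_right, h1, zero_add, smul_eq_mul, smul_eq_mul]
  obtain ⟨i1, i2, i3, i4⟩ := f2_arith hF2 α β γ δ c1 c2 c3
  apply hkey
  · exact P.sub_mem (hTP _ (hTP x hx)) hx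
  · rw [polar_sub_right, hTexp_e (T x) (hTP x hx), hTexp_f x hx, hTexp_e x hx]
    linear_combination polar Q f x * i1 + polar Q e x * i2
  · rw [polar_sub_right, hTexp_f (T x) (hTP x hx), hTexp_f x hx, hTexp_e x hx]
    linear_combination polar Q f x * i3 + polar Q e x * i4

end Cfsg.Agent.Lib.Helper5.TSFlag
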