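import Mathlib
import Cfsg.Agent.Lib.Helper5.TSFlag7

set_option autoImplicit false

namespace Cfsg.Agent.Lib.Helper5.TSFlag

open QuadraticMap Module

universe u v

variable {F : Type u} [Field F] {V : Type v} [AddCommGroup V] [Module F V]
variable {Q : QuadraticForm F V}

/-- in characteristic two, `T^(2^n) = 1 + (T - 1)^(2^n)` -/
theorem pow_two_pow_eq (h2 : (2 : F) = 0) (T : Module.End F V) (n : ℕ) :
    T ^ (2 ^ n) = 1 + (T - 1) ^ (2 ^ n) := by
  induction n with
  | zero => simp
  | succ n ih =>
    have h2' : ∀ M : Module.End F V, M + M = 0 := by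
      intro M
      rw [← two_smul F M, h2, zero_smul]
    rw [pow_succ, pow_mul, ih, pow_mul, pow_two, pow_two, mul_add, add_mul, add_mul, one_mul,
      mul_one, one_mul]
    have := h2' ((T - 1) ^ 2 ^ n)
    rw [add_assoc, ← add_assoc ((T - 1) ^ 2 ^ n), this, zero_add]

/-- stability of the orthogonal complement -/
theorem perp_stab [FiniteDimensional F V] (hQ : (polarBilin Q).Nondegenerate) (T : V →ₗ[F] V)
    (hT : ∀ x, Q (T x) = Q x) (U : Submodule F V) (hU : ∀ x, T x ∈ U ↔ x ∈ U) (x : V) :
    T x ∈ LinearMap.BilinForm.orthogonal (polarBilin Q) U ↔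
      x ∈ LinearMap.BilinForm.orthogonal (polarBilin Q) U := by
  have hsurj : Function.Surjective T :=
    LinearMap.surjective_of_injective (injective_of_isometry hQ T hT)
  constructor
  · intro h n hn
    show polar Q n x = 0
    rw [← polar_map_of_isometry T hT]
    exact h (T n) ((hU n).2 hn)
  · intro h n hn
    obtain ⟨n', rfl⟩ := hsurj n
    show polar Q (T n') (T x) = 0
    rw [polar_map_of_isometry T hT]
    exact h n' ((hU n').1 hn)

/-- An isometry stabilising a full flag of totally singular subspaces of length `k` in a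
hyperbolic space of dimension `2k+2` over the field with two elements has order a power of two. -/
theorem exists_pow_eq_one [FiniteDimensional F V] (hF2 : ∀ c : F, c = 0 ∨ c = 1)
    (hQ : (polarBilin Q).Nondegenerate) {k : ℕ} (hdim : finrank F V = 2 * k + 2)
    {Vf : ℕ → Submodule F V} (h : IsTSFlag Q k Vf) (T : V →ₗ[F] V) (hT : ∀ x, Q (T x) = Q x)
    (hstab : ∀ j, j ≤ k → ∀ x, T x ∈ Vf j ↔ x ∈ Vf j)
    {e f : V} (he : e ∈ LinearMap.BilinForm.orthogonal (polarBilin Q) (Vf k))
    (hf : f ∈ LinearMap.BilinForm.orthogonal (polarBilin Q) (Vf k)) (hQe : Q e = 0)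
    (hQf : Q f = 0) (hef : polar Q e f = 1) :
    ∃ n : ℕ, (T : Module.End F V) ^ (2 ^ n) = 1 := by
  have h2 : (2 : F) = 0 := by
    rcases hF2 2 with h | h
    · exact h
    · exfalso
      have : (1 : F) = 0 := by linear_combination h
      exact one_ne_zero this
  set Pj : ℕ → Submodule F V := fun j => LinearMap.BilinForm.orthogonal (polarBilin Q) (Vf j)
    with hPj
  set T2 : V →ₗ[F] V := T ∘ₗ T with hT2
  have hT2iso : ∀ x, Q (T2 x) = Q x := fun x => by
    rw [hT2, LinearMap.comp_apply, hT, hT]
  have hstab2 : ∀ j, j ≤ k → ∀ x, T2 x ∈ Vf j ↔ x ∈ Vf j := fun j hj x => by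
    rw [hT2, LinearMap.comp_apply, hstab j hj, hstab j hj]
  have hPstab : ∀ j, j ≤ k → ∀ x, T x ∈ Pj j ↔ x ∈ Pj j := fun j hj x =>
    perp_stab hQ T hT (Vf j) (hstab j hj) x
  have hPstab2 : ∀ j, j ≤ k → ∀ x, T2 x ∈ Pj j ↔ x ∈ Pj j := fun j hj x =>
    perp_stab hQ T2 hT2iso (Vf j) (hstab2 j hj) x
  have hPrank : ∀ j, j ≤ k → finrank F (Pj j) = 2 * k + 2 - j := by
    intro j hj
    have := LinearMap.BilinForm.finrank_orthogonal hQ (Vf j)
    rw [h.rank j hj, hdim] at this
    exact this
  -- the chain
  set ch : ℕ → Submodule F V := fun s => if s ≤ k then Vf s else Pj (2 * k + 1 - s) with hch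
  have hstep : ∀ s, s < 2 * k + 1 → ∀ x ∈ ch (s + 1), T2 x - x ∈ ch s := by
    intro s hs x hx
    by_cases hsk : s + 1 ≤ k
    · have e1 : ch (s + 1) = Vf (s + 1) := if_pos hsk
      have e2 : ch s = Vf s := if_pos (by omega)
      rw [e1] at hx
      rw [e2]
      exact sub_mem_of_stab hF2 T2 (Vf s) (Vf (s + 1)) (h.mono s (by omega))
        (by rw [h.rank s (by omega), h.rank (s + 1) hsk]) (hstab2 (s + 1) hsk)
        (hstab2 s (by omega)) x hx
    · by_cases hsk' : s = k
      · subst hsk'
        have e1 : ch (s + 1) = Pj s := by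
          rw [hch]
          simp only
          rw [if_neg (by omega)]
          congr 1
          omega
        have e2 : ch s = Vf s := if_pos le_rfl
        rw [e1] at hx
        rw [e2]
        exact sq_sub_mem_of_hyp hF2 hQ T hT (Vf s) (h.sing s le_rfl) (hstab s le_rfl)
          (hPstab s le_rfl) (by rw [h.rank s le_rfl, hdim]) he hf hQe hQf hef x hx
      · have e1 : ch (s + 1) = Pj (2 * k - s) := by
          rw [hch]
          simp only
          rw [if_neg (by omega)]
          congr 1
          omega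
        have e2 : ch s = Pj (2 * k - s + 1) := by
          rw [hch]
          simp only
          rw [if_neg (by omega)]
          congr 1
          omega
        rw [e1] at hx
        rw [e2]
        have hle : Pj (2 * k - s + 1) ≤ Pj (2 * k - s) := by
          intro y hy n hn
          exact hy n (h.mono (2 * k - s) (by omega) hn)
        exact sub_mem_of_stab hF2 T2 _ _ hle
          (by rw [hPrank _ (by omega), hPrank _ (by omega)]; omega)
          (hPstab2 _ (by omega)) (hPstab2 _ (by omega)) x hx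
  set N : Module.End F V := T2 - 1 with hN
  have hNx : ∀ x, N x = T2 x - x := fun x => by
    rw [hN, LinearMap.sub_apply, Module.End.one_apply]
  have hkill : ∀ s, s ≤ 2 * k + 1 → ∀ x ∈ ch s, (N ^ s) x = 0 := by
    intro s
    induction s with
    | zero =>
      intro _ x hx
      have e0 : ch 0 = Vf 0 := if_pos (Nat.zero_le k)
      rw [e0, h.zero] at hx
      rw [(Submodule.mem_bot F).1 hx, map_zero]
    | succ s ih =>
      intro hs x hx
      rw [pow_succ, Module.End.mul_apply, hNx]
      exact ih (by omega) _ (hstep s (by omega) x hx)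
  have htop : ch (2 * k + 1) = ⊤ := by
    rw [hch]
    simp only
    rw [if_neg (by omega), Nat.sub_self, hPj]
    simp only
    rw [h.zero]
    exact LinearMap.BilinForm.orthogonal_bot
  have hN0 : N ^ (2 * k + 1) = 0 := by
    ext x
    rw [hkill (2 * k + 1) le_rfl x (by rw [htop]; trivial), LinearMap.zero_apply]
  obtain ⟨n, hn⟩ : ∃ n, 2 * k + 1 ≤ 2 ^ n := ⟨2 * k + 1, (Nat.lt_two_pow_self).le⟩
  refine ⟨n + 1, ?_⟩
  have hTT : (T : Module.End F V) ^ 2 = T2 := by
    rw [pow_two]
    rfl
  rw [pow_succ, mul_comm, pow_mul, hTT, pow_two_pow_eq h2, ← hN]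
  have : N ^ (2 ^ n) = 0 := by
    rw [← Nat.sub_add_cancel hn, pow_add, hN0, mul_zero]
  rw [this, add_zero]

end Cfsg.Agent.Lib.Helper5.TSFlag
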