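import Mathlib
import Cfsg.Agent.Lib.Helper5.TSFlag8
import Cfsg.Agent.Lib.Helper5.SpQf1
import Cfsg.Agent.Lib.Helper5.OCent4

set_option autoImplicit false

namespace Cfsg.Agent.Lib.Helper5.TSFlag

open QuadraticMap Module Cfsg.Agent.Lib.Helper5.QuadGlue

section general

universe u v

variable {F : Type u} [Field F] {V : Type v} [AddCommGroup V] [Module F V]
variable {Q : QuadraticForm F V}

theorem IsTSFlag.map [FiniteDimensional F V] {k : ℕ} {Vf : ℕ → Submodule F V}
    (h : IsTSFlag Q k Vf) (g : V ≃ₗ[F] V) (hg : ∀ x, Q (g x) = Q x) :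
    IsTSFlag Q k (fun j => (Vf j).map g.toLinearMap) where
  zero := by
    show (Vf 0).map g.toLinearMap = ⊥
    rw [h.zero, Submodule.map_bot]
  mono j hj := Submodule.map_mono (h.mono j hj)
  rank j hj := by
    show finrank F ↥((Vf j).map g.toLinearMap) = j
    rw [LinearEquiv.finrank_map_eq, h.rank j hj]
  sing j hj x hx := by
    obtain ⟨y, hy, rfl⟩ := hx
    show Q (g y) = 0
    rw [hg, h.sing j hj y hy]

/-- an injective endomorphism mapping a finite-dimensional subspace into itself reflects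
membership -/
theorem mem_of_map_mem [FiniteDimensional F V] (g : V ≃ₗ[F] V) (U : Submodule F V)
    (hU : ∀ x ∈ U, g x ∈ U) (x : V) (hx : g x ∈ U) : x ∈ U := by
  have hle : U.map g.toLinearMap ≤ U := by
    rintro _ ⟨y, hy, rfl⟩
    exact hU y hy
  have heq : U.map g.toLinearMap = U :=
    Submodule.eq_of_le_of_finrank_eq hle (LinearEquiv.finrank_map_eq g U)
  rw [← heq] at hx
  obtain ⟨y, hy, hyx⟩ := hx
  have : y = x := g.injective hyx
  rw [← this]
  exact hy

end general

section concrete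

variable {F : Type*} [Field F] {k : ℕ}

/-- the standard flag of totally singular subspaces -/
def stdVf (k : ℕ) (F : Type*) [Field F] (j : ℕ) : Submodule F (Fin (k + 1) ⊕ Fin (k + 1) → F) :=
  if hj : j ≤ k + 1 then
    Submodule.span F (Set.range (fun i : Fin j =>
      (Pi.single (Sum.inl (Fin.castLE hj i)) 1 : Fin (k + 1) ⊕ Fin (k + 1) → F)))
  else ⊤

theorem stdVf_eq {j : ℕ} (hj : j ≤ k + 1) : stdVf k F j =
    Submodule.span F (Set.range (fun i : Fin j =>
      (Pi.single (Sum.inl (Fin.castLE hj i)) 1 : Fin (k + 1) ⊕ Fin (k + 1) → F))) := dif_pos hj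

theorem stdVf_inr {j : ℕ} (hj : j ≤ k + 1) (x : Fin (k + 1) ⊕ Fin (k + 1) → F)
    (hx : x ∈ stdVf k F j) (i : Fin (k + 1)) : x (Sum.inr i) = 0 := by
  rw [stdVf_eq hj] at hx
  induction hx using Submodule.span_induction with
  | mem y hy =>
    obtain ⟨i', rfl⟩ := hy
    simp
  | zero => rfl
  | add a b _ _ ha hb => rw [Pi.add_apply, ha, hb, add_zero]
  | smul c a _ ha => rw [Pi.smul_apply, ha, smul_zero]

theorem stdVf_inl {j : ℕ} (hj : j ≤ k + 1) (x : Fin (k + 1) ⊕ Fin (k + 1) → F)
    (hx : x ∈ stdVf k F j) (i : Fin (k + 1)) (hi : j ≤ i.val) : x (Sum.inl i) = 0 := by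
  rw [stdVf_eq hj] at hx
  induction hx using Submodule.span_induction with
  | mem y hy =>
    obtain ⟨i', rfl⟩ := hy
    show (Pi.single (Sum.inl (Fin.castLE hj i')) 1 : Fin (k + 1) ⊕ Fin (k + 1) → F) (Sum.inl i) = 0
    rw [Pi.single_apply, if_neg]
    intro h
    have h1 := Sum.inl.inj h
    have h2 := congrArg Fin.val h1
    rw [Fin.val_castLE] at h2
    have := i'.2
    omega
  | zero => rfl
  | add a b _ _ ha hb => rw [Pi.add_apply, ha, hb, add_zero]
  | smul c a _ ha => rw [Pi.smul_apply, ha, smul_zero]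

theorem isTSFlag_stdVf : IsTSFlag (QP (k + 1) F) k (stdVf k F) where
  zero := by
    rw [stdVf_eq (Nat.zero_le _)]
    have : Set.range (fun i : Fin 0 =>
        (Pi.single (Sum.inl (Fin.castLE (Nat.zero_le (k + 1)) i)) 1 :
          Fin (k + 1) ⊕ Fin (k + 1) → F)) = ∅ := Set.range_eq_empty _
    rw [this, Submodule.span_empty]
  mono j hj := by
    rw [stdVf_eq (by omega : j ≤ k + 1), stdVf_eq (by omega : j + 1 ≤ k + 1)]
    apply Submodule.span_mono
    rintro _ ⟨i, rfl⟩
    exact ⟨Fin.castSucc i, rfl⟩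
  rank j hj := by
    rw [stdVf_eq (by omega : j ≤ k + 1)]
    have hli : LinearIndependent F (fun i : Fin j =>
        (Pi.single (Sum.inl (Fin.castLE (by omega : j ≤ k + 1) i)) 1 :
          Fin (k + 1) ⊕ Fin (k + 1) → F)) := by
      have h1 := (Pi.basisFun F (Fin (k + 1) ⊕ Fin (k + 1))).linearIndependent
      have h2 := h1.comp (fun i : Fin j => (Sum.inl (Fin.castLE (by omega : j ≤ k + 1) i) :
        Fin (k + 1) ⊕ Fin (k + 1))) (by
          intro a b hab
          exact Fin.castLE_injective _ (Sum.inl.inj hab))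
      convert h2 using 1
      funext i
      simp [Pi.basisFun_apply]
    rw [finrank_span_eq_card hli, Fintype.card_fin]
  sing j hj x hx := by
    rw [QP_apply]
    unfold Cfsg.quadFormPlus
    apply Finset.sum_eq_zero
    intro i _
    rw [stdVf_inr (by omega : j ≤ k + 1) x hx i, mul_zero]

end concrete

end Cfsg.Agent.Lib.Helper5.TSFlag
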