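import Mathlib
import Cfsg.Agent.Lib.Helper5.TSFlag9
import Cfsg.Agent.Lib.Helper5.IsoTransfer

set_option autoImplicit false

namespace Cfsg.Agent.Lib.Helper5.TSFlag

open QuadraticMap Module Matrix Cfsg.Agent.Lib.Helper5.QuadGlue Cfsg.Agent.Lib.Helper5.O2Sp
  Cfsg.Agent.Lib.Helper5.OCent Cfsg.Agent.Lib.Helper5.IsoTransfer Cfsg.Agent.Lib.Helper5.SpQf

variable {F : Type*} [Field F] {k : ℕ}

/-- the matrix of an element of the isometry group -/
abbrev matOf (t : ↥(Cfsg.isometryGroup F (Cfsg.quadFormPlus (k + 1) F))) :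
    Matrix (Fin (k + 1) ⊕ Fin (k + 1)) (Fin (k + 1) ⊕ Fin (k + 1)) F := t.1.1

theorem matOf_mul (a b : ↥(Cfsg.isometryGroup F (Cfsg.quadFormPlus (k + 1) F))) :
    matOf (a * b) = matOf a * matOf b := rfl

theorem matOf_one : matOf (1 : ↥(Cfsg.isometryGroup F (Cfsg.quadFormPlus (k + 1) F))) = 1 := rfl

theorem matOf_mul_inv (a : ↥(Cfsg.isometryGroup F (Cfsg.quadFormPlus (k + 1) F))) :
    matOf a * matOf a⁻¹ = 1 := by
  rw [← matOf_mul, mul_inv_cancel, matOf_one]

/-- the stabiliser of the standard flag in the isometry group -/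
def stabStd (k : ℕ) (F : Type*) [Field F] :
    Subgroup ↥(Cfsg.isometryGroup F (Cfsg.quadFormPlus (k + 1) F)) where
  carrier := {t | ∀ j, j ≤ k → ∀ x : Fin (k + 1) ⊕ Fin (k + 1) → F,
    matOf t *ᵥ x ∈ stdVf k F j ↔ x ∈ stdVf k F j}
  one_mem' := by
    intro j _ x
    rw [matOf_one, Matrix.one_mulVec]
  mul_mem' := by
    intro a b ha hb j hj x
    have : matOf (a * b) *ᵥ x = matOf a *ᵥ (matOf b *ᵥ x) := by
      rw [Matrix.mulVec_mulVec, matOf_mul]
    rw [this, ha j hj, hb j hj]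
  inv_mem' := by
    intro a ha j hj x
    rw [← ha j hj]
    have : matOf a *ᵥ (matOf a⁻¹ *ᵥ x) = x := by
      rw [Matrix.mulVec_mulVec, matOf_mul_inv, Matrix.one_mulVec]
    rw [this]

theorem mem_stabStd (t : ↥(Cfsg.isometryGroup F (Cfsg.quadFormPlus (k + 1) F))) :
    t ∈ stabStd k F ↔ ∀ j, j ≤ k → ∀ x : Fin (k + 1) ⊕ Fin (k + 1) → F,
    matOf t *ᵥ x ∈ stdVf k F j ↔ x ∈ stdVf k F j := Iff.rfl

theorem finrank_space : finrank F (Fin (k + 1) ⊕ Fin (k + 1) → F) = 2 * k + 2 := by
  rw [Module.finrank_fintype_fun_eq_card, Fintype.card_sum, Fintype.card_fin]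
  ring

section two

variable [Fintype F]

theorem eq_zero_or_one (hcard : Fintype.card F = 2) (c : F) : c = 0 ∨ c = 1 := by
  classical
  have h1 : ({0, 1} : Finset F).card = 2 := Finset.card_pair zero_ne_one
  have h2 : ({0, 1} : Finset F) = Finset.univ := by
    apply Finset.eq_univ_of_card
    rw [h1, hcard]
  have h3 : c ∈ ({0, 1} : Finset F) := by rw [h2]; exact Finset.mem_univ c
  simpa using h3

theorem charP_two (hcard : Fintype.card F = 2) : CharP F 2 := by
  apply CharTwo.of_one_ne_zero_of_two_eq_zero one_ne_zero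
  rcases eq_zero_or_one hcard 2 with h | h
  · exact h
  · exfalso
    have : (1 : F) = 0 := by linear_combination h
    exact one_ne_zero this

theorem QP_nondeg' (hcard : Fintype.card F = 2) :
    (polarBilin (QP (k + 1) F)).Nondegenerate := by
  haveI := charP_two hcard
  exact (QP_polSymp' (F := F) (m := k + 1)).nondeg

theorem iso_apply (t : ↥(Cfsg.isometryGroup F (Cfsg.quadFormPlus (k + 1) F)))
    (x : Fin (k + 1) ⊕ Fin (k + 1) → F) :
    QP (k + 1) F (matOf t *ᵥ x) = QP (k + 1) F x := by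
  rw [QP_apply, QP_apply]
  exact t.2 x x

/-- the stabiliser of the standard flag is a 2-group -/
theorem isPGroup_stabStd (hcard : Fintype.card F = 2) : IsPGroup 2 ↥(stabStd k F) := by
  intro t
  have hQ := QP_nondeg' (k := k) hcard
  set M : Matrix (Fin (k + 1) ⊕ Fin (k + 1)) (Fin (k + 1) ⊕ Fin (k + 1)) F :=
    matOf t.1 with hM
  set e : Fin (k + 1) ⊕ Fin (k + 1) → F := Pi.single (Sum.inl (Fin.last k)) 1 with he
  set f : Fin (k + 1) ⊕ Fin (k + 1) → F := Pi.single (Sum.inr (Fin.last k)) 1 with hf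
  have hQe : QP (k + 1) F e = 0 := by
    rw [QP_apply]
    simp [Cfsg.quadFormPlus, he]
  have hQf : QP (k + 1) F f = 0 := by
    rw [QP_apply]
    simp [Cfsg.quadFormPlus, hf]
  have hef : polar (QP (k + 1) F) e f = 1 := by
    unfold polar
    rw [hQe, hQf, QP_apply]
    simp [Cfsg.quadFormPlus, he, hf, Pi.single_apply]
  have heP : e ∈ LinearMap.BilinForm.orthogonal (polarBilin (QP (k + 1) F)) (stdVf k F k) := by
    intro n hn
    show polar (QP (k + 1) F) n e = 0
    unfold polar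
    rw [hQe, (isTSFlag_stdVf (F := F) (k := k)).sing k le_rfl n hn, QP_apply]
    unfold Cfsg.quadFormPlus
    rw [sub_zero, sub_zero]
    apply Finset.sum_eq_zero
    intro i _
    rw [Pi.add_apply, Pi.add_apply, stdVf_inr (by omega) n hn i, he]
    simp
  have hfP : f ∈ LinearMap.BilinForm.orthogonal (polarBilin (QP (k + 1) F)) (stdVf k F k) := by
    intro n hn
    show polar (QP (k + 1) F) n f = 0
    unfold polar
    rw [hQf, (isTSFlag_stdVf (F := F) (k := k)).sing k le_rfl n hn, QP_apply]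
    unfold Cfsg.quadFormPlus
    rw [sub_zero, sub_zero]
    apply Finset.sum_eq_zero
    intro i _
    rw [Pi.add_apply, Pi.add_apply, stdVf_inr (by omega) n hn i, hf]
    by_cases hi : i = Fin.last k
    · subst hi
      rw [stdVf_inl (by omega) n hn (Fin.last k) (by simp)]
      simp
    · simp [Pi.single_apply, hi]
  obtain ⟨n, hn⟩ := exists_pow_eq_one (eq_zero_or_one hcard) hQ finrank_space
    (isTSFlag_stdVf (F := F) (k := k)) (Matrix.toLinAlgEquiv' M)
    (fun x => by
      rw [Matrix.toLinAlgEquiv'_apply]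
      exact iso_apply t.1 x)
    (fun j hj x => by
      rw [Matrix.toLinAlgEquiv'_apply]
      exact t.2 j hj x) heP hfP hQe hQf hef
  refine ⟨n, ?_⟩
  have hMn : M ^ (2 ^ n) = 1 := by
    apply Matrix.toLinAlgEquiv'.injective
    rw [map_pow, map_one]
    exact hn
  apply Subtype.ext
  apply Subtype.ext
  apply Units.ext
  rw [SubgroupClass.coe_pow, SubgroupClass.coe_pow, Units.val_pow_eq_pow_val]
  exact hMn

end two

end Cfsg.Agent.Lib.Helper5.TSFlag
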