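import Mathlib
import Cfsg.Agent.Lib.Helper5.TSFlag10

set_option autoImplicit false

namespace Cfsg.Agent.Lib.Helper5.TSFlag

open QuadraticMap Module Matrix Cfsg.Agent.Lib.Helper5.QuadGlue Cfsg.Agent.Lib.Helper5.O2Sp
  Cfsg.Agent.Lib.Helper5.OCent Cfsg.Agent.Lib.Helper5.IsoTransfer Cfsg.Agent.Lib.Helper5.SpQf

variable {F : Type*} [Field F] {k : ℕ}

theorem matOf_inv_mulVec (a : ↥(Cfsg.isometryGroup F (Cfsg.quadFormPlus (k + 1) F)))
    (x : Fin (k + 1) ⊕ Fin (k + 1) → F) : matOf a⁻¹ *ᵥ (matOf a *ᵥ x) = x := by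
  rw [Matrix.mulVec_mulVec, ← matOf_mul, inv_mul_cancel, matOf_one, Matrix.one_mulVec]

theorem matOf_mulVec_inv (a : ↥(Cfsg.isometryGroup F (Cfsg.quadFormPlus (k + 1) F)))
    (x : Fin (k + 1) ⊕ Fin (k + 1) → F) : matOf a *ᵥ (matOf a⁻¹ *ᵥ x) = x := by
  rw [Matrix.mulVec_mulVec, matOf_mul_inv, Matrix.one_mulVec]

/-- any conjugate of the flag stabiliser meets it non-trivially -/
theorem exists_pair [Fintype F] (hcard : Fintype.card F = 2)
    (z : ↥(Cfsg.isometryGroup F (Cfsg.quadFormPlus (k + 1) F))) :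
    ∃ s : ↥(Cfsg.isometryGroup F (Cfsg.quadFormPlus (k + 1) F)),
      s ≠ 1 ∧ s ∈ stabStd k F ∧ z⁻¹ * s * z ∈ stabStd k F := by
  have hQ := QP_nondeg' (k := k) hcard
  set φ : (Fin (k + 1) ⊕ Fin (k + 1) → F) ≃ₗ[F] (Fin (k + 1) ⊕ Fin (k + 1) → F) :=
    glLin z.1 with hφ
  have hφa : ∀ x, φ x = matOf z *ᵥ x := fun x => glLin_apply z.1 x
  have hφQ : ∀ x, QP (k + 1) F (φ x) = QP (k + 1) F x := by
    intro x
    rw [hφa]
    exact iso_apply z x
  have hfl := isTSFlag_stdVf (F := F) (k := k)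
  have hfl' := hfl.map φ hφQ
  obtain ⟨g, hgQ, hgne, hg1, hg2⟩ := exists_isometry_of_flags k _ (QP (k + 1) F) hQ
    (le_of_eq finrank_space.symm) _ _ hfl hfl'
  have hinj := injective_of_isometry hQ g hgQ
  set ge : (Fin (k + 1) ⊕ Fin (k + 1) → F) ≃ₗ[F] (Fin (k + 1) ⊕ Fin (k + 1) → F) :=
    LinearEquiv.ofInjectiveEndo g hinj with hge
  have hgea : ∀ x, ge x = g x := fun x => rfl
  have hsmem : linGL ge ∈ Cfsg.isometryGroup F (Cfsg.quadFormPlus (k + 1) F) := by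
    rw [mem_iso]
    intro u
    rw [linGL_mulVec, hgea, ← QP_apply, ← QP_apply, hgQ]
  have hsa : ∀ x, matOf (⟨linGL ge, hsmem⟩ :
      ↥(Cfsg.isometryGroup F (Cfsg.quadFormPlus (k + 1) F))) *ᵥ x = g x := by
    intro x
    show ((linGL ge : GL _ F) : Matrix _ _ F) *ᵥ x = g x
    rw [linGL_mulVec, hgea]
  refine ⟨⟨linGL ge, hsmem⟩, ?_, ?_, ?_⟩
  · intro h1
    apply hgne
    apply LinearMap.ext
    intro x
    rw [← hsa x, h1, matOf_one, Matrix.one_mulVec, LinearMap.id_apply]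
  · intro j hj x
    rw [hsa]
    constructor
    · intro hx
      exact mem_of_map_mem ge (stdVf k F j) (fun y hy => hg1 j hj y hy) x hx
    · exact hg1 j hj x
  · intro j hj x
    have e1 : matOf (z⁻¹ * ⟨linGL ge, hsmem⟩ * z) *ᵥ x = matOf z⁻¹ *ᵥ (g (matOf z *ᵥ x)) := by
      rw [matOf_mul, matOf_mul, ← Matrix.mulVec_mulVec, ← Matrix.mulVec_mulVec, hsa]
    rw [e1]
    constructor
    · intro hx
      have h1 : g (matOf z *ᵥ x) ∈ (stdVf k F j).map φ.toLinearMap := by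
        refine ⟨_, hx, ?_⟩
        rw [LinearEquiv.coe_coe, hφa, matOf_mulVec_inv]
      have h2 : matOf z *ᵥ x ∈ (stdVf k F j).map φ.toLinearMap :=
        mem_of_map_mem ge _ (fun y hy => hg2 j hj y hy) _ h1
      obtain ⟨y, hy, hyx⟩ := h2
      rw [LinearEquiv.coe_coe, ← hφa] at hyx
      rw [← φ.injective hyx]
      exact hy
    · intro hx
      have h1 : matOf z *ᵥ x ∈ (stdVf k F j).map φ.toLinearMap := by
        refine ⟨x, hx, ?_⟩
        rw [LinearEquiv.coe_coe, hφa]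
      obtain ⟨y, hy, hyx⟩ := hg2 j hj _ h1
      rw [← hyx, LinearEquiv.coe_coe, hφa, matOf_inv_mulVec]
      exact hy

end Cfsg.Agent.Lib.Helper5.TSFlag
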