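import Mathlib
import Cfsg.Prelude.Def_CaseTheorems
import Cfsg.Agent.Lib.Helper8.TetDefs

/-! # S2928 package P1 (TetBasic): swap computations for tetrads -/

set_option autoImplicit false

namespace Cfsg.Agent.Lib.Helper8.Tet

open Equiv Equiv.Perm Subgroup

variable {Ω : Type*} [Fintype Ω] [DecidableEq Ω]

namespace Basic

/-- transfer of permutations of `Fin k` along an injective map `f : Fin k → Ω`. -/
noncomputable def Tr {k : ℕ} (f : Fin k → Ω) (hf : Function.Injective f) :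
    Perm (Fin k) →* Perm Ω := by
  classical
  exact Equiv.Perm.extendDomainHom (Equiv.ofInjective f hf)

theorem Tr_apply {k : ℕ} (f : Fin k → Ω) (hf : Function.Injective f) (σ : Perm (Fin k))
    (i : Fin k) : Tr f hf σ (f i) = f (σ i) := by
  classical
  have h := Equiv.Perm.extendDomain_apply_image σ (Equiv.ofInjective f hf) i
  simpa [Tr, Equiv.Perm.extendDomainHom] using h

theorem Tr_apply_of_not_mem {k : ℕ} (f : Fin k → Ω) (hf : Function.Injective f)
    (σ : Perm (Fin k)) {x : Ω} (hx : x ∉ Set.range f) : Tr f hf σ x = x := by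
  classical
  exact Equiv.Perm.extendDomain_apply_not_subtype σ (Equiv.ofInjective f hf) hx

theorem Tr_swap {k : ℕ} (f : Fin k → Ω) (hf : Function.Injective f) (i j : Fin k) :
    Tr f hf (swap i j) = swap (f i) (f j) := by
  ext x
  by_cases hx : x ∈ Set.range f
  · obtain ⟨t, rfl⟩ := hx
    rw [Tr_apply, hf.swap_apply]
  · rw [Tr_apply_of_not_mem f hf _ hx, swap_apply_of_ne_of_ne]
    · rintro rfl; exact hx ⟨i, rfl⟩
    · rintro rfl; exact hx ⟨j, rfl⟩

theorem Tr_injective {k : ℕ} (f : Fin k → Ω) (hf : Function.Injective f) :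
    Function.Injective (Tr f hf) := by
  classical
  exact Equiv.Perm.extendDomainHom_injective (Equiv.ofInjective f hf)

theorem inj4 {a b c d : Ω} (hab : a ≠ b) (hac : a ≠ c) (had : a ≠ d) (hbc : b ≠ c)
    (hbd : b ≠ d) (hcd : c ≠ d) : Function.Injective ![a, b, c, d] := by
  rw [← List.nodup_ofFn]
  simp [*, Ne.symm]

theorem four_cases : ∀ i j k l : Fin 4, (∀ m : Fin 4, m = i ∨ m = j ∨ m = k ∨ m = l) →
    swap (0 : Fin 4) 1 * swap 2 3 = swap i j * swap k l ∨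
    swap (0 : Fin 4) 1 * swap 2 3 = swap i k * swap j l ∨
      swap (0 : Fin 4) 1 * swap 2 3 = swap i l * swap j k := by decide

theorem conj_dt (g : Perm Ω) (a b c d : Ω) :
    swap (g a) (g b) * swap (g c) (g d) = g * (swap a b * swap c d) * g⁻¹ := by
  rw [swap_apply_apply, swap_apply_apply]; group

end Basic

open Basic

/-- the three double transpositions on four distinct points, for an arbitrary labelling. -/
theorem dt_eq_of_mem {a b c d a' b' c' d' : Ω}
    (ha' : a' ∈ ({a, b, c, d} : Finset Ω)) (hb' : b' ∈ ({a, b, c, d} : Finset Ω))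
    (hc' : c' ∈ ({a, b, c, d} : Finset Ω)) (hd' : d' ∈ ({a, b, c, d} : Finset Ω))
    (h1 : a' ≠ b') (h2 : a' ≠ c') (h3 : a' ≠ d') (h4 : b' ≠ c') (h5 : b' ≠ d') (h6 : c' ≠ d') :
    swap a' b' * swap c' d' = swap a b * swap c d ∨ swap a' b' * swap c' d' = swap a c * swap b d ∨
      swap a' b' * swap c' d' = swap a d * swap b c := by
  have hf := inj4 h1 h2 h3 h4 h5 h6
  set f : Fin 4 → Ω := ![a', b', c', d'] with hfdef
  have hmem : ∀ m : Fin 4, f m ∈ ({a, b, c, d} : Finset Ω) := by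
    intro m; fin_cases m
    · exact ha'
    · exact hb'
    · exact hc'
    · exact hd'
  have hsub : Finset.univ.image f ⊆ ({a, b, c, d} : Finset Ω) := by
    intro x hx
    obtain ⟨m, -, rfl⟩ := Finset.mem_image.1 hx
    exact hmem m
  have hcard : (Finset.univ.image f).card = 4 := by
    rw [Finset.card_image_of_injective _ hf, Finset.card_univ, Fintype.card_fin]
  have heq : Finset.univ.image f = ({a, b, c, d} : Finset Ω) :=
    Finset.eq_of_subset_of_card_le hsub (by rw [hcard]; exact Finset.card_le_four)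
  have hex : ∀ x ∈ ({a, b, c, d} : Finset Ω), ∃ i, f i = x := by
    intro x hx
    rw [← heq] at hx
    obtain ⟨m, -, rfl⟩ := Finset.mem_image.1 hx
    exact ⟨m, rfl⟩
  obtain ⟨i, hi⟩ := hex a (by simp)
  obtain ⟨j, hj⟩ := hex b (by simp)
  obtain ⟨k, hk⟩ := hex c (by simp)
  obtain ⟨l, hl⟩ := hex d (by simp)
  have hcond : ∀ m : Fin 4, m = i ∨ m = j ∨ m = k ∨ m = l := by
    intro m
    have := hmem m
    rw [← hi, ← hj, ← hk, ← hl] at this
    simp only [Finset.mem_insert, Finset.mem_singleton] at this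
    rcases this with h | h | h | h
    · exact Or.inl (hf h)
    · exact Or.inr (Or.inl (hf h))
    · exact Or.inr (Or.inr (Or.inl (hf h)))
    · exact Or.inr (Or.inr (Or.inr (hf h)))
  have e0 : swap a' b' * swap c' d' = Tr f hf (swap 0 1 * swap 2 3) := by
    rw [map_mul, Tr_swap, Tr_swap]; rfl
  have e1 : ∀ x y z w : Fin 4, Tr f hf (swap x y * swap z w) = swap (f x) (f y) * swap (f z) (f w) := by
    intro x y z w
    rw [map_mul, Tr_swap, Tr_swap]
  rw [e0, ← hi, ← hj, ← hk, ← hl]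
  rcases four_cases i j k l hcond with h | h | h
  · left; rw [h, e1]
  · right; left; rw [h, e1]
  · right; right; rw [h, e1]

/-- double transpositions on the same four points commute. -/
theorem dt_commute {a b c d : Ω} (hab : a ≠ b) (hac : a ≠ c) (had : a ≠ d) (hbc : b ≠ c)
    (hbd : b ≠ d) (hcd : c ≠ d) :
    Commute (swap a b * swap c d) (swap a c * swap b d) ∧
    Commute (swap a b * swap c d) (swap a d * swap b c) ∧
    Commute (swap a c * swap b d) (swap a d * swap b c) := by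
  have hf := inj4 hab hac had hbc hbd hcd
  have e1 : swap a b * swap c d = Tr _ hf (swap 0 1 * swap 2 3) := by
    rw [map_mul, Tr_swap, Tr_swap]; rfl
  have e2 : swap a c * swap b d = Tr _ hf (swap 0 2 * swap 1 3) := by
    rw [map_mul, Tr_swap, Tr_swap]; rfl
  have e3 : swap a d * swap b c = Tr _ hf (swap 0 3 * swap 1 2) := by
    rw [map_mul, Tr_swap, Tr_swap]; rfl
  rw [e1, e2, e3]
  refine ⟨Commute.map ?_ _, Commute.map ?_ _, Commute.map ?_ _⟩
  · show _ * _ = _ * _; decide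
  · show _ * _ = _ * _; decide
  · show _ * _ = _ * _; decide

/-- a tetrad from its three double transpositions. -/
theorem IsTet.mk' {H : Subgroup (Perm Ω)} {a b c d : Ω} (hab : a ≠ b) (hac : a ≠ c) (had : a ≠ d)
    (hbc : b ≠ c) (hbd : b ≠ d) (hcd : c ≠ d) (h1 : swap a b * swap c d ∈ H)
    (h2 : swap a c * swap b d ∈ H) (h3 : swap a d * swap b c ∈ H) :
    IsTet H ({a, b, c, d} : Finset Ω) := by
  refine ⟨Finset.card_eq_four.2 ⟨a, b, c, d, hab, hac, had, hbc, hbd, hcd, rfl⟩, ?_⟩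
  intro a' ha' b' hb' c' hc' d' hd' g1 g2 g3 g4 g5 g6
  rcases dt_eq_of_mem ha' hb' hc' hd' g1 g2 g3 g4 g5 g6 with h | h | h
  · rw [h]; exact h1
  · rw [h]; exact h2
  · rw [h]; exact h3

/-- a tetrad has four distinct named points. -/
theorem IsTet.exists_eq {H : Subgroup (Perm Ω)} {Q : Finset Ω} (hQ : IsTet H Q) :
    ∃ a b c d : Ω, a ≠ b ∧ a ≠ c ∧ a ≠ d ∧ b ≠ c ∧ b ≠ d ∧ c ≠ d ∧ Q = {a, b, c, d} :=
  Finset.card_eq_four.1 hQ.1

/-- transport of a tetrad by an element conjugating `H'` into `H`. -/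
theorem IsTet.conj {H' H : Subgroup (Perm Ω)} {Q : Finset Ω} (hQ : IsTet H' Q) (g : Perm Ω)
    (hg : ∀ x ∈ H', g * x * g⁻¹ ∈ H) : IsTet H (Q.image g) := by
  refine ⟨by rw [Finset.card_image_of_injective _ g.injective]; exact hQ.1, ?_⟩
  intro a ha b hb c hc d hd g1 g2 g3 g4 g5 g6
  obtain ⟨a0, ha0, rfl⟩ := Finset.mem_image.1 ha
  obtain ⟨b0, hb0, rfl⟩ := Finset.mem_image.1 hb
  obtain ⟨c0, hc0, rfl⟩ := Finset.mem_image.1 hc
  obtain ⟨d0, hd0, rfl⟩ := Finset.mem_image.1 hd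
  rw [conj_dt]
  exact hg _ (hQ.2 a0 ha0 b0 hb0 c0 hc0 d0 hd0 (fun h => g1 (h ▸ rfl)) (fun h => g2 (h ▸ rfl))
    (fun h => g3 (h ▸ rfl)) (fun h => g4 (h ▸ rfl)) (fun h => g5 (h ▸ rfl)) (fun h => g6 (h ▸ rfl)))

theorem IsTet.image {H : Subgroup (Perm Ω)} {Q : Finset Ω} (hQ : IsTet H Q) {h : Perm Ω}
    (hh : h ∈ H) : IsTet H (Q.image h) :=
  hQ.conj h fun x hx => H.mul_mem (H.mul_mem hh hx) (H.inv_mem hh)

namespace Basic

theorem card_sdiff_left {Q Q' : Finset Ω} (hQ : Q.card = 4) {k : ℕ} (h : (Q ∩ Q').card = k) :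
    (Q \ Q').card = 4 - k := by
  have := Finset.card_sdiff_add_card_inter Q Q'
  omega

theorem card_sdiff_right {Q Q' : Finset Ω} (hQ' : Q'.card = 4) {k : ℕ} (h : (Q ∩ Q').card = k) :
    (Q' \ Q).card = 4 - k := by
  rw [Finset.inter_comm] at h
  exact card_sdiff_left hQ' h

theorem mem_of_eq_insert {S : Finset Ω} {T : Finset Ω} (h : S = T) {x : Ω} (hx : x ∈ T) : x ∈ S :=
  h ▸ hx

end Basic

theorem exists_threeCycle_of_inter_card_one {H : Subgroup (Perm Ω)} {Q Q' : Finset Ω}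
    (hQ : IsTet H Q) (hQ' : IsTet H Q') (h : (Q ∩ Q').card = 1) : ∃ t ∈ H, t.IsThreeCycle := by
  obtain ⟨a, hA⟩ := Finset.card_eq_one.1 h
  obtain ⟨b, c, d, hbc, hbd, hcd, hB⟩ := Finset.card_eq_three.1 (card_sdiff_left hQ.1 h)
  obtain ⟨e, f, g, hef, heg, hfg, hC⟩ := Finset.card_eq_three.1 (card_sdiff_right hQ'.1 h)
  have ha : a ∈ Q ∧ a ∈ Q' := by
    have : a ∈ Q ∩ Q' := mem_of_eq_insert hA (by simp)
    simpa using this
  have hb : b ∈ Q ∧ b ∉ Q' := by
    have : b ∈ Q \ Q' := mem_of_eq_insert hB (by simp)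
    simpa using this
  have hc : c ∈ Q ∧ c ∉ Q' := by
    have : c ∈ Q \ Q' := mem_of_eq_insert hB (by simp)
    simpa using this
  have hd : d ∈ Q ∧ d ∉ Q' := by
    have : d ∈ Q \ Q' := mem_of_eq_insert hB (by simp)
    simpa using this
  have he : e ∈ Q' ∧ e ∉ Q := by
    have : e ∈ Q' \ Q := mem_of_eq_insert hC (by simp)
    simpa using this
  have hf' : f ∈ Q' ∧ f ∉ Q := by
    have : f ∈ Q' \ Q := mem_of_eq_insert hC (by simp)
    simpa using this
  have hg : g ∈ Q' ∧ g ∉ Q := by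
    have : g ∈ Q' \ Q := mem_of_eq_insert hC (by simp)
    simpa using this
  have hab : a ≠ b := fun h => hb.2 (h ▸ ha.2)
  have hac : a ≠ c := fun h => hc.2 (h ▸ ha.2)
  have had : a ≠ d := fun h => hd.2 (h ▸ ha.2)
  have hae : a ≠ e := fun h => he.2 (h ▸ ha.1)
  have haf : a ≠ f := fun h => hf'.2 (h ▸ ha.1)
  have hag : a ≠ g := fun h => hg.2 (h ▸ ha.1)
  have hbe : b ≠ e := fun h => he.2 (h ▸ hb.1)
  have hbf : b ≠ f := fun h => hf'.2 (h ▸ hb.1)
  have hbg : b ≠ g := fun h => hg.2 (h ▸ hb.1)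
  have hce : c ≠ e := fun h => he.2 (h ▸ hc.1)
  have hcf : c ≠ f := fun h => hf'.2 (h ▸ hc.1)
  have hcg : c ≠ g := fun h => hg.2 (h ▸ hc.1)
  have hde : d ≠ e := fun h => he.2 (h ▸ hd.1)
  have hdf : d ≠ f := fun h => hf'.2 (h ▸ hd.1)
  have hdg : d ≠ g := fun h => hg.2 (h ▸ hd.1)
  have hF : Function.Injective ![a, b, c, d, e, f, g] := by
    rw [← List.nodup_ofFn]
    simp [*, Ne.symm]
  have s1 : swap a b * swap c d ∈ H := hQ.2 a ha.1 b hb.1 c hc.1 d hd.1 hab hac had hbc hbd hcd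
  have s2 : swap a e * swap f g ∈ H := hQ'.2 a ha.2 e he.1 f hf'.1 g hg.1 hae haf hag hef heg hfg
  refine ⟨(swap a b * swap c d * (swap a e * swap f g)) ^ 2, H.pow_mem (H.mul_mem s1 s2) 2, ?_⟩
  have e1 : (swap a b * swap c d * (swap a e * swap f g)) ^ 2
      = Tr _ hF ((swap 0 1 * swap 2 3 * (swap 0 4 * swap 5 6)) ^ 2) := by
    rw [map_pow, map_mul, map_mul, map_mul, Tr_swap, Tr_swap, Tr_swap, Tr_swap]; rfl
  have e2 : ((swap 0 1 * swap 2 3 * (swap 0 4 * swap 5 6)) ^ 2 : Perm (Fin 7))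
      = swap 0 4 * swap 0 1 := by decide
  rw [e1, e2, map_mul, Tr_swap, Tr_swap]
  exact isThreeCycle_swap_mul_swap_same hae hab (Ne.symm hbe)

theorem exists_threeCycle_of_inter_card_three {H : Subgroup (Perm Ω)} {Q Q' : Finset Ω}
    (hQ : IsTet H Q) (hQ' : IsTet H Q') (h : (Q ∩ Q').card = 3) : ∃ t ∈ H, t.IsThreeCycle := by
  obtain ⟨a, b, c, hab, hac, hbc, hA⟩ := Finset.card_eq_three.1 h
  obtain ⟨d, hB⟩ := Finset.card_eq_one.1 (card_sdiff_left hQ.1 h)
  obtain ⟨e, hC⟩ := Finset.card_eq_one.1 (card_sdiff_right hQ'.1 h)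
  have ha : a ∈ Q ∧ a ∈ Q' := by
    have : a ∈ Q ∩ Q' := mem_of_eq_insert hA (by simp)
    simpa using this
  have hb : b ∈ Q ∧ b ∈ Q' := by
    have : b ∈ Q ∩ Q' := mem_of_eq_insert hA (by simp)
    simpa using this
  have hc : c ∈ Q ∧ c ∈ Q' := by
    have : c ∈ Q ∩ Q' := mem_of_eq_insert hA (by simp)
    simpa using this
  have hd : d ∈ Q ∧ d ∉ Q' := by
    have : d ∈ Q \ Q' := mem_of_eq_insert hB (by simp)
    simpa using this
  have he : e ∈ Q' ∧ e ∉ Q := by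
    have : e ∈ Q' \ Q := mem_of_eq_insert hC (by simp)
    simpa using this
  have had : a ≠ d := fun h => hd.2 (h ▸ ha.2)
  have hbd : b ≠ d := fun h => hd.2 (h ▸ hb.2)
  have hcd : c ≠ d := fun h => hd.2 (h ▸ hc.2)
  have hae : a ≠ e := fun h => he.2 (h ▸ ha.1)
  have hbe : b ≠ e := fun h => he.2 (h ▸ hb.1)
  have hce : c ≠ e := fun h => he.2 (h ▸ hc.1)
  have hde : d ≠ e := fun h => he.2 (h ▸ hd.1)
  have hF : Function.Injective ![a, b, c, d, e] := by
    rw [← List.nodup_ofFn]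
    simp [*, Ne.symm]
  have s1 : swap a b * swap c d ∈ H := hQ.2 a ha.1 b hb.1 c hc.1 d hd.1 hab hac had hbc hbd hcd
  have s2 : swap a b * swap c e ∈ H := hQ'.2 a ha.2 b hb.2 c hc.2 e he.1 hab hac hae hbc hbe hce
  refine ⟨swap a b * swap c d * (swap a b * swap c e), H.mul_mem s1 s2, ?_⟩
  have e1 : swap a b * swap c d * (swap a b * swap c e)
      = Tr _ hF (swap 0 1 * swap 2 3 * (swap 0 1 * swap 2 4)) := by
    rw [map_mul, map_mul, map_mul, Tr_swap, Tr_swap, Tr_swap]; rfl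
  have e2 : (swap 0 1 * swap 2 3 * (swap 0 1 * swap 2 4) : Perm (Fin 5))
      = swap 2 3 * swap 2 4 := by decide
  rw [e1, e2, map_mul, Tr_swap, Tr_swap]
  exact isThreeCycle_swap_mul_swap_same hcd hce hde

theorem IsTet.symmDiff {H : Subgroup (Perm Ω)} {Q Q' : Finset Ω}
    (hQ : IsTet H Q) (hQ' : IsTet H Q') (h : (Q ∩ Q').card = 2) : IsTet H (symmDiff Q Q') := by
  obtain ⟨a, b, hab, hA⟩ := Finset.card_eq_two.1 h
  obtain ⟨c, d, hcd, hB⟩ := Finset.card_eq_two.1 (card_sdiff_left hQ.1 h)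
  obtain ⟨e, f, hef, hC⟩ := Finset.card_eq_two.1 (card_sdiff_right hQ'.1 h)
  have ha : a ∈ Q ∧ a ∈ Q' := by
    have : a ∈ Q ∩ Q' := mem_of_eq_insert hA (by simp)
    simpa using this
  have hb : b ∈ Q ∧ b ∈ Q' := by
    have : b ∈ Q ∩ Q' := mem_of_eq_insert hA (by simp)
    simpa using this
  have hc : c ∈ Q ∧ c ∉ Q' := by
    have : c ∈ Q \ Q' := mem_of_eq_insert hB (by simp)
    simpa using this
  have hd : d ∈ Q ∧ d ∉ Q' := by
    have : d ∈ Q \ Q' := mem_of_eq_insert hB (by simp)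
    simpa using this
  have he : e ∈ Q' ∧ e ∉ Q := by
    have : e ∈ Q' \ Q := mem_of_eq_insert hC (by simp)
    simpa using this
  have hf' : f ∈ Q' ∧ f ∉ Q := by
    have : f ∈ Q' \ Q := mem_of_eq_insert hC (by simp)
    simpa using this
  have hac : a ≠ c := fun h => hc.2 (h ▸ ha.2)
  have had : a ≠ d := fun h => hd.2 (h ▸ ha.2)
  have hbc : b ≠ c := fun h => hc.2 (h ▸ hb.2)
  have hbd : b ≠ d := fun h => hd.2 (h ▸ hb.2)
  have hae : a ≠ e := fun h => he.2 (h ▸ ha.1)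
  have haf : a ≠ f := fun h => hf'.2 (h ▸ ha.1)
  have hbe : b ≠ e := fun h => he.2 (h ▸ hb.1)
  have hbf : b ≠ f := fun h => hf'.2 (h ▸ hb.1)
  have hce : c ≠ e := fun h => he.2 (h ▸ hc.1)
  have hcf : c ≠ f := fun h => hf'.2 (h ▸ hc.1)
  have hde : d ≠ e := fun h => he.2 (h ▸ hd.1)
  have hdf : d ≠ f := fun h => hf'.2 (h ▸ hd.1)
  have hF : Function.Injective ![a, b, c, d, e, f] := by
    rw [← List.nodup_ofFn]
    simp [*, Ne.symm]
  have s1 : swap a b * swap c d ∈ H := hQ.2 a ha.1 b hb.1 c hc.1 d hd.1 hab hac had hbc hbd hcd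
  have s2 : swap a c * swap b d ∈ H :=
    hQ.2 a ha.1 c hc.1 b hb.1 d hd.1 hac hab had (Ne.symm hbc) hcd hbd
  have t1 : swap a b * swap e f ∈ H := hQ'.2 a ha.2 b hb.2 e he.1 f hf'.1 hab hae haf hbe hbf hef
  have t2 : swap a e * swap b f ∈ H :=
    hQ'.2 a ha.2 e he.1 b hb.2 f hf'.1 hae hab haf (Ne.symm hbe) hef hbf
  have t3 : swap a f * swap b e ∈ H :=
    hQ'.2 a ha.2 f hf'.1 b hb.2 e he.1 haf hab hae (Ne.symm hbf) (Ne.symm hef) hbe
  have hsd : _root_.symmDiff Q Q' = ({c, d, e, f} : Finset Ω) := by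
    rw [symmDiff_def, hB, hC]
    ext x
    simp only [Finset.sup_eq_union, Finset.mem_union, Finset.mem_insert, Finset.mem_singleton]
    tauto
  rw [hsd]
  have T2 : ∀ x y z w : Fin 6, Tr _ hF (swap x y * swap z w)
      = swap (![a, b, c, d, e, f] x) (![a, b, c, d, e, f] y) *
        swap (![a, b, c, d, e, f] z) (![a, b, c, d, e, f] w) := by
    intro x y z w
    rw [map_mul, Tr_swap, Tr_swap]
  refine IsTet.mk' hcd hce hcf hde hdf hef ?_ ?_ ?_
  · have e2 : (swap 2 3 * swap 4 5 : Perm (Fin 6))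
        = (swap 0 1 * swap 2 3) * (swap 0 1 * swap 4 5) := by decide
    have e1 : swap c d * swap e f = Tr _ hF (swap 2 3 * swap 4 5) := by rw [T2]; rfl
    rw [e1, e2, map_mul, T2, T2]
    exact H.mul_mem s1 t1
  · have e2 : (swap 2 4 * swap 3 5 : Perm (Fin 6))
        = (swap 0 2 * swap 1 3) * (swap 0 4 * swap 1 5) * (swap 0 2 * swap 1 3)⁻¹ := by decide
    have e1 : swap c e * swap d f = Tr _ hF (swap 2 4 * swap 3 5) := by rw [T2]; rfl
    rw [e1, e2, map_mul, map_mul, map_inv, T2, T2]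
    exact H.mul_mem (H.mul_mem s2 t2) (H.inv_mem s2)
  · have e2 : (swap 2 5 * swap 3 4 : Perm (Fin 6))
        = (swap 0 2 * swap 1 3) * (swap 0 5 * swap 1 4) * (swap 0 2 * swap 1 3)⁻¹ := by decide
    have e1 : swap c f * swap d e = Tr _ hF (swap 2 5 * swap 3 4) := by rw [T2]; rfl
    rw [e1, e2, map_mul, map_mul, map_inv, T2, T2]
    exact H.mul_mem (H.mul_mem s2 t3) (H.inv_mem s2)

/-- parity of intersections when there is no 3-cycle. -/
theorem inter_card_of_noThree {H : Subgroup (Perm Ω)} (h3 : NoThree H) {Q Q' : Finset Ω}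
    (hQ : IsTet H Q) (hQ' : IsTet H Q') :
    (Q ∩ Q').card = 0 ∨ (Q ∩ Q').card = 2 ∨ Q = Q' := by
  have hle : (Q ∩ Q').card ≤ 4 := hQ.1 ▸ Finset.card_le_card Finset.inter_subset_left
  rcases Nat.lt_or_ge (Q ∩ Q').card 1 with h0 | h0
  · left; omega
  rcases Nat.lt_or_ge (Q ∩ Q').card 2 with h1 | h1
  · exfalso
    obtain ⟨t, ht, ht3⟩ := exists_threeCycle_of_inter_card_one hQ hQ' (by omega)
    exact h3 t ht ht3
  rcases Nat.lt_or_ge (Q ∩ Q').card 3 with h2 | h2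
  · right; left; omega
  rcases Nat.lt_or_ge (Q ∩ Q').card 4 with h4 | h4
  · exfalso
    obtain ⟨t, ht, ht3⟩ := exists_threeCycle_of_inter_card_three hQ hQ' (by omega)
    exact h3 t ht ht3
  · right; right
    have e1 : Q ∩ Q' = Q :=
      Finset.eq_of_subset_of_card_le Finset.inter_subset_left (by rw [hQ.1]; exact h4)
    have hsub : Q ⊆ Q' := by rw [← e1]; exact Finset.inter_subset_right
    exact Finset.eq_of_subset_of_card_le hsub (by rw [hQ.1, hQ'.1])

end Cfsg.Agent.Lib.Helper8.Tet
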