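import Cfsg.Agent.Lib.Helper6.Th24Defs

set_option autoImplicit false

namespace Cfsg.Agent.Lib.Helper6.Theta24

open Matrix Complex Real ModularForm MatrixGroups
open UpperHalfPlane hiding I

namespace PkMF

open Function
open scoped Manifold

/-- the power series with the given coefficients -/
noncomputable def ps (c : ℕ → ℂ) : FormalMultilinearSeries ℂ ℂ ℂ := .ofScalars ℂ c

theorem ps_radius (c : ℕ → ℂ) (f : ℍ → ℂ)
    (hf : ∀ τ : ℍ, HasSum (fun m : ℕ => c m • Periodic.qParam 1 (τ : ℂ) ^ m) (f τ)) :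
    1 ≤ (ps c).radius := by
  refine le_of_forall_lt_imp_le_of_dense fun r hr ↦ ?_
  rcases eq_or_ne r 0 with rfl | hr'
  · simp
  · lift r to NNReal using hr.ne_top
    apply FormalMultilinearSeries.le_radius_of_summable
    have hr1 : ‖((r : ℝ) : ℂ)‖ < 1 := by simpa using hr
    have hr0 : ((r : ℝ) : ℂ) ≠ 0 := by exact_mod_cast hr'
    have h1 := Periodic.im_invQParam_pos_of_norm_lt_one (h := 1) one_pos hr1 hr0
    have h2 := hf ⟨Periodic.invQParam 1 ((r : ℝ) : ℂ), h1⟩
    have h3 : Periodic.qParam 1 (((⟨Periodic.invQParam 1 ((r : ℝ) : ℂ), h1⟩ : ℍ) : ℂ)) =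
        ((r : ℝ) : ℂ) := Periodic.qParam_right_inv one_ne_zero hr0
    rw [h3] at h2
    have h4 := h2.summable.norm
    refine h4.congr fun m => ?_
    unfold ps
    rw [← (ContinuousMultilinearMap.piFieldEquiv ℂ (Fin m) ℂ).symm.norm_map]
    simp [norm_smul, mul_comm]

theorem ps_sum (c : ℕ → ℂ) (f : ℍ → ℂ)
    (hf : ∀ τ : ℍ, HasSum (fun m : ℕ => c m • Periodic.qParam 1 (τ : ℂ) ^ m) (f τ)) (τ : ℍ) :
    f τ = (ps c).sum (Periodic.qParam 1 (τ : ℂ)) := by
  have h1 : (ps c).sum (Periodic.qParam 1 (τ : ℂ)) =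
      ∑' m : ℕ, c m • Periodic.qParam 1 (τ : ℂ) ^ m :=
    FormalMultilinearSeries.ofScalars_sum_eq c _
  rw [h1]
  exact (hf τ).tsum_eq.symm

theorem mdiff (c : ℕ → ℂ) (f : ℍ → ℂ)
    (hf : ∀ τ : ℍ, HasSum (fun m : ℕ => c m • Periodic.qParam 1 (τ : ℂ) ^ m) (f τ)) :
    MDifferentiable 𝓘(ℂ) 𝓘(ℂ) f := by
  rw [UpperHalfPlane.mdifferentiable_iff]
  have hr := ps_radius c f hf
  have hpos : 0 < (ps c).radius := lt_of_lt_of_le one_pos hr
  have hps := (ps c).hasFPowerSeriesOnBall hpos
  have hdiff : DifferentiableOn ℂ (fun z : ℂ => (ps c).sum (Periodic.qParam 1 z))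
      upperHalfPlaneSet := by
    intro z hz
    have hq : Periodic.qParam 1 z ∈ Metric.eball (0 : ℂ) (ps c).radius := by
      have : ‖Periodic.qParam 1 z‖ < 1 := Periodic.norm_qParam_lt_one one_pos hz
      rw [Metric.mem_eball, edist_zero_right]
      refine lt_of_lt_of_le ?_ hr
      rw [← ENNReal.coe_one, enorm_eq_nnnorm, ENNReal.coe_lt_coe]
      exact this
    have h1 : DifferentiableAt ℂ (ps c).sum (Periodic.qParam 1 z) :=
      (hps.analyticAt_of_mem hq).differentiableAt
    have h2 : DifferentiableAt ℂ (Periodic.qParam 1) z :=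
      (Periodic.differentiable_qParam (h := 1)).differentiableAt
    exact (h1.comp z h2).differentiableWithinAt
  refine hdiff.congr fun z hz => ?_
  simp only [Function.comp_apply]
  rw [ps_sum c f hf, ofComplex_apply_of_im_pos hz]

set_option backward.isDefEq.respectTransparency.types false in
theorem slash_T (f : ℍ → ℂ) (h : ∀ z : ℍ, f ((1 : ℝ) +ᵥ z) = f z) :
    (f ∣[(12 : ℤ)] ModularGroup.T) = f := by
  ext z
  rw [SL_slash_apply, denom, modular_T_smul, ModularGroup.T, h z]
  simp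

set_option backward.isDefEq.respectTransparency.types false in
theorem slash_S (f : ℍ → ℂ) (h : ∀ z : ℍ, f (ModularGroup.S • z) = (z : ℂ) ^ 12 * f z) :
    (f ∣[(12 : ℤ)] ModularGroup.S) = f := by
  ext z
  rw [SL_slash_apply, h z]
  have hz : (z : ℂ) ≠ 0 := ne_zero z
  simp [denom, ModularGroup.S]
  field_simp

/-- PK-MF with the two analytic inputs (S-transformation, q-expansion) as hypotheses -/
theorem exists_thetaMF_of (B : Matrix (Fin 24) (Fin 24) ℤ)
    (hS' : ∀ τ : ℍ, theta B (ModularGroup.S • τ) = (τ : ℂ) ^ 12 * theta B τ)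
    (hsum : ∀ τ : ℍ, HasSum (fun m : ℕ => ((cnt B m : ℕ) : ℂ) •
      Function.Periodic.qParam 1 (τ : ℂ) ^ m) (theta B τ)) :
    ∃ f : ModularForm 𝒮ℒ 12, (∀ τ, f τ = theta B τ) ∧
      ∀ m : ℕ, (qExpansion 1 f).coeff m = (cnt B m : ℂ) := by
  have hT : (theta B ∣[(12 : ℤ)] ModularGroup.T) = theta B := slash_T (theta B) (by
    intro z
    have h1 := hsum ((1 : ℝ) +ᵥ z)
    have h2 := hsum z
    have hq : Function.Periodic.qParam 1 (((1 : ℝ) +ᵥ z : ℍ) : ℂ) =
        Function.Periodic.qParam 1 (z : ℂ) := by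
      simp only [Function.Periodic.qParam, coe_vadd, ofReal_one, div_one]
      rw [mul_add, Complex.exp_add, mul_one, Complex.exp_two_pi_mul_I, one_mul]
    rw [hq] at h1
    exact h1.unique h2)
  have hS : (theta B ∣[(12 : ℤ)] ModularGroup.S) = theta B := slash_S (theta B) hS'
  let f : ModularForm 𝒮ℒ 12 :=
    { toFun := theta B
      slash_action_eq' := fun A hA => by
        obtain ⟨A, rfl⟩ := hA
        exact SlashInvariantForm.slash_action_generators_SL2Z hS hT A
      holo' := mdiff (fun m => (cnt B m : ℂ)) (theta B) hsum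
      bdd_at_cusps' := fun {c} hc => by
        rw [Subgroup.IsArithmetic.isCusp_iff_isCusp_SL2Z] at hc
        rw [OnePoint.isBoundedAt_iff_forall_SL2Z hc]
        intro γ _
        rw [SlashInvariantForm.slash_action_generators_SL2Z hS hT]
        exact isBoundedAtImInfty_of_hasSum_qExpansion one_pos hsum }
  refine ⟨f, fun τ => rfl, fun m => ?_⟩
  have := ModularFormClass.qExpansion_coeff_unique (c := fun m => (cnt B m : ℂ)) (f := f) one_pos
    one_mem_strictPeriods_SL (fun τ => hsum τ) m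
  exact this.symm

end PkMF

end Cfsg.Agent.Lib.Helper6.Theta24
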