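import Cfsg.Agent.Lib.Helper5.Th24_MF
import Cfsg.Agent.Lib.Lead.Th24_S
import Cfsg.Agent.Lib.Lead.Th24_Q

/-!
S1632 PK-MF, exact package statement: `exists_thetaMF`, obtained from the core
`PkMF.exists_thetaMF_of` and the landed `theta_S` (PK-S) and `theta_hasSum` (PK-Q).
-/

set_option autoImplicit false

namespace Cfsg.Agent.Lib.Helper6.Theta24

open UpperHalfPlane ModularForm ModularFormClass CongruenceSubgroup MatrixGroups

theorem exists_thetaMF (B : Matrix (Fin 24) (Fin 24) ℤ) (hB : Hyp B) :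
    ∃ f : ModularForm 𝒮ℒ 12, (∀ τ, f τ = theta B τ) ∧
      ∀ m : ℕ, (qExpansion 1 f).coeff m = (cnt B m : ℂ) :=
  PkMF.exists_thetaMF_of B (theta_S B hB) (theta_hasSum B hB)

end Cfsg.Agent.Lib.Helper6.Theta24
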