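import Mathlib
import Cfsg.Prelude.Def_LocalEven
import Cfsg.Agent.Lib.Helper5.ThreeMin5

set_option autoImplicit false

namespace Cfsg.Agent.Lib.Helper5.ThreeMin

open Equiv Equiv.Perm Subgroup
open Cfsg.Agent.Lib.Helper9.H9AutAlt
open Cfsg.Agent.Lib.Helper5.SylSym
open scoped Pointwise

section

variable {β γ : Type*} [Fintype β] [DecidableEq β] [Fintype γ] [DecidableEq γ]

theorem not_min_two (u v : γ) (huv : u ≠ v) (hγ : Fintype.card γ < 3) (b₀ : β) :
    ¬ Cfsg.IsPMinimal 3 (alternatingGroup ((β × ZMod 3) ⊕ γ)) := by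
  intro hmin
  obtain ⟨T, hT⟩ := exists_T β
  have hβ : 1 ≤ Fintype.card β := Fintype.card_pos_iff.mpr ⟨b₀⟩
  obtain ⟨M, hM⟩ := exists_isMax hmin (SS γ T) (SS_le_alt T hT) (card_SS T hT hγ hβ)
  exact contra_two hM u v huv b₀

theorem not_min_one (w : γ) (hγ : Fintype.card γ < 3) (hβk : ∀ k, Fintype.card β ≠ 3 ^ k)
    (b₀ : β) : ¬ Cfsg.IsPMinimal 3 (alternatingGroup ((β × ZMod 3) ⊕ γ)) := by
  intro hmin
  obtain ⟨T, hT⟩ := exists_T β
  have hβ : 1 ≤ Fintype.card β := Fintype.card_pos_iff.mpr ⟨b₀⟩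
  obtain ⟨M, hM⟩ := exists_isMax hmin (SS γ T) (SS_le_alt T hT) (card_SS T hT hγ hβ)
  exact contra_one hM w (IsPGroup.of_card hT) hβk b₀

theorem not_min_zero_a [IsEmpty γ] (hcard : 4 ≤ Fintype.card β)
    (hβk : ∀ k, Fintype.card β ≠ 3 ^ k) :
    ¬ Cfsg.IsPMinimal 3 (alternatingGroup ((β × ZMod 3) ⊕ γ)) := by
  intro hmin
  obtain ⟨T, hT⟩ := exists_T β
  have hβ : 1 ≤ Fintype.card β := by omega
  have hγ : Fintype.card γ < 3 := by
    rw [Fintype.card_eq_zero]
    norm_num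
  obtain ⟨M, hM⟩ := exists_isMax hmin (SS γ T) (SS_le_alt T hT) (card_SS T hT hγ hβ)
  obtain ⟨b₀⟩ : Nonempty β := Fintype.card_pos_iff.mp (by omega)
  obtain ⟨ρ, hρ, hρ0, b₁, hρ1⟩ := exists_rho T (IsPGroup.of_card hT) hβk b₀
  have hb01 : b₀ ≠ b₁ := by
    intro h
    rw [h, hρ1] at hρ0
    exact Bool.false_ne_true hρ0
  obtain ⟨c, hc⟩ := exists_notMem ({b₀, b₁} : Finset β)
    (lt_of_le_of_lt Finset.card_le_two (by omega))
  simp only [Finset.mem_insert, Finset.mem_singleton, not_or] at hc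
  have hρ' : ∀ t ∈ T, ∃ g : Bool → Bool, Function.Injective g ∧ ∀ b, ρ (t b) = g (ρ b) :=
    fun t ht => ⟨id, Function.injective_id, hρ t ht⟩
  by_cases hρc : ρ c = true
  · exact contra_zero hM hcard ρ hρ' b₀ c b₁ (Ne.symm hc.1) (by rw [hρ0, hρc])
      (by rw [hρc, hρ1]; exact Bool.false_ne_true.symm)
  · rw [Bool.not_eq_true] at hρc
    exact contra_zero hM hcard ρ hρ' b₁ c b₀ (Ne.symm hc.2) (by rw [hρ1, hρc])
      (by rw [hρc, hρ0]; exact Bool.false_ne_true)

theorem not_min_zero_b [IsEmpty γ] (hcard : 2 ≤ Fintype.card β) :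
    ¬ Cfsg.IsPMinimal 3 (alternatingGroup (((β × ZMod 3) × ZMod 3) ⊕ γ)) := by
  intro hmin
  obtain ⟨T', hT'⟩ := exists_T β
  have hT := card_W_T T' hT'
  have hc9 : Fintype.card (β × ZMod 3) = Fintype.card β * 3 := by
    rw [Fintype.card_prod, ZMod.card]
  have hβ : 1 ≤ Fintype.card (β × ZMod 3) := by omega
  have hγ : Fintype.card γ < 3 := by
    rw [Fintype.card_eq_zero]
    norm_num
  obtain ⟨M, hM⟩ := exists_isMax hmin (SS γ (W (p := 3) T')) (SS_le_alt _ hT)
    (card_SS _ hT hγ hβ)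
  obtain ⟨b₀⟩ : Nonempty β := Fintype.card_pos_iff.mp (by omega)
  obtain ⟨c, hc⟩ := exists_notMem ({b₀} : Finset β) (by rw [Finset.card_singleton]; omega)
  rw [Finset.mem_singleton] at hc
  have hρ' : ∀ t ∈ W (p := 3) T', ∃ g : β → β, Function.Injective g ∧
      ∀ b, (Prod.fst : β × ZMod 3 → β) (t b) = g (Prod.fst b) := by
    rintro _ ⟨f, t', _, rfl⟩
    exact ⟨t', t'.injective, fun b => by rw [bt_apply]⟩
  refine contra_zero hM (by omega) (Prod.fst : β × ZMod 3 → β) hρ' (b₀, 0) (b₀, 1) (c, 0)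
    ?_ rfl ?_
  · intro h
    exact zmod3_ne.1 (congrArg Prod.snd h).symm
  · exact Ne.symm hc

end

theorem isPMinimal_alt_congr {α α' : Type*} [Fintype α] [DecidableEq α] [Fintype α']
    [DecidableEq α'] (e : α ≃ α') (h : Cfsg.IsPMinimal 3 (alternatingGroup α)) :
    Cfsg.IsPMinimal 3 (alternatingGroup α') :=
  isPMinimal_of_mulEquiv (Equiv.altCongrHom e) h

theorem alt_three_minimal (n : ℕ) (hn : 5 ≤ n)
    (hmin : Cfsg.IsPMinimal 3 (alternatingGroup (Fin n))) :
    n = 6 ∨ n = 9 ∨ ∃ a, 2 ≤ a ∧ n = 3 ^ a + 1 := by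
  have hdm : n / 3 * 3 + n % 3 = n := Nat.div_add_mod' n 3
  have hlt : n % 3 < 3 := Nat.mod_lt _ (by norm_num)
  set m := n / 3 with hm
  have transport : ∀ (Ω : Type) [Fintype Ω] [DecidableEq Ω], Fintype.card Ω = n →
      ¬ Cfsg.IsPMinimal 3 (alternatingGroup Ω) → False := by
    intro Ω _ _ hc hnot
    apply hnot
    have e : Fin n ≃ Ω := (Fintype.equivFinOfCardEq hc).symm
    exact isPMinimal_alt_congr e hmin
  by_cases h2 : n % 3 = 2
  · exfalso
    apply transport ((Fin m × ZMod 3) ⊕ Fin 2)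
    · rw [Fintype.card_sum, Fintype.card_prod, ZMod.card, Fintype.card_fin, Fintype.card_fin]
      omega
    · have hm1 : 0 < m := by omega
      exact not_min_two (0 : Fin 2) 1 (by decide) (by rw [Fintype.card_fin]; norm_num)
        (⟨0, hm1⟩ : Fin m)
  by_cases h1 : n % 3 = 1
  · by_cases hk : ∃ k, m = 3 ^ k
    · obtain ⟨k, hk⟩ := hk
      right; right
      refine ⟨k + 1, ?_, ?_⟩
      · by_contra hcon
        have : k = 0 := by omega
        rw [this, pow_zero] at hk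
        omega
      · rw [pow_succ, ← hk]
        omega
    · exfalso
      apply transport ((Fin m × ZMod 3) ⊕ Fin 1)
      · rw [Fintype.card_sum, Fintype.card_prod, ZMod.card, Fintype.card_fin, Fintype.card_fin]
        omega
      · have hm1 : 0 < m := by omega
        refine not_min_one (0 : Fin 1) (by rw [Fintype.card_fin]; norm_num) ?_ (⟨0, hm1⟩ : Fin m)
        intro k hk'
        rw [Fintype.card_fin] at hk'
        exact hk ⟨k, hk'⟩
  have h0 : n % 3 = 0 := by omega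
  by_cases hm2 : m = 2
  · left; omega
  by_cases hm3 : m = 3
  · right; left; omega
  have hm4 : 4 ≤ m := by omega
  exfalso
  by_cases hk : ∃ k, m = 3 ^ k
  · obtain ⟨k, hk⟩ := hk
    have hk2 : 2 ≤ k := by
      by_contra hcon
      have : k = 0 ∨ k = 1 := by omega
      rcases this with h | h
      · rw [h, pow_zero] at hk; omega
      · rw [h, pow_one] at hk; omega
    obtain ⟨j, rfl⟩ : ∃ j, k = j + 1 := ⟨k - 1, by omega⟩
    have hj : 1 ≤ j := by omega
    have h3j : 3 ≤ 3 ^ j := by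
      calc 3 = 3 ^ 1 := by norm_num
        _ ≤ 3 ^ j := Nat.pow_le_pow_right (by norm_num) hj
    apply transport (((Fin (3 ^ j) × ZMod 3) × ZMod 3) ⊕ Fin 0)
    · rw [Fintype.card_sum, Fintype.card_prod, Fintype.card_prod, ZMod.card, Fintype.card_fin,
        Fintype.card_fin]
      rw [pow_succ] at hk
      omega
    · apply not_min_zero_b
      rw [Fintype.card_fin]
      omega
  · apply transport ((Fin m × ZMod 3) ⊕ Fin 0)
    · rw [Fintype.card_sum, Fintype.card_prod, ZMod.card, Fintype.card_fin, Fintype.card_fin]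
      omega
    · apply not_min_zero_a
      · rw [Fintype.card_fin]; exact hm4
      · intro k hk'
        rw [Fintype.card_fin] at hk'
        exact hk ⟨k, hk'⟩

end Cfsg.Agent.Lib.Helper5.ThreeMin
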