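import Mathlib
import Cfsg.Prelude.Def_LocalEven
import Cfsg.Agent.Lib.Helper5.ThreeMin7
import Cfsg.Agent.Lib.Helper5.ThreeMin1

set_option autoImplicit false

namespace Cfsg.Agent.Lib.Helper5.ThreeMin

open Equiv Equiv.Perm Subgroup
open scoped Nat

/-- the transported conjugation action -/
noncomputable def kap {X : Type*} [Group X] (A : Subgroup X) [A.Normal] {n : ℕ}
    (e : A ≃* alternatingGroup (Fin n)) : X →* MulAut (alternatingGroup (Fin n)) :=
  (MulAut.congr e).toMonoidHom.comp (MulAut.conjNormal (H := A))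

theorem kap_apply {X : Type*} [Group X] (A : Subgroup X) [A.Normal] {n : ℕ}
    (e : A ≃* alternatingGroup (Fin n)) (x : X) (y : alternatingGroup (Fin n)) :
    kap A e x y = e (MulAut.conjNormal x (e.symm y)) := rfl

theorem eq_top_of_min {X : Type*} [Group X] [Finite X] (hX : Cfsg.IsPMinimal 3 X) (n : ℕ)
    (hn : 5 ≤ n) (A : Subgroup X) [A.Normal] (hCA : Subgroup.centralizer (A : Set X) ≤ A)
    (e : A ≃* alternatingGroup (Fin n)) : A = ⊤ := by
  classical
  haveI : Fact (Nat.Prime 3) := ⟨Nat.prime_three⟩
  haveI : Nontrivial (Fin n) := Fin.nontrivial_iff_two_le.mpr (by omega)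
  -- cardinalities
  have hcardA : 2 * Nat.card A = n ! := by
    rw [Nat.card_congr e.toEquiv, two_mul_nat_card_alternatingGroup, Nat.card_perm,
      Nat.card_eq_fintype_card, Fintype.card_fin]
  have h120 : 120 ∣ n ! := by
    have : (5 : ℕ)! = 120 := by decide
    rw [← this]
    exact Nat.factorial_dvd_factorial hn
  have h2A : 2 ∣ Nat.card A := by
    have : 2 * 60 ∣ 2 * Nat.card A := by rw [hcardA]; exact h120
    have := Nat.dvd_of_mul_dvd_mul_left (by norm_num) this
    exact Dvd.dvd.trans (by norm_num) this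
  have h3A : 3 ∣ Nat.card A := by
    have : 2 * 60 ∣ 2 * Nat.card A := by rw [hcardA]; exact h120
    have := Nat.dvd_of_mul_dvd_mul_left (by norm_num) this
    exact Dvd.dvd.trans (by norm_num) this
  haveI : IsSimpleGroup (alternatingGroup (Fin n)) :=
    alternatingGroup.isSimpleGroup (by rw [Nat.card_eq_fintype_card, Fintype.card_fin]; exact hn)
  haveI : IsSimpleGroup A := e.isSimpleGroup
  -- a Sylow subgroup of `A` is not normal
  obtain ⟨Q⟩ : Nonempty (Sylow 3 A) := inferInstance
  have hQnn : ¬ (Q : Subgroup A).Normal := by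
    intro hnorm
    rcases hnorm.eq_bot_or_eq_top with h | h
    · exact Q.ne_bot_of_dvd_card h3A h
    · obtain ⟨k, hk⟩ := IsPGroup.iff_card.mp Q.isPGroup'
      rw [h, Subgroup.card_top] at hk
      rw [hk] at h2A
      have := Nat.Prime.dvd_of_dvd_pow Nat.prime_two h2A
      omega
  -- the Sylow subgroup of `X`
  set Q' : Subgroup X := (Q : Subgroup A).map A.subtype with hQ'
  have hQ'p : IsPGroup 3 Q' := Q.isPGroup'.map _
  obtain ⟨S, hQS⟩ := hQ'p.exists_le_sylow
  have hQ'A : Q' ≤ A := Subgroup.map_subtype_le _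
  have hSA : (S : Subgroup X) ⊓ A = Q' := by
    apply le_antisymm
    · have h1 : IsPGroup 3 (((S : Subgroup X) ⊓ A).subgroupOf A) :=
        (S.isPGroup'.to_le inf_le_left).comap_of_injective _ (Subgroup.subtype_injective _)
      have h2 : (Q : Subgroup A) ≤ ((S : Subgroup X) ⊓ A).subgroupOf A := by
        intro x hx
        rw [Subgroup.mem_subgroupOf]
        exact ⟨hQS ⟨x, hx, rfl⟩, x.2⟩
      have h3 := Q.is_maximal' h1 h2
      intro x hx
      refine ⟨⟨x, hx.2⟩, ?_, rfl⟩
      rw [SetLike.mem_coe, ← h3, Subgroup.mem_subgroupOf]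
      exact hx
    · exact le_inf hQS hQ'A
  have hSN : (S : Subgroup X) ≤ normalizer (Q' : Set X) := by
    intro s hs
    rw [Subgroup.mem_normalizer_iff]
    intro h
    rw [← hSA]
    constructor
    · rintro ⟨h1, h2⟩
      exact ⟨(S : Subgroup X).mul_mem ((S : Subgroup X).mul_mem hs h1)
        ((S : Subgroup X).inv_mem hs), Subgroup.Normal.conj_mem inferInstance _ h2 s⟩
    · rintro ⟨h1, h2⟩
      refine ⟨?_, ?_⟩
      · have := (S : Subgroup X).mul_mem ((S : Subgroup X).mul_mem
          ((S : Subgroup X).inv_mem hs) h1) hs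
        have e : s⁻¹ * (s * h * s⁻¹) * s = h := by group
        rw [e] at this
        exact this
      · have := Subgroup.Normal.conj_mem (inferInstance : A.Normal) _ h2 s⁻¹
        simpa [mul_assoc] using this
  have hfr : normalizer (Q' : Set X) ⊔ A = ⊤ := Sylow.normalizer_sup_eq_top Q
  obtain ⟨M, hMne, hMmax⟩ := exists_max_of_isPMinimal hX S
  have hNne : normalizer (Q' : Set X) ≠ ⊤ := by
    intro h
    rw [Subgroup.normalizer_eq_top_iff] at h
    apply hQnn
    have : (Q : Subgroup A) = Q'.comap A.subtype := by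
      rw [hQ', Subgroup.comap_map_eq_self_of_injective (Subgroup.subtype_injective _)]
    rw [this]
    exact h.comap _
  have hAS : A ⊔ (S : Subgroup X) = ⊤ := by
    by_contra h
    have h1 := hMmax _ h le_sup_right
    have h2 := hMmax _ hNne hSN
    apply hMne
    rw [eq_top_iff, ← hfr]
    exact sup_le h2 (le_sup_left.trans h1)
  -- the conjugation action is faithful
  have hkinj : Function.Injective (kap A e) := by
    rw [injective_iff_map_eq_one]
    intro x hx
    have h1 : ∀ a : A, MulAut.conjNormal x a = a := by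
      intro a
      have := congrArg (fun f : MulAut (alternatingGroup (Fin n)) => f (e a)) hx
      simp only [kap_apply, MulEquiv.symm_apply_apply, MulAut.one_apply] at this
      exact e.injective this
    have hxC : x ∈ Subgroup.centralizer (A : Set X) := by
      rw [Subgroup.mem_centralizer_iff]
      intro a ha
      have := congrArg Subtype.val (h1 ⟨a, ha⟩)
      rw [MulAut.conjNormal_apply] at this
      calc a * x = (x * a * x⁻¹) * x := by rw [this]
        _ = x * a := by group
    have hxA : x ∈ A := hCA hxC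
    by_contra hx1
    apply hQnn
    constructor
    intro q hq g
    have hcomm : (⟨x, hxA⟩ : A) ∈ Subgroup.center A := by
      rw [Subgroup.mem_center_iff]
      intro a
      apply Subtype.ext
      have := (Subgroup.mem_centralizer_iff.mp hxC) a a.2
      exact this
    have hcen : Subgroup.center A = ⊤ := by
      rcases (inferInstance : (Subgroup.center A).Normal).eq_bot_or_eq_top with h | h
      · exfalso
        rw [h, Subgroup.mem_bot] at hcomm
        exact hx1 (congrArg Subtype.val hcomm)
      · exact h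
    have hg : g ∈ Subgroup.center A := by rw [hcen]; exact Subgroup.mem_top g
    rw [Subgroup.mem_center_iff] at hg
    have : g * q * g⁻¹ = q := by rw [← hg q, mul_inv_cancel_right]
    rw [this]
    exact hq
  -- the image lies in the image of the symmetric group
  have hrange : ∀ x : X, ∃ π : Perm (Fin n), kap A e x = MulAut.conjNormal π := by
    have hle : A ⊔ (S : Subgroup X) ≤
        (MonoidHom.range (MulAut.conjNormal : Perm (Fin n) →* MulAut (alternatingGroup (Fin n)))).comap
          (kap A e) := by
      apply sup_le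
      · intro a ha
        rw [Subgroup.mem_comap]
        refine ⟨((e ⟨a, ha⟩ : alternatingGroup (Fin n)) : Perm (Fin n)), ?_⟩
        ext y : 2
        rw [kap_apply, MulAut.conjNormal_apply]
        have h1 : (MulAut.conjNormal a : MulAut A) (e.symm y) =
            ⟨a, ha⟩ * e.symm y * (⟨a, ha⟩ : A)⁻¹ := by
          apply Subtype.ext
          rw [MulAut.conjNormal_apply]
          rfl
        rw [h1, map_mul, map_mul, map_inv, MulEquiv.apply_symm_apply]
        rfl
      · intro s hs
        rw [Subgroup.mem_comap]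
        obtain ⟨k, hk⟩ := S.isPGroup' ⟨s, hs⟩
        have hk' : s ^ 3 ^ k = 1 := by
          have := congrArg Subtype.val hk
          rwa [Subgroup.coe_pow] at this
        have h2 : (kap A e s) ^ 3 ^ k = 1 := by rw [← map_pow, hk', map_one]
        obtain ⟨π, hπ⟩ := exists_perm_of_pow (by rw [Fintype.card_fin]; exact hn) _ k h2
        exact ⟨π, hπ.symm⟩
    intro x
    have hx : x ∈ A ⊔ (S : Subgroup X) := by rw [hAS]; exact Subgroup.mem_top x
    obtain ⟨π, hπ⟩ := hle hx
    exact ⟨π, hπ.symm⟩
  -- counting
  choose Pim hPim using hrange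
  have hPiminj : Function.Injective Pim := by
    intro x y hxy
    apply hkinj
    rw [hPim x, hPim y, hxy]
  have hcardX : Nat.card X ≤ n ! := by
    have := Nat.card_le_card_of_injective Pim hPiminj
    rwa [Nat.card_perm, Nat.card_fin] at this
  -- the index is a power of three
  have hquot : IsPGroup 3 (X ⧸ A) := by
    intro q
    obtain ⟨x, rfl⟩ := QuotientGroup.mk_surjective q
    have hx : x ∈ A ⊔ (S : Subgroup X) := by rw [hAS]; exact Subgroup.mem_top x
    obtain ⟨a, ha, s, hs, rfl⟩ := Subgroup.mem_sup_of_normal_left.mp hx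
    obtain ⟨k, hk⟩ := S.isPGroup' ⟨s, hs⟩
    have hk' : s ^ 3 ^ k = 1 := by
      have := congrArg Subtype.val hk
      rwa [Subgroup.coe_pow] at this
    refine ⟨k, ?_⟩
    have h1 : ((a * s : X) : X ⧸ A) = (s : X ⧸ A) := by
      rw [QuotientGroup.mk_mul, (QuotientGroup.eq_one_iff a).mpr ha, one_mul]
    rw [h1, ← QuotientGroup.mk_pow, hk', QuotientGroup.mk_one]
  obtain ⟨j, hj⟩ := IsPGroup.iff_card.mp hquot
  have hidx : Nat.card A * 3 ^ j = Nat.card X := by
    rw [← hj]
    exact (Subgroup.card_mul_index A)
  have hApos : 0 < Nat.card A := Nat.card_pos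
  have hj0 : j = 0 := by
    by_contra hj0
    have h3 : 3 ≤ 3 ^ j := by
      calc 3 = 3 ^ 1 := by norm_num
        _ ≤ 3 ^ j := Nat.pow_le_pow_right (by norm_num) (by omega)
    have : Nat.card A * 3 ≤ Nat.card A * 3 ^ j := Nat.mul_le_mul_left _ h3
    omega
  rw [← Subgroup.index_eq_one]
  have : A.index = Nat.card (X ⧸ A) := rfl
  rw [this, hj, hj0, pow_zero]

end Cfsg.Agent.Lib.Helper5.ThreeMin
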