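import Mathlib
import Cfsg.Prelude

set_option autoImplicit false
set_option maxRecDepth 100000

/-! The action of the symplectic group of degree 4 over the field with 3 elements on the 40 points
of the projective space. -/

namespace Cfsg.Agent.Lib.Helper5.U42

open Matrix

/-- the index type of the matrices -/
abbrev I4 : Type := Fin 2 ⊕ Fin 2

/-- vectors as tuples -/
abbrev VS : Type := ZMod 3 × ZMod 3 × ZMod 3 × ZMod 3

/-- the vector of a tuple -/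
def ofVS (v : VS) : I4 → ZMod 3
  | Sum.inl 0 => v.1
  | Sum.inl 1 => v.2.1
  | Sum.inr 0 => v.2.2.1
  | Sum.inr 1 => v.2.2.2

/-- the tuple of a vector -/
def toVS (f : I4 → ZMod 3) : VS := (f (Sum.inl 0), f (Sum.inl 1), f (Sum.inr 0), f (Sum.inr 1))

theorem toVS_ofVS (v : VS) : toVS (ofVS v) = v := rfl

/-- the product of a matrix and a tuple -/
def mvS (M : Matrix I4 I4 (ZMod 3)) (v : VS) : VS :=
  (M (Sum.inl 0) (Sum.inl 0) * v.1 + M (Sum.inl 0) (Sum.inl 1) * v.2.1 +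
      M (Sum.inl 0) (Sum.inr 0) * v.2.2.1 + M (Sum.inl 0) (Sum.inr 1) * v.2.2.2,
   M (Sum.inl 1) (Sum.inl 0) * v.1 + M (Sum.inl 1) (Sum.inl 1) * v.2.1 +
      M (Sum.inl 1) (Sum.inr 0) * v.2.2.1 + M (Sum.inl 1) (Sum.inr 1) * v.2.2.2,
   M (Sum.inr 0) (Sum.inl 0) * v.1 + M (Sum.inr 0) (Sum.inl 1) * v.2.1 +
      M (Sum.inr 0) (Sum.inr 0) * v.2.2.1 + M (Sum.inr 0) (Sum.inr 1) * v.2.2.2,
   M (Sum.inr 1) (Sum.inl 0) * v.1 + M (Sum.inr 1) (Sum.inl 1) * v.2.1 +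
      M (Sum.inr 1) (Sum.inr 0) * v.2.2.1 + M (Sum.inr 1) (Sum.inr 1) * v.2.2.2)

theorem mvS_eq (M : Matrix I4 I4 (ZMod 3)) (v : VS) : mvS M v = toVS (M *ᵥ ofVS v) := by
  unfold mvS toVS
  simp only [Matrix.mulVec, dotProduct, Fintype.sum_sum_type, Fin.sum_univ_two, ofVS]
  refine Prod.ext ?_ (Prod.ext ?_ (Prod.ext ?_ ?_)) <;> ring

theorem ofVS_toVS (f : I4 → ZMod 3) : ofVS (toVS f) = f := by
  funext i
  rcases i with i | i <;> fin_cases i <;> rfl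

theorem mvS_one (v : VS) : mvS 1 v = v := by
  rw [mvS_eq, Matrix.one_mulVec, toVS_ofVS]

theorem mvS_mul (M N : Matrix I4 I4 (ZMod 3)) (v : VS) : mvS (M * N) v = mvS M (mvS N v) := by
  rw [mvS_eq, mvS_eq, mvS_eq, ofVS_toVS, Matrix.mulVec_mulVec]

theorem ofVS_smul (c : ZMod 3) (v : VS) : ofVS (c • v) = c • ofVS v := by
  funext i
  rcases i with i | i <;> fin_cases i <;> rfl

theorem toVS_smul (c : ZMod 3) (f : I4 → ZMod 3) : toVS (c • f) = c • toVS f := rfl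

theorem mvS_smul (M : Matrix I4 I4 (ZMod 3)) (c : ZMod 3) (v : VS) :
    mvS M (c • v) = c • mvS M v := by
  rw [mvS_eq, mvS_eq, ofVS_smul, Matrix.mulVec_smul, toVS_smul]

theorem mvS_zero (M : Matrix I4 I4 (ZMod 3)) : mvS M 0 = 0 := by
  have h := mvS_smul M 0 0
  rw [zero_smul, zero_smul] at h
  exact h

/-- the first non-zero coordinate -/
def ldS (v : VS) : ZMod 3 :=
  if v.1 ≠ 0 then v.1 else if v.2.1 ≠ 0 then v.2.1 else if v.2.2.1 ≠ 0 then v.2.2.1 else v.2.2.2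

/-- the normalized vector -/
def nrmS (v : VS) : VS := ldS v • v

/-- the 40 points -/
def ptsS : List VS :=
  [(0, 0, 0, 1), (0, 0, 1, 0), (0, 0, 1, 1), (0, 0, 1, 2), (0, 1, 0, 0),
   (0, 1, 0, 1), (0, 1, 0, 2), (0, 1, 1, 0), (0, 1, 1, 1), (0, 1, 1, 2),
   (0, 1, 2, 0), (0, 1, 2, 1), (0, 1, 2, 2), (1, 0, 0, 0), (1, 0, 0, 1),
   (1, 0, 0, 2), (1, 0, 1, 0), (1, 0, 1, 1), (1, 0, 1, 2), (1, 0, 2, 0),
   (1, 0, 2, 1), (1, 0, 2, 2), (1, 1, 0, 0), (1, 1, 0, 1), (1, 1, 0, 2),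
   (1, 1, 1, 0), (1, 1, 1, 1), (1, 1, 1, 2), (1, 1, 2, 0), (1, 1, 2, 1),
   (1, 1, 2, 2), (1, 2, 0, 0), (1, 2, 0, 1), (1, 2, 0, 2), (1, 2, 1, 0),
   (1, 2, 1, 1), (1, 2, 1, 2), (1, 2, 2, 0), (1, 2, 2, 1), (1, 2, 2, 2)]

/-- the place of the point of a vector -/
def idxS (v : VS) : ℕ := ptsS.idxOf (nrmS v)

/-- the point of a place -/
def ptS (i : Fin 40) : VS := ptsS.getD i.1 0

theorem factS1 : ∀ a b c d : ZMod 3, ((a, b, c, d) : VS) ≠ 0 → ldS (a, b, c, d) ≠ 0 ∧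
    idxS (a, b, c, d) < 40 ∧ ptsS.getD (idxS (a, b, c, d)) 0 = nrmS (a, b, c, d) := by
  decide +kernel

theorem factS2 : ∀ a b c d e : ZMod 3, e ≠ 0 →
    nrmS (e • ((a, b, c, d) : VS)) = nrmS (a, b, c, d) := by
  decide +kernel

theorem factS3 : ∀ i : Fin 40, idxS (ptS i) = i.1 ∧ ptS i ≠ 0 := by decide +kernel

theorem idxS_lt {v : VS} (hv : v ≠ 0) : idxS v < 40 := (factS1 v.1 v.2.1 v.2.2.1 v.2.2.2 hv).2.1

theorem ldS_ne {v : VS} (hv : v ≠ 0) : ldS v ≠ 0 := (factS1 v.1 v.2.1 v.2.2.1 v.2.2.2 hv).1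

theorem getD_idxS {v : VS} (hv : v ≠ 0) : ptsS.getD (idxS v) 0 = nrmS v :=
  (factS1 v.1 v.2.1 v.2.2.1 v.2.2.2 hv).2.2

theorem idxS_smul {e : ZMod 3} (he : e ≠ 0) (v : VS) : idxS (e • v) = idxS v := by
  unfold idxS
  rw [show nrmS (e • v) = nrmS v from factS2 v.1 v.2.1 v.2.2.1 v.2.2.2 e he]

/-- the action of a matrix on the places -/
def actS (M : Matrix I4 I4 (ZMod 3)) (i : Fin 40) : Fin 40 := Fin.ofNat 40 (idxS (mvS M (ptS i)))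

theorem actS_one (i : Fin 40) : actS 1 i = i := by
  unfold actS
  rw [mvS_one, (factS3 i).1]
  exact Fin.ext (Nat.mod_eq_of_lt i.2)

theorem ptS_actS (M : Matrix I4 I4 (ZMod 3)) (i : Fin 40) (h : mvS M (ptS i) ≠ 0) :
    ptS (actS M i) = ldS (mvS M (ptS i)) • mvS M (ptS i) := by
  have h1 : (actS M i).1 = idxS (mvS M (ptS i)) := Nat.mod_eq_of_lt (idxS_lt h)
  show ptsS.getD (actS M i).1 0 = _
  rw [h1, getD_idxS h]
  rfl

theorem actS_mul (M N : Matrix I4 I4 (ZMod 3)) (hN : ∀ v, v ≠ 0 → mvS N v ≠ 0) (i : Fin 40) :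
    actS (M * N) i = actS M (actS N i) := by
  have h0 : mvS N (ptS i) ≠ 0 := hN _ (factS3 i).2
  have h1 := ptS_actS N i h0
  unfold actS at h1 ⊢
  rw [h1, mvS_mul, mvS_smul, idxS_smul (ldS_ne h0)]

end Cfsg.Agent.Lib.Helper5.U42
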