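import Mathlib
import Cfsg.Prelude
import Cfsg.Agent.Lib.Helper5.U42a
import Cfsg.Agent.S0246

set_option autoImplicit false
set_option maxRecDepth 100000

/-! The homomorphism from the symplectic group of degree 4 over the field with 3 elements to the
symmetric group of degree 40. -/

namespace Cfsg.Agent.Lib.Helper5.U42

open Matrix

/-- the symplectic group -/
abbrev SpZ : Type := ↥(Matrix.symplecticGroup (Fin 2) (ZMod 3))

theorem mvS_ne_zero (g : SpZ) (v : VS) (hv : v ≠ 0) : mvS g.1 v ≠ 0 := by
  intro h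
  apply hv
  have h1 : mvS (g⁻¹).1 (mvS g.1 v) = v := by
    rw [← mvS_mul]
    have h2 : (g⁻¹).1 * g.1 = 1 := by
      have h3 : g⁻¹ * g = 1 := inv_mul_cancel g
      exact congrArg Subtype.val h3
    rw [h2, mvS_one]
  rw [← h1, h, mvS_zero]

instance : MulAction SpZ (Fin 40) where
  smul g i := actS g.1 i
  one_smul i := actS_one i
  mul_smul g h i := actS_mul g.1 h.1 (mvS_ne_zero h) i

/-- the homomorphism -/
def rho1 : SpZ →* Equiv.Perm (Fin 40) := MulAction.toPermHom SpZ (Fin 40)

theorem rho1_apply (g : SpZ) (i : Fin 40) : rho1 g i = actS g.1 i := rfl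

theorem mvS_neg_one (v : VS) : mvS (-1) v = (-1 : ZMod 3) • v := by
  rw [mvS_eq, Matrix.neg_mulVec, Matrix.one_mulVec]
  conv_rhs => rw [← toVS_ofVS v]
  rw [← toVS_smul]
  congr 1
  funext i
  simp

theorem center_le_ker : Subgroup.center SpZ ≤ rho1.ker := by
  intro z hz
  rw [MonoidHom.mem_ker]
  rcases (Cfsg.Agent.S0246.mem_center_iff (by norm_num) z).1 hz with rfl | rfl
  · exact map_one _
  · apply Equiv.ext
    intro i
    rw [rho1_apply]
    show actS (-1) i = i
    unfold actS
    rw [mvS_neg_one, idxS_smul (by decide), (factS3 i).1]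
    exact Fin.ext (Nat.mod_eq_of_lt i.2)

end Cfsg.Agent.Lib.Helper5.U42
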