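import Mathlib
import Cfsg.Prelude
import Cfsg.Agent.Lib.Helper1.Hexa1

set_option autoImplicit false
set_option maxRecDepth 100000

/-! The action of the matrices of degree 4 over the field with 4 elements on the 40 points of the
projective space that are not isotropic for the standard Hermitian form. -/

namespace Cfsg.Agent.Lib.Helper5.U42

open Matrix
open Cfsg.Agent.Lib.Helper1.Hexa (F4)

/-- vectors as tuples -/
abbrev VU : Type := F4 × F4 × F4 × F4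

/-- the vector of a tuple -/
def ofVU (v : VU) : Fin 4 → F4 := ![v.1, v.2.1, v.2.2.1, v.2.2.2]

/-- the tuple of a vector -/
def toVU (f : Fin 4 → F4) : VU := (f 0, f 1, f 2, f 3)

theorem toVU_ofVU (v : VU) : toVU (ofVU v) = v := rfl

theorem ofVU_toVU (f : Fin 4 → F4) : ofVU (toVU f) = f := by
  funext i
  fin_cases i <;> rfl

/-- the product of a matrix and a tuple -/
def mvU (M : Matrix (Fin 4) (Fin 4) F4) (v : VU) : VU :=
  (M 0 0 * v.1 + M 0 1 * v.2.1 + M 0 2 * v.2.2.1 + M 0 3 * v.2.2.2,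
   M 1 0 * v.1 + M 1 1 * v.2.1 + M 1 2 * v.2.2.1 + M 1 3 * v.2.2.2,
   M 2 0 * v.1 + M 2 1 * v.2.1 + M 2 2 * v.2.2.1 + M 2 3 * v.2.2.2,
   M 3 0 * v.1 + M 3 1 * v.2.1 + M 3 2 * v.2.2.1 + M 3 3 * v.2.2.2)

theorem mvU_eq (M : Matrix (Fin 4) (Fin 4) F4) (v : VU) : mvU M v = toVU (M *ᵥ ofVU v) := by
  unfold mvU toVU
  simp only [Matrix.mulVec, dotProduct, Fin.sum_univ_four, ofVU]
  refine Prod.ext ?_ (Prod.ext ?_ (Prod.ext ?_ ?_)) <;> simp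

theorem mvU_one (v : VU) : mvU 1 v = v := by
  rw [mvU_eq, Matrix.one_mulVec, toVU_ofVU]

theorem mvU_mul (M N : Matrix (Fin 4) (Fin 4) F4) (v : VU) : mvU (M * N) v = mvU M (mvU N v) := by
  rw [mvU_eq, mvU_eq, mvU_eq, ofVU_toVU, Matrix.mulVec_mulVec]

theorem ofVU_smul (c : F4) (v : VU) : ofVU (c • v) = c • ofVU v := by
  funext i
  fin_cases i <;> rfl

theorem toVU_smul (c : F4) (f : Fin 4 → F4) : toVU (c • f) = c • toVU f := rfl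

theorem mvU_smul (M : Matrix (Fin 4) (Fin 4) F4) (c : F4) (v : VU) :
    mvU M (c • v) = c • mvU M v := by
  rw [mvU_eq, mvU_eq, ofVU_smul, Matrix.mulVec_smul, toVU_smul]

/-- the Hermitian norm of a tuple -/
def hU (v : VU) : F4 := v.1 * v.1 ^ 2 + v.2.1 * v.2.1 ^ 2 + v.2.2.1 * v.2.2.1 ^ 2 + v.2.2.2 * v.2.2.2 ^ 2

theorem hU_eq (f : Fin 4 → F4) : Cfsg.hermForm 4 F4 2 f f = hU (toVU f) := by
  unfold Cfsg.hermForm hU toVU
  rw [Fin.sum_univ_four]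

/-- the inverse of the first non-zero coordinate -/
def ldU (v : VU) : F4 :=
  if v.1 ≠ 0 then v.1⁻¹ else if v.2.1 ≠ 0 then v.2.1⁻¹ else
    if v.2.2.1 ≠ 0 then v.2.2.1⁻¹ else v.2.2.2⁻¹

/-- the normalized vector -/
def nrmU (v : VU) : VU := ldU v • v

/-- the 40 points -/
def ptsU : List VU :=
  [(F4.z, F4.z, F4.z, F4.o), (F4.z, F4.z, F4.o, F4.z), (F4.z, F4.o, F4.z, F4.z), (F4.o, F4.z, F4.z, F4.z),
   (F4.o, F4.o, F4.z, F4.o), (F4.o, F4.o, F4.z, F4.w), (F4.o, F4.o, F4.z, F4.w2), (F4.o, F4.w, F4.z, F4.w2),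
   (F4.o, F4.w, F4.z, F4.o), (F4.o, F4.w, F4.z, F4.w), (F4.o, F4.w2, F4.z, F4.w), (F4.o, F4.w2, F4.z, F4.w2),
   (F4.o, F4.w2, F4.z, F4.o), (F4.o, F4.o, F4.o, F4.z), (F4.o, F4.w, F4.w2, F4.z), (F4.o, F4.w2, F4.w, F4.z),
   (F4.o, F4.o, F4.w, F4.z), (F4.o, F4.w, F4.o, F4.z), (F4.o, F4.w2, F4.w2, F4.z), (F4.o, F4.o, F4.w2, F4.z),
   (F4.o, F4.w, F4.w, F4.z), (F4.o, F4.w2, F4.o, F4.z), (F4.z, F4.o, F4.o, F4.o), (F4.z, F4.o, F4.o, F4.w),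
   (F4.z, F4.o, F4.o, F4.w2), (F4.z, F4.o, F4.w, F4.o), (F4.z, F4.o, F4.w, F4.w), (F4.z, F4.o, F4.w, F4.w2),
   (F4.z, F4.o, F4.w2, F4.o), (F4.z, F4.o, F4.w2, F4.w), (F4.z, F4.o, F4.w2, F4.w2), (F4.o, F4.z, F4.o, F4.o),
   (F4.o, F4.z, F4.o, F4.w2), (F4.o, F4.z, F4.o, F4.w), (F4.o, F4.z, F4.w, F4.o), (F4.o, F4.z, F4.w, F4.w2),
   (F4.o, F4.z, F4.w, F4.w), (F4.o, F4.z, F4.w2, F4.o), (F4.o, F4.z, F4.w2, F4.w2), (F4.o, F4.z, F4.w2, F4.w)]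

/-- the place of the point of a vector -/
def idxU (v : VU) : ℕ := ptsU.idxOf (nrmU v)

/-- the point of a place -/
def ptU (i : Fin 40) : VU := ptsU.getD i.1 0

theorem factU1 : ∀ a b c d : F4, hU (a, b, c, d) ≠ 0 → ldU (a, b, c, d) ≠ 0 ∧
    idxU (a, b, c, d) < 40 ∧ ptsU.getD (idxU (a, b, c, d)) 0 = nrmU (a, b, c, d) := by
  decide +kernel

theorem factU2 : ∀ a b c d e : F4, e ≠ 0 →
    nrmU (e • ((a, b, c, d) : VU)) = nrmU (a, b, c, d) := by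
  decide +kernel

theorem factU3 : ∀ i : Fin 40, idxU (ptU i) = i.1 ∧ hU (ptU i) ≠ 0 := by decide +kernel

theorem idxU_lt {v : VU} (hv : hU v ≠ 0) : idxU v < 40 := (factU1 v.1 v.2.1 v.2.2.1 v.2.2.2 hv).2.1

theorem ldU_ne {v : VU} (hv : hU v ≠ 0) : ldU v ≠ 0 := (factU1 v.1 v.2.1 v.2.2.1 v.2.2.2 hv).1

theorem getD_idxU {v : VU} (hv : hU v ≠ 0) : ptsU.getD (idxU v) 0 = nrmU v :=
  (factU1 v.1 v.2.1 v.2.2.1 v.2.2.2 hv).2.2

theorem idxU_smul {e : F4} (he : e ≠ 0) (v : VU) : idxU (e • v) = idxU v := by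
  unfold idxU
  rw [show nrmU (e • v) = nrmU v from factU2 v.1 v.2.1 v.2.2.1 v.2.2.2 e he]

/-- the action of a matrix on the places -/
def actU (M : Matrix (Fin 4) (Fin 4) F4) (i : Fin 40) : Fin 40 :=
  Fin.ofNat 40 (idxU (mvU M (ptU i)))

theorem actU_one (i : Fin 40) : actU 1 i = i := by
  unfold actU
  rw [mvU_one, (factU3 i).1]
  exact Fin.ext (Nat.mod_eq_of_lt i.2)

theorem ptU_actU (M : Matrix (Fin 4) (Fin 4) F4) (i : Fin 40) (h : hU (mvU M (ptU i)) ≠ 0) :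
    ptU (actU M i) = ldU (mvU M (ptU i)) • mvU M (ptU i) := by
  have h1 : (actU M i).1 = idxU (mvU M (ptU i)) := Nat.mod_eq_of_lt (idxU_lt h)
  show ptsU.getD (actU M i).1 0 = _
  rw [h1, getD_idxU h]
  rfl

theorem actU_mul (M N : Matrix (Fin 4) (Fin 4) F4) (hN : ∀ v, hU v ≠ 0 → hU (mvU N v) ≠ 0)
    (i : Fin 40) : actU (M * N) i = actU M (actU N i) := by
  have h0 : hU (mvU N (ptU i)) ≠ 0 := hN _ (factU3 i).2
  have h1 := ptU_actU N i h0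
  unfold actU at h1 ⊢
  rw [h1, mvU_mul, mvU_smul, idxU_smul (ldU_ne h0)]

end Cfsg.Agent.Lib.Helper5.U42
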