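import Mathlib
import Cfsg.Prelude
import Cfsg.Agent.Lib.Helper5.U42c

set_option autoImplicit false
set_option maxRecDepth 100000

/-! The homomorphism from the special unitary group of degree 4 over the field with 4 elements to
the symmetric group of degree 40. -/

namespace Cfsg.Agent.Lib.Helper5.U42

open Matrix
open Cfsg.Agent.Lib.Helper1.Hexa (F4)

/-- the special unitary group -/
abbrev SUc : Type := ↥(Cfsg.SU 4 F4 2)

/-- the matrix of an element -/
def matU (g : SUc) : Matrix (Fin 4) (Fin 4) F4 :=
  ((g : Matrix.SpecialLinearGroup (Fin 4) F4) : Matrix (Fin 4) (Fin 4) F4)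

theorem matU_one : matU 1 = 1 := rfl

theorem matU_mul (g h : SUc) : matU (g * h) = matU g * matU h := rfl

theorem hU_mvU (g : SUc) (v : VU) : hU (mvU (matU g) v) = hU v := by
  have h := g.2 (ofVU v) (ofVU v)
  rw [mvU_eq, ← hU_eq]
  have h2 : hU v = Cfsg.hermForm 4 F4 2 (ofVU v) (ofVU v) := by
    rw [hU_eq, toVU_ofVU]
  rw [h2]
  exact h

instance : MulAction SUc (Fin 40) where
  smul g i := actU (matU g) i
  one_smul i := actU_one i
  mul_smul g h i := actU_mul (matU g) (matU h) (fun v hv => by rw [hU_mvU]; exact hv) i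

/-- the homomorphism -/
def rho2 : SUc →* Equiv.Perm (Fin 40) := MulAction.toPermHom SUc (Fin 40)

theorem rho2_apply (g : SUc) (i : Fin 40) : rho2 g i = actU (matU g) i := rfl

end Cfsg.Agent.Lib.Helper5.U42
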