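import Mathlib
import Cfsg.Prelude
import Cfsg.Agent.Lib.Helper5.U42b
import Cfsg.Agent.Lib.Helper5.U42d

set_option autoImplicit false
set_option maxRecDepth 100000

/-! The unitary transvections act on the 40 points as products of symplectic transvections. -/

namespace Cfsg.Agent.Lib.Helper5.U42

open Matrix
open Cfsg.Agent.Lib.Helper1.Hexa (F4)

/-- the vectors and the scalars of the ten symplectic transvections -/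
def genL : List (VS × ZMod 3) :=
  [((1, 0, 0, 0), 1), ((1, 0, 0, 0), 2), ((0, 1, 0, 0), 1), ((0, 1, 0, 0), 2), ((0, 0, 1, 0), 1), ((0, 0, 1, 0), 2), ((0, 0, 0, 1), 1), ((0, 0, 0, 1), 2), ((1, 1, 1, 1), 1), ((1, 1, 1, 1), 2)]

/-- the ten symplectic transvections -/
def gS (j : ℕ) : Matrix I4 I4 (ZMod 3) :=
  Cfsg.sympTransvection 2 (ofVS (genL.getD j (0, 0)).1) (genL.getD j (0, 0)).2

/-- their actions on the places -/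
def tabS : List (List ℕ) :=
  [[0, 16, 17, 18, 4, 5, 6, 25, 26, 27, 34, 36, 35, 13, 14, 15, 19, 21, 20, 1, 3, 2, 22, 23, 24, 37, 39, 38, 10, 11, 12, 31, 32, 33, 28, 30, 29, 7, 9, 8],
   [0, 19, 21, 20, 4, 5, 6, 37, 39, 38, 28, 29, 30, 13, 14, 15, 1, 2, 3, 16, 18, 17, 22, 23, 24, 7, 8, 9, 34, 36, 35, 31, 32, 33, 10, 12, 11, 25, 27, 26],
   [5, 1, 8, 11, 4, 6, 0, 7, 12, 3, 10, 9, 2, 13, 23, 33, 16, 26, 36, 19, 29, 39, 22, 32, 15, 25, 35, 18, 28, 38, 21, 31, 14, 24, 34, 17, 27, 37, 20, 30],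
   [6, 1, 12, 9, 4, 0, 5, 7, 2, 11, 10, 3, 8, 13, 32, 24, 16, 35, 27, 19, 38, 30, 22, 14, 33, 25, 17, 36, 28, 20, 39, 31, 23, 15, 34, 26, 18, 37, 29, 21],
   [0, 1, 2, 3, 4, 5, 6, 7, 8, 9, 10, 11, 12, 19, 20, 21, 13, 14, 15, 16, 17, 18, 28, 29, 30, 22, 23, 24, 25, 26, 27, 37, 38, 39, 31, 32, 33, 34, 35, 36],
   [0, 1, 2, 3, 4, 5, 6, 7, 8, 9, 10, 11, 12, 16, 17, 18, 19, 20, 21, 13, 14, 15, 25, 26, 27, 28, 29, 30, 22, 23, 24, 34, 35, 36, 37, 38, 39, 31, 32, 33],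
   [0, 1, 2, 3, 6, 4, 5, 9, 7, 8, 12, 10, 11, 13, 14, 15, 16, 17, 18, 19, 20, 21, 24, 22, 23, 27, 25, 26, 30, 28, 29, 32, 33, 31, 35, 36, 34, 38, 39, 37],
   [0, 1, 2, 3, 5, 6, 4, 8, 9, 7, 11, 12, 10, 13, 14, 15, 16, 17, 18, 19, 20, 21, 23, 24, 22, 26, 27, 25, 29, 30, 28, 33, 31, 32, 36, 34, 35, 39, 37, 38],
   [27, 29, 22, 3, 17, 5, 34, 7, 39, 15, 32, 19, 12, 8, 14, 37, 16, 35, 6, 33, 10, 21, 30, 1, 24, 0, 26, 25, 28, 23, 2, 31, 20, 11, 18, 4, 36, 9, 38, 13],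
   [25, 23, 30, 3, 35, 5, 18, 7, 13, 37, 20, 33, 12, 39, 14, 9, 16, 4, 34, 11, 32, 21, 2, 29, 24, 27, 26, 0, 28, 1, 22, 31, 10, 19, 6, 17, 36, 15, 38, 8]]

theorem gS_mem : ∀ j, j < 10 → gS j * Matrix.J (Fin 2) (ZMod 3) * (gS j).transpose =
    Matrix.J (Fin 2) (ZMod 3) := by decide +kernel

theorem gS_tab : ∀ j, j < 10 → ∀ i : Fin 40, (actS (gS j) i).1 = (tabS.getD j []).getD i.1 0 := by
  decide +kernel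

/-- the 45 isotropic points -/
def isoL : List VU :=
  [(F4.z, F4.z, F4.o, F4.o), (F4.z, F4.z, F4.o, F4.w), (F4.z, F4.z, F4.o, F4.w2), (F4.z, F4.o, F4.z, F4.o), (F4.z, F4.o, F4.z, F4.w),
   (F4.z, F4.o, F4.z, F4.w2), (F4.z, F4.o, F4.o, F4.z), (F4.z, F4.o, F4.w, F4.z), (F4.z, F4.o, F4.w2, F4.z), (F4.o, F4.z, F4.z, F4.o),
   (F4.o, F4.z, F4.z, F4.w), (F4.o, F4.z, F4.z, F4.w2), (F4.o, F4.z, F4.o, F4.z), (F4.o, F4.z, F4.w, F4.z), (F4.o, F4.z, F4.w2, F4.z),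
   (F4.o, F4.o, F4.z, F4.z), (F4.o, F4.o, F4.o, F4.o), (F4.o, F4.o, F4.o, F4.w), (F4.o, F4.o, F4.o, F4.w2), (F4.o, F4.o, F4.w, F4.o),
   (F4.o, F4.o, F4.w, F4.w), (F4.o, F4.o, F4.w, F4.w2), (F4.o, F4.o, F4.w2, F4.o), (F4.o, F4.o, F4.w2, F4.w), (F4.o, F4.o, F4.w2, F4.w2),
   (F4.o, F4.w, F4.z, F4.z), (F4.o, F4.w, F4.o, F4.o), (F4.o, F4.w, F4.o, F4.w), (F4.o, F4.w, F4.o, F4.w2), (F4.o, F4.w, F4.w, F4.o),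
   (F4.o, F4.w, F4.w, F4.w), (F4.o, F4.w, F4.w, F4.w2), (F4.o, F4.w, F4.w2, F4.o), (F4.o, F4.w, F4.w2, F4.w), (F4.o, F4.w, F4.w2, F4.w2),
   (F4.o, F4.w2, F4.z, F4.z), (F4.o, F4.w2, F4.o, F4.o), (F4.o, F4.w2, F4.o, F4.w), (F4.o, F4.w2, F4.o, F4.w2), (F4.o, F4.w2, F4.w, F4.o),
   (F4.o, F4.w2, F4.w, F4.w), (F4.o, F4.w2, F4.w, F4.w2), (F4.o, F4.w2, F4.w2, F4.o), (F4.o, F4.w2, F4.w2, F4.w), (F4.o, F4.w2, F4.w2, F4.w2)]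

/-- the words of the 45 unitary transvections -/
def wordTab : List (List ℕ) :=
  [[9, 2, 0, 9, 2, 0, 9, 2, 0],
   [8, 7, 5, 8, 7, 5, 8, 4],
   [9, 6, 4, 9, 6, 4, 9, 5],
   [6, 9, 4, 9, 7, 4],
   [9, 4, 9, 4],
   [7, 9, 4, 9, 6, 4],
   [4, 9, 6, 9, 6, 5],
   [9, 6, 9, 6],
   [5, 9, 6, 9, 6, 4],
   [1, 9, 2, 9, 2, 0],
   [4, 1, 9, 3, 7, 0],
   [7, 4, 1, 9, 3, 0],
   [3, 9, 0, 9, 2, 0],
   [6, 3, 9, 1, 5, 2],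
   [6, 5, 3, 9, 2, 1],
   [5, 0, 5, 0],
   [8, 7, 1, 8, 7, 1, 8, 0],
   [9, 6, 5, 8, 3, 0, 9, 1],
   [9, 6, 5, 8, 5, 3, 8, 3, 0],
   [8, 5, 2, 9, 7, 1, 9, 0],
   [9, 5, 3, 9, 6, 1, 8, 4],
   [8, 3, 1, 8, 3, 1, 8, 0],
   [8, 7, 5, 8, 7, 0, 9, 3, 0],
   [9, 2, 0, 9, 2, 0, 9, 1],
   [8, 6, 0, 8, 4, 3, 9, 1],
   [1, 9, 6, 9, 6, 0],
   [8, 2, 7, 4, 3, 0],
   [7, 8, 3, 7, 4, 3, 0],
   [6, 8, 7, 4, 3, 0],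
   [0, 9, 3, 7, 0, 4, 0],
   [7, 0, 9, 0, 4, 3, 0],
   [0, 9, 2, 9, 2, 1],
   [3, 7, 4, 9, 5, 0],
   [2, 9, 0, 9, 3, 0],
   [6, 4, 8, 7, 1, 4, 3, 0],
   [6, 3, 1, 9, 1, 5, 2, 0],
   [5, 2, 8, 6, 1, 5, 1],
   [6, 5, 9, 7, 2, 1],
   [1, 9, 4, 9, 4, 0],
   [7, 4, 9, 5, 3, 0],
   [6, 9, 0, 9, 7, 0],
   [9, 0, 9, 0],
   [7, 9, 0, 4, 3, 1],
   [9, 2, 9, 2],
   [9, 3, 7, 0, 4, 1]]

/-- the word of an isotropic vector -/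
def wordOf (v : VU) : List ℕ := wordTab.getD (isoL.idxOf (nrmU v)) []

/-- the value of a word at a place -/
def evalWord (w : List ℕ) (i : ℕ) : ℕ := w.foldr (fun s acc => (tabS.getD s []).getD acc 0) i

/-- the unitary transvection of a vector -/
def utv (v : VU) : Matrix (Fin 4) (Fin 4) F4 := Cfsg.unitaryTransvection 4 2 (ofVU v) 1

theorem words_lt : ∀ w ∈ wordTab, ∀ s ∈ w, s < 10 := by decide +kernel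

theorem utv_word : ∀ a b c d : F4, hU (a, b, c, d) = 0 → ∀ i : Fin 40,
    (actU (utv (a, b, c, d)) i).1 = evalWord (wordOf (a, b, c, d)) i.1 := by
  decide +kernel

end Cfsg.Agent.Lib.Helper5.U42
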