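import Mathlib
import Cfsg.Prelude
import Cfsg.Agent.Lib.Helper5.U42e
import Cfsg.Agent.Lib.Helper5.IsoRange
import Cfsg.Agent.Lib.Helper5.SylSp4c
import Cfsg.Agent.Lib.Helper1.SUCongr
import Cfsg.Agent.S0779
import Cfsg.Agent.S0780
import Cfsg.Agent.S0283
import Cfsg.Agent.S0280

set_option autoImplicit false
set_option maxRecDepth 100000

/-! The projective special unitary group of degree 4 over the field with 4 elements is isomorphic
to the projective symplectic group of degree 4 over the field with 3 elements. -/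

namespace Cfsg.Agent.Lib.Helper5.U42

open Matrix
open Cfsg.Agent.Lib.Helper1.Hexa (F4)

/-- the ten symplectic transvections as elements of the group -/
def gSp (j : ℕ) : SpZ :=
  if hj : j < 10 then ⟨gS j, (SymplecticGroup.mem_iff).2 (gS_mem j hj)⟩ else 1

theorem gSp_coe {j : ℕ} (hj : j < 10) : (gSp j).1 = gS j := by
  unfold gSp
  rw [dif_pos hj]

theorem evalWord_spec (w : List ℕ) (hw : ∀ s ∈ w, s < 10) :
    ∃ g : SpZ, ∀ i : Fin 40, (rho1 g i).1 = evalWord w i.1 := by
  induction w with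
  | nil => exact ⟨1, fun i => by rw [map_one]; rfl⟩
  | cons s w ih =>
    obtain ⟨g, hg⟩ := ih (fun t ht => hw t (List.mem_cons_of_mem _ ht))
    have hs : s < 10 := hw s List.mem_cons_self
    refine ⟨gSp s * g, fun i => ?_⟩
    rw [map_mul, Equiv.Perm.mul_apply, rho1_apply, gSp_coe hs, gS_tab s hs, hg]
    rfl

theorem wordOf_lt (v : VU) : ∀ s ∈ wordOf v, s < 10 := by
  unfold wordOf
  by_cases h : isoL.idxOf (nrmU v) < wordTab.length
  · rw [List.getD_eq_getElem _ _ h]
    exact words_lt _ (List.getElem_mem h)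
  · rw [List.getD_eq_default _ _ (not_lt.1 h)]
    intro s hs
    exact absurd hs List.not_mem_nil

theorem F4_card : Fintype.card F4 = 2 ^ 2 := rfl

theorem eq_one_of_matU {A : SUc} (h : matU A = 1) : A = 1 := by
  apply Subtype.ext
  apply Subtype.ext
  exact h

theorem ut_zero_vec (c : F4) : Cfsg.unitaryTransvection 4 2 (0 : Fin 4 → F4) c = 1 := by
  unfold Cfsg.unitaryTransvection
  ext i j
  simp

theorem ut_zero_scalar (v : Fin 4 → F4) : Cfsg.unitaryTransvection 4 2 v 0 = 1 := by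
  unfold Cfsg.unitaryTransvection
  rw [zero_smul, add_zero]

/-- the image of a unitary transvection lies in the image of the symplectic group -/
theorem gen_mem (A : SUc) (v : Fin 4 → F4) (c : F4) (hv : Cfsg.hermForm 4 F4 2 v v = 0)
    (hA : matU A = Cfsg.unitaryTransvection 4 2 v c) : rho2 A ∈ rho1.range := by
  by_cases hv0 : v = 0
  · rw [hv0, ut_zero_vec] at hA
    rw [eq_one_of_matU hA, map_one]
    exact Subgroup.one_mem _
  · have hpres : ∀ x y : Fin 4 → F4,
        Cfsg.hermForm 4 F4 2 (Cfsg.unitaryTransvection 4 2 v c *ᵥ x)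
          (Cfsg.unitaryTransvection 4 2 v c *ᵥ y) = Cfsg.hermForm 4 F4 2 x y := by
      intro x y
      rw [← hA]
      exact A.2 x y
    rcases (Cfsg.Agent.S0779.result F4_card 4 v hv0 hv c).1 hpres with hc | hc
    · rw [hc, ut_zero_scalar] at hA
      rw [eq_one_of_matU hA, map_one]
      exact Subgroup.one_mem _
    · have hc1 : c = 1 := by
        have h1 : c ^ (2 - 1) = c := by
          show c ^ 1 = c
          exact pow_one c
        rw [h1] at hc
        rw [hc]
        decide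
      have hA' : matU A = utv (toVU v) := by
        rw [hA, hc1]
        unfold utv
        rw [ofVU_toVU]
      have hh : hU (toVU v) = 0 := by rw [← hU_eq]; exact hv
      obtain ⟨g, hg⟩ := evalWord_spec (wordOf (toVU v)) (wordOf_lt _)
      refine ⟨g, ?_⟩
      apply Equiv.ext
      intro i
      apply Fin.ext
      rw [hg, rho2_apply, hA']
      exact (utv_word _ _ _ _ hh i).symm

theorem range_le : rho2.range ≤ rho1.range := by
  have hgen := Cfsg.Agent.S0780.result F4_card 4 (by norm_num) (by norm_num)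
  rw [MonoidHom.range_eq_map, ← hgen, MonoidHom.map_closure, Subgroup.closure_le]
  rintro _ ⟨A, ⟨v, c, hv, hA⟩, rfl⟩
  exact gen_mem A v c hv hA

/-- a unitary transvection as an element of the group -/
def mkTv (u : VU) (hu : hU u = 0) (hu0 : ofVU u ≠ 0) (hdet : (utv u).det = 1) : SUc :=
  ⟨⟨utv u, hdet⟩, by
    intro x y
    have h := (Cfsg.Agent.S0779.result F4_card 4 (ofVU u) hu0
      (by rw [hU_eq, toVU_ofVU]; exact hu) 1).2 (Or.inr (by decide))
    exact h x y⟩

theorem not_comm : ∃ a b : SUc, rho2 a * rho2 b ≠ rho2 b * rho2 a := by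
  refine ⟨mkTv (F4.z, F4.z, F4.o, F4.o) (by decide +kernel) (by decide +kernel) (by decide +kernel),
    mkTv (F4.z, F4.z, F4.o, F4.w) (by decide +kernel) (by decide +kernel) (by decide +kernel), ?_⟩
  intro h
  have h1 := congrArg (fun σ : Equiv.Perm (Fin 40) => σ 4) h
  simp only [Equiv.Perm.mul_apply, rho2_apply] at h1
  revert h1
  show ¬ (actU (utv (F4.z, F4.z, F4.o, F4.o)) (actU (utv (F4.z, F4.z, F4.o, F4.w)) 4) =
    actU (utv (F4.z, F4.z, F4.o, F4.w)) (actU (utv (F4.z, F4.z, F4.o, F4.o)) 4))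
  decide +kernel

theorem card_PSUc : Nat.card (Cfsg.PSU 4 F4 2) = 25920 := by
  have h := Cfsg.Agent.S0280.result F4_card 4 (by norm_num)
  simp [Finset.prod_range_succ] at h
  rw [if_neg (by decide)] at h
  omega

theorem iso_concrete : Nonempty (Cfsg.PSU 4 F4 2 ≃* Cfsg.PSp 2 (ZMod 3)) := by
  apply IsoRange.iso_of_range_le rho1 rho2 range_le
    (Cfsg.Agent.S0283.result F4_card 4 (by norm_num) (by norm_num)) not_comm center_le_ker
  show Nat.card (Cfsg.PSp 2 (ZMod 3)) = Nat.card (Cfsg.PSU 4 F4 2)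
  rw [card_PSUc, Cfsg.Agent.Lib.Helper5.SylSp4.card_PSp (ZMod 3) (by simp)]
  norm_num

theorem iso_main {F K : Type*} [Field F] [Fintype F] [Field K] [Fintype K]
    (hF : Fintype.card F = 4) (hK : Fintype.card K = 3) :
    Nonempty (Cfsg.PSU 4 F 2 ≃* Cfsg.PSp 2 K) := by
  obtain ⟨e0⟩ := iso_concrete
  have e : F4 ≃+* F := FiniteField.ringEquivOfCardEq (by rw [hF]; rfl)
  let φ : ZMod 3 ≃+* K := ZMod.ringEquivOfPrime K Nat.prime_three hK
  let e1 : Cfsg.PSU 4 F4 2 ≃* Cfsg.PSU 4 F 2 := Cfsg.Agent.Lib.Helper1.SUCongr.psuCongr e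
  let e2 : Cfsg.PSp 2 (ZMod 3) ≃* Cfsg.PSp 2 K :=
    QuotientGroup.congr _ _ (Cfsg.Agent.Lib.Helper5.SylSp4.spCongr' φ)
      (Cfsg.Agent.Lib.Helper1.SUCongr.map_center _)
  exact ⟨e1.symm.trans (e0.trans e2)⟩

end Cfsg.Agent.Lib.Helper5.U42
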