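import Mathlib
import Cfsg.Agent.Lib.Helper5.UnipForm4
import Cfsg.Agent.Lib.Helper5.OrthCls4

set_option autoImplicit false

namespace Cfsg.Agent.Lib.Helper5.UnipForm

open Module LinearMap Matrix QuadraticMap Cfsg.Agent.Lib.Helper5.SpReal

universe u

variable {F : Type u} [Field F]

/-- the multiset `s` is the Jordan type of a unipotent isometry of a nondegenerate quadratic
space -/
def OUnip (F : Type u) [Field F] (s : Multiset ℕ) : Prop :=
  ∃ (V : Type u) (_ : AddCommGroup V) (_ : Module F V) (_ : FiniteDimensional F V)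
    (Q : QuadraticForm F V) (A : Module.End F V) (n : ℕ),
    (polarBilin Q).Nondegenerate ∧ (∀ v, Q (A v) = Q v) ∧
    (A - 1) ^ n = 0 ∧
    ∀ j, finrank F (LinearMap.ker ((A - 1) ^ j)) = (s.map (fun a => min a j)).sum

theorem oUnip_zero : OUnip F 0 := by
  refine ⟨PUnit.{u + 1}, inferInstance, inferInstance, inferInstance, 0, 1, 1, ?_, ?_, ?_, ?_⟩
  · exact ⟨fun x _ => Subsingleton.elim _ _, fun x _ => Subsingleton.elim _ _⟩
  · intro v; rfl
  · simp
  · intro j
    rw [Multiset.map_zero, Multiset.sum_zero]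
    exact Module.finrank_zero_of_subsingleton

theorem OUnip.add {s₁ s₂ : Multiset ℕ} (h₁ : OUnip F s₁) (h₂ : OUnip F s₂) :
    OUnip F (s₁ + s₂) := by
  obtain ⟨V₁, iA₁, iM₁, iF₁, Q₁, A₁, n₁, h11, h12, h14, h15⟩ := h₁
  obtain ⟨V₂, iA₂, iM₂, iF₂, Q₂, A₂, n₂, h21, h22, h24, h25⟩ := h₂
  have hsub : (A₁.prodMap A₂ : Module.End F (V₁ × V₂)) - 1 = (A₁ - 1).prodMap (A₂ - 1) := by
    apply LinearMap.ext
    intro v
    rfl
  refine ⟨V₁ × V₂, inferInstance, inferInstance, inferInstance, Q₁.prod Q₂, A₁.prodMap A₂, n₁ + n₂,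
    Cfsg.Agent.Lib.Helper5.OrthCls.prod_nondeg Q₁ Q₂ h11 h21, ?_, ?_, ?_⟩
  · intro v
    show Q₁ (A₁ v.1) + Q₂ (A₂ v.2) = Q₁ v.1 + Q₂ v.2
    rw [h12, h22]
  · rw [hsub]
    apply LinearMap.ext
    intro v
    rw [prodMap_pow_apply]
    have e1 : ((A₁ - 1) ^ (n₁ + n₂)) v.1 = 0 := by
      rw [pow_add, h14, zero_mul, LinearMap.zero_apply]
    have e2 : ((A₂ - 1) ^ (n₁ + n₂)) v.2 = 0 := by
      rw [pow_add, h24, mul_zero, LinearMap.zero_apply]
    rw [e1, e2]
    rfl
  · intro j
    rw [hsub, finrank_ker_prodMap_pow, h15, h25, Multiset.map_add, Multiset.sum_add]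

section pair
variable {ι : Type} [Fintype ι] [DecidableEq ι]

/-- the hyperbolic quadratic form on `U × U` -/
def hypQ (F : Type u) [Field F] (ι : Type) [Fintype ι] : QuadraticForm F ((ι → F) × (ι → F)) :=
  LinearMap.BilinMap.toQuadraticMap
    (LinearMap.mk₂ F (fun x y : (ι → F) × (ι → F) => x.1 ⬝ᵥ y.2)
      (fun x x' y => by simp only [Prod.fst_add, add_dotProduct])
      (fun c x y => by simp only [Prod.smul_fst, smul_dotProduct])
      (fun x y y' => by simp only [Prod.snd_add, dotProduct_add])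
      (fun c x y => by simp only [Prod.smul_snd, dotProduct_smul]))

theorem hypQ_apply (x : (ι → F) × (ι → F)) : hypQ F ι x = x.1 ⬝ᵥ x.2 := rfl

theorem polar_hypQ (x y : (ι → F) × (ι → F)) :
    polar (hypQ F ι) x y = x.1 ⬝ᵥ y.2 + y.1 ⬝ᵥ x.2 := by
  unfold hypQ
  rw [LinearMap.BilinMap.polar_toQuadraticMap]
  rfl

theorem hypQ_nondeg : (polarBilin (hypQ F ι)).Nondegenerate := by
  have key : ∀ x : (ι → F) × (ι → F), (∀ y, polar (hypQ F ι) x y = 0) → x = 0 := by
    intro x hx
    apply Prod.ext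
    · funext i
      have := hx (0, Pi.single i 1)
      rw [polar_hypQ] at this
      simpa using this
    · funext i
      have := hx (Pi.single i 1, 0)
      rw [polar_hypQ] at this
      simpa using this
  refine ⟨key, fun y hy => key y (fun x => ?_)⟩
  rw [polar_comm]
  exact hy x

theorem hypOp_zero_preserves (T T' : Matrix ι ι F) (hT : T' * T = 1) (x : (ι → F) × (ι → F)) :
    hypQ F ι (hypOp T T' 0 x) = hypQ F ι x := by
  have hT2 : Tᵀ * T'ᵀ = 1 := by rw [← Matrix.transpose_mul, hT, Matrix.transpose_one]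
  rw [hypQ_apply, hypQ_apply, hypOp_apply]
  simp only [mul_zero, zero_mulVec, add_zero]
  rw [mulVec_dot, mulVec_mulVec, hT2, one_mulVec]

/-- two Jordan blocks of the same size, orthogonal version -/
theorem oUnip_pair (j : ℕ) : OUnip F {j, j} := by
  set T : Matrix (Fin j) (Fin j) F := 1 + Cfsg.Agent.Lib.Helper5.RegUnip.shiftM j with hT
  have hT1 : T - 1 = Cfsg.Agent.Lib.Helper5.RegUnip.shiftM j := by rw [hT]; abel
  have hnil : (T - 1) ^ j = 0 := by rw [hT1]; exact shiftM_pow j
  obtain ⟨T', h1, h2⟩ := exists_inv_of_nilp T j hnil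
  refine ⟨(Fin j → F) × (Fin j → F), inferInstance, inferInstance, inferInstance, hypQ F (Fin j),
    hypOp T T' 0, j, hypQ_nondeg, hypOp_zero_preserves T T' h2, ?_, ?_⟩
  · rw [hypOp_zero_sub_one]
    apply LinearMap.ext
    intro v
    rw [prodMap_pow_apply, ← Matrix.toLin'_pow, ← Matrix.toLin'_pow, hnil]
    have : (T'ᵀ - 1) ^ j = 0 := by
      have : (T'ᵀ - 1) ^ j = ((T' - 1) ^ j)ᵀ := by
        rw [Matrix.transpose_pow, Matrix.transpose_sub, Matrix.transpose_one]
      rw [this, inv_sub_one_pow T T' h1 h2, hnil, mul_zero, Matrix.transpose_zero]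
    rw [this]
    simp
  · intro i
    rw [hypOp_zero_sub_one, finrank_ker_prodMap_pow, finrank_ker_transpose_inv T T' h1 h2, hT1,
      finrank_ker_shiftM_pow]
    simp

end pair

section oddblock
variable (k : ℕ)

/-- the antidiagonal form with alternating signs -/
def antiΩ (F : Type u) [Field F] (k : ℕ) : Matrix (Fin (2 * k + 1)) (Fin (2 * k + 1)) F :=
  Matrix.of fun i j => if (i : ℕ) + (j : ℕ) = 2 * k then (-1) ^ (i : ℕ) else 0

theorem antiΩ_transpose : (antiΩ F k)ᵀ = antiΩ F k := by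
  ext i j
  simp only [antiΩ, Matrix.transpose_apply, Matrix.of_apply]
  by_cases h : (i : ℕ) + (j : ℕ) = 2 * k
  · rw [if_pos h, if_pos (by omega)]
    have : (j : ℕ) = 2 * k - (i : ℕ) := by omega
    rw [this]
    have h2 : ((-1 : F) ^ (2 * k - (i : ℕ))) * (-1) ^ (i : ℕ) = 1 := by
      rw [← pow_add, show 2 * k - (i : ℕ) + (i : ℕ) = 2 * k by omega, pow_mul]
      simp
    have h3 : ((-1 : F) ^ (i : ℕ)) * (-1) ^ (i : ℕ) = 1 := by
      rw [← pow_add, ← two_mul, pow_mul]
      simp
    have h4 : ((-1 : F) ^ (i : ℕ)) ≠ 0 := pow_ne_zero _ (neg_ne_zero.2 one_ne_zero)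
    exact mul_right_cancel₀ h4 (h2.trans h3.symm)
  · rw [if_neg h, if_neg (by omega)]

theorem antiΩ_skew : (Cfsg.Agent.Lib.Helper5.RegUnip.shiftM (2 * k + 1) : Matrix _ _ F)ᵀ * antiΩ F k +
    antiΩ F k * Cfsg.Agent.Lib.Helper5.RegUnip.shiftM (2 * k + 1) = 0 := by
  ext i j
  rw [Matrix.add_apply, Matrix.mul_apply, Matrix.mul_apply, Matrix.zero_apply]
  simp only [Cfsg.Agent.Lib.Helper5.RegUnip.shiftM, antiΩ, Matrix.transpose_apply, Matrix.of_apply,
    ite_mul, one_mul, zero_mul, mul_ite, mul_one, mul_zero]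
  by_cases h : (i : ℕ) + (j : ℕ) + 1 = 2 * k
  · have hi : (i : ℕ) + 1 < 2 * k + 1 := by omega
    have hj : (j : ℕ) + 1 < 2 * k + 1 := by omega
    rw [Finset.sum_eq_single ⟨(i : ℕ) + 1, hi⟩, Finset.sum_eq_single ⟨(j : ℕ) + 1, hj⟩]
    · simp only [if_true]
      rw [if_pos (by omega), if_pos (by omega), pow_succ]
      ring
    · intro c _ hc
      have : ¬ ((c : ℕ) = (j : ℕ) + 1) := fun h => hc (Fin.ext h)
      rw [if_neg this]
    · intro h; exact absurd (Finset.mem_univ _) h
    · intro c _ hc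
      have : ¬ ((c : ℕ) = (i : ℕ) + 1) := fun h => hc (Fin.ext h)
      rw [if_neg this, ite_self]
    · intro h; exact absurd (Finset.mem_univ _) h
  · rw [Finset.sum_eq_zero, Finset.sum_eq_zero, add_zero]
    · intro c _
      by_cases hc : (c : ℕ) = (j : ℕ) + 1
      · rw [if_pos hc, if_neg (by omega)]
      · rw [if_neg hc]
    · intro c _
      by_cases hc : (c : ℕ) = (i : ℕ) + 1
      · rw [if_pos hc, if_neg (by omega)]
      · rw [if_neg hc, ite_self]

theorem antiΩ_nondeg (x : Fin (2 * k + 1) → F) (hx : ∀ y, x ⬝ᵥ (antiΩ F k *ᵥ y) = 0) : x = 0 := by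
  funext i
  have hi : 2 * k - (i : ℕ) < 2 * k + 1 := by omega
  have h1 := hx (Pi.single ⟨2 * k - (i : ℕ), hi⟩ 1)
  rw [Matrix.mulVec_single_one, dotProduct] at h1
  rw [Finset.sum_eq_single i] at h1
  · simp only [antiΩ, Matrix.col_apply, Matrix.of_apply] at h1
    rw [if_pos (show (i : ℕ) + (2 * k - (i : ℕ)) = 2 * k by have := i.2; omega)] at h1
    rcases mul_eq_zero.1 h1 with h | h
    · exact h
    · exact absurd h (pow_ne_zero _ (neg_ne_zero.2 one_ne_zero))
  · intro c _ hc
    simp only [antiΩ, Matrix.col_apply, Matrix.of_apply]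
    rw [if_neg, mul_zero]
    intro h
    apply hc
    apply Fin.ext
    have h' : (c : ℕ) + (2 * k - (i : ℕ)) = 2 * k := h
    have := i.2
    omega
  · intro h; exact absurd (Finset.mem_univ _) h

/-- the quadratic form attached to a square matrix -/
def matQ {ι : Type} [Fintype ι] [DecidableEq ι] (Ω : Matrix ι ι F) : QuadraticForm F (ι → F) :=
  LinearMap.BilinMap.toQuadraticMap
    (LinearMap.mk₂ F (fun x y : ι → F => x ⬝ᵥ (Ω *ᵥ y))
      (fun x x' y => by simp only [add_dotProduct])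
      (fun c x y => by simp only [smul_dotProduct])
      (fun x y y' => by simp only [mulVec_add, dotProduct_add])
      (fun c x y => by simp only [mulVec_smul, dotProduct_smul]))

theorem matQ_apply {ι : Type} [Fintype ι] [DecidableEq ι] (Ω : Matrix ι ι F) (x : ι → F) :
    matQ Ω x = x ⬝ᵥ (Ω *ᵥ x) := rfl

theorem polar_matQ {ι : Type} [Fintype ι] [DecidableEq ι] (Ω : Matrix ι ι F) (hΩ : Ωᵀ = Ω)
    (x y : ι → F) : polar (matQ Ω) x y = 2 * (x ⬝ᵥ (Ω *ᵥ y)) := by
  unfold matQ
  rw [LinearMap.BilinMap.polar_toQuadraticMap]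
  show x ⬝ᵥ (Ω *ᵥ y) + y ⬝ᵥ (Ω *ᵥ x) = 2 * (x ⬝ᵥ (Ω *ᵥ y))
  have : y ⬝ᵥ (Ω *ᵥ x) = x ⬝ᵥ (Ω *ᵥ y) := by
    rw [dotProduct_comm y, mulVec_dot, hΩ]
  rw [this]
  ring

theorem matQ_preserves {ι : Type} [Fintype ι] [DecidableEq ι] (Ω G : Matrix ι ι F)
    (hG : Gᵀ * Ω * G = Ω) (x : ι → F) : matQ Ω (Matrix.toLin' G x) = matQ Ω x := by
  rw [matQ_apply, matQ_apply, Matrix.toLin'_apply, mulVec_dot, mulVec_mulVec, mulVec_mulVec, hG]

/-- a single Jordan block of odd size, in odd characteristic -/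
theorem oUnip_single (h2 : (2 : F) ≠ 0) (k : ℕ) : OUnip F {2 * k + 1} := by
  set L : Matrix (Fin (2 * k + 1)) (Fin (2 * k + 1)) F :=
    Cfsg.Agent.Lib.Helper5.RegUnip.shiftM (2 * k + 1) with hL
  set T : Matrix (Fin (2 * k + 1)) (Fin (2 * k + 1)) F := 1 + L with hT
  set Ω := antiΩ F k with hΩ
  have hT1 : T - 1 = L := by rw [hT]; abel
  have hnil : (T - 1) ^ (2 * k + 1) = 0 := by rw [hT1]; exact shiftM_pow (2 * k + 1)
  obtain ⟨T', h1, h2'⟩ := exists_inv_of_nilp T (2 * k + 1) hnil
  have hskew : Lᵀ * Ω + Ω * L = 0 := antiΩ_skew k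
  set G : Matrix (Fin (2 * k + 1)) (Fin (2 * k + 1)) F := (2 : F) • T' - 1 with hG
  have hGT : G = (1 - L) * T' := by
    have : (1 - L) = 2 - T := by
      rw [hT]
      have : (2 : Matrix (Fin (2 * k + 1)) (Fin (2 * k + 1)) F) = 1 + 1 := by norm_num
      rw [this]; abel
    rw [this, sub_mul, h1, hG]
    congr 1
    rw [two_smul, two_mul T']
  have hkey : (1 - L)ᵀ * Ω * (1 - L) = Tᵀ * Ω * T := by
    have e1 : (1 - L)ᵀ * Ω * (1 - L) = Ω - (Lᵀ * Ω + Ω * L) + Lᵀ * Ω * L := by
      rw [Matrix.transpose_sub, Matrix.transpose_one]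
      noncomm_ring
    have e2 : Tᵀ * Ω * T = Ω + (Lᵀ * Ω + Ω * L) + Lᵀ * Ω * L := by
      rw [hT, Matrix.transpose_add, Matrix.transpose_one]
      noncomm_ring
    rw [e1, e2, hskew, sub_zero, add_zero]
  have hpres : Gᵀ * Ω * G = Ω := by
    have hT2 : Tᵀ * T'ᵀ = 1 := by rw [← Matrix.transpose_mul, h2', Matrix.transpose_one]
    have hT3 : T'ᵀ * Tᵀ = 1 := by rw [← Matrix.transpose_mul, h1, Matrix.transpose_one]
    rw [hGT, Matrix.transpose_mul]
    calc T'ᵀ * (1 - L)ᵀ * Ω * ((1 - L) * T')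
        = T'ᵀ * ((1 - L)ᵀ * Ω * (1 - L)) * T' := by noncomm_ring
      _ = T'ᵀ * (Tᵀ * Ω * T) * T' := by rw [hkey]
      _ = (T'ᵀ * Tᵀ) * Ω * (T * T') := by noncomm_ring
      _ = Ω := by rw [hT3, h1, one_mul, mul_one]
  have hG1 : G - 1 = (2 : F) • (T' - 1) := by
    rw [hG, smul_sub, two_smul, two_smul]
    abel
  have hGpow : ∀ j, (G - 1) ^ j = ((2 : F) ^ j) • (T' - 1) ^ j := by
    intro j
    rw [hG1, smul_pow]
  have hker : ∀ j, LinearMap.ker ((Matrix.toLin' G - 1) ^ j) =
      LinearMap.ker (Matrix.toLin' ((T - 1) ^ j)) := by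
    intro j
    have : (Matrix.toLin' G - 1 : Module.End F (Fin (2 * k + 1) → F)) = Matrix.toLin' (G - 1) := by
      apply LinearMap.ext
      intro x
      show G *ᵥ x - x = (G - 1) *ᵥ x
      rw [Matrix.sub_mulVec G 1 x, one_mulVec]
    rw [this, ← Matrix.toLin'_pow, hGpow, ← ker_inv_sub_one_pow T T' h1 h2' j]
    ext x
    rw [LinearMap.mem_ker, LinearMap.mem_ker, Matrix.toLin'_apply, Matrix.toLin'_apply,
      Matrix.smul_mulVec]
    constructor
    · intro h
      rcases smul_eq_zero.1 h with h | h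
      · exact absurd h (pow_ne_zero _ h2)
      · exact h
    · intro h
      rw [h, smul_zero]
  refine ⟨Fin (2 * k + 1) → F, inferInstance, inferInstance, inferInstance, matQ Ω,
    Matrix.toLin' G, 2 * k + 1, ?_, matQ_preserves Ω G hpres, ?_, ?_⟩
  · have key : ∀ x : Fin (2 * k + 1) → F, (∀ y, polar (matQ Ω) x y = 0) → x = 0 := by
      intro x hx
      apply antiΩ_nondeg k x
      intro y
      have := hx y
      rw [polar_matQ Ω (antiΩ_transpose k)] at this
      rcases mul_eq_zero.1 this with h | h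
      · exact absurd h h2
      · exact h
    refine ⟨key, fun y hy => key y (fun x => ?_)⟩
    rw [polar_comm]
    exact hy x
  · have h0 := hker (2 * k + 1)
    rw [hnil, map_zero, LinearMap.ker_zero] at h0
    exact LinearMap.ker_eq_top.1 h0
  · intro j
    rw [hker j, hT1, Matrix.toLin'_pow, finrank_ker_shiftM_pow]
    simp

/-- every admissible multiset of block sizes is realised in an orthogonal space (odd
characteristic) -/
theorem oUnip_of_parity (h2 : (2 : F) ≠ 0) : ∀ (n : ℕ) (s : Multiset ℕ), Multiset.card s = n →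
    (∀ a ∈ s, 1 ≤ a) → (∀ j, Even j → Even (s.count j)) → OUnip F s := by
  intro n
  induction n using Nat.strong_induction_on with
  | _ n ih =>
    intro s hcard hpos hpar
    by_cases hs : s = 0
    · rw [hs]; exact oUnip_zero
    obtain ⟨a, ha⟩ := Multiset.exists_mem_of_ne_zero hs
    have hs1 : a ::ₘ s.erase a = s := Multiset.cons_erase ha
    have hc1 : Multiset.card (s.erase a) + 1 = n := by
      rw [← hcard, ← hs1, Multiset.card_cons, hs1]
    rcases Nat.even_or_odd a with hae | hao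
    · -- a pair of even blocks
      have hcnt : 2 ≤ s.count a := by
        have h1 : 1 ≤ s.count a := Multiset.one_le_count_iff_mem.2 ha
        obtain ⟨c, hc⟩ := hpar a hae
        omega
      have ha' : a ∈ s.erase a := by
        rw [← Multiset.one_le_count_iff_mem, Multiset.count_erase_self]
        omega
      have hs2 : a ::ₘ (s.erase a).erase a = s.erase a := Multiset.cons_erase ha'
      have hc2 : Multiset.card ((s.erase a).erase a) + 2 = n := by
        rw [← hc1, ← hs2, Multiset.card_cons, hs2]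
      have h1 : OUnip F ((s.erase a).erase a) := by
        apply ih (Multiset.card ((s.erase a).erase a)) (by omega) _ rfl
        · intro b hb
          exact hpos b (Multiset.mem_of_mem_erase (Multiset.mem_of_mem_erase hb))
        · intro j hj
          by_cases hja : j = a
          · subst hja
            rw [Multiset.count_erase_self, Multiset.count_erase_self]
            obtain ⟨c, hc⟩ := hpar j hj
            exact ⟨c - 1, by omega⟩
          · rw [Multiset.count_erase_of_ne hja, Multiset.count_erase_of_ne hja]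
            exact hpar j hj
      have h2 : OUnip F {a, a} := oUnip_pair a
      have := h2.add h1
      have e : ({a, a} : Multiset ℕ) + (s.erase a).erase a = s := by
        rw [Multiset.insert_eq_cons, Multiset.cons_add, Multiset.singleton_add, hs2, hs1]
      rwa [e] at this
    · -- a single odd block
      obtain ⟨k, hk⟩ : ∃ k, a = 2 * k + 1 := hao
      have h1 : OUnip F (s.erase a) := by
        apply ih (Multiset.card (s.erase a)) (by omega) _ rfl
        · intro b hb
          exact hpos b (Multiset.mem_of_mem_erase hb)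
        · intro j hj
          have hja : j ≠ a := by
            rintro rfl
            exact (Nat.not_even_iff_odd.2 ⟨k, hk⟩) hj
          rw [Multiset.count_erase_of_ne hja]
          exact hpar j hj
      have h2' : OUnip F {a} := by rw [hk]; exact oUnip_single h2 k
      have := h2'.add h1
      rwa [Multiset.singleton_add, hs1] at this

end oddblock

end Cfsg.Agent.Lib.Helper5.UnipForm
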