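import Mathlib
import Cfsg.Agent.Lib.Helper5.UnipForm5

set_option autoImplicit false

namespace Cfsg.Agent.Lib.Helper5.UnipForm

open Module LinearMap Matrix QuadraticMap Cfsg.Agent.Lib.Helper5.SpReal

universe u

variable {F : Type u} [Field F]

/-- the operator used for a single block of even size: nilpotency and kernel -/
theorem single_aux (k : ℕ) (T' : Matrix (Fin (k + 1)) (Fin (k + 1)) F)
    (h1 : (1 + Cfsg.Agent.Lib.Helper5.RegUnip.shiftM (k + 1)) * T' = 1)
    (h2 : T' * (1 + Cfsg.Agent.Lib.Helper5.RegUnip.shiftM (k + 1)) = 1) :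
    (hypOp (1 + Cfsg.Agent.Lib.Helper5.RegUnip.shiftM (k + 1)) T' (cornerS F k) - 1) ^ (2 * (k + 1)) = 0 ∧
    finrank F (LinearMap.ker
      (hypOp (1 + Cfsg.Agent.Lib.Helper5.RegUnip.shiftM (k + 1)) T' (cornerS F k) - 1)) ≤ 1 := by
  set L : Matrix (Fin (k + 1)) (Fin (k + 1)) F := Cfsg.Agent.Lib.Helper5.RegUnip.shiftM (k + 1)
    with hL
  set T : Matrix (Fin (k + 1)) (Fin (k + 1)) F := 1 + L with hT
  have hT1 : T - 1 = L := by rw [hT]; abel
  have hnil : (T - 1) ^ (k + 1) = 0 := by rw [hT1]; exact shiftM_pow (k + 1)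
  have hnil' : (T'ᵀ - 1) ^ (k + 1) = 0 := by
    have : (T'ᵀ - 1) ^ (k + 1) = ((T' - 1) ^ (k + 1))ᵀ := by
      rw [Matrix.transpose_pow, Matrix.transpose_sub, Matrix.transpose_one]
    rw [this, inv_sub_one_pow T T' h1 h2, hnil, mul_zero, Matrix.transpose_zero]
  set S := cornerS F k with hS
  set A := hypOp T T' S with hA
  have hpow : (A - 1) ^ (2 * (k + 1)) = 0 := by
    apply LinearMap.ext
    intro x
    rw [two_mul, pow_add, Module.End.mul_apply]
    set y := ((A - 1) ^ (k + 1)) x with hy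
    have hy2 : y.2 = 0 := by
      rw [hy, hypOp_sub_one_pow_snd, hnil', zero_mulVec]
    have hy' : y = (y.1, 0) := Prod.ext rfl hy2
    rw [hy', hypOp_sub_one_pow_fst, hnil, zero_mulVec]
    rfl
  refine ⟨hpow, ?_⟩
  have hkey : ∀ x : (Fin (k + 1) → F) × (Fin (k + 1) → F), (A - 1) x = 0 →
      x.2 = 0 ∧ L *ᵥ x.1 = 0 := by
    intro x hx
    rw [hypOp_sub_one_apply, Prod.mk_eq_zero] at hx
    obtain ⟨hx1, hx2⟩ := hx
    have hb : Lᵀ *ᵥ x.2 = 0 := by
      have h3 : T'ᵀ *ᵥ x.2 = x.2 := by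
        rw [sub_mulVec, one_mulVec, sub_eq_zero] at hx2
        exact hx2
      have h4 : Tᵀ *ᵥ x.2 = x.2 := by
        conv_lhs => rw [← h3]
        rw [mulVec_mulVec, ← Matrix.transpose_mul, h2, Matrix.transpose_one, one_mulVec]
      have h5 : Lᵀ = Tᵀ - 1 := by rw [hT, Matrix.transpose_add, Matrix.transpose_one]; abel
      rw [h5, sub_mulVec, one_mulVec, h4, sub_self]
    have hb' : ∀ i : Fin (k + 1), i ≠ 0 → x.2 i = 0 := by
      intro i hi
      have hi0 : (i : ℕ) ≠ 0 := fun h => hi (Fin.ext h)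
      have hlt : ((i : ℕ) - 1) + 1 < k + 1 := by have := i.2; omega
      have h6 := shiftM_transpose_mulVec k x.2 ⟨(i : ℕ) - 1, by omega⟩ hlt
      rw [← hL, hb] at h6
      have h7 : (⟨(i : ℕ) - 1 + 1, hlt⟩ : Fin (k + 1)) = i := Fin.ext (by simp; omega)
      rw [h7] at h6
      exact h6.symm
    have h0 := congrFun hx1 0
    rw [Pi.add_apply, hT1, shiftM_mulVec_zero, zero_add, Pi.zero_apply, ← mulVec_mulVec] at h0
    have h8 : (T *ᵥ (S *ᵥ x.2)) 0 = x.2 0 := by
      have h9 : S *ᵥ x.2 = fun a => if a = 0 then x.2 0 else 0 := by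
        funext a
        exact cornerS_mulVec k x.2 a
      rw [h9, hT, add_mulVec, one_mulVec, Pi.add_apply, shiftM_mulVec_zero, add_zero, if_pos rfl]
    rw [h8] at h0
    have hx20 : x.2 = 0 := by
      funext i
      by_cases hi : i = 0
      · rw [hi]; exact h0
      · exact hb' i hi
    refine ⟨hx20, ?_⟩
    rw [hx20, mulVec_zero, add_zero, hT1] at hx1
    exact hx1
  let φ : LinearMap.ker (A - 1) →ₗ[F] LinearMap.ker (Matrix.toLin' L) :=
    { toFun := fun x => ⟨x.1.1, by
        rw [LinearMap.mem_ker, Matrix.toLin'_apply]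
        exact (hkey x.1 (LinearMap.mem_ker.1 x.2)).2⟩
      map_add' := fun _ _ => rfl
      map_smul' := fun _ _ => rfl }
  have hφ : Function.Injective φ := by
    intro x y hxy
    have h1 : x.1.1 = y.1.1 := congrArg Subtype.val hxy
    have h2 : x.1.2 = y.1.2 := by
      rw [(hkey x.1 (LinearMap.mem_ker.1 x.2)).1, (hkey y.1 (LinearMap.mem_ker.1 y.2)).1]
    exact Subtype.ext (Prod.ext h1 h2)
  exact (LinearMap.finrank_le_finrank_of_injective hφ).trans (finrank_ker_shiftM_le (k + 1))

section char2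
variable (k : ℕ)

/-- the hyperbolic quadratic form plus the square of a coordinate -/
def hypQ2 (F : Type u) [Field F] (k : ℕ) :
    QuadraticForm F ((Fin (k + 1) → F) × (Fin (k + 1) → F)) :=
  LinearMap.BilinMap.toQuadraticMap
    (LinearMap.mk₂ F (fun x y : (Fin (k + 1) → F) × (Fin (k + 1) → F) =>
        x.1 ⬝ᵥ y.2 + x.1 0 * y.1 0)
      (fun x x' y => by simp only [Prod.fst_add, add_dotProduct, Pi.add_apply]; ring)
      (fun c x y => by
        simp only [Prod.smul_fst, smul_dotProduct, Pi.smul_apply, smul_eq_mul]; ring)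
      (fun x y y' => by simp only [Prod.snd_add, Prod.fst_add, dotProduct_add, Pi.add_apply]; ring)
      (fun c x y => by
        simp only [Prod.smul_snd, Prod.smul_fst, dotProduct_smul, Pi.smul_apply, smul_eq_mul]
        ring))

theorem hypQ2_apply (x : (Fin (k + 1) → F) × (Fin (k + 1) → F)) :
    hypQ2 F k x = x.1 ⬝ᵥ x.2 + x.1 0 * x.1 0 := rfl

theorem polar_hypQ2 [CharP F 2] (x y : (Fin (k + 1) → F) × (Fin (k + 1) → F)) :
    polar (hypQ2 F k) x y = x.1 ⬝ᵥ y.2 + y.1 ⬝ᵥ x.2 := by
  unfold hypQ2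
  rw [LinearMap.BilinMap.polar_toQuadraticMap]
  show x.1 ⬝ᵥ y.2 + x.1 0 * y.1 0 + (y.1 ⬝ᵥ x.2 + y.1 0 * x.1 0) = x.1 ⬝ᵥ y.2 + y.1 ⬝ᵥ x.2
  have : x.1 0 * y.1 0 + y.1 0 * x.1 0 = 0 := by
    rw [mul_comm (y.1 0)]
    exact CharTwo.add_self_eq_zero _
  linear_combination this

theorem hypQ2_nondeg [CharP F 2] : (polarBilin (hypQ2 F k)).Nondegenerate := by
  have key : ∀ x : (Fin (k + 1) → F) × (Fin (k + 1) → F),
      (∀ y, polar (hypQ2 F k) x y = 0) → x = 0 := by
    intro x hx
    apply Prod.ext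
    · funext i
      have := hx (0, Pi.single i 1)
      rw [polar_hypQ2] at this
      simpa using this
    · funext i
      have := hx (Pi.single i 1, 0)
      rw [polar_hypQ2] at this
      simpa using this
  refine ⟨key, fun y hy => key y (fun x => ?_)⟩
  rw [polar_comm]
  exact hy x

theorem hypOp_preserves2 [CharP F 2] (T' : Matrix (Fin (k + 1)) (Fin (k + 1)) F)
    (h2 : T' * (1 + Cfsg.Agent.Lib.Helper5.RegUnip.shiftM (k + 1)) = 1)
    (x : (Fin (k + 1) → F) × (Fin (k + 1) → F)) :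
    hypQ2 F k (hypOp (1 + Cfsg.Agent.Lib.Helper5.RegUnip.shiftM (k + 1)) T' (cornerS F k) x) =
      hypQ2 F k x := by
  set L : Matrix (Fin (k + 1)) (Fin (k + 1)) F := Cfsg.Agent.Lib.Helper5.RegUnip.shiftM (k + 1)
    with hL
  set T : Matrix (Fin (k + 1)) (Fin (k + 1)) F := 1 + L with hT
  set S := cornerS F k with hS
  have hT2 : Tᵀ * T'ᵀ = 1 := by rw [← Matrix.transpose_mul, h2, Matrix.transpose_one]
  have hS9 : S *ᵥ x.2 = fun a => if a = 0 then x.2 0 else 0 := by
    funext a
    exact cornerS_mulVec k x.2 a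
  have e0 : ∀ a : Fin (k + 1) → F, (T *ᵥ a) 0 = a 0 := by
    intro a
    rw [hT, add_mulVec, one_mulVec, Pi.add_apply, shiftM_mulVec_zero, add_zero]
  have e1 : (T *ᵥ x.1 + (T * S) *ᵥ x.2) 0 = x.1 0 + x.2 0 := by
    rw [Pi.add_apply, e0, ← mulVec_mulVec, e0, hS9]
    show x.1 0 + (if (0 : Fin (k + 1)) = 0 then x.2 0 else 0) = x.1 0 + x.2 0
    rw [if_pos rfl]
  have e2 : (T *ᵥ x.1 + (T * S) *ᵥ x.2) ⬝ᵥ (T'ᵀ *ᵥ x.2) = x.1 ⬝ᵥ x.2 + x.2 0 * x.2 0 := by
    rw [add_dotProduct, mulVec_dot, mulVec_dot, mulVec_mulVec, mulVec_mulVec, hT2, one_mulVec,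
      Matrix.transpose_mul, Matrix.mul_assoc, hT2, Matrix.mul_one, cornerS_transpose,
      dotProduct_comm x.2, hS9]
    congr 1
    rw [dotProduct, Finset.sum_eq_single 0]
    · rw [if_pos rfl]
    · intro c _ hc
      rw [if_neg hc, zero_mul]
    · intro h; exact absurd (Finset.mem_univ _) h
  rw [hypQ2_apply, hypQ2_apply, hypOp_apply]
  show (T *ᵥ x.1 + (T * S) *ᵥ x.2) ⬝ᵥ (T'ᵀ *ᵥ x.2) +
    (T *ᵥ x.1 + (T * S) *ᵥ x.2) 0 * (T *ᵥ x.1 + (T * S) *ᵥ x.2) 0 = _
  rw [e1, e2]
  have c1 : x.2 0 * x.2 0 + x.2 0 * x.2 0 = 0 := CharTwo.add_self_eq_zero _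
  have c2 : x.1 0 * x.2 0 + x.1 0 * x.2 0 = 0 := CharTwo.add_self_eq_zero _
  linear_combination c1 + c2

/-- a single Jordan block of even size in characteristic two -/
theorem oUnip_single_even [CharP F 2] : OUnip F {2 * (k + 1)} := by
  set L : Matrix (Fin (k + 1)) (Fin (k + 1)) F := Cfsg.Agent.Lib.Helper5.RegUnip.shiftM (k + 1)
    with hL
  have hnil : ((1 + L) - 1) ^ (k + 1) = 0 := by
    rw [add_sub_cancel_left]; exact shiftM_pow (k + 1)
  obtain ⟨T', h1, h2⟩ := exists_inv_of_nilp (1 + L) (k + 1) hnil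
  obtain ⟨hpow, hker⟩ := single_aux k T' h1 h2
  refine ⟨(Fin (k + 1) → F) × (Fin (k + 1) → F), inferInstance, inferInstance, inferInstance,
    hypQ2 F k, hypOp (1 + L) T' (cornerS F k), 2 * (k + 1), hypQ2_nondeg k,
    hypOp_preserves2 k T' h2, hpow, ?_⟩
  intro j
  rw [Multiset.map_singleton, Multiset.sum_singleton]
  apply finrank_ker_pow_of_cyclic _ _ _ hpow hker
  rw [Module.finrank_prod, Module.finrank_fin_fun]
  ring

end char2

/-- every admissible multiset of block sizes is realised in an orthogonal space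
(characteristic two) -/
theorem oUnip2_of_parity [CharP F 2] : ∀ (n : ℕ) (s : Multiset ℕ), Multiset.card s = n →
    (∀ a ∈ s, 1 ≤ a) → (∀ j, Odd j → Even (s.count j)) → OUnip F s := by
  intro n
  induction n using Nat.strong_induction_on with
  | _ n ih =>
    intro s hcard hpos hpar
    by_cases hs : s = 0
    · rw [hs]; exact oUnip_zero
    obtain ⟨a, ha⟩ := Multiset.exists_mem_of_ne_zero hs
    have hs1 : a ::ₘ s.erase a = s := Multiset.cons_erase ha
    have hc1 : Multiset.card (s.erase a) + 1 = n := by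
      rw [← hcard, ← hs1, Multiset.card_cons, hs1]
    rcases Nat.even_or_odd a with hae | hao
    · -- a single even block
      obtain ⟨k, hk⟩ : ∃ k, a = 2 * (k + 1) := by
        obtain ⟨c, hc⟩ := hae
        have := hpos a ha
        exact ⟨c - 1, by omega⟩
      have h1 : OUnip F (s.erase a) := by
        apply ih (Multiset.card (s.erase a)) (by omega) _ rfl
        · intro b hb
          exact hpos b (Multiset.mem_of_mem_erase hb)
        · intro j hj
          have hja : j ≠ a := by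
            rintro rfl
            exact (Nat.not_even_iff_odd.2 hj) hae
          rw [Multiset.count_erase_of_ne hja]
          exact hpar j hj
      have h2 : OUnip F {a} := by rw [hk]; exact oUnip_single_even k
      have := h2.add h1
      rwa [Multiset.singleton_add, hs1] at this
    · -- a pair of odd blocks
      have hcnt : 2 ≤ s.count a := by
        have h1 : 1 ≤ s.count a := Multiset.one_le_count_iff_mem.2 ha
        obtain ⟨c, hc⟩ := hpar a hao
        omega
      have ha' : a ∈ s.erase a := by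
        rw [← Multiset.one_le_count_iff_mem, Multiset.count_erase_self]
        omega
      have hs2 : a ::ₘ (s.erase a).erase a = s.erase a := Multiset.cons_erase ha'
      have hc2 : Multiset.card ((s.erase a).erase a) + 2 = n := by
        rw [← hc1, ← hs2, Multiset.card_cons, hs2]
      have h1 : OUnip F ((s.erase a).erase a) := by
        apply ih (Multiset.card ((s.erase a).erase a)) (by omega) _ rfl
        · intro b hb
          exact hpos b (Multiset.mem_of_mem_erase (Multiset.mem_of_mem_erase hb))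
        · intro j hj
          by_cases hja : j = a
          · subst hja
            rw [Multiset.count_erase_self, Multiset.count_erase_self]
            obtain ⟨c, hc⟩ := hpar j hj
            exact ⟨c - 1, by omega⟩
          · rw [Multiset.count_erase_of_ne hja, Multiset.count_erase_of_ne hja]
            exact hpar j hj
      have h2 : OUnip F {a, a} := oUnip_pair a
      have := h2.add h1
      have e : ({a, a} : Multiset ℕ) + (s.erase a).erase a = s := by
        rw [Multiset.insert_eq_cons, Multiset.cons_add, Multiset.singleton_add, hs2, hs1]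
      rwa [e] at this

end Cfsg.Agent.Lib.Helper5.UnipForm
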