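import Cfsg.Agent.Lib.Helper5.Chain4

set_option autoImplicit false

/-! # Stabilizer chains verified from scratch

A chain of levels of words for a permutation model, together with, for every level, a list of
letters generating the group of the level, is verified when the product of a word of a level with
a generator of the level is again a concatenation of words of the levels (this is the verification
of Schreier and Sims). The order of the subgroup generated by the letters of the first level is
then the product of the lengths of the levels. -/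

namespace Cfsg.Agent.Lib.Helper5.VChain

open Cfsg.Agent.Lib.Helper6.TC Cfsg.Agent.Lib.Helper6.PM Cfsg.Agent.Lib.Helper2.PMS
open Cfsg.Agent.Lib.Helper5.Chain

/-- a set containing the unit and stable under the right multiplications by the elements of a set
contains the subgroup generated by the set, in a finite group -/
theorem closure_subset_of_mul_mem {G : Type*} [Group G] [Finite G] (S P : Set G)
    (h1 : (1 : G) ∈ P) (hmul : ∀ g ∈ P, ∀ s ∈ S, g * s ∈ P) :
    ∀ x ∈ Subgroup.closure S, x ∈ P := by
  intro x hx
  have hx' : x ∈ Submonoid.closure S := by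
    rw [← Subgroup.closure_toSubmonoid_of_finite]
    exact hx
  have key : ∀ y ∈ Submonoid.closure S, ∀ g ∈ P, g * y ∈ P := by
    intro y hy
    induction hy using Submonoid.closure_induction with
    | mem s hs => exact fun g hg => hmul g hg s hs
    | one => intro g hg; rwa [mul_one]
    | mul a b _ _ iha ihb =>
      intro g hg
      rw [← mul_assoc]
      exact ihb _ (iha g hg)
  have := key x hx' 1 h1
  rwa [one_mul] at this

variable (M : PModel)

/-- the subgroup generated by the letters of a list -/
def letSub (A : List ℕ) : Subgroup M.G := Subgroup.closure {g | ∃ c ∈ A, g = M.elt [c]}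

theorem letSub_nil : letSub M [] = ⊥ := by
  unfold letSub
  rw [Subgroup.closure_eq_bot_iff]
  rintro g ⟨c, hc, _⟩
  simp at hc

theorem elt_letter_mem (A : List ℕ) (c : ℕ) (hc : c ∈ A) : M.elt [c] ∈ letSub M A :=
  Subgroup.subset_closure ⟨c, hc, rfl⟩

theorem elt_word_mem (A : List ℕ) (w : List ℕ) (hw : ∀ c ∈ w, c ∈ A) : M.elt w ∈ letSub M A :=
  elt_mem_of_letters M (letSub M A) w fun c hc => elt_letter_mem M A c (hw c hc)

/-- the conditions on a verified chain: the levels and the letters generating their groups -/
def VOK : List (List (List ℕ)) → List (List ℕ) → Prop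
  | [], [] => True
  | L :: Ls, A :: As =>
      [] ∈ L ∧ (∀ w ∈ L, M.elt w ∈ letSub M A) ∧ letSub M (As.headD []) ≤ letSub M A ∧
      (∀ w ∈ L, ∀ c ∈ A, ∃ u ∈ prods (L :: Ls), M.elt (w ++ [c]) = M.elt u) ∧ VOK Ls As
  | [], _ :: _ => False
  | _ :: _, [] => False

/-- the elements of the concatenations of the words of a verified chain are the elements of the
subgroup generated by the letters of the first level -/
theorem mem_iff_of_vok : ∀ (Ls : List (List (List ℕ))) (As : List (List ℕ)), VOK M Ls As →
    ∀ g : M.G, g ∈ letSub M (As.headD []) ↔ ∃ u ∈ prods Ls, g = M.elt u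
  | [], [], _, g => by
    show g ∈ letSub M [] ↔ _
    rw [letSub_nil, Subgroup.mem_bot]
    constructor
    · rintro rfl
      exact ⟨[], by simp [prods], M.elt_nil.symm⟩
    · rintro ⟨u, hu, rfl⟩
      have : u = [] := by simpa [prods] using hu
      rw [this, M.elt_nil]
  | [], _ :: _, h, _ => absurd h (by simp [VOK])
  | _ :: _, [], h, _ => absurd h (by simp [VOK])
  | L :: Ls, A :: As, h, g => by
    obtain ⟨hnil, hL, hle, hcl, hrest⟩ := h
    have ih := mem_iff_of_vok Ls As hrest
    show g ∈ letSub M A ↔ _
    constructor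
    · intro hg
      -- the set of the elements of the concatenations
      have h1 : (1 : M.G) ∈ {g : M.G | ∃ u ∈ prods (L :: Ls), g = M.elt u} := by
        obtain ⟨v, hv, e⟩ := (ih 1).mp (one_mem _)
        refine ⟨v ++ [], (mem_prods_cons L Ls _).mpr ⟨v, hv, [], hnil, rfl⟩, ?_⟩
        rw [List.append_nil]
        exact e
      have hmul : ∀ g ∈ {g : M.G | ∃ u ∈ prods (L :: Ls), g = M.elt u},
          ∀ s ∈ {g : M.G | ∃ c ∈ A, g = M.elt [c]},
          g * s ∈ {g : M.G | ∃ u ∈ prods (L :: Ls), g = M.elt u} := by
        rintro _ ⟨u, hu, rfl⟩ _ ⟨c, hc, rfl⟩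
        obtain ⟨v, hv, w, hw, rfl⟩ := (mem_prods_cons L Ls u).mp hu
        obtain ⟨u', hu', e'⟩ := hcl w hw c hc
        obtain ⟨v', hv', w', hw', rfl⟩ := (mem_prods_cons L Ls u').mp hu'
        have hvm : M.elt v * M.elt v' ∈ letSub M (As.headD []) :=
          mul_mem ((ih _).mpr ⟨v, hv, rfl⟩) ((ih _).mpr ⟨v', hv', rfl⟩)
        obtain ⟨v'', hv'', e''⟩ := (ih _).mp hvm
        refine ⟨v'' ++ w', (mem_prods_cons L Ls _).mpr ⟨v'', hv'', w', hw', rfl⟩, ?_⟩
        calc M.elt (v ++ w) * M.elt [c] = M.elt v * M.elt (w ++ [c]) := by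
              rw [M.elt_append, M.elt_append, mul_assoc]
          _ = M.elt v * (M.elt v' * M.elt w') := by rw [e', M.elt_append]
          _ = M.elt v'' * M.elt w' := by rw [← mul_assoc, e'']
          _ = M.elt (v'' ++ w') := (M.elt_append _ _).symm
      exact closure_subset_of_mul_mem _ _ h1 hmul g hg
    · rintro ⟨u, hu, rfl⟩
      obtain ⟨v, hv, w, hw, rfl⟩ := (mem_prods_cons L Ls u).mp hu
      rw [M.elt_append]
      exact mul_mem (hle ((ih _).mpr ⟨v, hv, rfl⟩)) (hL w hw)

/-- the order of the subgroup generated by the letters of the first level of a verified chain -/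
theorem card_of_vok (bs : List ℕ) (Ls : List (List (List ℕ))) (As : List (List ℕ))
    (hc : IsChain M.px bs Ls) (hb : ∀ b ∈ bs, b < M.n)
    (hl : ∀ Lj ∈ Ls, ∀ w ∈ Lj, ∀ c ∈ w, c < M.nl) (hv : VOK M Ls As) :
    Nat.card ↥(letSub M (As.headD [])) = (Ls.map List.length).prod := by
  classical
  have hlp := letters_prods M.nl Ls hl
  have hnd : ((prods Ls).map M.elt).Nodup := by
    rw [List.nodup_map_iff_inj_on (prods_nodup M bs Ls hc)]
    intro u hu u' hu' he
    apply prods_inj M bs Ls hc hb hl u hu u' hu'
    intro b hb'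
    rw [← ract_elt M u (hlp u hu) b (hb b hb'), ← ract_elt M u' (hlp u' hu') b (hb b hb'), he]
  have hset : ((letSub M (As.headD []) : Subgroup M.G) : Set M.G) =
      ↑((prods Ls).map M.elt).toFinset := by
    ext g
    rw [SetLike.mem_coe, mem_iff_of_vok M Ls As hv g, Finset.mem_coe, List.mem_toFinset,
      List.mem_map]
    constructor
    · rintro ⟨u, hu, rfl⟩
      exact ⟨u, hu, rfl⟩
    · rintro ⟨u, hu, rfl⟩
      exact ⟨u, hu, rfl⟩
  have h1 : Nat.card ↥(letSub M (As.headD [])) =
      Nat.card ↥((letSub M (As.headD []) : Subgroup M.G) : Set M.G) := rfl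
  rw [h1, hset, _root_.Nat.card_coe_set_eq, Set.ncard_coe_finset, List.toFinset_card_of_nodup hnd,
    List.length_map, length_prods]

end Cfsg.Agent.Lib.Helper5.VChain
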