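import Cfsg.Agent.Lib.Helper5.VChain1
import Cfsg.Agent.Lib.Helper5.Srch3
import Cfsg.Agent.Lib.Helper2.PMStab3

set_option autoImplicit false

/-! # Stabilizer chains verified from scratch: the checks -/

namespace Cfsg.Agent.Lib.Helper5.VChain

open Cfsg.Agent.Lib.Helper6.TC Cfsg.Agent.Lib.Helper6.PM Cfsg.Agent.Lib.Helper2.PMS
open Cfsg.Agent.Lib.Helper5.Chain Cfsg.Agent.Lib.Helper5.Srch

/-- the word found by the search is a concatenation of words of the levels -/
theorem siftAux_sound (px : ℕ → ℕ → ℕ) : ∀ (Ls : List (List (List ℕ))) (bs cs acc r : List ℕ),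
    siftAux px Ls bs cs acc = some r → ∃ u ∈ prods Ls, r = u ++ acc
  | [], _, _, acc, r, h => by
    have h' : some acc = some r := h
    rw [Option.some.injEq] at h'
    exact ⟨[], by simp [prods], by rw [← h']; rfl⟩
  | L :: Ls, bs, cs, acc, r, h => by
    unfold siftAux at h
    cases hf : L.find? (fun w => wappS px (w ++ acc) (bs.headD 0) == cs.headD 0) with
    | none =>
      rw [hf] at h
      exact absurd h (by simp)
    | some w =>
      rw [hf] at h
      have hw : w ∈ L := List.mem_of_find?_eq_some hf
      obtain ⟨u', hu', e⟩ := siftAux_sound px Ls bs.tail cs.tail (w ++ acc) r h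
      refine ⟨u' ++ w, (mem_prods_cons L Ls _).mpr ⟨u', hu', w, hw, rfl⟩, ?_⟩
      rw [e, List.append_assoc]

variable (M : PModel)

/-- the check that the product of a word and a letter is a concatenation of words of the levels -/
noncomputable def chkStep (bs : List ℕ) (Ls : List (List (List ℕ))) (w : List ℕ) (c : ℕ) : Bool :=
  match siftAux M.px Ls bs (bs.map fun q => wappS M.px (w ++ [c]) q) [] with
  | none => false
  | some u => chkEq M (w ++ [c]) u

theorem step_of_chk (bs : List ℕ) (Ls : List (List (List ℕ))) (w : List ℕ) (c : ℕ)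
    (h : chkStep M bs Ls w c = true) : ∃ u ∈ prods Ls, M.elt (w ++ [c]) = M.elt u := by
  unfold chkStep at h
  cases hs : siftAux M.px Ls bs (bs.map fun q => wappS M.px (w ++ [c]) q) [] with
  | none =>
    rw [hs] at h
    exact absurd h (by simp)
  | some u =>
    rw [hs] at h
    obtain ⟨u', hu', e⟩ := siftAux_sound M.px Ls bs _ [] u hs
    rw [List.append_nil] at e
    subst e
    exact ⟨u, hu', elt_eq_of_chk M _ _ h⟩

/-- the check of the words of a level against the letters generating the group of the level -/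
noncomputable def chkLevelV (bs : List ℕ) (Ls : List (List (List ℕ))) (A : List ℕ) (i : ℕ) : Bool :=
  A.all fun c => chkStep M bs Ls ((Ls.headD []).getD i []) c

/-- a level of a verified chain, from the checks -/
theorem vok_cons (b : ℕ) (bs : List ℕ) (L : List (List ℕ)) (Ls : List (List (List ℕ)))
    (A : List ℕ) (As : List (List ℕ)) (hnil : [] ∈ L)
    (hL : ∀ w ∈ L, M.elt w ∈ letSub M A) (hle : letSub M (As.headD []) ≤ letSub M A)
    (hchk : ∀ i < L.length, chkLevelV M (b :: bs) (L :: Ls) A i = true)
    (hrest : VOK M Ls As) : VOK M (L :: Ls) (A :: As) := by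
  refine ⟨hnil, hL, hle, ?_, hrest⟩
  intro w hw c hc
  obtain ⟨i, hi, rfl⟩ := List.getElem_of_mem hw
  have h := hchk i hi
  unfold chkLevelV at h
  rw [List.all_eq_true] at h
  have h1 := h c hc
  rw [List.headD_cons, List.getD_eq_getElem _ _ hi] at h1
  exact step_of_chk M (b :: bs) (L :: Ls) _ c h1

/-- the subgroup generated by words which are single letters -/
theorem subH_eq_letSub (A : List ℕ) :
    Cfsg.Agent.Lib.Helper6.PM.subH M (A.map fun c => [c]) = letSub M A := by
  unfold Cfsg.Agent.Lib.Helper6.PM.subH letSub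
  congr 1
  ext g
  simp only [Set.mem_ofPred_eq, List.length_map]
  constructor
  · rintro ⟨i, hi, rfl⟩
    refine ⟨A[i], List.getElem_mem hi, ?_⟩
    rw [List.getD_eq_getElem _ _ (by rw [List.length_map]; exact hi), List.getElem_map]
  · rintro ⟨c, hc, rfl⟩
    obtain ⟨i, hi, rfl⟩ := List.getElem_of_mem hc
    refine ⟨i, hi, ?_⟩
    rw [List.getD_eq_getElem _ _ (by rw [List.length_map]; exact hi), List.getElem_map]

end Cfsg.Agent.Lib.Helper5.VChain
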