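import Mathlib
import Cfsg.Agent.Lib.Helper9.VLChain

set_option autoImplicit false

/-! S3777 (Vaughan-Lee), Step 4B of `notes/S3777_PROOF_helper2.md`: extraction of the generators
`x₁, S` from the counting inequality (pure counting; statement as in helper2's skeleton). -/

namespace Cfsg.Agent.Lib.Helper5.VLStep4

open Subgroup
open scoped commutatorElement

universe u

section Arith

theorem pointwise (p q k d : ℕ) (hq : p = q + 1) (hk : k < d) :
    p ^ 3 * p ^ k + (if k + 3 ≤ d then p ^ d * q else 0) ≤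
      p ^ d * (p + if k + 1 = d then p * q else 0) := by
  subst hq
  rcases (by omega : k + 1 = d ∨ k + 2 = d ∨ k + 3 ≤ d) with h | h | h
  · subst h; rw [if_neg (by omega), if_pos rfl]; apply le_of_eq; ring
  · subst h; rw [if_neg (by omega), if_neg (by omega)]; apply le_of_eq; ring
  · rw [if_pos h, if_neg (by omega)]
    obtain ⟨e, rfl⟩ := Nat.exists_eq_add_of_le h
    have h0 : (q + 1) ^ (k + 3 + e) = (q + 1) ^ 3 * (q + 1) ^ k * (q + 1) ^ e := by ring
    have h1 : 1 ≤ (q + 1) ^ e := Nat.one_le_pow _ _ (by omega)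
    have h2 := Nat.mul_le_mul_left ((q + 1) ^ 3 * (q + 1) ^ k) h1
    rw [h0]
    nlinarith

theorem arith {α : Type*} [DecidableEq α] (U : Finset α) (k : α → ℕ) (p q d f g : ℕ) (hq : p = q + 1)
    (hq1 : 1 ≤ q) (hd : 1 ≤ d)
    (hk : ∀ u ∈ U, k u < d) (hg : g = p ^ d * f) (hU : U.card * p = g * q)
    (hineq : (p ^ d - p) * (g * q ^ 2) ≤ p ^ 3 * ∑ u ∈ U, (p ^ k u - 1)) :
    (U.filter (fun u => k u + 3 ≤ d)).card + p * f ≤
      p * (U.filter (fun u => k u + 1 = d)).card := by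
  have hp0 : 0 < p := by omega
  have hsum : ∑ u ∈ U, (p ^ 3 * p ^ k u + (if k u + 3 ≤ d then p ^ d * q else 0)) ≤
      ∑ u ∈ U, p ^ d * (p + if k u + 1 = d then p * q else 0) :=
    Finset.sum_le_sum (fun u hu => pointwise p q (k u) d hq (hk u hu))
  have hL : ∑ u ∈ U, (p ^ 3 * p ^ k u + (if k u + 3 ≤ d then p ^ d * q else 0)) =
      p ^ 3 * ∑ u ∈ U, p ^ k u + (U.filter (fun u => k u + 3 ≤ d)).card * (p ^ d * q) := by
    rw [Finset.sum_add_distrib, ← Finset.mul_sum, Finset.sum_ite, Finset.sum_const_zero, add_zero,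
      Finset.sum_const, smul_eq_mul]
  have hR : ∑ u ∈ U, p ^ d * (p + if k u + 1 = d then p * q else 0) =
      p ^ d * (U.card * p + (U.filter (fun u => k u + 1 = d)).card * (p * q)) := by
    rw [← Finset.mul_sum, Finset.sum_add_distrib, Finset.sum_ite, Finset.sum_const_zero, add_zero,
      Finset.sum_const, Finset.sum_const, smul_eq_mul, smul_eq_mul]
  have hsub : ∑ u ∈ U, (p ^ k u - 1) + U.card = ∑ u ∈ U, p ^ k u := by
    rw [Finset.card_eq_sum_ones, ← Finset.sum_add_distrib]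
    exact Finset.sum_congr rfl (fun u _ => Nat.sub_add_cancel (Nat.one_le_pow _ _ hp0))
  obtain ⟨P', hP'⟩ : ∃ P', p ^ d = P' + p :=
    ⟨p ^ d - p, (Nat.sub_add_cancel (Nat.le_self_pow (by omega) p)).symm⟩
  have hP'' : p ^ d - p = P' := by omega
  rw [hL, hR] at hsum
  rw [hP''] at hineq
  set n₁ := (U.filter (fun u => k u + 1 = d)).card
  set n₃ := (U.filter (fun u => k u + 3 ≤ d)).card
  set N := U.card
  set S1 := ∑ u ∈ U, p ^ k u
  set S0 := ∑ u ∈ U, (p ^ k u - 1)
  set P := p ^ d with hPdef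
  have hPpos : 0 < P := pow_pos hp0 d
  -- now pure arithmetic
  subst hg
  subst hq
  have key : P * q * (n₃ + (q + 1) * f) ≤ P * q * ((q + 1) * n₁) := by
    have e1 : (q + 1) ^ 3 * N = (q + 1) ^ 2 * (P * f * q) := by rw [← hU]; ring
    have e2 : P * (N * (q + 1)) = P * (P * f * q) := by rw [hU]
    have e3 : P * (P * f * q ^ 2) = P' * (P * f * q ^ 2) + (q + 1) * (P * f * q ^ 2) := by
      rw [hP']; ring
    have e4 : (q + 1) ^ 3 * S1 = (q + 1) ^ 3 * S0 + (q + 1) ^ 3 * N := by rw [← hsub]; ring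
    have e5 := Nat.mul_le_mul_left (P * P * f * q) hq1
    nlinarith
  exact le_of_mul_le_mul_left key (Nat.mul_pos hPpos (by omega))


end Arith

variable {p : ℕ} {G : Type u} [Group G]

/-- B1: a finset listing a subgroup has the subgroup's cardinality -/
theorem card_eq_of_mem_iff (T : Subgroup G) (A : Finset G) (hA : ∀ u, u ∈ A ↔ u ∈ T) :
    A.card = Nat.card T :=
  (Nat.subtype_card A hA).symm

/-- B2: the elements of `T` outside a normal subgroup `M` of prime index not containing `T` -/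
theorem card_diff_mul [hp : Fact p.Prime] [Finite G] (M : Subgroup G) [M.Normal] (hM : M.index = p)
    (T : Subgroup G) (hT : ¬ T ≤ M) (A : Finset G) (hA : ∀ u, u ∈ A ↔ u ∈ T ∧ u ∉ M) :
    A.card * p + Nat.card T = Nat.card T * p := by
  classical
  have h1 : M.relIndex T = p := by
    have hdvd : M.relIndex T ∣ p := hM ▸ Subgroup.relIndex_dvd_index_of_normal M T
    rcases (Nat.dvd_prime hp.out).1 hdvd with h | h
    · exact absurd (Subgroup.relIndex_eq_one.1 h) hT
    · exact h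
  have h2 : Nat.card (M ⊓ T : Subgroup G) * p = Nat.card T := by
    have := Subgroup.relIndex_mul_relIndex (⊥ : Subgroup G) (M ⊓ T) T bot_le inf_le_right
    rw [Subgroup.relIndex_bot_left, Subgroup.relIndex_bot_left, Subgroup.inf_relIndex_right, h1]
      at this
    exact this
  have hfin : Fintype G := Fintype.ofFinite G
  set B : Finset G := Finset.univ.filter (· ∈ T) with hB
  have hBc : B.card = Nat.card T := card_eq_of_mem_iff T B (by simp [hB])
  have h3 := Finset.card_filter_add_card_filter_not (s := B) (fun u => u ∈ M)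
  have h4 : (B.filter (fun u => u ∈ M)).card = Nat.card (M ⊓ T : Subgroup G) :=
    card_eq_of_mem_iff _ _ (by
      intro u; simp only [hB, Finset.mem_filter, Finset.mem_univ, true_and, Subgroup.mem_inf]
      tauto)
  have h5 : (B.filter (fun u => ¬ u ∈ M)) = A := by
    ext u
    simp only [hB, Finset.mem_filter, Finset.mem_univ, true_and, hA]
  rw [h4, h5, hBc] at h3
  rw [← h2] at h3 ⊢
  nlinarith

/-- B4: a proper subgroup above `Φ` has index at least `p` -/
theorem card_mul_le_of_ne_top [hp : Fact p.Prime] [Finite G] (Φ : Subgroup G) (d : ℕ)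
    (hd : Φ.index = p ^ d) (T : Subgroup G) (hΦT : Φ ≤ T) (hT : T ≠ ⊤) :
    Nat.card T * p ≤ Nat.card G := by
  have h1 : T.index ∣ p ^ d := hd ▸ Subgroup.index_dvd_of_le hΦT
  obtain ⟨m, -, hm⟩ := (Nat.dvd_prime_pow hp.out).1 h1
  have hm0 : m ≠ 0 := by
    rintro rfl
    rw [pow_zero] at hm
    exact hT (Subgroup.index_eq_one.1 hm)
  have h2 : p ≤ T.index := by
    rw [hm]
    calc p = p ^ 1 := (pow_one p).symm
      _ ≤ p ^ m := Nat.pow_le_pow_right hp.out.pos (Nat.one_le_iff_ne_zero.2 hm0)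
  calc Nat.card T * p ≤ Nat.card T * T.index := Nat.mul_le_mul_left _ h2
    _ = Nat.card G := Subgroup.card_mul_index T

/-- B3: many elements outside `M ∪ T` -/
theorem card_compl_union_ge [hp : Fact p.Prime] [Finite G] (M : Subgroup G) [M.Normal]
    (hM : M.index = p) (T : Subgroup G) (hT : ¬ T ≤ M) (hTi : Nat.card T * p ≤ Nat.card G)
    (q : ℕ) (hq : p = q + 1)
    (A : Finset G) (hA : ∀ u, u ∈ A ↔ u ∉ M ∧ u ∉ T) :
    Nat.card G * q ^ 2 ≤ A.card * p ^ 2 := by
  classical
  have hfin : Fintype G := Fintype.ofFinite G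
  set U : Finset G := Finset.univ.filter (· ∉ M) with hU
  have htop : ¬ (⊤ : Subgroup G) ≤ M := by
    intro h
    have : M = ⊤ := top_le_iff.1 h
    rw [this, Subgroup.index_top] at hM
    exact hp.out.one_lt.ne hM
  have h1 := card_diff_mul M hM ⊤ htop U (by simp [hU])
  rw [Subgroup.card_top] at h1
  have h2 := card_diff_mul M hM T hT (U.filter (· ∈ T)) (by
    intro u; simp only [hU, Finset.mem_filter, Finset.mem_univ, true_and]; tauto)
  have h3 := Finset.card_filter_add_card_filter_not (s := U) (fun u => u ∈ T)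
  have h4 : (U.filter (fun u => ¬ u ∈ T)) = A := by
    ext u
    simp only [hU, Finset.mem_filter, Finset.mem_univ, true_and, hA]
  rw [h4] at h3
  subst hq
  nlinarith

/-- Lemma A: for `u ∉ M` the index of `K u` is `p ^ k` with `k < d` -/
theorem index_eq_pow [hp : Fact p.Prime] [Finite G] (M Φ : Subgroup G) (hΦM : Φ ≤ M) (d : ℕ)
    (hd : Φ.index = p ^ d) (Ku : Subgroup G) (u : G) (hK : Φ ≤ Ku) (huK : u ∈ Ku) (hu : u ∉ M) :
    Ku.index = p ^ (Nat.log p Ku.index) ∧ Nat.log p Ku.index < d := by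
  have h1 : Ku.index ∣ p ^ d := hd ▸ Subgroup.index_dvd_of_le hK
  obtain ⟨m, hm, hidx⟩ := (Nat.dvd_prime_pow hp.out).1 h1
  have hlog : Nat.log p Ku.index = m := by rw [hidx]; exact Nat.log_pow hp.out.one_lt m
  rw [hlog]
  refine ⟨hidx, lt_of_le_of_ne hm ?_⟩
  rintro rfl
  have h2 := Subgroup.relIndex_mul_index hK
  rw [hd, hidx] at h2
  have h3 : Φ.relIndex Ku = 1 := by
    have hpos : 0 < p ^ m := pow_pos hp.out.pos m
    exact Nat.eq_of_mul_eq_mul_right hpos (by rw [h2, one_mul])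
  exact hu (hΦM (Subgroup.relIndex_eq_one.1 h3 huK))

open Classical in
/-- Step 4b: extraction (pure counting). -/
theorem extraction [hp : Fact p.Prime] [Fintype G] (M Φ : Subgroup G) [M.Normal] [Φ.Normal]
    (hM : M.index = p) (hΦM : Φ ≤ M) (hcomm : commutator G ≤ Φ) (hpow : ∀ x : G, x ^ p ∈ Φ)
    (d : ℕ) (hd : Φ.index = p ^ d) (hd2 : 2 ≤ d)
    (K : G → Subgroup G) (hK : ∀ u, Φ ≤ K u) (huK : ∀ u, u ∈ K u)
    (hineq : (p ^ d - p) * (Nat.card G * (p - 1) ^ 2) ≤
      p ^ 3 * ∑ u ∈ Finset.univ.filter (fun u : G => u ∉ M), ((K u).index - 1)) :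
    ∃ (x₁ : G) (S : Finset G), x₁ ∉ M ∧ (∀ s ∈ S, s ∉ M) ∧
      Φ ⊔ zpowers x₁ ⊔ closure (S : Set G) = ⊤ ∧ (K x₁).index * p = p ^ d ∧ S.card = d - 1 ∧
      p ^ ((d - 1) * (d - 2)) ≤ ∏ s ∈ S, (K s).index := by
  obtain ⟨q, hq⟩ : ∃ q, p = q + 1 := ⟨p - 1, by have := hp.out.pos; omega⟩
  have hq1 : 1 ≤ q := by have := hp.out.two_le; omega
  have hp0 : 0 < p := hp.out.pos
  set k : G → ℕ := fun u => Nat.log p (K u).index with hkdef
  have hk : ∀ u, u ∉ M → (K u).index = p ^ k u ∧ k u < d := fun u hu =>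
    index_eq_pow M Φ hΦM d hd (K u) u (hK u) (huK u) hu
  set U : Finset G := Finset.univ.filter (fun u : G => u ∉ M) with hU
  have hUmem : ∀ u, u ∈ U ↔ u ∉ M := by simp [hU]
  have hg : Nat.card G = p ^ d * Nat.card Φ := by
    rw [← hd, mul_comm]; exact (Subgroup.card_mul_index Φ).symm
  have htop : ¬ (⊤ : Subgroup G) ≤ M := by
    intro h
    have : M = ⊤ := top_le_iff.1 h
    rw [this, Subgroup.index_top] at hM
    exact hp.out.one_lt.ne hM
  have hUc : U.card * p = Nat.card G * q := by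
    have h1 := card_diff_mul M hM ⊤ htop U (by simp [hU])
    rw [Subgroup.card_top] at h1
    rw [hq] at h1 ⊢
    nlinarith
  have hineq' : (p ^ d - p) * (Nat.card G * q ^ 2) ≤ p ^ 3 * ∑ u ∈ U, (p ^ k u - 1) := by
    have hq' : p - 1 = q := by omega
    rw [hq'] at hineq
    refine hineq.trans (le_of_eq ?_)
    congr 1
    exact Finset.sum_congr rfl (fun u hu => by rw [(hk u ((hUmem u).1 hu)).1])
  have hI := arith U k p q d (Nat.card Φ) (Nat.card G) hq hq1 (by omega)
    (fun u hu => (hk u ((hUmem u).1 hu)).2) hg hUc hineq'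
  have hΦpos : 0 < Nat.card Φ := Nat.card_pos
  have hn1 : (U.filter (fun u => k u + 1 = d)).Nonempty := by
    rw [← Finset.card_pos]
    by_contra h
    have h0 : (U.filter (fun u => k u + 1 = d)).card = 0 := by omega
    rw [h0, mul_zero] at hI
    have : 0 < p * Nat.card Φ := Nat.mul_pos hp0 hΦpos
    omega
  obtain ⟨x₁, hx₁⟩ := hn1
  rw [Finset.mem_filter, hUmem] at hx₁
  obtain ⟨hx₁M, hx₁k⟩ := hx₁
  have hfree : ∀ u, u ∉ M → k u + 1 = d → (K u).index * p = p ^ d := by
    intro u hu hku; rw [(hk u hu).1, ← pow_succ, hku]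
  set T : Set G := {u | u ∉ M ∧ d ≤ k u + 2} with hT
  by_cases hT2 : Φ ⊔ closure T = ⊤
  · -- Case A
    set D := Φ ⊔ zpowers x₁ with hD
    have hx₁Φ : x₁ ∉ Φ := fun h => hx₁M (hΦM h)
    have hrel := Cfsg.Agent.Lib.Helper9.VL.relIndex_sup_zpowers_of_pow_mem (p := p) Φ hcomm x₁
      hx₁Φ (hpow x₁)
    have hDidx : D.index = p ^ (d - 1) := by
      have h1 := Subgroup.relIndex_mul_index (le_sup_left : Φ ≤ D)
      rw [hrel, hd] at h1
      have : p ^ d = p * p ^ (d - 1) := by rw [← pow_succ']; congr 1; omega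
      rw [this] at h1
      exact Nat.eq_of_mul_eq_mul_left hp0 h1
    have hcommD : commutator G ≤ D := hcomm.trans le_sup_left
    have hpowD : ∀ x : G, x ^ p ∈ D := fun x => (le_sup_left : Φ ≤ D) (hpow x)
    have hTD : D ⊔ closure T = ⊤ := by
      rw [eq_top_iff, ← hT2]; exact sup_le_sup_right le_sup_left _
    obtain ⟨S, hSc, hST, -, hSgen⟩ := Cfsg.Agent.Lib.Helper9.VL.exists_finset_generating_top
      (p := p) D hcommD hpowD (d - 1) hDidx T hTD
    refine ⟨x₁, S, hx₁M, fun s hs => (hST hs).1, hSgen, hfree x₁ hx₁M hx₁k, hSc, ?_⟩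
    calc p ^ ((d - 1) * (d - 2)) = ∏ s ∈ S, p ^ (d - 2) := by
          rw [Finset.prod_const, hSc, ← pow_mul, mul_comm]
      _ ≤ ∏ s ∈ S, (K s).index := by
          apply Finset.prod_le_prod (fun _ _ => Nat.zero_le _)
          intro s hs
          have hsT := hST hs
          rw [(hk s hsT.1).1]
          exact Nat.pow_le_pow_right hp0 (by have := hsT.2; omega)
  · -- Case B
    set T₂ := Φ ⊔ closure T with hT₂
    have hx₁T : x₁ ∈ T := ⟨hx₁M, by omega⟩
    have hTT₂ : ∀ u ∈ T, u ∈ T₂ := fun u hu =>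
      (le_sup_right : closure T ≤ T₂) (subset_closure hu)
    have hT₂M : ¬ T₂ ≤ M := fun h => hx₁M (h (hTT₂ x₁ hx₁T))
    have hT₂i := card_mul_le_of_ne_top Φ d hd T₂ le_sup_left hT2
    set A : Finset G := Finset.univ.filter (fun u => u ∉ M ∧ u ∉ T₂) with hAdef
    have hA := card_compl_union_ge M hM T₂ hT₂M hT₂i q hq A (by simp [hAdef])
    have hAsub : A ⊆ U.filter (fun u => k u + 3 ≤ d) := by
      intro u hu
      simp only [hAdef, Finset.mem_filter, Finset.mem_univ, true_and] at hu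
      rw [Finset.mem_filter, hUmem]
      refine ⟨hu.1, ?_⟩
      by_contra hcon
      exact hu.2 (hTT₂ u ⟨hu.1, by omega⟩)
    have hn3 := Finset.card_le_card hAsub
    set F₁ : Set G := {u | u ∉ M ∧ k u + 1 = d} with hF₁
    set T₁ := Φ ⊔ closure F₁ with hT₁
    have hF₁T : F₁ ⊆ T := fun u hu => ⟨hu.1, by have := hu.2; omega⟩
    have hT₁T₂ : T₁ ≤ T₂ := sup_le_sup_left (closure_mono hF₁T) _
    have hT₁top : T₁ ≠ ⊤ := fun h => hT2 (top_le_iff.1 (h ▸ hT₁T₂))
    have hF₁T₁ : ∀ u ∈ F₁, u ∈ T₁ := fun u hu =>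
      (le_sup_right : closure F₁ ≤ T₁) (subset_closure hu)
    have hx₁F : x₁ ∈ F₁ := ⟨hx₁M, hx₁k⟩
    have hT₁M : ¬ T₁ ≤ M := fun h => hx₁M (h (hF₁T₁ x₁ hx₁F))
    have hT₁idx : T₁.index = p := by
      have h1 : T₁.index ∣ p ^ d := hd ▸ Subgroup.index_dvd_of_le le_sup_left
      obtain ⟨j, -, hj⟩ := (Nat.dvd_prime_pow hp.out).1 h1
      have hj0 : j ≠ 0 := by
        rintro rfl; rw [pow_zero] at hj; exact hT₁top (Subgroup.index_eq_one.1 hj)
      have hj2 : j < 2 := by
        by_contra hcon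
        push Not at hcon
        have h2 : Nat.card T₁ * p ^ 2 ≤ Nat.card G := by
          calc Nat.card T₁ * p ^ 2 ≤ Nat.card T₁ * p ^ j :=
                Nat.mul_le_mul_left _ (Nat.pow_le_pow_right hp0 hcon)
            _ = Nat.card G := by rw [← hj]; exact Subgroup.card_mul_index T₁
        have h3 := card_diff_mul M hM T₁ hT₁M
          (Finset.univ.filter (fun u => u ∈ T₁ ∧ u ∉ M)) (by simp)
        have h4 : (U.filter (fun u => k u + 1 = d)) ⊆
            Finset.univ.filter (fun u => u ∈ T₁ ∧ u ∉ M) := by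
          intro u hu
          rw [Finset.mem_filter, hUmem] at hu
          simp only [Finset.mem_filter, Finset.mem_univ, true_and]
          exact ⟨hF₁T₁ u hu, hu.1⟩
        have h5 := Finset.card_le_card h4
        set n₁ := (U.filter (fun u => k u + 1 = d)).card
        set n₃ := (U.filter (fun u => k u + 3 ≤ d)).card
        set c := (Finset.univ.filter (fun u => u ∈ T₁ ∧ u ∉ M)).card
        set t := Nat.card T₁
        set g := Nat.card G
        set f := Nat.card Φ
        have s1 : n₁ * p ≤ t * q := by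
          have : n₁ * p ≤ c * p := Nat.mul_le_mul_right _ h5
          rw [hq] at h3 this ⊢
          nlinarith
        have s2 : n₁ * p ^ 3 ≤ g * q := by
          calc n₁ * p ^ 3 = (n₁ * p) * p ^ 2 := by ring
            _ ≤ (t * q) * p ^ 2 := Nat.mul_le_mul_right _ s1
            _ = (t * p ^ 2) * q := by ring
            _ ≤ g * q := Nat.mul_le_mul_right _ h2
        have s3 : p ^ 2 * n₃ + p ^ 3 * f ≤ p ^ 3 * n₁ := by
          have := Nat.mul_le_mul_left (p ^ 2) hI
          calc p ^ 2 * n₃ + p ^ 3 * f = p ^ 2 * (n₃ + p * f) := by ring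
            _ ≤ p ^ 2 * (p * n₁) := this
            _ = p ^ 3 * n₁ := by ring
        have s4 : g * q ≤ p ^ 2 * n₃ := by
          calc g * q = g * q * 1 := (mul_one _).symm
            _ ≤ g * q * q := Nat.mul_le_mul_left _ hq1
            _ = g * q ^ 2 := by ring
            _ ≤ A.card * p ^ 2 := hA
            _ ≤ n₃ * p ^ 2 := Nat.mul_le_mul_right _ hn3
            _ = p ^ 2 * n₃ := by ring
        have s5 : 0 < p ^ 3 * f := Nat.mul_pos (pow_pos hp0 3) hΦpos
        have s6 : p ^ 3 * n₁ = n₁ * p ^ 3 := by ring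
        omega
      have hj1 : j = 1 := by omega
      rw [hj, hj1, pow_one]
    have hrelT₁ : Φ.relIndex T₁ = p ^ (d - 1) := by
      have h1 := Subgroup.relIndex_mul_index (le_sup_left : Φ ≤ T₁)
      rw [hT₁idx, hd] at h1
      have : p ^ d = p ^ (d - 1) * p := by rw [← pow_succ]; congr 1; omega
      rw [this] at h1
      exact Nat.eq_of_mul_eq_mul_right hp0 h1
    obtain ⟨S₁, hS₁c, hS₁F, -, hS₁gen⟩ :=
      Cfsg.Agent.Lib.Helper9.VL.exists_finset_subset_generating (p := p) Φ hcomm hpow T₁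
        le_sup_left (d - 1) hrelT₁ F₁ rfl
    have hS₁ne : S₁.Nonempty := by rw [← Finset.card_pos, hS₁c]; omega
    obtain ⟨x, hxS⟩ := hS₁ne
    have hT₁i := card_mul_le_of_ne_top Φ d hd T₁ le_sup_left hT₁top
    set A' : Finset G := Finset.univ.filter (fun u => u ∉ M ∧ u ∉ T₁) with hA'def
    have hA' := card_compl_union_ge M hM T₁ hT₁M hT₁i q hq A' (by simp [hA'def])
    have hA'ne : A'.Nonempty := by
      rw [← Finset.card_pos]
      by_contra h
      have h0 : A'.card = 0 := by omega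
      rw [h0, zero_mul] at hA'
      have : 0 < Nat.card G * q ^ 2 := Nat.mul_pos Nat.card_pos (pow_pos hq1 2)
      omega
    obtain ⟨y, hy⟩ := hA'ne
    simp only [hA'def, Finset.mem_filter, Finset.mem_univ, true_and] at hy
    obtain ⟨hyM, hyT₁⟩ := hy
    set S₀ := S₁.erase x with hS₀
    have hS₀F : ∀ s ∈ S₀, s ∈ F₁ := fun s hs => hS₁F (Finset.mem_of_mem_erase hs)
    have hyS₀ : y ∉ S₀ := fun h => hyT₁ (hF₁T₁ y (hS₀F y h))
    have hxF : x ∈ F₁ := hS₁F hxS
    refine ⟨x, insert y S₀, hxF.1, ?_, ?_, hfree x hxF.1 hxF.2, ?_, ?_⟩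
    · intro s hs
      rcases Finset.mem_insert.1 hs with rfl | hs
      · exact hyM
      · exact (hS₀F s hs).1
    · rw [Cfsg.Agent.Lib.Helper9.VL.coe_insert_closure]
      have h1 : Φ ⊔ zpowers x ⊔ closure (S₀ : Set G) = T₁ := by
        rw [← hS₁gen, sup_assoc, ← Cfsg.Agent.Lib.Helper9.VL.coe_insert_closure, hS₀,
          Finset.insert_erase hxS]
      have h2 : Φ ⊔ zpowers x ⊔ (zpowers y ⊔ closure (S₀ : Set G)) = T₁ ⊔ zpowers y := by
        rw [← h1]; ac_rfl
      rw [h2]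
      have h3 := Cfsg.Agent.Lib.Helper9.VL.relIndex_sup_zpowers_of_pow_mem (p := p) T₁
        (hcomm.trans le_sup_left) y hyT₁ ((le_sup_left : Φ ≤ T₁) (hpow y))
      have h4 := Subgroup.relIndex_mul_index (le_sup_left : T₁ ≤ T₁ ⊔ zpowers y)
      rw [h3, hT₁idx] at h4
      have h5 : (T₁ ⊔ zpowers y).index = 1 := by
        have : p * (T₁ ⊔ zpowers y).index = p * 1 := by rw [h4, mul_one]
        exact Nat.eq_of_mul_eq_mul_left hp0 this
      exact Subgroup.index_eq_one.1 h5
    · rw [Finset.card_insert_of_notMem hyS₀, hS₀, Finset.card_erase_of_mem hxS, hS₁c]; omega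
    · rw [Finset.prod_insert hyS₀]
      have h1 : ∏ s ∈ S₀, (K s).index = ∏ s ∈ S₀, p ^ (d - 1) :=
        Finset.prod_congr rfl (fun s hs => by
          have h := hS₀F s hs
          rw [(hk s h.1).1]; congr 1; have := h.2; omega)
      rw [h1, Finset.prod_const, hS₀, Finset.card_erase_of_mem hxS, hS₁c, ← pow_mul]
      have hd' : d - 1 - 1 = d - 2 := by omega
      rw [hd']
      have hy1 : 1 ≤ (K y).index := by
        rw [(hk y hyM).1]; exact Nat.one_le_pow _ _ hp0
      calc p ^ ((d - 1) * (d - 2)) = 1 * p ^ ((d - 1) * (d - 2)) := (one_mul _).symm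
        _ ≤ (K y).index * p ^ ((d - 1) * (d - 2)) := Nat.mul_le_mul_right _ hy1

end Cfsg.Agent.Lib.Helper5.VLStep4
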