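import Mathlib

/-!
# S3777 (Vaughan-Lee) infrastructure: "Tool R"

For `g : G`, `Rsub g` is the normal closure of the commutators `⁅x, g⁆`.  The image of `g` in
`G ⧸ Rsub g` is central, and passing to the quotient by a normal subgroup `N` lowers the class
size of `u` by a factor `p` as soon as some nontrivial commutator `⁅y, u⁆` lies in `N`.
-/

namespace Cfsg.Agent.Lib.Helper5.VLToolR

open Subgroup
open scoped commutatorElement

variable {G : Type*} [Group G]

/-- membership in the centralizer of a singleton -/
theorem mem_centralizer_singleton {u x : G} :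
    x ∈ centralizer ({u} : Set G) ↔ u * x = x * u := by
  simp [Subgroup.mem_centralizer_iff]

/-- The centralizer of `u` is contained in the preimage of the centralizer of its image. -/
theorem centralizer_le_comap (N : Subgroup G) [N.Normal] (u : G) :
    centralizer ({u} : Set G) ≤
      (centralizer ({(QuotientGroup.mk u : G ⧸ N)} : Set (G ⧸ N))).comap (QuotientGroup.mk' N) := by
  intro x hx
  rw [mem_centralizer_singleton] at hx
  rw [Subgroup.mem_comap, mem_centralizer_singleton]
  show (QuotientGroup.mk u : G ⧸ N) * QuotientGroup.mk x = QuotientGroup.mk x * QuotientGroup.mk u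
  rw [← QuotientGroup.mk_mul, ← QuotientGroup.mk_mul, hx]

/-- T1 (monotone form): class sizes do not grow in quotients. -/
theorem index_centralizer_quotient_le [Finite G] (N : Subgroup G) [N.Normal] (u : G) :
    (centralizer ({(QuotientGroup.mk u : G ⧸ N)} : Set (G ⧸ N))).index ≤
      (centralizer ({u} : Set G)).index := by
  have h1 : ((centralizer ({(QuotientGroup.mk u : G ⧸ N)} : Set (G ⧸ N))).comap
      (QuotientGroup.mk' N)).index =
      (centralizer ({(QuotientGroup.mk u : G ⧸ N)} : Set (G ⧸ N))).index :=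
    Subgroup.index_comap_of_surjective _ (QuotientGroup.mk'_surjective N)
  rw [← h1]
  exact Nat.le_of_dvd (Nat.pos_of_ne_zero (Subgroup.index_ne_zero_of_finite))
    (Subgroup.index_dvd_of_le (centralizer_le_comap N u))

/-- (R0) exact drop: if a nontrivial commutator `⁅y,u⁆` lies in `N`, the class size of `u`
drops by a factor `p` in `G ⧸ N`. -/
theorem drop_of_comm_mem [Finite G] {p : ℕ} [Fact p.Prime] (hG : IsPGroup p G)
    (N : Subgroup G) [N.Normal] (u y : G) (hy : ⁅y, u⁆ ∈ N) (hne : ⁅y, u⁆ ≠ 1) :
    (centralizer ({(QuotientGroup.mk u : G ⧸ N)} : Set (G ⧸ N))).index * p ≤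
      (centralizer ({u} : Set G)).index := by
  set C := centralizer ({u} : Set G) with hC
  set D := (centralizer ({(QuotientGroup.mk u : G ⧸ N)} : Set (G ⧸ N))).comap
    (QuotientGroup.mk' N) with hD
  have hDi : D.index = (centralizer ({(QuotientGroup.mk u : G ⧸ N)} : Set (G ⧸ N))).index :=
    Subgroup.index_comap_of_surjective _ (QuotientGroup.mk'_surjective N)
  have hCD : C ≤ D := centralizer_le_comap N u
  have hyD : y ∈ D := by
    rw [hD, Subgroup.mem_comap, mem_centralizer_singleton]
    show (QuotientGroup.mk u : G ⧸ N) * QuotientGroup.mk y = QuotientGroup.mk y * QuotientGroup.mk u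
    rw [← QuotientGroup.mk_mul, ← QuotientGroup.mk_mul]
    apply QuotientGroup.eq.mpr
    -- (u*y)⁻¹ * (y*u) ∈ N
    have : (u * y)⁻¹ * (y * u) = (u * y)⁻¹ * ⁅y, u⁆ * (u * y) := by
      simp [commutatorElement_def, mul_assoc]
    rw [this]
    have hn := (inferInstance : N.Normal).conj_mem _ hy (u * y)⁻¹
    simpa [mul_assoc] using hn
  have hyC : y ∉ C := by
    intro h
    rw [hC, mem_centralizer_singleton] at h
    apply hne
    rw [commutatorElement_def, ← h]
    simp [mul_assoc]
  have hrel : C.relIndex D * D.index = C.index := Subgroup.relIndex_mul_index hCD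
  -- relindex is a power of p, and not 1
  obtain ⟨n, hn⟩ : ∃ n, C.relIndex D = p ^ n := by
    have hDp : IsPGroup p D := hG.to_subgroup D
    have := hDp.index (C.subgroupOf D)
    simpa [Subgroup.relIndex] using this
  have hn0 : n ≠ 0 := by
    rintro rfl
    rw [pow_zero] at hn
    exact hyC ((Subgroup.relIndex_eq_one.mp hn) hyD)
  have hp : p ≤ C.relIndex D := by
    rw [hn]
    calc p = p ^ 1 := (pow_one p).symm
      _ ≤ p ^ n := Nat.pow_le_pow_right (Fact.out : p.Prime).pos (Nat.one_le_iff_ne_zero.mpr hn0)
  rw [← hDi, ← hrel, mul_comm]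
  exact Nat.mul_le_mul_right _ hp

/-- T5: multiplying by a central element does not change the centralizer. -/
theorem centralizer_central_mul {z v : G} (hz : z ∈ Subgroup.center G) :
    centralizer ({z * v} : Set G) = centralizer ({v} : Set G) := by
  ext x
  rw [mem_centralizer_singleton, mem_centralizer_singleton]
  have hzx : z * x = x * z := (Subgroup.mem_center_iff.mp hz x).symm
  constructor
  · intro h
    have : z * (v * x) = z * (x * v) := by
      calc z * (v * x) = z * v * x := (mul_assoc _ _ _).symm
        _ = x * (z * v) := h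
        _ = x * z * v := (mul_assoc _ _ _).symm
        _ = z * x * v := by rw [hzx]
        _ = z * (x * v) := mul_assoc _ _ _
    exact mul_left_cancel this
  · intro h
    calc z * v * x = z * (v * x) := mul_assoc _ _ _
      _ = z * (x * v) := by rw [h]
      _ = z * x * v := (mul_assoc _ _ _).symm
      _ = x * z * v := by rw [hzx]
      _ = x * (z * v) := mul_assoc _ _ _

/-- (R1) the subgroup `R_g = [G,g]`: normal closure of the commutators `⁅x,g⁆`. -/
def Rsub (g : G) : Subgroup G := Subgroup.normalClosure {c | ∃ x : G, c = ⁅x, g⁆}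

instance (g : G) : (Rsub g).Normal := by
  unfold Rsub; infer_instance

theorem comm_mem_Rsub (g x : G) : ⁅x, g⁆ ∈ Rsub g :=
  Subgroup.subset_normalClosure ⟨x, rfl⟩

theorem comm_mem_Rsub' (g x : G) : ⁅g, x⁆ ∈ Rsub g := by
  rw [← commutatorElement_inv]
  exact (Rsub g).inv_mem (comm_mem_Rsub g x)

theorem Rsub_le_commutator (g : G) : Rsub g ≤ commutator G := by
  unfold Rsub
  apply Subgroup.normalClosure_le_normal
  rintro c ⟨x, rfl⟩
  exact Subgroup.commutator_mem_commutator (Subgroup.mem_top x) (Subgroup.mem_top g)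

/-- the image of `g` is central modulo `Rsub g`. -/
theorem mk_mem_center (g : G) :
    (QuotientGroup.mk g : G ⧸ Rsub g) ∈ Subgroup.center (G ⧸ Rsub g) := by
  rw [Subgroup.mem_center_iff]
  intro q
  obtain ⟨x, rfl⟩ := QuotientGroup.mk_surjective q
  rw [← QuotientGroup.mk_mul, ← QuotientGroup.mk_mul]
  apply QuotientGroup.eq.mpr
  -- (x*g)⁻¹ * (g*x) ∈ Rsub g
  have h := comm_mem_Rsub' g x
  have hn := (inferInstance : (Rsub g).Normal).conj_mem _ h (x * g)⁻¹
  have : (x * g)⁻¹ * (g * x) = (x * g)⁻¹ * ⁅g, x⁆ * (x * g)⁻¹⁻¹ := by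
    simp [commutatorElement_def, mul_assoc]
  rw [this]
  exact hn

/-- (R3) translation: a bound for the classes of `G ⧸ Rsub g` outside `H ∪ M` holds outside `H`
(as `g ∈ H`, `g ∉ M` and `g` is central modulo `Rsub g`). -/
theorem bound_of_bound_off_union (M H : Subgroup G) (g : G) (hgM : g ∉ M) (hgH : g ∈ H)
    (c : ℕ)
    (hc : ∀ u, u ∉ H → u ∉ M →
      (centralizer ({(QuotientGroup.mk u : G ⧸ Rsub g)} : Set (G ⧸ Rsub g))).index ≤ c) :
    ∀ u, u ∉ H →
      (centralizer ({(QuotientGroup.mk u : G ⧸ Rsub g)} : Set (G ⧸ Rsub g))).index ≤ c := by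
  intro u huH
  by_cases huM : u ∈ M
  · have h1 : g * u ∉ M := fun h => hgM (by
      have := M.mul_mem h (M.inv_mem huM)
      simpa [mul_assoc] using this)
    have h2 : g * u ∉ H := fun h => huH (by
      have := H.mul_mem (H.inv_mem hgH) h
      simpa [mul_assoc] using this)
    have h3 := hc (g * u) h2 h1
    rw [QuotientGroup.mk_mul, centralizer_central_mul (mk_mem_center g)] at h3
    exact h3
  · exact hc u huH huM

/-- (R2) Tool R: if all classes outside `M` have size `≤ p^b`, `g ∉ M` and `H ≥ C_G(g)`, then all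
classes of `G ⧸ Rsub g` outside `H` have size `≤ p^(b-1)` (stated multiplicatively). -/
theorem toolR [Finite G] {p : ℕ} [Fact p.Prime] (hG : IsPGroup p G) (M : Subgroup G) (b : ℕ)
    (hb : ∀ u, u ∉ M → (centralizer ({u} : Set G)).index ≤ p ^ b) (g : G) (hgM : g ∉ M)
    (H : Subgroup G) (hgH : centralizer ({g} : Set G) ≤ H) :
    ∀ u, u ∉ H →
      (centralizer ({(QuotientGroup.mk u : G ⧸ Rsub g)} : Set (G ⧸ Rsub g))).index * p ≤ p ^ b := by
  have hg : g ∈ H := hgH (by rw [mem_centralizer_singleton])
  have key : ∀ u, u ∉ H → u ∉ M →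
      (centralizer ({(QuotientGroup.mk u : G ⧸ Rsub g)} : Set (G ⧸ Rsub g))).index ≤ p ^ b / p := by
    intro u huH huM
    have hne : ⁅g, u⁆ ≠ 1 := by
      intro h
      apply huH
      apply hgH
      rw [mem_centralizer_singleton]
      have := commutatorElement_eq_one_iff_mul_comm.mp h
      exact this
    have := drop_of_comm_mem hG (Rsub g) u g (comm_mem_Rsub' g u) hne
    exact (Nat.le_div_iff_mul_le (Fact.out : p.Prime).pos).mpr (this.trans (hb u huM))
  intro u huH
  have := bound_of_bound_off_union M H g hgM hg _ key u huH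
  exact (Nat.le_div_iff_mul_le (Fact.out : p.Prime).pos).mp this

/-- (R4) cardinality of the derived subgroup through a normal subgroup `N ≤ G'`. -/
theorem card_map_mk_mul [Finite G] (N : Subgroup G) [N.Normal] (K : Subgroup G) (hN : N ≤ K) :
    Nat.card K = Nat.card N * Nat.card (K.map (QuotientGroup.mk' N)) := by
  have hker : (QuotientGroup.mk' N).ker ≤ K := by rw [QuotientGroup.ker_mk']; exact hN
  have hidx : (K.map (QuotientGroup.mk' N)).index = K.index :=
    Subgroup.index_map_eq K (QuotientGroup.mk'_surjective N) hker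
  have h1 : Nat.card G = Nat.card (G ⧸ N) * Nat.card N :=
    Subgroup.card_eq_card_quotient_mul_card_subgroup N
  have h2 : Nat.card K * K.index = Nat.card G := Subgroup.card_mul_index K
  have h3 : Nat.card (K.map (QuotientGroup.mk' N)) * (K.map (QuotientGroup.mk' N)).index =
      Nat.card (G ⧸ N) := Subgroup.card_mul_index _
  have hpos : 0 < K.index := Nat.pos_of_ne_zero Subgroup.index_ne_zero_of_finite
  apply Nat.eq_of_mul_eq_mul_right hpos
  rw [h2, h1, ← h3, hidx]
  ring

theorem commutator_quotient_eq_map (N : Subgroup G) [N.Normal] :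
    commutator (G ⧸ N) = (commutator G).map (QuotientGroup.mk' N) := by
  rw [commutator_def, commutator_def, Subgroup.map_commutator,
    Subgroup.map_top_of_surjective _ (QuotientGroup.mk'_surjective N)]

theorem card_commutator_eq [Finite G] (N : Subgroup G) [N.Normal] (hN : N ≤ commutator G) :
    Nat.card (commutator G) = Nat.card N * Nat.card (commutator (G ⧸ N)) := by
  rw [commutator_quotient_eq_map N]
  exact card_map_mk_mul N (commutator G) hN

/-- (R5) the counting step of the R-route. -/
theorem card_commutator_le_of_quotient [Finite G] (g : G) (A : ℕ)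
    (hA : Nat.card (commutator (G ⧸ Rsub g)) ≤ A) :
    Nat.card (commutator G) ≤ Nat.card (Rsub g) * A := by
  rw [card_commutator_eq (Rsub g) (Rsub_le_commutator g)]
  exact Nat.mul_le_mul_left _ hA

end Cfsg.Agent.Lib.Helper5.VLToolR
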