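import Mathlib
import Cfsg.Agent.Lib.Helper5.WrH20

set_option autoImplicit false

namespace Cfsg.Agent.Lib.Helper5.WrH

open Equiv Cfsg.Agent.Lib.Helper5.WrP Cfsg.Agent.Lib.Helper5.SylSym

/-- any two points are swapped by an element of the subgroup -/
def SwapP {α : Type*} (H : Subgroup (Perm α)) : Prop :=
  ∀ i l : α, i ≠ l → ∃ t ∈ H, t i = l ∧ t l = i

theorem swapP_W {β : Type*} [DecidableEq β] {T : Subgroup (Perm β)} (hT : SwapP T) :
    SwapP (W (p := 2) T) := by
  rintro ⟨b, z⟩ ⟨b', z'⟩ hne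
  by_cases hb : b = b'
  · subst hb
    have hz : z ≠ z' := fun h => hne (by rw [h])
    have h2 : ∀ z z' : ZMod 2, z ≠ z' → z' = z + 1 ∧ z = z' + 1 := by decide
    obtain ⟨e1, e2⟩ := h2 z z' hz
    refine ⟨bHom 2 β (fun _ => Multiplicative.ofAdd 1) * tHom 2 β 1, ⟨_, 1, T.one_mem, rfl⟩, ?_, ?_⟩
    · rw [bt_apply]
      simp only [Perm.one_apply, toAdd_ofAdd]
      rw [← e1]
    · rw [bt_apply]
      simp only [Perm.one_apply, toAdd_ofAdd]
      rw [← e2]
  · obtain ⟨t, ht, htb, htb'⟩ := hT b b' hb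
    refine ⟨bHom 2 β (fun c => if c = b' then Multiplicative.ofAdd (z' - z)
      else Multiplicative.ofAdd (z - z')) * tHom 2 β t, ⟨_, t, ht, rfl⟩, ?_, ?_⟩
    · rw [bt_apply]
      simp only [htb, if_true, toAdd_ofAdd]
      rw [add_sub_cancel]
    · rw [bt_apply]
      simp only [htb', if_neg hb, toAdd_ofAdd]
      rw [add_sub_cancel]

theorem embHom_apply (p : ℕ) [NeZero p] (m n₀ n : ℕ) (h : m * p + n₀ = n) :
    ∃ e : (Fin m × ZMod p) ⊕ Fin n₀ ≃ Fin n, ∀ (σ : Perm (Fin m × ZMod p)) (x : Fin n),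
      embHom p m n₀ n h σ x = e (Sum.map σ id (e.symm x)) :=
  ⟨_, fun _ _ => rfl⟩

theorem swapP_map_embHom (m n : ℕ) (h : m * 2 + 0 = n) {H : Subgroup (Perm (Fin m × ZMod 2))}
    (hH : SwapP H) : SwapP (H.map (embHom 2 m 0 n h)) := by
  obtain ⟨e, he⟩ := embHom_apply 2 m 0 n h
  intro i l hil
  rcases hi : e.symm i with a | c
  · rcases hl : e.symm l with a' | c'
    · have haa : a ≠ a' := by
        rintro rfl
        apply hil
        apply e.symm.injective
        rw [hi, hl]
      obtain ⟨σ, hσ, h1, h2⟩ := hH a a' haa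
      refine ⟨_, ⟨σ, hσ, rfl⟩, ?_, ?_⟩
      · rw [he, hi, Sum.map_inl, h1, ← hl, Equiv.apply_symm_apply]
      · rw [he, hl, Sum.map_inl, h2, ← hi, Equiv.apply_symm_apply]
    · exact c'.elim0
  · exact c.elim0

/-- a Sylow `2`-subgroup of the symmetric group of `2`-power degree swapping any two points -/
theorem exists_sylow_swap :
    ∀ n : ℕ, (∃ j : ℕ, n = 2 ^ j) → ∃ P : Sylow 2 (Perm (Fin n)), SwapP (P : Subgroup (Perm (Fin n))) := by
  haveI : Fact (Nat.Prime 2) := ⟨Nat.prime_two⟩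
  have hp : (2 : ℕ).Prime := Nat.prime_two
  intro n
  induction n using Nat.strong_induction_on with
  | _ n ih =>
    rintro ⟨j, hj⟩
    by_cases hm : n / 2 = 0
    · obtain ⟨P⟩ : Nonempty (Sylow 2 (Perm (Fin n))) := inferInstance
      refine ⟨P, ?_⟩
      have hn1 : n ≤ 1 := by omega
      intro i l hil
      exfalso
      apply hil
      apply Fin.ext
      have := i.2
      have := l.2
      omega
    · have hj0 : j ≠ 0 := by
        rintro rfl
        rw [pow_zero] at hj
        rw [hj] at hm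
        exact hm (by norm_num)
      obtain ⟨j', rfl⟩ : ∃ j', j = j' + 1 := ⟨j - 1, by omega⟩
      have hdiv : n / 2 = 2 ^ j' := by
        rw [hj, pow_succ, Nat.mul_div_cancel _ (by norm_num)]
      have hmod : n % 2 = 0 := by
        rw [hj, pow_succ, Nat.mul_mod_left]
      have hlt : n / 2 < n := by omega
      obtain ⟨T, hT⟩ := ih (n / 2) hlt ⟨j', hdiv⟩
      have hn : n / 2 * 2 + 0 = n := by omega
      set Φ := embHom 2 (n / 2) 0 n hn with hΦ
      have hcard : Nat.card ((W (p := 2) (T : Subgroup (Perm (Fin (n / 2))))).map Φ) =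
          2 ^ (Nat.card (Perm (Fin n))).factorization 2 := by
        rw [Subgroup.card_map_of_injective (embHom_injective 2 _ _ n hn), card_W,
          card_sylow_perm 2 _ T, Fintype.card_fin, Nat.card_perm, Nat.card_eq_fintype_card,
          Fintype.card_fin, Nat.factorization_def _ hp, padicVal_step 2 n, ← pow_add, add_comm]
      refine ⟨Sylow.ofCard _ hcard, ?_⟩
      exact swapP_map_embHom (n / 2) n hn (swapP_W hT)

end Cfsg.Agent.Lib.Helper5.WrH
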