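import Mathlib
import Cfsg.Agent.Lib.Helper5.WrH21

set_option autoImplicit false

universe u

namespace Cfsg.Agent.Lib.Helper5.WrH

open Equiv Cfsg.Agent.Lib.Helper5.WrP Cfsg.Agent.Lib.Helper5.WrG Cfsg.Agent.Lib.Helper5.SylSym
open scoped commutatorElement

section gl2

variable {F : Type*} [Field F]

theorem det_coe_of_mem_tor {c : GL (Fin 2) F} (hc : c ∈ tor F) :
    ((Matrix.GeneralLinearGroup.det c : Fˣ) : F) = c.1 0 0 ^ 2 + c.1 1 0 ^ 2 := by
  rw [Matrix.GeneralLinearGroup.val_det_apply, det_of_mem hc]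

theorem det_sg : Matrix.GeneralLinearGroup.det (sg F) = -1 := by
  apply Units.ext
  rw [Matrix.GeneralLinearGroup.val_det_apply, sg_coe, Matrix.det_fin_two_of]
  simp

theorem norm_of_det_one {c : GL (Fin 2) F} (hc : c ∈ tor F)
    (h : Matrix.GeneralLinearGroup.det c = 1) : c.1 0 0 ^ 2 + c.1 1 0 ^ 2 = 1 := by
  rw [← det_coe_of_mem_tor hc, h, Units.val_one]

theorem norm_of_det_neg_one {c : GL (Fin 2) F} (hc : c ∈ tor F)
    (h : Matrix.GeneralLinearGroup.det c = -1) : c.1 0 0 ^ 2 + c.1 1 0 ^ 2 = -1 := by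
  rw [← det_coe_of_mem_tor hc, h, Units.val_neg, Units.val_one]

/-- a `2`-element of the torus of norm `-1` -/
theorem exists_torTwo_det_neg_one [Fintype F] (hq : Odd (Fintype.card F)) :
    ∃ c ∈ torTwo F, Matrix.GeneralLinearGroup.det c = -1 := by
  obtain ⟨M, hM⟩ := torDet_surjective hq (-1 : Fˣ)
  have hM' : Matrix.GeneralLinearGroup.det (M : GL (Fin 2) F) = -1 := hM
  have hpos : 0 < orderOf (M : GL (Fin 2) F) := orderOf_pos _
  set N := orderOf (M : GL (Fin 2) F) with hN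
  set s := ordCompl[2] N with hs
  have hs_odd : Odd s := by
    rw [← Nat.not_even_iff_odd, even_iff_two_dvd]
    exact Nat.not_dvd_ordCompl Nat.prime_two hpos.ne'
  refine ⟨(M : GL (Fin 2) F) ^ s, ⟨(tor F).pow_mem M.2 s, N.factorization 2, ?_⟩, ?_⟩
  · rw [← pow_mul, mul_comm, Nat.ordProj_mul_ordCompl_eq_self, hN, pow_orderOf_eq_one]
  · rw [map_pow, hM', hs_odd.neg_one_pow]

/-- squares in the Sylow `2`-subgroup of `SL₂(q)` inside `GL₂(q)` lie in its derived subgroup -/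
theorem sqDer_glTwo_ker [Fintype F] (hq : Odd (Fintype.card F)) :
    SqDer (glTwo F ⊓ (Matrix.GeneralLinearGroup.det (n := Fin 2) (R := F)).ker) := by
  set Q' := glTwo F ⊓ (Matrix.GeneralLinearGroup.det (n := Fin 2) (R := F)).ker with hQ'
  obtain ⟨c₀, hc₀, hc₀d⟩ := exists_torTwo_det_neg_one hq
  have hw₀ : c₀ * sg F ∈ Q' := by
    refine ⟨Or.inr ?_, ?_⟩
    · rw [mul_assoc, sg_mul_self, mul_one]
      exact hc₀
    · show Matrix.GeneralLinearGroup.det (c₀ * sg F) = 1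
      rw [map_mul, hc₀d, det_sg]
      simp
  have step2 : ∀ c ∈ torTwo F, Matrix.GeneralLinearGroup.det c = 1 → c ^ 2 ∈ ⁅Q', Q'⁆ := by
    intro c hc hcd
    have hcQ : c ∈ Q' := ⟨torTwo_le_glTwo hc, hcd⟩
    have e1 : sg F * c * (sg F)⁻¹ = c⁻¹ := by
      rw [eq_inv_iff_mul_eq_one, ← tor_mul_conj_of_det_one (torTwo_le hc)
        (norm_of_det_one (torTwo_le hc) hcd)]
      exact tor_comm (sg_conj_mem (torTwo_le hc)) (torTwo_le hc)
    have h1 := Subgroup.commutator_mem_commutator hw₀ hcQ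
    have e2 : ⁅c₀ * sg F, c⁆ = c⁻¹ * c⁻¹ := by
      rw [commutatorElement_def, mul_inv_rev]
      have hcm : c₀ * c⁻¹ = c⁻¹ * c₀ := tor_comm (torTwo_le hc₀) ((tor F).inv_mem (torTwo_le hc))
      calc c₀ * sg F * c * ((sg F)⁻¹ * c₀⁻¹) * c⁻¹
          = c₀ * (sg F * c * (sg F)⁻¹) * c₀⁻¹ * c⁻¹ := by group
        _ = (c₀ * c⁻¹) * c₀⁻¹ * c⁻¹ := by rw [e1]
        _ = c⁻¹ * c⁻¹ := by rw [hcm]; group
    rw [e2] at h1
    have h2 := Subgroup.inv_mem _ h1
    have : (c⁻¹ * c⁻¹)⁻¹ = c ^ 2 := by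
      rw [pow_two, mul_inv_rev, inv_inv]
    rwa [this] at h2
  have hrr : Matrix.GeneralLinearGroup.det (rr F) = 1 := by
    apply Units.ext
    rw [det_coe_of_mem_tor rr_mem_tor]
    simp [rr, tel_coe]
  have step3 : rr F * rr F ∈ ⁅Q', Q'⁆ := by
    have := step2 (rr F) rr_mem_torTwo hrr
    rwa [pow_two] at this
  intro x hx
  obtain ⟨hxg, hxd⟩ := hx
  have hxd' : Matrix.GeneralLinearGroup.det x = 1 := hxd
  rcases hxg with hx | hx
  · exact step2 x hx hxd'
  · have hd : Matrix.GeneralLinearGroup.det (x * sg F) = -1 := by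
      rw [map_mul, hxd', det_sg, one_mul]
    have e : x ^ 2 = (x * sg F) * (sg F * (x * sg F) * (sg F)⁻¹) := by
      rw [sg_inv, pow_two]
      calc x * x = x * 1 * x * 1 := by group
        _ = x * (sg F * sg F) * x * (sg F * sg F) := by rw [sg_mul_self]
        _ = _ := by group
    rw [e, tor_mul_conj_of_det_neg_one (torTwo_le hx) (norm_of_det_neg_one (torTwo_le hx) hd)]
    exact step3

end gl2

section general

variable {G : Type*} [Group G]

theorem prodSub_bot_right {H Z : Subgroup G} {hc : ∀ x ∈ H, ∀ z ∈ Z, x * z = z * x}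
    (hZ : Z = ⊥) : prodSub H Z hc = H := by
  apply le_antisymm
  · rintro _ ⟨x, hx, z, hz, rfl⟩
    rw [hZ, Subgroup.mem_bot] at hz
    rw [hz, mul_one]
    exact hx
  · exact le_prodSub_left

end general

/-- reduction of the square property for Sylow `2`-subgroups of `SL_n` to one of `GL_n` -/
theorem sylow_sl_sqDer_of_gl {F : Type u} [Field F] [Fintype F] (n : ℕ)
    (P₀ : Sylow 2 (GL (Fin n) F))
    (h : SqDer ((P₀ : Subgroup (GL (Fin n) F)) ⊓
      (Matrix.GeneralLinearGroup.det (n := Fin n) (R := F)).ker))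
    (P : Sylow 2 (Matrix.SpecialLinearGroup (Fin n) F)) :
    SqDer (P : Subgroup (Matrix.SpecialLinearGroup (Fin n) F)) := by
  classical
  haveI : Fact (Nat.Prime 2) := ⟨Nat.prime_two⟩
  have hinj : Function.Injective
      (Matrix.SpecialLinearGroup.toGL : Matrix.SpecialLinearGroup (Fin n) F →* GL (Fin n) F) := by
    intro x y h
    apply Subtype.ext
    exact congrArg (fun g : GL (Fin n) F => (g : Matrix (Fin n) (Fin n) F)) h
  obtain ⟨S, hS⟩ := sylow_sl_map n P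
  obtain ⟨g, hg⟩ := sylow_conj P₀ S
  apply sqDer_of_map_injective hinj
  rw [hS]
  have hconj : (S : Subgroup (GL (Fin n) F)) ⊓
      (Matrix.GeneralLinearGroup.det (n := Fin n) (R := F)).ker =
      ((P₀ : Subgroup (GL (Fin n) F)) ⊓
        (Matrix.GeneralLinearGroup.det (n := Fin n) (R := F)).ker).map
        (MulAut.conj g).toMonoidHom := by
    rw [hg]
    ext x
    constructor
    · rintro ⟨⟨y, hy, rfl⟩, hk⟩
      refine ⟨y, ⟨hy, ?_⟩, rfl⟩
      have hk' : Matrix.GeneralLinearGroup.det (g * y * g⁻¹) = 1 := hk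
      show Matrix.GeneralLinearGroup.det y = 1
      rw [map_mul, map_mul, map_inv, mul_comm, ← mul_assoc, inv_mul_cancel, one_mul] at hk'
      exact hk'
    · rintro ⟨y, ⟨hy, hk⟩, rfl⟩
      refine ⟨⟨y, hy, rfl⟩, ?_⟩
      have hk' : Matrix.GeneralLinearGroup.det y = 1 := hk
      show Matrix.GeneralLinearGroup.det (g * y * g⁻¹) = 1
      rw [map_mul, map_mul, map_inv, hk', mul_one, mul_inv_cancel]
  rw [hconj]
  exact h.map _

/-- squares in a Sylow `2`-subgroup of `SL_{2m}(q)` lie in the derived subgroup when `q ≡ 3 mod 4`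
or `m` is a power of `2` -/
theorem sylow2_sl_even_sqDer {F : Type u} [Field F] [Fintype F] (hq : Odd (Fintype.card F))
    (m : ℕ) (h4 : 4 ∣ Fintype.card F + 1 ∨ ∃ j : ℕ, m = 2 ^ j)
    (P : Sylow 2 (Matrix.SpecialLinearGroup (Fin (2 * m)) F)) :
    SqDer (P : Subgroup (Matrix.SpecialLinearGroup (Fin (2 * m)) F)) := by
  classical
  haveI : Fact (Nat.Prime 2) := ⟨Nat.prime_two⟩
  haveI : IsEmpty (Fin (2 * m % 2)) := by
    rw [Nat.mul_mod_right]
    infer_instance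
  have hdiv : 2 * m / 2 = m := Nat.mul_div_cancel_left m (by norm_num)
  -- choice of the Sylow subgroup of the symmetric group
  obtain ⟨T, hTgood⟩ : ∃ T : Sylow 2 (Perm (Fin (2 * m / 2))),
      (∀ u : Fˣ, (∃ k : ℕ, u ^ 2 ^ k = 1) → u * u = 1) ∨
        SwapP (T : Subgroup (Perm (Fin (2 * m / 2)))) := by
    rcases h4 with h4 | ⟨j, hj⟩
    · obtain ⟨T⟩ : Nonempty (Sylow 2 (Perm (Fin (2 * m / 2)))) := inferInstance
      exact ⟨T, Or.inl (units_two_sq hq h4)⟩
    · obtain ⟨T, hT⟩ := exists_sylow_swap (2 * m / 2) ⟨j, by rw [hdiv, hj]⟩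
      exact ⟨T, Or.inr hT⟩
  obtain ⟨D₁, D₂, hcomm, hdisj, hdet1, hdet2, hc, P₀, hP₀⟩ := exists_sylow2_gl_det hq (2 * m) T
  apply sylow_sl_sqDer_of_gl (2 * m) P₀ _ P
  rw [hP₀, prodSub_bot_right (W_eq_bot_of_isEmpty D₂ _ _)]
  have hT : SqDer (T : Subgroup (Perm (Fin (2 * m / 2)))) := sqDer_of_GenP (sylow_GenP 2 _ T)
  apply sqDer_W_ker D₁ (Matrix.GeneralLinearGroup.det (n := Fin 2) (R := F))
    (Matrix.GeneralLinearGroup.det (n := Fin (2 * m)) (R := F)) hdet1 (sqDer_glTwo_ker hq) hT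
  intro v hv
  rcases hTgood with hU | hswap
  · have hvd := det_glTwo_mem hq hv
    have h1 := hU _ hvd.2
    have h2 : ((Matrix.GeneralLinearGroup.det v : Fˣ) : F) * ((Matrix.GeneralLinearGroup.det v : Fˣ) : F) = 1 := by
      have := congrArg (fun u : Fˣ => (u : F)) h1
      simpa using this
    rcases mul_self_eq_one_iff.1 h2 with h3 | h3
    · refine ⟨1, ⟨(glTwo F).one_mem, Or.inl (one_mul 1)⟩, ?_⟩
      rw [map_one]
      exact Units.ext h3
    · refine ⟨sg F, ⟨sg_mem_glTwo, Or.inl sg_mul_self⟩, ?_⟩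
      rw [det_sg]
      exact Units.ext (by simpa using h3)
  · exact ⟨v, ⟨hv, Or.inr hswap⟩, rfl⟩

end Cfsg.Agent.Lib.Helper5.WrH
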